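import Groth.Agent.Lib.Helper3.QcohStalk
import Groth.Prelude.Def_CurvBase
import Mathlib.RingTheory.Ideal.AssociatedPrime.Localization

/-!
# Associated points of quasi-coherent modules on affine charts

For `F` quasi-coherent on `X`, `U` affine open, `x ∈ U` with prime `p = p_x ⊆ A = Γ(X,U)` and
`M = Γ(F,U)`:
* `exists_smul_eq_germ` : every element of `F_x` is `germ(c)⁻¹ • germ(m)`;
* `germ_eq_zero_iff` : `germ m = 0 ↔ ∃ c ∉ p, c • m = 0`;
* `isAssPoint_of_mem_associatedPrimes`, `mem_associatedPrimes_of_isAssPoint` (the latter for `p` f.g.);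
* `subsingleton_stalk_iff`.
-/

set_option autoImplicit false
universe u
open CategoryTheory CategoryTheory.Limits AlgebraicGeometry TopologicalSpace

namespace Groth.Agent.Lib.Helper3.QS

variable {X : Scheme.{u}} {U : X.Opens} (hU : IsAffineOpen U) (F : X.Modules) [F.IsQuasicoherent]
  (x : X) (hx : x ∈ U)

/-- The bundle of instances: `Γ(X,U)`-module structure on `F_x`, scalar tower, and the localized
module property of the germ map. -/
theorem exists_isLocalizedModule :
    ∃ (_ : Algebra Γ(X, U) (X.presheaf.stalk x)) (_ : Module Γ(X, U) (F.presheaf.stalk x))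
      (_ : IsScalarTower Γ(X, U) (X.presheaf.stalk x) (F.presheaf.stalk x))
      (_ : IsLocalization.AtPrime (X.presheaf.stalk x) (hU.primeIdealOf ⟨x, hx⟩).asIdeal)
      (g : Γ(F, U) →ₗ[Γ(X, U)] F.presheaf.stalk x),
      (∀ r : Γ(X, U), algebraMap Γ(X, U) (X.presheaf.stalk x) r = X.presheaf.germ U x hx r) ∧
      (∀ m, g m = F.presheaf.germ U x hx m) ∧
      IsLocalizedModule (hU.primeIdealOf ⟨x, hx⟩).asIdeal.primeCompl g := by
  let i1 : Algebra Γ(X, U) (X.presheaf.stalk x) :=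
    TopCat.Presheaf.algebra_section_stalk X.presheaf (U := U) ⟨x, hx⟩
  let i2 : Module Γ(X, U) (F.presheaf.stalk x) :=
    Module.compHom _ (algebraMap Γ(X, U) (X.presheaf.stalk x))
  have i3 : IsScalarTower Γ(X, U) (X.presheaf.stalk x) (F.presheaf.stalk x) :=
    IsScalarTower.of_algebraMap_smul fun r y => rfl
  have i4 : IsLocalization.AtPrime (X.presheaf.stalk x) (hU.primeIdealOf ⟨x, hx⟩).asIdeal :=
    hU.isLocalization_stalk ⟨x, hx⟩
  let g : Γ(F, U) →ₗ[Γ(X, U)] F.presheaf.stalk x :=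
    { toFun := F.presheaf.germ U x hx
      map_add' := map_add _
      map_smul' := fun r m => germ_smul F x hx r m }
  exact ⟨i1, i2, i3, i4, g, fun r => rfl, fun m => rfl,
    isLocalizedModule_germ hU F x hx (fun r y => rfl) g (fun m => rfl)⟩

theorem exists_smul_eq_germ (y : F.presheaf.stalk x) :
    ∃ (c : Γ(X, U)) (m : Γ(F, U)), c ∉ (hU.primeIdealOf ⟨x, hx⟩).asIdeal ∧
      X.presheaf.germ U x hx c • y = F.presheaf.germ U x hx m := by
  obtain ⟨i1, i2, i3, i4, g, h1, h2, h3⟩ := exists_isLocalizedModule hU F x hx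
  obtain ⟨⟨m, c⟩, hmc⟩ := h3.2 y
  refine ⟨c.1, m, c.2, ?_⟩
  rw [← h2, ← hmc, ← h1, algebraMap_smul]
  rfl

theorem germ_eq_zero_iff (m : Γ(F, U)) :
    F.presheaf.germ U x hx m = 0 ↔ ∃ c : Γ(X, U), c ∉ (hU.primeIdealOf ⟨x, hx⟩).asIdeal ∧ c • m = 0 := by
  obtain ⟨i1, i2, i3, i4, g, h1, h2, h3⟩ := exists_isLocalizedModule hU F x hx
  rw [← h2, IsLocalizedModule.eq_zero_iff (hU.primeIdealOf ⟨x, hx⟩).asIdeal.primeCompl g]
  constructor
  · rintro ⟨c, hc⟩; exact ⟨c.1, c.2, hc⟩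
  · rintro ⟨c, hc, hcm⟩; exact ⟨⟨c, hc⟩, hcm⟩

theorem subsingleton_stalk_iff :
    Subsingleton (F.presheaf.stalk x) ↔
      ∀ m : Γ(F, U), ∃ c : Γ(X, U), c ∉ (hU.primeIdealOf ⟨x, hx⟩).asIdeal ∧ c • m = 0 := by
  constructor
  · intro h m
    exact (germ_eq_zero_iff hU F x hx m).mp (Subsingleton.elim _ _)
  · intro h
    refine ⟨fun y y' => ?_⟩
    suffices ∀ z : F.presheaf.stalk x, z = 0 by rw [this y, this y']
    intro z
    obtain ⟨c, m, hc, hcm⟩ := exists_smul_eq_germ hU F x hx z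
    have hm : F.presheaf.germ U x hx m = 0 := (germ_eq_zero_iff hU F x hx m).mpr (h m)
    rw [hm] at hcm
    have hu : IsUnit (X.presheaf.germ U x hx c) :=
      (Scheme.mem_basicOpen X c x hx).mp ((mem_basicOpen_iff_notMem_primeIdealOf hU x hx c).mpr hc)
    have := congrArg (fun w => (hu.unit⁻¹ : (X.presheaf.stalk x)ˣ).1 • w) hcm
    simpa [smul_smul] using this

theorem isAssPoint_of_mem_associatedPrimes
    (h : (hU.primeIdealOf ⟨x, hx⟩).asIdeal ∈ associatedPrimes Γ(X, U) Γ(F, U)) :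
    Curv2.IsAssPoint F x := by
  obtain ⟨i1, i2, i3, i4, g, h1, h2, h3⟩ := exists_isLocalizedModule hU F x hx
  unfold Curv2.IsAssPoint
  refine Module.associatedPrimes.mem_associatedPrimes_of_comap_mem_associatedPrimes_of_isLocalizedModule
    (hU.primeIdealOf ⟨x, hx⟩).asIdeal.primeCompl g _ ?_
  have hcomap : Ideal.comap (algebraMap Γ(X, U) (X.presheaf.stalk x))
      (IsLocalRing.maximalIdeal (X.presheaf.stalk x)) = (hU.primeIdealOf ⟨x, hx⟩).asIdeal :=
    IsLocalization.AtPrime.under_maximalIdeal (X.presheaf.stalk x)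
      (hU.primeIdealOf ⟨x, hx⟩).asIdeal
  rw [hcomap]
  exact h

theorem mem_associatedPrimes_of_isAssPoint (hfg : (hU.primeIdealOf ⟨x, hx⟩).asIdeal.FG)
    (h : Curv2.IsAssPoint F x) :
    (hU.primeIdealOf ⟨x, hx⟩).asIdeal ∈ associatedPrimes Γ(X, U) Γ(F, U) := by
  obtain ⟨i1, i2, i3, i4, g, h1, h2, h3⟩ := exists_isLocalizedModule hU F x hx
  have hcomap : Ideal.comap (algebraMap Γ(X, U) (X.presheaf.stalk x))
      (IsLocalRing.maximalIdeal (X.presheaf.stalk x)) = (hU.primeIdealOf ⟨x, hx⟩).asIdeal :=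
    IsLocalization.AtPrime.under_maximalIdeal (X.presheaf.stalk x)
      (hU.primeIdealOf ⟨x, hx⟩).asIdeal
  have := Module.associatedPrimes.comap_mem_associatedPrimes_of_mem_associatedPrimes_of_isLocalizedModule_of_fg
    (hU.primeIdealOf ⟨x, hx⟩).asIdeal.primeCompl g _ h (by rw [hcomap]; exact hfg)
  rw [hcomap] at this
  exact this

section zero

variable {X : Scheme.{u}}

/-- The point of an affine open corresponding to a prime of its ring of sections. -/
theorem exists_point_of_prime {U : X.Opens} (hU : IsAffineOpen U) (p : Ideal Γ(X, U)) [hp : p.IsPrime] :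
    ∃ (z : X) (hz : z ∈ U), (hU.primeIdealOf ⟨z, hz⟩).asIdeal = p := by
  let q : PrimeSpectrum Γ(X, U) := ⟨p, hp⟩
  have hzU : hU.fromSpec q ∈ U := by
    have : hU.fromSpec q ∈ Set.range hU.fromSpec := ⟨q, rfl⟩
    rw [hU.range_fromSpec] at this
    exact this
  have hzq : hU.primeIdealOf ⟨hU.fromSpec q, hzU⟩ = q := by
    apply hU.fromSpec.isOpenEmbedding.injective
    rw [hU.fromSpec_primeIdealOf ⟨hU.fromSpec q, hzU⟩]
  exact ⟨hU.fromSpec q, hzU, by rw [hzq]⟩

/-- sections of a zero module vanish -/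
theorem section_eq_zero_of_isZero (F : X.Modules) (hF : IsZero F) (V : X.Opens)
    (m : Γ(F, V)) : m = 0 := by
  have h1 : (𝟙 F : F ⟶ F) = 0 := (IsZero.iff_id_eq_zero F).mp hF
  have h2 : (𝟙 F : F ⟶ F).app V m = (0 : F ⟶ F).app V m := by rw [h1]
  rw [Scheme.Modules.Hom.id_app, Scheme.Modules.Hom.zero_app] at h2
  exact h2

theorem eq_zero_of_subsingleton_stalk (F : X.Modules) (V : X.Opens) (m : Γ(F, V))
    (h : ∀ (x : X) (hx : x ∈ V), F.presheaf.germ V x hx m = 0) : m = 0 := by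
  refine TopCat.Presheaf.section_ext ⟨F.presheaf, F.isSheaf⟩ V m 0 fun x hx => ?_
  rw [h x hx, map_zero]

theorem subsingleton_stalk_of_isZero (F : X.Modules) (hF : IsZero F) (x : X) :
    Subsingleton (F.presheaf.stalk x) := by
  refine ⟨fun y y' => ?_⟩
  suffices ∀ z : F.presheaf.stalk x, z = 0 by rw [this y, this y']
  intro z
  obtain ⟨V, hxV, m, rfl⟩ := TopCat.Presheaf.exists_germ_eq F.presheaf z
  rw [section_eq_zero_of_isZero F hF V m, map_zero]

theorem isZero_of_subsingleton_stalk (F : X.Modules)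
    (h : ∀ x : X, Subsingleton (F.presheaf.stalk x)) : IsZero F := by
  rw [IsZero.iff_id_eq_zero]
  apply Scheme.Modules.hom_ext
  intro V
  ext m
  rw [Scheme.Modules.Hom.id_app, Scheme.Modules.Hom.zero_app]
  change m = 0
  refine eq_zero_of_subsingleton_stalk F V m fun x hx => ?_
  have := h x
  exact Subsingleton.elim _ _

end zero

end Groth.Agent.Lib.Helper3.QS
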