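import Groth.Agent.Lib.Helper3.QCTilde
import Mathlib.RingTheory.Noetherian.Basic
import Mathlib.RingTheory.Finiteness.Basic

set_option autoImplicit false
universe u
open CategoryTheory CategoryTheory.Limits AlgebraicGeometry TopologicalSpace Opposite
open Scheme.Modules

namespace Groth.Agent.Lib.Helper3.QCProps

variable {X Y : Scheme.{u}}

theorem mono_iff_app_injective {M N : X.Modules} (φ : M ⟶ N) :
    Mono φ ↔ ∀ U : X.Opens, Function.Injective (φ.app U) := by
  constructor
  · intro h U
    have h1 : Mono ((Scheme.Modules.toPresheaf X).map φ) := inferInstance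
    have h2 : Mono (((Scheme.Modules.toPresheaf X).map φ).app (op U)) :=
      (NatTrans.mono_iff_mono_app _).mp h1 (op U)
    exact (AddCommGrpCat.mono_iff_injective _).mp h2
  · intro h
    have h1 : Mono ((Scheme.Modules.toPresheaf X).map φ) := by
      rw [NatTrans.mono_iff_mono_app]
      intro U
      exact (AddCommGrpCat.mono_iff_injective _).mpr (h U.unop)
    exact (Scheme.Modules.toPresheaf X).mono_of_mono_map h1

theorem epi_of_app_surjective {M N : X.Modules} (φ : M ⟶ N)
    (h : ∀ U : X.Opens, Function.Surjective (φ.app U)) : Epi φ := by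
  have h1 : Epi ((Scheme.Modules.toPresheaf X).map φ) := by
    rw [NatTrans.epi_iff_epi_app]
    intro U
    exact (AddCommGrpCat.epi_iff_surjective _).mpr (h U.unop)
  exact (Scheme.Modules.toPresheaf X).epi_of_epi_map h1

instance (f : Y ⟶ X) [IsOpenImmersion f] : (restrictFunctor f).Additive where
  map_add := by
    intro M N φ ψ
    apply Scheme.Modules.hom_ext
    intro U
    rfl

theorem mono_restrict_map (f : Y ⟶ X) [IsOpenImmersion f] {M N : X.Modules} (φ : M ⟶ N)
    [Mono φ] : Mono ((restrictFunctor f).map φ) := by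
  rw [mono_iff_app_injective]
  intro U
  exact (mono_iff_app_injective φ).mp inferInstance (f ''ᵁ U)

instance (f : Y ⟶ X) [IsOpenImmersion f] : PreservesFiniteLimits (restrictFunctor f) := by
  rw [Functor.preservesFiniteLimits_iff_forall_exact_map_and_mono]
  intro S hS
  have h1 := ((Functor.preservesFiniteColimits_iff_forall_exact_map_and_epi
    (restrictFunctor f)).mp inferInstance S hS).1
  have := hS.mono_f
  exact ⟨h1, mono_restrict_map f S.f⟩


section Spec

variable {R : CommRingCat.{u}}

theorem nonempty_presentation_of_isQuasicoherent (N : (Spec R).Modules) [N.IsQuasicoherent] :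
    Nonempty N.Presentation := by
  have : IsIso N.fromTildeΓ := isIso_fromTildeΓ_of_isQuasicoherent N
  exact ⟨SheafOfModules.Presentation.ofIsIso (asIso N.fromTildeΓ).hom
    (presentationTilde _ .univ (by simp) _ (Submodule.span_eq _))⟩

theorem exists_finite_generatingSections_of_finite (N : (Spec R).Modules) [N.IsQuasicoherent]
    [Module.Finite R ((modulesSpecToSheaf.obj N).presheaf.obj (op ⊤))] :
    ∃ σ : N.GeneratingSections, σ.IsFiniteType := by
  have : IsIso N.fromTildeΓ := isIso_fromTildeΓ_of_isQuasicoherent N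
  obtain ⟨σ, hσ⟩ := QCTilde.exists_finite_generatingSections_tilde
    ((modulesSpecToSheaf.obj N).presheaf.obj (op ⊤))
  let e : tilde ((modulesSpecToSheaf.obj N).presheaf.obj (op ⊤)) ≅ N := asIso N.fromTildeΓ
  exact ⟨SheafOfModules.GeneratingSections.equivOfIso e σ, ⟨hσ.finite⟩⟩

theorem exists_finite_presentation_of_finitePresentation (N : (Spec R).Modules)
    [N.IsQuasicoherent]
    [Module.FinitePresentation R ((modulesSpecToSheaf.obj N).presheaf.obj (op ⊤))] :
    ∃ P : N.Presentation, P.IsFinite := by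
  have : IsIso N.fromTildeΓ := isIso_fromTildeΓ_of_isQuasicoherent N
  obtain ⟨P, hP⟩ := QCTilde.exists_finite_presentation_tilde
    ((modulesSpecToSheaf.obj N).presheaf.obj (op ⊤))
  exact ⟨SheafOfModules.Presentation.ofIsIso (asIso N.fromTildeΓ).hom P, inferInstance⟩

theorem isQuasicoherent_kernel_spec {N₁ N₂ : (Spec R).Modules} (φ : N₁ ⟶ N₂)
    [N₁.IsQuasicoherent] [N₂.IsQuasicoherent] : (kernel φ).IsQuasicoherent := by
  have := Groth.Agent.Lib.Helper14.preservesFiniteLimits_tilde R
  refine Groth.Agent.Lib.Helper14.isQuasicoherent_limit (parallelPair φ 0) ?_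
  rintro (_ | _)
  · exact (inferInstance : N₁.IsQuasicoherent)
  · exact (inferInstance : N₂.IsQuasicoherent)

theorem isQuasicoherent_cokernel_spec {N₁ N₂ : (Spec R).Modules} (φ : N₁ ⟶ N₂)
    [N₁.IsQuasicoherent] [N₂.IsQuasicoherent] : (cokernel φ).IsQuasicoherent := by
  refine Groth.Agent.Lib.Helper14.isQuasicoherent_colimit (parallelPair φ 0) ?_
  rintro (_ | _)
  · exact (inferInstance : N₁.IsQuasicoherent)
  · exact (inferInstance : N₂.IsQuasicoherent)

end Spec

section Charts

theorem exists_affine_nbhd (x : X) : ∃ (U : X.Opens) (_ : IsAffineOpen U), x ∈ U := by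
  obtain ⟨_, ⟨U, hU, rfl⟩, hxU, -⟩ :=
    X.isBasis_affineOpens.exists_subset_of_mem_open (Set.mem_univ x) isOpen_univ
  exact ⟨U, hU, hxU⟩

/-- Quasi-coherence can be checked on affine charts. -/
theorem isQuasicoherent_of_charts (M : X.Modules)
    (h : ∀ x : X, ∃ (U : X.Opens) (hU : IsAffineOpen U), x ∈ U ∧
      (M.restrict hU.fromSpec).IsQuasicoherent) :
    SheafOfModules.IsQuasicoherent (R := X.ringCatSheaf) M := by
  apply QCLocal.isQuasicoherent_of_forall_exists
  intro x
  obtain ⟨U, hU, hxU, hq⟩ := h x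
  obtain ⟨P⟩ := nonempty_presentation_of_isQuasicoherent (M.restrict hU.fromSpec)
  exact ⟨U, hxU, ⟨QCTilde.presFromChart hU P⟩⟩

/-- Finite type can be checked on affine charts (for modules quasi-coherent there). -/
theorem isFiniteType_of_charts (M : X.Modules)
    (h : ∀ x : X, ∃ (U : X.Opens) (hU : IsAffineOpen U), x ∈ U ∧
      (M.restrict hU.fromSpec).IsQuasicoherent ∧ Module.Finite Γ(X, U) Γ(M, U)) :
    SheafOfModules.IsFiniteType (R := X.ringCatSheaf) M := by
  apply QCLocal.isFiniteType_of_forall_exists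
  intro x
  obtain ⟨U, hU, hxU, hq, hfin⟩ := h x
  have : Module.Finite Γ(X, U)
      ((modulesSpecToSheaf.obj (M.restrict hU.fromSpec)).presheaf.obj (op ⊤)) :=
    Module.Finite.equiv (QCTilde.chartSectionsEquiv hU M).symm
  obtain ⟨σ, hσ⟩ := exists_finite_generatingSections_of_finite (M.restrict hU.fromSpec)
  exact ⟨U, hxU, QCTilde.gsFromChart hU σ, inferInstance⟩

/-- Finite presentation can be checked on affine charts. -/
theorem isFinitePresentation_of_charts (M : X.Modules)
    (h : ∀ x : X, ∃ (U : X.Opens) (hU : IsAffineOpen U), x ∈ U ∧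
      (M.restrict hU.fromSpec).IsQuasicoherent ∧ Module.FinitePresentation Γ(X, U) Γ(M, U)) :
    SheafOfModules.IsFinitePresentation (R := X.ringCatSheaf) M := by
  apply QCLocal.isFinitePresentation_of_forall_exists
  intro x
  obtain ⟨U, hU, hxU, hq, hfin⟩ := h x
  have : Module.FinitePresentation Γ(X, U)
      ((modulesSpecToSheaf.obj (M.restrict hU.fromSpec)).presheaf.obj (op ⊤)) :=
    Module.FinitePresentation.of_equiv (QCTilde.chartSectionsEquiv hU M).symm
  obtain ⟨P, hP⟩ := exists_finite_presentation_of_finitePresentation (M.restrict hU.fromSpec)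
  exact ⟨U, hxU, QCTilde.presFromChart hU P, inferInstance⟩

theorem isQuasicoherent_kernel {M N : X.Modules} (φ : M ⟶ N) [M.IsQuasicoherent]
    [N.IsQuasicoherent] : SheafOfModules.IsQuasicoherent (R := X.ringCatSheaf) (kernel φ) := by
  apply isQuasicoherent_of_charts
  intro x
  obtain ⟨U, hU, hxU⟩ := exists_affine_nbhd x
  refine ⟨U, hU, hxU, ?_⟩
  have hk : (kernel ((restrictFunctor hU.fromSpec).map φ)).IsQuasicoherent :=
    isQuasicoherent_kernel_spec _
  exact (SheafOfModules.isQuasicoherent (Spec Γ(X, U)).ringCatSheaf).prop_of_iso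
    (PreservesKernel.iso (restrictFunctor hU.fromSpec) φ).symm hk

theorem isQuasicoherent_cokernel {M N : X.Modules} (φ : M ⟶ N) [M.IsQuasicoherent]
    [N.IsQuasicoherent] : SheafOfModules.IsQuasicoherent (R := X.ringCatSheaf) (cokernel φ) := by
  apply isQuasicoherent_of_charts
  intro x
  obtain ⟨U, hU, hxU⟩ := exists_affine_nbhd x
  refine ⟨U, hU, hxU, ?_⟩
  have hk : (cokernel ((restrictFunctor hU.fromSpec).map φ)).IsQuasicoherent :=
    isQuasicoherent_cokernel_spec _
  exact (SheafOfModules.isQuasicoherent (Spec Γ(X, U)).ringCatSheaf).prop_of_iso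
    (PreservesCokernel.iso (restrictFunctor hU.fromSpec) φ).symm hk

end Charts

section Stability

/-- wrapper of `GeneratingSections.ofEpi` for `X.Modules`. -/
noncomputable def gsOfEpi {M N : X.Modules} (σ : M.GeneratingSections) (p : M ⟶ N)
    (hp : Epi p) : N.GeneratingSections :=
  @SheafOfModules.GeneratingSections.ofEpi _ _ _ _ _ _ _ _ σ p hp

instance {M N : X.Modules} (σ : M.GeneratingSections) (p : M ⟶ N) (hp : Epi p)
    [σ.IsFiniteType] : (gsOfEpi σ p hp).IsFiniteType :=
  ⟨inferInstanceAs (Finite σ.I)⟩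

theorem isFiniteType_of_epi {M N : X.Modules} (p : M ⟶ N) [Epi p] [M.IsFiniteType] :
    SheafOfModules.IsFiniteType (R := X.ringCatSheaf) N := by
  apply QCLocal.isFiniteType_of_forall_exists
  intro x
  obtain ⟨U, hU, hxU, σ, hσ⟩ := QCLocal.exists_affine_generatingSections M x
  have hp : Epi ((restrictFunctor U.ι).map p) := inferInstance
  exact ⟨U, hxU, gsOfEpi σ _ hp, inferInstance⟩

theorem isFiniteType_of_iso {M N : X.Modules} (e : M ≅ N) [M.IsFiniteType] :
    SheafOfModules.IsFiniteType (R := X.ringCatSheaf) N :=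
  isFiniteType_of_epi e.hom

theorem isFiniteType_restrict (f : Y ⟶ X) [IsOpenImmersion f] (M : X.Modules)
    [M.IsFiniteType] : SheafOfModules.IsFiniteType (R := Y.ringCatSheaf) (M.restrict f) := by
  apply QCLocal.isFiniteType_of_forall_exists
  intro y
  obtain ⟨U, hU, hxU, σ, hσ⟩ := QCLocal.exists_affine_generatingSections M (f y)
  let σ' := QCTilde.gsRestrict U.ι (f ∣_ U) ((f ⁻¹ᵁ U).ι ≫ f) (morphismRestrict_ι f U) σ
  refine ⟨f ⁻¹ᵁ U, hxU, SheafOfModules.GeneratingSections.equivOfIso
    (QCTilde.restrictFacIso f (f ⁻¹ᵁ U).ι ((f ⁻¹ᵁ U).ι ≫ f) rfl M).symm σ', ?_⟩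
  exact ⟨inferInstanceAs (Finite σ'.I)⟩

theorem isFinitePresentation_restrict (f : Y ⟶ X) [IsOpenImmersion f] (M : X.Modules)
    [SheafOfModules.IsFinitePresentation (R := X.ringCatSheaf) M] :
    SheafOfModules.IsFinitePresentation (R := Y.ringCatSheaf) (M.restrict f) := by
  apply QCLocal.isFinitePresentation_of_forall_exists
  intro y
  obtain ⟨U, hU, hxU, P, hP⟩ := QCLocal.exists_affine_presentation M (f y)
  let P' := QCTilde.presRestrict U.ι (f ∣_ U) ((f ⁻¹ᵁ U).ι ≫ f) (morphismRestrict_ι f U) P
  exact ⟨f ⁻¹ᵁ U, hxU, SheafOfModules.Presentation.ofIsIso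
    (QCTilde.restrictFacIso f (f ⁻¹ᵁ U).ι ((f ⁻¹ᵁ U).ι ≫ f) rfl M).symm.hom P', inferInstance⟩

/-- Sections of a quasi-coherent module of finite type over any affine open form a finite
module. -/
theorem finite_sections (M : X.Modules) [M.IsQuasicoherent] [M.IsFiniteType] {U : X.Opens}
    (hU : IsAffineOpen U) : Module.Finite Γ(X, U) Γ(M, U) := by
  have : (M.restrict hU.fromSpec).IsFiniteType := isFiniteType_restrict _ M
  have := QCTilde.finite_of_isFiniteType (M.restrict hU.fromSpec)
  exact Module.Finite.equiv (QCTilde.chartSectionsEquiv hU M)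

/-- Sections of a finitely presented module over any affine open form a finitely presented
module. -/
theorem finitePresentation_sections (M : X.Modules)
    [SheafOfModules.IsFinitePresentation (R := X.ringCatSheaf) M] {U : X.Opens}
    (hU : IsAffineOpen U) : Module.FinitePresentation Γ(X, U) Γ(M, U) := by
  have : SheafOfModules.IsFinitePresentation (R := (Spec Γ(X, U)).ringCatSheaf)
      (M.restrict hU.fromSpec) := isFinitePresentation_restrict _ M
  have := QCTilde.finitePresentation_of_isFinitePresentation (M.restrict hU.fromSpec)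
  exact Module.FinitePresentation.of_equiv (QCTilde.chartSectionsEquiv hU M)

theorem isFiniteType_iff_finite_sections (M : X.Modules) [M.IsQuasicoherent] :
    SheafOfModules.IsFiniteType (R := X.ringCatSheaf) M ↔
      ∀ (U : X.Opens), IsAffineOpen U → Module.Finite Γ(X, U) Γ(M, U) := by
  constructor
  · intro h U hU
    exact finite_sections M hU
  · intro h
    apply isFiniteType_of_charts
    intro x
    obtain ⟨U, hU, hxU⟩ := exists_affine_nbhd x
    exact ⟨U, hU, hxU, inferInstance, h U hU⟩

theorem isFinitePresentation_iff_finitePresentation_sections (M : X.Modules)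
    [M.IsQuasicoherent] :
    SheafOfModules.IsFinitePresentation (R := X.ringCatSheaf) M ↔
      ∀ (U : X.Opens), IsAffineOpen U → Module.FinitePresentation Γ(X, U) Γ(M, U) := by
  constructor
  · intro h U hU
    exact finitePresentation_sections M hU
  · intro h
    apply isFinitePresentation_of_charts
    intro x
    obtain ⟨U, hU, hxU⟩ := exists_affine_nbhd x
    exact ⟨U, hU, hxU, inferInstance, h U hU⟩

end Stability

section Noetherian

/-- The map on sections over `U` of a morphism of `O_X`-modules as a `Γ(X,U)`-linear map. -/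
noncomputable def appₗ {M N : X.Modules} (φ : M ⟶ N) (U : X.Opens) :
    Γ(M, U) →ₗ[Γ(X, U)] Γ(N, U) where
  toFun := φ.app U
  map_add' := map_add _
  map_smul' := fun r m => Scheme.Modules.Hom.app_smul φ r m

theorem appₗ_apply {M N : X.Modules} (φ : M ⟶ N) (U : X.Opens) (m : Γ(M, U)) :
    appₗ φ U m = φ.app U m := rfl

/-- On a locally Noetherian scheme, a quasi-coherent submodule of a coherent module is of finite
type. -/
theorem isFiniteType_of_mono [IsLocallyNoetherian X] {M N : X.Modules} (i : N ⟶ M) [Mono i]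
    [M.IsQuasicoherent] [M.IsFiniteType] [N.IsQuasicoherent] :
    SheafOfModules.IsFiniteType (R := X.ringCatSheaf) N := by
  apply isFiniteType_of_charts
  intro x
  obtain ⟨U, hU, hxU⟩ := exists_affine_nbhd x
  refine ⟨U, hU, hxU, inferInstance, ?_⟩
  have : IsNoetherianRing Γ(X, U) := IsLocallyNoetherian.component_noetherian ⟨U, hU⟩
  have : Module.Finite Γ(X, U) Γ(M, U) := finite_sections M hU
  have : IsNoetherian Γ(X, U) Γ(M, U) := isNoetherian_of_isNoetherianRing_of_finite _ _
  exact Module.Finite.of_injective (appₗ i U) ((mono_iff_app_injective i).mp inferInstance U)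

end Noetherian

end Groth.Agent.Lib.Helper3.QCProps
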