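import Mathlib.AlgebraicGeometry.IdealSheaf.Subscheme
import Mathlib.AlgebraicGeometry.AffineScheme

/-!
# Points of affine opens vs primes; support of an ideal sheaf on an affine chart
-/

set_option autoImplicit false
universe u
open CategoryTheory CategoryTheory.Limits AlgebraicGeometry TopologicalSpace

namespace Groth.Agent.Lib.Helper3

variable {X : Scheme.{u}} {U : X.Opens}

theorem mem_basicOpen_iff_notMem_primeIdealOf (hU : IsAffineOpen U) (x : X) (hxU : x ∈ U)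
    (f : Γ(X, U)) : x ∈ X.basicOpen f ↔ f ∉ (hU.primeIdealOf ⟨x, hxU⟩).asIdeal := by
  set p := hU.primeIdealOf ⟨x, hxU⟩ with hp
  have hpx : hU.fromSpec p = x := hU.fromSpec_primeIdealOf ⟨x, hxU⟩
  conv_lhs => rw [← hpx]
  change p ∈ hU.fromSpec ⁻¹ᵁ X.basicOpen f ↔ _
  rw [hU.fromSpec_preimage_basicOpen]
  rfl

theorem mem_zeroLocus_iff_le_primeIdealOf (hU : IsAffineOpen U) (x : X) (hxU : x ∈ U)
    (I : Ideal Γ(X, U)) :
    x ∈ X.zeroLocus (U := U) I ↔ I ≤ (hU.primeIdealOf ⟨x, hxU⟩).asIdeal := by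
  rw [Scheme.mem_zeroLocus_iff]
  constructor
  · intro h f hf
    by_contra hfp
    exact h f hf ((mem_basicOpen_iff_notMem_primeIdealOf hU x hxU f).mpr hfp)
  · intro h f hf hx
    exact (mem_basicOpen_iff_notMem_primeIdealOf hU x hxU f).mp hx (h hf)

theorem mem_support_iff_le_primeIdealOf (𝓘 : X.IdealSheafData) (U : X.affineOpens) (x : X)
    (hxU : x ∈ U.1) :
    x ∈ 𝓘.support ↔ 𝓘.ideal U ≤ (U.2.primeIdealOf ⟨x, hxU⟩).asIdeal := by
  rw [Scheme.IdealSheafData.mem_support_iff_of_mem hxU]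
  exact mem_zeroLocus_iff_le_primeIdealOf U.2 x hxU _

/-- Specialization between points of an affine open is containment of primes. -/
theorem primeIdealOf_le_iff_specializes (hU : IsAffineOpen U) (x y : X) (hxU : x ∈ U) (hyU : y ∈ U) :
    (hU.primeIdealOf ⟨x, hxU⟩).asIdeal ≤ (hU.primeIdealOf ⟨y, hyU⟩).asIdeal ↔ x ⤳ y := by
  set p := hU.primeIdealOf ⟨x, hxU⟩ with hp
  set q := hU.primeIdealOf ⟨y, hyU⟩ with hq
  have hpx : hU.fromSpec p = x := hU.fromSpec_primeIdealOf ⟨x, hxU⟩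
  have hqy : hU.fromSpec q = y := hU.fromSpec_primeIdealOf ⟨y, hyU⟩
  change p ≤ q ↔ _
  rw [PrimeSpectrum.le_iff_specializes, ← hpx, ← hqy]
  exact (hU.fromSpec.isOpenEmbedding.isInducing.specializes_iff).symm

end Groth.Agent.Lib.Helper3
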