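import Mathlib.AlgebraicGeometry.Modules.Tilde
import Groth.Prelude.Def_FlatMod2
import Groth.Agent.Lib.Helper3.AffinePoints

/-!
# Stalks of quasi-coherent modules are localizations of sections over affine opens

For a quasi-coherent `F` on a scheme `X`, an affine open `U` and `x ∈ U`, the germ map
`Γ(U, F) → F_x` is the localization of the `Γ(U, O_X)`-module `Γ(U, F)` at the prime of `x`
(`isLocalizedModule_germ`), where `F_x` is a `Γ(U, O_X)`-module through `Γ(U, O_X) → O_{X,x}`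
(`stalkModule`).  Also the statement on basic opens (`exists_pow_smul_eq_res`,
`exists_pow_smul_eq_zero`).
-/

set_option autoImplicit false
universe u
open CategoryTheory CategoryTheory.Limits AlgebraicGeometry TopologicalSpace

namespace Groth.Agent.Lib.Helper3.QS

variable {X : Scheme.{u}} {U : X.Opens} (hU : IsAffineOpen U)

theorem image_le (V : (Spec Γ(X, U)).Opens) : hU.fromSpec ''ᵁ V ≤ U := by
  rintro _ ⟨p, -, rfl⟩
  have : hU.fromSpec p ∈ Set.range hU.fromSpec := ⟨p, rfl⟩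
  rw [hU.range_fromSpec] at this
  exact this

theorem le_image_top : U ≤ hU.fromSpec ''ᵁ ⊤ := by
  rw [Scheme.Hom.image_top_eq_opensRange, hU.opensRange_fromSpec]

theorem res_appIso_hom (V : (Spec Γ(X, U)).Opens) :
    X.presheaf.map (homOfLE (image_le hU V)).op ≫ (hU.fromSpec.appIso V).hom =
      (Scheme.ΓSpecIso Γ(X, U)).inv ≫ (Spec Γ(X, U)).presheaf.map V.leTop.op := by
  rw [Scheme.Hom.appIso_hom', Scheme.Hom.map_appLE, Scheme.Hom.appLE, hU.fromSpec_app_self,
    Category.assoc, ← Functor.map_comp]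
  rfl

theorem appIso_inv_res (V : (Spec Γ(X, U)).Opens) (r : Γ(X, U)) :
    (hU.fromSpec.appIso V).inv.hom ((Spec Γ(X, U)).presheaf.map V.leTop.op
      ((Scheme.ΓSpecIso Γ(X, U)).inv.hom r)) = X.presheaf.map (homOfLE (image_le hU V)).op r := by
  have h := res_appIso_hom hU V
  have h2 : (Scheme.ΓSpecIso Γ(X, U)).inv ≫ (Spec Γ(X, U)).presheaf.map V.leTop.op ≫
      (hU.fromSpec.appIso V).inv = X.presheaf.map (homOfLE (image_le hU V)).op := by
    rw [← Category.assoc, ← h, Category.assoc, Iso.hom_inv_id, Category.comp_id]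
  exact congrArg (fun φ => φ.hom r) h2

variable (F : X.Modules)

/-- The `Γ(X,U)`-action on sections of the restriction of `F` to `Spec Γ(X,U)`. -/
theorem smul_restrict (V : (Spec Γ(X, U)).Opens) (r : Γ(X, U))
    (n : Γ(F.restrict hU.fromSpec, V)) :
    (r • n : Γ(F.restrict hU.fromSpec, V)) =
      ((X.presheaf.map (homOfLE (image_le hU V)).op r) • (show Γ(F, hU.fromSpec ''ᵁ V) from n) :
        Γ(F, hU.fromSpec ''ᵁ V)) := by
  rw [Scheme.Modules.smul_Spec_def, ← appIso_inv_res hU V r]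
  rfl

theorem germ_smul (x : X) (hx : x ∈ U) (r : Γ(X, U)) (m : Γ(F, U)) :
    F.presheaf.germ U x hx (r • m) = X.presheaf.germ U x hx r • F.presheaf.germ U x hx m :=
  PresheafOfModules.germ_smul (R := X.presheaf)
    (show PresheafOfModules (X.presheaf ⋙ forget₂ CommRingCat RingCat) from F.val) x U hx r m

theorem isLocalizing_restrict [F.IsQuasicoherent] :
    IsLocalizing (modulesSpecToSheaf.obj (F.restrict hU.fromSpec)) := by
  rw [← isIso_fromTildeΓ_iff_isLocalizing]
  infer_instance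

/-- restriction `Γ(F, U) → Γ(F, fromSpec ''ᵁ ⊤)` is bijective. -/
theorem res_image_top_bijective :
    Function.Bijective (F.presheaf.map (homOfLE (image_le hU ⊤)).op) := by
  have h1 : F.presheaf.map (homOfLE (image_le hU ⊤)).op ≫
      F.presheaf.map (homOfLE (le_image_top hU)).op = 𝟙 _ := by
    rw [← Functor.map_comp]; exact F.presheaf.map_id _
  have h2 : F.presheaf.map (homOfLE (le_image_top hU)).op ≫
      F.presheaf.map (homOfLE (image_le hU ⊤)).op = 𝟙 _ := by
    rw [← Functor.map_comp]; exact F.presheaf.map_id _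
  refine ⟨fun a b hab => ?_, fun c => ⟨F.presheaf.map (homOfLE (le_image_top hU)).op c, ?_⟩⟩
  · have := congrArg (F.presheaf.map (homOfLE (le_image_top hU)).op) hab
    rw [← ConcreteCategory.comp_apply, ← ConcreteCategory.comp_apply, h1] at this
    exact this
  · rw [← ConcreteCategory.comp_apply, h2]; rfl


section basicOpen

variable [F.IsQuasicoherent]

/-- Sections over a basic open are fractions: for `n ∈ Γ(F, fromSpec ''ᵁ D(s))` there are `k` and
`m ∈ Γ(F, U)` with `s^k • n = m|`. -/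
theorem exists_pow_smul_eq_res (s : Γ(X, U))
    (n : Γ(F, hU.fromSpec ''ᵁ (PrimeSpectrum.basicOpen s))) :
    ∃ (k : ℕ) (m : Γ(F, U)),
      (X.presheaf.map (homOfLE (image_le hU (PrimeSpectrum.basicOpen s))).op (s ^ k)) • n =
        F.presheaf.map (homOfLE (image_le hU (PrimeSpectrum.basicOpen s))).op m := by
  have hloc := isLocalizing_restrict hU F s
  obtain ⟨⟨μ, ⟨c, k, rfl⟩⟩, hμ⟩ := hloc.2 n
  obtain ⟨m, rfl⟩ := (res_image_top_bijective hU F).2 μ
  refine ⟨k, m, ?_⟩
  have h1 := smul_restrict hU F (PrimeSpectrum.basicOpen s) (s ^ k) n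
  change (s ^ k) • (show Γ(F.restrict hU.fromSpec, PrimeSpectrum.basicOpen s) from n) = _ at hμ
  rw [h1] at hμ
  refine hμ.trans ?_
  change F.presheaf.map _ (F.presheaf.map _ m) = _
  rw [← ConcreteCategory.comp_apply, ← Functor.map_comp]
  rfl

/-- A section of `F` over `U` vanishing on the basic open of `s` is killed by a power of `s`. -/
theorem exists_pow_smul_eq_zero (s : Γ(X, U)) (m : Γ(F, U))
    (hm : F.presheaf.map (homOfLE (image_le hU (PrimeSpectrum.basicOpen s))).op m = 0) :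
    ∃ k : ℕ, (s ^ k) • m = 0 := by
  have hloc := isLocalizing_restrict hU F s
  set μ : Γ(F.restrict hU.fromSpec, ⊤) := F.presheaf.map (homOfLE (image_le hU ⊤)).op m with hμ
  have h0 : ((modulesSpecToSheaf.obj (F.restrict hU.fromSpec)).obj.map
      (PrimeSpectrum.basicOpen s).leTop.op).hom μ = 0 := by
    change F.presheaf.map _ (F.presheaf.map _ m) = 0
    rw [← ConcreteCategory.comp_apply, ← Functor.map_comp]
    exact hm
  obtain ⟨⟨c, k, rfl⟩, hc⟩ := (IsLocalizedModule.eq_zero_iff (Submonoid.powers s) _).mp h0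
  refine ⟨k, ?_⟩
  change (s ^ k) • μ = 0 at hc
  rw [smul_restrict hU F ⊤ (s ^ k) μ] at hc
  apply (res_image_top_bijective hU F).1
  rw [Scheme.Modules.map_smul, map_zero]
  exact hc

end basicOpen

section stalk

variable [F.IsQuasicoherent] (x : X) (hx : x ∈ U)

/-- **Stalks of quasi-coherent modules are localizations.**  `F_x` is a `Γ(X,U)`-module through the
germ map of `O_X`; `g` is the germ map of `F`. -/
theorem isLocalizedModule_germ [Module Γ(X, U) (F.presheaf.stalk x)]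
    (hsmul : ∀ (r : Γ(X, U)) (y : F.presheaf.stalk x), r • y = X.presheaf.germ U x hx r • y)
    (g : Γ(F, U) →ₗ[Γ(X, U)] F.presheaf.stalk x)
    (hg : ∀ m, g m = F.presheaf.germ U x hx m) :
    IsLocalizedModule (hU.primeIdealOf ⟨x, hx⟩).asIdeal.primeCompl g := by
  set p := hU.primeIdealOf ⟨x, hx⟩ with hp
  have hpx : hU.fromSpec p = x := hU.fromSpec_primeIdealOf ⟨x, hx⟩
  have hunit : ∀ c : Γ(X, U), c ∉ p.asIdeal → IsUnit (X.presheaf.germ U x hx c) := fun c hc =>
    (Scheme.mem_basicOpen X c x hx).mp ((mem_basicOpen_iff_notMem_primeIdealOf hU x hx c).mpr hc)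
  -- a basic open neighbourhood inside the preimage of any open neighbourhood
  have hbasic : ∀ W : X.Opens, x ∈ W → ∃ s : Γ(X, U), s ∉ p.asIdeal ∧
      hU.fromSpec ''ᵁ (PrimeSpectrum.basicOpen s) ≤ W := by
    intro W hxW
    have hpW : p ∈ hU.fromSpec ⁻¹ᵁ W := by
      change hU.fromSpec p ∈ W; rw [hpx]; exact hxW
    obtain ⟨_, ⟨_, ⟨s, rfl⟩, rfl⟩, hps, hsW⟩ := PrimeSpectrum.isBasis_basic_opens.exists_subset_of_mem_open
      hpW (hU.fromSpec ⁻¹ᵁ W).2
    refine ⟨s, hps, ?_⟩
    rintro _ ⟨q, hq, rfl⟩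
    exact hsW hq
  have hxs : ∀ s : Γ(X, U), s ∉ p.asIdeal → x ∈ hU.fromSpec ''ᵁ (PrimeSpectrum.basicOpen s) :=
    fun s hs => ⟨p, hs, hpx⟩
  refine ⟨?_, ?_, ?_⟩
  · rintro ⟨c, hc⟩
    rw [Module.End.isUnit_iff]
    have hu := hunit c hc
    constructor
    · intro y y' hyy'
      have h1 : X.presheaf.germ U x hx c • y = X.presheaf.germ U x hx c • y' := by
        rw [← hsmul, ← hsmul]; exact hyy'
      have h2 := congrArg (fun z => (hu.unit⁻¹ : (X.presheaf.stalk x)ˣ).1 • z) h1
      simp only [smul_smul, IsUnit.val_inv_mul, one_smul] at h2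
      exact h2
    · intro y
      refine ⟨(hu.unit⁻¹ : (X.presheaf.stalk x)ˣ).1 • y, ?_⟩
      change c • ((hu.unit⁻¹ : (X.presheaf.stalk x)ˣ).1 • y) = y
      rw [hsmul, smul_smul, IsUnit.mul_val_inv, one_smul]
  · intro y
    obtain ⟨V₀, hxV₀, n₀, rfl⟩ := TopCat.Presheaf.exists_germ_eq F.presheaf y
    obtain ⟨s, hsp, hsV₀⟩ := hbasic V₀ hxV₀
    obtain ⟨k, m, hkm⟩ := exists_pow_smul_eq_res hU F s (F.presheaf.map (homOfLE hsV₀).op n₀)
    have hsk : s ^ k ∈ p.asIdeal.primeCompl := fun h => hsp (p.2.mem_of_pow_mem k h)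
    refine ⟨⟨m, ⟨s ^ k, hsk⟩⟩, ?_⟩
    change (s ^ k) • (F.presheaf.germ V₀ x hxV₀ n₀) = g m
    rw [hg, hsmul]
    have h1 := congrArg (F.presheaf.germ _ x (hxs s hsp)) hkm
    rw [germ_smul, TopCat.Presheaf.germ_res_apply, TopCat.Presheaf.germ_res_apply,
      TopCat.Presheaf.germ_res_apply] at h1
    exact h1
  · intro m₁ m₂ h12
    rw [hg, hg] at h12
    obtain ⟨W, hxW, i₁, i₂, hW⟩ := TopCat.Presheaf.germ_eq F.presheaf x hx hx m₁ m₂ h12
    obtain ⟨s, hsp, hsW⟩ := hbasic W hxW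
    have h0 : F.presheaf.map (homOfLE (image_le hU (PrimeSpectrum.basicOpen s))).op (m₁ - m₂) = 0 := by
      have e1 : ∀ m : Γ(F, U), F.presheaf.map (homOfLE (image_le hU (PrimeSpectrum.basicOpen s))).op m =
          F.presheaf.map (homOfLE hsW).op (F.presheaf.map i₁.op m) := by
        intro m
        rw [← ConcreteCategory.comp_apply, ← Functor.map_comp]
        rfl
      have e2 : F.presheaf.map i₂.op m₂ = F.presheaf.map i₁.op m₂ := by
        have : i₂ = i₁ := Subsingleton.elim _ _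
        rw [this]
      rw [map_sub, e1 m₁, e1 m₂, hW, e2, sub_self]
    obtain ⟨k, hk⟩ := exists_pow_smul_eq_zero hU F s (m₁ - m₂) h0
    have hsk : s ^ k ∈ p.asIdeal.primeCompl := fun h => hsp (p.2.mem_of_pow_mem k h)
    refine ⟨⟨s ^ k, hsk⟩, ?_⟩
    change (s ^ k) • m₁ = (s ^ k) • m₂
    rw [smul_sub] at hk
    exact sub_eq_zero.mp hk

end stalk

end Groth.Agent.Lib.Helper3.QS
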