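import Groth.Agent.Lib.Helper3.QCLocal
import Groth.Agent.Lib.Helper14.TildeExact
import Mathlib.Algebra.Module.FinitePresentation
import Mathlib.RingTheory.Noetherian.Basic
import Groth.Agent.Lib.Helper3.QcohStalk
import Mathlib.RingTheory.Localization.Finiteness
import Mathlib.RingTheory.LocalProperties.FinitePresentation

/-!
# The affine dictionary for quasi-coherent modules: transport to charts `Spec Γ(X,U)` and `M^~`
-/

set_option autoImplicit false
universe u
open CategoryTheory CategoryTheory.Limits AlgebraicGeometry TopologicalSpace Opposite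
open Scheme.Modules

namespace Groth.Agent.Lib.Helper3.QCTilde

variable {X Y Z : Scheme.{u}}

section Transport

/-- `(M.restrict f).restrict h ≅ M.restrict g` when `h ≫ f = g`. -/
noncomputable def restrictFacIso (f : Y ⟶ X) (h : Z ⟶ Y) (g : Z ⟶ X) [IsOpenImmersion f]
    [IsOpenImmersion h] [IsOpenImmersion g] (e : h ≫ f = g) (M : X.Modules) :
    (M.restrict f).restrict h ≅ M.restrict g :=
  ((restrictFunctorComp h f).symm ≪≫ restrictFunctorCongr e).app M

set_option backward.isDefEq.respectTransparency false in
/-- Transport of generating sections along a factorization `h ≫ f = g` of open immersions. -/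
noncomputable def gsRestrict (f : Y ⟶ X) (h : Z ⟶ Y) (g : Z ⟶ X) [IsOpenImmersion f]
    [IsOpenImmersion h] [IsOpenImmersion g] (e : h ≫ f = g) {M : X.Modules}
    (σ : (M.restrict f).GeneratingSections) : (M.restrict g).GeneratingSections :=
  have : PreservesColimitsOfSize.{u, u} (restrictFunctor h) := inferInstance
  SheafOfModules.GeneratingSections.equivOfIso (restrictFacIso f h g e M)
    (σ.map (restrictFunctor h) (restrictUnitIso h).symm)

set_option backward.isDefEq.respectTransparency false in
instance (f : Y ⟶ X) (h : Z ⟶ Y) (g : Z ⟶ X) [IsOpenImmersion f]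
    [IsOpenImmersion h] [IsOpenImmersion g] (e : h ≫ f = g) {M : X.Modules}
    (σ : (M.restrict f).GeneratingSections) [σ.IsFiniteType] :
    (gsRestrict f h g e σ).IsFiniteType := by
  dsimp [gsRestrict, SheafOfModules.GeneratingSections.equivOfIso]
  infer_instance

set_option backward.isDefEq.respectTransparency false in
/-- Transport of presentations along a factorization `h ≫ f = g` of open immersions. -/
noncomputable def presRestrict (f : Y ⟶ X) (h : Z ⟶ Y) (g : Z ⟶ X) [IsOpenImmersion f]
    [IsOpenImmersion h] [IsOpenImmersion g] (e : h ≫ f = g) {M : X.Modules}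
    (P : (M.restrict f).Presentation) : (M.restrict g).Presentation :=
  SheafOfModules.Presentation.ofIsIso.{u, u, u} (restrictFacIso f h g e M).hom
    (presentationRestrict h P)

set_option backward.isDefEq.respectTransparency false in
instance (f : Y ⟶ X) (h : Z ⟶ Y) (g : Z ⟶ X) [IsOpenImmersion f]
    [IsOpenImmersion h] [IsOpenImmersion g] (e : h ≫ f = g) {M : X.Modules}
    (P : (M.restrict f).Presentation) [P.IsFinite] :
    (presRestrict f h g e P).IsFinite := by
  dsimp [presRestrict, presentationRestrict]
  infer_instance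

variable {U : X.Opens} (hU : IsAffineOpen U)

/-- generating sections on `U` give generating sections on the chart `Spec Γ(X,U)`. -/
noncomputable def gsToChart {M : X.Modules} (σ : (M.restrict U.ι).GeneratingSections) :
    (M.restrict hU.fromSpec).GeneratingSections :=
  gsRestrict U.ι hU.isoSpec.inv hU.fromSpec hU.isoSpec_inv_ι σ

instance {M : X.Modules} (σ : (M.restrict U.ι).GeneratingSections) [σ.IsFiniteType] :
    (gsToChart hU σ).IsFiniteType := by
  dsimp [gsToChart]; infer_instance

noncomputable def gsFromChart {M : X.Modules} (σ : (M.restrict hU.fromSpec).GeneratingSections) :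
    (M.restrict U.ι).GeneratingSections :=
  gsRestrict hU.fromSpec hU.isoSpec.hom U.ι hU.isoSpec_hom_fromSpec σ

instance {M : X.Modules} (σ : (M.restrict hU.fromSpec).GeneratingSections) [σ.IsFiniteType] :
    (gsFromChart hU σ).IsFiniteType := by
  dsimp [gsFromChart]; infer_instance

noncomputable def presToChart {M : X.Modules} (P : (M.restrict U.ι).Presentation) :
    (M.restrict hU.fromSpec).Presentation :=
  presRestrict U.ι hU.isoSpec.inv hU.fromSpec hU.isoSpec_inv_ι P

instance {M : X.Modules} (P : (M.restrict U.ι).Presentation) [P.IsFinite] :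
    (presToChart hU P).IsFinite := by
  dsimp [presToChart]; infer_instance

noncomputable def presFromChart {M : X.Modules} (P : (M.restrict hU.fromSpec).Presentation) :
    (M.restrict U.ι).Presentation :=
  presRestrict hU.fromSpec hU.isoSpec.hom U.ι hU.isoSpec_hom_fromSpec P

instance {M : X.Modules} (P : (M.restrict hU.fromSpec).Presentation) [P.IsFinite] :
    (presFromChart hU P).IsFinite := by
  dsimp [presFromChart]; infer_instance

end Transport

section Tilde

variable {R : CommRingCat.{u}}

/-- If a quasi-coherent module on `Spec R` is generated by finitely many global sections, its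
module of global sections is finite. -/
theorem finite_of_generatingSections (N : (Spec R).Modules) [N.IsQuasicoherent]
    (σ : N.GeneratingSections) [Finite σ.I] :
    Module.Finite R ((modulesSpecToSheaf.obj N).presheaf.obj (op ⊤)) := by
  let F := tilde.functor R
  have hε : IsIso N.fromTildeΓ := Scheme.Modules.isIso_fromTildeΓ_of_isQuasicoherent N
  let ψ : N ⟶ tilde ((modulesSpecToSheaf.obj N).presheaf.obj (op ⊤)) := inv N.fromTildeΓ
  have hψ : IsIso ψ := IsIso.inv_isIso
  have hψ' : Epi ψ := @IsIso.epi_of_iso _ _ _ _ ψ hψ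
  let φ : F.obj (ModuleCat.of R (σ.I →₀ R)) ⟶
      F.obj ((modulesSpecToSheaf.obj N).presheaf.obj (op ⊤)) :=
    (tildeFinsupp σ.I).hom ≫ σ.π ≫ ψ
  have h1 : Epi (σ.π ≫ ψ) := @epi_comp _ _ _ _ _ σ.π σ.epi ψ hψ'
  have hφ : Epi φ := @epi_comp _ _ _ _ _ (tildeFinsupp σ.I).hom inferInstance _ h1
  let g := F.preimage φ
  have hg : F.map g = φ := F.map_preimage φ
  have h2 : Epi (F.map g) := by rw [hg]; exact hφ
  have h3 : Epi g := F.epi_of_epi_map h2
  have hs : Function.Surjective g.hom := (ModuleCat.epi_iff_surjective g).mp h3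
  exact Module.Finite.of_surjective g.hom hs

theorem exists_finite_presentation_tilde (A : ModuleCat.{u} R) [Module.FinitePresentation R A] :
    ∃ P : (tilde A).Presentation, P.IsFinite := by
  obtain ⟨s, hsfin, hs⟩ := Submodule.fg_def.mp (Module.Finite.fg_top (R := R) (M := A))
  have : Finite s := hsfin.to_subtype
  let f := Finsupp.linearCombination R ((↑) : s → A)
  have hf : Function.Surjective f := by
    rw [← LinearMap.range_eq_top, Finsupp.range_linearCombination]
    simpa using hs
  have hker : (LinearMap.ker f).FG := Module.FinitePresentation.fg_ker f hf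
  obtain ⟨t, htfin, ht⟩ := Submodule.fg_def.mp hker
  have : Finite t := htfin.to_subtype
  refine ⟨presentationTilde A s hs t ht, ⟨⟨?_⟩, ⟨?_⟩⟩⟩
  · exact inferInstanceAs (Finite s)
  · exact inferInstanceAs (Finite t)

theorem exists_finite_generatingSections_tilde (A : ModuleCat.{u} R) [Module.Finite R A] :
    ∃ σ : (tilde A).GeneratingSections, σ.IsFiniteType := by
  obtain ⟨s, hsfin, hs⟩ := Submodule.fg_def.mp (Module.Finite.fg_top (R := R) (M := A))
  have : Finite s := hsfin.to_subtype
  refine ⟨(presentationTilde A s hs _ (Submodule.span_eq _)).generators, ⟨?_⟩⟩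
  exact inferInstanceAs (Finite s)

end Tilde

section Finite

variable {X : Scheme.{u}}

theorem res_res_self (X : Scheme.{u}) {A B : X.Opens} (hAB : A ≤ B) (hBA : B ≤ A) (r : Γ(X, B)) :
    X.presheaf.map (homOfLE hBA).op (X.presheaf.map (homOfLE hAB).op r) = r := by
  rw [← ConcreteCategory.comp_apply, ← Functor.map_comp]
  exact congr($(X.presheaf.map_id (op B)) r)

theorem mod_res_res_self (M : X.Modules) {A B : X.Opens} (hAB : A ≤ B) (hBA : B ≤ A)
    (s : Γ(M, B)) :
    M.presheaf.map (homOfLE hBA).op (M.presheaf.map (homOfLE hAB).op s) = s := by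
  rw [← ConcreteCategory.comp_apply, ← Functor.map_comp]
  exact congr($(M.presheaf.map_id (op B)) s)

/-- identity cast from sections of the chart restriction (as a `Γ(X,U)`-module) to sections
of `M`. -/
def toSec {U : X.Opens} (hU : IsAffineOpen U) (M : X.Modules) (V : (Spec Γ(X, U)).Opens)
    (n : ((modulesSpecToSheaf.obj (M.restrict hU.fromSpec)).presheaf.obj (op V))) :
    Γ(M, hU.fromSpec ''ᵁ V) := n

theorem toSec_smul {U : X.Opens} (hU : IsAffineOpen U) (M : X.Modules)
    (V : (Spec Γ(X, U)).Opens) (r : Γ(X, U))
    (n : ((modulesSpecToSheaf.obj (M.restrict hU.fromSpec)).presheaf.obj (op V))) :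
    toSec hU M V (r • n) =
      (X.presheaf.map (homOfLE (QS.image_le hU V)).op r) • toSec hU M V n :=
  QS.smul_restrict hU M V r n

theorem toSec_add {U : X.Opens} (hU : IsAffineOpen U) (M : X.Modules)
    (V : (Spec Γ(X, U)).Opens)
    (a b : ((modulesSpecToSheaf.obj (M.restrict hU.fromSpec)).presheaf.obj (op V))) :
    toSec hU M V (a + b) = toSec hU M V a + toSec hU M V b := rfl

/-- Sections of a quasi-coherent module over an affine open on which it is generated by finitely
many sections form a finite module. -/
theorem finite_sections_of_generatingSections {U : X.Opens} (hU : IsAffineOpen U) (M : X.Modules)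
    [M.IsQuasicoherent] (σ : (M.restrict U.ι).GeneratingSections) [σ.IsFiniteType] :
    Module.Finite Γ(X, U) Γ(M, U) := by
  have : Finite (gsToChart hU σ).I := (inferInstance : (gsToChart hU σ).IsFiniteType).finite
  have hfin := finite_of_generatingSections (M.restrict hU.fromSpec) (gsToChart hU σ)
  let e : ((modulesSpecToSheaf.obj (M.restrict hU.fromSpec)).presheaf.obj (op ⊤)) →ₗ[Γ(X, U)]
      Γ(M, U) :=
    { toFun := fun n => M.presheaf.map (homOfLE (QS.le_image_top hU)).op (toSec hU M ⊤ n)
      map_add' := fun a b => by rw [toSec_add, map_add]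
      map_smul' := fun r n => by
        rw [toSec_smul, Scheme.Modules.map_smul, res_res_self]
        rfl }
  refine Module.Finite.of_surjective e ?_
  intro m
  refine ⟨M.presheaf.map (homOfLE (QS.image_le hU ⊤)).op m, ?_⟩
  exact mod_res_res_self M _ _ m


set_option backward.isDefEq.respectTransparency false in
/-- A quasi-coherent module of finite type on `Spec R` has a finite module of global
sections. -/
theorem finite_of_isFiniteType {R : CommRingCat.{u}} (N : (Spec R).Modules)
    [N.IsQuasicoherent] [N.IsFiniteType] :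
    Module.Finite R ((modulesSpecToSheaf.obj N).presheaf.obj (op ⊤)) := by
  let t : Set R := {f | Module.Finite Γ(Spec R, PrimeSpectrum.basicOpen f)
    Γ(N, PrimeSpectrum.basicOpen f)}
  have ht : Ideal.span t = ⊤ := by
    by_contra hne
    obtain ⟨m, hm, hle⟩ := Ideal.exists_le_maximal _ hne
    let x : Spec R := ⟨m, hm.isPrime⟩
    obtain ⟨U, hU, hxU, σ, hσ⟩ := QCLocal.exists_affine_generatingSections N x
    obtain ⟨_, ⟨_, ⟨f, rfl⟩, rfl⟩, hxf, hfU⟩ :=
      PrimeSpectrum.isBasis_basic_opens.exists_subset_of_mem_open hxU U.2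
    let V : (Spec R).Opens := PrimeSpectrum.basicOpen f
    have hfU' : V ≤ U := hfU
    let σ' := gsRestrict U.ι ((Spec R).homOfLE hfU') V.ι (by simp) σ
    have hft : f ∈ t :=
      finite_sections_of_generatingSections (U := V) (IsAffineOpen.Spec_basicOpen f) N σ'
    exact hxf (hle (Ideal.subset_span hft))
  have hloc : IsLocalizing (modulesSpecToSheaf.obj N) := by
    rw [← isIso_fromTildeΓ_iff_isLocalizing]; infer_instance
  let φ (g : R) := ((modulesSpecToSheaf.obj N).obj.map (PrimeSpectrum.basicOpen g).leTop.op).hom
  have hφ (g : R) : IsLocalizedModule.Away g (φ g) := hloc g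
  let _i1 : ∀ g : t, Module Γ(Spec R, PrimeSpectrum.basicOpen g.1)
      ((modulesSpecToSheaf.obj N).obj.obj (op (PrimeSpectrum.basicOpen g.1))) := fun g =>
    (inferInstance : Module Γ(Spec R, PrimeSpectrum.basicOpen g.1)
      Γ(N, PrimeSpectrum.basicOpen g.1))
  have _i2 : ∀ g : t, IsScalarTower R Γ(Spec R, PrimeSpectrum.basicOpen g.1)
      ((modulesSpecToSheaf.obj N).obj.obj (op (PrimeSpectrum.basicOpen g.1))) := fun g =>
    (inferInstance : IsScalarTower R Γ(Spec R, PrimeSpectrum.basicOpen g.1)
      Γ(N, PrimeSpectrum.basicOpen g.1))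
  exact Module.Finite.of_localizationSpan' t ht
    (Rₚ := fun g => Γ(Spec R, PrimeSpectrum.basicOpen g.1))
    (Mₚ := fun g => ((modulesSpecToSheaf.obj N).obj.obj (op (PrimeSpectrum.basicOpen g.1))))
    (f := fun g => φ g.1)
    (h₂ := fun g => hφ g.1)
    (H := fun g => g.2)

end Finite

section FP

variable {R : CommRingCat.{u}}

theorem finitePresentation_cokernel {A B : ModuleCat.{u} R} [Module.Finite R A] [Module.Finite R B]
    [Module.Free R B] (g : A ⟶ B) : Module.FinitePresentation R (cokernel g : ModuleCat.{u} R) := by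
  have h1 : Module.FinitePresentation R (B ⧸ LinearMap.range g.hom) := by
    refine Module.finitePresentation_of_free_of_surjective (LinearMap.range g.hom).mkQ
      (Submodule.mkQ_surjective _) ?_
    rw [Submodule.ker_mkQ, LinearMap.range_eq_map]
    exact (Module.Finite.fg_top).map _
  exact Module.FinitePresentation.of_equiv (ModuleCat.cokernelIsoRangeQuotient g).toLinearEquiv.symm

set_option backward.isDefEq.respectTransparency false in
/-- A module on `Spec R` with a finite global presentation has finitely presented global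
sections. -/
theorem finitePresentation_of_presentation (N : (Spec R).Modules) (P : N.Presentation)
    [P.IsFinite] :
    Module.FinitePresentation R ((modulesSpecToSheaf.obj N).presheaf.obj (op ⊤)) := by
  have : Finite P.generators.I := inferInstance
  have : Finite P.relations.I := inferInstance
  let F := tilde.functor R
  let g := F.preimage ((tildeFinsupp P.relations.I).hom ≫ P.relations.π ≫ kernel.ι _ ≫
    (tildeFinsupp P.generators.I).inv)
  let iso : cokernel (F.map g) ≅ cokernel (P.relations.π ≫ kernel.ι _) := by
    refine cokernel.mapIso _ _ (tildeFinsupp _) (tildeFinsupp _) ?_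
    simp only [g, F.map_preimage]
    simp
  let e1 : F.obj (cokernel g) ≅ N := PreservesCokernel.iso F g ≪≫ iso ≪≫
    IsColimit.coconePointUniqueUpToIso (colimit.isColimit _) P.isColimit
  let e2 : cokernel g ≅ (modulesSpecToSheaf.obj N).presheaf.obj (op ⊤) :=
    tilde.isoTop (cokernel g) ≪≫ moduleSpecΓFunctor.mapIso e1
  have := finitePresentation_cokernel g
  exact Module.FinitePresentation.of_equiv e2.toLinearEquiv

end FP

section FP2

variable {X : Scheme.{u}}

/-- `Γ(M.restrict fromSpec, ⊤) ≃ₗ[Γ(X,U)] Γ(M,U)` for an affine open `U`. -/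
noncomputable def chartSectionsEquiv {U : X.Opens} (hU : IsAffineOpen U) (M : X.Modules) :
    ((modulesSpecToSheaf.obj (M.restrict hU.fromSpec)).presheaf.obj (op ⊤)) ≃ₗ[Γ(X, U)]
      Γ(M, U) :=
  LinearEquiv.ofBijective
    { toFun := fun n => M.presheaf.map (homOfLE (QS.le_image_top hU)).op (toSec hU M ⊤ n)
      map_add' := fun a b => by rw [toSec_add, map_add]
      map_smul' := fun r n => by
        rw [toSec_smul, Scheme.Modules.map_smul, res_res_self]
        rfl }
    ⟨fun a b hab => by
      have h1 := congrArg (M.presheaf.map (homOfLE (QS.image_le hU ⊤)).op) hab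
      change M.presheaf.map _ (M.presheaf.map _ (toSec hU M ⊤ a)) =
        M.presheaf.map _ (M.presheaf.map _ (toSec hU M ⊤ b)) at h1
      rw [mod_res_res_self, mod_res_res_self] at h1
      exact h1,
    fun m => ⟨M.presheaf.map (homOfLE (QS.image_le hU ⊤)).op m, mod_res_res_self M _ _ m⟩⟩

theorem finitePresentation_sections_of_presentation {U : X.Opens} (hU : IsAffineOpen U)
    (M : X.Modules) (P : (M.restrict U.ι).Presentation) [P.IsFinite] :
    Module.FinitePresentation Γ(X, U) Γ(M, U) := by
  have := finitePresentation_of_presentation (M.restrict hU.fromSpec) (presToChart hU P)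
  exact Module.FinitePresentation.of_equiv (chartSectionsEquiv hU M)

set_option backward.isDefEq.respectTransparency false in
/-- A finitely presented module on `Spec R` has a finitely presented module of global
sections. -/
theorem finitePresentation_of_isFinitePresentation {R : CommRingCat.{u}} (N : (Spec R).Modules)
    [SheafOfModules.IsFinitePresentation (R := (Spec R).ringCatSheaf) N] :
    Module.FinitePresentation R ((modulesSpecToSheaf.obj N).presheaf.obj (op ⊤)) := by
  let t : Set R := {f | Module.FinitePresentation Γ(Spec R, PrimeSpectrum.basicOpen f)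
    Γ(N, PrimeSpectrum.basicOpen f)}
  have ht : Ideal.span t = ⊤ := by
    by_contra hne
    obtain ⟨m, hm, hle⟩ := Ideal.exists_le_maximal _ hne
    let x : Spec R := ⟨m, hm.isPrime⟩
    obtain ⟨U, hU, hxU, P, hP⟩ := QCLocal.exists_affine_presentation N x
    obtain ⟨_, ⟨_, ⟨f, rfl⟩, rfl⟩, hxf, hfU⟩ :=
      PrimeSpectrum.isBasis_basic_opens.exists_subset_of_mem_open hxU U.2
    let V : (Spec R).Opens := PrimeSpectrum.basicOpen f
    have hfU' : V ≤ U := hfU
    let P' := presRestrict U.ι ((Spec R).homOfLE hfU') V.ι (by simp) P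
    have hft : f ∈ t :=
      finitePresentation_sections_of_presentation (U := V) (IsAffineOpen.Spec_basicOpen f) N P'
    exact hxf (hle (Ideal.subset_span hft))
  have hloc : IsLocalizing (modulesSpecToSheaf.obj N) := by
    rw [← isIso_fromTildeΓ_iff_isLocalizing]; infer_instance
  let φ (g : R) := ((modulesSpecToSheaf.obj N).obj.map (PrimeSpectrum.basicOpen g).leTop.op).hom
  have hφ : ∀ g : t, IsLocalizedModule (Submonoid.powers g.1) (φ g.1) := fun g => hloc g.1
  let _i1 : ∀ g : t, Module Γ(Spec R, PrimeSpectrum.basicOpen g.1)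
      ((modulesSpecToSheaf.obj N).obj.obj (op (PrimeSpectrum.basicOpen g.1))) := fun g =>
    (inferInstance : Module Γ(Spec R, PrimeSpectrum.basicOpen g.1)
      Γ(N, PrimeSpectrum.basicOpen g.1))
  have _i2 : ∀ g : t, IsScalarTower R Γ(Spec R, PrimeSpectrum.basicOpen g.1)
      ((modulesSpecToSheaf.obj N).obj.obj (op (PrimeSpectrum.basicOpen g.1))) := fun g =>
    (inferInstance : IsScalarTower R Γ(Spec R, PrimeSpectrum.basicOpen g.1)
      Γ(N, PrimeSpectrum.basicOpen g.1))
  exact Module.FinitePresentation.of_localizationSpan' t ht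
    (Rₚ := fun g => Γ(Spec R, PrimeSpectrum.basicOpen g.1))
    (Mₚ := fun g => ((modulesSpecToSheaf.obj N).obj.obj (op (PrimeSpectrum.basicOpen g.1))))
    (ϕ := fun g => φ g.1)
    (h := fun g => g.2)

end FP2

end Groth.Agent.Lib.Helper3.QCTilde
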