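import Groth.Agent.Lib.Helper3.QCProps

set_option autoImplicit false
universe u
open CategoryTheory CategoryTheory.Limits AlgebraicGeometry TopologicalSpace Opposite
open Scheme.Modules

namespace Groth.Agent.Lib.Helper3.QCSec

variable {X : Scheme.{u}}

/-- restriction of sections of a module -/
noncomputable abbrev res (M : X.Modules) {A B : X.Opens} (h : A ≤ B) (s : Γ(M, B)) : Γ(M, A) :=
  M.presheaf.map (homOfLE h).op s

/-- restriction of functions -/
noncomputable abbrev rres (X : Scheme.{u}) {A B : X.Opens} (h : A ≤ B) (r : Γ(X, B)) : Γ(X, A) :=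
  X.presheaf.map (homOfLE h).op r

theorem res_res (M : X.Modules) {A B C : X.Opens} (hAB : A ≤ B) (hBC : B ≤ C) (s : Γ(M, C)) :
    res M hAB (res M hBC s) = res M (hAB.trans hBC) s :=
  ModBasic.map_map_apply M hAB hBC s

theorem rres_rres {A B C : X.Opens} (hAB : A ≤ B) (hBC : B ≤ C) (r : Γ(X, C)) :
    rres X hAB (rres X hBC r) = rres X (hAB.trans hBC) r := by
  change X.presheaf.map _ (X.presheaf.map _ r) = _
  rw [← ConcreteCategory.comp_apply, ← Functor.map_comp]
  rfl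

theorem res_smul (M : X.Modules) {A B : X.Opens} (h : A ≤ B) (r : Γ(X, B)) (s : Γ(M, B)) :
    res M h (r • s) = rres X h r • res M h s :=
  Scheme.Modules.map_smul M (homOfLE h) r s

theorem res_self (M : X.Modules) {A : X.Opens} (h : A ≤ A) (s : Γ(M, A)) : res M h s = s :=
  congr($(M.presheaf.map_id (op A)) s)

theorem rres_self {A : X.Opens} (h : A ≤ A) (r : Γ(X, A)) : rres X h r = r :=
  congr($(X.presheaf.map_id (op A)) r)

/-- `Γ(M,W)` is the localization of `Γ(M,U)` at `g` (elementwise form). -/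
structure IsLocSec (M : X.Modules) (U W : X.Opens) (hWU : W ≤ U) (g : Γ(X, U)) : Prop where
  surj : ∀ t : Γ(M, W), ∃ (n : ℕ) (s : Γ(M, U)), res M hWU s = (rres X hWU g) ^ n • t
  inj : ∀ s : Γ(M, U), res M hWU s = 0 → ∃ n : ℕ, g ^ n • s = 0

theorem isLocSec_of_isQuasicoherent (M : X.Modules) [M.IsQuasicoherent] {U : X.Opens}
    (hU : IsAffineOpen U) (g : Γ(X, U)) (W : X.Opens) (hW : W = X.basicOpen g) (hWU : W ≤ U) :
    IsLocSec M U W hWU g := by
  obtain rfl : W = hU.fromSpec ''ᵁ (PrimeSpectrum.basicOpen g) :=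
    hW.trans (hU.fromSpec_image_basicOpen g).symm
  constructor
  · intro t
    obtain ⟨k, m, hkm⟩ := QS.exists_pow_smul_eq_res hU M g t
    refine ⟨k, m, ?_⟩
    change _ = (X.presheaf.map _ g) ^ k • t
    rw [← map_pow]
    exact hkm.symm
  · intro s hs
    exact QS.exists_pow_smul_eq_zero hU M g s hs


theorem toSec_res {U : X.Opens} (hU : IsAffineOpen U) (M : X.Modules)
    (V : (Spec Γ(X, U)).Opens)
    (y : ((modulesSpecToSheaf.obj (M.restrict hU.fromSpec)).presheaf.obj (op ⊤))) :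
    QCTilde.toSec hU M V
      (((modulesSpecToSheaf.obj (M.restrict hU.fromSpec)).obj.map V.leTop.op).hom y) =
    res M (Scheme.Hom.image_mono hU.fromSpec le_top) (QCTilde.toSec hU M ⊤ y) := rfl

/-- inverse identity cast of `toSec` -/
def fromSec {U : X.Opens} (hU : IsAffineOpen U) (M : X.Modules) (V : (Spec Γ(X, U)).Opens)
    (t : Γ(M, hU.fromSpec ''ᵁ V)) :
    ((modulesSpecToSheaf.obj (M.restrict hU.fromSpec)).presheaf.obj (op V)) := t

theorem toSec_fromSec {U : X.Opens} (hU : IsAffineOpen U) (M : X.Modules)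
    (V : (Spec Γ(X, U)).Opens) (t : Γ(M, hU.fromSpec ''ᵁ V)) :
    QCTilde.toSec hU M V (fromSec hU M V t) = t := rfl

/-- Criterion for quasi-coherence on the chart of an affine open `U`: all the restrictions to basic
opens are localizations. -/
theorem isQuasicoherent_chart_of_isLocSec (M : X.Modules) {U : X.Opens} (hU : IsAffineOpen U)
    (h : ∀ g : Γ(X, U), IsLocSec M U (hU.fromSpec ''ᵁ (PrimeSpectrum.basicOpen g))
      (QS.image_le hU _) g) :
    (M.restrict hU.fromSpec).IsQuasicoherent := by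
  rw [isQuasicoherent_iff_isIso_fromTildeΓ, isIso_fromTildeΓ_iff_isLocalizing]
  intro g
  refine IsLocalizedModule.Away.mk_of_addCommGroup ?_ ?_ ?_
  · exact Scheme.Modules.isUnit_algebraMap_end_of_le_basicOpen g le_rfl
  · intro x
    obtain ⟨n, s, hs⟩ := (h g).surj (QCTilde.toSec hU M _ x)
    refine ⟨n, fromSec hU M ⊤ (res M (QS.image_le hU ⊤) s), ?_⟩
    change QCTilde.toSec hU M _ (g ^ n • x) = QCTilde.toSec hU M _ _
    rw [toSec_res, toSec_fromSec, res_res, QCTilde.toSec_smul, hs]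
    change (X.presheaf.map _ (g ^ n)) • _ = (X.presheaf.map _ g) ^ n • _
    rw [map_pow]
  · intro x hx
    have hx' : QCTilde.toSec hU M _
        (((modulesSpecToSheaf.obj (M.restrict hU.fromSpec)).obj.map
          (PrimeSpectrum.basicOpen g).leTop.op).hom x) = 0 := by
      rw [hx]; rfl
    rw [toSec_res] at hx'
    have h2 : res M (QS.image_le hU (PrimeSpectrum.basicOpen g))
        (QCTilde.chartSectionsEquiv hU M x) = 0 := by
      have : QCTilde.chartSectionsEquiv hU M x =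
          res M (QS.le_image_top hU) (QCTilde.toSec hU M ⊤ x) := rfl
      rw [this, res_res]
      exact hx'
    obtain ⟨n, hn⟩ := (h g).inj _ h2
    refine ⟨n, ?_⟩
    apply (QCTilde.chartSectionsEquiv hU M).injective
    rw [_root_.map_smul, hn, _root_.map_zero]


theorem rres_pow {A B : X.Opens} (h : A ≤ B) (r : Γ(X, B)) (n : ℕ) :
    rres X h (r ^ n) = (rres X h r) ^ n := map_pow _ r n

theorem res_zero (M : X.Modules) {A B : X.Opens} (h : A ≤ B) : res M h (0 : Γ(M, B)) = 0 :=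
  _root_.map_zero _

theorem res_sub (M : X.Modules) {A B : X.Opens} (h : A ≤ B) (a b : Γ(M, B)) :
    res M h (a - b) = res M h a - res M h b := _root_.map_sub _ a b

theorem res_pow_smul (M : X.Modules) {A B : X.Opens} (h : A ≤ B) (r : Γ(X, B)) (n : ℕ)
    (s : Γ(M, B)) : res M h (r ^ n • s) = (rres X h r) ^ n • res M h s := by
  rw [res_smul, rres_pow]

theorem exists_finite_affine_cover (V : X.Opens) (hV : IsCompact (V : Set X)) :
    ∃ (ι : Type u) (_ : Finite ι) (U : ι → X.Opens), (∀ i, IsAffineOpen (U i)) ∧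
      (∀ i, U i ≤ V) ∧ V ≤ ⨆ i, U i := by
  let J := {U : X.Opens // IsAffineOpen U ∧ U ≤ V}
  have hcov : (V : Set X) ⊆ ⋃ j : J, (j.1 : Set X) := by
    intro x hx
    obtain ⟨U, hU, hxU, hUV⟩ := Opens.isBasis_iff_nbhd.mp X.isBasis_affineOpens
      (show x ∈ V from hx)
    exact Set.mem_iUnion.mpr ⟨⟨U, hU, hUV⟩, hxU⟩
  obtain ⟨t, ht⟩ := hV.elim_finite_subcover (fun j : J => (j.1 : Set X)) (fun j => j.1.2) hcov
  refine ⟨t, inferInstance, fun i => i.1.1, fun i => i.1.2.1, fun i => i.1.2.2, ?_⟩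
  intro x hx
  obtain ⟨j, hj, hxj⟩ := Set.mem_iUnion₂.mp (ht hx)
  exact Opens.mem_iSup.mpr ⟨⟨j, hj⟩, hxj⟩

/-- A section of a quasi-coherent module over a quasi-compact open `V` vanishing on `V ∩ X_g` is
killed by a power of `g`. -/
theorem inj_of_isCompact (M : X.Modules) [M.IsQuasicoherent] {V : X.Opens}
    (hV : IsCompact (V : Set X)) (g : Γ(X, V)) {W : X.Opens} (hW : W = X.basicOpen g)
    (hWV : W ≤ V) (s : Γ(M, V)) (hs : res M hWV s = 0) : ∃ n : ℕ, g ^ n • s = 0 := by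
  obtain ⟨ι, hι, U, hUa, hUV, hcov⟩ := exists_finite_affine_cover V hV
  have key : ∀ i, ∃ n : ℕ, (rres X (hUV i) g) ^ n • res M (hUV i) s = 0 := by
    intro i
    have hWi : U i ⊓ W = X.basicOpen (rres X (hUV i) g) := by
      rw [hW]; exact (Scheme.basicOpen_res X g (homOfLE (hUV i)).op).symm
    have hloc := isLocSec_of_isQuasicoherent M (hUa i) (rres X (hUV i) g) (U i ⊓ W) hWi
      inf_le_left
    apply hloc.inj
    rw [res_res]
    have : res M ((inf_le_left : U i ⊓ W ≤ U i).trans (hUV i)) s =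
        res M (inf_le_right : U i ⊓ W ≤ W) (res M hWV s) := (res_res M _ _ s).symm
    rw [this, hs, res_zero]
  choose n hn using key
  have := Fintype.ofFinite ι
  refine ⟨Finset.univ.sup n, ?_⟩
  apply TopCat.Sheaf.eq_of_locally_eq' ⟨M.presheaf, M.isSheaf⟩ U V (fun i => homOfLE (hUV i))
    hcov
  intro i
  have hle : n i ≤ Finset.univ.sup n := Finset.le_sup (Finset.mem_univ i)
  change res M (hUV i) (g ^ (Finset.univ.sup n) • s) = res M (hUV i) 0
  rw [res_pow_smul, res_zero, ← Nat.sub_add_cancel hle, pow_add, mul_smul, hn i, smul_zero]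


/-- A section of a quasi-coherent module over `V ∩ X_g`, `V` quasi-compact and quasi-separated,
extends to `V` after multiplication by a power of `g`. -/
theorem surj_of_isCompact (M : X.Modules) [M.IsQuasicoherent] {V : X.Opens}
    (hV : IsCompact (V : Set X))
    (hqs : ∀ U U' : X.Opens, IsAffineOpen U → IsAffineOpen U' → U ≤ V → U' ≤ V →
      IsCompact ((U ⊓ U' : X.Opens) : Set X))
    (g : Γ(X, V)) {W : X.Opens} (hW : W = X.basicOpen g) (hWV : W ≤ V) (t : Γ(M, W)) :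
    ∃ (n : ℕ) (s : Γ(M, V)), res M hWV s = (rres X hWV g) ^ n • t := by
  obtain ⟨ι, hι, U, hUa, hUV, hcov⟩ := exists_finite_affine_cover V hV
  have := Fintype.ofFinite ι
  have hWi : ∀ i, U i ⊓ W = X.basicOpen (rres X (hUV i) g) := fun i => by
    rw [hW]; exact (Scheme.basicOpen_res X g (homOfLE (hUV i)).op).symm
  have key : ∀ i, ∃ (n : ℕ) (s : Γ(M, U i)), res M (inf_le_left : U i ⊓ W ≤ U i) s =
      (rres X ((inf_le_left : U i ⊓ W ≤ U i).trans (hUV i)) g) ^ n •
        res M (inf_le_right : U i ⊓ W ≤ W) t := by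
    intro i
    obtain ⟨n, s, h⟩ := (isLocSec_of_isQuasicoherent M (hUa i) (rres X (hUV i) g) (U i ⊓ W)
      (hWi i) inf_le_left).surj (res M inf_le_right t)
    exact ⟨n, s, by rw [h, rres_rres]⟩
  choose n s₀ hs₀ using key
  let N := Finset.univ.sup n
  have hN : ∀ i, n i ≤ N := fun i => Finset.le_sup (Finset.mem_univ i)
  obtain ⟨s₁, hs₁d⟩ : ∃ s₁ : ∀ i, Γ(M, U i),
      ∀ i, s₁ i = (rres X (hUV i) g) ^ (N - n i) • s₀ i := ⟨_, fun i => rfl⟩
  have hs₁ : ∀ i, res M (inf_le_left : U i ⊓ W ≤ U i) (s₁ i) =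
      (rres X ((inf_le_left : U i ⊓ W ≤ U i).trans (hUV i)) g) ^ N •
        res M (inf_le_right : U i ⊓ W ≤ W) t := by
    intro i
    rw [hs₁d i, res_pow_smul, rres_rres, hs₀ i, ← mul_smul, ← pow_add, Nat.sub_add_cancel (hN i)]
  have key2 : ∀ i j, ∃ m : ℕ,
      (rres X ((inf_le_left : U i ⊓ U j ≤ U i).trans (hUV i)) g) ^ m •
        (res M (inf_le_left : U i ⊓ U j ≤ U i) (s₁ i) -
          res M (inf_le_right : U i ⊓ U j ≤ U j) (s₁ j)) = 0 := by
    intro i j
    have hij : (U i ⊓ U j) ⊓ W =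
        X.basicOpen (rres X ((inf_le_left : U i ⊓ U j ≤ U i).trans (hUV i)) g) := by
      rw [hW]; exact (Scheme.basicOpen_res X g (homOfLE _).op).symm
    apply inj_of_isCompact M (hqs _ _ (hUa i) (hUa j) (hUV i) (hUV j))
      (rres X ((inf_le_left : U i ⊓ U j ≤ U i).trans (hUV i)) g) hij inf_le_left
    rw [res_sub, res_res, res_res]
    have e1 : res M ((inf_le_left : (U i ⊓ U j) ⊓ W ≤ U i ⊓ U j).trans inf_le_left) (s₁ i) =
        res M (le_inf (inf_le_left.trans inf_le_left) inf_le_right :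
          (U i ⊓ U j) ⊓ W ≤ U i ⊓ W) (res M inf_le_left (s₁ i)) := (res_res M _ _ _).symm
    have e2 : res M ((inf_le_left : (U i ⊓ U j) ⊓ W ≤ U i ⊓ U j).trans inf_le_right) (s₁ j) =
        res M (le_inf (inf_le_left.trans inf_le_right) inf_le_right :
          (U i ⊓ U j) ⊓ W ≤ U j ⊓ W) (res M inf_le_left (s₁ j)) := (res_res M _ _ _).symm
    rw [e1, e2, hs₁ i, hs₁ j, res_pow_smul, res_pow_smul, rres_rres, rres_rres, res_res,
      res_res, sub_self]
  choose m hm using key2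
  let M₀ := Finset.univ.sup (fun p : ι × ι => m p.1 p.2)
  have hM₀ : ∀ i j, m i j ≤ M₀ := fun i j =>
    Finset.le_sup (f := fun p : ι × ι => m p.1 p.2) (Finset.mem_univ (i, j))
  obtain ⟨s₂, hs₂d⟩ : ∃ s₂ : ∀ i, Γ(M, U i),
      ∀ i, s₂ i = (rres X (hUV i) g) ^ M₀ • s₁ i := ⟨_, fun i => rfl⟩
  have hcompat : TopCat.Presheaf.IsCompatible M.presheaf U s₂ := by
    intro i j
    change res M (inf_le_left : U i ⊓ U j ≤ U i) (s₂ i) =
      res M (inf_le_right : U i ⊓ U j ≤ U j) (s₂ j)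
    rw [← sub_eq_zero, hs₂d i, hs₂d j, res_pow_smul, res_pow_smul, rres_rres, rres_rres, ← smul_sub,
      ← Nat.sub_add_cancel (hM₀ i j), pow_add, mul_smul, hm i j, smul_zero]
  obtain ⟨s, hs, -⟩ := TopCat.Sheaf.existsUnique_gluing' ⟨M.presheaf, M.isSheaf⟩ U V
    (fun i => homOfLE (hUV i)) hcov s₂ hcompat
  refine ⟨N + M₀, s, ?_⟩
  have hcovW : W ≤ ⨆ i, U i ⊓ W := by
    calc W = V ⊓ W := (inf_eq_right.mpr hWV).symm
      _ ≤ (⨆ i, U i) ⊓ W := inf_le_inf_right W hcov
      _ = ⨆ i, U i ⊓ W := iSup_inf_eq U W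
  apply TopCat.Sheaf.eq_of_locally_eq' ⟨M.presheaf, M.isSheaf⟩ (fun i => U i ⊓ W) W
    (fun i => homOfLE inf_le_right) hcovW
  intro i
  change res M (inf_le_right : U i ⊓ W ≤ W) (res M hWV s) =
    res M (inf_le_right : U i ⊓ W ≤ W) ((rres X hWV g) ^ (N + M₀) • t)
  have e3 : res M (inf_le_right : U i ⊓ W ≤ W) (res M hWV s) =
      res M (inf_le_left : U i ⊓ W ≤ U i) (res M (hUV i) s) := by rw [res_res, res_res]
  have hsi : res M (hUV i) s = s₂ i := hs i
  rw [e3, hsi, hs₂d i, res_pow_smul, hs₁ i, res_pow_smul, rres_rres, rres_rres, ← mul_smul, ← pow_add, add_comm]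

theorem isLocSec_of_isCompact (M : X.Modules) [M.IsQuasicoherent] {V : X.Opens}
    (hV : IsCompact (V : Set X)) (hqs : IsQuasiSeparated (V : Set X))
    (g : Γ(X, V)) {W : X.Opens} (hW : W = X.basicOpen g) (hWV : W ≤ V) :
    IsLocSec M V W hWV g where
  surj := surj_of_isCompact M hV (fun U U' hU hU' hUV hU'V =>
    hqs (U : Set X) (U' : Set X) hUV U.2 hU.isCompact hU'V U'.2 hU'.isCompact) g hW hWV
  inj := inj_of_isCompact M hV g hW hWV

end Groth.Agent.Lib.Helper3.QCSec
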