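import Groth.Agent.Lib.Helper3.RelAmpleLib

set_option autoImplicit false
universe u
open CategoryTheory CategoryTheory.Limits AlgebraicGeometry TopologicalSpace Opposite
open Scheme.Modules

namespace Groth.Agent.Lib.Helper3.PbBasic

open QCSec InvGen

variable {X Y : Scheme.{u}}

instance final_opensMap (f : X ⟶ Y) : (Opens.map f.base).Final := by
  apply Functor.final_of_exists_of_isFiltered
  · intro d
    exact ⟨⊤, ⟨homOfLE (fun _ _ => trivial)⟩⟩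
  · intro d c s s'
    exact ⟨c, 𝟙 _, Subsingleton.elim _ _⟩

set_option backward.isDefEq.respectTransparency.types false in
/-- `f^* O_Y ⟶ O_X` -/
noncomputable def pbUnitHom (f : X ⟶ Y) :
    (Scheme.Modules.pullback f).obj (Coh.structureModule Y) ⟶ Coh.structureModule X :=
  SheafOfModules.pullbackObjUnitToUnit f.toRingCatSheafHom

set_option backward.isDefEq.respectTransparency.types false in
instance (f : X ⟶ Y) : IsIso (pbUnitHom f) :=
  SheafOfModules.instIsIsoPullbackObjUnitToUnitOfFinal _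

/-- `f^* O_Y ≅ O_X` -/
noncomputable def pbUnit (f : X ⟶ Y) :
    (Scheme.Modules.pullback f).obj (Coh.structureModule Y) ≅ Coh.structureModule X :=
  asIso (pbUnitHom f)

/-- pullback of sections -/
noncomputable def pull (f : X ⟶ Y) (M : Y.Modules) (V : Y.Opens) (σ : Γ(M, V)) :
    Γ((Scheme.Modules.pullback f).obj M, f ⁻¹ᵁ V) :=
  ((pullbackPushforwardAdjunction f).unit.app M).app V σ

theorem pull_smul (f : X ⟶ Y) (M : Y.Modules) (V : Y.Opens) (a : Γ(Y, V)) (σ : Γ(M, V)) :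
    pull f M V (a • σ) = (f.app V a) • pull f M V σ := by
  unfold pull
  rw [Scheme.Modules.Hom.app_smul]
  rfl

theorem res_pull (f : X ⟶ Y) (M : Y.Modules) {V' V : Y.Opens} (h : V' ≤ V) (σ : Γ(M, V)) :
    res _ (show f ⁻¹ᵁ V' ≤ f ⁻¹ᵁ V from fun _ hx => h hx) (pull f M V σ) =
      pull f M V' (res M h σ) := by
  unfold pull
  exact (QCExact.app_res' ((pullbackPushforwardAdjunction f).unit.app M) h σ).symm

theorem pull_app (f : X ⟶ Y) {M N : Y.Modules} (φ : M ⟶ N) (V : Y.Opens) (σ : Γ(M, V)) :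
    ((Scheme.Modules.pullback f).map φ).app (f ⁻¹ᵁ V) (pull f M V σ) =
      pull f N V (φ.app V σ) := by
  unfold pull
  have h := (pullbackPushforwardAdjunction f).unit.naturality φ
  have h2 := congrArg (fun ψ => (Scheme.Modules.Hom.app ψ V) σ) h
  exact h2.symm

set_option backward.isDefEq.respectTransparency.types false in
theorem unit_pbUnitHom (f : X ⟶ Y) :
    (pullbackPushforwardAdjunction f).unit.app (Coh.structureModule Y) ≫
      (pushforward f).map (pbUnitHom f) =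
    SheafOfModules.unitToPushforwardObjUnit f.toRingCatSheafHom := by
  have h := SheafOfModules.pullbackPushforwardAdjunction_homEquiv_pullbackObjUnitToUnit
    f.toRingCatSheafHom
  rw [Adjunction.homEquiv_unit] at h
  exact h

theorem pbUnitHom_pull (f : X ⟶ Y) (V : Y.Opens) (a : Γ(Y, V)) :
    (pbUnitHom f).app (f ⁻¹ᵁ V) (pull f (Coh.structureModule Y) V (ofFun V a)) =
      ofFun (f ⁻¹ᵁ V) (f.app V a) := by
  have h := unit_pbUnitHom f
  have h2 := congrArg (fun ψ => (Scheme.Modules.Hom.app ψ V) (ofFun V a)) h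
  exact h2

/-- the pulled back global section -/
noncomputable def pullHom (f : X ⟶ Y) {M : Y.Modules} (s : Coh.structureModule Y ⟶ M) :
    Coh.structureModule X ⟶ (Scheme.Modules.pullback f).obj M :=
  (pbUnit f).inv ≫ (Scheme.Modules.pullback f).map s

theorem sec_pbUnit_inv (f : X ⟶ Y) (V : Y.Opens) :
    sec (pbUnit f).inv (f ⁻¹ᵁ V) = pull f (Coh.structureModule Y) V (ofFun V 1) := by
  have h := pbUnitHom_pull f V 1
  have h2 := congrArg ((pbUnit f).inv.app (f ⁻¹ᵁ V)) h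
  rw [show pbUnitHom f = (pbUnit f).hom from rfl, InvMonoidal.iso_inv_hom_app] at h2
  rw [h2, map_one]
  rfl

theorem sec_pullHom (f : X ⟶ Y) {M : Y.Modules} (s : Coh.structureModule Y ⟶ M) (V : Y.Opens) :
    sec (pullHom f s) (f ⁻¹ᵁ V) = pull f M V (sec s V) := by
  unfold pullHom
  rw [sec_comp, sec_pbUnit_inv, pull_app]
  rfl

section Restrict

variable (f : X ⟶ Y) (V : Y.Opens)

noncomputable def adj₁ : Scheme.Modules.pullback f ⋙ restrictFunctor (f ⁻¹ᵁ V).ι ⊣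
    pushforward (f ⁻¹ᵁ V).ι ⋙ pushforward f :=
  (pullbackPushforwardAdjunction f).comp (restrictAdjunction (f ⁻¹ᵁ V).ι)

noncomputable def adj₂ : restrictFunctor V.ι ⋙ Scheme.Modules.pullback (f ∣_ V) ⊣
    pushforward (f ∣_ V) ⋙ pushforward V.ι :=
  (restrictAdjunction V.ι).comp (pullbackPushforwardAdjunction (f ∣_ V))

noncomputable def isoG : pushforward (f ⁻¹ᵁ V).ι ⋙ pushforward f ≅
    pushforward (f ∣_ V) ⋙ pushforward V.ι :=
  pushforwardComp _ _ ≪≫ pushforwardCongr (morphismRestrict_ι f V).symm ≪≫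
    (pushforwardComp _ _).symm

/-- pullback commutes with restriction to opens -/
noncomputable def pbRestrict : Scheme.Modules.pullback f ⋙ restrictFunctor (f ⁻¹ᵁ V).ι ≅
    restrictFunctor V.ι ⋙ Scheme.Modules.pullback (f ∣_ V) :=
  ((adj₁ f V).ofNatIsoRight (isoG f V)).leftAdjointUniq (adj₂ f V)

theorem preimage_morphismRestrict (V₀ : Y.Opens) :
    (f ∣_ V) ⁻¹ᵁ (V.ι ⁻¹ᵁ V₀) = (f ⁻¹ᵁ V).ι ⁻¹ᵁ (f ⁻¹ᵁ V₀) := by
  change ((f ∣_ V) ≫ V.ι) ⁻¹ᵁ V₀ = ((f ⁻¹ᵁ V).ι ≫ f) ⁻¹ᵁ V₀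
  rw [morphismRestrict_ι]

theorem adj₂_unit_app (M : Y.Modules) (V₀ : Y.Opens) (σ : Γ(M, V₀)) :
    (Scheme.Modules.Hom.app ((adj₂ f V).unit.app M) V₀) σ =
      pull (f ∣_ V) (M.restrict V.ι) (V.ι ⁻¹ᵁ V₀) (res M (V.ι.image_preimage_le V₀) σ) := by
  unfold adj₂
  rw [Adjunction.comp_unit_app]
  rfl

theorem adj₁_unit_app (M : Y.Modules) (V₀ : Y.Opens) (σ : Γ(M, V₀)) :
    (Scheme.Modules.Hom.app ((adj₁ f V).unit.app M) V₀) σ =
      res ((Scheme.Modules.pullback f).obj M) ((f ⁻¹ᵁ V).ι.image_preimage_le (f ⁻¹ᵁ V₀))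
        (pull f M V₀ σ) := by
  unfold adj₁
  rw [Adjunction.comp_unit_app]
  rfl

theorem pbRestrict_hom_pull (M : Y.Modules) (V₀ : Y.Opens) (σ : Γ(M, V₀))
    (hle : (f ⁻¹ᵁ V).ι ''ᵁ ((f ∣_ V) ⁻¹ᵁ (V.ι ⁻¹ᵁ V₀)) ≤ f ⁻¹ᵁ V₀) :
    ((pbRestrict f V).hom.app M).app ((f ∣_ V) ⁻¹ᵁ (V.ι ⁻¹ᵁ V₀))
      (res ((Scheme.Modules.pullback f).obj M) hle (pull f M V₀ σ)) =
    pull (f ∣_ V) (M.restrict V.ι) (V.ι ⁻¹ᵁ V₀) (res M (V.ι.image_preimage_le V₀) σ) := by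
  have h := Adjunction.unit_leftAdjointUniq_hom_app ((adj₁ f V).ofNatIsoRight (isoG f V))
    (adj₂ f V) M
  have h2 := congrArg (fun ψ => (Scheme.Modules.Hom.app ψ V₀) σ) h
  dsimp only at h2
  rw [adj₂_unit_app] at h2
  rw [← h2, Adjunction.ofNatIsoRight_unit]
  change _ = ((pbRestrict f V).hom.app M).app _
    ((Scheme.Modules.Hom.app ((isoG f V).hom.app _) V₀)
      ((Scheme.Modules.Hom.app ((adj₁ f V).unit.app M) V₀) σ))
  rw [adj₁_unit_app]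
  congr 1
  change _ = res ((Scheme.Modules.pullback f).obj M)
    (show (f ⁻¹ᵁ V).ι ''ᵁ ((f ∣_ V) ⁻¹ᵁ (V.ι ⁻¹ᵁ V₀)) ≤
      (f ⁻¹ᵁ V).ι ''ᵁ ((f ⁻¹ᵁ V).ι ⁻¹ᵁ (f ⁻¹ᵁ V₀)) from
        le_of_eq (congrArg _ (preimage_morphismRestrict f V V₀))) _
  rw [res_res]
  rfl

end Restrict

/-- an isomorphism `O_U ≅ L|_U` gives a generator -/
theorem isGen_of_isIso {L : X.Modules} {U : X.Opens}
    (ψ : Coh.structureModule (U : Scheme.{u}) ⟶ L.restrict U.ι) [IsIso ψ]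
    (W' : (U : Scheme.{u}).Opens) (hW' : U ≤ U.ι ''ᵁ W') :
    IsGen L U (res L hW' (show Γ(L, U.ι ''ᵁ W') from sec ψ W')) := by
  have hψ : ∀ V' : (U : Scheme.{u}).Opens, IsGenAt (L.restrict U.ι) V' (sec ψ V') := by
    intro V'
    rw [← bijective_app_iff]
    exact (ConcreteCategory.isIso_iff_bijective (ψ.app V')).mp inferInstance
  have hW'top : ∀ V'' : (U : Scheme.{u}).Opens, V'' ≤ W' := by
    intro V'' x _
    obtain ⟨y, hy, hyx⟩ := hW' x.2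
    have : y = x := Subtype.ext hyx
    rwa [this] at hy
  intro V hV
  have h1 := isGenAt_of_restrict L U (U.ι ⁻¹ᵁ V) _ (hψ (U.ι ⁻¹ᵁ V))
  have h2 := h1.of_eq (ι_image_preimage_of_le hV).symm
  have h3 : (show Γ(L, U.ι ''ᵁ (U.ι ⁻¹ᵁ V)) from sec ψ (U.ι ⁻¹ᵁ V)) =
      res L (Scheme.Hom.image_mono U.ι (hW'top _)) (show Γ(L, U.ι ''ᵁ W') from sec ψ W') :=
    (res_sec ψ (hW'top (U.ι ⁻¹ᵁ V))).symm
  rw [h3, res_res] at h2
  rw [res_res]
  exact h2

/-- the pullback of a local generator is a local generator -/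
theorem isGen_pull (f : X ⟶ Y) {M : Y.Modules} {V : Y.Opens} {e : Γ(M, V)} (hg : IsGen M V e) :
    IsGen ((Scheme.Modules.pullback f).obj M) (f ⁻¹ᵁ V) (pull f M V e) := by
  haveI := isIso_homOfSec hg
  haveI : IsIso (pullHom (f ∣_ V) (homOfSec M V e)) := by
    unfold pullHom
    infer_instance
  obtain ⟨ψ, hψ⟩ : ∃ ψ : Coh.structureModule ((f ⁻¹ᵁ V : X.Opens) : Scheme.{u}) ⟶
      ((Scheme.Modules.pullback f).obj M).restrict (f ⁻¹ᵁ V).ι,
      ψ = pullHom (f ∣_ V) (homOfSec M V e) ≫ (pbRestrict f V).inv.app M := ⟨_, rfl⟩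
  haveI : IsIso ψ := by rw [hψ]; infer_instance
  have hW' : f ⁻¹ᵁ V ≤ (f ⁻¹ᵁ V).ι ''ᵁ ((f ∣_ V) ⁻¹ᵁ (V.ι ⁻¹ᵁ V)) := by
    rw [preimage_morphismRestrict, ι_image_preimage_of_le le_rfl]
  have key := isGen_of_isIso ψ ((f ∣_ V) ⁻¹ᵁ (V.ι ⁻¹ᵁ V)) hW'
  have hsec : (show Γ((Scheme.Modules.pullback f).obj M,
      (f ⁻¹ᵁ V).ι ''ᵁ ((f ∣_ V) ⁻¹ᵁ (V.ι ⁻¹ᵁ V))) from sec ψ ((f ∣_ V) ⁻¹ᵁ (V.ι ⁻¹ᵁ V))) =
      res _ (show (f ⁻¹ᵁ V).ι ''ᵁ ((f ∣_ V) ⁻¹ᵁ (V.ι ⁻¹ᵁ V)) ≤ f ⁻¹ᵁ V from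
        (f ⁻¹ᵁ V).ι_image_le _) (pull f M V e) := by
    have h1 := pbRestrict_hom_pull f V M V e ((f ⁻¹ᵁ V).ι_image_le _)
    have h2 : sec (homOfSec M V e) (V.ι ⁻¹ᵁ V) = res M (V.ι.image_preimage_le V) e :=
      sec_homOfSec M V e (V.ι ⁻¹ᵁ V)
    have hs : sec ψ ((f ∣_ V) ⁻¹ᵁ (V.ι ⁻¹ᵁ V)) =
        ((pbRestrict f V).inv.app M).app ((f ∣_ V) ⁻¹ᵁ (V.ι ⁻¹ᵁ V))
          (pull (f ∣_ V) (M.restrict V.ι) (V.ι ⁻¹ᵁ V) (res M (V.ι.image_preimage_le V) e)) := by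
      rw [hψ, sec_comp, sec_pullHom, h2]
      rfl
    have h3 := congrArg (fun z => ((pbRestrict f V).inv.app M).app ((f ∣_ V) ⁻¹ᵁ (V.ι ⁻¹ᵁ V)) z) h1
    exact hs.trans (h3.symm.trans (InvMonoidal.iso_inv_hom_app ((pbRestrict f V).app M) _ _))
  rw [hsec, res_res, res_self] at key
  exact key

theorem isInvertible_pullback (f : X ⟶ Y) {L : Y.Modules} (hL : PicF.IsInvertible L) :
    PicF.IsInvertible ((Scheme.Modules.pullback f).obj L) := by
  apply isInvertible_of_isGen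
  intro x
  obtain ⟨V, e, hxV, hg⟩ := exists_isGen hL (f x)
  exact ⟨f ⁻¹ᵁ V, pull f L V e, hxV, isGen_pull f hg⟩

theorem genLocus_pullHom (f : X ⟶ Y) {L : Y.Modules} (hL : PicF.IsInvertible L)
    (s : Coh.structureModule Y ⟶ L) :
    CohB1.genLocus ((Scheme.Modules.pullback f).obj L) (pullHom f s) =
      f ⁻¹ᵁ CohB1.genLocus L s := by
  have key : ∀ x : X, ∃ V : Y.Opens, f x ∈ V ∧
      CohB1.genLocus ((Scheme.Modules.pullback f).obj L) (pullHom f s) ⊓ f ⁻¹ᵁ V =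
        f ⁻¹ᵁ (CohB1.genLocus L s ⊓ V) := by
    intro x
    obtain ⟨V, e, hxV, hg⟩ := exists_isGen hL (f x)
    obtain ⟨a, ha⟩ := hg.self.exists_coord (sec s V)
    refine ⟨V, hxV, ?_⟩
    rw [genLocus_inf_eq_basicOpen s hg a ha.symm,
      genLocus_inf_eq_basicOpen (pullHom f s) (isGen_pull f hg) (f.app V a)
        (by rw [sec_pullHom, ← ha, pull_smul]),
      Scheme.preimage_basicOpen]
  ext x
  obtain ⟨V, hxV, hV⟩ := key x
  have h1 : x ∈ CohB1.genLocus ((Scheme.Modules.pullback f).obj L) (pullHom f s) ⊓ f ⁻¹ᵁ V ↔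
      x ∈ f ⁻¹ᵁ (CohB1.genLocus L s ⊓ V) := by rw [hV]
  constructor
  · intro hx
    exact (h1.mp ⟨hx, hxV⟩).1
  · intro hx
    exact (h1.mpr ⟨hx, hxV⟩).1

theorem genLocus_iso_comp {L : X.Modules} (α : Coh.structureModule X ⟶ Coh.structureModule X)
    [IsIso α] (s : Coh.structureModule X ⟶ L) :
    CohB1.genLocus L (α ≫ s) = CohB1.genLocus L s := by
  unfold CohB1.genLocus
  congr 1
  ext U
  simp only [Set.mem_ofPred_eq, Functor.map_comp]
  constructor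
  · intro h
    exact IsIso.of_isIso_comp_left ((Scheme.Modules.restrictFunctor U.ι).map α) _
  · intro h
    infer_instance

/-- S4413 -/
theorem genLocus_pullback (f : X ⟶ Y) {L : Y.Modules} (hL : PicF.IsInvertible L)
    (s : Coh.structureModule Y ⟶ L)
    (e : Coh.structureModule X ≅ (Scheme.Modules.pullback f).obj (Coh.structureModule Y)) :
    CohB1.genLocus ((Scheme.Modules.pullback f).obj L)
      (e.hom ≫ (Scheme.Modules.pullback f).map s) = f ⁻¹ᵁ CohB1.genLocus L s := by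
  rw [← genLocus_pullHom f hL s]
  have : e.hom ≫ (Scheme.Modules.pullback f).map s =
      (e.hom ≫ (pbUnit f).hom) ≫ pullHom f s := by
    unfold pullHom
    rw [Category.assoc, Iso.hom_inv_id_assoc]
  rw [this]
  exact genLocus_iso_comp _ _

end Groth.Agent.Lib.Helper3.PbBasic
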