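import Groth.Agent.Lib.Helper3.QCProps

/-!
# Quasi-coherent modules are closed under finite limits and small colimits
-/

set_option autoImplicit false
universe u
open CategoryTheory CategoryTheory.Limits AlgebraicGeometry TopologicalSpace Opposite
open Scheme.Modules

namespace Groth.Agent.Lib.Helper3.QCLim

variable {X : Scheme.{u}}

/-- A finite limit of quasi-coherent modules is quasi-coherent. -/
theorem isQuasicoherent_limit {K : Type} [SmallCategory K] [FinCategory K] (F : K ⥤ X.Modules)
    [HasLimit F] (hF : ∀ k, (F.obj k).IsQuasicoherent) :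
    SheafOfModules.IsQuasicoherent (R := X.ringCatSheaf) (limit F : X.Modules) := by
  apply QCProps.isQuasicoherent_of_charts
  intro x
  obtain ⟨U, hU, hxU⟩ := QCProps.exists_affine_nbhd x
  refine ⟨U, hU, hxU, ?_⟩
  haveI := Groth.Agent.Lib.Helper14.preservesFiniteLimits_tilde Γ(X, U)
  have h1 : ∀ k, ((F ⋙ restrictFunctor hU.fromSpec).obj k).IsQuasicoherent := fun k => by
    haveI := hF k
    exact Scheme.Modules.isQuasicoherent_restrictFunctor hU.fromSpec (F.obj k)
  have hk := Groth.Agent.Lib.Helper14.isQuasicoherent_limit (F ⋙ restrictFunctor hU.fromSpec) h1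
  exact (SheafOfModules.isQuasicoherent (Spec Γ(X, U)).ringCatSheaf).prop_of_iso
    (preservesLimitIso (restrictFunctor hU.fromSpec) F).symm hk

/-- A small colimit of quasi-coherent modules is quasi-coherent. -/
theorem isQuasicoherent_colimit {K : Type u} [SmallCategory K] (F : K ⥤ X.Modules)
    [HasColimit F] (hF : ∀ k, (F.obj k).IsQuasicoherent) :
    SheafOfModules.IsQuasicoherent (R := X.ringCatSheaf) (colimit F : X.Modules) := by
  apply QCProps.isQuasicoherent_of_charts
  intro x
  obtain ⟨U, hU, hxU⟩ := QCProps.exists_affine_nbhd x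
  refine ⟨U, hU, hxU, ?_⟩
  have h1 : ∀ k, ((F ⋙ restrictFunctor hU.fromSpec).obj k).IsQuasicoherent := fun k => by
    haveI := hF k
    exact Scheme.Modules.isQuasicoherent_restrictFunctor hU.fromSpec (F.obj k)
  have hk := Groth.Agent.Lib.Helper14.isQuasicoherent_colimit (F ⋙ restrictFunctor hU.fromSpec) h1
  exact (SheafOfModules.isQuasicoherent (Spec Γ(X, U)).ringCatSheaf).prop_of_iso
    (preservesColimitIso (restrictFunctor hU.fromSpec) F).symm hk

/-- A pullback of quasi-coherent modules is quasi-coherent. -/
theorem isQuasicoherent_pullback {A B C : X.Modules} (a : A ⟶ C) (b : B ⟶ C)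
    [A.IsQuasicoherent] [B.IsQuasicoherent] [C.IsQuasicoherent] :
    SheafOfModules.IsQuasicoherent (R := X.ringCatSheaf) (pullback a b : X.Modules) := by
  apply isQuasicoherent_limit
  rintro (_ | _ | _)
  · exact (inferInstance : C.IsQuasicoherent)
  · exact (inferInstance : A.IsQuasicoherent)
  · exact (inferInstance : B.IsQuasicoherent)

/-- A finite colimit of quasi-coherent modules is quasi-coherent. -/
theorem isQuasicoherent_finite_colimit {K : Type} [SmallCategory K] [FinCategory K]
    (F : K ⥤ X.Modules) [HasColimit F] (hF : ∀ k, (F.obj k).IsQuasicoherent) :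
    SheafOfModules.IsQuasicoherent (R := X.ringCatSheaf) (colimit F : X.Modules) := by
  apply QCProps.isQuasicoherent_of_charts
  intro x
  obtain ⟨U, hU, hxU⟩ := QCProps.exists_affine_nbhd x
  refine ⟨U, hU, hxU, ?_⟩
  have h1 : ∀ k, ((F ⋙ restrictFunctor hU.fromSpec).obj k).IsQuasicoherent := fun k => by
    haveI := hF k
    exact Scheme.Modules.isQuasicoherent_restrictFunctor hU.fromSpec (F.obj k)
  have hk := Groth.Agent.Lib.Helper14.isQuasicoherent_colimit (F ⋙ restrictFunctor hU.fromSpec) h1
  exact (SheafOfModules.isQuasicoherent (Spec Γ(X, U)).ringCatSheaf).prop_of_iso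
    (preservesColimitIso (restrictFunctor hU.fromSpec) F).symm hk

/-- A pushout of quasi-coherent modules is quasi-coherent. -/
theorem isQuasicoherent_pushout {A B C : X.Modules} (a : C ⟶ A) (b : C ⟶ B)
    [A.IsQuasicoherent] [B.IsQuasicoherent] [C.IsQuasicoherent] :
    SheafOfModules.IsQuasicoherent (R := X.ringCatSheaf) (pushout a b : X.Modules) := by
  apply isQuasicoherent_finite_colimit
  rintro (_ | _ | _)
  · exact (inferInstance : C.IsQuasicoherent)
  · exact (inferInstance : A.IsQuasicoherent)
  · exact (inferInstance : B.IsQuasicoherent)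

/-- A binary product of quasi-coherent modules is quasi-coherent. -/
theorem isQuasicoherent_prod (A B : X.Modules) [A.IsQuasicoherent] [B.IsQuasicoherent] :
    SheafOfModules.IsQuasicoherent (R := X.ringCatSheaf) (A ⨯ B : X.Modules) := by
  apply isQuasicoherent_limit
  rintro ⟨_ | _⟩
  · exact (inferInstance : A.IsQuasicoherent)
  · exact (inferInstance : B.IsQuasicoherent)

/-- A binary biproduct of quasi-coherent modules is quasi-coherent. -/
theorem isQuasicoherent_biprod (A B : X.Modules) [A.IsQuasicoherent] [B.IsQuasicoherent] :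
    SheafOfModules.IsQuasicoherent (R := X.ringCatSheaf) (A ⊞ B : X.Modules) := by
  have h := isQuasicoherent_prod A B
  exact (SheafOfModules.isQuasicoherent X.ringCatSheaf).prop_of_iso (biprod.isoProd A B).symm h

/-- A small coproduct of quasi-coherent modules is quasi-coherent. -/
theorem isQuasicoherent_sigma {ι : Type u} (f : ι → X.Modules) [∀ i, (f i).IsQuasicoherent] :
    SheafOfModules.IsQuasicoherent (R := X.ringCatSheaf) (∐ f : X.Modules) := by
  apply isQuasicoherent_colimit
  rintro ⟨i⟩
  exact (inferInstance : (f i).IsQuasicoherent)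

/-- The image of a morphism of quasi-coherent modules is quasi-coherent. -/
theorem isQuasicoherent_image {M N : X.Modules} (φ : M ⟶ N) [M.IsQuasicoherent]
    [N.IsQuasicoherent] :
    SheafOfModules.IsQuasicoherent (R := X.ringCatSheaf) (Abelian.image φ : X.Modules) := by
  haveI : (cokernel φ : X.Modules).IsQuasicoherent := QCProps.isQuasicoherent_cokernel φ
  exact QCProps.isQuasicoherent_kernel (cokernel.π φ)

end Groth.Agent.Lib.Helper3.QCLim
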