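import Groth.Agent.Lib.Helper3.QCPush
import Groth.Agent.Lib.Helper3.QCLim
import Mathlib.Algebra.Category.ModuleCat.Presheaf.Sheafification
import Mathlib.Algebra.Category.ModuleCat.Presheaf.Colimits
import Mathlib.Algebra.Category.ModuleCat.Sheaf.Abelian
import Mathlib.Algebra.Homology.ShortComplex.ModuleCat
import Mathlib.Algebra.Homology.ShortComplex.Ab
import Mathlib.Topology.Sheaves.LocallySurjective

/-!
# Exactness properties of sections of `X.Modules`

* `exists_local_lift`: an epimorphism of `O_X`-modules is locally surjective on sections.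
* `exact_sections`: sections are left exact.
-/

set_option autoImplicit false
universe u
open CategoryTheory CategoryTheory.Limits AlgebraicGeometry TopologicalSpace Opposite
open Scheme.Modules

namespace Groth.Agent.Lib.Helper3.QCExact

variable {X : Scheme.{u}}

section LocalLift

/-- The right adjoint of sheafification of presheaves of modules over `O_X`. -/
noncomputable abbrev Rt (X : Scheme.{u}) :
    SheafOfModules.{u} X.ringCatSheaf ⥤ PresheafOfModules.{u} X.ringCatSheaf.obj :=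
  SheafOfModules.forget X.ringCatSheaf ⋙ PresheafOfModules.restrictScalars (𝟙 X.ringCatSheaf.obj)

/-- Sheafification of presheaves of modules over `O_X`. -/
noncomputable abbrev aSh (X : Scheme.{u}) :
    PresheafOfModules.{u} X.ringCatSheaf.obj ⥤ SheafOfModules.{u} X.ringCatSheaf :=
  PresheafOfModules.sheafification (𝟙 X.ringCatSheaf.obj)

/-- The sheafification adjunction. -/
noncomputable abbrev adjSh (X : Scheme.{u}) : aSh X ⊣ Rt X :=
  PresheafOfModules.sheafificationAdjunction (𝟙 X.ringCatSheaf.obj)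

/-- The unit of the sheafification adjunction is locally injective (cf. Helper13.TensorLocal). -/
theorem locInj_unit (P : PresheafOfModules.{u} X.ringCatSheaf.obj) (U : X.Opens)
    (s : P.obj (op U)) (hs : ((adjSh X).unit.app P).app (op U) s = 0) :
    ∀ x ∈ U, ∃ (V : X.Opens) (hVU : V ≤ U), x ∈ V ∧ P.map (homOfLE hVU).op s = 0 := by
  have h1 : Presheaf.IsLocallyInjective (Opens.grothendieckTopology X)
      ((PresheafOfModules.toPresheaf _).map ((adjSh X).unit.app P)) := by
    rw [PresheafOfModules.toPresheaf_map_sheafificationAdjunction_unit_app]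
    exact (((Opens.grothendieckTopology X).W_iff_isLocallyBijective _).mp
      (GrothendieckTopology.W_toSheafify _ _)).1
  have h : ((PresheafOfModules.toPresheaf _).map ((adjSh X).unit.app P)).app (op U) s =
      ((PresheafOfModules.toPresheaf _).map ((adjSh X).unit.app P)).app (op U)
        (0 : P.obj (op U)) := by
    change ((adjSh X).unit.app P).app (op U) s = ((adjSh X).unit.app P).app (op U) 0
    rw [hs, map_zero]
  have hmem := Presheaf.equalizerSieve_mem (Opens.grothendieckTopology X)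
    ((PresheafOfModules.toPresheaf _).map ((adjSh X).unit.app P)) (X := op U) s
    (0 : P.obj (op U)) h
  intro x hx
  obtain ⟨V, g, hg, hxV⟩ := hmem x hx
  refine ⟨V, g.le, hxV, ?_⟩
  have h2 : P.map g.op s = P.map g.op (0 : P.obj (op U)) := hg
  rw [map_zero] at h2
  exact h2

/-- An epimorphism of `O_X`-modules is locally surjective on sections. -/
theorem exists_local_lift {G H : X.Modules} (φ : G ⟶ H) [Epi φ] (W : X.Opens) (s : Γ(H, W))
    (x : X) (hx : x ∈ W) :
    ∃ (W' : X.Opens) (hW' : W' ≤ W) (_ : x ∈ W') (t : Γ(G, W')),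
      φ.app W' t = H.presheaf.map (homOfLE hW').op s := by
  let ψ : (Rt X).obj G ⟶ (Rt X).obj H := (Rt X).map φ
  let π := cokernel.π ψ
  -- `a ψ` is an epimorphism
  have hnat : (aSh X).map ψ ≫ (adjSh X).counit.app H = (adjSh X).counit.app G ≫ φ :=
    (adjSh X).counit.naturality φ
  haveI hεG : IsIso ((adjSh X).counit.app G) := inferInstance
  haveI hεH : IsIso ((adjSh X).counit.app H) := inferInstance
  have hEpi : Epi ((aSh X).map ψ) := by
    have h1 : (aSh X).map ψ = ((adjSh X).counit.app G ≫ φ) ≫ inv ((adjSh X).counit.app H) := by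
      rw [← hnat, Category.assoc, IsIso.hom_inv_id, Category.comp_id]
    rw [h1]
    haveI : Epi ((adjSh X).counit.app G ≫ φ) := @epi_comp _ _ _ _ _ _ inferInstance _ ‹Epi φ›
    exact epi_comp _ _
  have hzero : (aSh X).map π = 0 := by
    have h1 : (aSh X).map ψ ≫ (aSh X).map π = 0 := by
      rw [← Functor.map_comp, cokernel.condition, Functor.map_zero]
    rw [← cancel_epi ((aSh X).map ψ), h1, comp_zero]
  have hZ : IsZero ((aSh X).obj (cokernel ψ)) := by
    haveI : Epi ((aSh X).map π) := inferInstance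
    exact IsZero.of_epi_eq_zero _ hzero
  -- sections of the sheafified cokernel vanish
  have hsub : Subsingleton (((Rt X).obj ((aSh X).obj (cokernel ψ))).obj (op W)) :=
    ModBasic.subsingleton_of_isZero (X := X) (M := (aSh X).obj (cokernel ψ)) hZ W
  have hs : ((adjSh X).unit.app (cokernel ψ)).app (op W) (π.app (op W) s) = 0 :=
    @Subsingleton.elim _ hsub _ _
  obtain ⟨V, hVW, hxV, hV⟩ := locInj_unit (cokernel ψ) W (π.app (op W) s) hs x hx
  -- exactness of the evaluated cokernel sequence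
  let S : ShortComplex (PresheafOfModules.{u} X.ringCatSheaf.obj) :=
    ShortComplex.mk ψ π (cokernel.condition ψ)
  have hS : S.Exact := ShortComplex.exact_cokernel ψ
  have hS' : (S.map (PresheafOfModules.evaluation _ (op V))).Exact :=
    hS.map_of_epi_of_preservesCokernel _ (inferInstanceAs (Epi (cokernel.π ψ))) inferInstance
  rw [ShortComplex.moduleCat_exact_iff] at hS'
  have hnatπ : π.app (op V) (((Rt X).obj H).map (homOfLE hVW).op s) =
      (cokernel ψ).map (homOfLE hVW).op (π.app (op W) s) :=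
    PresheafOfModules.naturality_apply π (homOfLE hVW).op s
  obtain ⟨t, ht⟩ := hS' (((Rt X).obj H).map (homOfLE hVW).op s) (hnatπ.trans hV)
  exact ⟨V, hVW, hxV, t, ht⟩

end LocalLift

section LeftExact

/-- Sections over an open, as a functor to abelian groups. -/
noncomputable abbrev secFunctor (W : X.Opens) : X.Modules ⥤ Ab.{u} :=
  Scheme.Modules.toPresheaf X ⋙ (evaluation _ _).obj (op W)

instance (W : X.Opens) : (secFunctor (X := X) W).PreservesZeroMorphisms := ⟨fun _ _ => rfl⟩

instance (W : X.Opens) : PreservesLimitsOfSize.{u, u} (secFunctor (X := X) W) := by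
  have h2 : PreservesLimitsOfSize.{u, u} ((evaluation (Opens X)ᵒᵖ Ab.{u}).obj (op W)) :=
    inferInstance
  have h1 : PreservesLimitsOfSize.{u, u} (Scheme.Modules.toPresheaf X) := inferInstance
  exact @comp_preservesLimits _ _ _ _ _ _ _ _ h1 h2

instance (W : X.Opens) : PreservesFiniteLimits (secFunctor (X := X) W) :=
  PreservesLimitsOfSize.preservesFiniteLimits _

/-- Left exactness of sections. -/
theorem exact_sections (S : ShortComplex X.Modules) (hS : S.Exact) [Mono S.f] (W : X.Opens)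
    (y : Γ(S.X₂, W)) (hy : S.g.app W y = 0) : ∃ x : Γ(S.X₁, W), S.f.app W x = y := by
  have h := hS.map_of_mono_of_preservesKernel (secFunctor W) inferInstance inferInstance
  rw [ShortComplex.ab_exact_iff] at h
  exact h y hy

theorem injective_sections {M N : X.Modules} (φ : M ⟶ N) [Mono φ] (W : X.Opens) :
    Function.Injective (φ.app W) :=
  (QCProps.mono_iff_app_injective φ).mp inferInstance W

end LeftExact

section Surj

open QCSec

theorem app_sub {M N : X.Modules} (φ : M ⟶ N) (W : X.Opens) (a b : Γ(M, W)) :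
    φ.app W (a - b) = φ.app W a - φ.app W b := _root_.map_sub _ a b

theorem app_add {M N : X.Modules} (φ : M ⟶ N) (W : X.Opens) (a b : Γ(M, W)) :
    φ.app W (a + b) = φ.app W a + φ.app W b := _root_.map_add _ a b

theorem app_zero {M N : X.Modules} (φ : M ⟶ N) (W : X.Opens) :
    φ.app W (0 : Γ(M, W)) = 0 := _root_.map_zero _

theorem res_add (M : X.Modules) {A B : X.Opens} (h : A ≤ B) (a b : Γ(M, B)) :
    res M h (a + b) = res M h a + res M h b := _root_.map_add _ a b

theorem app_res' {M N : X.Modules} (φ : M ⟶ N) {A B : X.Opens} (hAB : A ≤ B) (x : Γ(M, B)) :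
    φ.app A (res M hAB x) = res N hAB (φ.app B x) := ModBasic.app_res φ hAB x

theorem app_f_g_apply (S : ShortComplex X.Modules) (W : X.Opens) (y : Γ(S.X₁, W)) :
    S.g.app W (S.f.app W y) = 0 := by
  have h : (S.f ≫ S.g).app W y = 0 := by rw [S.zero]; rfl
  exact h

/-- Key step: if `s` lifts along `g` over the members of a finite affine cover `W i` of `U`
(with quasi-compact pairwise intersections) and over `D = D(f)`, and the kernel is quasi-coherent,
then `f ^ N • s` lifts over `U` for some `N`. -/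
theorem exists_pow_smul_lift (S : ShortComplex X.Modules) (hS : S.ShortExact)
    [S.X₁.IsQuasicoherent] {U : X.Opens} (s : Γ(S.X₃, U))
    {ι : Type u} [Finite ι] (W : ι → X.Opens) (hWa : ∀ i, IsAffineOpen (W i))
    (hWU : ∀ i, W i ≤ U) (hcov : U ≤ ⨆ i, W i)
    (hWW : ∀ i j, IsCompact ((W i ⊓ W j : X.Opens) : Set X))
    (ti : ∀ i, Γ(S.X₂, W i)) (hti : ∀ i, S.g.app (W i) (ti i) = res S.X₃ (hWU i) s)
    (f : Γ(X, U)) {D : X.Opens} (hD : D = X.basicOpen f) (hDU : D ≤ U) (t : Γ(S.X₂, D))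
    (ht : S.g.app D t = res S.X₃ hDU s) :
    ∃ (N : ℕ) (T : Γ(S.X₂, U)), S.g.app U T = f ^ N • s := by
  haveI := hS.mono_f
  haveI := hS.epi_g
  have := Fintype.ofFinite ι
  have hWi : ∀ i, W i ⊓ D = X.basicOpen (rres X (hWU i) f) := fun i => by
    rw [hD]; exact (Scheme.basicOpen_res X f (homOfLE (hWU i)).op).symm
  -- Step 1
  have key1 : ∀ i, ∃ (n : ℕ) (u : Γ(S.X₁, W i)),
      res S.X₂ (inf_le_left : W i ⊓ D ≤ W i) (S.f.app (W i) u) =
        (rres X ((inf_le_left : W i ⊓ D ≤ W i).trans (hWU i)) f) ^ n •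
          (res S.X₂ (inf_le_right : W i ⊓ D ≤ D) t -
            res S.X₂ (inf_le_left : W i ⊓ D ≤ W i) (ti i)) := by
    intro i
    have hd : S.g.app (W i ⊓ D) (res S.X₂ (inf_le_right : W i ⊓ D ≤ D) t -
            res S.X₂ (inf_le_left : W i ⊓ D ≤ W i) (ti i)) = 0 := by
      rw [app_sub, app_res', app_res', ht, hti i, res_res, res_res, sub_self]
    obtain ⟨e, he⟩ := exact_sections S hS.exact (W i ⊓ D) _ hd
    obtain ⟨n, u, hnu⟩ := (isLocSec_of_isQuasicoherent S.X₁ (hWa i) (rres X (hWU i) f) (W i ⊓ D)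
      (hWi i) inf_le_left).surj e
    refine ⟨n, u, ?_⟩
    rw [← app_res', hnu, rres_rres, Scheme.Modules.Hom.app_smul, he]
  choose n u hu using key1
  let N := Finset.univ.sup n
  have hN : ∀ i, n i ≤ N := fun i => Finset.le_sup (Finset.mem_univ i)
  obtain ⟨t1, ht1d⟩ : ∃ t1 : ∀ i, Γ(S.X₂, W i), ∀ i, t1 i =
      (rres X (hWU i) f) ^ N • ti i +
        S.f.app (W i) ((rres X (hWU i) f) ^ (N - n i) • u i) := ⟨_, fun i => rfl⟩
  have hP1 : ∀ i, S.g.app (W i) (t1 i) = (rres X (hWU i) f) ^ N • res S.X₃ (hWU i) s := by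
    intro i
    rw [ht1d i, app_add, Scheme.Modules.Hom.app_smul, app_f_g_apply, add_zero, hti i]
  have hP2 : ∀ i, res S.X₂ (inf_le_left : W i ⊓ D ≤ W i) (t1 i) =
      (rres X ((inf_le_left : W i ⊓ D ≤ W i).trans (hWU i)) f) ^ N •
        res S.X₂ (inf_le_right : W i ⊓ D ≤ D) t := by
    intro i
    rw [ht1d i, res_add, res_pow_smul, rres_rres, Scheme.Modules.Hom.app_smul, res_pow_smul,
      rres_rres, hu i, ← mul_smul, ← pow_add, Nat.sub_add_cancel (hN i), smul_sub,
      add_sub_cancel]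
  -- Step 3
  have key2 : ∀ i j, ∃ m : ℕ,
      (rres X ((inf_le_left : W i ⊓ W j ≤ W i).trans (hWU i)) f) ^ m •
        (res S.X₂ (inf_le_left : W i ⊓ W j ≤ W i) (t1 i) -
          res S.X₂ (inf_le_right : W i ⊓ W j ≤ W j) (t1 j)) = 0 := by
    intro i j
    have hij : (W i ⊓ W j) ⊓ D =
        X.basicOpen (rres X ((inf_le_left : W i ⊓ W j ≤ W i).trans (hWU i)) f) := by
      rw [hD]; exact (Scheme.basicOpen_res X f (homOfLE _).op).symm
    have hd : S.g.app (W i ⊓ W j) (res S.X₂ (inf_le_left : W i ⊓ W j ≤ W i) (t1 i) -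
          res S.X₂ (inf_le_right : W i ⊓ W j ≤ W j) (t1 j)) = 0 := by
      rw [app_sub, app_res', app_res', hP1 i, hP1 j, res_pow_smul, res_pow_smul,
        rres_rres, rres_rres, res_res, res_res, sub_self]
    obtain ⟨c, hc⟩ := exact_sections S hS.exact (W i ⊓ W j) _ hd
    have hc0 : res S.X₁ (inf_le_left : (W i ⊓ W j) ⊓ D ≤ W i ⊓ W j) c = 0 := by
      apply injective_sections S.f ((W i ⊓ W j) ⊓ D)
      rw [app_res', hc, app_zero, res_sub, res_res, res_res]
      have e1 : res S.X₂ ((inf_le_left : (W i ⊓ W j) ⊓ D ≤ W i ⊓ W j).trans inf_le_left) (t1 i) =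
          res S.X₂ (le_inf (inf_le_left.trans inf_le_left) inf_le_right :
            (W i ⊓ W j) ⊓ D ≤ W i ⊓ D) (res S.X₂ inf_le_left (t1 i)) := (res_res S.X₂ _ _ _).symm
      have e2 : res S.X₂ ((inf_le_left : (W i ⊓ W j) ⊓ D ≤ W i ⊓ W j).trans inf_le_right) (t1 j) =
          res S.X₂ (le_inf (inf_le_left.trans inf_le_right) inf_le_right :
            (W i ⊓ W j) ⊓ D ≤ W j ⊓ D) (res S.X₂ inf_le_left (t1 j)) := (res_res S.X₂ _ _ _).symm
      rw [e1, e2, hP2 i, hP2 j, res_pow_smul, res_pow_smul, rres_rres, rres_rres, res_res,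
        res_res, sub_self]
    obtain ⟨m, hm⟩ := inj_of_isCompact S.X₁ (hWW i j)
      (rres X ((inf_le_left : W i ⊓ W j ≤ W i).trans (hWU i)) f) hij inf_le_left c hc0
    refine ⟨m, ?_⟩
    rw [← hc, ← Scheme.Modules.Hom.app_smul, hm, app_zero]
  -- Step 4
  choose m hm using key2
  let M₀ := Finset.univ.sup (fun p : ι × ι => m p.1 p.2)
  have hM₀ : ∀ i j, m i j ≤ M₀ := fun i j =>
    Finset.le_sup (f := fun p : ι × ι => m p.1 p.2) (Finset.mem_univ (i, j))
  obtain ⟨t2, ht2d⟩ : ∃ t2 : ∀ i, Γ(S.X₂, W i),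
      ∀ i, t2 i = (rres X (hWU i) f) ^ M₀ • t1 i := ⟨_, fun i => rfl⟩
  have hcompat : TopCat.Presheaf.IsCompatible S.X₂.presheaf W t2 := by
    intro i j
    change res S.X₂ (inf_le_left : W i ⊓ W j ≤ W i) (t2 i) =
      res S.X₂ (inf_le_right : W i ⊓ W j ≤ W j) (t2 j)
    rw [← sub_eq_zero, ht2d i, ht2d j, res_pow_smul, res_pow_smul, rres_rres, rres_rres,
      ← smul_sub, ← Nat.sub_add_cancel (hM₀ i j), pow_add, mul_smul, hm i j, smul_zero]
  obtain ⟨T, hT, -⟩ := TopCat.Sheaf.existsUnique_gluing' ⟨S.X₂.presheaf, S.X₂.isSheaf⟩ W U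
    (fun i => homOfLE (hWU i)) hcov t2 hcompat
  refine ⟨N + M₀, T, ?_⟩
  apply TopCat.Sheaf.eq_of_locally_eq' ⟨S.X₃.presheaf, S.X₃.isSheaf⟩ W U
    (fun i => homOfLE (hWU i)) hcov
  intro i
  change res S.X₃ (hWU i) (S.g.app U T) = res S.X₃ (hWU i) (f ^ (N + M₀) • s)
  have hTi : res S.X₂ (hWU i) T = t2 i := hT i
  rw [← app_res', hTi, ht2d i, Scheme.Modules.Hom.app_smul, hP1 i, res_pow_smul,
    ← mul_smul, ← pow_add, add_comm]

/-- On an affine open, sections of an epimorphism with quasi-coherent kernel are surjective. -/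
theorem surjective_app_of_isAffineOpen (S : ShortComplex X.Modules) (hS : S.ShortExact)
    [S.X₁.IsQuasicoherent] {U : X.Opens} (hU : IsAffineOpen U) :
    Function.Surjective (S.g.app U) := by
  haveI := hS.epi_g
  intro s
  have hloc : ∀ x : U, ∃ (f : Γ(X, U)) (t : Γ(S.X₂, X.basicOpen f)), (x : X) ∈ X.basicOpen f ∧
      S.g.app _ t = res S.X₃ (X.basicOpen_le f) s := by
    intro x
    obtain ⟨W', hW', hxW', t', ht'⟩ := exists_local_lift S.g U s x.1 x.2
    obtain ⟨f, hfW', hxf⟩ := hU.exists_basicOpen_le ⟨x.1, hxW'⟩ x.2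
    refine ⟨f, res S.X₂ hfW' t', hxf, ?_⟩
    rw [app_res', ht', res_res]
  choose fx tx hxfx htx using hloc
  obtain ⟨Fs, hFs⟩ := hU.isCompact.elim_finite_subcover
    (fun x : U => (X.basicOpen (fx x) : Set X))
    (fun x => (X.basicOpen (fx x)).isOpen)
    (fun y hy => Set.mem_iUnion.mpr ⟨⟨y, hy⟩, hxfx ⟨y, hy⟩⟩)
  have hcov : U ≤ ⨆ i : {x : U // x ∈ Fs}, X.basicOpen (fx i.1) := by
    intro y hy
    have h1 := hFs hy
    simp only [Set.mem_iUnion] at h1
    obtain ⟨i, hi, hyi⟩ := h1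
    exact Opens.mem_iSup.mpr ⟨⟨i, hi⟩, hyi⟩
  have hWW : ∀ i j : {x : U // x ∈ Fs},
      IsCompact ((X.basicOpen (fx i.1) ⊓ X.basicOpen (fx j.1) : X.Opens) : Set X) := by
    intro i j
    rw [← Scheme.basicOpen_mul]
    exact (hU.basicOpen _).isCompact
  have key : ∀ x : U, ∃ (N : ℕ) (T : Γ(S.X₂, U)), S.g.app U T = (fx x) ^ N • s := fun x =>
    exists_pow_smul_lift S hS s (fun i : {x : U // x ∈ Fs} => X.basicOpen (fx i.1))
      (fun i => hU.basicOpen _) (fun i => X.basicOpen_le _) hcov hWW (fun i => tx i.1)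
      (fun i => htx i.1) (fx x) rfl (X.basicOpen_le _) (tx x) (htx x)
  let I : Ideal Γ(X, U) :=
    { carrier := {a | ∃ T : Γ(S.X₂, U), S.g.app U T = a • s}
      add_mem' := by
        rintro a b ⟨Ta, hTa⟩ ⟨Tb, hTb⟩
        exact ⟨Ta + Tb, by rw [app_add, hTa, hTb, add_smul]⟩
      zero_mem' := ⟨0, by rw [app_zero, zero_smul]⟩
      smul_mem' := by
        rintro c a ⟨Ta, hTa⟩
        exact ⟨c • Ta, by rw [Scheme.Modules.Hom.app_smul, hTa, smul_eq_mul, mul_smul]⟩ }
  have hI : I = ⊤ := by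
    have hspan : Ideal.span (I : Set Γ(X, U)) = ⊤ := by
      rw [← hU.self_le_iSup_basicOpen_iff]
      intro y hy
      obtain ⟨N, T, hT⟩ := key ⟨y, hy⟩
      have hmem : (fx ⟨y, hy⟩) ^ (N + 1) ∈ I := by
        refine ⟨fx ⟨y, hy⟩ • T, ?_⟩
        rw [Scheme.Modules.Hom.app_smul, hT, ← mul_smul, pow_succ']
      refine Opens.mem_iSup.mpr ⟨⟨_, hmem⟩, ?_⟩
      show y ∈ X.basicOpen (fx ⟨y, hy⟩ ^ (N + 1))
      rw [Scheme.basicOpen_pow X _ (Nat.succ_pos N)]
      exact hxfx ⟨y, hy⟩
    rwa [Ideal.span_eq] at hspan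
  have h1 : (1 : Γ(X, U)) ∈ I := hI ▸ Submodule.mem_top
  obtain ⟨T, hT⟩ := h1
  exact ⟨T, by rw [hT, one_smul]⟩

/-- Extensions: the middle term of a short exact sequence with quasi-coherent ends satisfies the
localization property on affine opens. -/
theorem isLocSec_of_shortExact (S : ShortComplex X.Modules) (hS : S.ShortExact)
    [S.X₁.IsQuasicoherent] [S.X₃.IsQuasicoherent] {U : X.Opens} (hU : IsAffineOpen U)
    (g : Γ(X, U)) (W : X.Opens) (hW : W = X.basicOpen g) (hWU : W ≤ U) :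
    IsLocSec S.X₂ U W hWU g := by
  haveI := hS.mono_f
  have h1 := isLocSec_of_isQuasicoherent S.X₁ hU g W hW hWU
  have h3 := isLocSec_of_isQuasicoherent S.X₃ hU g W hW hWU
  constructor
  · intro t
    obtain ⟨n1, h, hh⟩ := h3.surj (S.g.app W t)
    obtain ⟨T, hT⟩ := surjective_app_of_isAffineOpen S hS hU h
    have hd : S.g.app W (res S.X₂ hWU T - (rres X hWU g) ^ n1 • t) = 0 := by
      rw [app_sub, app_res', hT, hh, Scheme.Modules.Hom.app_smul, sub_self]
    obtain ⟨e, he⟩ := exact_sections S hS.exact W _ hd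
    obtain ⟨n2, e', he'⟩ := h1.surj e
    refine ⟨n2 + n1, g ^ n2 • T - S.f.app U e', ?_⟩
    rw [res_sub, res_pow_smul, ← app_res', he', Scheme.Modules.Hom.app_smul, he, ← smul_sub,
      sub_sub_cancel, ← mul_smul, ← pow_add]
  · intro s hs
    have h0 : res S.X₃ hWU (S.g.app U s) = 0 := by rw [← app_res', hs, app_zero]
    obtain ⟨n1, hn1⟩ := h3.inj _ h0
    have hd : S.g.app U (g ^ n1 • s) = 0 := by rw [Scheme.Modules.Hom.app_smul, hn1]
    obtain ⟨e, he⟩ := exact_sections S hS.exact U _ hd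
    have he0 : res S.X₁ hWU e = 0 := by
      apply injective_sections S.f W
      rw [app_res', he, app_zero, res_pow_smul, hs, smul_zero]
    obtain ⟨n2, hn2⟩ := h1.inj e he0
    refine ⟨n2 + n1, ?_⟩
    rw [pow_add, mul_smul, ← he, ← Scheme.Modules.Hom.app_smul, hn2, app_zero]

/-- An extension of quasi-coherent modules is quasi-coherent. -/
theorem isQuasicoherent_of_shortExact (S : ShortComplex X.Modules) (hS : S.ShortExact)
    [S.X₁.IsQuasicoherent] [S.X₃.IsQuasicoherent] :
    SheafOfModules.IsQuasicoherent (R := X.ringCatSheaf) S.X₂ := by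
  apply QCProps.isQuasicoherent_of_charts
  intro x
  obtain ⟨U, hU, hxU⟩ := QCProps.exists_affine_nbhd x
  refine ⟨U, hU, hxU, ?_⟩
  apply isQuasicoherent_chart_of_isLocSec S.X₂ hU
  intro g
  exact isLocSec_of_shortExact S hS hU g _ (hU.fromSpec_image_basicOpen g) (QS.image_le hU _)

end Surj

section EpiCriteria

open QCSec

/-- A locally surjective morphism of `O_X`-modules is an epimorphism. -/
theorem epi_of_locally_surjective {G H : X.Modules} (φ : G ⟶ H)
    (h : ∀ (W : X.Opens) (s : Γ(H, W)) (x : X), x ∈ W →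
      ∃ (W' : X.Opens) (hW' : W' ≤ W), x ∈ W' ∧ ∃ t : Γ(G, W'), φ.app W' t = res H hW' s) :
    Epi φ := by
  have h1 : Epi ((SheafOfModules.toSheaf X.ringCatSheaf).map φ) := by
    refine (TopCat.Sheaf.isLocallySurjective_iff_epi (X := X.carrier) (C := AddCommGrpCat.{u})
      ((SheafOfModules.toSheaf X.ringCatSheaf).map φ)).mp ?_
    rw [TopCat.Presheaf.isLocallySurjective_iff]
    intro W s x hx
    obtain ⟨W', hW', hxW', t, ht⟩ := h W s x hx
    exact ⟨W', hW', ⟨t, ht⟩, hxW'⟩
  exact (SheafOfModules.toSheaf X.ringCatSheaf).epi_of_epi_map h1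

/-- A morphism into a quasi-coherent module which is surjective on the sections over the members
of an affine open cover is an epimorphism. -/
theorem epi_of_surjective_on_affine_cover {M N : X.Modules} (φ : M ⟶ N) [N.IsQuasicoherent]
    (h : ∀ x : X, ∃ (U : X.Opens) (_ : IsAffineOpen U), x ∈ U ∧ Function.Surjective (φ.app U)) :
    Epi φ := by
  apply epi_of_locally_surjective
  intro W s x hxW
  obtain ⟨U, hU, hxU, hsurj⟩ := h x
  obtain ⟨g, hgW, hxg⟩ := hU.exists_basicOpen_le (V := W ⊓ U) ⟨x, ⟨hxW, hxU⟩⟩ hxU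
  have hDW : X.basicOpen g ≤ W := hgW.trans inf_le_left
  have hDU : X.basicOpen g ≤ U := X.basicOpen_le g
  refine ⟨X.basicOpen g, hDW, hxg, ?_⟩
  obtain ⟨k, s', hs'⟩ :=
    (isLocSec_of_isQuasicoherent N hU g (X.basicOpen g) rfl hDU).surj (res N hDW s)
  obtain ⟨t', ht'⟩ := hsurj s'
  have hu : IsUnit (rres X hDU g) := RingedSpace.isUnit_res_basicOpen _ g
  have hr : (↑hu.unit⁻¹ : Γ(X, X.basicOpen g)) * rres X hDU g = 1 := hu.val_inv_mul
  refine ⟨(↑hu.unit⁻¹ : Γ(X, X.basicOpen g)) ^ k • res M hDU t', ?_⟩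
  rw [Scheme.Modules.Hom.app_smul, app_res', ht', hs', ← mul_smul, ← mul_pow, hr, one_pow,
    one_smul]

/-- For a morphism of quasi-coherent modules, being an epimorphism can be checked on sections over
affine opens. -/
theorem epi_iff_surjective_on_affines {M N : X.Modules} (φ : M ⟶ N) [M.IsQuasicoherent]
    [N.IsQuasicoherent] :
    Epi φ ↔ ∀ (U : X.Opens), IsAffineOpen U → Function.Surjective (φ.app U) := by
  constructor
  · intro hφ U hU
    haveI : (kernel φ : X.Modules).IsQuasicoherent := QCProps.isQuasicoherent_kernel φ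
    let Sc : ShortComplex X.Modules := ShortComplex.mk (kernel.ι φ) φ (kernel.condition φ)
    have hSc : Sc.ShortExact :=
      { exact := ShortComplex.exact_kernel φ
        mono_f := inferInstanceAs (Mono (kernel.ι φ))
        epi_g := hφ }
    exact surjective_app_of_isAffineOpen Sc hSc hU
  · intro h
    apply epi_of_surjective_on_affine_cover
    intro x
    obtain ⟨U, hU, hxU⟩ := QCProps.exists_affine_nbhd x
    exact ⟨U, hU, hxU, h U hU⟩

end EpiCriteria

end Groth.Agent.Lib.Helper3.QCExact
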