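import Groth.Agent.Lib.Helper3.QCSec
import Mathlib.AlgebraicGeometry.Morphisms.QuasiSeparated

set_option autoImplicit false
universe u
open CategoryTheory CategoryTheory.Limits AlgebraicGeometry TopologicalSpace Opposite
open Scheme.Modules

namespace Groth.Agent.Lib.Helper3.QCSec

variable {X Y : Scheme.{u}}

theorem pushforward_smul (f : X ⟶ Y) (F : X.Modules) (V : Y.Opens) (r : Γ(Y, V))
    (s : Γ((pushforward f).obj F, V)) :
    r • s = (f.app V r • (show Γ(F, f ⁻¹ᵁ V) from s) : Γ(F, f ⁻¹ᵁ V)) := rfl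

theorem isLocSec_pushforward (f : X ⟶ Y) (F : X.Modules) {V W : Y.Opens} (hWV : W ≤ V)
    (g : Γ(Y, V)) (hpre : f ⁻¹ᵁ W ≤ f ⁻¹ᵁ V)
    (h : IsLocSec F (f ⁻¹ᵁ V) (f ⁻¹ᵁ W) hpre (f.app V g)) :
    IsLocSec ((pushforward f).obj F) V W hWV g where
  surj t := by
    obtain ⟨n, s, hs⟩ := h.surj t
    refine ⟨n, s, ?_⟩
    have e1 : f.app W (rres Y hWV g) = rres X hpre (f.app V g) :=
      congr($(f.naturality (homOfLE hWV).op) g)
    change res F hpre s = f.app W ((rres Y hWV g) ^ n) • (show Γ(F, f ⁻¹ᵁ W) from t)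
    rw [map_pow, e1]
    exact hs
  inj s hs := by
    obtain ⟨n, hn⟩ := h.inj s hs
    refine ⟨n, ?_⟩
    change f.app V (g ^ n) • (show Γ(F, f ⁻¹ᵁ V) from s) = 0
    rw [map_pow]
    exact hn

/-- The pushforward of a quasi-coherent module along a quasi-compact quasi-separated morphism is
quasi-coherent. -/
theorem isQuasicoherent_pushforward (f : X ⟶ Y) [QuasiCompact f] [QuasiSeparated f]
    (F : X.Modules) [F.IsQuasicoherent] :
    SheafOfModules.IsQuasicoherent (R := Y.ringCatSheaf) ((pushforward f).obj F) := by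
  apply QCProps.isQuasicoherent_of_charts
  intro y
  obtain ⟨V, hV, hyV⟩ := QCProps.exists_affine_nbhd y
  refine ⟨V, hV, hyV, ?_⟩
  apply isQuasicoherent_chart_of_isLocSec
  intro g
  have hpre : f ⁻¹ᵁ (hV.fromSpec ''ᵁ (PrimeSpectrum.basicOpen g)) ≤ f ⁻¹ᵁ V :=
    fun x hx => QS.image_le hV _ hx
  apply isLocSec_pushforward f F _ g hpre
  apply isLocSec_of_isCompact F (f.isCompact_preimage hV.isCompact)
    (f.isQuasiSeparated_preimage hV.isQuasiSeparated) (f.app V g)
  rw [hV.fromSpec_image_basicOpen g, Scheme.preimage_basicOpen]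

end Groth.Agent.Lib.Helper3.QCSec
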