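import Mathlib

set_option autoImplicit false

namespace Groth.Agent.Lib.Helper3.NormAlg

open Polynomial

section
variable {A S : Type*} [CommRing A] [CommRing S] [Algebra A S]

/-- Cayley–Hamilton: `b` divides its norm. -/
theorem dvd_algebraMap_norm [Module.Free A S] [Module.Finite A S] (b : S) :
    b ∣ algebraMap A S (Algebra.norm A b) := by
  set f : S →ₗ[A] S := Algebra.lmul A S b with hf
  have hCH : aeval f f.charpoly = 0 := LinearMap.aeval_self_charpoly f
  have h1 : aeval b f.charpoly = 0 := by
    have h2 : aeval (Algebra.lmul A S b) f.charpoly = Algebra.lmul A S (aeval b f.charpoly) :=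
      aeval_algHom_apply (Algebra.lmul A S) b f.charpoly
    have h3 := congrArg (fun g : S →ₗ[A] S => g 1) (h2.symm.trans hCH)
    simpa using h3
  have h4 : b * aeval b (divX f.charpoly) + algebraMap A S (f.charpoly.coeff 0) = 0 := by
    have := congrArg (aeval b) (X_mul_divX_add f.charpoly)
    rw [map_add, map_mul, aeval_X, aeval_C, h1] at this
    exact this
  have h5 : Algebra.norm A b = (-1) ^ Module.finrank A S * f.charpoly.coeff 0 := by
    rw [Algebra.norm_apply]
    exact LinearMap.det_eq_sign_charpoly_coeff f
  have h6 : algebraMap A S (f.charpoly.coeff 0) = b * (- aeval b (divX f.charpoly)) := by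
    rw [mul_neg]
    exact eq_neg_of_add_eq_zero_right h4
  rw [h5, map_mul, h6]
  exact ⟨algebraMap A S ((-1) ^ Module.finrank A S) * (- aeval b (divX f.charpoly)), by ring⟩

end

/-- norms commute with ring maps carrying a basis to a basis -/
theorem norm_map_of_bases {A S A' S' : Type*} [CommRing A] [CommRing S] [Algebra A S]
    [CommRing A'] [CommRing S'] [Algebra A' S']
    (ρA : A →+* A') (ρS : S →+* S')
    (hρ : ∀ a, ρS (algebraMap A S a) = algebraMap A' S' (ρA a))
    {ι : Type*} [Fintype ι] [DecidableEq ι] (b : Module.Basis ι A S) (b' : Module.Basis ι A' S')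
    (hb : ∀ i, b' i = ρS (b i)) (x : S) :
    Algebra.norm A' (ρS x) = ρA (Algebra.norm A x) := by
  have key : ∀ (y : S) (i : ι), b'.repr (ρS y) i = ρA (b.repr y i) := by
    intro y i
    have hy : ρS y = ∑ k, ρA (b.repr y k) • b' k := by
      conv_lhs => rw [← b.sum_repr y]
      rw [map_sum]
      refine Finset.sum_congr rfl fun k _ => ?_
      rw [Algebra.smul_def, map_mul, hρ, hb, Algebra.smul_def]
    rw [hy, map_sum]
    simp [Finsupp.single_apply]
  rw [Algebra.norm_eq_matrix_det b', Algebra.norm_eq_matrix_det b, RingHom.map_det]
  congr 1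
  ext i j
  rw [Algebra.leftMulMatrix_eq_repr_mul, RingHom.mapMatrix_apply, Matrix.map_apply,
    Algebra.leftMulMatrix_eq_repr_mul, hb, ← map_mul, key]

/-- two finite bases of a module over a nontrivial commutative ring have the same size -/
theorem card_eq_of_bases {A S : Type*} [CommRing A] [Nontrivial A] [AddCommGroup S] [Module A S]
    {r r' : ℕ} (b : Module.Basis (Fin r) A S) (b' : Module.Basis (Fin r') A S) : r = r' := by
  have h1 := Module.finrank_eq_card_basis b
  have h2 := Module.finrank_eq_card_basis b'
  simpa using h1.symm.trans h2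

/-- the basis defined by a bijective coordinate map -/
noncomputable def basisOfBijective {A S : Type*} [CommRing A] [AddCommGroup S] [Module A S]
    {r : ℕ} (e : Fin r → S)
    (h : Function.Bijective (fun a : Fin r → A => ∑ i, a i • e i)) : Module.Basis (Fin r) A S :=
  Module.Basis.ofEquivFun (LinearEquiv.ofBijective (Fintype.linearCombination A e) (by
    have : ⇑(Fintype.linearCombination A e) = fun a : Fin r → A => ∑ i, a i • e i := by
      funext a
      exact Fintype.linearCombination_apply A e a
    rw [this]
    exact h)).symm

theorem basisOfBijective_apply {A S : Type*} [CommRing A] [AddCommGroup S] [Module A S]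
    {r : ℕ} (e : Fin r → S)
    (h : Function.Bijective (fun a : Fin r → A => ∑ i, a i • e i)) (i : Fin r) :
    basisOfBijective e h i = e i := by
  unfold basisOfBijective
  rw [Module.Basis.coe_ofEquivFun]
  simp [Fintype.linearCombination_apply, Pi.single_apply]

end Groth.Agent.Lib.Helper3.NormAlg
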