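import Groth.Agent.Lib.Helper3.QCProps

/-!
# Quasi-coherence, finite type and finite presentation are local for open covers; zero modules
-/

set_option autoImplicit false
universe u
open CategoryTheory CategoryTheory.Limits AlgebraicGeometry TopologicalSpace Opposite
open Scheme.Modules

namespace Groth.Agent.Lib.Helper3.QCOpen

variable {X : Scheme.{u}}

/-- The chart of an affine open `W ≤ U` factors through the open subscheme `U`. -/
theorem exists_chart_lift (M : X.Modules) {U W : X.Opens} (hW : IsAffineOpen W) (hWU : W ≤ U) :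
    ∃ (l : Spec Γ(X, W) ⟶ (U : Scheme.{u})) (_ : IsOpenImmersion l),
      Nonempty ((M.restrict U.ι).restrict l ≅ M.restrict hW.fromSpec) := by
  have hr : Set.range hW.fromSpec ⊆ Set.range U.ι := by
    rw [hW.range_fromSpec, Scheme.Opens.range_ι]; exact hWU
  have hl : IsOpenImmersion.lift U.ι hW.fromSpec hr ≫ U.ι = hW.fromSpec :=
    IsOpenImmersion.lift_fac _ _ _
  haveI : IsOpenImmersion (IsOpenImmersion.lift U.ι hW.fromSpec hr ≫ U.ι) := by
    rw [hl]; infer_instance
  haveI : IsOpenImmersion (IsOpenImmersion.lift U.ι hW.fromSpec hr) :=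
    IsOpenImmersion.of_comp _ U.ι
  exact ⟨_, inferInstance, ⟨QCTilde.restrictFacIso U.ι _ hW.fromSpec hl M⟩⟩

/-- Quasi-coherence is local for open covers. -/
theorem isQuasicoherent_of_open_cover (M : X.Modules)
    (h : ∀ x : X, ∃ U : X.Opens, x ∈ U ∧ (M.restrict U.ι).IsQuasicoherent) :
    SheafOfModules.IsQuasicoherent (R := X.ringCatSheaf) M := by
  apply QCProps.isQuasicoherent_of_charts
  intro x
  obtain ⟨U, hxU, hq⟩ := h x
  obtain ⟨W, hW, hxW, hWU⟩ := Opens.isBasis_iff_nbhd.mp X.isBasis_affineOpens hxU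
  refine ⟨W, hW, hxW, ?_⟩
  obtain ⟨l, hl, ⟨e⟩⟩ := exists_chart_lift M hW hWU
  have hq' : ((M.restrict U.ι).restrict l).IsQuasicoherent :=
    Scheme.Modules.isQuasicoherent_restrictFunctor l (M.restrict U.ι)
  exact (SheafOfModules.isQuasicoherent (Spec Γ(X, W)).ringCatSheaf).prop_of_iso e hq'

/-- Being quasi-coherent of finite type is local for open covers. -/
theorem isFiniteType_of_open_cover (M : X.Modules)
    (h : ∀ x : X, ∃ U : X.Opens, x ∈ U ∧ (M.restrict U.ι).IsQuasicoherent ∧
      (M.restrict U.ι).IsFiniteType) :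
    SheafOfModules.IsFiniteType (R := X.ringCatSheaf) M := by
  apply QCProps.isFiniteType_of_charts
  intro x
  obtain ⟨U, hxU, hq, hft⟩ := h x
  obtain ⟨W, hW, hxW, hWU⟩ := Opens.isBasis_iff_nbhd.mp X.isBasis_affineOpens hxU
  obtain ⟨l, hl, ⟨e⟩⟩ := exists_chart_lift M hW hWU
  have hq' : ((M.restrict U.ι).restrict l).IsQuasicoherent :=
    Scheme.Modules.isQuasicoherent_restrictFunctor l (M.restrict U.ι)
  haveI hq'' : (M.restrict hW.fromSpec).IsQuasicoherent :=
    (SheafOfModules.isQuasicoherent (Spec Γ(X, W)).ringCatSheaf).prop_of_iso e hq'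
  haveI hft' : ((M.restrict U.ι).restrict l).IsFiniteType :=
    QCProps.isFiniteType_restrict l (M.restrict U.ι)
  haveI hft'' : (M.restrict hW.fromSpec).IsFiniteType := QCProps.isFiniteType_of_iso e
  have := QCTilde.finite_of_isFiniteType (M.restrict hW.fromSpec)
  exact ⟨W, hW, hxW, hq'', Module.Finite.equiv (QCTilde.chartSectionsEquiv hW M)⟩

/-- The structure sheaf of an affine scheme is quasi-coherent. -/
theorem isQuasicoherent_unit_spec (R : CommRingCat.{u}) :
    SheafOfModules.IsQuasicoherent (R := (Spec R).ringCatSheaf)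
      (Coh.structureModule (Spec R)) :=
  (isQuasicoherent_iff_isIso_fromTildeΓ (R := R)
    (SheafOfModules.unit.{u} (Spec R).ringCatSheaf)).mpr inferInstance

/-- The structure sheaf is quasi-coherent. -/
instance isQuasicoherent_structureModule (X : Scheme.{u}) :
    SheafOfModules.IsQuasicoherent (R := X.ringCatSheaf) (Coh.structureModule X) := by
  apply QCProps.isQuasicoherent_of_charts
  intro x
  obtain ⟨U, hU, hxU⟩ := QCProps.exists_affine_nbhd x
  refine ⟨U, hU, hxU, ?_⟩
  exact (SheafOfModules.isQuasicoherent (Spec Γ(X, U)).ringCatSheaf).prop_of_iso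
    (restrictUnitIso hU.fromSpec).symm (isQuasicoherent_unit_spec Γ(X, U))

/-- A zero module is quasi-coherent. -/
theorem isQuasicoherent_of_isZero {M : X.Modules} (h : IsZero M) :
    SheafOfModules.IsQuasicoherent (R := X.ringCatSheaf) M := by
  have h1 : (kernel (𝟙 (Coh.structureModule X)) : X.Modules).IsQuasicoherent :=
    QCProps.isQuasicoherent_kernel (𝟙 (Coh.structureModule X))
  have hz : IsZero (kernel (𝟙 (Coh.structureModule X)) : X.Modules) := isZero_kernel_of_mono _
  exact (SheafOfModules.isQuasicoherent X.ringCatSheaf).prop_of_iso (hz.iso h) h1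

/-- A zero module is of finite type. -/
theorem isFiniteType_of_isZero {M : X.Modules} (h : IsZero M) :
    SheafOfModules.IsFiniteType (R := X.ringCatSheaf) M := by
  apply QCLocal.isFiniteType_of_forall_exists
  intro x
  have hz : IsZero (M.restrict (⊤ : X.Opens).ι) :=
    (restrictFunctor (⊤ : X.Opens).ι).map_isZero h
  exact ⟨⊤, trivial, { I := PEmpty, s := fun i => i.elim, epi := hz.epi _ },
    ⟨inferInstanceAs (Finite PEmpty)⟩⟩

/-- If all the stalks of `M` at the points of `W` vanish, then `Γ(M, W)` vanishes. -/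
theorem subsingleton_sections_of_stalks (M : X.Modules) (W : X.Opens)
    (h : ∀ x ∈ W, Subsingleton (M.presheaf.stalk x)) : Subsingleton Γ(M, W) := by
  refine ⟨fun a b => ?_⟩
  apply TopCat.Presheaf.section_ext ⟨M.presheaf, M.isSheaf⟩ W a b
  intro x hx
  haveI := h x hx
  exact Subsingleton.elim _ _

end Groth.Agent.Lib.Helper3.QCOpen
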