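import Mathlib
import Groth.Agent.Lib.Helper13.SemilocalFree

set_option autoImplicit false

namespace Groth.Agent.Lib.Helper3.SemilocalAlg

open Module

/-- transfer of a basis of the standard localization to any other model of the localization -/
theorem nonempty_basis_of_isLocalizedModule {A : Type*} [CommRing A] (S : Submonoid A)
    {M : Type*} [AddCommGroup M] [Module A M]
    (A' : Type*) [CommRing A'] [Algebra A A'] [IsLocalization S A']
    {M' : Type*} [AddCommGroup M'] [Module A M'] [Module A' M'] [IsScalarTower A A' M']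
    (f : M →ₗ[A] M') [IsLocalizedModule S f] {I : Type*}
    (b : Basis I (Localization S) (LocalizedModule S M)) : Nonempty (Basis I A' M') := by
  let e := IsLocalization.algEquiv S (Localization S) A'
  let _ : Module (Localization S) M' := Module.compHom M' (e : Localization S →+* A')
  have : IsScalarTower A (Localization S) M' := ⟨fun a c m => by
    change e (a • c) • m = a • (e c • m)
    rw [map_smul, smul_assoc]⟩
  let φ : LocalizedModule S M ≃ₗ[A] M' := IsLocalizedModule.iso S f
  let φ' : LocalizedModule S M ≃ₗ[Localization S] M' :=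
    φ.extendScalarsOfIsLocalization S (Localization S)
  let b1 : Basis I (Localization S) M' := b.map φ'
  exact ⟨b1.mapCoeffs e.toRingEquiv (fun c x => rfl)⟩

end Groth.Agent.Lib.Helper3.SemilocalAlg

namespace Groth.Agent.Lib.Helper3.SemilocalAlg

open Module

theorem finite_projective_rank_of_span {A : Type*} [CommRing A] {M : Type*} [AddCommGroup M]
    [Module A M] (s : Set A) (hs : Ideal.span s = ⊤)
    {Mₚ : s → Type*} [∀ g, AddCommGroup (Mₚ g)] [∀ g, Module A (Mₚ g)]
    {Aₚ : s → Type*} [∀ g, CommRing (Aₚ g)] [∀ g, Algebra A (Aₚ g)]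
    [∀ g : s, IsLocalization.Away g.val (Aₚ g)]
    [∀ g, Module (Aₚ g) (Mₚ g)] [∀ g, IsScalarTower A (Aₚ g) (Mₚ g)]
    (ϕ : ∀ g : s, M →ₗ[A] Mₚ g) [∀ g : s, IsLocalizedModule (Submonoid.powers g.val) (ϕ g)]
    (r : ℕ) (b : ∀ g : s, Basis (Fin r) (Aₚ g) (Mₚ g)) :
    Module.Finite A M ∧ Module.Projective A M ∧
      ∀ p : PrimeSpectrum A, rankAtStalk M p = r := by
  have hfree : ∀ g : s, Module.Free (Aₚ g) (Mₚ g) := fun g => Module.Free.of_basis (b g)
  have hfin : ∀ g : s, Module.Finite (Aₚ g) (Mₚ g) := fun g => Module.Finite.of_basis (b g)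
  have hfp : Module.FinitePresentation A M :=
    Module.FinitePresentation.of_localizationSpan' (Rₚ := Aₚ) s hs ϕ
      (fun g => Module.finitePresentation_of_projective (Aₚ g) (Mₚ g))
  have hflat : Module.Flat A M := by
    refine Module.flat_of_isLocalized_span A M s hs Mₚ ϕ (fun g => ?_)
    have : Module.Flat A (Aₚ g) := IsLocalization.flat (Aₚ g) (Submonoid.powers g.val)
    exact Module.Flat.trans A (Aₚ g) (Mₚ g)
  have hproj : Module.Projective A M := Module.Flat.projective_of_finitePresentation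
  refine ⟨inferInstance, hproj, fun p => ?_⟩
  obtain ⟨g, hgp⟩ : ∃ g : s, g.val ∉ p.asIdeal := by
    by_contra hcon
    push Not at hcon
    have : Ideal.span s ≤ p.asIdeal := Ideal.span_le.mpr (fun g hg => hcon ⟨g, hg⟩)
    rw [hs] at this
    exact p.isPrime.ne_top (top_le_iff.mp this)
  have hp : p ∈ Set.range (PrimeSpectrum.comap (algebraMap A (Aₚ g))) := by
    rw [PrimeSpectrum.localization_away_comap_range (Aₚ g) g.val]
    exact hgp
  obtain ⟨p', rfl⟩ := hp
  have hbc : IsBaseChange (Aₚ g) (ϕ g) :=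
    IsLocalizedModule.isBaseChange (Submonoid.powers g.val) (Aₚ g) (ϕ g)
  have h1 := rankAtStalk_isBaseChange hbc p'
  have : Nontrivial (Aₚ g) := p'.nontrivial
  rw [← h1, rankAtStalk_eq_finrank_of_free]
  change Module.finrank (Aₚ g) (Mₚ g) = r
  rw [Module.finrank_eq_card_basis (b g), Fintype.card_fin]

end Groth.Agent.Lib.Helper3.SemilocalAlg

namespace Groth.Agent.Lib.Helper3.SemilocalAlg

open Module

/-- a module which is free of finite rank on a spanning family of basic opens is finite
projective -/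
theorem finite_projective_of_span {A : Type*} [CommRing A] {M : Type*} [AddCommGroup M]
    [Module A M] (s : Set A) (hs : Ideal.span s = ⊤)
    {Mₚ : s → Type*} [∀ g, AddCommGroup (Mₚ g)] [∀ g, Module A (Mₚ g)]
    {Aₚ : s → Type*} [∀ g, CommRing (Aₚ g)] [∀ g, Algebra A (Aₚ g)]
    [∀ g : s, IsLocalization.Away g.val (Aₚ g)]
    [∀ g, Module (Aₚ g) (Mₚ g)] [∀ g, IsScalarTower A (Aₚ g) (Mₚ g)]
    (ϕ : ∀ g : s, M →ₗ[A] Mₚ g) [∀ g : s, IsLocalizedModule (Submonoid.powers g.val) (ϕ g)]
    (r : s → ℕ) (b : ∀ g : s, Basis (Fin (r g)) (Aₚ g) (Mₚ g)) :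
    Module.Finite A M ∧ Module.Projective A M := by
  have hfree : ∀ g : s, Module.Free (Aₚ g) (Mₚ g) := fun g => Module.Free.of_basis (b g)
  have hfin : ∀ g : s, Module.Finite (Aₚ g) (Mₚ g) := fun g => Module.Finite.of_basis (b g)
  have hfp : Module.FinitePresentation A M :=
    Module.FinitePresentation.of_localizationSpan' (Rₚ := Aₚ) s hs ϕ
      (fun g => Module.finitePresentation_of_projective (Aₚ g) (Mₚ g))
  have hflat : Module.Flat A M := by
    refine Module.flat_of_isLocalized_span A M s hs Mₚ ϕ (fun g => ?_)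
    have : Module.Flat A (Aₚ g) := IsLocalization.flat (Aₚ g) (Submonoid.powers g.val)
    exact Module.Flat.trans A (Aₚ g) (Mₚ g)
  exact ⟨inferInstance, Module.Flat.projective_of_finitePresentation⟩

end Groth.Agent.Lib.Helper3.SemilocalAlg
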