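import Groth.Agent.Lib.Helper3.FreeBasis
import Groth.Agent.Lib.Helper3.NormAlg
import Groth.Agent.Lib.Helper3.SemilocalAlg
import Groth.Agent.Lib.Helper3.AffinePoints
import Groth.Agent.Lib.Helper3.QCOpen
import Groth.Agent.Lib.Helper3.QCLim

set_option autoImplicit false
universe u
open CategoryTheory CategoryTheory.Limits AlgebraicGeometry TopologicalSpace Opposite
open Scheme.Modules

namespace Groth.Agent.Lib.Helper3.SecLoc

open QCSec InvGen FreeBasis

variable {X : Scheme.{u}}

/-- `Γ(M, D(h))` as a module over `Γ(X, U)` -/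
@[reducible] noncomputable def modBasicOpen (M : X.Modules) {U : X.Opens} (h : Γ(X, U)) :
    Module Γ(X, U) Γ(M, X.basicOpen h) :=
  Module.compHom _ (algebraMap Γ(X, U) Γ(X, X.basicOpen h))

attribute [local instance] modBasicOpen

theorem smul_def (M : X.Modules) {U : X.Opens} (h : Γ(X, U)) (a : Γ(X, U))
    (m : Γ(M, X.basicOpen h)) :
    a • m = (rres X (X.basicOpen_le h) a) • m := rfl

instance isScalarTower (M : X.Modules) {U : X.Opens} (h : Γ(X, U)) :
    IsScalarTower Γ(X, U) Γ(X, X.basicOpen h) Γ(M, X.basicOpen h) :=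
  ⟨fun a b m => by
    rw [Algebra.smul_def, mul_smul]
    rfl⟩

/-- restriction `Γ(M, U) → Γ(M, D(h))` as a linear map -/
noncomputable def resLin (M : X.Modules) {U : X.Opens} (h : Γ(X, U)) :
    Γ(M, U) →ₗ[Γ(X, U)] Γ(M, X.basicOpen h) where
  toFun := res M (X.basicOpen_le h)
  map_add' := map_add _
  map_smul' a m := res_smul M (X.basicOpen_le h) a m

theorem resLin_apply (M : X.Modules) {U : X.Opens} (h : Γ(X, U)) (m : Γ(M, U)) :
    resLin M h m = res M (X.basicOpen_le h) m := rfl

theorem isLocalizedModule_resLin (M : X.Modules) [M.IsQuasicoherent] {U : X.Opens}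
    (hU : IsAffineOpen U) (h : Γ(X, U)) :
    IsLocalizedModule.Away h (resLin M h) := by
  have hloc := isLocSec_of_isQuasicoherent M hU h (X.basicOpen h) rfl (X.basicOpen_le h)
  apply IsLocalizedModule.Away.mk_of_addCommGroup
  · rw [Module.End.isUnit_iff]
    have hu : IsUnit (rres X (X.basicOpen_le h) h) := RingedSpace.isUnit_res_basicOpen _ h
    obtain ⟨v, hv⟩ := hu
    constructor
    · intro a b hab
      have h1 : (rres X (X.basicOpen_le h) h) • a = (rres X (X.basicOpen_le h) h) • b := hab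
      rw [← hv] at h1
      have := congrArg (fun t => (↑v⁻¹ : Γ(X, X.basicOpen h)) • t) h1
      simpa only [smul_smul, Units.inv_mul, one_smul] using this
    · intro b
      refine ⟨(↑v⁻¹ : Γ(X, X.basicOpen h)) • b, ?_⟩
      change (rres X (X.basicOpen_le h) h) • ((↑v⁻¹ : Γ(X, X.basicOpen h)) • b) = b
      rw [← hv, smul_smul, Units.mul_inv, one_smul]
  · intro t
    obtain ⟨n, s, hs⟩ := hloc.surj t
    refine ⟨n, s, ?_⟩
    rw [resLin_apply, hs]
    change (rres X (X.basicOpen_le h) (h ^ n)) • t = _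
    rw [rres_pow]
  · intro s hs
    exact hloc.inj s hs

/-! ### bases -/

/-- the `IsBasisAt` predicate from a `Module.Basis` -/
theorem isBasisAt_of_basis (M : X.Modules) (V : X.Opens) {n : ℕ}
    (b : Module.Basis (Fin n) Γ(X, V) Γ(M, V)) : IsBasisAt M V (fun i => b i) := by
  have : (fun a : Fin n → Γ(X, V) => ∑ i, a i • b i) = b.equivFun.symm := by
    funext a
    exact (b.equivFun_symm_apply a).symm
  unfold IsBasisAt
  rw [this]
  exact b.equivFun.symm.bijective

/-- a basis over an affine open restricts to a basis over a basic open -/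
theorem isBasisAt_basicOpen (M : X.Modules) [M.IsQuasicoherent] {U : X.Opens}
    (hU : IsAffineOpen U) {n : ℕ} {e : Fin n → Γ(M, U)} (he : IsBasisAt M U e) (h : Γ(X, U)) :
    IsBasisAt M (X.basicOpen h) (fun i => res M (X.basicOpen_le h) (e i)) := by
  have := hU.isLocalization_basicOpen h
  have := isLocalizedModule_resLin M hU h
  let b := NormAlg.basisOfBijective e he
  let b' := b.ofIsLocalizedModule Γ(X, X.basicOpen h) (Submonoid.powers h) (resLin M h)
  have h1 := isBasisAt_of_basis M (X.basicOpen h) b'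
  have h2 : (fun i => b' i) = fun i => res M (X.basicOpen_le h) (e i) := by
    funext i
    change b.ofIsLocalizedModule Γ(X, X.basicOpen h) (Submonoid.powers h) (resLin M h) i = _
    rw [Module.Basis.ofIsLocalizedModule_apply, resLin_apply]
    exact congrArg _ (NormAlg.basisOfBijective_apply e he i)
  rwa [h2] at h1


theorem res_sum (M : X.Modules) {A B : X.Opens} (h : A ≤ B) {ι : Type*} (s : Finset ι)
    (t : ι → Γ(M, B)) : res M h (∑ i ∈ s, t i) = ∑ i ∈ s, res M h (t i) :=
  map_sum (M.presheaf.map (homOfLE h).op).hom t s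

theorem rres_zero' {A B : X.Opens} (h : A ≤ B) : rres X h (0 : Γ(X, B)) = 0 :=
  map_zero (X.presheaf.map (homOfLE h).op).hom

theorem rres_sub' {A B : X.Opens} (h : A ≤ B) (a b : Γ(X, B)) :
    rres X h (a - b) = rres X h a - rres X h b :=
  map_sub (X.presheaf.map (homOfLE h).op).hom a b

/-- restriction of a linear combination -/
theorem res_lincomb (M : X.Modules) {A B C : X.Opens} (h : A ≤ B) (hBC : B ≤ C) {n : ℕ}
    (a : Fin n → Γ(X, B)) (e : Fin n → Γ(M, C)) :
    res M h (∑ i, a i • res M hBC (e i)) =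
      ∑ i, rres X h (a i) • res M (h.trans hBC) (e i) := by
  rw [res_sum]
  refine Finset.sum_congr rfl fun i _ => ?_
  rw [res_smul, res_res]

/-- A family of sections which is a basis on a basis of the topology of `U` is a basis
over `U`. -/
theorem isBasis_of_local_basisAt (M : X.Modules) {U : X.Opens} {n : ℕ} (e : Fin n → Γ(M, U))
    (h : ∀ (W : X.Opens) (hW : W ≤ U), ∀ x ∈ W, ∃ (B : X.Opens) (hB : B ≤ W), x ∈ B ∧
      IsBasisAt M B (fun i => res M (hB.trans hW) (e i))) :
    IsBasis M U e := by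
  have hinj : ∀ (W : X.Opens) (hW : W ≤ U) (a : Fin n → Γ(X, W)),
      ∑ i, a i • res M hW (e i) = 0 → a = 0 := by
    intro W hW a ha
    choose B hB hxB hbas using h W hW
    funext i
    let ι : Type u := {x : X // x ∈ W}
    have hcov : W ≤ ⨆ x : ι, B x.1 x.2 := by
      intro x hx
      exact Opens.mem_iSup.mpr ⟨⟨x, hx⟩, hxB x hx⟩
    apply fun_eq_of_locally_eq (fun x : ι => B x.1 x.2) W (fun x => hB x.1 x.2) hcov (a i) 0
    intro x
    have h1 : ∑ j, rres X (hB x.1 x.2) (a j) • res M ((hB x.1 x.2).trans hW) (e j) = 0 := by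
      rw [← res_lincomb M (hB x.1 x.2) hW a e, ha, res_zero]
    have h2 := (hbas x.1 x.2).1 (a₁ := fun j => rres X (hB x.1 x.2) (a j)) (a₂ := 0)
      (by simpa using h1)
    have h3 := congrFun h2 i
    rw [rres_zero']
    exact h3
  intro W hW
  constructor
  · intro a b hab
    have hab' : ∑ i, a i • res M hW (e i) = ∑ i, b i • res M hW (e i) := hab
    have : a - b = 0 := hinj W hW (a - b) (by
      simp only [Pi.sub_apply, sub_smul, Finset.sum_sub_distrib, hab', sub_self])
    exact sub_eq_zero.mp this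
  · intro m
    choose B hB hxB hbas using h W hW
    let ι : Type u := {x : X // x ∈ W}
    have hcov : W ≤ ⨆ x : ι, B x.1 x.2 := by
      intro x hx
      exact Opens.mem_iSup.mpr ⟨⟨x, hx⟩, hxB x hx⟩
    choose c hc using fun x : ι => (hbas x.1 x.2).2 (res M (hB x.1 x.2) m)
    have hc' : ∀ x : ι, ∑ i, c x i • res M ((hB x.1 x.2).trans hW) (e i) =
        res M (hB x.1 x.2) m := hc
    have hcompat : ∀ (x y : ι) (i : Fin n),
        rres X (inf_le_left : B x.1 x.2 ⊓ B y.1 y.2 ≤ B x.1 x.2) (c x i) =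
          rres X (inf_le_right : B x.1 x.2 ⊓ B y.1 y.2 ≤ B y.1 y.2) (c y i) := by
      intro x y i
      have hle : B x.1 x.2 ⊓ B y.1 y.2 ≤ U := (inf_le_left.trans (hB x.1 x.2)).trans hW
      have h0 := hinj (B x.1 x.2 ⊓ B y.1 y.2) hle
        (fun j => rres X (inf_le_left : B x.1 x.2 ⊓ B y.1 y.2 ≤ B x.1 x.2) (c x j) -
          rres X (inf_le_right : B x.1 x.2 ⊓ B y.1 y.2 ≤ B y.1 y.2) (c y j)) (by
        simp only [sub_smul, Finset.sum_sub_distrib]
        rw [← res_lincomb M (inf_le_left : B x.1 x.2 ⊓ B y.1 y.2 ≤ B x.1 x.2)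
          ((hB x.1 x.2).trans hW) (c x) e,
          ← res_lincomb M (inf_le_right : B x.1 x.2 ⊓ B y.1 y.2 ≤ B y.1 y.2)
          ((hB y.1 y.2).trans hW) (c y) e, hc' x, hc' y, res_res, res_res, sub_self])
      exact sub_eq_zero.mp (congrFun h0 i)
    choose a ha using fun i => fun_glue (fun x : ι => B x.1 x.2) W (fun x => hB x.1 x.2) hcov
      (fun x => c x i) (fun x y => hcompat x y i)
    refine ⟨a, ?_⟩
    apply sec_eq_of_locally_eq M (fun x : ι => B x.1 x.2) W (fun x => hB x.1 x.2) hcov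
    intro x
    change res M (hB x.1 x.2) (∑ i, a i • res M hW (e i)) = _
    rw [res_lincomb, ← hc' x]
    refine Finset.sum_congr rfl fun i _ => ?_
    rw [ha i x]

/-- On an affine open, a basis of the sections of a quasi-coherent module is a basis of the
sheaf. -/
theorem isBasis_of_isBasisAt (M : X.Modules) [M.IsQuasicoherent] {U : X.Opens}
    (hU : IsAffineOpen U) {n : ℕ} {e : Fin n → Γ(M, U)} (he : IsBasisAt M U e) :
    IsBasis M U e := by
  apply isBasis_of_local_basisAt
  intro W hW x hx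
  obtain ⟨f, hfW, hxf⟩ := hU.exists_basicOpen_le ⟨x, hx⟩ (hW hx)
  refine ⟨X.basicOpen f, hfW, hxf, ?_⟩
  exact isBasisAt_basicOpen M hU he f


/-! ### locally free modules -/

theorem isQuasicoherent_flatFreeMod (X : Scheme.{u}) (n : ℕ) :
    SheafOfModules.IsQuasicoherent (R := X.ringCatSheaf) (FlatMod.freeMod X n) :=
  QCLim.isQuasicoherent_finite_colimit
    (Discrete.functor fun _ : Fin n => Coh.structureModule X)
    (fun _ => QCOpen.isQuasicoherent_structureModule X)

theorem isQuasicoherent_of_isFinLocFreeOfRank {E : X.Modules} {n : ℕ}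
    (hE : FlatMod.IsFinLocFreeOfRank n E) :
    SheafOfModules.IsQuasicoherent (R := X.ringCatSheaf) E := by
  apply QCOpen.isQuasicoherent_of_open_cover
  intro x
  obtain ⟨U, hxU, ⟨φ⟩⟩ := hE x
  exact ⟨U, hxU, (SheafOfModules.isQuasicoherent (U : Scheme.{u}).ringCatSheaf).prop_of_iso φ.symm
    (isQuasicoherent_flatFreeMod (U : Scheme.{u}) n)⟩

/-- A locally free module of rank `r` is free near any finite subset of an affine open. -/
theorem exists_isBasis_basicOpen {E : X.Modules} {r : ℕ} (hE : FlatMod.IsFinLocFreeOfRank r E)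
    (Z : Set X) (hZ : Z.Finite) {V : X.Opens} (hV : IsAffineOpen V) (hZV : Z ⊆ V) :
    ∃ (t : Γ(X, V)) (e : Fin r → Γ(E, X.basicOpen t)),
      Z ⊆ X.basicOpen t ∧ IsBasis E (X.basicOpen t) e := by
  have : E.IsQuasicoherent := isQuasicoherent_of_isFinLocFreeOfRank hE
  let s : Set Γ(X, V) :=
    {h | ∃ e : Fin r → Γ(E, X.basicOpen h), IsBasisAt E (X.basicOpen h) e}
  have hs : Ideal.span s = ⊤ := by
    rw [← hV.self_le_iSup_basicOpen_iff]
    intro x hx
    obtain ⟨U, e, hxU, he⟩ := (isFinLocFreeOfRank_iff.mp hE) x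
    obtain ⟨f, hfU, hxf⟩ := hV.exists_basicOpen_le ⟨x, hxU⟩ hx
    exact Opens.mem_iSup.mpr ⟨⟨f, _, (he.mono hfU).self⟩, hxf⟩
  choose e he using fun g : s => g.2
  have h1 : ∀ g : s, IsLocalization.Away g.val Γ(X, X.basicOpen g.val) :=
    fun g => hV.isLocalization_basicOpen g.val
  have h2 : ∀ g : s, IsLocalizedModule (Submonoid.powers g.val) (resLin E g.val) :=
    fun g => isLocalizedModule_resLin E hV g.val
  obtain ⟨hfin, hproj, hrank⟩ := SemilocalAlg.finite_projective_rank_of_span s hs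
    (Aₚ := fun g => Γ(X, X.basicOpen g.val)) (Mₚ := fun g => Γ(E, X.basicOpen g.val))
    (fun g => resLin E g.val) r (fun g => NormAlg.basisOfBijective (e g) (he g))
  have : Finite Z := hZ.to_subtype
  let Z' : Set (PrimeSpectrum Γ(X, V)) :=
    Set.range (fun z : Z => hV.primeIdealOf ⟨z.1, hZV z.2⟩)
  have hZ' : Z'.Finite := Set.finite_range _
  obtain ⟨t, htZ, ⟨b⟩⟩ :=
    Groth.Agent.Lib.Helper13.SemilocalFree.exists_basis_away_of_rankAtStalk_eq
      Γ(X, V) Γ(E, V) r hrank Z' hZ'
  have := hV.isLocalization_basicOpen t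
  have := isLocalizedModule_resLin E hV t
  obtain ⟨b'⟩ := SemilocalAlg.nonempty_basis_of_isLocalizedModule (Submonoid.powers t)
    Γ(X, X.basicOpen t) (resLin E t) b
  refine ⟨t, fun i => b' i, ?_, ?_⟩
  · intro z hz
    rw [SetLike.mem_coe, Groth.Agent.Lib.Helper3.mem_basicOpen_iff_notMem_primeIdealOf hV z (hZV hz)]
    exact htZ _ ⟨⟨z, hz⟩, rfl⟩
  · exact isBasis_of_isBasisAt E (hV.basicOpen t) (isBasisAt_of_basis E _ b')

end Groth.Agent.Lib.Helper3.SecLoc
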