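import Groth.Agent.Lib.Helper3.WeakAss
import Groth.Agent.Lib.Helper3.QCProps

/-!
# Stalk maps of morphisms of `O_X`-modules are linear; weakly associated points of submodules
-/

set_option autoImplicit false
universe u
open CategoryTheory CategoryTheory.Limits AlgebraicGeometry TopologicalSpace Opposite

namespace Groth.Agent.Lib.Helper3.QS

variable {X : Scheme.{u}}

/-- The stalk map of a morphism of `O_X`-modules. -/
noncomputable abbrev stalkMap {F G : X.Modules} (φ : F ⟶ G) (x : X) :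
    F.presheaf.stalk x ⟶ G.presheaf.stalk x :=
  (TopCat.Presheaf.stalkFunctor AddCommGrpCat.{u} x).map φ.mapPresheaf

theorem exists_germ_pair (F : X.Modules) (x : X) (a : X.presheaf.stalk x)
    (m : F.presheaf.stalk x) :
    ∃ (W : X.Opens) (hx : x ∈ W) (r : Γ(X, W)) (s : Γ(F, W)),
      X.presheaf.germ W x hx r = a ∧ F.presheaf.germ W x hx s = m := by
  obtain ⟨U, hxU, r, rfl⟩ := TopCat.Presheaf.exists_germ_eq X.presheaf a
  obtain ⟨V, hxV, s, rfl⟩ := TopCat.Presheaf.exists_germ_eq F.presheaf m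
  refine ⟨U ⊓ V, ⟨hxU, hxV⟩, X.presheaf.map (homOfLE inf_le_left).op r,
    F.presheaf.map (homOfLE inf_le_right).op s, ?_, ?_⟩
  · exact TopCat.Presheaf.germ_res_apply X.presheaf (homOfLE inf_le_left) x ⟨hxU, hxV⟩ r
  · exact TopCat.Presheaf.germ_res_apply F.presheaf (homOfLE inf_le_right) x ⟨hxU, hxV⟩ s

theorem stalkMap_germ {F G : X.Modules} (φ : F ⟶ G) (x : X) (W : X.Opens) (hx : x ∈ W)
    (s : Γ(F, W)) :
    stalkMap φ x (F.presheaf.germ W x hx s) = G.presheaf.germ W x hx (φ.app W s) :=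
  TopCat.Presheaf.stalkFunctor_map_germ_apply W x hx φ.mapPresheaf s

theorem stalkMap_smul {F G : X.Modules} (φ : F ⟶ G) (x : X) (a : X.presheaf.stalk x)
    (m : F.presheaf.stalk x) : stalkMap φ x (a • m) = a • stalkMap φ x m := by
  obtain ⟨W, hx, r, s, rfl, rfl⟩ := exists_germ_pair F x a m
  rw [← germ_smul, stalkMap_germ, stalkMap_germ, Scheme.Modules.Hom.app_smul, germ_smul]

theorem stalkMap_injective_of_mono {F G : X.Modules} (φ : F ⟶ G) [Mono φ] (x : X) :
    Function.Injective (stalkMap φ x) :=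
  TopCat.Presheaf.stalkFunctor_map_injective_of_app_injective
    (fun U => (QCProps.mono_iff_app_injective φ).mp inferInstance U) x

theorem stalkMap_comp_apply {F G H : X.Modules} (φ : F ⟶ G) (ψ : G ⟶ H) (x : X)
    (m : F.presheaf.stalk x) : stalkMap (φ ≫ ψ) x m = stalkMap ψ x (stalkMap φ x m) := by
  obtain ⟨W, hx, s, rfl⟩ := TopCat.Presheaf.exists_germ_eq F.presheaf m
  rw [stalkMap_germ, stalkMap_germ, stalkMap_germ]
  rfl

theorem stalkMap_zero_apply {F G : X.Modules} (x : X) (m : F.presheaf.stalk x) :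
    stalkMap (0 : F ⟶ G) x m = 0 := by
  obtain ⟨W, hx, s, rfl⟩ := TopCat.Presheaf.exists_germ_eq F.presheaf m
  rw [stalkMap_germ]
  exact map_zero _

/-- Weakly associated points of a submodule are weakly associated points of the module. -/
theorem isWeakAssPoint_of_mono {K F : X.Modules} (ι : K ⟶ F) [Mono ι] (x : X)
    (h : Curv2.IsWeakAssPoint K x) : Curv2.IsWeakAssPoint F x := by
  obtain ⟨m, hm⟩ := h
  refine ⟨stalkMap ι x m, ?_⟩
  rw [← hm]
  congr 1
  ext a
  simp only [LinearMap.mem_ker, LinearMap.toSpanSingleton_apply]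
  rw [← stalkMap_smul]
  constructor
  · intro h0
    apply stalkMap_injective_of_mono ι x
    rw [h0, map_zero]
  · intro h0
    rw [h0, map_zero]

end Groth.Agent.Lib.Helper3.QS
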