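import Groth.Agent.Lib.Helper3.ModBasic

set_option autoImplicit false
universe u
open CategoryTheory CategoryTheory.Limits AlgebraicGeometry TopologicalSpace Opposite
open Scheme.Modules

namespace Groth.Agent.Lib.Helper3.QCLocal

variable {X : Scheme.{u}}

set_option backward.isDefEq.respectTransparency false in
/-- Local generating sections of a finite type module, on affine opens. -/
theorem exists_affine_generatingSections (M : X.Modules) [M.IsFiniteType] (x : X) :
    ∃ (U : X.Opens) (_ : IsAffineOpen U) (_ : x ∈ U) (σ : (M.restrict U.ι).GeneratingSections),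
      σ.IsFiniteType := by
  obtain ⟨⟨I, W, cov, gen⟩, hfin⟩ := SheafOfModules.IsFiniteType.exists_localGeneratorsData M
  rw [Opens.coversTop_iff] at cov
  have hx : x ∈ ⨆ i, W i := by rw [cov]; trivial
  obtain ⟨i, hxi⟩ := Opens.mem_iSup.1 hx
  obtain ⟨U, hU, hxU, hUW⟩ : ∃ U : X.Opens, IsAffineOpen U ∧ x ∈ U ∧ U ≤ W i := by
    obtain ⟨U, hU, hxU, hUW⟩ := Opens.isBasis_iff_nbhd.mp X.isBasis_affineOpens hxi
    exact ⟨U, hU, hxU, hUW⟩
  let u := X.homOfLE hUW
  have : PreservesColimitsOfSize.{u, u} (restrictFunctor u) := inferInstance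
  let F := (overEquiv (W i)).functor ⋙ restrictFunctor u
  let iso : SheafOfModules.overFunctor X.ringCatSheaf _ ⋙ F ≅ restrictFunctor U.ι :=
    (Functor.associator _ _ _).symm ≪≫
      Functor.isoWhiskerRight (Scheme.Modules.overFunctorEquiv _) _ ≪≫
      (restrictFunctorComp _ _).symm ≪≫ (restrictFunctorCongr (by simp [u]))
  have hfi : (gen i).IsFiniteType := hfin.isFiniteType i
  refine ⟨U, hU, hxU,
    (SheafOfModules.GeneratingSections.equivOfIso (iso.app M))
      ((gen i).map F (Scheme.Modules.restrictUnitIso _).symm), ?_⟩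
  dsimp [SheafOfModules.GeneratingSections.equivOfIso]
  infer_instance

section LocalToGlobal

variable (M : X.Modules)

/-- comparison iso between the restriction to the over-site and the restriction to the open
subscheme. -/
noncomputable def overIso (U : X.Opens) :
    (overEquiv U).inverse.obj (M.restrict U.ι) ≅ SheafOfModules.over (R := X.ringCatSheaf) M U :=
  (overEquiv U).inverse.mapIso ((overFunctorEquiv U).app M).symm ≪≫
    ((overEquiv U).unitIso.app _).symm

set_option backward.isDefEq.respectTransparency false in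
noncomputable def localGeneratorsDataOfCover {ι : Type u} (U : ι → X.Opens) (hU : IsOpenCover U)
    (σ : ∀ i, (M.restrict (U i).ι).GeneratingSections) :
    SheafOfModules.LocalGeneratorsData (R := X.ringCatSheaf) M where
  I := ι
  X := U
  coversTop := (Opens.coversTop_iff _ U).mpr hU
  generators i :=
    have : PreservesColimitsOfSize.{u, u} (overEquiv (U i)).inverse := inferInstance
    SheafOfModules.GeneratingSections.equivOfIso (overIso M (U i))
      ((σ i).map (overEquiv (U i)).inverse
        (Opens.sheafOfModulesEquivOverInverseUnit (U i) X.ringCatSheaf).symm)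


set_option backward.isDefEq.respectTransparency false in
theorem isFiniteType_of_cover {ι : Type u} (U : ι → X.Opens) (hU : IsOpenCover U)
    (σ : ∀ i, (M.restrict (U i).ι).GeneratingSections) (hσ : ∀ i, (σ i).IsFiniteType) :
    SheafOfModules.IsFiniteType (R := X.ringCatSheaf) M := by
  constructor
  refine ⟨localGeneratorsDataOfCover M U hU σ, ?_⟩
  constructor
  intro i
  have : (σ i).IsFiniteType := hσ i
  dsimp [localGeneratorsDataOfCover, SheafOfModules.GeneratingSections.equivOfIso]
  infer_instance

/-- pointwise version -/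
theorem isFiniteType_of_forall_exists
    (h : ∀ x : X, ∃ (U : X.Opens) (_ : x ∈ U) (σ : (M.restrict U.ι).GeneratingSections),
      σ.IsFiniteType) :
    SheafOfModules.IsFiniteType (R := X.ringCatSheaf) M := by
  choose U hxU σ hσ using h
  refine isFiniteType_of_cover M U ?_ σ hσ
  rw [IsOpenCover, eq_top_iff]
  intro x _
  exact Opens.mem_iSup.mpr ⟨x, hxU x⟩

instance {C : Type*} [Category C] {J : GrothendieckTopology C} {R : Sheaf J RingCat.{u}}
    [HasSheafify J AddCommGrpCat.{u}] [J.WEqualsLocallyBijective AddCommGrpCat.{u}]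
    {C' : Type*} [Category C'] {J' : GrothendieckTopology C'} {S : Sheaf J' RingCat.{u}}
    [HasSheafify J' AddCommGrpCat.{u}] [J'.WEqualsLocallyBijective AddCommGrpCat.{u}]
    {N : SheafOfModules.{u} R} (P : N.Presentation) [P.IsFinite]
    (F : SheafOfModules.{u} R ⥤ SheafOfModules.{u} S) [PreservesColimitsOfSize.{u, u} F]
    (η : SheafOfModules.unit S ≅ F.obj (SheafOfModules.unit R)) : (P.map F η).IsFinite where
  isFiniteType_generators := ⟨inferInstanceAs (Finite P.generators.I)⟩
  isFiniteType_relations := ⟨inferInstanceAs (Finite P.relations.I)⟩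

set_option backward.isDefEq.respectTransparency false in
noncomputable def quasicoherentDataOfCover {ι : Type u} (U : ι → X.Opens) (hU : IsOpenCover U)
    (P : ∀ i, (M.restrict (U i).ι).Presentation) :
    SheafOfModules.QuasicoherentData (R := X.ringCatSheaf) M where
  I := ι
  X := U
  coversTop := (Opens.coversTop_iff _ U).mpr hU
  presentation i :=
    have : PreservesColimitsOfSize.{u, u} (overEquiv (U i)).inverse := inferInstance
    SheafOfModules.Presentation.ofIsIso (overIso M (U i)).hom
      ((P i).map (overEquiv (U i)).inverse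
        (Opens.sheafOfModulesEquivOverInverseUnit (U i) X.ringCatSheaf).symm)

theorem isQuasicoherent_of_cover {ι : Type u} (U : ι → X.Opens) (hU : IsOpenCover U)
    (P : ∀ i, (M.restrict (U i).ι).Presentation) :
    SheafOfModules.IsQuasicoherent (R := X.ringCatSheaf) M :=
  (quasicoherentDataOfCover M U hU P).isQuasicoherent

set_option backward.isDefEq.respectTransparency false in
theorem isFinitePresentation_of_cover {ι : Type u} (U : ι → X.Opens) (hU : IsOpenCover U)
    (P : ∀ i, (M.restrict (U i).ι).Presentation) (hP : ∀ i, (P i).IsFinite) :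
    SheafOfModules.IsFinitePresentation (R := X.ringCatSheaf) M := by
  constructor
  refine ⟨quasicoherentDataOfCover M U hU P, ?_⟩
  constructor
  intro i
  have : (P i).IsFinite := hP i
  dsimp [quasicoherentDataOfCover]
  infer_instance

theorem isQuasicoherent_of_forall_exists
    (h : ∀ x : X, ∃ (U : X.Opens) (_ : x ∈ U), Nonempty (M.restrict U.ι).Presentation) :
    SheafOfModules.IsQuasicoherent (R := X.ringCatSheaf) M := by
  choose U hxU P using h
  refine isQuasicoherent_of_cover M U ?_ (fun x => (P x).some)
  rw [IsOpenCover, eq_top_iff]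
  intro x _
  exact Opens.mem_iSup.mpr ⟨x, hxU x⟩

theorem isFinitePresentation_of_forall_exists
    (h : ∀ x : X, ∃ (U : X.Opens) (_ : x ∈ U) (P : (M.restrict U.ι).Presentation), P.IsFinite) :
    SheafOfModules.IsFinitePresentation (R := X.ringCatSheaf) M := by
  choose U hxU P hP using h
  refine isFinitePresentation_of_cover M U ?_ P hP
  rw [IsOpenCover, eq_top_iff]
  intro x _
  exact Opens.mem_iSup.mpr ⟨x, hxU x⟩


end LocalToGlobal

section GlobalToLocal

set_option backward.isDefEq.respectTransparency false in
/-- Local finite presentations of a finitely presented module, on affine opens. -/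
theorem exists_affine_presentation (M : X.Modules)
    [SheafOfModules.IsFinitePresentation (R := X.ringCatSheaf) M] (x : X) :
    ∃ (U : X.Opens) (_ : IsAffineOpen U) (_ : x ∈ U) (P : (M.restrict U.ι).Presentation),
      P.IsFinite := by
  obtain ⟨⟨I, W, cov, pres⟩, hfin⟩ :=
    SheafOfModules.IsFinitePresentation.exists_quasicoherentData (R := X.ringCatSheaf) M
  rw [Opens.coversTop_iff] at cov
  have hx : x ∈ ⨆ i, W i := by rw [cov]; trivial
  obtain ⟨i, hxi⟩ := Opens.mem_iSup.1 hx
  obtain ⟨U, hU, hxU, hUW⟩ : ∃ U : X.Opens, IsAffineOpen U ∧ x ∈ U ∧ U ≤ W i := by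
    obtain ⟨U, hU, hxU, hUW⟩ := Opens.isBasis_iff_nbhd.mp X.isBasis_affineOpens hxi
    exact ⟨U, hU, hxU, hUW⟩
  let u := X.homOfLE hUW
  have : PreservesColimitsOfSize.{u, u} (restrictFunctor u) := inferInstance
  let F := (overEquiv (W i)).functor ⋙ restrictFunctor u
  let iso : SheafOfModules.overFunctor X.ringCatSheaf _ ⋙ F ≅ restrictFunctor U.ι :=
    (Functor.associator _ _ _).symm ≪≫
      Functor.isoWhiskerRight (Scheme.Modules.overFunctorEquiv _) _ ≪≫
      (restrictFunctorComp _ _).symm ≪≫ (restrictFunctorCongr (by simp [u]))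
  have hfi : (pres i).IsFinite := hfin.isFinite_presentation i
  refine ⟨U, hU, hxU,
    SheafOfModules.Presentation.ofIsIso.{u, u, u} (iso.app M).hom
      ((pres i).map F (Scheme.Modules.restrictUnitIso _).symm), ?_⟩
  infer_instance

/-- Local presentations of a quasi-coherent module, on affine opens. -/
theorem exists_affine_presentation_of_isQuasicoherent (M : X.Modules)
    [SheafOfModules.IsQuasicoherent (R := X.ringCatSheaf) M] (x : X) :
    ∃ (U : X.Opens) (_ : IsAffineOpen U) (_ : x ∈ U), Nonempty (M.restrict U.ι).Presentation := by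
  obtain ⟨ι, U, pres, hU, hU'⟩ := Scheme.Modules.exists_isOpenCover_presentation M
  have hx : x ∈ ⨆ i, U i := by rw [hU]; trivial
  obtain ⟨i, hxi⟩ := Opens.mem_iSup.1 hx
  exact ⟨U i, hU' i, hxi, ⟨pres i⟩⟩

end GlobalToLocal

end Groth.Agent.Lib.Helper3.QCLocal
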