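import Groth.Agent.Lib.Helper3.QCExtend
import Groth.Prelude.Def_SecTwist

/-!
# Local generators of invertible modules
-/

set_option autoImplicit false
universe u
open CategoryTheory CategoryTheory.Limits AlgebraicGeometry TopologicalSpace Opposite
open Scheme.Modules

namespace Groth.Agent.Lib.Helper3.InvGen

open QCSec

variable {X : Scheme.{u}}

/-- `m` is a basis of the sections of `L` over `V`. -/
def IsGenAt (L : X.Modules) (V : X.Opens) (m : Γ(L, V)) : Prop :=
  Function.Bijective (fun a : Γ(X, V) => a • m)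

/-- `e` generates `L` over `U` (as a sheaf). -/
def IsGen (L : X.Modules) (U : X.Opens) (e : Γ(L, U)) : Prop :=
  ∀ (V : X.Opens) (h : V ≤ U), IsGenAt L V (res L h e)

theorem IsGenAt.of_eq {L : X.Modules} {V V' : X.Opens} {m : Γ(L, V)} (hm : IsGenAt L V m)
    (h : V' = V) : IsGenAt L V' (res L (le_of_eq h) m) := by
  subst h
  rw [res_self]
  exact hm

theorem IsGen.mono {L : X.Modules} {U : X.Opens} {e : Γ(L, U)} (hg : IsGen L U e)
    {U' : X.Opens} (h : U' ≤ U) : IsGen L U' (res L h e) := by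
  intro V hV
  rw [res_res]
  exact hg V (hV.trans h)

theorem IsGen.self {L : X.Modules} {U : X.Opens} {e : Γ(L, U)} (hg : IsGen L U e) :
    IsGenAt L U e := by
  have := hg U le_rfl
  rwa [res_self] at this

theorem IsGenAt.smul_unit {L : X.Modules} {V : X.Opens} {m : Γ(L, V)} (hm : IsGenAt L V m)
    {u : Γ(X, V)} (hu : IsUnit u) : IsGenAt L V (u • m) := by
  obtain ⟨v, hv⟩ := hu.exists_right_inv
  have hv' : v * u = 1 := by rw [mul_comm]; exact hv
  constructor
  · intro a b hab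
    have h1 : (a * u) • m = (b * u) • m := by
      simpa only [mul_smul] using hab
    have h2 := hm.1 h1
    calc a = a * u * v := by rw [mul_assoc, hv, mul_one]
      _ = b * u * v := by rw [h2]
      _ = b := by rw [mul_assoc, hv, mul_one]
  · intro x
    obtain ⟨a, ha⟩ := hm.2 x
    refine ⟨a * v, ?_⟩
    change (a * v) • u • m = x
    rw [← mul_smul, mul_assoc, hv', mul_one]
    exact ha

theorem rres_isUnit {A B : X.Opens} (h : A ≤ B) {u : Γ(X, B)} (hu : IsUnit u) :
    IsUnit (rres X h u) := hu.map _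

theorem IsGen.smul_unit {L : X.Modules} {U : X.Opens} {e : Γ(L, U)} (hg : IsGen L U e)
    {u : Γ(X, U)} (hu : IsUnit u) : IsGen L U (u • e) := by
  intro V hV
  rw [res_smul]
  exact (hg V hV).smul_unit (rres_isUnit hV hu)

theorem IsGenAt.exists_unit {L : X.Modules} {V : X.Opens} {m m' : Γ(L, V)}
    (hm : IsGenAt L V m) (hm' : IsGenAt L V m') : ∃ u : Γ(X, V), IsUnit u ∧ m' = u • m := by
  obtain ⟨u, hu⟩ := hm.2 m'
  obtain ⟨v, hv⟩ := hm'.2 m
  dsimp only at hu hv
  refine ⟨u, ?_, hu.symm⟩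
  have h1 : (v * u) • m = (1 : Γ(X, V)) • m := by
    rw [mul_smul, hu, hv, one_smul]
  have h2 : v * u = 1 := hm.1 h1
  exact IsUnit.of_mul_eq_one v (by rw [mul_comm]; exact h2)

/-- the coordinate of a section with respect to a generator -/
theorem IsGenAt.exists_coord {L : X.Modules} {V : X.Opens} {m : Γ(L, V)}
    (hm : IsGenAt L V m) (x : Γ(L, V)) : ∃ a : Γ(X, V), a • m = x := hm.2 x

theorem IsGenAt.smul_inj {L : X.Modules} {V : X.Opens} {m : Γ(L, V)}
    (hm : IsGenAt L V m) {a b : Γ(X, V)} (h : a • m = b • m) : a = b := hm.1 h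

theorem IsGenAt.eq_zero {L : X.Modules} {V : X.Opens} {m : Γ(L, V)}
    (hm : IsGenAt L V m) {a : Γ(X, V)} (h : a • m = 0) : a = 0 :=
  hm.1 (by dsimp only; rw [h, zero_smul])


/-! ### the structure sheaf -/

/-- a function as a section of the structure module -/
def ofFun (U : X.Opens) (a : Γ(X, U)) : Γ(Coh.structureModule X, U) := a

/-- a section of the structure module as a function -/
def toFun (U : X.Opens) (a : Γ(Coh.structureModule X, U)) : Γ(X, U) := a

theorem res_ofFun {A B : X.Opens} (h : A ≤ B) (a : Γ(X, B)) :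
    res (Coh.structureModule X) h (ofFun B a) = ofFun A (rres X h a) := rfl

theorem smul_ofFun (U : X.Opens) (r a : Γ(X, U)) : r • ofFun U a = ofFun U (r * a) := rfl

theorem ofFun_injective (U : X.Opens) : Function.Injective (ofFun (X := X) U) := fun _ _ h => h

theorem isGenAt_one (U : X.Opens) : IsGenAt (Coh.structureModule X) U (ofFun U 1) := by
  constructor
  · intro a b hab
    have h : ofFun U (a * 1) = ofFun U (b * 1) := hab
    simpa using ofFun_injective U h
  · intro x
    exact ⟨toFun U x, by change ofFun U (toFun U x * 1) = x; rw [mul_one]; rfl⟩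

theorem rres_one {A B : X.Opens} (h : A ≤ B) : rres X h (1 : Γ(X, B)) = 1 :=
  map_one (X.presheaf.map (homOfLE h).op).hom

theorem rres_mul {A B : X.Opens} (h : A ≤ B) (a b : Γ(X, B)) :
    rres X h (a * b) = rres X h a * rres X h b :=
  map_mul (X.presheaf.map (homOfLE h).op).hom a b

theorem isGen_one (U : X.Opens) : IsGen (Coh.structureModule X) U (ofFun U 1) := by
  intro V hV
  rw [res_ofFun, rres_one]
  exact isGenAt_one V

/-- sheaf separatedness for functions -/
theorem fun_eq_of_locally_eq {ι : Type u} (W : ι → X.Opens) (V : X.Opens) (hW : ∀ i, W i ≤ V)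
    (hcov : V ≤ ⨆ i, W i) (a b : Γ(X, V)) (h : ∀ i, rres X (hW i) a = rres X (hW i) b) :
    a = b := by
  apply ofFun_injective V
  apply TopCat.Sheaf.eq_of_locally_eq'
    ⟨(Coh.structureModule X).presheaf, (Coh.structureModule X).isSheaf⟩ W V
    (fun i => homOfLE (hW i)) hcov
  intro i
  exact congrArg (ofFun (W i)) (h i)

/-- gluing of functions -/
theorem fun_glue {ι : Type u} (W : ι → X.Opens) (V : X.Opens) (hW : ∀ i, W i ≤ V)
    (hcov : V ≤ ⨆ i, W i) (a : ∀ i, Γ(X, W i))
    (h : ∀ i j, rres X (inf_le_left : W i ⊓ W j ≤ W i) (a i) =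
      rres X (inf_le_right : W i ⊓ W j ≤ W j) (a j)) :
    ∃ b : Γ(X, V), ∀ i, rres X (hW i) b = a i := by
  have hcompat : TopCat.Presheaf.IsCompatible (Coh.structureModule X).presheaf W
      (fun i => ofFun (W i) (a i)) := by
    intro i j
    exact congrArg (ofFun (W i ⊓ W j)) (h i j)
  obtain ⟨s, hs, -⟩ := TopCat.Sheaf.existsUnique_gluing'
    ⟨(Coh.structureModule X).presheaf, (Coh.structureModule X).isSheaf⟩ W V
    (fun i => homOfLE (hW i)) hcov (fun i => ofFun (W i) (a i)) hcompat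
  exact ⟨toFun V s, fun i => hs i⟩

/-- sheaf separatedness for sections of a module -/
theorem sec_eq_of_locally_eq (M : X.Modules) {ι : Type u} (W : ι → X.Opens) (V : X.Opens)
    (hW : ∀ i, W i ≤ V) (hcov : V ≤ ⨆ i, W i) (a b : Γ(M, V))
    (h : ∀ i, res M (hW i) a = res M (hW i) b) : a = b :=
  TopCat.Sheaf.eq_of_locally_eq' ⟨M.presheaf, M.isSheaf⟩ W V (fun i => homOfLE (hW i)) hcov a b h

/-- gluing of sections of a module -/
theorem sec_glue (M : X.Modules) {ι : Type u} (W : ι → X.Opens) (V : X.Opens)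
    (hW : ∀ i, W i ≤ V) (hcov : V ≤ ⨆ i, W i) (a : ∀ i, Γ(M, W i))
    (h : ∀ i j, res M (inf_le_left : W i ⊓ W j ≤ W i) (a i) =
      res M (inf_le_right : W i ⊓ W j ≤ W j) (a j)) :
    ∃ b : Γ(M, V), ∀ i, res M (hW i) b = a i := by
  obtain ⟨s, hs, -⟩ := TopCat.Sheaf.existsUnique_gluing' ⟨M.presheaf, M.isSheaf⟩ W V
    (fun i => homOfLE (hW i)) hcov a (fun i j => h i j)
  exact ⟨s, hs⟩

/-- Being a generator is a local property. -/
theorem isGen_of_local {L : X.Modules} {U : X.Opens} {e : Γ(L, U)}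
    (h : ∀ x ∈ U, ∃ (W : X.Opens) (hW : W ≤ U), x ∈ W ∧ IsGen L W (res L hW e)) :
    IsGen L U e := by
  intro V hV
  choose W hWU hxW hgen using h
  let ι : Type u := {x : X // x ∈ V}
  let W' : ι → X.Opens := fun x => W x.1 (hV x.2) ⊓ V
  have hW'V : ∀ i, W' i ≤ V := fun i => inf_le_right
  have hW'W : ∀ i : ι, W' i ≤ W i.1 (hV i.2) := fun i => inf_le_left
  have hcov : V ≤ ⨆ i, W' i := by
    intro x hx
    exact Opens.mem_iSup.mpr ⟨⟨x, hx⟩, ⟨hxW x (hV hx), hx⟩⟩
  -- the generator on `W' i`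
  have hgenW' : ∀ i : ι, IsGenAt L (W' i) (res L ((hW'V i).trans hV) e) := by
    intro i
    have := hgen i.1 (hV i.2) (W' i) (hW'W i)
    rwa [res_res] at this
  have hgenW'' : ∀ (i : ι) (A : X.Opens) (hA : A ≤ W' i),
      IsGenAt L A (res L ((hA.trans (hW'V i)).trans hV) e) := by
    intro i A hA
    have := hgen i.1 (hV i.2) A (hA.trans (hW'W i))
    rwa [res_res] at this
  constructor
  · intro a b hab
    dsimp only at hab
    apply fun_eq_of_locally_eq W' V hW'V hcov
    intro i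
    apply (hgenW' i).smul_inj
    have := congrArg (res L (hW'V i)) hab
    rwa [res_smul, res_smul, res_res] at this
  · intro m
    have key : ∀ i : ι, ∃ a : Γ(X, W' i), a • res L ((hW'V i).trans hV) e = res L (hW'V i) m :=
      fun i => (hgenW' i).exists_coord _
    choose a ha using key
    obtain ⟨b, hb⟩ := fun_glue W' V hW'V hcov a (by
      intro i j
      apply (hgenW'' i (W' i ⊓ W' j) inf_le_left).smul_inj
      have h1 := congrArg (res L (inf_le_left : W' i ⊓ W' j ≤ W' i)) (ha i)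
      have h2 := congrArg (res L (inf_le_right : W' i ⊓ W' j ≤ W' j)) (ha j)
      rw [res_smul, res_res, res_res] at h1 h2
      rw [h1, h2])
    refine ⟨b, ?_⟩
    dsimp only
    apply sec_eq_of_locally_eq L W' V hW'V hcov
    intro i
    rw [res_smul, res_res, hb i, ha i]


/-! ### global sections as morphisms -/

/-- the section over `U` named by `s : O ⟶ L` -/
noncomputable def sec {L : X.Modules} (s : Coh.structureModule X ⟶ L) (U : X.Opens) : Γ(L, U) :=
  s.app U (ofFun U 1)

theorem sec_eq_val {L : X.Modules} (s : Coh.structureModule X ⟶ L) (U : X.Opens) :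
    sec s U = SecTwist.val s U := rfl

theorem app_eq_smul_sec {L : X.Modules} (s : Coh.structureModule X ⟶ L) (U : X.Opens)
    (r : Γ(X, U)) : s.app U (ofFun U r) = r • sec s U := by
  unfold sec
  rw [← Scheme.Modules.Hom.app_smul, smul_ofFun, mul_one]

theorem res_sec {L : X.Modules} (s : Coh.structureModule X ⟶ L) {A B : X.Opens} (h : A ≤ B) :
    res L h (sec s B) = sec s A := by
  unfold sec
  rw [← QCExact.app_res', res_ofFun, rres_one]

theorem sec_comp {L L' : X.Modules} (s : Coh.structureModule X ⟶ L) (φ : L ⟶ L') (U : X.Opens) :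
    sec (s ≫ φ) U = φ.app U (sec s U) := rfl

theorem sec_add {L : X.Modules} (s t : Coh.structureModule X ⟶ L) (U : X.Opens) :
    sec (s + t) U = sec s U + sec t U := rfl

theorem bijective_app_iff {L : X.Modules} (s : Coh.structureModule X ⟶ L) (V : X.Opens) :
    Function.Bijective (s.app V) ↔ IsGenAt L V (sec s V) := by
  have : (fun a : Γ(X, V) => a • sec s V) = fun a => s.app V (ofFun V a) := by
    funext a
    rw [app_eq_smul_sec]
  unfold IsGenAt
  rw [this]
  rfl

theorem ι_image_preimage_of_le {W V : X.Opens} (h : V ≤ W) : W.ι ''ᵁ (W.ι ⁻¹ᵁ V) = V := by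
  rw [Scheme.Hom.image_preimage_eq_opensRange_inf, Scheme.Opens.opensRange_ι]
  exact inf_eq_right.mpr h

theorem isIso_restrict_iff {L : X.Modules} (s : Coh.structureModule X ⟶ L) (W : X.Opens) :
    IsIso ((Scheme.Modules.restrictFunctor W.ι).map s) ↔ IsGen L W (sec s W) := by
  constructor
  · intro hiso V hV
    have h1 : IsIso (((Scheme.Modules.restrictFunctor W.ι).map s).app (W.ι ⁻¹ᵁ V)) :=
      inferInstance
    have h2 : Function.Bijective (s.app (W.ι ''ᵁ (W.ι ⁻¹ᵁ V))) :=
      (ConcreteCategory.isIso_iff_bijective _).mp h1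
    rw [bijective_app_iff] at h2
    have h3 := h2.of_eq (ι_image_preimage_of_le hV).symm
    rw [res_sec] at h3
    rw [res_sec]
    exact h3
  · intro hg
    rw [Scheme.Modules.Hom.isIso_iff_isIso_app]
    intro V'
    have h2 : Function.Bijective (s.app (W.ι ''ᵁ V')) := by
      rw [bijective_app_iff]
      have := hg (W.ι ''ᵁ V') (W.ι_image_le V')
      rwa [res_sec] at this
    exact (ConcreteCategory.isIso_iff_bijective
      (((Scheme.Modules.restrictFunctor W.ι).map s).app V')).mpr h2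

theorem mem_genLocus_iff {L : X.Modules} (s : Coh.structureModule X ⟶ L) (x : X) :
    x ∈ CohB1.genLocus L s ↔ ∃ W : X.Opens, x ∈ W ∧ IsGen L W (sec s W) := by
  unfold CohB1.genLocus
  constructor
  · intro hx
    obtain ⟨W, hW, hxW⟩ := Opens.mem_sSup.mp hx
    exact ⟨W, hxW, (isIso_restrict_iff s W).mp hW⟩
  · rintro ⟨W, hxW, hW⟩
    exact Opens.mem_sSup.mpr ⟨W, (isIso_restrict_iff s W).mpr hW, hxW⟩

theorem le_genLocus {L : X.Modules} (s : Coh.structureModule X ⟶ L) {W : X.Opens}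
    (hW : IsGen L W (sec s W)) : W ≤ CohB1.genLocus L s :=
  fun _ hx => (mem_genLocus_iff s _).mpr ⟨W, hx, hW⟩

theorem isGen_genLocus {L : X.Modules} (s : Coh.structureModule X ⟶ L) :
    IsGen L (CohB1.genLocus L s) (sec s _) := by
  apply isGen_of_local
  intro x hx
  obtain ⟨W, hxW, hW⟩ := (mem_genLocus_iff s x).mp hx
  refine ⟨W, le_genLocus s hW, hxW, ?_⟩
  rw [res_sec]
  exact hW

theorem isGen_sec_of_le {L : X.Modules} (s : Coh.structureModule X ⟶ L) {W : X.Opens}
    (hW : W ≤ CohB1.genLocus L s) : IsGen L W (sec s W) := by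
  have := (isGen_genLocus s).mono hW
  rwa [res_sec] at this

theorem le_genLocus_iff {L : X.Modules} (s : Coh.structureModule X ⟶ L) {W : X.Opens} :
    W ≤ CohB1.genLocus L s ↔ IsGen L W (sec s W) :=
  ⟨isGen_sec_of_le s, le_genLocus s⟩

theorem genLocus_comp_iso {L L' : X.Modules} (s : Coh.structureModule X ⟶ L) (φ : L ⟶ L')
    [IsIso φ] : CohB1.genLocus L' (s ≫ φ) = CohB1.genLocus L s := by
  unfold CohB1.genLocus
  congr 1
  ext U
  simp only [Set.mem_ofPred_eq, Functor.map_comp]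
  constructor
  · intro h
    exact IsIso.of_isIso_comp_right _ ((Scheme.Modules.restrictFunctor U.ι).map φ)
  · intro h
    infer_instance

/-- On an open where `L` is generated by `e`, the locus `X_s` is the basic open of the
coordinate of `s`. -/
theorem genLocus_inf_eq_basicOpen {L : X.Modules} (s : Coh.structureModule X ⟶ L)
    {U : X.Opens} {e : Γ(L, U)} (hg : IsGen L U e) (f : Γ(X, U)) (hf : sec s U = f • e) :
    CohB1.genLocus L s ⊓ U = X.basicOpen f := by
  apply le_antisymm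
  · intro x hx
    obtain ⟨W, hxW, hW⟩ := (mem_genLocus_iff s x).mp hx.1
    have hxU : x ∈ U := hx.2
    have hV1 : IsGenAt L (W ⊓ U) (sec s (W ⊓ U)) := by
      have := hW (W ⊓ U) inf_le_left
      rwa [res_sec] at this
    have hV2 : IsGenAt L (W ⊓ U) (res L inf_le_right e) := hg (W ⊓ U) inf_le_right
    obtain ⟨u, hu, hue⟩ := hV2.exists_unit hV1
    have h1 : sec s (W ⊓ U) = rres X (inf_le_right : W ⊓ U ≤ U) f • res L inf_le_right e := by
      rw [← res_sec s (inf_le_right : W ⊓ U ≤ U), hf, res_smul]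
    have h2 : u = rres X (inf_le_right : W ⊓ U ≤ U) f := hV2.smul_inj (hue.symm.trans h1)
    have h3 : X.basicOpen (rres X (inf_le_right : W ⊓ U ≤ U) f) = W ⊓ U :=
      X.basicOpen_of_isUnit (h2 ▸ hu)
    have h4 : X.basicOpen (rres X (inf_le_right : W ⊓ U ≤ U) f) = (W ⊓ U) ⊓ X.basicOpen f :=
      Scheme.basicOpen_res X f (homOfLE (inf_le_right : W ⊓ U ≤ U)).op
    have h5 : W ⊓ U ≤ X.basicOpen f := by
      rw [← h3, h4]; exact inf_le_right
    exact h5 ⟨hxW, hxU⟩
  · apply le_inf _ (X.basicOpen_le f)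
    apply le_genLocus
    have h1 : sec s (X.basicOpen f) =
        rres X (X.basicOpen_le f) f • res L (X.basicOpen_le f) e := by
      rw [← res_sec s (X.basicOpen_le f), hf, res_smul]
    rw [h1]
    exact (hg.mono (X.basicOpen_le f)).smul_unit
      (RingedSpace.isUnit_res_basicOpen X.toRingedSpace f)


/-! ### invertible modules -/

theorem restrict_smul (L : X.Modules) (U : X.Opens) (V' : (U : Scheme.{u}).Opens)
    (a : Γ((U : Scheme.{u}), V')) (m : Γ(L.restrict U.ι, V')) :
    a • m = (show Γ(L.restrict U.ι, V') from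
      ((U.ι.appIso V').inv a) • (show Γ(L, U.ι ''ᵁ V') from m)) := rfl

theorem isGenAt_of_restrict (L : X.Modules) (U : X.Opens) (V' : (U : Scheme.{u}).Opens)
    (m : Γ(L.restrict U.ι, V')) (hm : IsGenAt (L.restrict U.ι) V' m) :
    IsGenAt L (U.ι ''ᵁ V') (show Γ(L, U.ι ''ᵁ V') from m) := by
  have hbij : Function.Bijective (U.ι.appIso V').hom :=
    (ConcreteCategory.isIso_iff_bijective (U.ι.appIso V').hom).mp inferInstance
  have : (fun b : Γ(X, U.ι ''ᵁ V') => b • (show Γ(L, U.ι ''ᵁ V') from m)) =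
      (fun a : Γ((U : Scheme.{u}), V') => a • m) ∘ (U.ι.appIso V').hom := by
    funext b
    change _ = (U.ι.appIso V').hom b • m
    rw [restrict_smul]
    change _ = ((U.ι.appIso V').hom ≫ (U.ι.appIso V').inv) b • _
    rw [Iso.hom_inv_id]
    rfl
  unfold IsGenAt
  rw [this]
  exact hm.comp hbij

theorem isGenAt_restrict_of (L : X.Modules) (U : X.Opens) (V' : (U : Scheme.{u}).Opens)
    (m : Γ(L.restrict U.ι, V')) (hm : IsGenAt L (U.ι ''ᵁ V') (show Γ(L, U.ι ''ᵁ V') from m)) :
    IsGenAt (L.restrict U.ι) V' m := by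
  have hbij : Function.Bijective (U.ι.appIso V').inv :=
    (ConcreteCategory.isIso_iff_bijective (U.ι.appIso V').inv).mp inferInstance
  have : (fun a : Γ((U : Scheme.{u}), V') => a • m) =
      (fun b : Γ(X, U.ι ''ᵁ V') => (show Γ(L.restrict U.ι, V') from
        b • (show Γ(L, U.ι ''ᵁ V') from m))) ∘ (U.ι.appIso V').inv := by
    funext a
    rw [restrict_smul]
    rfl
  unfold IsGenAt
  rw [this]
  exact Function.Bijective.comp hm hbij

theorem exists_isGen_of_iso {L : X.Modules} {U : X.Opens}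
    (φ : L.restrict U.ι ≅ Coh.structureModule (U : Scheme.{u})) : ∃ e : Γ(L, U), IsGen L U e := by
  let ψ : Coh.structureModule (U : Scheme.{u}) ⟶ L.restrict U.ι := φ.inv
  have hψ : ∀ V' : (U : Scheme.{u}).Opens, IsGenAt (L.restrict U.ι) V' (sec ψ V') := by
    intro V'
    rw [← bijective_app_iff]
    exact (ConcreteCategory.isIso_iff_bijective (ψ.app V')).mp inferInstance
  let e0 : Γ(L, U.ι ''ᵁ ⊤) := sec ψ ⊤
  have htop : U ≤ U.ι ''ᵁ ⊤ := le_of_eq U.ι_image_top.symm
  refine ⟨res L htop e0, ?_⟩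
  intro V hV
  have h1 := isGenAt_of_restrict L U (U.ι ⁻¹ᵁ V) _ (hψ (U.ι ⁻¹ᵁ V))
  have h2 := h1.of_eq (ι_image_preimage_of_le hV).symm
  have h3 : (show Γ(L, U.ι ''ᵁ (U.ι ⁻¹ᵁ V)) from sec ψ (U.ι ⁻¹ᵁ V)) =
      res L (Scheme.Hom.image_mono U.ι le_top) e0 :=
    (res_sec ψ (le_top : U.ι ⁻¹ᵁ V ≤ ⊤)).symm
  rw [h3, res_res] at h2
  rw [res_res]
  exact h2

theorem exists_isGen {L : X.Modules} (hL : PicF.IsInvertible L) (x : X) :
    ∃ (U : X.Opens) (e : Γ(L, U)), x ∈ U ∧ IsGen L U e := by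
  obtain ⟨U, hxU, ⟨φ⟩⟩ := hL x
  obtain ⟨e, he⟩ := exists_isGen_of_iso φ
  exact ⟨U, e, hxU, he⟩

theorem exists_affine_isGen_le {L : X.Modules} (hL : PicF.IsInvertible L) (x : X)
    (W : X.Opens) (hxW : x ∈ W) :
    ∃ (U : X.Opens) (e : Γ(L, U)), IsAffineOpen U ∧ x ∈ U ∧ U ≤ W ∧ IsGen L U e := by
  obtain ⟨U₀, e₀, hxU₀, hg⟩ := exists_isGen hL x
  obtain ⟨U, hU, hxU, hUle⟩ := Opens.isBasis_iff_nbhd.mp X.isBasis_affineOpens
    (show x ∈ U₀ ⊓ W from ⟨hxU₀, hxW⟩)
  exact ⟨U, res L (hUle.trans inf_le_left) e₀, hU, hxU, hUle.trans inf_le_right,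
    hg.mono (hUle.trans inf_le_left)⟩

theorem exists_affine_isGen {L : X.Modules} (hL : PicF.IsInvertible L) (x : X) :
    ∃ (U : X.Opens) (e : Γ(L, U)), IsAffineOpen U ∧ x ∈ U ∧ IsGen L U e := by
  obtain ⟨U, e, hU, hxU, -, hg⟩ := exists_affine_isGen_le hL x ⊤ trivial
  exact ⟨U, e, hU, hxU, hg⟩

/-- the morphism `O_U ⟶ L|_U` defined by a section of `L` over `U` -/
noncomputable def homOfSec (L : X.Modules) (U : X.Opens) (e : Γ(L, U)) :
    Coh.structureModule (U : Scheme.{u}) ⟶ L.restrict U.ι :=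
  (L.restrict U.ι).unitHomEquiv.symm (QCExtend.secOf L U e)

theorem sec_homOfSec (L : X.Modules) (U : X.Opens) (e : Γ(L, U)) (V' : (U : Scheme.{u}).Opens) :
    (show Γ(L, U.ι ''ᵁ V') from sec (homOfSec L U e) V') = res L (U.ι_image_le V') e := by
  have h := (L.restrict U.ι).unitHomEquiv.apply_symm_apply (QCExtend.secOf L U e)
  exact congrArg (fun σ => σ.val (op V')) h

theorem isIso_homOfSec {L : X.Modules} {U : X.Opens} {e : Γ(L, U)} (hg : IsGen L U e) :
    IsIso (homOfSec L U e) := by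
  rw [Scheme.Modules.Hom.isIso_iff_isIso_app]
  intro V'
  apply (ConcreteCategory.isIso_iff_bijective ((homOfSec L U e).app V')).mpr
  rw [bijective_app_iff]
  apply isGenAt_restrict_of
  rw [sec_homOfSec]
  exact hg _ _

theorem isInvertible_of_isGen {L : X.Modules}
    (h : ∀ x : X, ∃ (U : X.Opens) (e : Γ(L, U)), x ∈ U ∧ IsGen L U e) : PicF.IsInvertible L := by
  intro x
  obtain ⟨U, e, hxU, hg⟩ := h x
  haveI := isIso_homOfSec hg
  exact ⟨U, hxU, ⟨(asIso (homOfSec L U e)).symm⟩⟩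

theorem isInvertible_structureModule (X : Scheme.{u}) :
    PicF.IsInvertible (Coh.structureModule X) :=
  isInvertible_of_isGen fun _ => ⟨⊤, ofFun ⊤ 1, trivial, isGen_one ⊤⟩

end Groth.Agent.Lib.Helper3.InvGen
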