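import Groth.Agent.Lib.Helper3.QCExact
import Groth.Agent.Lib.Helper3.QCProps
import Groth.Agent.Lib.Helper3.InvGen

/-!
# Checking properties of morphisms of `O_X`-modules on a basis of opens
-/

set_option autoImplicit false
universe u
open CategoryTheory CategoryTheory.Limits AlgebraicGeometry TopologicalSpace Opposite
open Scheme.Modules

namespace Groth.Agent.Lib.Helper3.ModBasis

open QCSec InvGen

variable {X : Scheme.{u}}

/-- a section which vanishes on a neighbourhood of every point vanishes -/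
theorem eq_zero_of_locally_zero (F : X.Modules) (W : X.Opens) (t : Γ(F, W))
    (h : ∀ x : X, x ∈ W → ∃ (V : X.Opens) (hV : V ≤ W), x ∈ V ∧ res F hV t = 0) : t = 0 := by
  have hloc : ∀ x : {x : X // x ∈ W}, ∃ (W' : X.Opens) (hW' : W' ≤ W), x.1 ∈ W' ∧
      res F hW' t = 0 := fun x => h x.1 x.2
  choose W' hW' hxW' hres using hloc
  exact sec_eq_of_locally_eq F W' W hW' (fun x hx => Opens.mem_iSup.mpr ⟨⟨x, hx⟩, hxW' _⟩)
    t 0 (fun i => by rw [hres i, res_zero])

/-- a morphism of modules which is injective on sections over a basis of opens is a mono -/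
theorem mono_of_injective_on_basis {F G : X.Modules} (φ : F ⟶ G)
    (h : ∀ (W : X.Opens) (x : X), x ∈ W →
      ∃ V : X.Opens, x ∈ V ∧ V ≤ W ∧ ∀ t : Γ(F, V), φ.app V t = 0 → t = 0) : Mono φ := by
  rw [QCProps.mono_iff_app_injective]
  intro W t t' htt
  have hz : ∀ t₀ : Γ(F, W), φ.app W t₀ = 0 → t₀ = 0 := by
    intro t₀ ht₀
    refine eq_zero_of_locally_zero F W t₀ (fun x hx => ?_)
    obtain ⟨V, hxV, hVW, hV⟩ := h W x hx
    refine ⟨V, hVW, hxV, hV _ ?_⟩
    rw [QCExact.app_res', ht₀, res_zero]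
  have h1 : φ.app W (t - t') = 0 := by rw [map_sub, htt, sub_self]
  exact sub_eq_zero.mp (hz _ h1)

/-- a morphism of modules which is surjective on sections over a basis of opens is an epi -/
theorem epi_of_surjective_on_basis {F G : X.Modules} (φ : F ⟶ G)
    (h : ∀ (W : X.Opens) (x : X), x ∈ W →
      ∃ V : X.Opens, x ∈ V ∧ V ≤ W ∧ Function.Surjective (φ.app V)) : Epi φ := by
  apply QCExact.epi_of_locally_surjective
  intro W s x hx
  obtain ⟨V, hxV, hVW, hV⟩ := h W x hx
  obtain ⟨t, ht⟩ := hV (res G hVW s)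
  exact ⟨V, hVW, hxV, t, ht⟩

/-- a module all of whose sections over a basis of opens vanish is zero -/
theorem isZero_of_zero_on_basis (F : X.Modules)
    (h : ∀ (W : X.Opens) (x : X), x ∈ W →
      ∃ V : X.Opens, x ∈ V ∧ V ≤ W ∧ ∀ t : Γ(F, V), t = 0) : IsZero F := by
  haveI : Mono (0 : F ⟶ F) := by
    apply mono_of_injective_on_basis
    intro W x hx
    obtain ⟨V, hxV, hVW, hV⟩ := h W x hx
    exact ⟨V, hxV, hVW, fun t _ => hV t⟩
  exact IsZero.of_mono_zero F F

/-- a short complex of modules which is exact on sections over a basis of opens is exact -/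
theorem exact_of_exact_on_basis (S : ShortComplex X.Modules)
    (h : ∀ (W : X.Opens) (x : X), x ∈ W → ∃ V : X.Opens, x ∈ V ∧ V ≤ W ∧
      ∀ s : Γ(S.X₂, V), S.g.app V s = 0 → ∃ t : Γ(S.X₁, V), S.f.app V t = s) : S.Exact := by
  rw [S.exact_iff_epi_toCycles]
  apply QCExact.epi_of_locally_surjective
  intro W c x hx
  obtain ⟨V, hxV, hVW, hV⟩ := h W x hx
  have h1 : S.g.app V (S.iCycles.app V (res S.cycles hVW c)) = 0 := by
    have := congrArg (fun φ => φ.app V (res S.cycles hVW c)) S.iCycles_g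
    exact this
  obtain ⟨t, ht⟩ := hV _ h1
  refine ⟨V, hVW, hxV, t, ?_⟩
  apply QCExact.injective_sections S.iCycles V
  have := congrArg (fun φ => φ.app V t) S.toCycles_i
  exact this.trans ht

end Groth.Agent.Lib.Helper3.ModBasis
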