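import Groth.Agent.Lib.Helper3.InvAmple

/-!
# Restriction of tensor products and of ample modules to open subschemes
-/

set_option autoImplicit false
universe u
open CategoryTheory CategoryTheory.Limits AlgebraicGeometry TopologicalSpace Opposite
open Scheme.Modules TensorProduct MonoidalCategory

namespace Groth.Agent.Lib.Helper3.InvRestrict

open QCSec InvGen InvTensor InvMonoidal InvAmple

variable {X Y : Scheme.{u}} (j : Y ⟶ X) [IsOpenImmersion j]

section S1

theorem restrict_smul' (M : X.Modules) (V : Y.Opens) (a : Γ(Y, V)) (m : Γ(M.restrict j, V)) :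
    a • m = (show Γ(M.restrict j, V) from
      ((j.appIso V).inv a) • (show Γ(M, j ''ᵁ V) from m)) := rfl

/-- the comparison map from the sectionwise tensor product of the restrictions to the restriction
of the tensor product -/
noncomputable def rEta (M N : X.Modules) :
    CohB1.toPMod (M.restrict j) ⊗ CohB1.toPMod (N.restrict j) ⟶
      CohB1.toPMod ((CohB1.tensorMod M N).restrict j) where
  app V := ModuleCat.MonoidalCategory.tensorLift
    (fun (m : (CohB1.toPMod (M.restrict j)).obj V) (n : (CohB1.toPMod (N.restrict j)).obj V) =>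
      (show (CohB1.toPMod ((CohB1.tensorMod M N).restrict j)).obj V from
        tm M N (j ''ᵁ V.unop) m n))
    (fun m₁ m₂ n => tm_add_left M N _ m₁ m₂ n)
    (fun a m n => tm_smul_left M N _ ((j.appIso V.unop).inv a) m n)
    (fun m n₁ n₂ => tm_add_right M N _ m n₁ n₂)
    (fun a m n => tm_smul_right M N _ ((j.appIso V.unop).inv a) m n)
  naturality {V₁ V₂} f := by
    apply ModuleCat.MonoidalCategory.tensor_ext
    intro m n
    exact (SecTwist.map_tmul M N (j.opensFunctor.map f.unop) m n).symm

end S1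

section S2

/-- the bi-additive map `(m, n) ↦ m ⊗ₜ n` -/
def mkAdd (R : Type*) [CommRing R] (A B : Type*) [AddCommGroup A] [AddCommGroup B] [Module R A]
    [Module R B] : A →+ B →+ A ⊗[R] B where
  toFun m :=
    { toFun := fun n => m ⊗ₜ[R] n
      map_zero' := TensorProduct.tmul_zero _ _
      map_add' := TensorProduct.tmul_add _ }
  map_zero' := by ext n; exact TensorProduct.zero_tmul _ _
  map_add' := by intro a b; ext n; exact TensorProduct.add_tmul _ _ _

variable (M N : X.Modules)

/-- from the tensor product over `Γ(Y, V)` to the tensor product over `Γ(X, j(V))` -/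
noncomputable def thetaYX (V : Y.Opens) :
    ((CohB1.toPMod (M.restrict j) ⊗ CohB1.toPMod (N.restrict j)).obj (op V)) →+
      ((CohB1.toPMod M ⊗ CohB1.toPMod N).obj (op (j ''ᵁ V))) :=
  TensorProduct.liftAddHom (R := Rg Y V)
    (M := (CohB1.toPMod (M.restrict j)).obj (op V)) (N := (CohB1.toPMod (N.restrict j)).obj (op V))
    (mkAdd (Rg X (j ''ᵁ V)) ((CohB1.toPMod M).obj (op (j ''ᵁ V)))
      ((CohB1.toPMod N).obj (op (j ''ᵁ V))))
    (fun a m n => TensorProduct.smul_tmul (R := Rg X (j ''ᵁ V)) (R' := Rg X (j ''ᵁ V))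
      ((j.appIso V).inv a) (show (CohB1.toPMod M).obj (op (j ''ᵁ V)) from m)
      (show (CohB1.toPMod N).obj (op (j ''ᵁ V)) from n))

theorem thetaYX_tmul (V : Y.Opens) (m : Γ(M.restrict j, V)) (n : Γ(N.restrict j, V)) :
    thetaYX j M N V ((show (CohB1.toPMod (M.restrict j)).obj (op V) from m) ⊗ₜ[Rg Y V]
      (show (CohB1.toPMod (N.restrict j)).obj (op V) from n)) =
    (show (CohB1.toPMod M).obj (op (j ''ᵁ V)) from m) ⊗ₜ[Rg X (j ''ᵁ V)]
      (show (CohB1.toPMod N).obj (op (j ''ᵁ V)) from n) := rfl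


theorem smul_X_eq (K : X.Modules) (V : Y.Opens) (r : Γ(X, j ''ᵁ V)) (m : Γ(K.restrict j, V)) :
    ((j.appIso V).hom r) • m =
      (show Γ(K.restrict j, V) from r • (show Γ(K, j ''ᵁ V) from m)) := by
  have e : (j.appIso V).inv ((j.appIso V).hom r) = r := by
    change ((j.appIso V).hom ≫ (j.appIso V).inv) r = r
    rw [Iso.hom_inv_id]
    rfl
  exact (restrict_smul' j K V _ m).trans (congrArg (fun a =>
    (show Γ(K.restrict j, V) from a • (show Γ(K, j ''ᵁ V) from m))) e)

/-- from the tensor product over `Γ(X, j(V))` to the tensor product over `Γ(Y, V)` -/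
noncomputable def thetaXY (V : Y.Opens) :
    ((CohB1.toPMod M ⊗ CohB1.toPMod N).obj (op (j ''ᵁ V))) →+
      ((CohB1.toPMod (M.restrict j) ⊗ CohB1.toPMod (N.restrict j)).obj (op V)) :=
  TensorProduct.liftAddHom (R := Rg X (j ''ᵁ V))
    (M := (CohB1.toPMod M).obj (op (j ''ᵁ V))) (N := (CohB1.toPMod N).obj (op (j ''ᵁ V)))
    (mkAdd (Rg Y V) ((CohB1.toPMod (M.restrict j)).obj (op V))
      ((CohB1.toPMod (N.restrict j)).obj (op V)))
    (fun r m n => by
      have h1 := smul_X_eq j M V (show Γ(X, j ''ᵁ V) from r) (show Γ(M.restrict j, V) from m)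
      have h2 := smul_X_eq j N V (show Γ(X, j ''ᵁ V) from r) (show Γ(N.restrict j, V) from n)
      have h3 := TensorProduct.smul_tmul (R := Rg Y V) (R' := Rg Y V)
        ((j.appIso V).hom (show Γ(X, j ''ᵁ V) from r))
        (show (CohB1.toPMod (M.restrict j)).obj (op V) from m)
        (show (CohB1.toPMod (N.restrict j)).obj (op V) from n)
      exact ((congrArg (fun z => (show (CohB1.toPMod (M.restrict j)).obj (op V) from z) ⊗ₜ[Rg Y V]
          (show (CohB1.toPMod (N.restrict j)).obj (op V) from n)) h1.symm).trans h3).trans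
        (congrArg (fun z => (show (CohB1.toPMod (M.restrict j)).obj (op V) from m) ⊗ₜ[Rg Y V]
          (show (CohB1.toPMod (N.restrict j)).obj (op V) from z)) h2))

theorem thetaXY_thetaYX (V : Y.Opens)
    (s : (CohB1.toPMod (M.restrict j) ⊗ CohB1.toPMod (N.restrict j)).obj (op V)) :
    thetaXY j M N V (thetaYX j M N V s) = s := by
  induction s using TensorProduct.induction_on with
  | zero => exact (congrArg (thetaXY j M N V) (map_zero (thetaYX j M N V))).trans (map_zero _)
  | tmul m n => rfl
  | add a b ha hb =>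
    exact (congrArg (thetaXY j M N V) (map_add (thetaYX j M N V) a b)).trans
      ((map_add (thetaXY j M N V) _ _).trans (congrArg₂ (· + ·) ha hb))

theorem eta_thetaYX (V : Y.Opens)
    (s : (CohB1.toPMod (M.restrict j) ⊗ CohB1.toPMod (N.restrict j)).obj (op V)) :
    ((eta M N).app (op (j ''ᵁ V))).hom (thetaYX j M N V s) =
      ((rEta j M N).app (op V)).hom s := by
  induction s using TensorProduct.induction_on with
  | zero =>
    exact ((congrArg ((eta M N).app (op (j ''ᵁ V))).hom (map_zero (thetaYX j M N V))).trans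
      (map_zero _)).trans (map_zero ((rEta j M N).app (op V)).hom).symm
  | tmul m n => rfl
  | add a b ha hb =>
    exact ((congrArg ((eta M N).app (op (j ''ᵁ V))).hom (map_add (thetaYX j M N V) a b)).trans
      ((map_add ((eta M N).app (op (j ''ᵁ V))).hom _ _).trans (congrArg₂ (· + ·) ha hb))).trans
      (map_add ((rEta j M N).app (op V)).hom a b).symm

theorem exists_rEta_eq (V : Y.Opens)
    (t : (CohB1.toPMod M ⊗ CohB1.toPMod N).obj (op (j ''ᵁ V))) :
    ∃ s : (CohB1.toPMod (M.restrict j) ⊗ CohB1.toPMod (N.restrict j)).obj (op V),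
      ((rEta j M N).app (op V)).hom s = ((eta M N).app (op (j ''ᵁ V))).hom t := by
  induction t using TensorProduct.induction_on with
  | zero =>
    exact ⟨0, (map_zero ((rEta j M N).app (op V)).hom).trans
      (map_zero ((eta M N).app (op (j ''ᵁ V))).hom).symm⟩
  | tmul m n =>
    exact ⟨(show (CohB1.toPMod (M.restrict j)).obj (op V) from m) ⊗ₜ[Rg Y V]
      (show (CohB1.toPMod (N.restrict j)).obj (op V) from n), rfl⟩
  | add a b ha hb =>
    obtain ⟨sa, hsa⟩ := ha
    obtain ⟨sb, hsb⟩ := hb
    exact ⟨sa + sb, ((map_add ((rEta j M N).app (op V)).hom sa sb).trans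
      (congrArg₂ (· + ·) hsa hsb)).trans (map_add ((eta M N).app (op (j ''ᵁ V))).hom a b).symm⟩

theorem thetaYX_map {V₁ V₂ : Y.Opens} (h : V₁ ≤ V₂)
    (s : (CohB1.toPMod (M.restrict j) ⊗ CohB1.toPMod (N.restrict j)).obj (op V₂)) :
    thetaYX j M N V₁
      (((CohB1.toPMod (M.restrict j) ⊗ CohB1.toPMod (N.restrict j)).map (homOfLE h).op).hom s) =
    ((CohB1.toPMod M ⊗ CohB1.toPMod N).map (j.opensFunctor.map (homOfLE h)).op).hom
      (thetaYX j M N V₂ s) := by
  induction s using TensorProduct.induction_on with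
  | zero =>
    exact ((congrArg (thetaYX j M N V₁) (map_zero ((CohB1.toPMod (M.restrict j) ⊗
      CohB1.toPMod (N.restrict j)).map (homOfLE h).op).hom)).trans (map_zero _)).trans
      ((congrArg ((CohB1.toPMod M ⊗ CohB1.toPMod N).map
        (j.opensFunctor.map (homOfLE h)).op).hom (map_zero (thetaYX j M N V₂))).trans
        (map_zero _)).symm
  | tmul m n => rfl
  | add a b ha hb =>
    exact ((congrArg (thetaYX j M N V₁) (map_add ((CohB1.toPMod (M.restrict j) ⊗
      CohB1.toPMod (N.restrict j)).map (homOfLE h).op).hom a b)).trans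
      ((map_add (thetaYX j M N V₁) _ _).trans (congrArg₂ (· + ·) ha hb))).trans
      ((congrArg ((CohB1.toPMod M ⊗ CohB1.toPMod N).map
        (j.opensFunctor.map (homOfLE h)).op).hom (map_add (thetaYX j M N V₂) a b)).trans
        (map_add _ _ _)).symm

end S2

section S3

/-- pull back a sieve along an open immersion -/
def pbSieve (V : Y.Opens) (S₀ : Sieve (j ''ᵁ V)) : Sieve V where
  arrows V' g := S₀ (j.opensFunctor.map g)
  downward_closed := fun {V₁ V₂ g} hg h => by
    have := S₀.downward_closed hg (j.opensFunctor.map h)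
    rwa [← Functor.map_comp] at this

theorem pbSieve_mem (V : Y.Opens) {S₀ : Sieve (j ''ᵁ V)}
    (hS₀ : S₀ ∈ Opens.grothendieckTopology X (j ''ᵁ V)) :
    pbSieve j V S₀ ∈ Opens.grothendieckTopology Y V := by
  intro x hx
  obtain ⟨U', f, hf, hxU'⟩ := hS₀ (j x) ⟨x, hx, rfl⟩
  have hle : j ⁻¹ᵁ U' ≤ V := by
    have := Scheme.Hom.preimage_mono j (leOfHom f)
    rwa [j.preimage_image_eq] at this
  refine ⟨j ⁻¹ᵁ U', homOfLE hle, ?_, hxU'⟩
  have h1 := S₀.downward_closed hf (homOfLE (j.image_preimage_le U'))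
  have h2 : homOfLE (j.image_preimage_le U') ≫ f = j.opensFunctor.map (homOfLE hle) :=
    Subsingleton.elim _ _
  rw [h2] at h1
  exact h1

variable (M N : X.Modules)

theorem locSurj_rEta :
    Helper13.TensorLocal.LocSurj (Opens.grothendieckTopology Y) (rEta j M N) := by
  intro V s
  obtain ⟨S₀, hS₀, h₀⟩ := locSurj_eta M N (j ''ᵁ V) s
  refine ⟨pbSieve j V S₀, pbSieve_mem j V hS₀, ?_⟩
  intro V' g hg
  obtain ⟨t, ht⟩ := h₀ (j.opensFunctor.map g) hg
  obtain ⟨s', hs'⟩ := exists_rEta_eq j M N V' t
  exact ⟨s', hs'.trans ht⟩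

theorem locInj_rEta :
    Helper13.TensorLocal.LocInj (Opens.grothendieckTopology Y) (rEta j M N) := by
  intro V s hs
  have h1 : ((eta M N).app (op (j ''ᵁ V))).hom (thetaYX j M N V s) = 0 :=
    (eta_thetaYX j M N V s).trans hs
  obtain ⟨S₀, hS₀, h₀⟩ := locInj_eta M N (j ''ᵁ V) (thetaYX j M N V s) h1
  refine ⟨pbSieve j V S₀, pbSieve_mem j V hS₀, ?_⟩
  intro V' g hg
  have h2 := h₀ (j.opensFunctor.map g) hg
  have h3 := thetaYX_map j M N (leOfHom g) s
  have hg' : homOfLE (leOfHom g) = g := Subsingleton.elim _ _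
  rw [hg'] at h3
  have h4 := thetaXY_thetaYX j M N V'
    (((CohB1.toPMod (M.restrict j) ⊗ CohB1.toPMod (N.restrict j)).map g.op).hom s)
  refine h4.symm.trans ?_
  refine (congrArg (thetaXY j M N V') (h3.trans h2)).trans ?_
  exact map_zero _

end S3

section S4

/-- the counit of sheafification at a sheaf of modules -/
noncomputable def counitHom (K : Y.Modules) :
    (CohB1.sheafifyMod Y).obj (show Y.PresheafOfModules from CohB1.toPMod K) ⟶ K :=
  (QCExact.adjSh Y).counit.app K

instance (K : Y.Modules) : IsIso (counitHom K) :=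
  inferInstanceAs (IsIso ((QCExact.adjSh Y).counit.app K))

theorem counit_uu (K : Y.Modules) (V : Y.Opens) (y : Γ(K, V)) :
    (counitHom K).app V (uu (show Y.PresheafOfModules from CohB1.toPMod K) V y) = y := by
  have h := (QCExact.adjSh Y).right_triangle_components K
  have h2 := congrArg (fun ψ => (PresheafOfModules.Hom.app ψ (op V)).hom y) h
  exact h2

variable (M N : X.Modules)

theorem isIso_aMap_rEta : IsIso (aMap (rEta j M N)) :=
  Helper13.TensorLocal.isIso_sheafification_map (J := Opens.grothendieckTopology Y)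
    (𝟙 Y.ringCatSheaf.obj) _ (locSurj_rEta j M N) (locInj_rEta j M N)

/-- restriction to an open subscheme commutes with tensor products -/
noncomputable def restrictTensorIso :
    CohB1.tensorMod (M.restrict j) (N.restrict j) ≅ (CohB1.tensorMod M N).restrict j :=
  haveI := isIso_aMap_rEta j M N
  (asIso (aMap (rEta j M N)) :) ≪≫ (asIso (counitHom ((CohB1.tensorMod M N).restrict j)) :)

theorem restrictTensorIso_hom_tm (V : Y.Opens) (m : Γ(M.restrict j, V)) (n : Γ(N.restrict j, V)) :
    (restrictTensorIso j M N).hom.app V (tm (M.restrict j) (N.restrict j) V m n) =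
      (show Γ((CohB1.tensorMod M N).restrict j, V) from tm M N (j ''ᵁ V) m n) := by
  haveI := isIso_aMap_rEta j M N
  rw [tm_eq_uu]
  change (counitHom ((CohB1.tensorMod M N).restrict j)).app V
    ((aMap (rEta j M N)).app V (uu _ V _)) = _
  rw [aMap_uu]
  exact counit_uu _ V _

end S4

section S5

/-- restriction commutes with tensor powers -/
noncomputable def restrictPowIso (L : X.Modules) :
    (n : ℕ) → (CohB1.tensorPow (L.restrict j) n ≅ (CohB1.tensorPow L n).restrict j)
  | 0 => (restrictUnitIso j).symm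
  | n + 1 => tensorMapIso (restrictPowIso L n) (Iso.refl _) ≪≫
      restrictTensorIso j (CohB1.tensorPow L n) L

theorem res_restrict (K : X.Modules) {V₁ V₂ : Y.Opens} (h : V₁ ≤ V₂) (m : Γ(K.restrict j, V₂)) :
    res (K.restrict j) h m =
      (show Γ(K.restrict j, V₁) from res K (j.image_mono h) (show Γ(K, j ''ᵁ V₂) from m)) := rfl

theorem isGenAt_restrict_iff (L : X.Modules) (V : Y.Opens) (m : Γ(L.restrict j, V)) :
    IsGenAt (L.restrict j) V m ↔ IsGenAt L (j ''ᵁ V) (show Γ(L, j ''ᵁ V) from m) := by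
  have hbij : Function.Bijective (j.appIso V).inv :=
    (ConcreteCategory.isIso_iff_bijective (j.appIso V).inv).mp inferInstance
  have : (fun a : Γ(Y, V) => a • m) =
      (fun b : Γ(X, j ''ᵁ V) => (show Γ(L.restrict j, V) from
        b • (show Γ(L, j ''ᵁ V) from m))) ∘ (j.appIso V).inv := by
    funext a
    rw [restrict_smul']
    rfl
  unfold IsGenAt
  rw [this]
  constructor
  · intro h
    exact (Function.Bijective.of_comp_iff _ hbij).mp h
  · intro h
    exact Function.Bijective.comp h hbij

theorem isGen_restrict_iff (L : X.Modules) (V : Y.Opens) (m : Γ(L.restrict j, V)) :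
    IsGen (L.restrict j) V m ↔ IsGen L (j ''ᵁ V) (show Γ(L, j ''ᵁ V) from m) := by
  constructor
  · intro h U' hU'
    have hle : j ⁻¹ᵁ U' ≤ V := by
      have := Scheme.Hom.preimage_mono j hU'
      rwa [j.preimage_image_eq] at this
    have himg : j ''ᵁ (j ⁻¹ᵁ U') = U' := by
      rw [j.image_preimage_eq_opensRange_inf]
      exact inf_eq_right.mpr (hU'.trans (j.image_le_opensRange V))
    have h1 := (isGenAt_restrict_iff j L _ _).mp (h (j ⁻¹ᵁ U') hle)
    rw [res_restrict] at h1
    have h2 := h1.of_eq himg.symm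
    rw [res_res] at h2
    exact h2
  · intro h V' hV'
    rw [isGenAt_restrict_iff, res_restrict]
    exact h _ (j.image_mono hV')

theorem isInvertible_restrict {L : X.Modules} (hL : PicF.IsInvertible L) :
    PicF.IsInvertible (L.restrict j) := by
  apply isInvertible_of_isGen
  intro y
  obtain ⟨U, e, hxU, hg⟩ := exists_isGen hL (j y)
  refine ⟨j ⁻¹ᵁ U, (show Γ(L.restrict j, j ⁻¹ᵁ U) from res L (j.image_preimage_le U) e), hxU, ?_⟩
  rw [isGen_restrict_iff]
  exact hg.mono _

end S5

section S6

/-- restriction of a global section (as a morphism out of the structure sheaf) -/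
noncomputable def restrictSec {N : X.Modules} (s : Coh.structureModule X ⟶ N) :
    Coh.structureModule Y ⟶ N.restrict j :=
  (restrictUnitIso j).inv ≫ (restrictFunctor j).map s

theorem sec_restrictSec {N : X.Modules} (s : Coh.structureModule X ⟶ N) (V : Y.Opens) :
    sec (restrictSec j s) V = (show Γ(N.restrict j, V) from sec s (j ''ᵁ V)) := by
  unfold restrictSec sec
  change ((restrictFunctor j).map s).app V (((restrictUnitIso j).inv).app V (ofFun V 1)) = _
  have h1 : ((restrictUnitIso j).inv).app V (ofFun V 1) =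
      (show Γ((Coh.structureModule X).restrict j, V) from ofFun (j ''ᵁ V) 1) := by
    change (j.appIso V).inv (1 : Γ(Y, V)) = 1
    exact map_one _
  rw [h1]
  rfl

theorem genLocus_restrictSec {N : X.Modules} (s : Coh.structureModule X ⟶ N) :
    CohB1.genLocus (N.restrict j) (restrictSec j s) = j ⁻¹ᵁ CohB1.genLocus N s := by
  ext y
  constructor
  · intro hy
    obtain ⟨V, hyV, hV⟩ := (mem_genLocus_iff _ y).mp hy
    rw [sec_restrictSec, isGen_restrict_iff] at hV
    exact le_genLocus s hV ⟨y, hyV, rfl⟩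
  · intro hy
    apply (mem_genLocus_iff _ y).mpr
    refine ⟨j ⁻¹ᵁ CohB1.genLocus N s, hy, ?_⟩
    rw [sec_restrictSec, isGen_restrict_iff]
    exact isGen_sec_of_le s (j.image_preimage_le _)

/-- the restriction of an ample module to a quasi-compact open subscheme is ample -/
theorem isAmple_restrict [CompactSpace Y] {L : X.Modules} (hA : CohB1.IsAmple L) :
    CohB1.IsAmple (L.restrict j) := by
  have hL := hA.1
  haveI : X.IsSeparated := isSeparated_of_secLocus_cover hL (exists_secLocus_of_isAmple hA)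
  apply isAmple_of_secLocus (isInvertible_restrict j hL)
  intro y
  obtain ⟨W, ⟨n, s, rfl⟩, hxW, hWle, hWa⟩ :=
    exists_secLocus_nbhd hA (j y) j.opensRange ⟨y, rfl⟩
  refine ⟨j ⁻¹ᵁ CohB1.genLocus _ s,
    ⟨n, restrictSec j s ≫ (restrictPowIso j L (n + 1)).inv, ?_⟩, hxW, ?_⟩
  · rw [genLocus_comp_iso, genLocus_restrictSec]
  · rw [← j.isAffineOpen_iff_of_isOpenImmersion, j.image_preimage_eq_opensRange_inf,
      inf_eq_right.mpr hWle]
    exact hWa

end S6

end Groth.Agent.Lib.Helper3.InvRestrict
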