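import Groth.Agent.Lib.Helper3.InvMonoidal

/-!
# Tensoring quasi-coherent modules with invertible modules
-/

set_option autoImplicit false
universe u
open CategoryTheory CategoryTheory.Limits AlgebraicGeometry TopologicalSpace Opposite
open Scheme.Modules TensorProduct

namespace Groth.Agent.Lib.Helper3.InvCoh

open QCSec InvGen InvTensor InvMonoidal

variable {X : Scheme.{u}}

theorem tm_gen_surjective_self (F L : X.Modules) {U : X.Opens} {e : Γ(L, U)} (hg : IsGen L U e) :
    Function.Surjective (fun t : Γ(F, U) => tm F L U t e) := by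
  have := tm_gen_surjective F L hg U le_rfl
  rwa [res_self] at this

theorem tm_gen_injective_self (F L : X.Modules) {U : X.Opens} {e : Γ(L, U)} (hg : IsGen L U e) :
    Function.Injective (fun t : Γ(F, U) => tm F L U t e) := by
  have := tm_gen_injective F L hg U le_rfl
  rwa [res_self] at this

/-- `t ↦ t ⊗ e` as a linear map -/
noncomputable def tmLin (F L : X.Modules) (U : X.Opens) (e : Γ(L, U)) :
    Γ(F, U) →ₗ[Γ(X, U)] Γ(CohB1.tensorMod F L, U) where
  toFun t := tm F L U t e
  map_add' a b := tm_add_left F L U a b e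
  map_smul' r a := tm_smul_left F L U r a e

theorem isLocSec_tensorMod (F L : X.Modules) [F.IsQuasicoherent] {U : X.Opens}
    (hU : IsAffineOpen U) {e : Γ(L, U)} (hg : IsGen L U e) (g : Γ(X, U)) (W : X.Opens)
    (hW : W = X.basicOpen g) (hWU : W ≤ U) : IsLocSec (CohB1.tensorMod F L) U W hWU g := by
  have hF := isLocSec_of_isQuasicoherent F hU g W hW hWU
  constructor
  · intro σ
    obtain ⟨t, rfl⟩ := tm_gen_surjective F L hg W hWU σ
    obtain ⟨n, t₀, ht₀⟩ := hF.surj t
    refine ⟨n, tm F L U t₀ e, ?_⟩
    dsimp only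
    rw [tm_res, ht₀, tm_smul_left]
  · intro σ hσ
    obtain ⟨t, rfl⟩ := tm_gen_surjective_self F L hg σ
    dsimp only at hσ ⊢
    rw [tm_res] at hσ
    have h0 := tm_gen_eq_zero F L hg W hWU _ hσ
    obtain ⟨n, hn⟩ := hF.inj t h0
    exact ⟨n, by rw [← tm_smul_left, hn, tm_zero_left]⟩

theorem isQuasicoherent_tensorMod (F L : X.Modules) [F.IsQuasicoherent]
    (hL : PicF.IsInvertible L) :
    SheafOfModules.IsQuasicoherent (R := X.ringCatSheaf) (CohB1.tensorMod F L) := by
  apply QCProps.isQuasicoherent_of_charts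
  intro x
  obtain ⟨U, e, hU, hxU, hg⟩ := exists_affine_isGen hL x
  refine ⟨U, hU, hxU, ?_⟩
  apply QCSec.isQuasicoherent_chart_of_isLocSec
  intro g
  exact isLocSec_tensorMod F L hU hg g _ (hU.fromSpec_image_basicOpen g) _

theorem isFiniteType_tensorMod (F L : X.Modules) [F.IsQuasicoherent] [F.IsFiniteType]
    (hL : PicF.IsInvertible L) :
    SheafOfModules.IsFiniteType (R := X.ringCatSheaf) (CohB1.tensorMod F L) := by
  apply QCProps.isFiniteType_of_charts
  intro x
  obtain ⟨U, e, hU, hxU, hg⟩ := exists_affine_isGen hL x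
  refine ⟨U, hU, hxU, ?_, ?_⟩
  · apply QCSec.isQuasicoherent_chart_of_isLocSec
    intro g
    exact isLocSec_tensorMod F L hU hg g _ (hU.fromSpec_image_basicOpen g) _
  · haveI := QCProps.finite_sections F hU
    exact Module.Finite.of_surjective (tmLin F L U e) (tm_gen_surjective_self F L hg)

instance isFiniteType_structureModule (X : Scheme.{u}) :
    SheafOfModules.IsFiniteType (R := X.ringCatSheaf) (Coh.structureModule X) := by
  apply QCProps.isFiniteType_of_charts
  intro x
  obtain ⟨U, hU, hxU⟩ := QCProps.exists_affine_nbhd x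
  refine ⟨U, hU, hxU, ?_, ?_⟩
  · exact Scheme.Modules.isQuasicoherent_restrictFunctor _ _
  · exact Module.Finite.of_surjective
      (LinearMap.toSpanSingleton Γ(X, U) Γ(Coh.structureModule X, U) (ofFun U 1))
      (isGenAt_one U).2

theorem isQuasicoherent_of_isInvertible {L : X.Modules} (hL : PicF.IsInvertible L) :
    SheafOfModules.IsQuasicoherent (R := X.ringCatSheaf) L :=
  (SheafOfModules.isQuasicoherent X.ringCatSheaf).prop_of_iso (unitorL L)
    (isQuasicoherent_tensorMod (Coh.structureModule X) L hL)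

theorem isFiniteType_of_isInvertible {L : X.Modules} (hL : PicF.IsInvertible L) :
    SheafOfModules.IsFiniteType (R := X.ringCatSheaf) L := by
  haveI := isFiniteType_tensorMod (Coh.structureModule X) L hL
  exact QCProps.isFiniteType_of_iso (unitorL L)

end Groth.Agent.Lib.Helper3.InvCoh
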