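import Groth.Agent.Lib.Helper3.SecLoc
import Groth.Agent.Lib.Helper3.QcohStalk
import Groth.Agent.Lib.Helper3.AssPoints

/-!
# Criteria for local freeness of quasi-coherent modules
-/

set_option autoImplicit false
universe u
open CategoryTheory CategoryTheory.Limits AlgebraicGeometry TopologicalSpace Opposite
open Scheme.Modules

namespace Groth.Agent.Lib.Helper3.LocFreeCrit

open QCSec InvGen FreeBasis SecLoc

variable {X : Scheme.{u}}

attribute [local instance] SecLoc.modBasicOpen

/-- If the module of sections of a quasi-coherent module over an affine open `U` is finitely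
presented and free at the prime of `x ∈ U`, then `M` is free on a basic open neighbourhood of
`x`. -/
theorem exists_isBasis_of_mem_freeLocus (M : X.Modules) [M.IsQuasicoherent] {U : X.Opens}
    (hU : IsAffineOpen U) [Module.FinitePresentation Γ(X, U) Γ(M, U)] (x : X) (hx : x ∈ U)
    (hfree : hU.primeIdealOf ⟨x, hx⟩ ∈ Module.freeLocus Γ(X, U) Γ(M, U)) :
    ∃ (f : Γ(X, U)) (r : ℕ) (e : Fin r → Γ(M, X.basicOpen f)),
      x ∈ X.basicOpen f ∧ IsBasis M (X.basicOpen f) e := by
  set p := hU.primeIdealOf ⟨x, hx⟩ with hp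
  have : Module.Free (Localization.AtPrime p.asIdeal)
      (LocalizedModule p.asIdeal.primeCompl Γ(M, U)) := hfree
  obtain ⟨f, hf, hfree', -⟩ := Module.FinitePresentation.exists_free_localizedModule_powers
    p.asIdeal.primeCompl (LocalizedModule.mkLinearMap p.asIdeal.primeCompl Γ(M, U))
    (Localization.AtPrime p.asIdeal)
  have hnt : Nontrivial (Localization (Submonoid.powers f)) :=
    (show Localization (Submonoid.powers f) →+* Localization.AtPrime p.asIdeal from
      IsLocalization.map (M := Submonoid.powers f) (T := p.asIdeal.primeCompl) _ (RingHom.id _)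
        (Submonoid.powers_le.mpr hf)).domain_nontrivial
  have hfin : Module.Finite (Localization (Submonoid.powers f))
      (LocalizedModule (Submonoid.powers f) Γ(M, U)) :=
    Module.Finite.of_isLocalizedModule (Submonoid.powers f)
      (LocalizedModule.mkLinearMap (Submonoid.powers f) Γ(M, U))
  let b := Module.finBasis (Localization (Submonoid.powers f))
    (LocalizedModule (Submonoid.powers f) Γ(M, U))
  have := hU.isLocalization_basicOpen f
  have := isLocalizedModule_resLin M hU f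
  obtain ⟨b'⟩ := SemilocalAlg.nonempty_basis_of_isLocalizedModule (Submonoid.powers f)
    Γ(X, X.basicOpen f) (resLin M f) b
  refine ⟨f, _, fun i => b' i, ?_, ?_⟩
  · exact (Groth.Agent.Lib.Helper3.mem_basicOpen_iff_notMem_primeIdealOf hU x hx f).mpr hf
  · exact isBasis_of_isBasisAt M (hU.basicOpen f) (isBasisAt_of_basis M _ b')


/-- the analogue of `isFinLocFreeOfRank_iff` for varying rank -/
theorem isFinLocFree_iff {M : X.Modules} :
    FlatMod.IsFinLocFree M ↔
      ∀ x : X, ∃ (U : X.Opens) (n : ℕ) (e : Fin n → Γ(M, U)), x ∈ U ∧ IsBasis M U e := by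
  constructor
  · intro h x
    obtain ⟨U, n, hxU, ⟨φ⟩⟩ := h x
    obtain ⟨e, he⟩ := exists_isBasis_of_iso φ
    exact ⟨U, n, e, hxU, he⟩
  · intro h x
    obtain ⟨U, n, e, hxU, he⟩ := h x
    exact ⟨U, n, hxU, nonempty_iso_of_isBasis he⟩

theorem isQuasicoherent_of_isFinLocFree {M : X.Modules} (hM : FlatMod.IsFinLocFree M) :
    SheafOfModules.IsQuasicoherent (R := X.ringCatSheaf) M := by
  apply QCOpen.isQuasicoherent_of_open_cover
  intro x
  obtain ⟨U, n, hxU, ⟨φ⟩⟩ := hM x
  exact ⟨U, hxU, (SheafOfModules.isQuasicoherent (U : Scheme.{u}).ringCatSheaf).prop_of_iso φ.symm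
    (isQuasicoherent_flatFreeMod (U : Scheme.{u}) n)⟩

/-- local criterion for finite local freeness -/
theorem isFinLocFree_of_forall_mem_freeLocus (M : X.Modules) [M.IsQuasicoherent]
    (h : ∀ x : X, ∃ (U : X.Opens) (hU : IsAffineOpen U) (hx : x ∈ U),
      Module.FinitePresentation Γ(X, U) Γ(M, U) ∧
        hU.primeIdealOf ⟨x, hx⟩ ∈ Module.freeLocus Γ(X, U) Γ(M, U)) :
    FlatMod.IsFinLocFree M := by
  rw [isFinLocFree_iff]
  intro x
  obtain ⟨U, hU, hx, hfp, hfree⟩ := h x
  obtain ⟨f, r, e, hxf, he⟩ := exists_isBasis_of_mem_freeLocus M hU x hx hfree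
  exact ⟨X.basicOpen f, r, e, hxf, he⟩

/-- sections of a finite locally free module over an affine open form a finite projective
module -/
theorem finite_projective_sections {M : X.Modules} (hM : FlatMod.IsFinLocFree M) {V : X.Opens}
    (hV : IsAffineOpen V) :
    Module.Finite Γ(X, V) Γ(M, V) ∧ Module.Projective Γ(X, V) Γ(M, V) := by
  have : M.IsQuasicoherent := isQuasicoherent_of_isFinLocFree hM
  let s : Set Γ(X, V) :=
    {h | ∃ (r : ℕ) (e : Fin r → Γ(M, X.basicOpen h)), IsBasisAt M (X.basicOpen h) e}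
  have hs : Ideal.span s = ⊤ := by
    rw [← hV.self_le_iSup_basicOpen_iff]
    intro x hx
    obtain ⟨U, n, e, hxU, he⟩ := (isFinLocFree_iff.mp hM) x
    obtain ⟨f, hfU, hxf⟩ := hV.exists_basicOpen_le ⟨x, hxU⟩ hx
    exact Opens.mem_iSup.mpr ⟨⟨f, n, _, (he.mono hfU).self⟩, hxf⟩
  choose r e he using fun g : s => g.2
  have h1 : ∀ g : s, IsLocalization.Away g.val Γ(X, X.basicOpen g.val) :=
    fun g => hV.isLocalization_basicOpen g.val
  have h2 : ∀ g : s, IsLocalizedModule (Submonoid.powers g.val) (resLin M g.val) :=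
    fun g => isLocalizedModule_resLin M hV g.val
  exact SemilocalAlg.finite_projective_of_span s hs
    (Aₚ := fun g => Γ(X, X.basicOpen g.val)) (Mₚ := fun g => Γ(M, X.basicOpen g.val))
    (fun g => resLin M g.val) r (fun g => NormAlg.basisOfBijective (e g) (he g))

/-- freeness of the stalk of a quasi-coherent module in terms of an affine neighbourhood -/
theorem free_stalk_iff_mem_freeLocus (M : X.Modules) [M.IsQuasicoherent] {U : X.Opens}
    (hU : IsAffineOpen U) (x : X) (hx : x ∈ U) :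
    Module.Free (X.presheaf.stalk x) (M.presheaf.stalk x) ↔
      hU.primeIdealOf ⟨x, hx⟩ ∈ Module.freeLocus Γ(X, U) Γ(M, U) := by
  obtain ⟨i1, i2, i3, i4, g, h1, h2, h3⟩ := QS.exists_isLocalizedModule hU M x hx
  exact (Module.mem_freeLocus_of_isLocalization _ (X.presheaf.stalk x)
    (M.presheaf.stalk x) g).symm


theorem isFinLocFree_of_iso {M N : X.Modules} (φ : M ≅ N) (hM : FlatMod.IsFinLocFree M) :
    FlatMod.IsFinLocFree N := by
  intro x
  obtain ⟨U, n, hxU, ⟨ψ⟩⟩ := hM x
  exact ⟨U, n, hxU, ⟨(Scheme.Modules.restrictFunctor U.ι).mapIso φ.symm ≪≫ ψ⟩⟩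

/-- a basis of `M|_U` over an open of `U` is a basis of `M` over its image -/
theorem isBasis_of_isBasis_restrict (M : X.Modules) (U : X.Opens) {V' : (U : Scheme.{u}).Opens}
    {n : ℕ} {e : Fin n → Γ(M.restrict U.ι, V')} (he : IsBasis (M.restrict U.ι) V' e) :
    IsBasis M (U.ι ''ᵁ V') (fun i => (show Γ(M, U.ι ''ᵁ V') from e i)) := by
  intro W hW
  have hWU : W ≤ U := hW.trans (U.ι_image_le V')
  have hle : U.ι ⁻¹ᵁ W ≤ V' := by
    have := Scheme.Hom.preimage_mono U.ι hW
    rwa [U.ι.preimage_image_eq] at this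
  have h1 := (isBasisAt_restrict_iff U.ι M (U.ι ⁻¹ᵁ W) _).mp (he (U.ι ⁻¹ᵁ W) hle)
  have h2 := h1.of_eq (ι_image_preimage_of_le hWU).symm
  have h3 : (fun i => res M hW (show Γ(M, U.ι ''ᵁ V') from e i)) =
      fun i => res M (le_of_eq (ι_image_preimage_of_le hWU).symm)
        (show Γ(M, U.ι ''ᵁ (U.ι ⁻¹ᵁ W)) from res (M.restrict U.ι) hle (e i)) := by
    funext i
    exact (res_res M _ (U.ι.image_mono hle) _).symm
  change IsBasisAt M W (fun i => res M hW (show Γ(M, U.ι ''ᵁ V') from e i))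
  rw [h3]
  exact h2

/-- a basis of `M` over an open `W ≤ U` is a basis of `M|_U` over the preimage of `W` -/
theorem isBasis_restrict_of_isBasis (M : X.Modules) (U : X.Opens) {W : X.Opens} (hWU : W ≤ U)
    {n : ℕ} {e : Fin n → Γ(M, W)} (he : IsBasis M W e) :
    IsBasis (M.restrict U.ι) (U.ι ⁻¹ᵁ W) (fun i => (show Γ(M.restrict U.ι, U.ι ⁻¹ᵁ W) from
      res M (le_of_eq (ι_image_preimage_of_le hWU)) (e i))) := by
  intro V' hV'
  rw [isBasisAt_restrict_iff]
  have hle : U.ι ''ᵁ V' ≤ W := by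
    have := Scheme.Hom.image_mono U.ι hV'
    rwa [ι_image_preimage_of_le hWU] at this
  have h1 := he (U.ι ''ᵁ V') hle
  have h3 : (fun i => res M hle (e i)) = fun i => (show Γ(M, U.ι ''ᵁ V') from
      res (M.restrict U.ι) hV' (show Γ(M.restrict U.ι, U.ι ⁻¹ᵁ W) from
        res M (le_of_eq (ι_image_preimage_of_le hWU)) (e i))) := by
    funext i
    exact (res_res M (U.ι.image_mono hV') _ _).symm
  rw [h3] at h1
  exact h1

theorem isFinLocFree_restrict_iff (M : X.Modules) (U : X.Opens) :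
    FlatMod.IsFinLocFree (M.restrict U.ι) ↔
      ∀ x ∈ U, ∃ (W : X.Opens) (n : ℕ) (e : Fin n → Γ(M, W)), x ∈ W ∧ W ≤ U ∧ IsBasis M W e := by
  rw [isFinLocFree_iff]
  constructor
  · intro h x hx
    obtain ⟨V', n, e, hxV', he⟩ := h ⟨x, hx⟩
    exact ⟨U.ι ''ᵁ V', n, _, ⟨⟨x, hx⟩, hxV', rfl⟩, U.ι_image_le V',
      isBasis_of_isBasis_restrict M U he⟩
  · intro h x'
    have hx : U.ι x' ∈ U := by
      have h1 : U.ι x' ∈ Set.range U.ι := Set.mem_range_self x'
      rw [Scheme.Opens.range_ι U] at h1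
      exact h1
    obtain ⟨W, n, e, hxW, hWU, he⟩ := h _ hx
    exact ⟨U.ι ⁻¹ᵁ W, n, _, hxW, isBasis_restrict_of_isBasis M U hWU he⟩

end Groth.Agent.Lib.Helper3.LocFreeCrit
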