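import Mathlib.AlgebraicGeometry.Modules.Tilde
import Groth.Prelude.Def_FlatMod2

/-!
# Basic facts on `O_X`-modules: zero objects, stalks, maps out of the structure module
-/

set_option autoImplicit false
universe u
open CategoryTheory CategoryTheory.Limits AlgebraicGeometry TopologicalSpace Opposite

namespace Groth.Agent.Lib.Helper3.ModBasic

variable {X Y : Scheme.{u}}

theorem subsingleton_of_isZero {M : X.Modules} (h : IsZero M) (U : X.Opens) :
    Subsingleton Γ(M, U) := by
  have h0 : (𝟙 M : M ⟶ M) = 0 := h.eq_of_src _ _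
  have key : ∀ a : Γ(M, U), a = 0 := by
    intro a
    have h1 : (𝟙 M : M ⟶ M).app U a = (0 : M ⟶ M).app U a := by rw [h0]
    rw [Scheme.Modules.Hom.id_app, Scheme.Modules.Hom.zero_app] at h1
    simpa using h1
  exact ⟨fun a b => by rw [key a, key b]⟩

theorem isZero_of_subsingleton {M : X.Modules} (h : ∀ U : X.Opens, Subsingleton Γ(M, U)) :
    IsZero M := by
  rw [IsZero.iff_id_eq_zero]
  apply Scheme.Modules.hom_ext
  intro U
  ext x
  exact (h U).elim _ _

theorem subsingleton_stalk_of_sections (M : X.Modules) (x : X) (W : X.Opens) (hx : x ∈ W)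
    (h : ∀ V : X.Opens, V ≤ W → Subsingleton Γ(M, V)) :
    Subsingleton (M.presheaf.stalk x) := by
  have key : ∀ t : M.presheaf.stalk x, t = 0 := by
    intro t
    obtain ⟨V, hVW, hxV, s, rfl⟩ := TopCat.Presheaf.exists_le_germ_eq M.presheaf t hx
    have := h V hVW
    rw [Subsingleton.elim s 0, map_zero]
  exact ⟨fun a b => by rw [key a, key b]⟩

theorem subsingleton_stalk_of_isZero {M : X.Modules} (h : IsZero M) (x : X) :
    Subsingleton (M.presheaf.stalk x) :=
  subsingleton_stalk_of_sections M x ⊤ trivial (fun V _ => subsingleton_of_isZero h V)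

/-- The stalk of a restriction along an open immersion. -/
noncomputable def stalkRestrictIso (f : Y ⟶ X) [IsOpenImmersion f] (M : X.Modules) (y : Y) :
    (M.restrict f).presheaf.stalk y ≅ M.presheaf.stalk (f y) :=
  (Scheme.Modules.restrictStalkNatIso f y).app M

theorem subsingleton_stalk_restrict_iff (f : Y ⟶ X) [IsOpenImmersion f] (M : X.Modules) (y : Y) :
    Subsingleton ((M.restrict f).presheaf.stalk y) ↔ Subsingleton (M.presheaf.stalk (f y)) := by
  let e := (stalkRestrictIso f M y).addCommGroupIsoToAddEquiv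
  exact ⟨fun h => @Function.Injective.subsingleton _ _ _ e.symm.injective h,
    fun h => @Function.Injective.subsingleton _ _ _ e.injective h⟩

theorem subsingleton_stalk_of_isZero_restrict {f : Y ⟶ X} [IsOpenImmersion f] {M : X.Modules}
    (h : IsZero (M.restrict f)) (y : Y) : Subsingleton (M.presheaf.stalk (f y)) :=
  (subsingleton_stalk_restrict_iff f M y).mp (subsingleton_stalk_of_isZero h y)

theorem map_map_apply (M : X.Modules) {A B C : X.Opens} (hAB : A ≤ B) (hBC : B ≤ C)
    (s : Γ(M, C)) :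
    M.presheaf.map (homOfLE hAB).op (M.presheaf.map (homOfLE hBC).op s) =
      M.presheaf.map (homOfLE (hAB.trans hBC)).op s := by
  rw [← ConcreteCategory.comp_apply, ← Functor.map_comp]
  rfl

/-- naturality of a morphism of modules with respect to restriction maps. -/
theorem app_res {M N : X.Modules} (φ : M ⟶ N) {A B : X.Opens} (hAB : A ≤ B) (x : Γ(M, B)) :
    φ.app A (M.presheaf.map (homOfLE hAB).op x) = N.presheaf.map (homOfLE hAB).op (φ.app B x) := by
  have := φ.mapPresheaf.naturality (homOfLE hAB).op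
  simp only [Scheme.Modules.mapPresheaf_app] at this
  exact congr($this x)

/-- A morphism out of the structure module is determined by the image of `1`. -/
theorem unit_hom_app_apply {N : X.Modules} (ψ : Coh.structureModule X ⟶ N)
    (W : X.Opens) (r : Γ(X, W)) :
    ψ.app W r = r • N.presheaf.map (homOfLE (le_top : W ≤ ⊤)).op (ψ.app ⊤ (1 : Γ(X, ⊤))) := by
  have h1 : (1 : Γ(X, W)) =
      (Coh.structureModule X).presheaf.map (homOfLE (le_top : W ≤ ⊤)).op
        (1 : Γ(X, ⊤)) :=
    (map_one (X.presheaf.map (homOfLE (le_top : W ≤ ⊤)).op).hom).symm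
  rw [← app_res ψ (le_top : W ≤ ⊤) (1 : Γ(X, ⊤)), ← h1, ← Scheme.Modules.Hom.app_smul]
  congr 1
  exact (mul_one r).symm

/-- A morphism `O ⟶ N` whose defining section vanishes on `V` restricts to zero on `V`. -/
theorem restrict_map_unit_hom_eq_zero {N : X.Modules}
    (ψ : Coh.structureModule X ⟶ N) (V : X.Opens)
    (h : N.presheaf.map (homOfLE (le_top : V ≤ ⊤)).op (ψ.app ⊤ (1 : Γ(X, ⊤))) = 0) :
    (Scheme.Modules.restrictFunctor V.ι).map ψ = 0 := by
  apply Scheme.Modules.hom_ext
  intro W
  ext (r : Γ(X, V.ι ''ᵁ W))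
  change ψ.app (V.ι ''ᵁ W) r = 0
  rw [unit_hom_app_apply ψ _ r]
  have hle : V.ι ''ᵁ W ≤ V := V.ι_image_le W
  have h2 : N.presheaf.map (homOfLE (le_top : V.ι ''ᵁ W ≤ ⊤)).op (ψ.app ⊤ (1 : Γ(X, ⊤))) =
      N.presheaf.map (homOfLE hle).op
        (N.presheaf.map (homOfLE (le_top : V ≤ ⊤)).op (ψ.app ⊤ (1 : Γ(X, ⊤)))) :=
    (map_map_apply N hle le_top _).symm
  rw [h2, h, map_zero, smul_zero]

end Groth.Agent.Lib.Helper3.ModBasic
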