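import Groth.Agent.Lib.Helper3.InvGen
import Groth.Prelude.Def_FlatMod2

set_option autoImplicit false
universe u
open CategoryTheory CategoryTheory.Limits AlgebraicGeometry TopologicalSpace Opposite
open Scheme.Modules

namespace Groth.Agent.Lib.Helper3.FreeBasis

open QCSec InvGen

variable {X : Scheme.{u}}

theorem sum_app {M N : X.Modules} {ι : Type*} (s : Finset ι)
    (φ : ι → (M ⟶ N)) (U : X.Opens) (t : Γ(M, U)) :
    (∑ i ∈ s, φ i).app U t = ∑ i ∈ s, (φ i).app U t := by
  classical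
  induction s using Finset.induction_on with
  | empty => simp only [Finset.sum_empty]; rfl
  | insert a s ha ih =>
    rw [Finset.sum_insert ha, Finset.sum_insert ha, ← ih]
    rfl

theorem app_sum {M N : X.Modules} (φ : M ⟶ N) (U : X.Opens) {ι : Type*} (s : Finset ι)
    (t : ι → Γ(M, U)) : φ.app U (∑ i ∈ s, t i) = ∑ i ∈ s, φ.app U (t i) :=
  map_sum (φ.app U).hom t s

/-- `e` is a basis of the sections of `M` over `V`. -/
def IsBasisAt (M : X.Modules) (V : X.Opens) {n : ℕ} (e : Fin n → Γ(M, V)) : Prop :=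
  Function.Bijective (fun a : Fin n → Γ(X, V) => ∑ i, a i • e i)

/-- `e` is a basis of `M` over `U` (as a sheaf). -/
def IsBasis (M : X.Modules) (U : X.Opens) {n : ℕ} (e : Fin n → Γ(M, U)) : Prop :=
  ∀ (V : X.Opens) (h : V ≤ U), IsBasisAt M V (fun i => res M h (e i))

theorem IsBasis.mono {M : X.Modules} {U : X.Opens} {n : ℕ} {e : Fin n → Γ(M, U)}
    (hb : IsBasis M U e) {U' : X.Opens} (h : U' ≤ U) : IsBasis M U' (fun i => res M h (e i)) := by
  intro V hV
  simp only [res_res]
  exact hb V (hV.trans h)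

theorem IsBasis.self {M : X.Modules} {U : X.Opens} {n : ℕ} {e : Fin n → Γ(M, U)}
    (hb : IsBasis M U e) : IsBasisAt M U e := by
  have := hb U le_rfl
  simpa only [res_self] using this

/-! ### the free module `O^n` -/

/-- the `i`-th inclusion `O ⟶ O^n` -/
noncomputable def inj (X : Scheme.{u}) (n : ℕ) (i : Fin n) :
    Coh.structureModule X ⟶ FlatMod.freeMod X n :=
  Sigma.ι (fun _ : Fin n => Coh.structureModule X) i

/-- the `i`-th projection `O^n ⟶ O` -/
noncomputable def proj (X : Scheme.{u}) (n : ℕ) (i : Fin n) :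
    FlatMod.freeMod X n ⟶ Coh.structureModule X :=
  Sigma.desc (fun j => if j = i then 𝟙 _ else 0)

theorem inj_proj (n : ℕ) (i j : Fin n) :
    inj X n i ≫ proj X n j = if i = j then 𝟙 _ else 0 := by
  unfold inj proj
  exact Sigma.ι_desc _ _

theorem sum_proj_inj (n : ℕ) : ∑ i, proj X n i ≫ inj X n i = 𝟙 (FlatMod.freeMod X n) := by
  apply Sigma.hom_ext
  intro j
  change inj X n j ≫ _ = inj X n j ≫ _
  rw [Preadditive.comp_sum, Category.comp_id]
  have : ∀ i, inj X n j ≫ proj X n i ≫ inj X n i = if j = i then inj X n j else 0 := by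
    intro i
    rw [← Category.assoc, inj_proj]
    split_ifs with h
    · subst h; rw [Category.id_comp]
    · rw [zero_comp]
  simp_rw [this]
  rw [Finset.sum_ite_eq]
  simp

/-- the standard basis sections of `O^n` -/
noncomputable def bsec (n : ℕ) (i : Fin n) (V : X.Opens) : Γ(FlatMod.freeMod X n, V) :=
  sec (inj X n i) V

theorem res_bsec (n : ℕ) (i : Fin n) {A B : X.Opens} (h : A ≤ B) :
    res _ h (bsec n i B) = bsec n i A := res_sec _ h

theorem sec_id (V : X.Opens) : sec (𝟙 (Coh.structureModule X)) V = ofFun V 1 := rfl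

theorem sec_zero {L : X.Modules} (V : X.Opens) :
    sec (0 : Coh.structureModule X ⟶ L) V = 0 := rfl

theorem proj_bsec (n : ℕ) (i j : Fin n) (V : X.Opens) :
    (proj X n j).app V (bsec n i V) = if i = j then ofFun V 1 else 0 := by
  unfold bsec
  rw [← sec_comp, inj_proj]
  split_ifs
  · exact sec_id V
  · exact sec_zero V

theorem eq_sum_bsec (n : ℕ) (V : X.Opens) (t : Γ(FlatMod.freeMod X n, V)) :
    t = ∑ i, toFun V ((proj X n i).app V t) • bsec n i V := by
  have h1 : (𝟙 (FlatMod.freeMod X n) : _ ⟶ _).app V t = t := rfl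
  rw [← sum_proj_inj, sum_app] at h1
  conv_lhs => rw [← h1]
  apply Finset.sum_congr rfl
  intro i _
  change (inj X n i).app V (ofFun V (toFun V ((proj X n i).app V t))) = _
  rw [app_eq_smul_sec]
  rfl

theorem isBasisAt_bsec (n : ℕ) (V : X.Opens) :
    IsBasisAt (FlatMod.freeMod X n) V (fun i => bsec n i V) := by
  constructor
  · intro a b hab
    funext j
    have h := congrArg ((proj X n j).app V) hab
    simp only [app_sum, Scheme.Modules.Hom.app_smul, proj_bsec] at h
    simp only [smul_ite, smul_zero, Finset.sum_ite_eq', Finset.mem_univ, if_true] at h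
    have : ∀ c : Γ(X, V), c • ofFun V (1 : Γ(X, V)) = ofFun V c := fun c => by
      rw [smul_ofFun, mul_one]
    rw [this, this] at h
    exact h
  · intro t
    exact ⟨fun i => toFun V ((proj X n i).app V t), (eq_sum_bsec n V t).symm⟩

theorem isBasis_bsec (n : ℕ) (U : X.Opens) :
    IsBasis (FlatMod.freeMod X n) U (fun i => bsec n i U) := by
  intro V hV
  simp only [res_bsec]
  exact isBasisAt_bsec n V

/-! ### transport of bases -/

theorem IsBasisAt.map_iso {M N : X.Modules} (φ : M ≅ N) {V : X.Opens} {n : ℕ}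
    {e : Fin n → Γ(M, V)} (he : IsBasisAt M V e) :
    IsBasisAt N V (fun i => φ.hom.app V (e i)) := by
  have hbij : Function.Bijective (φ.hom.app V) :=
    (ConcreteCategory.isIso_iff_bijective (φ.hom.app V)).mp inferInstance
  have : (fun a : Fin n → Γ(X, V) => ∑ i, a i • φ.hom.app V (e i)) =
      (φ.hom.app V) ∘ (fun a : Fin n → Γ(X, V) => ∑ i, a i • e i) := by
    funext a
    change _ = φ.hom.app V (∑ i, a i • e i)
    rw [app_sum]
    simp only [Scheme.Modules.Hom.app_smul]
  unfold IsBasisAt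
  rw [this]
  exact hbij.comp he

theorem IsBasisAt.of_eq {M : X.Modules} {V V' : X.Opens} {n : ℕ} {e : Fin n → Γ(M, V)}
    (he : IsBasisAt M V e) (h : V' = V) : IsBasisAt M V' (fun i => res M (le_of_eq h) (e i)) := by
  subst h
  simpa only [res_self] using he

section restrict

variable {Y : Scheme.{u}} (j : Y ⟶ X) [IsOpenImmersion j]

theorem isBasisAt_restrict_iff (M : X.Modules) (V : Y.Opens) {n : ℕ}
    (e : Fin n → Γ(M.restrict j, V)) :
    IsBasisAt (M.restrict j) V e ↔
      IsBasisAt M (j ''ᵁ V) (fun i => (show Γ(M, j ''ᵁ V) from e i)) := by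
  have hbij : Function.Bijective (fun a : Fin n → Γ(Y, V) => fun i => (j.appIso V).inv (a i)) := by
    have h1 : Function.Bijective (j.appIso V).inv :=
      (ConcreteCategory.isIso_iff_bijective (j.appIso V).inv).mp inferInstance
    constructor
    · intro a b hab
      funext i
      exact h1.1 (congrFun hab i)
    · intro b
      choose a ha using fun i => h1.2 (b i)
      exact ⟨a, funext ha⟩
  have : (fun a : Fin n → Γ(Y, V) => ∑ i, a i • e i) =
      (fun b : Fin n → Γ(X, j ''ᵁ V) => (show Γ(M.restrict j, V) from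
        ∑ i, b i • (show Γ(M, j ''ᵁ V) from e i))) ∘
      (fun a : Fin n → Γ(Y, V) => fun i => (j.appIso V).inv (a i)) := by
    funext a
    rfl
  unfold IsBasisAt
  rw [this]
  constructor
  · intro h
    exact (Function.Bijective.of_comp_iff _ hbij).mp h
  · intro h
    exact Function.Bijective.comp h hbij

end restrict

theorem exists_isBasis_of_iso {M : X.Modules} {U : X.Opens} {n : ℕ}
    (φ : M.restrict U.ι ≅ FlatMod.freeMod (U : Scheme.{u}) n) :
    ∃ e : Fin n → Γ(M, U), IsBasis M U e := by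
  have hψ : ∀ V' : (U : Scheme.{u}).Opens, IsBasisAt (M.restrict U.ι) V'
      (fun i => φ.inv.app V' (bsec n i V')) := fun V' =>
    (isBasisAt_bsec n V').map_iso φ.symm
  have htop : U ≤ U.ι ''ᵁ ⊤ := le_of_eq U.ι_image_top.symm
  refine ⟨fun i => res M htop (show Γ(M, U.ι ''ᵁ ⊤) from φ.inv.app ⊤ (bsec n i ⊤)), ?_⟩
  intro V hV
  have h1 := (isBasisAt_restrict_iff U.ι M (U.ι ⁻¹ᵁ V) _).mp (hψ (U.ι ⁻¹ᵁ V))
  have h2 := h1.of_eq (ι_image_preimage_of_le hV).symm
  have h3 : ∀ i, (show Γ(M, U.ι ''ᵁ (U.ι ⁻¹ᵁ V)) from φ.inv.app (U.ι ⁻¹ᵁ V)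
      (bsec n i (U.ι ⁻¹ᵁ V))) =
      res M (Scheme.Hom.image_mono U.ι le_top)
        (show Γ(M, U.ι ''ᵁ ⊤) from φ.inv.app ⊤ (bsec n i ⊤)) := by
    intro i
    rw [← res_bsec n i (le_top : U.ι ⁻¹ᵁ V ≤ ⊤), QCExact.app_res']
    rfl
  simp only [h3, res_res] at h2
  simp only [res_res]
  exact h2

/-! ### the morphism `O_U^n ⟶ M|_U` defined by sections -/

/-- the morphism `O_U^n ⟶ M|_U` defined by `n` sections of `M` over `U` -/
noncomputable def homOfSecs (M : X.Modules) (U : X.Opens) {n : ℕ} (e : Fin n → Γ(M, U)) :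
    FlatMod.freeMod (U : Scheme.{u}) n ⟶ M.restrict U.ι :=
  Sigma.desc (fun i => homOfSec M U (e i))

theorem inj_homOfSecs (M : X.Modules) (U : X.Opens) {n : ℕ} (e : Fin n → Γ(M, U)) (i : Fin n) :
    inj (U : Scheme.{u}) n i ≫ homOfSecs M U e = homOfSec M U (e i) := by
  unfold inj homOfSecs
  exact Sigma.ι_desc _ _

theorem homOfSecs_bsec (M : X.Modules) (U : X.Opens) {n : ℕ} (e : Fin n → Γ(M, U)) (i : Fin n)
    (V' : (U : Scheme.{u}).Opens) :
    (show Γ(M, U.ι ''ᵁ V') from (homOfSecs M U e).app V' (bsec n i V')) =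
      res M (U.ι_image_le V') (e i) := by
  unfold bsec
  rw [← sec_comp, inj_homOfSecs]
  exact sec_homOfSec M U (e i) V'

theorem isIso_homOfSecs {M : X.Modules} {U : X.Opens} {n : ℕ} {e : Fin n → Γ(M, U)}
    (hb : IsBasis M U e) : IsIso (homOfSecs M U e) := by
  rw [Scheme.Modules.Hom.isIso_iff_isIso_app]
  intro V'
  apply (ConcreteCategory.isIso_iff_bijective ((homOfSecs M U e).app V')).mpr
  have h1 := isBasisAt_bsec (X := (U : Scheme.{u})) n V'
  have h2 : IsBasisAt (M.restrict U.ι) V'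
      (fun i => (homOfSecs M U e).app V' (bsec n i V')) := by
    rw [isBasisAt_restrict_iff]
    simp only [homOfSecs_bsec]
    exact hb _ _
  have h3 : (fun a : Fin n → Γ((U : Scheme.{u}), V') =>
      ∑ i, a i • (homOfSecs M U e).app V' (bsec n i V')) =
      ((homOfSecs M U e).app V') ∘ (fun a : Fin n → Γ((U : Scheme.{u}), V') =>
        ∑ i, a i • bsec n i V') := by
    funext a
    change _ = (homOfSecs M U e).app V' (∑ i, a i • bsec n i V')
    rw [app_sum]
    simp only [Scheme.Modules.Hom.app_smul]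
  unfold IsBasisAt at h1 h2
  rw [h3] at h2
  exact (Function.Bijective.of_comp_iff _ h1).mp h2

theorem nonempty_iso_of_isBasis {M : X.Modules} {U : X.Opens} {n : ℕ} {e : Fin n → Γ(M, U)}
    (hb : IsBasis M U e) : Nonempty (M.restrict U.ι ≅ FlatMod.freeMod (U : Scheme.{u}) n) :=
  ⟨(@asIso _ _ _ _ _ (isIso_homOfSecs hb)).symm⟩

theorem isFinLocFreeOfRank_iff {M : X.Modules} {n : ℕ} :
    FlatMod.IsFinLocFreeOfRank n M ↔
      ∀ x : X, ∃ (U : X.Opens) (e : Fin n → Γ(M, U)), x ∈ U ∧ IsBasis M U e := by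
  constructor
  · intro h x
    obtain ⟨U, hxU, ⟨φ⟩⟩ := h x
    obtain ⟨e, he⟩ := exists_isBasis_of_iso φ
    exact ⟨U, e, hxU, he⟩
  · intro h x
    obtain ⟨U, e, hxU, he⟩ := h x
    exact ⟨U, hxU, nonempty_iso_of_isBasis he⟩

end Groth.Agent.Lib.Helper3.FreeBasis
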