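import Mathlib.Topology.Irreducible
import Mathlib.Topology.NoetherianSpace
import Mathlib.Topology.Sober
import Mathlib.Data.Set.Card

/-! Irreducible sets and finite closed covers. -/

set_option autoImplicit false
universe u
open Set

namespace Groth.Agent.Lib.Helper3.TopIrred

variable {X : Type u} [TopologicalSpace X]

lemma exists_subset_of_subset_iUnion {ι : Type*} [Finite ι] {Z : ι → Set X}
    (hZ : ∀ i, IsClosed (Z i)) {W : Set X} (hW : IsIrreducible W) (h : W ⊆ ⋃ i, Z i) :
    ∃ i, W ⊆ Z i := by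
  classical
  have := Fintype.ofFinite ι
  obtain ⟨z, hz, hWz⟩ := (isIrreducible_iff_sUnion_isClosed.1 hW) (Finset.univ.image Z)
    (by
      intro z hz
      obtain ⟨i, -, rfl⟩ := Finset.mem_image.1 hz
      exact hZ i)
    (by
      intro x hx
      obtain ⟨i, hi⟩ := mem_iUnion.1 (h hx)
      exact ⟨Z i, by simp, hi⟩)
  obtain ⟨i, -, rfl⟩ := Finset.mem_image.1 hz
  exact ⟨i, hWz⟩

/-- irreducible components are among the members of a finite cover by irreducible closed sets -/
lemma mem_range_of_mem_irreducibleComponents {ι : Type*} [Finite ι] {Z : ι → Set X}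
    (hZ : ∀ i, IsIrreducible (Z i) ∧ IsClosed (Z i)) (hcov : ⋃ i, Z i = univ)
    {W : Set X} (hW : W ∈ irreducibleComponents X) : W ∈ range Z := by
  obtain ⟨i, hi⟩ := exists_subset_of_subset_iUnion (fun i => (hZ i).2) hW.1
    (by rw [hcov]; exact subset_univ _)
  exact ⟨i, le_antisymm (hW.2 (hZ i).1 hi) hi⟩

end Groth.Agent.Lib.Helper3.TopIrred
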