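import Groth.Agent.Lib.Helper3.QCPush
import Groth.Agent.Lib.Helper3.QCLim
import Groth.Agent.Lib.Helper3.QCExact
import Groth.Agent.Lib.Helper3.QCOpen

/-!
# Extension of quasi-coherent submodules of finite type (EGA I 9.4.7 / Stacks 01PD)

On a quasi-compact quasi-separated scheme `X`, a quasi-coherent submodule of finite type of `G|U`
(`U` a quasi-compact open) extends to a quasi-coherent submodule of finite type of `G`.
-/

set_option autoImplicit false
universe u
open CategoryTheory CategoryTheory.Limits AlgebraicGeometry TopologicalSpace Opposite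
open Scheme.Modules

namespace Groth.Agent.Lib.Helper3.QCExtend

open QCSec

variable {X : Scheme.{u}}

section Span

theorem res_mem_span (M : X.Modules) {A B : X.Opens} (h : A ≤ B) (T : Set Γ(M, B)) (s : Γ(M, B))
    (hs : s ∈ Submodule.span Γ(X, B) T) :
    res M h s ∈ Submodule.span Γ(X, A) (res M h '' T) := by
  induction hs using Submodule.span_induction with
  | mem x hx => exact Submodule.subset_span ⟨x, hx, rfl⟩
  | zero => rw [res_zero]; exact Submodule.zero_mem _
  | add x y _ _ hx hy => rw [QCExact.res_add]; exact Submodule.add_mem _ hx hy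
  | smul r x _ hx => rw [res_smul]; exact Submodule.smul_mem _ _ hx

/-- Generators of `Γ(M, U)` restrict to generators of `Γ(M, D(g))`, for quasi-coherent `M` and
affine `U`. -/
theorem span_res_eq_top (M : X.Modules) [M.IsQuasicoherent] {U : X.Opens} (hU : IsAffineOpen U)
    (g : Γ(X, U)) {D : X.Opens} (hD : D = X.basicOpen g) (hDU : D ≤ U) (T : Set Γ(M, U))
    (hT : Submodule.span Γ(X, U) T = ⊤) :
    Submodule.span Γ(X, D) (res M hDU '' T) = ⊤ := by
  rw [eq_top_iff]
  rintro t -
  obtain ⟨n, s, hs⟩ := (isLocSec_of_isQuasicoherent M hU g D hD hDU).surj t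
  have hu : IsUnit (rres X hDU g) := by
    subst hD
    exact RingedSpace.isUnit_res_basicOpen _ g
  have h1 : res M hDU s ∈ Submodule.span Γ(X, D) (res M hDU '' T) :=
    res_mem_span M hDU T s (by rw [hT]; exact Submodule.mem_top)
  rw [hs] at h1
  obtain ⟨v, hv⟩ := hu.pow n
  have h2 : t = (↑v⁻¹ : Γ(X, D)) • ((rres X hDU g) ^ n • t) := by
    rw [← hv, smul_smul, Units.inv_mul, one_smul]
  rw [h2]
  exact Submodule.smul_mem _ _ h1

theorem finite_res (M : X.Modules) [M.IsQuasicoherent] {U : X.Opens} (hU : IsAffineOpen U)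
    (g : Γ(X, U)) {D : X.Opens} (hD : D = X.basicOpen g) (hDU : D ≤ U)
    (hfin : Module.Finite Γ(X, U) Γ(M, U)) : Module.Finite Γ(X, D) Γ(M, D) := by
  classical
  obtain ⟨T, hT⟩ := hfin.fg_top
  refine ⟨⟨T.image (res M hDU), ?_⟩⟩
  rw [Finset.coe_image]
  exact span_res_eq_top M hU g hD hDU _ hT

end Span

section LocFin

/-- `M` has finitely generated sections over some affine neighbourhood of each point of `W`. -/
def LocFin (M : X.Modules) (W : X.Opens) : Prop :=
  ∀ x ∈ W, ∃ O : X.Opens, IsAffineOpen O ∧ x ∈ O ∧ Module.Finite Γ(X, O) Γ(M, O)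

theorem LocFin.mono {M : X.Modules} {W₁ W₂ : X.Opens} (h : W₁ ≤ W₂) (hM : LocFin M W₂) :
    LocFin M W₁ := fun x hx => hM x (h hx)

theorem LocFin.sup {M : X.Modules} {W₁ W₂ : X.Opens} (h₁ : LocFin M W₁) (h₂ : LocFin M W₂) :
    LocFin M (W₁ ⊔ W₂) := by
  intro x hx
  rcases hx with hx | hx
  · exact h₁ x hx
  · exact h₂ x hx

theorem isFiniteType_of_locFin (M : X.Modules) [M.IsQuasicoherent] (h : LocFin M ⊤) :
    SheafOfModules.IsFiniteType (R := X.ringCatSheaf) M := by
  apply QCProps.isFiniteType_of_charts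
  intro x
  obtain ⟨O, hO, hxO, hfin⟩ := h x trivial
  exact ⟨O, hO, hxO, inferInstance, hfin⟩

theorem finite_sections_of_restrict (M : X.Modules) {U W : X.Opens} (hW : IsAffineOpen W)
    (hWU : W ≤ U) (hq : (M.restrict U.ι).IsQuasicoherent) (hft : (M.restrict U.ι).IsFiniteType) :
    Module.Finite Γ(X, W) Γ(M, W) := by
  obtain ⟨l, hl, ⟨e⟩⟩ := QCOpen.exists_chart_lift M hW hWU
  have hq' : ((M.restrict U.ι).restrict l).IsQuasicoherent :=
    Scheme.Modules.isQuasicoherent_restrictFunctor l (M.restrict U.ι)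
  haveI hq'' : (M.restrict hW.fromSpec).IsQuasicoherent :=
    (SheafOfModules.isQuasicoherent (Spec Γ(X, W)).ringCatSheaf).prop_of_iso e hq'
  haveI hft' : ((M.restrict U.ι).restrict l).IsFiniteType :=
    QCProps.isFiniteType_restrict l (M.restrict U.ι)
  haveI hft'' : (M.restrict hW.fromSpec).IsFiniteType := QCProps.isFiniteType_of_iso e
  have := QCTilde.finite_of_isFiniteType (M.restrict hW.fromSpec)
  exact Module.Finite.equiv (QCTilde.chartSectionsEquiv hW M)

theorem locFin_of_restrict (M : X.Modules) (U : X.Opens) (hq : (M.restrict U.ι).IsQuasicoherent)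
    (hft : (M.restrict U.ι).IsFiniteType) : LocFin M U := by
  intro x hx
  obtain ⟨W, hW, hxW, hWU⟩ := Opens.isBasis_iff_nbhd.mp X.isBasis_affineOpens hx
  exact ⟨W, hW, hxW, finite_sections_of_restrict M hW hWU hq hft⟩

end LocFin

section Cover

theorem exists_local_span (K : X.Modules) [K.IsQuasicoherent] {V : X.Opens} (hV : IsAffineOpen V)
    (x : X) (hxV : x ∈ V) {O₁ : X.Opens} (hO₁ : IsAffineOpen O₁) (hxO₁ : x ∈ O₁)
    (hfin : Module.Finite Γ(X, O₁) Γ(K, O₁)) :
    ∃ (f : Γ(X, V)) (T : Finset Γ(K, V)), x ∈ X.basicOpen f ∧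
      Submodule.span Γ(X, X.basicOpen f)
        (res K (X.basicOpen_le f) '' (T : Set Γ(K, V))) = ⊤ := by
  classical
  obtain ⟨g, hgle, hxg⟩ := hO₁.exists_basicOpen_le (V := O₁ ⊓ V) ⟨x, hxO₁, hxV⟩ hxO₁
  have hDgO : X.basicOpen g ≤ O₁ := X.basicOpen_le g
  have hDgV : X.basicOpen g ≤ V := hgle.trans inf_le_right
  have hfin₁ : Module.Finite Γ(X, X.basicOpen g) Γ(K, X.basicOpen g) :=
    finite_res K hO₁ g rfl hDgO hfin
  have hDg : IsAffineOpen (X.basicOpen g) := hO₁.basicOpen g
  obtain ⟨f, hfle, hxf⟩ := hV.exists_basicOpen_le (V := X.basicOpen g) ⟨x, hxg⟩ hxV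
  have hDf : X.basicOpen f = X.basicOpen (rres X hDgV f) :=
    ((Scheme.basicOpen_res X f (homOfLE hDgV).op).trans (inf_eq_right.mpr hfle)).symm
  have hfin₂ : Module.Finite Γ(X, X.basicOpen f) Γ(K, X.basicOpen f) :=
    finite_res K hDg (rres X hDgV f) hDf hfle hfin₁
  obtain ⟨T₂, hT₂⟩ := hfin₂.fg_top
  have hloc := isLocSec_of_isQuasicoherent K hV f (X.basicOpen f) rfl (X.basicOpen_le f)
  choose n s hs using hloc.surj
  refine ⟨f, T₂.image s, hxf, ?_⟩
  rw [eq_top_iff, ← hT₂, Submodule.span_le]
  intro t ht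
  have hu : IsUnit (rres X (X.basicOpen_le f) f) := RingedSpace.isUnit_res_basicOpen _ f
  obtain ⟨v, hv⟩ := hu.pow (n t)
  have h2 : t = (↑v⁻¹ : Γ(X, X.basicOpen f)) • (rres X (X.basicOpen_le f) f ^ n t • t) := by
    rw [← hv, smul_smul, Units.inv_mul, one_smul]
  rw [SetLike.mem_coe, h2, ← hs t]
  refine Submodule.smul_mem _ _ (Submodule.subset_span ?_)
  exact ⟨s t, Finset.mem_coe.mpr (Finset.mem_image_of_mem s ht), rfl⟩

theorem exists_cover_span (K : X.Modules) [K.IsQuasicoherent]
    {W V : X.Opens} (hcomp : IsCompact ((W : Set X) ∩ V)) (hV : IsAffineOpen V)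
    (hK : LocFin K W) :
    ∃ T : Finset Γ(K, V), ∀ x ∈ W ⊓ V, ∃ f : Γ(X, V), x ∈ X.basicOpen f ∧
      Submodule.span Γ(X, X.basicOpen f)
        (res K (X.basicOpen_le f) '' (T : Set Γ(K, V))) = ⊤ := by
  classical
  have key : ∀ x ∈ (W : Set X) ∩ V, ∃ (f : Γ(X, V)) (T : Finset Γ(K, V)),
      x ∈ X.basicOpen f ∧ Submodule.span Γ(X, X.basicOpen f)
        (res K (X.basicOpen_le f) '' (T : Set Γ(K, V))) = ⊤ := by
    rintro x ⟨hxW, hxV⟩
    obtain ⟨O₁, hO₁, hxO₁, hfin⟩ := hK x hxW
    exact exists_local_span K hV x hxV hO₁ hxO₁ hfin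
  choose! f T hxf hT using key
  obtain ⟨t, ht⟩ := hcomp.elim_nhds_subcover' (fun x _ => (X.basicOpen (f x) : Set X))
    (fun x hx => (X.basicOpen (f x)).2.mem_nhds (hxf x hx))
  refine ⟨t.biUnion (fun x => T x.1), ?_⟩
  intro x hx
  obtain ⟨y, hy, hxy⟩ := Set.mem_iUnion₂.mp (ht (show x ∈ (W : Set X) ∩ V from hx))
  refine ⟨f y.1, hxy, ?_⟩
  rw [eq_top_iff, ← hT y.1 y.2]
  apply Submodule.span_mono
  apply Set.image_mono
  intro z hz
  exact Finset.mem_coe.mpr (Finset.mem_biUnion.mpr ⟨y, hy, hz⟩)

end Cover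

section Free

variable (K : X.Modules) (V : X.Opens)

/-- The global section of `K.restrict V.ι` defined by a section of `K` over `V`. -/
noncomputable def secOf (s : Γ(K, V)) : (K.restrict V.ι).sections :=
  PresheafOfModules.sectionsMk
    (fun D' => (show Γ(K.restrict V.ι, D'.unop) from res K (V.ι_image_le D'.unop) s))
    (fun A B f => by
      have h := res_res K (Scheme.Hom.image_mono V.ι (leOfHom f.unop)) (V.ι_image_le A.unop) s
      exact h)

theorem secOf_val (s : Γ(K, V)) (D' : (V : Scheme.{u}).Opens) :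
    (secOf K V s).val (op D') = res K (V.ι_image_le D') s := rfl

variable {I : Type u} (s : I → Γ(K, V))

/-- The free module on a scheme, as an object of `Y.Modules`. -/
noncomputable abbrev freeMod (Y : Scheme.{u}) (I : Type u) : Y.Modules :=
  SheafOfModules.free (R := Y.ringCatSheaf) I

/-- The map from a free module to `K|V` defined by a family of sections of `K` over `V`. -/
noncomputable def sigmaMap : freeMod (V : Scheme.{u}) I ⟶ K.restrict V.ι :=
  (SheafOfModules.freeHomEquiv (K.restrict V.ι)).symm (fun i => secOf K V (s i))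

theorem sigmaMap_app_freeSection (i : I) (D' : (V : Scheme.{u}).Opens) :
    (sigmaMap K V s).app D' (show Γ(freeMod (V : Scheme.{u}) I, D') from
        (SheafOfModules.freeSection i).val (op D')) =
      (show Γ(K.restrict V.ι, D') from res K (V.ι_image_le D') (s i)) := by
  have h1 : SheafOfModules.sectionsMap (sigmaMap K V s) (SheafOfModules.freeSection i) =
      secOf K V (s i) :=
    SheafOfModules.sectionsMap_freeHomEquiv_symm_freeSection _ i
  exact congrArg (fun t => t.val (op D')) h1

theorem π_secOf (i : I) (D' : (V : Scheme.{u}).Opens) :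
    (cokernel.π (sigmaMap K V s)).app D'
      (show Γ(K.restrict V.ι, D') from res K (V.ι_image_le D') (s i)) = 0 := by
  have h0 : (sigmaMap K V s ≫ cokernel.π (sigmaMap K V s)).app D' = 0 := by
    rw [cokernel.condition]; rfl
  have h4 : (sigmaMap K V s ≫ cokernel.π (sigmaMap K V s)).app D'
      (show Γ(freeMod (V : Scheme.{u}) I, D') from
        (SheafOfModules.freeSection i).val (op D')) = 0 := by
    rw [h0]; rfl
  rw [← sigmaMap_app_freeSection K V s i D']
  exact h4

/-- identity cast from sections of `K` to sections of `K|V`. -/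
def toR (D' : (V : Scheme.{u}).Opens) (t : Γ(K, V.ι ''ᵁ D')) : Γ(K.restrict V.ι, D') := t

theorem toR_add (D' : (V : Scheme.{u}).Opens) (a b : Γ(K, V.ι ''ᵁ D')) :
    toR K V D' (a + b) = toR K V D' a + toR K V D' b := rfl

theorem toR_zero (D' : (V : Scheme.{u}).Opens) : toR K V D' 0 = 0 := rfl

theorem toR_smul (D' : (V : Scheme.{u}).Opens) (r : Γ(X, V.ι ''ᵁ D')) (t : Γ(K, V.ι ''ᵁ D')) :
    toR K V D' (r • t) = ((V.ι.appIso D').hom r) • toR K V D' t := by
  have e' : ((V.ι.appIso D').hom r) • toR K V D' t =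
      toR K V D' (((V.ι.appIso D').inv ((V.ι.appIso D').hom r)) • t) := rfl
  rw [e', Iso.hom_inv_id_apply]

theorem toR_res {D₁ D₂ : (V : Scheme.{u}).Opens} (h : D₁ ≤ D₂) (t : Γ(K, V.ι ''ᵁ D₂)) :
    res (K.restrict V.ι) h (toR K V D₂ t) =
      toR K V D₁ (res K (Scheme.Hom.image_mono V.ι h) t) := rfl

theorem π_app_eq_zero_of_mem_span (D' : (V : Scheme.{u}).Opens) (t : Γ(K, V.ι ''ᵁ D'))
    (ht : t ∈ Submodule.span Γ(X, V.ι ''ᵁ D')
      (Set.range fun i => res K (V.ι_image_le D') (s i))) :
    (cokernel.π (sigmaMap K V s)).app D' (toR K V D' t) = 0 := by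
  induction ht using Submodule.span_induction with
  | mem x hx =>
    obtain ⟨i, rfl⟩ := hx
    exact π_secOf K V s i D'
  | zero => rw [toR_zero]; exact map_zero _
  | add x y _ _ hx hy =>
    rw [toR_add, QCExact.app_add, hx, hy, add_zero]
  | smul r x _ hx =>
    rw [toR_smul, Hom.app_smul, hx, smul_zero]

/-- A section of `K|V` which is locally in the span of the `s i` is killed by `cokernel.π`. -/
theorem π_app_eq_zero_of_locally_mem_span (D : (V : Scheme.{u}).Opens) (t : Γ(K, V.ι ''ᵁ D))
    (h : ∀ y ∈ D, ∃ (D' : (V : Scheme.{u}).Opens) (hD' : D' ≤ D), y ∈ D' ∧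
      res K (Scheme.Hom.image_mono V.ι hD') t ∈ Submodule.span Γ(X, V.ι ''ᵁ D')
        (Set.range fun i => res K (V.ι_image_le D') (s i))) :
    (cokernel.π (sigmaMap K V s)).app D (toR K V D t) = 0 := by
  choose! D' hD' hyD' hspan using h
  apply TopCat.Sheaf.eq_of_locally_eq'
    ⟨(cokernel (sigmaMap K V s)).presheaf, (cokernel (sigmaMap K V s)).isSheaf⟩
    (fun y : D => D' y.1) D (fun y => homOfLE (hD' y.1 y.2)) ?_
  · intro y
    change res (cokernel (sigmaMap K V s)) (hD' y.1 y.2) _ =
      res (cokernel (sigmaMap K V s)) (hD' y.1 y.2) 0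
    rw [res_zero, ← QCExact.app_res', toR_res]
    exact π_app_eq_zero_of_mem_span K V s (D' y.1) _ (hspan y.1 y.2)
  · intro y hy
    exact Opens.mem_iSup.mpr ⟨⟨y, hy⟩, hyD' y hy⟩

end Free

section Kernel

variable (K : X.Modules) (V : X.Opens) {I : Type u} (s : I → Γ(K, V))

/-- The map from `K` to the pushforward of the quotient of `K|V` by the sections `s i`. -/
noncomputable def theta : K ⟶ (pushforward V.ι).obj (cokernel (sigmaMap K V s)) :=
  (restrictAdjunction V.ι).unit.app K ≫ (pushforward V.ι).map (cokernel.π (sigmaMap K V s))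

theorem theta_app (O : X.Opens) (t : Γ(K, O)) :
    (theta K V s).app O t = (cokernel.π (sigmaMap K V s)).app (V.ι ⁻¹ᵁ O)
      (toR K V _ (res K (V.ι.image_preimage_le O) t)) := rfl

theorem restrict_theta_comp_counit :
    (restrictFunctor V.ι).map (theta K V s) ≫
      (restrictAdjunction V.ι).counit.app (cokernel (sigmaMap K V s)) =
      cokernel.π (sigmaMap K V s) := by
  have hnat : (restrictFunctor V.ι).map ((pushforward V.ι).map (cokernel.π (sigmaMap K V s))) ≫
      (restrictAdjunction V.ι).counit.app (cokernel (sigmaMap K V s)) =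
      (restrictAdjunction V.ι).counit.app ((restrictFunctor V.ι).obj K) ≫
        cokernel.π (sigmaMap K V s) :=
    (restrictAdjunction V.ι).counit.naturality (cokernel.π (sigmaMap K V s))
  have htri : (restrictFunctor V.ι).map ((restrictAdjunction V.ι).unit.app K) ≫
      (restrictAdjunction V.ι).counit.app ((restrictFunctor V.ι).obj K) = 𝟙 _ :=
    (restrictAdjunction V.ι).left_triangle_components K
  rw [theta, Functor.map_comp, Category.assoc, hnat, ← Category.assoc, htri]
  exact Category.id_comp _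

/-- The restriction to `V` of the kernel of `theta` is the image of `sigmaMap`. -/
noncomputable def kernelRestrictIso :
    (kernel (theta K V s)).restrict V.ι ≅ Abelian.image (sigmaMap K V s) :=
  PreservesKernel.iso (restrictFunctor V.ι) (theta K V s) ≪≫
    (kernelCompMono ((restrictFunctor V.ι).map (theta K V s))
      ((restrictAdjunction V.ι).counit.app (cokernel (sigmaMap K V s)))).symm ≪≫
    kernelIsoOfEq (restrict_theta_comp_counit K V s)

theorem isQuasicoherent_freeMod (Y : Scheme.{u}) (I : Type u) :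
    SheafOfModules.IsQuasicoherent (R := Y.ringCatSheaf) (freeMod Y I) :=
  QCLim.isQuasicoherent_sigma (fun _ : I => Coh.structureModule Y)

set_option backward.isDefEq.respectTransparency false in
theorem isFiniteType_freeMod (Y : Scheme.{u}) (I : Type u) [Finite I] :
    SheafOfModules.IsFiniteType (R := Y.ringCatSheaf) (freeMod Y I) := by
  apply QCLocal.isFiniteType_of_forall_exists
  intro y
  let σ₀ : (freeMod Y I).GeneratingSections :=
    { I := I
      s := SheafOfModules.freeHomEquiv _ (𝟙 _)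
      epi := by rw [Equiv.symm_apply_apply]; infer_instance }
  haveI : σ₀.IsFiniteType := ⟨inferInstanceAs (Finite I)⟩
  have : PreservesColimitsOfSize.{u, u} (restrictFunctor (⊤ : Y.Opens).ι) := inferInstance
  exact ⟨⊤, trivial, σ₀.map (restrictFunctor (⊤ : Y.Opens).ι) (restrictUnitIso _).symm,
    inferInstance⟩

theorem isFiniteType_restrict_kernel [Finite I] :
    SheafOfModules.IsFiniteType (R := (V : Scheme.{u}).ringCatSheaf)
      ((kernel (theta K V s)).restrict V.ι) := by
  haveI : (freeMod (V : Scheme.{u}) I).IsFiniteType := isFiniteType_freeMod _ I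
  haveI : (Abelian.image (sigmaMap K V s)).IsFiniteType :=
    QCProps.isFiniteType_of_epi (Abelian.factorThruImage (sigmaMap K V s))
  exact QCProps.isFiniteType_of_iso (kernelRestrictIso K V s).symm

theorem span_range_res_eq_top {E D : X.Opens} (hED : E = D) (hEV : E ≤ V)
    (hDV : D ≤ V) (T : Set Γ(K, V)) (hT : T ⊆ Set.range s)
    (h : Submodule.span Γ(X, D) (res K hDV '' T) = ⊤) :
    Submodule.span Γ(X, E) (Set.range fun i => res K hEV (s i)) = ⊤ := by
  subst hED
  rw [eq_top_iff, ← h]
  apply Submodule.span_mono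
  rintro _ ⟨z, hz, rfl⟩
  obtain ⟨i, rfl⟩ := hT hz
  exact ⟨i, rfl⟩

/-- Every section of `K` over an open `O` with `O ∩ V ⊆ W` lies in the kernel of `theta`, if the
sections `s i` generate `K` locally on `W ∩ V`. -/
theorem kernel_ι_app_surjective [K.IsQuasicoherent] (hV : IsAffineOpen V) (W : X.Opens)
    (T : Set Γ(K, V)) (hTs : T ⊆ Set.range s)
    (hT : ∀ x ∈ W ⊓ V, ∃ f : Γ(X, V), x ∈ X.basicOpen f ∧
      Submodule.span Γ(X, X.basicOpen f) (res K (X.basicOpen_le f) '' T) = ⊤)
    (O : X.Opens) (hOW : O ⊓ V ≤ W) :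
    Function.Surjective ((kernel.ι (theta K V s)).app O) := by
  intro t
  let S : ShortComplex X.Modules :=
    ShortComplex.mk (kernel.ι (theta K V s)) (theta K V s) (kernel.condition _)
  have hS : S.Exact := ShortComplex.exact_kernel (theta K V s)
  haveI : Mono S.f := inferInstanceAs (Mono (kernel.ι (theta K V s)))
  refine QCExact.exact_sections S hS O t ?_
  change (theta K V s).app O t = 0
  rw [theta_app]
  apply π_app_eq_zero_of_locally_mem_span
  intro y hy
  have hxO : V.ι y ∈ O := hy
  have hxV : V.ι y ∈ V := y.2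
  obtain ⟨f, hxf, hspan⟩ := hT (V.ι y) ⟨hOW ⟨hxO, hxV⟩, hxV⟩
  obtain ⟨h, hhle, hxh⟩ :=
    hV.exists_basicOpen_le (V := O ⊓ X.basicOpen f) ⟨V.ι y, hxO, hxf⟩ hxV
  have hhf : X.basicOpen h ≤ X.basicOpen f := hhle.trans inf_le_right
  have hhO : X.basicOpen h ≤ O := hhle.trans inf_le_left
  have hDh : X.basicOpen h = X.basicOpen (rres X (X.basicOpen_le f) h) :=
    ((Scheme.basicOpen_res X h (homOfLE (X.basicOpen_le f)).op).trans
      (inf_eq_right.mpr hhf)).symm
  have hspan' := span_res_eq_top K (hV.basicOpen f) (rres X (X.basicOpen_le f) h) hDh hhf _ hspan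
  have hspan'' : Submodule.span Γ(X, X.basicOpen h) (res K (X.basicOpen_le h) '' T) = ⊤ := by
    rw [eq_top_iff, ← hspan']
    apply Submodule.span_mono
    rintro _ ⟨_, ⟨z, hz, rfl⟩, rfl⟩
    exact ⟨z, hz, (res_res K _ _ z).symm⟩
  have hE : V.ι ''ᵁ (V.ι ⁻¹ᵁ X.basicOpen h) = X.basicOpen h := by
    rw [Scheme.Hom.image_preimage_eq_opensRange_inf, Scheme.Opens.opensRange_ι]
    exact inf_eq_right.mpr (X.basicOpen_le h)
  refine ⟨V.ι ⁻¹ᵁ X.basicOpen h, Scheme.Hom.preimage_mono V.ι hhO, hxh, ?_⟩
  rw [span_range_res_eq_top K V s hE (V.ι_image_le _) (X.basicOpen_le h) T hTs hspan'']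
  exact Submodule.mem_top

end Kernel

section Step

/-- The inductive step (general form): shrink `K` keeping its sections over the opens `O` with
`O ∩ V ⊆ W`, so that it becomes of finite type over `W ∪ V`. -/
theorem exists_step' (K : X.Modules) [K.IsQuasicoherent] {W V : X.Opens}
    (hWV : IsCompact ((W : Set X) ∩ V)) (hV : IsAffineOpen V) [QuasiCompact V.ι]
    (hK : LocFin K W) :
    ∃ (K' : X.Modules) (m : K' ⟶ K), Mono m ∧ K'.IsQuasicoherent ∧
      (∀ O : X.Opens, O ⊓ V ≤ W → Function.Surjective (m.app O)) ∧ LocFin K' (W ⊔ V) := by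
  obtain ⟨T, hT⟩ := exists_cover_span K hWV hV hK
  let s : {x // x ∈ T} → Γ(K, V) := fun t => t.1
  have hTs : (T : Set Γ(K, V)) ⊆ Set.range s := fun z hz => ⟨⟨z, hz⟩, rfl⟩
  haveI : (freeMod (V : Scheme.{u}) {x // x ∈ T}).IsQuasicoherent := isQuasicoherent_freeMod _ _
  haveI : (K.restrict V.ι).IsQuasicoherent := Scheme.Modules.isQuasicoherent_restrictFunctor V.ι K
  haveI hC : (cokernel (sigmaMap K V s)).IsQuasicoherent := QCProps.isQuasicoherent_cokernel _
  haveI hPC : ((pushforward V.ι).obj (cokernel (sigmaMap K V s))).IsQuasicoherent :=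
    QCSec.isQuasicoherent_pushforward V.ι _
  haveI hK' : (kernel (theta K V s)).IsQuasicoherent := QCProps.isQuasicoherent_kernel _
  have hsurj : ∀ O : X.Opens, O ⊓ V ≤ W →
      Function.Surjective ((kernel.ι (theta K V s)).app O) :=
    fun O hOW => kernel_ι_app_surjective K V s hV W T hTs hT O hOW
  refine ⟨kernel (theta K V s), kernel.ι (theta K V s), inferInstance, hK', hsurj, ?_⟩
  apply LocFin.sup
  · intro x hxW
    obtain ⟨O₁, hO₁, hxO₁, hfin⟩ := hK x hxW
    obtain ⟨g, hgle, hxg⟩ := hO₁.exists_basicOpen_le (V := O₁ ⊓ W) ⟨x, hxO₁, hxW⟩ hxO₁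
    have hfin' := finite_res K hO₁ g rfl (X.basicOpen_le g) hfin
    refine ⟨X.basicOpen g, hO₁.basicOpen g, hxg, ?_⟩
    have hinj := QCExact.injective_sections (kernel.ι (theta K V s)) (X.basicOpen g)
    have hsur := hsurj (X.basicOpen g) (inf_le_left.trans (hgle.trans inf_le_right))
    let e := LinearEquiv.ofBijective (QCProps.appₗ (kernel.ι (theta K V s)) (X.basicOpen g))
      ⟨hinj, hsur⟩
    exact Module.Finite.equiv e.symm
  · haveI : Finite {x // x ∈ T} := inferInstance
    exact locFin_of_restrict (kernel (theta K V s)) V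
      (Scheme.Modules.isQuasicoherent_restrictFunctor V.ι _)
      (isFiniteType_restrict_kernel K V s)

/-- The inductive step: shrink `K` keeping its sections over opens of `W`, so that it becomes of
finite type over `W ∪ V`. -/
theorem exists_step [QuasiSeparatedSpace X] (K : X.Modules) [K.IsQuasicoherent] {W V : X.Opens}
    (hW : IsCompact (W : Set X)) (hV : IsAffineOpen V) (hK : LocFin K W) :
    ∃ (K' : X.Modules) (m : K' ⟶ K), Mono m ∧ K'.IsQuasicoherent ∧
      (∀ O : X.Opens, O ≤ W → Function.Surjective (m.app O)) ∧ LocFin K' (W ⊔ V) := by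
  haveI : CompactSpace (V : Scheme.{u}) := isCompact_iff_compactSpace.mp hV.isCompact
  haveI : QuasiCompact V.ι := inferInstance
  obtain ⟨K', m, hm, hq, hsurj, hfin⟩ := exists_step' K
    (QuasiSeparatedSpace.inter_isCompact _ _ W.2 hW V.2 hV.isCompact) hV hK
  exact ⟨K', m, hm, hq, fun O hO => hsurj O (inf_le_left.trans hO), hfin⟩

end Step

section Main

theorem mono_pushforward_map {Y : Scheme.{u}} (f : Y ⟶ X) {M N : Y.Modules} (φ : M ⟶ N)
    [Mono φ] : Mono ((pushforward f).map φ) := by
  rw [QCProps.mono_iff_app_injective]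
  intro O
  exact (QCProps.mono_iff_app_injective φ).mp inferInstance (f ⁻¹ᵁ O)

/-- The canonical (maximal) extension of a quasi-coherent submodule of `G|U` to a quasi-coherent
submodule of `G`. -/
theorem exists_canonical_extension (U : X.Opens) [QuasiCompact U.ι]
    (G : X.Modules) [G.IsQuasicoherent] (F' : (U : Scheme.{u}).Modules) [F'.IsQuasicoherent]
    (i' : F' ⟶ G.restrict U.ι) [Mono i'] :
    ∃ (H : X.Modules) (ψ : H ⟶ G) (e : H.restrict U.ι ≅ F'), Mono ψ ∧ H.IsQuasicoherent ∧
      e.hom ≫ i' = (restrictFunctor U.ι).map ψ := by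
  let adj := Scheme.Modules.restrictAdjunction U.ι
  let a : (Scheme.Modules.pushforward U.ι).obj F' ⟶
      (Scheme.Modules.pushforward U.ι).obj (G.restrict U.ι) :=
    (Scheme.Modules.pushforward U.ι).map i'
  let b : G ⟶ (Scheme.Modules.pushforward U.ι).obj (G.restrict U.ι) := adj.unit.app G
  haveI hA : ((Scheme.Modules.pushforward U.ι).obj F').IsQuasicoherent :=
    QCSec.isQuasicoherent_pushforward U.ι F'
  haveI hFr : (G.restrict U.ι).IsQuasicoherent :=
    Scheme.Modules.isQuasicoherent_restrictFunctor U.ι G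
  haveI hC : ((Scheme.Modules.pushforward U.ι).obj (G.restrict U.ι)).IsQuasicoherent :=
    QCSec.isQuasicoherent_pushforward U.ι (G.restrict U.ι)
  haveI ha : Mono a := mono_pushforward_map U.ι i'
  have hH : (pullback a b : X.Modules).IsQuasicoherent := QCLim.isQuasicoherent_pullback a b
  have hpb : IsPullback (pullback.fst a b) (pullback.snd a b) a b := IsPullback.of_hasPullback a b
  have hpb' := hpb.map (Scheme.Modules.restrictFunctor U.ι)
  have htri : (Scheme.Modules.restrictFunctor U.ι).map b ≫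
      adj.counit.app ((Scheme.Modules.restrictFunctor U.ι).obj G) = 𝟙 _ :=
    adj.left_triangle_components G
  haveI hcou : ∀ N, IsIso (adj.counit.app N) := fun N => inferInstance
  have hb : IsIso ((Scheme.Modules.restrictFunctor U.ι).map b) := by
    haveI : IsIso ((Scheme.Modules.restrictFunctor U.ι).map b ≫
        adj.counit.app ((Scheme.Modules.restrictFunctor U.ι).obj G)) := by
      rw [htri]; infer_instance
    exact IsIso.of_isIso_comp_right _ (adj.counit.app ((Scheme.Modules.restrictFunctor U.ι).obj G))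
  have hfst : IsIso ((Scheme.Modules.restrictFunctor U.ι).map (pullback.fst a b)) :=
    hpb'.isIso_fst_of_isIso hb
  let e1 : (Scheme.Modules.restrictFunctor U.ι).obj (pullback a b) ≅
      (Scheme.Modules.restrictFunctor U.ι).obj ((Scheme.Modules.pushforward U.ι).obj F') :=
    @asIso _ _ _ _ _ hfst
  let e2 : (Scheme.Modules.restrictFunctor U.ι).obj ((Scheme.Modules.pushforward U.ι).obj F') ≅
      F' :=
    @asIso _ _ _ _ (adj.counit.app F') (hcou F')
  refine ⟨pullback a b, pullback.snd a b, e1 ≪≫ e2, inferInstance, hH, ?_⟩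
  have hnat : (Scheme.Modules.restrictFunctor U.ι).map a ≫
      adj.counit.app ((Scheme.Modules.restrictFunctor U.ι).obj G) = adj.counit.app F' ≫ i' :=
    adj.counit.naturality i'
  have hw := hpb'.w
  calc (e1 ≪≫ e2).hom ≫ i'
      = (Scheme.Modules.restrictFunctor U.ι).map (pullback.fst a b) ≫
          (adj.counit.app F' ≫ i') := by
        simp [e1, e2]
    _ = ((Scheme.Modules.restrictFunctor U.ι).map (pullback.fst a b) ≫
          (Scheme.Modules.restrictFunctor U.ι).map a) ≫
          adj.counit.app ((Scheme.Modules.restrictFunctor U.ι).obj G) := by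
        rw [← hnat, Category.assoc]
    _ = ((Scheme.Modules.restrictFunctor U.ι).map (pullback.snd a b) ≫
          (Scheme.Modules.restrictFunctor U.ι).map b) ≫
          adj.counit.app ((Scheme.Modules.restrictFunctor U.ι).obj G) := by
        rw [hw]
    _ = (Scheme.Modules.restrictFunctor U.ι).map (pullback.snd a b) := by
        rw [Category.assoc, htri, Category.comp_id]

/-- A monomorphism which is surjective on sections over the affine opens contained in `U`
restricts to an isomorphism over `U`. -/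
theorem isIso_restrict_map_of_surjective {K H : X.Modules} [H.IsQuasicoherent] (m : K ⟶ H)
    [Mono m] (U : X.Opens)
    (h : ∀ O : X.Opens, IsAffineOpen O → O ≤ U → Function.Surjective (m.app O)) :
    IsIso ((restrictFunctor U.ι).map m) := by
  haveI : Mono ((restrictFunctor U.ι).map m) := QCProps.mono_restrict_map U.ι m
  haveI : (H.restrict U.ι).IsQuasicoherent := Scheme.Modules.isQuasicoherent_restrictFunctor U.ι H
  haveI : Epi ((restrictFunctor U.ι).map m) := by
    apply QCExact.epi_of_surjective_on_affine_cover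
    intro y
    obtain ⟨O', hO', hyO'⟩ := QCProps.exists_affine_nbhd y
    refine ⟨O', hO', hyO', ?_⟩
    exact h (U.ι ''ᵁ O') (hO'.image_of_isOpenImmersion U.ι) (U.ι_image_le O')
  exact isIso_of_mono_of_epi _

/-- A quasi-coherent module which is locally of finite type on a quasi-compact open `U` contains
a quasi-coherent submodule of finite type with the same sections over the opens of `U`. -/
theorem exists_finiteType_sub [CompactSpace X] [QuasiSeparatedSpace X] (H : X.Modules)
    [H.IsQuasicoherent] (U : X.Opens) (hU : IsCompact (U : Set X)) (hH : LocFin H U) :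
    ∃ (K : X.Modules) (m : K ⟶ H), Mono m ∧ K.IsQuasicoherent ∧ K.IsFiniteType ∧
      (∀ O : X.Opens, O ≤ U → Function.Surjective (m.app O)) := by
  classical
  obtain ⟨ι, hι, V, hVa, -, hcov⟩ :=
    exists_finite_affine_cover (⊤ : X.Opens) (by simpa using (isCompact_univ : IsCompact (Set.univ : Set X)))
  have := Fintype.ofFinite ι
  have hcompS : ∀ S : Finset ι, IsCompact ((U ⊔ S.sup V : X.Opens) : Set X) := by
    intro S
    induction S using Finset.induction_on with
    | empty => rw [Finset.sup_empty, sup_bot_eq]; exact hU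
    | insert a S _ ih =>
      rw [Finset.sup_insert, sup_left_comm, Opens.coe_sup]
      exact (hVa a).isCompact.union ih
  have key : ∀ S : Finset ι, ∃ (K : X.Modules) (m : K ⟶ H), Mono m ∧ K.IsQuasicoherent ∧
      (∀ O : X.Opens, O ≤ U → Function.Surjective (m.app O)) ∧ LocFin K (U ⊔ S.sup V) := by
    intro S
    induction S using Finset.induction_on with
    | empty =>
      refine ⟨H, 𝟙 H, inferInstance, inferInstance, fun O _ t => ⟨t, rfl⟩, ?_⟩
      exact hH.mono (le_of_eq (by rw [Finset.sup_empty, sup_bot_eq]))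
    | insert a S _ ih =>
      obtain ⟨K, m, hm, hKq, hsurj, hfin⟩ := ih
      haveI := hKq
      haveI := hm
      obtain ⟨K', m', hm', hK'q, hsurj', hfin'⟩ := exists_step K (hcompS S) (hVa a) hfin
      haveI := hm'
      refine ⟨K', m' ≫ m, mono_comp m' m, hK'q, ?_, ?_⟩
      · intro O hO t
        obtain ⟨t₁, rfl⟩ := hsurj O hO t
        obtain ⟨t₂, rfl⟩ := hsurj' O (hO.trans le_sup_left) t₁
        exact ⟨t₂, rfl⟩
      · refine hfin'.mono (le_of_eq ?_)
        rw [Finset.sup_insert, sup_left_comm, sup_comm (V a)]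
  obtain ⟨K, m, hm, hKq, hsurj, hfin⟩ := key Finset.univ
  haveI := hKq
  refine ⟨K, m, hm, hKq, ?_, hsurj⟩
  apply isFiniteType_of_locFin
  refine hfin.mono (hcov.trans ?_)
  rw [Finset.sup_univ_eq_iSup]
  exact le_sup_right

/-- **EGA I 9.4.7**: extension of quasi-coherent submodules of finite type from a quasi-compact
open of a quasi-compact quasi-separated scheme. -/
theorem exists_finiteType_extension [CompactSpace X] [QuasiSeparatedSpace X] (U : X.Opens)
    (hU : IsCompact (U : Set X)) (G : X.Modules) [G.IsQuasicoherent]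
    (F' : (U : Scheme.{u}).Modules) [F'.IsQuasicoherent] (hF' : F'.IsFiniteType)
    (i' : F' ⟶ G.restrict U.ι) [Mono i'] :
    ∃ (F : X.Modules) (i : F ⟶ G) (e : F.restrict U.ι ≅ F'), Mono i ∧ F.IsQuasicoherent ∧
      F.IsFiniteType ∧ e.hom ≫ i' = (restrictFunctor U.ι).map i := by
  haveI : CompactSpace (U : Scheme.{u}) := isCompact_iff_compactSpace.mp hU
  haveI : QuasiCompact U.ι := inferInstance
  obtain ⟨H, ψ, eH, hψ, hHq, hHeq⟩ := exists_canonical_extension U G F' i'
  haveI := hHq
  haveI := hψ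
  have hHU : LocFin H U := by
    haveI : (H.restrict U.ι).IsFiniteType := QCProps.isFiniteType_of_iso eH.symm
    exact locFin_of_restrict H U (Scheme.Modules.isQuasicoherent_restrictFunctor U.ι H)
      inferInstance
  obtain ⟨K, m, hm, hKq, hKft, hsurj⟩ := exists_finiteType_sub H U hU hHU
  haveI := hm
  haveI := hKq
  haveI hiso : IsIso ((restrictFunctor U.ι).map m) :=
    isIso_restrict_map_of_surjective m U (fun O _ hO => hsurj O hO)
  refine ⟨K, m ≫ ψ, asIso ((restrictFunctor U.ι).map m) ≪≫ eH, mono_comp m ψ, hKq, hKft, ?_⟩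
  rw [Iso.trans_hom, asIso_hom, Category.assoc, hHeq, Functor.map_comp]

end Main

end Groth.Agent.Lib.Helper3.QCExtend
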