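import Groth.Agent.Lib.Helper3.PbBasic

set_option autoImplicit false
universe u
open CategoryTheory CategoryTheory.Limits AlgebraicGeometry TopologicalSpace Opposite
open Scheme.Modules TensorProduct MonoidalCategory

namespace Groth.Agent.Lib.Helper3.PbTensor

open QCSec InvGen InvTensor InvMonoidal InvRestrict PbBasic

variable {X Y : Scheme.{u}}

theorem pull_add (f : X ⟶ Y) (M : Y.Modules) (V : Y.Opens) (σ τ : Γ(M, V)) :
    pull f M V (σ + τ) = pull f M V σ + pull f M V τ :=
  map_add (((pullbackPushforwardAdjunction f).unit.app M).app V).hom σ τ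

/-- a morphism which maps local generators to local generators is an isomorphism -/
theorem isIso_of_isGen_cover {A B : X.Modules} (φ : A ⟶ B)
    (h : ∀ x : X, ∃ (U : X.Opens) (a : Γ(A, U)), x ∈ U ∧ IsGen A U a ∧ IsGen B U (φ.app U a)) :
    IsIso φ := by
  haveI : Mono φ := by
    rw [QCProps.mono_iff_app_injective]
    intro W t t' htt
    have hz : ∀ t₀ : Γ(A, W), φ.app W t₀ = 0 → t₀ = 0 := by
      intro t₀ ht₀
      have hloc : ∀ x : {x : X // x ∈ W}, ∃ (W' : X.Opens) (hW' : W' ≤ W), x.1 ∈ W' ∧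
          res A hW' t₀ = 0 := by
        intro x
        obtain ⟨U, a, hxU, hgA, hgB⟩ := h x.1
        refine ⟨W ⊓ U, inf_le_left, ⟨x.2, hxU⟩, ?_⟩
        obtain ⟨c, hc⟩ := (hgA (W ⊓ U) inf_le_right).exists_coord (res A inf_le_left t₀)
        have h1 : φ.app (W ⊓ U) (res A inf_le_left t₀) = 0 := by
          rw [QCExact.app_res', ht₀, res_zero]
        rw [← hc, Scheme.Modules.Hom.app_smul, QCExact.app_res'] at h1
        have h2 := (hgB (W ⊓ U) inf_le_right).eq_zero h1
        rw [← hc, h2, zero_smul]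
      choose W' hW' hxW' hres using hloc
      have := sec_eq_of_locally_eq A W' W hW' (fun x hx => Opens.mem_iSup.mpr ⟨⟨x, hx⟩, hxW' _⟩)
        t₀ 0 (fun i => by rw [hres i, res_zero])
      exact this
    have h1 : φ.app W (t - t') = 0 := by rw [map_sub, htt, sub_self]
    exact sub_eq_zero.mp (hz _ h1)
  haveI : Epi φ := by
    apply QCExact.epi_of_locally_surjective
    intro W s x hxW
    obtain ⟨U, a, hxU, hgA, hgB⟩ := h x
    refine ⟨W ⊓ U, inf_le_left, ⟨hxW, hxU⟩, ?_⟩
    obtain ⟨c, hc⟩ := (hgB (W ⊓ U) inf_le_right).exists_coord (res B inf_le_left s)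
    refine ⟨c • res A inf_le_right a, ?_⟩
    rw [Scheme.Modules.Hom.app_smul, QCExact.app_res', hc]
  exact isIso_of_mono_of_epi φ

section Tensor

variable (f : X ⟶ Y) (M N : Y.Modules)

theorem pushforward_smul (K : X.Modules) (V : Y.Opens) (a : Γ(Y, V))
    (k : Γ((pushforward f).obj K, V)) :
    a • k = (show Γ((pushforward f).obj K, V) from
      (f.app V a) • (show Γ(K, f ⁻¹ᵁ V) from k)) := rfl

/-- the comparison map from the sectionwise tensor product to the pushforward of the tensor
product of the pullbacks -/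
noncomputable def pEta :
    CohB1.toPMod M ⊗ CohB1.toPMod N ⟶
      CohB1.toPMod ((pushforward f).obj (CohB1.tensorMod ((Scheme.Modules.pullback f).obj M)
        ((Scheme.Modules.pullback f).obj N))) where
  app V := ModuleCat.MonoidalCategory.tensorLift
    (fun (m : (CohB1.toPMod M).obj V) (n : (CohB1.toPMod N).obj V) =>
      (show (CohB1.toPMod ((pushforward f).obj (CohB1.tensorMod
          ((Scheme.Modules.pullback f).obj M) ((Scheme.Modules.pullback f).obj N)))).obj V from
        tm ((Scheme.Modules.pullback f).obj M) ((Scheme.Modules.pullback f).obj N)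
          (f ⁻¹ᵁ V.unop) (pull f M V.unop m) (pull f N V.unop n)))
    (fun m₁ m₂ n => by
      have h := pull_add f M V.unop m₁ m₂
      exact (congrArg (fun z => tm _ _ (f ⁻¹ᵁ V.unop) z (pull f N V.unop n)) h).trans
        (tm_add_left _ _ _ _ _ _))
    (fun a m n => by
      have h := pull_smul f M V.unop a m
      exact (congrArg (fun z => tm _ _ (f ⁻¹ᵁ V.unop) z (pull f N V.unop n)) h).trans
        (tm_smul_left _ _ _ _ _ _))
    (fun m n₁ n₂ => by
      have h := pull_add f N V.unop n₁ n₂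
      exact (congrArg (fun z => tm _ _ (f ⁻¹ᵁ V.unop) (pull f M V.unop m) z) h).trans
        (tm_add_right _ _ _ _ _ _))
    (fun a m n => by
      have h := pull_smul f N V.unop a n
      exact (congrArg (fun z => tm _ _ (f ⁻¹ᵁ V.unop) (pull f M V.unop m) z) h).trans
        (tm_smul_right _ _ _ _ _ _))
  naturality {V₁ V₂} g := by
    apply ModuleCat.MonoidalCategory.tensor_ext
    intro m n
    have hle : V₂.unop ≤ V₁.unop := leOfHom g.unop
    have h1 := tm_res ((Scheme.Modules.pullback f).obj M) ((Scheme.Modules.pullback f).obj N)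
      (show f ⁻¹ᵁ V₂.unop ≤ f ⁻¹ᵁ V₁.unop from fun _ hx => hle hx)
      (pull f M V₁.unop m) (pull f N V₁.unop n)
    rw [res_pull f M hle, res_pull f N hle] at h1
    exact h1.symm

/-- `M ⊗ N ⟶ f_*(f^*M ⊗ f^*N)` -/
noncomputable def deltaFlat : CohB1.tensorMod M N ⟶
    (pushforward f).obj (CohB1.tensorMod ((Scheme.Modules.pullback f).obj M)
      ((Scheme.Modules.pullback f).obj N)) :=
  aMap (pEta f M N) ≫ counitHom _

theorem deltaFlat_tm (V : Y.Opens) (m : Γ(M, V)) (n : Γ(N, V)) :
    (deltaFlat f M N).app V (tm M N V m n) =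
      tm ((Scheme.Modules.pullback f).obj M) ((Scheme.Modules.pullback f).obj N) (f ⁻¹ᵁ V)
        (pull f M V m) (pull f N V n) := by
  rw [tm_eq_uu]
  change (counitHom _).app V ((aMap (pEta f M N)).app V (uu _ V _)) = _
  rw [aMap_uu]
  exact counit_uu _ V _

/-- `f^*(M ⊗ N) ⟶ f^*M ⊗ f^*N` -/
noncomputable def delta : (Scheme.Modules.pullback f).obj (CohB1.tensorMod M N) ⟶
    CohB1.tensorMod ((Scheme.Modules.pullback f).obj M) ((Scheme.Modules.pullback f).obj N) :=
  ((pullbackPushforwardAdjunction f).homEquiv _ _).symm (deltaFlat f M N)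

theorem delta_pull (V : Y.Opens) (τ : Γ(CohB1.tensorMod M N, V)) :
    (delta f M N).app (f ⁻¹ᵁ V) (pull f _ V τ) = (deltaFlat f M N).app V τ := by
  have h : (pullbackPushforwardAdjunction f).homEquiv _ _ (delta f M N) = deltaFlat f M N :=
    Equiv.apply_symm_apply _ _
  rw [Adjunction.homEquiv_unit] at h
  exact congrArg (fun ψ => (Scheme.Modules.Hom.app ψ V) τ) h

theorem delta_pull_tm (V : Y.Opens) (m : Γ(M, V)) (n : Γ(N, V)) :
    (delta f M N).app (f ⁻¹ᵁ V) (pull f _ V (tm M N V m n)) =
      tm ((Scheme.Modules.pullback f).obj M) ((Scheme.Modules.pullback f).obj N) (f ⁻¹ᵁ V)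
        (pull f M V m) (pull f N V n) := by
  rw [delta_pull, deltaFlat_tm]

theorem isIso_delta (hM : PicF.IsInvertible M) (hN : PicF.IsInvertible N) :
    IsIso (delta f M N) := by
  apply isIso_of_isGen_cover
  intro x
  obtain ⟨U, e, hxU, hg⟩ := exists_isGen hM (f x)
  obtain ⟨U', e', hxU', hg'⟩ := exists_isGen hN (f x)
  have hg₁ := hg.mono (inf_le_left : U ⊓ U' ≤ U)
  have hg₂ := hg'.mono (inf_le_right : U ⊓ U' ≤ U')
  refine ⟨f ⁻¹ᵁ (U ⊓ U'), pull f _ _ (tm M N _ _ _), ⟨hxU, hxU'⟩,
    isGen_pull f (isGen_tm hg₁ hg₂), ?_⟩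
  rw [delta_pull_tm]
  exact isGen_tm (isGen_pull f hg₁) (isGen_pull f hg₂)

/-- pullback commutes with tensor products of invertible modules -/
noncomputable def pbTensorIso (hM : PicF.IsInvertible M) (hN : PicF.IsInvertible N) :
    (Scheme.Modules.pullback f).obj (CohB1.tensorMod M N) ≅
      CohB1.tensorMod ((Scheme.Modules.pullback f).obj M) ((Scheme.Modules.pullback f).obj N) :=
  haveI := isIso_delta f M N hM hN
  asIso (delta f M N)

/-- pullback commutes with tensor powers of invertible modules -/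
noncomputable def pbPowIso (L : Y.Modules) (hL : PicF.IsInvertible L) : (n : ℕ) →
    ((Scheme.Modules.pullback f).obj (CohB1.tensorPow L n) ≅
      CohB1.tensorPow ((Scheme.Modules.pullback f).obj L) n)
  | 0 => pbUnit f
  | n + 1 => pbTensorIso f (CohB1.tensorPow L n) L (isInvertible_tensorPow hL n) hL ≪≫
      tensorMapIso (pbPowIso L hL n) (Iso.refl _)

end Tensor

end Groth.Agent.Lib.Helper3.PbTensor
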