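import Groth.Agent.Lib.Helper3.GlobGen

/-!
# Sections of free modules; globally generated modules are spanned by global sections
-/

set_option autoImplicit false
universe u
open CategoryTheory CategoryTheory.Limits AlgebraicGeometry TopologicalSpace Opposite
open Scheme.Modules TensorProduct

namespace Groth.Agent.Lib.Helper3.FreeSec

open QCSec InvGen InvMonoidal QCExtend InvAmple GlobGen

section S1

variable {X : Scheme.{u}} (I : Type u)

/-- the presheaf of free modules on `I` -/
noncomputable def P₀ : PresheafOfModules.{u} X.ringCatSheaf.obj :=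
  PresheafOfModules.freeObj ((Functor.const _).obj I)

/-- the family of tautological sections, as a morphism of presheaves of types -/
noncomputable def psi : (Functor.const (Opens X)ᵒᵖ).obj I ⟶
    ((QCExact.Rt X).obj (freeMod X I)).presheaf ⋙ forget _ where
  app U := ↾fun i ↦ (SheafOfModules.freeSection (R := X.ringCatSheaf) i).val U
  naturality U V f := by
    ext i
    exact ((SheafOfModules.freeSection (R := X.ringCatSheaf) i).property f).symm

/-- the comparison from the presheaf of free modules to the free sheaf of modules -/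
noncomputable def phi : P₀ (X := X) I ⟶ (QCExact.Rt X).obj (freeMod X I) :=
  PresheafOfModules.freeObjDesc (psi I)

end S1

section S2

variable {X : Scheme.{u}} (I : Type u)

/-- the sheafification of the presheaf of free modules -/
noncomputable def F₀ : X.Modules := (CohB1.sheafifyMod X).obj (P₀ (X := X) I)

/-- the retraction from the sheafified presheaf of free modules -/
noncomputable def retr : F₀ (X := X) I ⟶ freeMod X I :=
  ((QCExact.adjSh X).homEquiv (P₀ (X := X) I) (freeMod X I)).symm (phi I)

theorem retr_uu (U : X.Opens) (a : (P₀ (X := X) I).obj (op U)) :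
    (retr I).app U (uu (P₀ (X := X) I) U a) = ((phi I).app (op U)).hom a := by
  have h : (QCExact.adjSh X).unit.app (P₀ (X := X) I) ≫ (QCExact.Rt X).map (retr I) = phi I :=
    ((QCExact.adjSh X).homEquiv_unit (P₀ (X := X) I) (freeMod X I) (retr I)).symm.trans
      (Equiv.apply_symm_apply _ _)
  exact congrArg (fun ψ => (PresheafOfModules.Hom.app ψ (op U)).hom a) h

theorem P₀_map_freeMk {A B : (Opens X)ᵒᵖ} (f : A ⟶ B) (i : I) :
    ((P₀ (X := X) I).map f).hom (ModuleCat.freeMk i) = ModuleCat.freeMk i := by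
  unfold P₀
  simp only [PresheafOfModules.freeObj]
  exact ModuleCat.freeDesc_apply _ i

theorem res_uu (P : X.PresheafOfModules) {A B : X.Opens} (h : A ≤ B) (x : P.obj (op B)) :
    res ((CohB1.sheafifyMod X).obj P) h (uu P B x) = uu P A ((P.map (homOfLE h).op).hom x) := by
  have natU := congrArg (fun ψ => ψ x)
    (PresheafOfModules.Hom.naturality ((QCExact.adjSh X).unit.app P) (homOfLE h).op)
  exact natU.symm

/-- the basis sections of the sheafified presheaf of free modules -/
noncomputable def eSec (i : I) : (F₀ (X := X) I).sections :=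
  PresheafOfModules.sectionsMk
    (fun V => (show Γ(F₀ (X := X) I, V.unop) from
      uu (P₀ (X := X) I) V.unop (ModuleCat.freeMk i)))
    (fun A B f => by
      have h1 := res_uu (P₀ (X := X) I) (leOfHom f.unop) (ModuleCat.freeMk i)
      rw [P₀_map_freeMk] at h1
      exact h1)

end S2

section S3

variable {X : Scheme.{u}} (I : Type u)

/-- the comparison from the free sheaf of modules -/
noncomputable def toSh : freeMod X I ⟶ F₀ (X := X) I :=
  (SheafOfModules.freeHomEquiv (F₀ (X := X) I)).symm (eSec I)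

theorem phi_freeMk (U : X.Opens) (i : I) :
    ((phi (X := X) I).app (op U)).hom (ModuleCat.freeMk i) =
      (SheafOfModules.freeSection (R := X.ringCatSheaf) i).val (op U) :=
  ModuleCat.freeDesc_apply _ i

theorem toSh_retr : toSh (X := X) I ≫ retr I = 𝟙 _ := by
  apply (SheafOfModules.freeHomEquiv _).injective
  funext i
  have h1 : SheafOfModules.freeHomEquiv (F₀ (X := X) I) (toSh I) = eSec I :=
    Equiv.apply_symm_apply _ _
  refine (SheafOfModules.freeHomEquiv_comp_apply (toSh (X := X) I) (retr I) i).trans ?_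
  refine (congrArg (SheafOfModules.sectionsMap (retr (X := X) I)) (congrFun h1 i)).trans ?_
  apply Subtype.ext
  funext U
  exact (retr_uu I U.unop (ModuleCat.freeMk i)).trans (phi_freeMk I U.unop i)

theorem phi_mem_span (U : X.Opens) (a : (P₀ (X := X) I).obj (op U)) :
    (show Γ(freeMod X I, U) from ((phi (X := X) I).app (op U)).hom a) ∈
      Submodule.span Γ(X, U) (Set.range (fun i => (show Γ(freeMod X I, U) from
        (SheafOfModules.freeSection (R := X.ringCatSheaf) i).val (op U)))) := by
  induction a using Finsupp.induction_linear with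
  | zero =>
    have h : ((phi (X := X) I).app (op U)).hom 0 = 0 := map_zero _
    exact h ▸ Submodule.zero_mem _
  | add a b ha hb =>
    have h : ((phi (X := X) I).app (op U)).hom (a + b) =
        ((phi (X := X) I).app (op U)).hom a + ((phi (X := X) I).app (op U)).hom b := map_add _ a b
    exact h ▸ Submodule.add_mem _ ha hb
  | single i r =>
    have h0 : (Finsupp.single i r : I →₀ ↑(X.ringCatSheaf.obj.obj (op U))) =
        r • (ModuleCat.freeMk i : (ModuleCat.free (X.ringCatSheaf.obj.obj (op U))).obj I) := by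
      exact (Finsupp.smul_single_one i r).symm
    have h : ((phi (X := X) I).app (op U)).hom (Finsupp.single i r) =
        r • ((phi (X := X) I).app (op U)).hom (ModuleCat.freeMk i) := by
      rw [h0]
      exact map_smul _ r _
    rw [phi_freeMk] at h
    exact h ▸ Submodule.smul_mem _ (show Γ(X, U) from r) (Submodule.subset_span ⟨i, rfl⟩)

end S3

section S4

variable {X : Scheme.{u}} (I : Type u)

/-- the `i`-th basis section of the free module over `U` -/
noncomputable def fs (i : I) (U : X.Opens) : Γ(freeMod X I, U) :=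
  (SheafOfModules.freeSection (R := X.ringCatSheaf) i).val (op U)

theorem res_fs (i : I) {A B : X.Opens} (h : A ≤ B) :
    res (freeMod X I) h (fs I i B) = fs I i A :=
  (SheafOfModules.freeSection (R := X.ringCatSheaf) i).property (homOfLE h).op

/-- Sections of a free module are locally finite linear combinations of the basis sections. -/
theorem exists_local_span_free (W : X.Opens) (t : Γ(freeMod X I, W)) (x : X) (hx : x ∈ W) :
    ∃ (W' : X.Opens) (hW' : W' ≤ W), x ∈ W' ∧
      res (freeMod X I) hW' t ∈ Submodule.span Γ(X, W') (Set.range (fun i => fs I i W')) := by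
  obtain ⟨S, hS, h⟩ := Helper13.TensorLocal.locSurj_unit (J := Opens.grothendieckTopology X)
    (𝟙 X.ringCatSheaf.obj) (P₀ (X := X) I) W ((toSh I).app W t)
  obtain ⟨W', f, hf, hxW'⟩ := hS x hx
  obtain ⟨a, ha⟩ := h f hf
  refine ⟨W', leOfHom f, hxW', ?_⟩
  have h0 : (retr I).app W ((toSh (X := X) I).app W t) = t := by
    have : (toSh (X := X) I ≫ retr I).app W t = t := by rw [toSh_retr]; rfl
    exact this
  have h1 : res (freeMod X I) (leOfHom f) t =
      (retr I).app W' (res (F₀ (X := X) I) (leOfHom f) ((toSh I).app W t)) := by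
    rw [QCExact.app_res', h0]
  have h2 : res (F₀ (X := X) I) (leOfHom f) ((toSh I).app W t) = uu (P₀ (X := X) I) W' a :=
    ha.symm
  rw [h1, h2, retr_uu]
  exact phi_mem_span I W' a

end S4

section S5

variable {X : Scheme.{u}}

/-- every section of `M` is locally a linear combination of the global sections `σ i` -/
def IsLocSpannedBy (M : X.Modules) {I : Type u} (σ : I → Γ(M, ⊤)) : Prop :=
  ∀ (W : X.Opens) (s : Γ(M, W)) (x : X), x ∈ W → ∃ (W' : X.Opens) (hW' : W' ≤ W), x ∈ W' ∧
    res M hW' s ∈ Submodule.span Γ(X, W')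
      (Set.range (fun i => res M (le_top : W' ≤ ⊤) (σ i)))

/-- the global sections defined by a morphism from a free module -/
noncomputable def secOfHom {M : X.Modules} {I : Type u} (p : freeMod X I ⟶ M) (i : I) : Γ(M, ⊤) :=
  p.app ⊤ (fs I i ⊤)

theorem isLocSpannedBy_of_epi {M : X.Modules} {I : Type u} (p : freeMod X I ⟶ M) [Epi p] :
    IsLocSpannedBy M (secOfHom p) := by
  intro W s x hx
  obtain ⟨W₁, hW₁, hxW₁, t, ht⟩ := QCExact.exists_local_lift p W s x hx
  obtain ⟨W₂, hW₂, hxW₂, hspan⟩ := exists_local_span_free I W₁ t x hxW₁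
  refine ⟨W₂, hW₂.trans hW₁, hxW₂, ?_⟩
  have h1 : res M (hW₂.trans hW₁) s = appLin p W₂ (res (freeMod X I) hW₂ t) := by
    change _ = p.app W₂ (res (freeMod X I) hW₂ t)
    rw [QCExact.app_res', ht]
    exact (res_res M hW₂ hW₁ s).symm
  rw [h1]
  have h2 := Submodule.mem_map_of_mem (f := appLin p W₂) hspan
  rw [Submodule.map_span] at h2
  refine Submodule.span_mono ?_ h2
  rintro _ ⟨_, ⟨i, rfl⟩, rfl⟩
  refine ⟨i, ?_⟩
  change res M le_top (p.app ⊤ (fs I i ⊤)) = p.app W₂ (fs I i W₂)
  rw [← QCExact.app_res', res_fs]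

theorem exists_isLocSpannedBy_of_isGloballyGenerated {M : X.Modules}
    (h : Curv2.IsGloballyGenerated M) : ∃ (I : Type u) (σ : I → Γ(M, ⊤)), IsLocSpannedBy M σ := by
  obtain ⟨I, p, hp⟩ := h
  exact ⟨I, secOfHom p, @isLocSpannedBy_of_epi _ _ _ p hp⟩

/-- an invertible module locally spanned by global sections has no base points -/
theorem IsLocSpannedBy.exists_mem_genLocus {M : X.Modules} (hM : PicF.IsInvertible M)
    {I : Type u} {σ : I → Γ(M, ⊤)} (h : IsLocSpannedBy M σ) (x : X) :
    ∃ i, x ∈ CohB1.genLocus M (globalHom M (σ i)) := by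
  obtain ⟨V, e, hxV, hg⟩ := exists_isGen hM x
  obtain ⟨W, hWV, hxW, hspan⟩ := h V e x hxV
  have hgW : IsGen M W (res M hWV e) := hg.mono hWV
  -- the submodule of sections whose coordinate is not a unit at `x`
  let P : Submodule Γ(X, W) Γ(M, W) :=
    { carrier := {m | ∀ a : Γ(X, W), a • res M hWV e = m →
        X.presheaf.germ W x hxW a ∈ IsLocalRing.maximalIdeal (X.presheaf.stalk x)}
      add_mem' := by
        intro m₁ m₂ h₁ h₂ a ha
        obtain ⟨a₁, ha₁⟩ := hgW.self.exists_coord m₁
        obtain ⟨a₂, ha₂⟩ := hgW.self.exists_coord m₂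
        have : a = a₁ + a₂ := hgW.self.smul_inj (by rw [ha, add_smul, ha₁, ha₂])
        rw [this, map_add]
        exact Ideal.add_mem _ (h₁ a₁ ha₁) (h₂ a₂ ha₂)
      zero_mem' := by
        intro a ha
        rw [hgW.self.eq_zero ha, map_zero]
        exact Ideal.zero_mem _
      smul_mem' := by
        intro r m hm a ha
        obtain ⟨a₁, ha₁⟩ := hgW.self.exists_coord m
        have : a = r * a₁ := hgW.self.smul_inj (by rw [ha, mul_smul, ha₁])
        rw [this, map_mul]
        exact Ideal.mul_mem_left _ _ (hm a₁ ha₁) }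
  by_contra hcon
  push Not at hcon
  have hle : Submodule.span Γ(X, W) (Set.range (fun i => res M (le_top : W ≤ ⊤) (σ i))) ≤ P := by
    rw [Submodule.span_le]
    rintro _ ⟨i, rfl⟩
    intro a ha
    rw [IsLocalRing.mem_maximalIdeal, mem_nonunits_iff]
    intro hu
    apply hcon i
    have h1 : CohB1.genLocus M (globalHom M (σ i)) ⊓ W = X.basicOpen a := by
      apply genLocus_inf_eq_basicOpen _ hgW a
      rw [sec_globalHom, ha]
    have h2 : x ∈ X.basicOpen a := (Scheme.mem_basicOpen _ _ _ hxW).mpr hu
    rw [← h1] at h2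
    exact h2.1
  have h1 : res M hWV e ∈ P := hle hspan
  have h2 := h1 1 (one_smul _ _)
  rw [map_one] at h2
  exact (IsLocalRing.mem_maximalIdeal _).mp h2 isUnit_one

/-- a globally generated invertible module has no base points -/
theorem exists_mem_genLocus_of_isGloballyGenerated {M : X.Modules} (hM : PicF.IsInvertible M)
    (h : Curv2.IsGloballyGenerated M) (x : X) :
    ∃ s : Coh.structureModule X ⟶ M, x ∈ CohB1.genLocus M s := by
  obtain ⟨I, σ, hσ⟩ := exists_isLocSpannedBy_of_isGloballyGenerated h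
  obtain ⟨i, hi⟩ := hσ.exists_mem_genLocus hM x
  exact ⟨_, hi⟩

end S5

section S6

variable {X : Scheme.{u}}

/-- morphisms out of a free module are determined by the images of the basis sections over `⊤` -/
theorem free_hom_ext {I : Type u} {C : X.Modules} {q q' : freeMod X I ⟶ C}
    (h : ∀ i, q.app ⊤ (fs I i ⊤) = q'.app ⊤ (fs I i ⊤)) : q = q' := by
  apply (SheafOfModules.freeHomEquiv _).injective
  funext i
  apply Subtype.ext
  funext U
  change q.app U.unop (fs I i U.unop) = q'.app U.unop (fs I i U.unop)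
  rw [← res_fs I i (le_top : U.unop ≤ ⊤), QCExact.app_res', QCExact.app_res', h i]

theorem freeHom_fs (F : X.Modules) {I : Type u} (σ : I → Γ(F, ⊤)) (i : I) :
    (freeHom F σ).app ⊤ (fs I i ⊤) = σ i := by
  have := freeHom_app_freeSection F σ i ⊤
  rw [res_self] at this
  exact this

theorem secOfHom_freeHom (F : X.Modules) {I : Type u} (σ : I → Γ(F, ⊤)) :
    secOfHom (freeHom F σ) = σ := funext (freeHom_fs F σ)

theorem freeHom_secOfHom {F : X.Modules} {I : Type u} (p : freeMod X I ⟶ F) :
    freeHom F (secOfHom p) = p :=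
  free_hom_ext (fun i => freeHom_fs F _ i)

/-- an extension of globally generated modules, surjective on global sections, is globally
generated -/
theorem isGloballyGenerated_of_shortExact (S : ShortComplex X.Modules) (hS : S.ShortExact)
    (hsurj : Function.Surjective (S.g.app ⊤))
    (h1 : Curv2.IsGloballyGenerated S.X₁) (h3 : Curv2.IsGloballyGenerated S.X₃) :
    Curv2.IsGloballyGenerated S.X₂ := by
  obtain ⟨I₁, p₁, hp₁⟩ := h1
  obtain ⟨I₃, p₃, hp₃⟩ := h3
  haveI := hS.epi_g
  choose τ hτ using fun i => hsurj (secOfHom p₃ i)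
  let σ : I₁ ⊕ I₃ → Γ(S.X₂, ⊤) := Sum.elim (fun i => S.f.app ⊤ (secOfHom p₁ i)) τ
  refine ⟨I₁ ⊕ I₃, freeHom S.X₂ σ, ?_⟩
  apply Abelian.epi_of_cokernel_π_eq_zero
  have hpπ : freeHom S.X₂ σ ≫ cokernel.π (freeHom S.X₂ σ) = 0 := cokernel.condition _
  have hσ : ∀ j, (cokernel.π (freeHom S.X₂ σ)).app ⊤ (σ j) = 0 := by
    intro j
    have := congrArg (fun q => Scheme.Modules.Hom.app q ⊤ (fs (I₁ ⊕ I₃) j ⊤)) hpπ
    change (cokernel.π (freeHom S.X₂ σ)).app ⊤ ((freeHom S.X₂ σ).app ⊤ (fs (I₁ ⊕ I₃) j ⊤)) = 0
      at this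
    rwa [freeHom_fs] at this
  have h1 : S.f ≫ cokernel.π (freeHom S.X₂ σ) = 0 := by
    have h0 : (show freeMod X I₁ ⟶ S.X₁ from p₁) ≫ (S.f ≫ cokernel.π (freeHom S.X₂ σ)) =
        (show freeMod X I₁ ⟶ S.X₁ from p₁) ≫ 0 := by
      apply free_hom_ext
      intro i
      exact (hσ (Sum.inl i)).trans (by rfl)
    exact (@cancel_epi _ _ _ _ _ p₁ hp₁ _ _).mp h0
  have h2 : hS.exact.desc _ h1 = 0 := by
    have h0 : (show freeMod X I₃ ⟶ S.X₃ from p₃) ≫ hS.exact.desc _ h1 =
        (show freeMod X I₃ ⟶ S.X₃ from p₃) ≫ 0 := by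
      apply free_hom_ext
      intro i
      have h3 : (S.g ≫ hS.exact.desc _ h1).app ⊤ (τ i) = 0 := by
        rw [hS.exact.g_desc]; exact hσ (Sum.inr i)
      change (hS.exact.desc _ h1).app ⊤ (secOfHom p₃ i) = _
      rw [← hτ i]
      exact h3.trans (by rfl)
    exact (@cancel_epi _ _ _ _ _ p₃ hp₃ _ _).mp h0
  calc cokernel.π (freeHom S.X₂ σ) = S.g ≫ hS.exact.desc _ h1 := (hS.exact.g_desc _ h1).symm
    _ = S.g ≫ 0 := congrArg (S.g ≫ ·) h2
    _ = 0 := comp_zero

end S6

end Groth.Agent.Lib.Helper3.FreeSec
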