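import Groth.Agent.Lib.Helper3.PbAmple
import Groth.Agent.Lib.Helper3.QCPush
import Groth.Agent.Lib.Helper3.FreeSec

/-!
# Miscellaneous lemmas on (relatively) ample modules
-/

set_option autoImplicit false
universe u
open CategoryTheory CategoryTheory.Limits AlgebraicGeometry TopologicalSpace Opposite
open Scheme.Modules TensorProduct MonoidalCategory

namespace Groth.Agent.Lib.Helper3.AmpleMisc

open QCSec InvGen InvTensor InvMonoidal InvRestrict InvAmple PbBasic PbTensor RelAmpleLib GlobGen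
  FreeSec InvCoh

variable {X Y : Scheme.{u}}

theorem quasiSeparated_of_isRelAmple (f : X ⟶ Y) {L : X.Modules}
    (hL : RelAmple.IsRelAmple f L) : QuasiSeparated f := by
  rw [HasAffineProperty.eq_targetAffineLocally (P := @QuasiSeparated)]
  intro V
  haveI := isSeparated_of_isAmple (hL.2 V)
  exact inferInstanceAs (QuasiSeparatedSpace ↥(f ⁻¹ᵁ V.1 : X.Opens).toScheme)

theorem isSeparated_of_isRelAmple (f : X ⟶ Y) {L : X.Modules}
    (hL : RelAmple.IsRelAmple f L) : IsSeparated f := by
  rw [HasAffineProperty.eq_targetAffineLocally (P := @IsSeparated)]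
  intro V
  exact isSeparated_of_isAmple (hL.2 V)

theorem isInvertible_of_isRelAmple (f : X ⟶ Y) {L : X.Modules}
    (hL : RelAmple.IsRelAmple f L) : PicF.IsInvertible L := by
  apply isInvertible_of_isGen
  intro x
  obtain ⟨V, hV, hxV⟩ := QCProps.exists_affine_nbhd (f x)
  have hA := hL.2 ⟨V, hV⟩
  obtain ⟨V', e', hxV', hg'⟩ := exists_isGen hA.1 (⟨x, hxV⟩ : ↥(f ⁻¹ᵁ V))
  exact ⟨(f ⁻¹ᵁ V).ι ''ᵁ V', e', ⟨⟨x, hxV⟩, hxV', rfl⟩,
    (isGen_restrict_iff _ L V' e').mp hg'⟩

theorem isRelAmple_of_iso (f : X ⟶ Y) {L M : X.Modules} (e : L ≅ M)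
    (hL : RelAmple.IsRelAmple f L) : RelAmple.IsRelAmple f M :=
  ⟨hL.1, fun V => isAmple_of_iso ((Scheme.Modules.restrictFunctor _).mapIso e) (hL.2 V)⟩

theorem isGloballyGenerated_of_isAffine {Z : Scheme.{u}} [IsAffine Z] (F : Z.Modules)
    [F.IsQuasicoherent] : Curv2.IsGloballyGenerated F := by
  apply isGloballyGenerated_of_span F (fun s : Γ(F, ⊤) => s)
  intro x
  refine ⟨⊤, isAffineOpen_top Z, trivial, ?_⟩
  rw [eq_top_iff]
  intro s _
  apply Submodule.subset_span
  exact ⟨s, res_self F _ s⟩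

set_option backward.isDefEq.respectTransparency.types false in
theorem isGloballyGenerated_pullback (q : X ⟶ Y) {N : Y.Modules}
    (h : Curv2.IsGloballyGenerated N) :
    Curv2.IsGloballyGenerated ((Scheme.Modules.pullback q).obj N) := by
  obtain ⟨I, p, hp⟩ := h
  haveI := Functor.preservesEpimorphisms_of_adjunction
    (Scheme.Modules.pullbackPushforwardAdjunction q)
  have h1 : Epi ((Scheme.Modules.pullback q).map p) :=
    @Functor.map_epi _ _ _ _ (Scheme.Modules.pullback q) _ _ _ p hp
  exact ⟨I, (SheafOfModules.pullbackObjFreeIso q.toRingCatSheafHom I).inv ≫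
    (Scheme.Modules.pullback q).map p, @epi_comp _ _ _ _ _ _ inferInstance _ h1⟩

/-- on an affine scheme every invertible module is ample -/
theorem isAmple_of_isAffine {Z : Scheme.{u}} [IsAffine Z] {L : Z.Modules}
    (hL : PicF.IsInvertible L) : CohB1.IsAmple L := by
  haveI : Z.IsQuasiAffine := inferInstance
  have hO : CohB1.IsAmple (Coh.structureModule Z) := isQuasiAffine_iff_isAmple_unit.mp inferInstance
  haveI := isQuasicoherent_of_isInvertible hL
  have hgg := isGloballyGenerated_of_isAffine L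
  have h1 := isAmple_tensorMod_of_bpf hO hL (fun x => by
    obtain ⟨s, hs⟩ := exists_mem_genLocus_of_isGloballyGenerated hL hgg x
    refine ⟨0, s ≫ (powOne L).hom, ?_⟩
    rw [genLocus_comp_iso]
    exact hs)
  exact isAmple_of_iso (unitorL L) h1

end Groth.Agent.Lib.Helper3.AmpleMisc
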