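import Groth.Agent.Lib.Helper3.InvTensor

/-!
# Twisting sections of a quasi-coherent module by powers of a section of an invertible module
(EGA I 9.3.1 for invertible modules)
-/

set_option autoImplicit false
universe u
open CategoryTheory CategoryTheory.Limits AlgebraicGeometry TopologicalSpace Opposite
open Scheme.Modules TensorProduct

namespace Groth.Agent.Lib.Helper3.InvTwist

open QCSec InvGen InvTensor

variable {X : Scheme.{u}}

theorem exists_finite_gen_cover {L : X.Modules} (hL : PicF.IsInvertible L) (V : X.Opens)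
    (hV : IsCompact (V : Set X)) :
    ∃ (ι : Type u) (_ : Finite ι) (U : ι → X.Opens) (e : ∀ i, Γ(L, U i)),
      (∀ i, IsAffineOpen (U i)) ∧ (∀ i, U i ≤ V) ∧ V ≤ ⨆ i, U i ∧ ∀ i, IsGen L (U i) (e i) := by
  let J := {p : Σ U : X.Opens, Γ(L, U) // IsAffineOpen p.1 ∧ p.1 ≤ V ∧ IsGen L p.1 p.2}
  have hcov : (V : Set X) ⊆ ⋃ j : J, (j.1.1 : Set X) := by
    intro x hx
    obtain ⟨U, e, hU, hxU, hUV, hg⟩ := exists_affine_isGen_le hL x V hx
    exact Set.mem_iUnion.mpr ⟨⟨⟨U, e⟩, hU, hUV, hg⟩, hxU⟩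
  obtain ⟨t, ht⟩ := hV.elim_finite_subcover (fun j : J => (j.1.1 : Set X)) (fun j => j.1.1.2) hcov
  refine ⟨t, inferInstance, fun i => i.1.1.1, fun i => i.1.1.2, fun i => i.1.2.1,
    fun i => i.1.2.2.1, ?_, fun i => i.1.2.2.2⟩
  intro x hx
  obtain ⟨j, hj, hxj⟩ := Set.mem_iUnion₂.mp (ht hx)
  exact Opens.mem_iSup.mpr ⟨⟨j, hj⟩, hxj⟩

/-- A section of a quasi-coherent module over a quasi-compact open `V` vanishing on `V ∩ X_s` is
killed by `s^{⊗ n}` for all large `n`. -/
theorem exists_tm_lpow_eq_zero {L : X.Modules} (hL : PicF.IsInvertible L)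
    (s : Coh.structureModule X ⟶ L) (F : X.Modules) [F.IsQuasicoherent] (V : X.Opens)
    (hV : IsCompact (V : Set X)) (W : X.Opens) (hWV : W ≤ V)
    (hW : V ⊓ CohB1.genLocus L s ≤ W) (t : Γ(F, V)) (ht : res F hWV t = 0) :
    ∃ n₀ : ℕ, ∀ n, n₀ ≤ n → tm F (CohB1.tensorPow L n) V t (lpow L (sec s V) n) = 0 := by
  obtain ⟨ι, hι, U, e, hUa, hUV, hcov, hg⟩ := exists_finite_gen_cover hL V hV
  have := Fintype.ofFinite ι
  have hf : ∀ i, ∃ f : Γ(X, U i), sec s (U i) = f • e i := fun i => by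
    obtain ⟨f, hf⟩ := (hg i).self.exists_coord (sec s (U i))
    exact ⟨f, hf.symm⟩
  choose f hf using hf
  have hD : ∀ i, CohB1.genLocus L s ⊓ U i = X.basicOpen (f i) := fun i =>
    genLocus_inf_eq_basicOpen s (hg i) (f i) (hf i)
  have hDW : ∀ i, X.basicOpen (f i) ≤ W := fun i => by
    rw [← hD i]; exact (le_inf (inf_le_right.trans (hUV i)) inf_le_left).trans hW
  have key : ∀ i, ∃ n : ℕ, (f i) ^ n • res F (hUV i) t = 0 := by
    intro i
    apply (isLocSec_of_isQuasicoherent F (hUa i) (f i) (X.basicOpen (f i)) rfl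
      (X.basicOpen_le _)).inj
    rw [res_res]
    have : res F ((X.basicOpen_le (f i)).trans (hUV i)) t = res F (hDW i) (res F hWV t) :=
      (res_res F _ _ t).symm
    rw [this, ht, res_zero]
  choose n hn using key
  refine ⟨Finset.univ.sup n, fun N hN => ?_⟩
  apply sec_eq_of_locally_eq _ U V hUV hcov
  intro i
  have hle : n i ≤ N := (Finset.le_sup (Finset.mem_univ i)).trans hN
  rw [res_zero, tm_res, lpow_res, res_sec, hf i, lpow_smul, tm_smul_right, ← tm_smul_left,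
    ← Nat.sub_add_cancel hle, pow_add, mul_smul, hn i, smul_zero, tm_zero_left]


/-- A section of a quasi-coherent module over `V ∩ X_s`, `V` quasi-compact and quasi-separated,
extends to `V` after twisting by `s^{⊗ n}` for all large `n`. -/
theorem exists_tm_lpow_extension {L : X.Modules} (hL : PicF.IsInvertible L)
    (s : Coh.structureModule X ⟶ L) (F : X.Modules) [F.IsQuasicoherent] (V : X.Opens)
    (hV : IsCompact (V : Set X))
    (hqs : ∀ U U' : X.Opens, IsAffineOpen U → IsAffineOpen U' → U ≤ V → U' ≤ V →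
      IsCompact ((U ⊓ U' : X.Opens) : Set X))
    (W : X.Opens) (hWV : W ≤ V) (hWs : W ≤ CohB1.genLocus L s)
    (hW : V ⊓ CohB1.genLocus L s ≤ W) (t : Γ(F, W)) :
    ∃ n₀ : ℕ, ∀ n, n₀ ≤ n → ∃ t' : Γ(CohB1.tensorMod F (CohB1.tensorPow L n), V),
      res _ hWV t' = tm F (CohB1.tensorPow L n) W t (lpow L (sec s W) n) := by
  obtain ⟨ι, hι, U, e, hUa, hUV, hcov, hg⟩ := exists_finite_gen_cover hL V hV
  have := Fintype.ofFinite ι
  have hf : ∀ i, ∃ f : Γ(X, U i), sec s (U i) = f • e i := fun i => by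
    obtain ⟨f, hf⟩ := (hg i).self.exists_coord (sec s (U i))
    exact ⟨f, hf.symm⟩
  choose f hf using hf
  have hD : ∀ i, CohB1.genLocus L s ⊓ U i = X.basicOpen (f i) := fun i =>
    genLocus_inf_eq_basicOpen s (hg i) (f i) (hf i)
  have hDW : ∀ i, X.basicOpen (f i) ≤ W := fun i => by
    rw [← hD i]; exact (le_inf (inf_le_right.trans (hUV i)) inf_le_left).trans hW
  have hDU : ∀ i, X.basicOpen (f i) ≤ U i := fun i => X.basicOpen_le _
  -- step 1: local extensions
  have key1 : ∀ i, ∃ (n : ℕ) (t₀ : Γ(F, U i)),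
      res F (hDU i) t₀ = (rres X (hDU i) (f i)) ^ n • res F (hDW i) t := fun i =>
    (isLocSec_of_isQuasicoherent F (hUa i) (f i) _ rfl (hDU i)).surj (res F (hDW i) t)
  choose n t₀ ht₀ using key1
  let N₁ := Finset.univ.sup n
  have hN₁ : ∀ i, n i ≤ N₁ := fun i => Finset.le_sup (Finset.mem_univ i)
  obtain ⟨t₁, ht₁d⟩ : ∃ t₁ : ∀ i, Γ(F, U i), ∀ i, t₁ i = (f i) ^ (N₁ - n i) • t₀ i :=
    ⟨_, fun _ => rfl⟩
  have ht₁ : ∀ i, res F (hDU i) (t₁ i) = (rres X (hDU i) (f i)) ^ N₁ • res F (hDW i) t := by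
    intro i
    rw [ht₁d i, res_pow_smul, ht₀ i, ← mul_smul, ← pow_add, Nat.sub_add_cancel (hN₁ i)]
  -- step 2: transition units
  have key2 : ∀ i j, ∃ u : Γ(X, U i ⊓ U j),
      res L (inf_le_right : U i ⊓ U j ≤ U j) (e j) =
        u • res L (inf_le_left : U i ⊓ U j ≤ U i) (e i) ∧
      rres X (inf_le_left : U i ⊓ U j ≤ U i) (f i) =
        u * rres X (inf_le_right : U i ⊓ U j ≤ U j) (f j) := by
    intro i j
    have h1 : IsGenAt L (U i ⊓ U j) (res L inf_le_left (e i)) := hg i _ inf_le_left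
    have h2 : IsGenAt L (U i ⊓ U j) (res L inf_le_right (e j)) := hg j _ inf_le_right
    obtain ⟨u, -, hu⟩ := h1.exists_unit h2
    refine ⟨u, hu, ?_⟩
    apply h1.smul_inj
    have e1 : sec s (U i ⊓ U j) = rres X (inf_le_left : U i ⊓ U j ≤ U i) (f i) •
        res L (inf_le_left : U i ⊓ U j ≤ U i) (e i) := by
      rw [← res_sec s (inf_le_left : U i ⊓ U j ≤ U i), hf i, res_smul]
    have e2 : sec s (U i ⊓ U j) = rres X (inf_le_right : U i ⊓ U j ≤ U j) (f j) •
        res L (inf_le_right : U i ⊓ U j ≤ U j) (e j) := by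
      rw [← res_sec s (inf_le_right : U i ⊓ U j ≤ U j), hf j, res_smul]
    rw [← e1, e2, hu, ← mul_smul, mul_comm]
  choose u hu hfu using key2
  -- step 3: the local extensions agree after multiplying by a power of `f i`
  have key3 : ∀ i j, ∃ m : ℕ, (rres X (inf_le_left : U i ⊓ U j ≤ U i) (f i)) ^ m •
      (res F (inf_le_left : U i ⊓ U j ≤ U i) (t₁ i) -
        (u i j) ^ N₁ • res F (inf_le_right : U i ⊓ U j ≤ U j) (t₁ j)) = 0 := by
    intro i j
    set g := rres X (inf_le_left : U i ⊓ U j ≤ U i) (f i) with hgdef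
    have hD' : X.basicOpen g = (U i ⊓ U j) ⊓ X.basicOpen (f i) :=
      Scheme.basicOpen_res X (f i) (homOfLE (inf_le_left : U i ⊓ U j ≤ U i)).op
    have hD'i : X.basicOpen g ≤ X.basicOpen (f i) := by rw [hD']; exact inf_le_right
    have hD'ij : X.basicOpen g ≤ U i ⊓ U j := X.basicOpen_le g
    have hD'j : X.basicOpen g ≤ X.basicOpen (f j) := by
      rw [← hD j]
      refine le_inf ?_ (hD'ij.trans inf_le_right)
      have : X.basicOpen (f i) ≤ CohB1.genLocus L s := by rw [← hD i]; exact inf_le_left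
      exact hD'i.trans this
    apply inj_of_isCompact F (hqs _ _ (hUa i) (hUa j) (hUV i) (hUV j)) g rfl hD'ij
    have ei : res F (hD'ij.trans inf_le_left) (t₁ i) =
        (rres X (hD'ij.trans inf_le_left) (f i)) ^ N₁ • res F (hD'i.trans (hDW i)) t := by
      have : res F (hD'ij.trans inf_le_left) (t₁ i) = res F hD'i (res F (hDU i) (t₁ i)) :=
        (res_res F _ _ _).symm
      rw [this, ht₁ i, res_pow_smul, rres_rres, res_res]
    have ej : res F (hD'ij.trans inf_le_right) (t₁ j) =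
        (rres X (hD'ij.trans inf_le_right) (f j)) ^ N₁ • res F (hD'i.trans (hDW i)) t := by
      have : res F (hD'ij.trans inf_le_right) (t₁ j) = res F hD'j (res F (hDU j) (t₁ j)) :=
        (res_res F _ _ _).symm
      rw [this, ht₁ j, res_pow_smul, rres_rres, res_res]
    have efu : rres X (hD'ij.trans inf_le_left) (f i) =
        rres X hD'ij (u i j) * rres X (hD'ij.trans inf_le_right) (f j) := by
      have := congrArg (rres X hD'ij) (hfu i j)
      rwa [rres_rres, rres_mul, rres_rres] at this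
    rw [res_sub, res_pow_smul, res_res, res_res, ei, ej, efu, ← mul_smul, ← mul_pow, sub_self]
  choose m hm using key3
  let M₀ := Finset.univ.sup (fun p : ι × ι => m p.1 p.2)
  have hM₀ : ∀ i j, m i j ≤ M₀ := fun i j =>
    Finset.le_sup (f := fun p : ι × ι => m p.1 p.2) (Finset.mem_univ (i, j))
  refine ⟨N₁ + M₀, fun N hN => ?_⟩
  obtain ⟨k, rfl⟩ : ∃ k, N = N₁ + k := ⟨N - N₁, by omega⟩
  have hk0 : M₀ ≤ k := by omega
  obtain ⟨b, hbd⟩ : ∃ b : ∀ i, Γ(CohB1.tensorMod F (CohB1.tensorPow L (N₁ + k)), U i),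
      ∀ i, b i = tm F (CohB1.tensorPow L (N₁ + k)) (U i) ((f i) ^ k • t₁ i)
        (lpow L (e i) (N₁ + k)) :=
    ⟨_, fun _ => rfl⟩
  have hcompat : ∀ i j, res _ (inf_le_left : U i ⊓ U j ≤ U i) (b i) =
      res _ (inf_le_right : U i ⊓ U j ≤ U j) (b j) := by
    intro i j
    rw [hbd i, hbd j, tm_res, tm_res, lpow_res, lpow_res, hu i j, lpow_smul, tm_smul_right,
      ← tm_smul_left]
    congr 1
    rw [res_pow_smul, res_pow_smul, ← sub_eq_zero]
    have hk : m i j ≤ k := (hM₀ i j).trans hk0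
    have e1 : (u i j) ^ (N₁ + k) • (rres X (inf_le_right : U i ⊓ U j ≤ U j) (f j)) ^ k •
        res F (inf_le_right : U i ⊓ U j ≤ U j) (t₁ j) =
        (rres X (inf_le_left : U i ⊓ U j ≤ U i) (f i)) ^ k •
          ((u i j) ^ N₁ • res F (inf_le_right : U i ⊓ U j ≤ U j) (t₁ j)) := by
      rw [← mul_smul, ← mul_smul]
      congr 1
      rw [pow_add, mul_assoc, ← mul_pow, ← hfu i j, mul_comm]
    rw [e1, ← smul_sub, ← Nat.sub_add_cancel hk, pow_add, mul_smul, hm i j, smul_zero]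
  obtain ⟨t', ht'⟩ := sec_glue _ U V hUV hcov b hcompat
  refine ⟨t', ?_⟩
  have hcovW : W ≤ ⨆ i, X.basicOpen (f i) := by
    intro x hx
    obtain ⟨i, hi⟩ := Opens.mem_iSup.mp (hcov (hWV hx))
    have : x ∈ CohB1.genLocus L s ⊓ U i := ⟨hWs hx, hi⟩
    rw [hD i] at this
    exact Opens.mem_iSup.mpr ⟨i, this⟩
  apply sec_eq_of_locally_eq _ (fun i => X.basicOpen (f i)) W hDW hcovW
  intro i
  have e1 : res _ (hDW i) (res _ hWV t') = res _ (hDU i) (res _ (hUV i) t') := by
    rw [res_res, res_res]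
  have e2 : sec s (X.basicOpen (f i)) = rres X (hDU i) (f i) • res L (hDU i) (e i) := by
    rw [← res_sec s (hDU i), hf i, res_smul]
  rw [e1, ht' i, hbd i, tm_res, lpow_res, res_pow_smul, ht₁ i, ← mul_smul, ← pow_add,
    Nat.add_comm k N₁, tm_res, lpow_res, res_sec, e2, lpow_smul, tm_smul_right,
    ← tm_smul_left]

end Groth.Agent.Lib.Helper3.InvTwist
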