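import Groth.Agent.Lib.Helper3.InvRestrict
import Groth.Agent.Lib.Helper3.InvTwist
import Groth.Agent.Lib.Helper3.InvCoh
import Groth.Agent.Lib.Helper3.AmpleMisc

set_option autoImplicit false
universe u
open CategoryTheory CategoryTheory.Limits AlgebraicGeometry TopologicalSpace Opposite
open Scheme.Modules TensorProduct MonoidalCategory

namespace Groth.Agent.Lib.Helper3.TwistAmple

open QCSec InvGen InvTensor InvMonoidal InvAmple InvRestrict InvTwist InvCoh PbBasic PbTensor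
  RelAmpleLib AmpleMisc

variable {X : Scheme.{u}}

/-- if `m ⊗ e` generates `L ⊗ L'` and `e` generates `L'` then `m` generates `L` -/
theorem isGen_of_isGen_tm {L L' : X.Modules} (hL : PicF.IsInvertible L) {U : X.Opens}
    {m : Γ(L, U)} {e : Γ(L', U)} (he : IsGen L' U e)
    (hme : IsGen (CohB1.tensorMod L L') U (tm L L' U m e)) : IsGen L U m := by
  apply isGen_of_local
  intro x hx
  obtain ⟨V, ℓ, -, hxV, hVU, hℓ⟩ := exists_affine_isGen_le hL x U hx
  refine ⟨V, hVU, hxV, ?_⟩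
  obtain ⟨c, hc⟩ := hℓ.self.exists_coord (res L hVU m)
  have h1 : IsGen (CohB1.tensorMod L L') V (tm L L' V ℓ (res L' hVU e)) :=
    isGen_tm hℓ (he.mono hVU)
  have h2 : IsGen (CohB1.tensorMod L L') V (tm L L' V (res L hVU m) (res L' hVU e)) := by
    have := hme.mono hVU
    rwa [tm_res] at this
  obtain ⟨u, hu, hue⟩ := h1.self.exists_unit h2.self
  have h3 : c • tm L L' V ℓ (res L' hVU e) = u • tm L L' V ℓ (res L' hVU e) := by
    rw [← hue, ← hc, tm_smul_left]
  have hcu : c = u := h1.self.smul_inj h3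
  rw [← hc, hcu]
  exact hℓ.smul_unit hu

/-- the section over `U` of a morphism `O_U ⟶ K|_U` -/
noncomputable def secU {K : X.Modules} {U : X.Opens}
    (t : Coh.structureModule (U : Scheme.{u}) ⟶ K.restrict U.ι) : Γ(K, U) :=
  res K (le_of_eq U.ι_image_top.symm) (show Γ(K, U.ι ''ᵁ ⊤) from sec t ⊤)

theorem sec_eq_res_secU {K : X.Modules} {U : X.Opens}
    (t : Coh.structureModule (U : Scheme.{u}) ⟶ K.restrict U.ι) (V' : (U : Scheme.{u}).Opens) :
    (show Γ(K, U.ι ''ᵁ V') from sec t V') = res K (U.ι_image_le V') (secU t) := by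
  unfold secU
  rw [res_res, ← res_sec t (le_top : V' ≤ ⊤), res_restrict]

theorem le_image_genLocus_iff {K : X.Modules} {U : X.Opens}
    (t : Coh.structureModule (U : Scheme.{u}) ⟶ K.restrict U.ι) {V : X.Opens} (hV : V ≤ U) :
    V ≤ U.ι ''ᵁ CohB1.genLocus _ t ↔ IsGen K V (res K hV (secU t)) := by
  have hV₀ : U.ι ''ᵁ (U.ι ⁻¹ᵁ V) = V := ι_image_preimage_of_le hV
  have key : U.ι ⁻¹ᵁ V ≤ CohB1.genLocus _ t ↔
      IsGen K (U.ι ''ᵁ (U.ι ⁻¹ᵁ V)) (res K (U.ι_image_le _) (secU t)) := by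
    rw [le_genLocus_iff, isGen_restrict_iff, sec_eq_res_secU]
  constructor
  · intro h
    have h1 : U.ι ⁻¹ᵁ V ≤ CohB1.genLocus _ t := by
      intro y hy
      obtain ⟨y', hy', hyy'⟩ := h hy
      have : y' = y := U.ι.isOpenEmbedding.injective hyy'
      rwa [← this]
    have h2 := (key.mp h1).mono (le_of_eq hV₀.symm)
    rwa [res_res] at h2
  · intro h
    have h1 := h.mono (le_of_eq hV₀)
    rw [res_res] at h1
    have h2 := key.mpr h1
    intro y hy
    exact ⟨⟨y, hV hy⟩, h2 hy, rfl⟩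

/-- **Twisting a section of `L^a` over `X_g`**: if `L` is ample on `X_g`, `g` a section of `N`, then
every point of `X_g` has an affine neighbourhood `W ⊆ X_g` which, for some `a > 0` and all large
`b`, is of the form `X_σ` with `σ` a global section of `L^a ⊗ N^b`. -/
theorem exists_section_twist_locus [CompactSpace X] [QuasiSeparatedSpace X] {L N : X.Modules}
    (hL : PicF.IsInvertible L) (hN : PicF.IsInvertible N) (g : Coh.structureModule X ⟶ N)
    (hA : CohB1.IsAmple (L.restrict (CohB1.genLocus N g).ι)) (x : X)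
    (hx : x ∈ CohB1.genLocus N g) :
    ∃ W : X.Opens, x ∈ W ∧ IsAffineOpen W ∧ W ≤ CohB1.genLocus N g ∧ ∃ a : ℕ, 0 < a ∧
      ∃ b₀ : ℕ, ∀ b, b₀ ≤ b →
        ∃ σ : Coh.structureModule X ⟶ CohB1.tensorMod (CohB1.tensorPow L a) (CohB1.tensorPow N b),
          CohB1.genLocus _ σ = W := by
  obtain ⟨n, t, hxt, hta⟩ := hA.2.2 ⟨x, hx⟩
  obtain ⟨U, hU⟩ : ∃ U : X.Opens, U = CohB1.genLocus N g := ⟨_, rfl⟩
  subst hU
  obtain ⟨a, ha⟩ : ∃ a : ℕ, a = n + 1 := ⟨_, rfl⟩
  subst ha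
  let t₁ : Coh.structureModule ((CohB1.genLocus N g : X.Opens) : Scheme.{u}) ⟶
      (CohB1.tensorPow L (n + 1)).restrict (CohB1.genLocus N g).ι :=
    t ≫ (restrictPowIso (CohB1.genLocus N g).ι L (n + 1)).hom
  have ht₁ : CohB1.genLocus _ t₁ = CohB1.genLocus _ t := genLocus_comp_iso t _
  obtain ⟨W, hWdef⟩ : ∃ W : X.Opens, W = (CohB1.genLocus N g).ι ''ᵁ CohB1.genLocus _ t₁ :=
    ⟨_, rfl⟩
  have hWU : W ≤ CohB1.genLocus N g := by rw [hWdef]; exact Scheme.Opens.ι_image_le _ _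
  have hWa : IsAffineOpen W := by
    rw [hWdef, ht₁]
    exact hta.image_of_isOpenImmersion _
  have hxW : x ∈ W := by
    rw [hWdef, ht₁]
    exact ⟨⟨x, hx⟩, hxt, rfl⟩
  have : (CohB1.tensorPow L (n + 1)).IsQuasicoherent :=
    isQuasicoherent_of_isInvertible (isInvertible_tensorPow hL (n + 1))
  obtain ⟨b₀, hb₀⟩ := exists_tm_lpow_extension hN g (CohB1.tensorPow L (n + 1)) ⊤
    (by simpa using isCompact_univ)
    (fun U U' hU hU' _ _ => QuasiSeparatedSpace.inter_isCompact U.1 U'.1 U.2 hU.isCompact U'.2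
      hU'.isCompact)
    (CohB1.genLocus N g) le_top le_rfl inf_le_right (secU t₁)
  have hgenW : IsGen (CohB1.tensorPow L (n + 1)) W (res _ hWU (secU t₁)) :=
    (le_image_genLocus_iff t₁ hWU).mp (le_of_eq hWdef)
  refine ⟨W, hxW, hWa, hWU, n + 1, Nat.succ_pos _, b₀ + 1, ?_⟩
  intro b hb
  obtain ⟨b', rfl⟩ : ∃ b', b = b' + 1 := ⟨b - 1, by omega⟩
  obtain ⟨t', ht'⟩ := hb₀ b' (by omega)
  have hσ₀ : sec (globalHom _ t') (CohB1.genLocus N g) =
      tm _ _ _ (secU t₁) (lpow N (sec g _) b') := by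
    rw [sec_globalHom]; exact ht'
  have hσ₀V : ∀ (V : X.Opens) (hV : V ≤ CohB1.genLocus N g), sec (globalHom _ t') V =
      tm _ _ V (res _ hV (secU t₁)) (lpow N (sec g V) b') := by
    intro V hV
    rw [← res_sec _ hV, hσ₀, tm_res, lpow_res, res_sec]
  have hM : PicF.IsInvertible (CohB1.tensorMod (CohB1.tensorPow L (n + 1)) (CohB1.tensorPow N b')) :=
    isInvertible_tensorMod (isInvertible_tensorPow hL _) (isInvertible_tensorPow hN _)
  refine ⟨SecTwist.tmulHom (globalHom _ t') g ≫ (assoc _ _ _).hom, ?_⟩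
  refine (genLocus_comp_iso (SecTwist.tmulHom (globalHom _ t') g) (assoc _ _ _).hom).trans ?_
  rw [genLocus_tmulHom hM hN]
  apply le_antisymm
  · rintro y ⟨hy1, hy2⟩
    obtain ⟨V, hyV, hV⟩ := (mem_genLocus_iff _ y).mp hy1
    have hV' : IsGen _ (V ⊓ CohB1.genLocus N g) (sec (globalHom _ t') (V ⊓ CohB1.genLocus N g)) := by
      have := hV.mono (inf_le_left : V ⊓ CohB1.genLocus N g ≤ V)
      rwa [res_sec] at this
    rw [hσ₀V _ inf_le_right] at hV'
    have h3 := isGen_of_isGen_tm (isInvertible_tensorPow hL (n + 1))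
      (isGen_lpow (isGen_sec_of_le g inf_le_right) b') hV'
    have h4 := (le_image_genLocus_iff t₁ inf_le_right).mpr h3
    rw [hWdef]
    exact h4 ⟨hyV, hy2⟩
  · refine le_inf ?_ hWU
    apply le_genLocus
    rw [hσ₀V W hWU]
    exact isGen_tm hgenW (isGen_lpow (isGen_sec_of_le g hWU) b')

/-- `(L^d)^a ⊗ (f^*(K^d))^{na} ≅ (L ⊗ f^*(K^n))^{da}` -/
noncomputable def twistPowIso {Y : Scheme.{u}} (f : X ⟶ Y) (L : X.Modules) (K : Y.Modules)
    (hK : PicF.IsInvertible K) (d a n : ℕ) :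
    CohB1.tensorMod (CohB1.tensorPow (CohB1.tensorPow L d) a)
        (CohB1.tensorPow ((Scheme.Modules.pullback f).obj (CohB1.tensorPow K d)) (n * a)) ≅
      CohB1.tensorPow (CohB1.tensorMod L ((Scheme.Modules.pullback f).obj (CohB1.tensorPow K n)))
        (d * a) :=
  tensorMapIso (powMul L d a)
    ((pbPowIso f (CohB1.tensorPow K d) (isInvertible_tensorPow hK d) (n * a)).symm ≪≫
      (Scheme.Modules.pullback f).mapIso (powMul K d (n * a) ≪≫
        powCast K (by ring : d * (n * a) = n * (d * a)) ≪≫ (powMul K n (d * a)).symm) ≪≫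
      pbPowIso f (CohB1.tensorPow K n) (isInvertible_tensorPow hK n) (d * a)) ≪≫
  (powTensor L _ (d * a)).symm

/-- EGA II 4.6.13 (ii), over an affine base: if `K` is ample on `Y` and `L` is `f`-ample, then
`L ⊗ f^*(K^n)` is ample for all large `n`. -/
theorem isAmple_tensor_pullback_pow {Y : Scheme.{u}} (f : X ⟶ Y) [QuasiCompact f]
    {L : X.Modules} {K : Y.Modules} (hK : CohB1.IsAmple K) (hL : RelAmple.IsRelAmple f L) :
    ∃ n₀ : ℕ, ∀ n, n₀ ≤ n → CohB1.IsAmple
      (CohB1.tensorMod L ((Scheme.Modules.pullback f).obj (CohB1.tensorPow K n))) := by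
  have hKi := hK.1
  have hLi := isInvertible_of_isRelAmple f hL
  have : CompactSpace Y := hK.2.1
  have := isSeparated_of_isAmple hK
  have : QuasiSeparated f := quasiSeparated_of_isRelAmple f hL
  have : CompactSpace X := QuasiCompact.compactSpace_of_compactSpace f
  have : QuasiSeparatedSpace X := quasiSeparatedSpace_of_quasiSeparated f
  have key : ∀ x : X, ∃ W : X.Opens, x ∈ W ∧ IsAffineOpen W ∧ ∃ n₀ : ℕ, ∀ n, n₀ ≤ n →
      W ∈ SecLocus (CohB1.tensorMod L ((Scheme.Modules.pullback f).obj (CohB1.tensorPow K n))) := by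
    intro x
    obtain ⟨WY, ⟨m, s, rfl⟩, hy, hWYa⟩ := exists_secLocus_of_isAmple hK (f x)
    have hNi : PicF.IsInvertible ((Scheme.Modules.pullback f).obj (CohB1.tensorPow K (m + 1))) :=
      isInvertible_pullback f (isInvertible_tensorPow hKi _)
    have hgl := genLocus_pullHom f (isInvertible_tensorPow hKi (m + 1)) s
    have hA0 : CohB1.IsAmple (L.restrict (f ⁻¹ᵁ CohB1.genLocus _ s).ι) := hL.2 ⟨_, hWYa⟩
    rw [← hgl] at hA0
    have : CompactSpace ↥(CohB1.genLocus _ (pullHom f s) : X.Opens).toScheme := hA0.2.1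
    have hA1 : CohB1.IsAmple ((CohB1.tensorPow L (m + 1)).restrict
        (CohB1.genLocus _ (pullHom f s)).ι) :=
      isAmple_of_iso (restrictPowIso _ L (m + 1)) ((isAmple_pow_iff hA0.1 (Nat.succ_pos m)).mp hA0)
    obtain ⟨W, hxW, hWa, -, a, ha, b₀, hb⟩ := exists_section_twist_locus
      (isInvertible_tensorPow hLi (m + 1)) hNi (pullHom f s) hA1 x (by rw [hgl]; exact hy)
    refine ⟨W, hxW, hWa, b₀, fun n hn => ?_⟩
    obtain ⟨σ, hσ⟩ := hb (n * a) (hn.trans (Nat.le_mul_of_pos_right n ha))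
    rw [← hσ, ← genLocus_comp_iso σ (twistPowIso f L K hKi (m + 1) a n).hom]
    exact secLocus_of_pos (Nat.mul_pos (Nat.succ_pos m) ha) _
  choose W hxW hWa n₀ hn₀ using key
  obtain ⟨t, ht⟩ := isCompact_univ.elim_finite_subcover (fun x => (W x : Set X))
    (fun x => (W x).2) (fun x _ => Set.mem_iUnion.mpr ⟨x, hxW x⟩)
  refine ⟨t.sup n₀, fun n hn => ?_⟩
  apply isAmple_of_secLocus (isInvertible_tensorMod hLi
    (isInvertible_pullback f (isInvertible_tensorPow hKi n)))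
  intro x
  obtain ⟨i, hi, hxi⟩ := Set.mem_iUnion₂.mp (ht (Set.mem_univ x))
  exact ⟨W i, hn₀ i n ((Finset.le_sup hi).trans hn), hxi, hWa i⟩

/-- relative ampleness restricts to the preimage of an open of the base -/
theorem isRelAmple_morphismRestrict {Y : Scheme.{u}} (f : X ⟶ Y) {L : X.Modules}
    (hL : RelAmple.IsRelAmple f L) (Y' : Y.Opens) :
    RelAmple.IsRelAmple (f ∣_ Y') (L.restrict (f ⁻¹ᵁ Y').ι) := by
  haveI := hL.1
  refine ⟨inferInstance, fun V' => ?_⟩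
  rw [isAmple_morphismRestrict_iff]
  exact hL.2 ⟨Y'.ι ''ᵁ V'.1, V'.2.image_of_isOpenImmersion Y'.ι⟩

/-- the restriction of `L ⊗ f^*(K^n)` to `f⁻¹(Y')` -/
noncomputable def restrictTwistIso {Y : Scheme.{u}} (f : X ⟶ Y) (L : X.Modules) (K : Y.Modules)
    (Y' : Y.Opens) (n : ℕ) :
    (CohB1.tensorMod L ((Scheme.Modules.pullback f).obj (CohB1.tensorPow K n))).restrict
        (f ⁻¹ᵁ Y').ι ≅
      CohB1.tensorMod (L.restrict (f ⁻¹ᵁ Y').ι)
        ((Scheme.Modules.pullback (f ∣_ Y')).obj (CohB1.tensorPow (K.restrict Y'.ι) n)) :=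
  (restrictTensorIso (f ⁻¹ᵁ Y').ι L _).symm ≪≫
    tensorMapIso (Iso.refl _) ((pbRestrict f Y').app (CohB1.tensorPow K n) ≪≫
      (Scheme.Modules.pullback (f ∣_ Y')).mapIso (restrictPowIso Y'.ι K n).symm)

/-- EGA II 4.6.13 (ii), local form on the base: if `K` is ample on the open `Y' ⊆ Y` and `L` is
`f`-ample, then `L ⊗ f^*(K^n)` is ample on `f⁻¹(Y')` for all large `n`. -/
theorem isAmple_restrict_tensor_pullback_pow {Y : Scheme.{u}} (f : X ⟶ Y) [QuasiCompact f]
    {L : X.Modules} {K : Y.Modules} (hL : RelAmple.IsRelAmple f L) (Y' : Y.Opens)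
    (hK : CohB1.IsAmple (K.restrict Y'.ι)) :
    ∃ n₀ : ℕ, ∀ n, n₀ ≤ n → CohB1.IsAmple
      ((CohB1.tensorMod L ((Scheme.Modules.pullback f).obj (CohB1.tensorPow K n))).restrict
        (f ⁻¹ᵁ Y').ι) := by
  obtain ⟨n₀, h⟩ := isAmple_tensor_pullback_pow (f ∣_ Y') hK (isRelAmple_morphismRestrict f hL Y')
  exact ⟨n₀, fun n hn => isAmple_of_iso (restrictTwistIso f L K Y' n).symm (h n hn)⟩

end Groth.Agent.Lib.Helper3.TwistAmple
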