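import Groth.Agent.Lib.Helper3.InvSum
import Groth.Prelude.Def_Curv2

/-!
# Globally generated modules
-/

set_option autoImplicit false
universe u
open CategoryTheory CategoryTheory.Limits AlgebraicGeometry TopologicalSpace Opposite
open Scheme.Modules TensorProduct

namespace Groth.Agent.Lib.Helper3.GlobGen

open QCSec InvGen InvTensor InvTwist InvMonoidal InvCoh InvAmple InvSum QCExtend

variable {X : Scheme.{u}}

/-- the morphism from a free module defined by a family of global sections -/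
noncomputable def freeHom (F : X.Modules) {I : Type u} (σ : I → Γ(F, ⊤)) : freeMod X I ⟶ F :=
  (SheafOfModules.freeHomEquiv F).symm (fun i => globalSections F (σ i))

theorem freeHom_app_freeSection (F : X.Modules) {I : Type u} (σ : I → Γ(F, ⊤)) (i : I)
    (U : X.Opens) :
    (freeHom F σ).app U (show Γ(freeMod X I, U) from (SheafOfModules.freeSection i).val (op U)) =
      res F le_top (σ i) := by
  have h1 : SheafOfModules.sectionsMap (freeHom F σ) (SheafOfModules.freeSection i) =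
      globalSections F (σ i) :=
    SheafOfModules.sectionsMap_freeHomEquiv_symm_freeSection _ i
  exact congrArg (fun t => t.val (op U)) h1

theorem epi_freeHom (F : X.Modules) [F.IsQuasicoherent] {I : Type u} (σ : I → Γ(F, ⊤))
    (h : ∀ x : X, ∃ U : X.Opens, IsAffineOpen U ∧ x ∈ U ∧
      Submodule.span Γ(X, U) (Set.range (fun i => res F (le_top : U ≤ ⊤) (σ i))) = ⊤) :
    Epi (freeHom F σ) := by
  apply QCExact.epi_of_surjective_on_affine_cover
  intro x
  obtain ⟨U, hU, hxU, hspan⟩ := h x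
  refine ⟨U, hU, hxU, ?_⟩
  let R : Submodule Γ(X, U) Γ(F, U) :=
    { carrier := Set.range ((freeHom F σ).app U)
      add_mem' := by
        rintro _ _ ⟨a, rfl⟩ ⟨b, rfl⟩
        exact ⟨a + b, map_add _ _ _⟩
      zero_mem' := ⟨0, map_zero _⟩
      smul_mem' := by
        rintro r _ ⟨a, rfl⟩
        exact ⟨r • a, Scheme.Modules.Hom.app_smul _ r a⟩ }
  have h1 : R = ⊤ := by
    rw [eq_top_iff, ← hspan, Submodule.span_le]
    rintro _ ⟨i, rfl⟩
    exact ⟨_, freeHom_app_freeSection F σ i U⟩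
  intro s
  have : s ∈ R := h1 ▸ Submodule.mem_top
  exact this

theorem isGloballyGenerated_of_span (F : X.Modules) [F.IsQuasicoherent] {I : Type u}
    (σ : I → Γ(F, ⊤))
    (h : ∀ x : X, ∃ U : X.Opens, IsAffineOpen U ∧ x ∈ U ∧
      Submodule.span Γ(X, U) (Set.range (fun i => res F (le_top : U ≤ ⊤) (σ i))) = ⊤) :
    Curv2.IsGloballyGenerated F :=
  ⟨I, freeHom F σ, epi_freeHom F σ h⟩

theorem isGloballyGenerated_of_iso {F G : X.Modules} (e : F ≅ G)
    (h : Curv2.IsGloballyGenerated F) : Curv2.IsGloballyGenerated G := by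
  obtain ⟨I, p, hp⟩ := h
  exact ⟨I, p ≫ e.hom, epi_comp _ _⟩

/-- `φ.app U` as a linear map -/
noncomputable def appLin {M N : X.Modules} (φ : M ⟶ N) (U : X.Opens) :
    Γ(M, U) →ₗ[Γ(X, U)] Γ(N, U) where
  toFun := φ.app U
  map_add' a b := map_add _ a b
  map_smul' r a := Scheme.Modules.Hom.app_smul φ r a

/-- `M` is spanned, over the members of an affine cover, by a family of global sections. -/
def IsSpannedBy (M : X.Modules) {I : Type u} (σ : I → Γ(M, ⊤)) : Prop :=
  ∀ x : X, ∃ U : X.Opens, IsAffineOpen U ∧ x ∈ U ∧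
    Submodule.span Γ(X, U) (Set.range (fun i => res M (le_top : U ≤ ⊤) (σ i))) = ⊤

/-- `M` is spanned by global sections over the members of an affine cover. -/
def IsSpanned (M : X.Modules) : Prop :=
  ∃ (I : Type u) (σ : I → Γ(M, ⊤)), IsSpannedBy M σ

theorem IsSpanned.isGloballyGenerated {M : X.Modules} [M.IsQuasicoherent] (h : IsSpanned M) :
    Curv2.IsGloballyGenerated M := by
  obtain ⟨I, σ, hσ⟩ := h
  exact isGloballyGenerated_of_span M σ hσ

theorem IsSpanned.of_iso {F G : X.Modules} (e : F ≅ G) (h : IsSpanned F) : IsSpanned G := by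
  obtain ⟨I, σ, hσ⟩ := h
  refine ⟨I, fun i => e.hom.app ⊤ (σ i), fun x => ?_⟩
  obtain ⟨U, hU, hxU, hspan⟩ := hσ x
  refine ⟨U, hU, hxU, ?_⟩
  have hsurj : Function.Surjective (appLin e.hom U) := by
    intro t
    exact ⟨e.inv.app U t, iso_hom_inv_app e U t⟩
  have h1 : Submodule.map (appLin e.hom U)
      (Submodule.span Γ(X, U) (Set.range (fun i => res F (le_top : U ≤ ⊤) (σ i)))) = ⊤ := by
    rw [hspan, Submodule.map_top]
    exact LinearMap.range_eq_top.mpr hsurj
  rw [Submodule.map_span] at h1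
  rw [eq_top_iff, ← h1]
  apply Submodule.span_mono
  rintro _ ⟨_, ⟨i, rfl⟩, rfl⟩
  exact ⟨i, (QCExact.app_res' e.hom (le_top : U ≤ ⊤) (σ i)).symm⟩

/-- an invertible module spanned by global sections has no base points -/
theorem IsSpanned.exists_mem_genLocus {M : X.Modules} (hM : PicF.IsInvertible M)
    (h : IsSpanned M) (x : X) : ∃ s : Coh.structureModule X ⟶ M, x ∈ CohB1.genLocus M s := by
  obtain ⟨I, σ, hσ⟩ := h
  obtain ⟨U, hU, hxU, hspan⟩ := hσ x
  haveI := isQuasicoherent_of_isInvertible hM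
  obtain ⟨V, e₀, hxV, hg₀⟩ := exists_isGen hM x
  obtain ⟨g, hgle, hxg⟩ := hU.exists_basicOpen_le (V := U ⊓ V) ⟨x, ⟨hxU, hxV⟩⟩ hxU
  have hDU : X.basicOpen g ≤ U := X.basicOpen_le g
  have hDV : X.basicOpen g ≤ V := hgle.trans inf_le_right
  have hg : IsGen M (X.basicOpen g) (res M hDV e₀) := hg₀.mono hDV
  have hspan' := span_res_eq_top M hU g rfl hDU _ hspan
  -- the submodule of sections whose coordinate is not a unit at `x`
  let P : Submodule Γ(X, X.basicOpen g) Γ(M, X.basicOpen g) :=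
    { carrier := {m | ∀ a : Γ(X, X.basicOpen g), a • res M hDV e₀ = m →
        X.presheaf.germ (X.basicOpen g) x hxg a ∈ IsLocalRing.maximalIdeal (X.presheaf.stalk x)}
      add_mem' := by
        intro m₁ m₂ h₁ h₂ a ha
        obtain ⟨a₁, ha₁⟩ := hg.self.exists_coord m₁
        obtain ⟨a₂, ha₂⟩ := hg.self.exists_coord m₂
        have : a = a₁ + a₂ := hg.self.smul_inj (by rw [ha, add_smul, ha₁, ha₂])
        rw [this, map_add]
        exact Ideal.add_mem _ (h₁ a₁ ha₁) (h₂ a₂ ha₂)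
      zero_mem' := by
        intro a ha
        rw [hg.self.eq_zero ha, map_zero]
        exact Ideal.zero_mem _
      smul_mem' := by
        intro r m hm a ha
        obtain ⟨a₁, ha₁⟩ := hg.self.exists_coord m
        have : a = r * a₁ := hg.self.smul_inj (by rw [ha, mul_smul, ha₁])
        rw [this, map_mul]
        exact Ideal.mul_mem_left _ _ (hm a₁ ha₁) }
  by_contra hcon
  push Not at hcon
  have hle : Submodule.span Γ(X, X.basicOpen g)
      (res M hDU '' Set.range (fun i => res M (le_top : U ≤ ⊤) (σ i))) ≤ P := by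
    rw [Submodule.span_le]
    rintro _ ⟨_, ⟨i, rfl⟩, rfl⟩
    intro a ha
    rw [IsLocalRing.mem_maximalIdeal, mem_nonunits_iff]
    intro hu
    apply hcon (globalHom M (σ i))
    have h1 : CohB1.genLocus M (globalHom M (σ i)) ⊓ X.basicOpen g = X.basicOpen a := by
      apply genLocus_inf_eq_basicOpen _ hg a
      rw [sec_globalHom, ha, res_res]
    have h2 : x ∈ X.basicOpen a := (Scheme.mem_basicOpen _ _ _ hxg).mpr hu
    rw [← h1] at h2
    exact h2.1
  have h1 : res M hDV e₀ ∈ P := hle (hspan' ▸ Submodule.mem_top)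
  have h2 := h1 1 (one_smul _ _)
  rw [map_one] at h2
  exact (IsLocalRing.mem_maximalIdeal _).mp h2 isUnit_one

theorem exists_isSpanned_twist_aux [CompactSpace X] [QuasiSeparatedSpace X]
    {N : X.Modules} (hN : PicF.IsInvertible N) {ι : Type u} [Finite ι]
    (s : ι → (Coh.structureModule X ⟶ N)) (haff : ∀ i, IsAffineOpen (CohB1.genLocus N (s i)))
    (hcov : ∀ x : X, ∃ i, x ∈ CohB1.genLocus N (s i))
    (G : X.Modules) [G.IsQuasicoherent] [G.IsFiniteType] :
    ∃ k₀ : ℕ, ∀ k, k₀ ≤ k →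
      IsSpanned (CohB1.tensorMod G (CohB1.tensorPow N k)) := by
  classical
  haveI := Fintype.ofFinite ι
  have hfg : ∀ i, ∃ T : Finset Γ(G, CohB1.genLocus N (s i)),
      Submodule.span Γ(X, CohB1.genLocus N (s i)) (T : Set Γ(G, CohB1.genLocus N (s i))) = ⊤ := by
    intro i
    haveI := QCProps.finite_sections G (haff i)
    exact (Module.Finite.fg_top (R := Γ(X, CohB1.genLocus N (s i)))
      (M := Γ(G, CohB1.genLocus N (s i))))
  choose T hT using hfg
  have hext := fun (i : ι) (t : Γ(G, CohB1.genLocus N (s i))) =>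
    exists_tm_lpow_extension hN (s i) G ⊤ (by simpa using isCompact_univ)
      (fun U U' hU hU' _ _ => QuasiSeparatedSpace.inter_isCompact U.1 U'.1 U.2 hU.isCompact U'.2
        hU'.isCompact)
      (CohB1.genLocus N (s i)) le_top le_rfl inf_le_right t
  choose n₀ hn₀ using hext
  refine ⟨Finset.univ.sup (fun i => (T i).sup (n₀ i)), fun k hk => ?_⟩
  have hk' : ∀ i, ∀ t ∈ T i, n₀ i t ≤ k := fun i t ht =>
    (Finset.le_sup (f := n₀ i) ht).trans
      ((Finset.le_sup (f := fun i => (T i).sup (n₀ i)) (Finset.mem_univ i)).trans hk)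
  have hσ : ∀ (j : Σ i, {t // t ∈ T i}),
      ∃ t' : Γ(CohB1.tensorMod G (CohB1.tensorPow N k), ⊤),
        res _ le_top t' = tm G (CohB1.tensorPow N k) _ j.2.1 (lpow N (sec (s j.1) _) k) :=
    fun j => hn₀ j.1 j.2.1 k (hk' j.1 j.2.1 j.2.2)
  choose σ hσ using hσ
  refine ⟨_, σ, ?_⟩
  intro x
  obtain ⟨i, hxi⟩ := hcov x
  refine ⟨CohB1.genLocus N (s i), haff i, hxi, ?_⟩
  have hg : IsGen (CohB1.tensorPow N k) (CohB1.genLocus N (s i)) (lpow N (sec (s i) _) k) :=
    isGen_lpow (isGen_genLocus (s i)) k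
  have hsurj := tm_gen_surjective_self G _ hg
  rw [eq_top_iff]
  intro y _
  obtain ⟨g, rfl⟩ := hsurj y
  have hgT : g ∈ Submodule.span Γ(X, CohB1.genLocus N (s i))
      (T i : Set Γ(G, CohB1.genLocus N (s i))) := hT i ▸ Submodule.mem_top
  have h2 := Submodule.mem_map_of_mem (f := tmLin G (CohB1.tensorPow N k) _
    (lpow N (sec (s i) _) k)) hgT
  rw [Submodule.map_span] at h2
  refine Submodule.span_mono ?_ h2
  rintro _ ⟨t, ht, rfl⟩
  exact ⟨⟨i, t, ht⟩, hσ ⟨i, t, ht⟩⟩

/-- a finite cover by affine opens `X_s`, all `s` of the same degree -/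
theorem exists_finite_secLocus_cover [CompactSpace X] [QuasiSeparatedSpace X] {L : X.Modules}
    (hA : CohB1.IsAmple L) :
    ∃ (d : ℕ) (_ : 0 < d) (ι : Type u) (_ : Finite ι)
      (s : ι → (Coh.structureModule X ⟶ CohB1.tensorPow L d)),
      (∀ i, IsAffineOpen (CohB1.genLocus _ (s i))) ∧ ∀ x : X, ∃ i, x ∈ CohB1.genLocus _ (s i) := by
  classical
  have hL : PicF.IsInvertible L := hA.1
  have hnb := fun x : X => exists_secLocus_nbhd hA x ⊤ trivial
  choose W hWsec hxW _ hWaff using hnb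
  obtain ⟨t, -, ht⟩ := isCompact_univ.elim_nhds_subcover (fun x => (W x : Set X))
    (fun x _ => (W x).2.mem_nhds (hxW x))
  obtain ⟨d, hd, hs⟩ := exists_common_degree_finite hL (fun i : {x // x ∈ t} => W i.1)
    (fun i => hWsec i.1)
  choose s hs using hs
  refine ⟨d, hd, {x // x ∈ t}, inferInstance, s, fun i => ?_, fun x => ?_⟩
  · rw [hs]; exact hWaff i.1
  · obtain ⟨y, hy, hxy⟩ := Set.mem_iUnion₂.mp (ht (Set.mem_univ x))
    refine ⟨⟨y, hy⟩, ?_⟩
    rw [hs]; exact hxy

/-- EGA II 4.5.5: twisting a quasi-coherent module of finite type by high powers of an ample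
module makes it globally generated. -/
theorem exists_isSpanned_twist [CompactSpace X] [QuasiSeparatedSpace X] {L : X.Modules}
    (hA : CohB1.IsAmple L) (F : X.Modules) [F.IsQuasicoherent] [F.IsFiniteType] :
    ∃ n₀ : ℕ, ∀ n, n₀ ≤ n →
      IsSpanned (CohB1.tensorMod F (CohB1.tensorPow L n)) := by
  classical
  have hL : PicF.IsInvertible L := hA.1
  obtain ⟨d, hd, ι, hι, s, haff, hcov⟩ := exists_finite_secLocus_cover hA
  have hN := isInvertible_tensorPow hL d
  have haux : ∀ r : ℕ, ∃ k₀ : ℕ, ∀ k, k₀ ≤ k → IsSpanned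
      (CohB1.tensorMod (CohB1.tensorMod F (CohB1.tensorPow L r))
        (CohB1.tensorPow (CohB1.tensorPow L d) k)) := by
    intro r
    haveI := isQuasicoherent_tensorMod F _ (isInvertible_tensorPow hL r)
    haveI := isFiniteType_tensorMod F _ (isInvertible_tensorPow hL r)
    exact exists_isSpanned_twist_aux hN s haff hcov _
  choose k₀ hk₀ using haux
  refine ⟨d * (Finset.range d).sup k₀, fun n hn => ?_⟩
  obtain ⟨r, k, hr, hk, rfl⟩ : ∃ r k, r < d ∧ (Finset.range d).sup k₀ ≤ k ∧ n = r + d * k := by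
    refine ⟨n % d, n / d, Nat.mod_lt _ hd, ?_, ?_⟩
    · rw [Nat.le_div_iff_mul_le hd, Nat.mul_comm]; exact hn
    · rw [add_comm]; exact (Nat.div_add_mod n d).symm
  have h1 := hk₀ r k ((Finset.le_sup (f := k₀) (Finset.mem_range.mpr hr)).trans hk)
  exact IsSpanned.of_iso
    (tensorMapIso (Iso.refl _) (powMul L d k) ≪≫ twistAdd F L r (d * k)) h1

/-- EGA II 4.5.5 -/
theorem exists_isGloballyGenerated_twist [CompactSpace X] [QuasiSeparatedSpace X] {L : X.Modules}
    (hA : CohB1.IsAmple L) (F : X.Modules) [F.IsQuasicoherent] [F.IsFiniteType] :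
    ∃ n₀ : ℕ, ∀ n, n₀ ≤ n →
      Curv2.IsGloballyGenerated (CohB1.tensorMod F (CohB1.tensorPow L n)) := by
  obtain ⟨n₀, h⟩ := exists_isSpanned_twist hA F
  refine ⟨n₀, fun n hn => ?_⟩
  haveI := isQuasicoherent_tensorMod F _ (isInvertible_tensorPow hA.1 n)
  exact (h n hn).isGloballyGenerated

/-- EGA II 4.5.6 -/
theorem isAmple_tensorMod_of_bpf [QuasiSeparatedSpace X] {L L' : X.Modules}
    (hL : CohB1.IsAmple L) (hL' : PicF.IsInvertible L')
    (h : ∀ x : X, ∃ (n : ℕ) (s' : Coh.structureModule X ⟶ CohB1.tensorPow L' (n + 1)),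
      x ∈ CohB1.genLocus _ s') :
    CohB1.IsAmple (CohB1.tensorMod L L') := by
  haveI := hL.2.1
  apply isAmple_of_secLocus (isInvertible_tensorMod hL.1 hL')
  intro x
  obtain ⟨n, s', hxs'⟩ := h x
  obtain ⟨W, hW, hxW, hWle, hWa⟩ := exists_secLocus_nbhd hL x _ hxs'
  refine ⟨W, ?_, hxW, hWa⟩
  have := secLocus_tensor hL.1 hL' hW ⟨n, s', rfl⟩
  rwa [inf_eq_left.mpr hWle] at this

/-- EGA II 4.5.6, for a module spanned by its global sections -/
theorem isAmple_tensorMod_of_isSpanned [QuasiSeparatedSpace X] {L L' : X.Modules}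
    (hL : CohB1.IsAmple L) (hL' : PicF.IsInvertible L') (h : IsSpanned L') :
    CohB1.IsAmple (CohB1.tensorMod L L') := by
  apply isAmple_tensorMod_of_bpf hL hL'
  intro x
  obtain ⟨s, hs⟩ := h.exists_mem_genLocus hL' x
  refine ⟨0, s ≫ (powOne L').hom, ?_⟩
  rw [genLocus_comp_iso]
  exact hs

/-- EGA II 4.5.8 -/
theorem exists_isAmple_isSpanned_twist [CompactSpace X] [QuasiSeparatedSpace X] {L L' : X.Modules}
    (hL : CohB1.IsAmple L) (hL' : PicF.IsInvertible L') :
    ∃ n₀ : ℕ, 0 < n₀ ∧ ∀ n, n₀ ≤ n →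
      CohB1.IsAmple (CohB1.tensorMod (CohB1.tensorPow L n) L') ∧
        IsSpanned (CohB1.tensorMod (CohB1.tensorPow L n) L') := by
  haveI := isQuasicoherent_of_isInvertible hL'
  haveI := isFiniteType_of_isInvertible hL'
  obtain ⟨m₀, hm₀⟩ := exists_isSpanned_twist hL L'
  refine ⟨m₀ + 1, Nat.succ_pos _, fun n hn => ?_⟩
  obtain ⟨m, rfl⟩ : ∃ m, n = m + 1 := ⟨n - 1, by omega⟩
  refine ⟨?_, IsSpanned.of_iso (braid _ _) (hm₀ (m + 1) (by omega))⟩
  have h1 : CohB1.IsAmple (CohB1.tensorMod L (CohB1.tensorMod L' (CohB1.tensorPow L m))) :=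
    isAmple_tensorMod_of_isSpanned hL
      (isInvertible_tensorMod hL' (isInvertible_tensorPow hL.1 m)) (hm₀ m (by omega))
  -- `L ⊗ (L' ⊗ L^m) ≅ (L^m ⊗ L) ⊗ L'`
  refine isAmple_of_iso ?_ h1
  exact tensorMapIso (Iso.refl L) (braid _ _) ≪≫ (assoc L (CohB1.tensorPow L m) L').symm ≪≫
    tensorMapIso (braid L (CohB1.tensorPow L m)) (Iso.refl L')


end Groth.Agent.Lib.Helper3.GlobGen
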