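import Groth.Agent.Lib.Helper3.InvRestrict
import Groth.Agent.Lib.Helper3.GlobGen
import Groth.Prelude.Def_LCI2

set_option autoImplicit false
universe u
open CategoryTheory CategoryTheory.Limits AlgebraicGeometry TopologicalSpace Opposite
open Scheme.Modules TensorProduct MonoidalCategory

namespace Groth.Agent.Lib.Helper3.RelAmpleLib

open QCSec InvGen InvTensor InvMonoidal InvAmple InvRestrict GlobGen InvCoh

variable {X Y : Scheme.{u}}

theorem compactSpace_preimage (f : X ⟶ Y) [QuasiCompact f] (V : Y.Opens) (hV : IsAffineOpen V) :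
    CompactSpace ↑(f ⁻¹ᵁ V : X.Opens) :=
  isCompact_iff_compactSpace.mp (QuasiCompact.isCompact_preimage (f := f) _ V.2 hV.isCompact)

theorem isSeparated_of_isAmple {L : X.Modules} (hA : CohB1.IsAmple L) : X.IsSeparated :=
  isSeparated_of_secLocus_cover hA.1 (exists_secLocus_of_isAmple hA)

theorem isAmple_tensorMod {L L' : X.Modules} (hL : CohB1.IsAmple L) (hL' : CohB1.IsAmple L') :
    CohB1.IsAmple (CohB1.tensorMod L L') := by
  haveI := isSeparated_of_isAmple hL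
  exact isAmple_tensorMod_of_bpf hL hL'.1 (fun x => by
    obtain ⟨n, s, hx, -⟩ := hL'.2.2 x
    exact ⟨n, s, hx⟩)

theorem isRelAmple_tensorMod (f : X ⟶ Y) {L L' : X.Modules} (hL : RelAmple.IsRelAmple f L)
    (hL' : RelAmple.IsRelAmple f L') : RelAmple.IsRelAmple f (CohB1.tensorMod L L') := by
  refine ⟨hL.1, fun V => ?_⟩
  exact isAmple_of_iso (restrictTensorIso _ L L') (isAmple_tensorMod (hL.2 V) (hL'.2 V))

theorem isRelAmple_pow_iff (f : X ⟶ Y) [QuasiCompact f] {L : X.Modules} (hL : PicF.IsInvertible L)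
    {n : ℕ} (hn : 0 < n) :
    RelAmple.IsRelAmple f L ↔ RelAmple.IsRelAmple f (CohB1.tensorPow L n) := by
  have key : ∀ V : Y.affineOpens, CohB1.IsAmple (L.restrict (f ⁻¹ᵁ V.1).ι) ↔
      CohB1.IsAmple ((CohB1.tensorPow L n).restrict (f ⁻¹ᵁ V.1).ι) := by
    intro V
    haveI := compactSpace_preimage f V.1 V.2
    rw [isAmple_pow_iff (isInvertible_restrict _ hL) hn]
    exact ⟨isAmple_of_iso (restrictPowIso _ L n), isAmple_of_iso (restrictPowIso _ L n).symm⟩
  constructor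
  · rintro ⟨hqc, h⟩
    exact ⟨hqc, fun V => (key V).mp (h V)⟩
  · rintro ⟨hqc, h⟩
    exact ⟨hqc, fun V => (key V).mpr (h V)⟩

/-- double restriction -/
noncomputable def restrictRestrictIso {Z : Scheme.{u}} (b : Z ⟶ Y) (a : Y ⟶ X) [IsOpenImmersion a]
    [IsOpenImmersion b] (L : X.Modules) : (L.restrict a).restrict b ≅ L.restrict (b ≫ a) :=
  ((restrictFunctorComp b a).app L).symm

theorem isAmple_restrict_restrict_iff {Z : Scheme.{u}} (b : Z ⟶ Y) (a : Y ⟶ X) [IsOpenImmersion a]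
    [IsOpenImmersion b] (L : X.Modules) :
    CohB1.IsAmple ((L.restrict a).restrict b) ↔ CohB1.IsAmple (L.restrict (b ≫ a)) :=
  ⟨isAmple_of_iso (restrictRestrictIso b a L), isAmple_of_iso (restrictRestrictIso b a L).symm⟩

theorem isAmple_restrict_congr {j₁ j₂ : Y ⟶ X} (h : j₁ = j₂) [IsOpenImmersion j₁]
    [IsOpenImmersion j₂] (L : X.Modules) (hA : CohB1.IsAmple (L.restrict j₁)) :
    CohB1.IsAmple (L.restrict j₂) :=
  isAmple_of_iso ((restrictFunctorCongr h).app L) hA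

/-- ampleness passes to smaller quasi-compact open subschemes -/
theorem isAmple_restrict_of_le {Y₁ Y₂ : Scheme.{u}} (j₁ : Y₁ ⟶ X) (j₂ : Y₂ ⟶ X)
    [IsOpenImmersion j₁] [IsOpenImmersion j₂] [CompactSpace Y₁]
    (hle : j₁.opensRange ≤ j₂.opensRange) (L : X.Modules)
    (hA : CohB1.IsAmple (L.restrict j₂)) : CohB1.IsAmple (L.restrict j₁) := by
  have H : Set.range j₁ ⊆ Set.range j₂ := hle
  have h1 := isAmple_restrict (IsOpenImmersion.lift j₂ j₁ H) hA
  rw [isAmple_restrict_restrict_iff] at h1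
  exact isAmple_restrict_congr (IsOpenImmersion.lift_fac j₂ j₁ H) L h1

theorem compactSpace_of_iso (e : Y ⟶ X) [IsIso e] [CompactSpace Y] : CompactSpace X :=
  (Scheme.homeoOfIso (asIso e)).compactSpace

/-- ampleness can be checked after restriction along an isomorphism -/
theorem isAmple_of_restrict_iso (j : Y ⟶ X) [IsIso j] (L : X.Modules)
    (hA : CohB1.IsAmple (L.restrict j)) : CohB1.IsAmple L := by
  haveI := hA.2.1
  haveI : CompactSpace X := compactSpace_of_iso j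
  have h1 := isAmple_restrict (inv j) hA
  rw [isAmple_restrict_restrict_iff] at h1
  have h2 := isAmple_restrict_congr (IsIso.inv_hom_id j) L h1
  exact isAmple_of_iso (restrictFunctorId.app L) h2

theorem isAmple_of_restrict_top (W : X.Opens) (hW : W = ⊤) (L : X.Modules)
    (hA : CohB1.IsAmple (L.restrict W.ι)) : CohB1.IsAmple L := by
  subst hW
  haveI : IsIso (⊤ : X.Opens).ι := inferInstanceAs (IsIso X.topIso.hom)
  exact isAmple_of_restrict_iso _ L hA

/-- EGA II 4.6.6 -/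
theorem isRelAmple_iff_isAmple_of_isAffine [IsAffine Y] (f : X ⟶ Y) [QuasiCompact f]
    (L : X.Modules) : RelAmple.IsRelAmple f L ↔ CohB1.IsAmple L := by
  constructor
  · rintro ⟨-, h⟩
    exact isAmple_of_restrict_top _ rfl L (h ⟨⊤, isAffineOpen_top Y⟩)
  · intro hA
    refine ⟨inferInstance, fun V => ?_⟩
    haveI := compactSpace_preimage f V.1 V.2
    exact isAmple_restrict _ hA

theorem isQuasiSeparated_of_isAmple_restrict (W : X.Opens) {L : X.Modules}
    (hA : CohB1.IsAmple (L.restrict W.ι)) : IsQuasiSeparated (W : Set X) := by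
  haveI := isSeparated_of_isAmple hA
  exact (isQuasiSeparated_iff_quasiSeparatedSpace _ W.2).mpr
    (inferInstanceAs (QuasiSeparatedSpace ↥(W : Scheme.{u})))

/-- a scheme covered by basic opens `X_g` which are quasi-separated is quasi-separated
(in the form: intersections of affine opens are quasi-compact) -/
theorem isCompact_inf_of_basicOpen_cover
    (hcov : ∀ x : X, ∃ g : Γ(X, ⊤), x ∈ X.basicOpen g ∧ IsQuasiSeparated (X.basicOpen g : Set X))
    (U U' : X.Opens) (hU : IsAffineOpen U) (hU' : IsAffineOpen U') :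
    IsCompact ((U ⊓ U' : X.Opens) : Set X) := by
  choose g hxg hqs using hcov
  obtain ⟨t, -, ht⟩ := hU.isCompact.elim_nhds_subcover (fun x => (X.basicOpen (g x) : Set X))
    (fun x _ => (X.basicOpen (g x)).2.mem_nhds (hxg x))
  have heq : ((U ⊓ U' : X.Opens) : Set X) =
      ⋃ x ∈ t, ((U ⊓ X.basicOpen (g x) : X.Opens) : Set X) ∩
        ((U' ⊓ X.basicOpen (g x) : X.Opens) : Set X) := by
    ext y
    simp only [Opens.coe_inf, Set.mem_inter_iff, SetLike.mem_coe, Set.mem_iUnion, exists_prop]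
    constructor
    · rintro ⟨hyU, hyU'⟩
      obtain ⟨x, hx, hyx⟩ := Set.mem_iUnion₂.mp (ht hyU)
      exact ⟨x, hx, ⟨hyU, hyx⟩, ⟨hyU', hyx⟩⟩
    · rintro ⟨x, -, ⟨hyU, -⟩, ⟨hyU', -⟩⟩
      exact ⟨hyU, hyU'⟩
  rw [heq]
  apply t.finite_toSet.isCompact_biUnion
  intro x _
  have h1 : ∀ (A : X.Opens), IsAffineOpen A →
      IsCompact ((A ⊓ X.basicOpen (g x) : X.Opens) : Set X) := by
    intro A hA
    rw [← Scheme.basicOpen_res X (g x) (homOfLE (le_top : A ≤ ⊤)).op]
    exact (hA.basicOpen _).isCompact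
  exact hqs x _ _ (fun y hy => hy.2) (U ⊓ X.basicOpen (g x)).2 (h1 U hU)
    (fun y hy => hy.2) (U' ⊓ X.basicOpen (g x)).2 (h1 U' hU')

theorem IsGen.of_smul_unit {L : X.Modules} {U : X.Opens} {e : Γ(L, U)} {u : Γ(X, U)}
    (hu : IsUnit u) (hg : IsGen L U (u • e)) : IsGen L U e := by
  obtain ⟨v, hv⟩ := hu.exists_left_inv
  have hvu : IsUnit v := IsUnit.of_mul_eq_one u hv
  have := hg.smul_unit hvu
  rwa [smul_smul, hv, one_smul] at this

/-- EGA II 4.6.4, the key step: ampleness can be checked on a cover by opens `X_g`,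
`g` global functions. -/
theorem isAmple_of_basicOpen_cover [CompactSpace X] (L : X.Modules)
    (hcov : ∀ x : X, ∃ g : Γ(X, ⊤), x ∈ X.basicOpen g ∧
      CohB1.IsAmple (L.restrict (X.basicOpen g).ι)) : CohB1.IsAmple L := by
  have hinv : PicF.IsInvertible L := by
    apply isInvertible_of_isGen
    intro x
    obtain ⟨g, hxg, hA⟩ := hcov x
    obtain ⟨V', e', hxV', hg'⟩ := exists_isGen hA.1 (⟨x, hxg⟩ : ↥(X.basicOpen g))
    exact ⟨(X.basicOpen g).ι ''ᵁ V', e', ⟨⟨x, hxg⟩, hxV', rfl⟩,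
      (isGen_restrict_iff _ L V' e').mp hg'⟩
  have hqs : ∀ U U' : X.Opens, IsAffineOpen U → IsAffineOpen U' → U ≤ ⊤ → U' ≤ ⊤ →
      IsCompact ((U ⊓ U' : X.Opens) : Set X) := fun U U' hU hU' _ _ =>
    isCompact_inf_of_basicOpen_cover (fun x => by
      obtain ⟨g, hxg, hA⟩ := hcov x
      exact ⟨g, hxg, isQuasiSeparated_of_isAmple_restrict _ hA⟩) U U' hU hU'
  apply isAmple_of_secLocus hinv
  intro x
  obtain ⟨g, hxg, hA⟩ := hcov x
  obtain ⟨n, t, hxt, haff⟩ := hA.2.2 ⟨x, hxg⟩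
  have hN := isInvertible_tensorPow hinv (n + 1)
  haveI := isQuasicoherent_of_isInvertible hN
  -- the section over `W = X_g`
  have ht₁ : CohB1.genLocus _ (t ≫ (restrictPowIso (X.basicOpen g).ι L (n + 1)).hom) =
      CohB1.genLocus _ t := genLocus_comp_iso t _
  have htop : X.basicOpen g ≤ (X.basicOpen g).ι ''ᵁ ⊤ :=
    le_of_eq (Scheme.Opens.ι_image_top (X.basicOpen g)).symm
  obtain ⟨τ, hτ⟩ : ∃ τ : Γ(CohB1.tensorPow L (n + 1), X.basicOpen g),
      τ = res _ htop (show Γ(CohB1.tensorPow L (n + 1), (X.basicOpen g).ι ''ᵁ ⊤) from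
        sec (t ≫ (restrictPowIso (X.basicOpen g).ι L (n + 1)).hom) ⊤) := ⟨_, rfl⟩
  have hsec : ∀ V' : (X.basicOpen g : Scheme.{u}).Opens,
      (show Γ(CohB1.tensorPow L (n + 1), (X.basicOpen g).ι ''ᵁ V') from
        sec (t ≫ (restrictPowIso (X.basicOpen g).ι L (n + 1)).hom) V') =
      res _ ((X.basicOpen g).ι_image_le V') τ := by
    intro V'
    have h1 := res_sec (t ≫ (restrictPowIso (X.basicOpen g).ι L (n + 1)).hom) (le_top : V' ≤ ⊤)
    rw [res_restrict] at h1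
    rw [hτ, res_res]
    exact h1.symm
  obtain ⟨m, σ, hσ⟩ := surj_of_isCompact (CohB1.tensorPow L (n + 1)) (V := ⊤)
    (by simpa using isCompact_univ) hqs g rfl le_top τ
  -- units
  have hkey : ∀ (D : X.Opens) (hD : D ≤ X.basicOpen g), ∃ u : Γ(X, D), IsUnit u ∧
      sec (globalHom (CohB1.tensorPow L (n + 1)) (g • σ)) D =
        u • res (CohB1.tensorPow L (n + 1)) hD τ := by
    intro D hD
    have hu : IsUnit (rres X (hD.trans le_top) g) := by
      have h0 : IsUnit (rres X (X.basicOpen_le g) g) :=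
        RingedSpace.isUnit_res_basicOpen X.toRingedSpace g
      have := rres_isUnit hD h0
      rwa [rres_rres] at this
    refine ⟨rres X (hD.trans le_top) g ^ (m + 1), hu.pow _, ?_⟩
    rw [sec_globalHom, res_smul, ← res_res _ hD le_top σ, hσ, res_smul, rres_pow, rres_rres,
      smul_smul, ← pow_succ']
  have hle : CohB1.genLocus _ (globalHom (CohB1.tensorPow L (n + 1)) (g • σ)) ≤ X.basicOpen g :=
    genLocus_globalHom_smul_le hN g σ
  -- the two loci agree
  have heq : CohB1.genLocus _ (globalHom (CohB1.tensorPow L (n + 1)) (g • σ)) =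
      (X.basicOpen g).ι ''ᵁ
        (CohB1.genLocus _ (t ≫ (restrictPowIso (X.basicOpen g).ι L (n + 1)).hom)) := by
    apply le_antisymm
    · obtain ⟨u, hu, hsu⟩ := hkey _ hle
      have h1 := isGen_genLocus (globalHom (CohB1.tensorPow L (n + 1)) (g • σ))
      rw [hsu] at h1
      have h2 := IsGen.of_smul_unit hu h1
      have himg : (X.basicOpen g).ι ''ᵁ ((X.basicOpen g).ι ⁻¹ᵁ
          CohB1.genLocus _ (globalHom (CohB1.tensorPow L (n + 1)) (g • σ))) =
          CohB1.genLocus _ (globalHom (CohB1.tensorPow L (n + 1)) (g • σ)) := by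
        rw [Scheme.Hom.image_preimage_eq_opensRange_inf, Scheme.Opens.opensRange_ι]
        exact inf_eq_right.mpr hle
      have h3 : IsGen ((CohB1.tensorPow L (n + 1)).restrict (X.basicOpen g).ι)
          ((X.basicOpen g).ι ⁻¹ᵁ CohB1.genLocus _
            (globalHom (CohB1.tensorPow L (n + 1)) (g • σ)))
          (sec (t ≫ (restrictPowIso (X.basicOpen g).ι L (n + 1)).hom) _) := by
        rw [isGen_restrict_iff, hsec]
        have := h2.mono (le_of_eq himg)
        rwa [res_res] at this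
      have h4 := le_genLocus _ h3
      calc CohB1.genLocus _ (globalHom (CohB1.tensorPow L (n + 1)) (g • σ))
          = (X.basicOpen g).ι ''ᵁ ((X.basicOpen g).ι ⁻¹ᵁ
              CohB1.genLocus _ (globalHom (CohB1.tensorPow L (n + 1)) (g • σ))) := himg.symm
        _ ≤ _ := Scheme.Hom.image_mono _ h4
    · apply le_genLocus
      obtain ⟨u, hu, hsu⟩ := hkey _ ((X.basicOpen g).ι_image_le
        (CohB1.genLocus _ (t ≫ (restrictPowIso (X.basicOpen g).ι L (n + 1)).hom)))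
      rw [hsu]
      apply IsGen.smul_unit _ hu
      have h1 := isGen_genLocus (t ≫ (restrictPowIso (X.basicOpen g).ι L (n + 1)).hom)
      rw [isGen_restrict_iff, hsec] at h1
      exact h1
  refine ⟨_, ⟨n, globalHom (CohB1.tensorPow L (n + 1)) (g • σ), rfl⟩, ?_, ?_⟩
  · rw [heq, ht₁]
    exact ⟨⟨x, hxg⟩, hxt, rfl⟩
  · rw [heq, ht₁]
    exact ((X.basicOpen g).ι.isAffineOpen_iff_of_isOpenImmersion).mpr haff

theorem compactSpace_of_isCompact (B : X.Opens) (h : IsCompact (B : Set X)) :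
    CompactSpace (B : Scheme.{u}) := isCompact_iff_compactSpace.mp h

/-- EGA II 4.6.4: relative ampleness over an affine open can be checked on a cover by
basic opens. -/
theorem isAmple_restrict_preimage_of_basicOpen_cover (f : X ⟶ Y) [QuasiCompact f]
    (L : X.Modules) (V : Y.Opens) (hV : IsAffineOpen V)
    (hcov : ∀ y ∈ V, ∃ g : Γ(Y, V), y ∈ Y.basicOpen g ∧
      CohB1.IsAmple (L.restrict (f ⁻¹ᵁ Y.basicOpen g).ι)) :
    CohB1.IsAmple (L.restrict (f ⁻¹ᵁ V).ι) := by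
  haveI := compactSpace_preimage f V hV
  apply isAmple_of_basicOpen_cover
  intro x'
  obtain ⟨g, hyg, hA⟩ := hcov (f ((f ⁻¹ᵁ V).ι x')) x'.2
  obtain ⟨B, hB⟩ : ∃ B : (f ⁻¹ᵁ V).toScheme.Opens,
      B = (f ⁻¹ᵁ V).toScheme.basicOpen ((f ⁻¹ᵁ V).topIso.inv (f.app V g)) := ⟨_, rfl⟩
  have himg : (f ⁻¹ᵁ V).ι ''ᵁ B = f ⁻¹ᵁ Y.basicOpen g := by
    rw [hB, Scheme.Opens.ι_image_basicOpen_topIso_inv, Scheme.preimage_basicOpen]
  refine ⟨(f ⁻¹ᵁ V).topIso.inv (f.app V g), ?_, ?_⟩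
  · have h1 : (f ⁻¹ᵁ V).ι x' ∈ (f ⁻¹ᵁ V).ι ''ᵁ B := by
      rw [himg]; exact hyg
    obtain ⟨z, hz, hzx⟩ := h1
    have : z = x' := Subtype.ext hzx
    rw [← hB]
    rwa [this] at hz
  · rw [← hB, isAmple_restrict_restrict_iff]
    haveI : CompactSpace (B : Scheme.{u}) := by
      apply compactSpace_of_isCompact
      rw [(f ⁻¹ᵁ V).ι.isOpenEmbedding.isEmbedding.isCompact_iff]
      have h2 := congrArg (fun O : X.Opens => (O : Set X)) himg
      simp only [Scheme.Hom.coe_image] at h2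
      rw [h2]
      exact QuasiCompact.isCompact_preimage (f := f) _ (Y.basicOpen g).2 (hV.basicOpen g).isCompact
    apply isAmple_restrict_of_le _ (f ⁻¹ᵁ Y.basicOpen g).ι _ L hA
    rw [Scheme.Hom.opensRange_comp, Scheme.Opens.opensRange_ι, Scheme.Opens.opensRange_ι, himg]

theorem isAmple_restrict_of_opensRange_eq {Y₁ Y₂ : Scheme.{u}} (j₁ : Y₁ ⟶ X) (j₂ : Y₂ ⟶ X)
    [IsOpenImmersion j₁] [IsOpenImmersion j₂]
    (h : j₁.opensRange = j₂.opensRange) (L : X.Modules)
    (hA : CohB1.IsAmple (L.restrict j₂)) : CohB1.IsAmple (L.restrict j₁) := by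
  haveI := hA.2.1
  haveI : CompactSpace Y₁ := by
    rw [← isCompact_univ_iff, j₁.isOpenEmbedding.isEmbedding.isCompact_iff, Set.image_univ]
    have h1 : Set.range j₁ = Set.range j₂ := congrArg (fun O : X.Opens => (O : Set X)) h
    rw [h1]
    exact isCompact_range j₂.continuous
  exact isAmple_restrict_of_le j₁ j₂ (le_of_eq h) L hA

theorem isAmple_morphismRestrict_iff (f : X ⟶ Y) (U : Y.Opens) (V' : (U : Scheme.{u}).Opens)
    (L : X.Modules) :
    CohB1.IsAmple ((L.restrict (f ⁻¹ᵁ U).ι).restrict ((f ∣_ U) ⁻¹ᵁ V').ι) ↔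
      CohB1.IsAmple (L.restrict (f ⁻¹ᵁ (U.ι ''ᵁ V')).ι) := by
  rw [isAmple_restrict_restrict_iff]
  have h : (((f ∣_ U) ⁻¹ᵁ V').ι ≫ (f ⁻¹ᵁ U).ι).opensRange = (f ⁻¹ᵁ (U.ι ''ᵁ V')).ι.opensRange := by
    rw [Scheme.Hom.opensRange_comp, Scheme.Opens.opensRange_ι, Scheme.Opens.opensRange_ι,
      image_morphismRestrict_preimage]
  exact ⟨isAmple_restrict_of_opensRange_eq _ _ h.symm L,
    isAmple_restrict_of_opensRange_eq _ _ h L⟩

/-- EGA II 4.6.4: relative ampleness is local on the base -/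
theorem isRelAmple_iff_of_openCover (f : X ⟶ Y) [QuasiCompact f] (L : X.Modules)
    {ι : Type u} (U : ι → Y.Opens) (hU : ⨆ i, U i = ⊤) :
    RelAmple.IsRelAmple f L ↔
      ∀ i, RelAmple.IsRelAmple (f ∣_ (U i)) (L.restrict (f ⁻¹ᵁ (U i)).ι) := by
  constructor
  · rintro ⟨-, h⟩ i
    refine ⟨inferInstance, fun V' => ?_⟩
    rw [isAmple_morphismRestrict_iff]
    exact h ⟨(U i).ι ''ᵁ V'.1, V'.2.image_of_isOpenImmersion (U i).ι⟩
  · intro h
    refine ⟨inferInstance, fun V => ?_⟩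
    apply isAmple_restrict_preimage_of_basicOpen_cover f L V.1 V.2
    intro y hyV
    have hy : y ∈ ⨆ i, U i := by rw [hU]; trivial
    obtain ⟨i, hyi⟩ := Opens.mem_iSup.mp hy
    obtain ⟨g, hgle, hyg⟩ := V.2.exists_basicOpen_le (V := U i ⊓ V.1) ⟨y, ⟨hyi, hyV⟩⟩ hyV
    refine ⟨g, hyg, ?_⟩
    have hDU : Y.basicOpen g ≤ U i := hgle.trans inf_le_left
    have himg : (U i).ι ''ᵁ ((U i).ι ⁻¹ᵁ Y.basicOpen g) = Y.basicOpen g := by
      rw [Scheme.Hom.image_preimage_eq_opensRange_inf, Scheme.Opens.opensRange_ι]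
      exact inf_eq_right.mpr hDU
    have haff : IsAffineOpen ((U i).ι ⁻¹ᵁ Y.basicOpen g) := by
      rw [← (U i).ι.isAffineOpen_iff_of_isOpenImmersion, himg]
      exact V.2.basicOpen g
    have h1 := (h i).2 ⟨(U i).ι ⁻¹ᵁ Y.basicOpen g, haff⟩
    rw [isAmple_morphismRestrict_iff] at h1
    rw [himg] at h1
    exact h1

/-- EGA II 4.6.13 (v) -/
theorem isRelAmple_of_comp {Z : Scheme.{u}} (f : X ⟶ Y) (g : Y ⟶ Z) [QuasiCompact f]
    (L : X.Modules) (hL : RelAmple.IsRelAmple (f ≫ g) L) : RelAmple.IsRelAmple f L := by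
  refine ⟨inferInstance, fun V => ?_⟩
  apply isAmple_restrict_preimage_of_basicOpen_cover f L V.1 V.2
  intro y hyV
  obtain ⟨Zk, hZk, hgy⟩ := QCProps.exists_affine_nbhd (g y)
  obtain ⟨h, hle, hyh⟩ := V.2.exists_basicOpen_le (V := g ⁻¹ᵁ Zk ⊓ V.1) ⟨y, ⟨hgy, hyV⟩⟩ hyV
  refine ⟨h, hyh, ?_⟩
  haveI := compactSpace_preimage f (Y.basicOpen h) (V.2.basicOpen h)
  apply isAmple_restrict_of_le _ ((f ≫ g) ⁻¹ᵁ Zk).ι _ L (hL.2 ⟨Zk, hZk⟩)
  rw [Scheme.Opens.opensRange_ι, Scheme.Opens.opensRange_ι]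
  intro x hx
  exact (hle hx).1

end Groth.Agent.Lib.Helper3.RelAmpleLib
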