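import Groth.Agent.Lib.Helper3.VAConv
import Groth.Agent.Lib.Helper3.InvRestrict
import Groth.Agent.Lib.Helper3.RelAmpleLib

/-!
# Relative ampleness of `O(1)` on projective space over a scheme; very ample implies ample
-/

set_option autoImplicit false
set_option linter.unusedSectionVars false
universe u
open CategoryTheory CategoryTheory.Limits AlgebraicGeometry TopologicalSpace Opposite
open Scheme.Modules

namespace Groth.Agent.Lib.Helper3.VARel

open QCSec InvGen InvTensor InvTwist InvMonoidal InvCoh InvAmple SecCoord ProjOfSec ProjUniq VACore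
  VASegre GlobGen VAMain VAConv TwistProj PbBasic PbAmple RelAmpleLib InvRestrict

theorem isRelAmple_pullback_of_isEmbedding {X X' Y : Scheme.{u}} (f : X ⟶ Y) [QuasiCompact f]
    (j : X' ⟶ X) [QuasiCompact j]
    (hj : Topology.IsEmbedding j) (L : X.Modules) (hL : RelAmple.IsRelAmple f L) :
    RelAmple.IsRelAmple (j ≫ f) ((Scheme.Modules.pullback j).obj L) := by
  refine ⟨inferInstance, fun V => ?_⟩
  haveI : CompactSpace ((j ⁻¹ᵁ (f ⁻¹ᵁ V.1) : X'.Opens) : Scheme.{u}) :=
    compactSpace_preimage (j ≫ f) V.1 V.2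
  have hemb : Topology.IsEmbedding (j ∣_ (f ⁻¹ᵁ V.1)) := by
    rw [morphismRestrict_base]
    exact hj.restrictPreimage _
  have h1 := isAmple_pullback_of_isEmbedding (j ∣_ (f ⁻¹ᵁ V.1)) hemb (hL.2 V)
  exact isAmple_of_iso ((pbRestrict j (f ⁻¹ᵁ V.1)).app L).symm h1

theorem isRelAmple_of_iso {X Y : Scheme.{u}} (f : X ⟶ Y) {L L' : X.Modules} (e : L ≅ L')
    (h : RelAmple.IsRelAmple f L) : RelAmple.IsRelAmple f L' :=
  ⟨h.1, fun V => isAmple_of_iso ((restrictFunctor (f ⁻¹ᵁ V.1).ι).mapIso e) (h.2 V)⟩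

instance compactSpace_projSpace (R : Type u) [CommRing R] (m : ℕ) :
    CompactSpace (CohB1.ProjSpace m R) :=
  compactSpace_of_finite_affine_cover (ι := Fin (m + 1))
    (fun j => Proj.basicOpen (CohB1.polyGrading m R)
      (MvPolynomial.X j : MvPolynomial (Fin (m + 1)) R))
    (fun j => Proj.isAffineOpen_basicOpen _ _ (MvPolynomial.isHomogeneous_X R j) Nat.one_pos)
    (exists_mem_basicOpen_X R m)

instance quasiCompact_toSpec (R : Type u) [CommRing R] (m : ℕ) :
    QuasiCompact (CohB1.ProjSpace.toSpec m R) :=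
  (HasAffineProperty.iff_of_isAffine (P := @QuasiCompact)).mpr (compactSpace_projSpace R m)

instance isSeparated_toSpec (R : Type u) [CommRing R] (m : ℕ) :
    IsSeparated (CohB1.ProjSpace.toSpec m R) := by
  change IsSeparated (Proj.toSpecZero (CohB1.polyGrading m R) ≫
    Spec.map (CommRingCat.ofHom (algebraMap R ↥(CohB1.polyGrading m R 0))))
  infer_instance

/-- `O(1)` on `P^m_B` is ample relative to `B` -/
theorem isRelAmple_twistOver (m : ℕ) (B : Scheme.{u}) :
    RelAmple.IsRelAmple (pullback.snd (CohB1.ProjSpace.toSpec m (ULift.{u} ℤ))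
      (specULiftZIsTerminal.from B)) (Twist.twistOver m B 1) := by
  let R := ULift.{u} ℤ
  have hA := isAmple_twist_projSpace R m
  let p := pullback.fst (CohB1.ProjSpace.toSpec m R) (specULiftZIsTerminal.from B)
  let q := pullback.snd (CohB1.ProjSpace.toSpec m R) (specULiftZIsTerminal.from B)
  refine ⟨inferInstance, fun V => ?_⟩
  haveI : CompactSpace ((q ⁻¹ᵁ V.1 : Scheme.Opens _) : Scheme.{u}) :=
    compactSpace_preimage q V.1 V.2
  change CohB1.IsAmple (((Scheme.Modules.pullback p).obj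
    (Twist.twist (CohB1.polyGrading m R) ((1 : ℕ) : ℤ))).restrict (q ⁻¹ᵁ V.1).ι)
  have hinv := isInvertible_pullback p hA.1
  apply isAmple_of_secLocus (isInvertible_restrict _ hinv)
  intro z
  obtain ⟨W, hW, hzW, hWa⟩ := exists_secLocus_of_isAmple hA (p ((q ⁻¹ᵁ V.1).ι z))
  obtain ⟨n, s, hs⟩ := secLocus_pullback p hA.1 hW
  refine ⟨(q ⁻¹ᵁ V.1).ι ⁻¹ᵁ (p ⁻¹ᵁ W),
    ⟨n, restrictSec _ s ≫ (restrictPowIso _ _ (n + 1)).inv, ?_⟩, hzW, ?_⟩
  · rw [genLocus_comp_iso, genLocus_restrictSec, hs]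
  · rw [isAffineOpen_preimage_ι_iff, inf_comm]
    exact isAffineOpen_pullback_inf hWa V.2 (isAffineOpen_top _) le_top le_top

theorem isRelAmple_of_immersion {X B : Scheme.{u}} (g : X ⟶ B) [QuasiCompact g]
    {N : X.Modules} (m : ℕ)
    (i : X ⟶ Limits.pullback (CohB1.ProjSpace.toSpec m (ULift.{u} ℤ)) (specULiftZIsTerminal.from B))
    (hi : IsImmersion i)
    (hg : i ≫ pullback.snd (CohB1.ProjSpace.toSpec m (ULift.{u} ℤ))
      (specULiftZIsTerminal.from B) = g)
    (τ : N ≅ (Scheme.Modules.pullback i).obj (Twist.twistOver m B 1)) :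
    RelAmple.IsRelAmple g N := by
  haveI := hi
  haveI : QuasiCompact (i ≫ pullback.snd (CohB1.ProjSpace.toSpec m (ULift.{u} ℤ))
      (specULiftZIsTerminal.from B)) := hg ▸ inferInstance
  haveI : QuasiCompact i := QuasiCompact.of_comp i (pullback.snd
    (CohB1.ProjSpace.toSpec m (ULift.{u} ℤ)) (specULiftZIsTerminal.from B))
  have h1 := isRelAmple_pullback_of_isEmbedding _ i (Scheme.Hom.isEmbedding i) _
    (isRelAmple_twistOver m B)
  rw [hg] at h1
  exact isRelAmple_of_iso g τ.symm h1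

/-- very ample relative to a projective space implies relatively ample -/
theorem isRelAmple_of_isRelVeryAmplePn {X B : Scheme.{u}} (g : X ⟶ B) [QuasiCompact g]
    {N : X.Modules} (h : RelAmple.IsRelVeryAmplePn g N) : RelAmple.IsRelAmple g N := by
  obtain ⟨m, i, hi, hg, ⟨τ⟩⟩ := h
  exact isRelAmple_of_immersion g m i hi hg τ

end Groth.Agent.Lib.Helper3.VARel
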