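import Groth.Agent.Lib.Helper3.VAMain
import Groth.Agent.Lib.Helper3.VARel
import Groth.Agent.Lib.Helper3.TwistAmple
import Groth.Agent.Lib.Helper3.InvRestrict
import Groth.Prelude.Def_RelProj

/-! quasi-projective vs H-quasi-projective morphisms -/

set_option autoImplicit false
universe u
open CategoryTheory CategoryTheory.Limits AlgebraicGeometry

namespace Groth.Agent.Lib.Helper3.QProj

theorem algebraMap_polyGrading_zero_surjective (R : Type u) [CommRing R] (m : ℕ) :
    Function.Surjective (algebraMap R ↥(CohB1.polyGrading m R 0)) := by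
  rintro ⟨x, hx⟩
  have hx' : x ∈ MvPolynomial.homogeneousSubmodule (Fin (m + 1)) R 0 := hx
  rw [MvPolynomial.homogeneousSubmodule_zero, Submodule.mem_one] at hx'
  obtain ⟨y, hy⟩ := hx'
  exact ⟨y, Subtype.ext hy⟩

instance locallyOfFiniteType_toSpec (R : Type u) [CommRing R] (m : ℕ) :
    LocallyOfFiniteType (CohB1.ProjSpace.toSpec m R) := by
  haveI : IsScalarTower R ↥(CohB1.polyGrading m R 0) (MvPolynomial (Fin (m + 1)) R) :=
    ⟨fun r x a => by
      change (r • (x : MvPolynomial (Fin (m + 1)) R)) * a = r • ((x : MvPolynomial (Fin (m + 1)) R) * a)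
      exact smul_mul_assoc r _ a⟩
  haveI : Algebra.FiniteType ↥(CohB1.polyGrading m R 0) (MvPolynomial (Fin (m + 1)) R) :=
    Algebra.FiniteType.of_restrictScalars_finiteType R _ _
  haveI : LocallyOfFiniteType
      (Spec.map (CommRingCat.ofHom (algebraMap R ↥(CohB1.polyGrading m R 0)))) := by
    rw [HasRingHomProperty.Spec_iff (P := @LocallyOfFiniteType)]
    exact RingHom.FiniteType.of_surjective _ (algebraMap_polyGrading_zero_surjective R m)
  change LocallyOfFiniteType (Proj.toSpecZero (CohB1.polyGrading m R) ≫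
    Spec.map (CommRingCat.ofHom (algebraMap R ↥(CohB1.polyGrading m R 0))))
  infer_instance

theorem isHQuasiProjective_of_arrowIso {X₁ Y₁ X₂ Y₂ : Scheme.{u}} (g₁ : X₁ ⟶ Y₁) (g₂ : X₂ ⟶ Y₂)
    (e : Arrow.mk g₁ ≅ Arrow.mk g₂) (h : RelProj.IsHQuasiProjective g₁) :
    RelProj.IsHQuasiProjective g₂ := by
  obtain ⟨n, i, hi, hqc, hcomp⟩ := h
  let i' : X₁ ⟶ Limits.pullback (CohB1.ProjSpace.toSpec n (ULift.{u} ℤ))
    (specULiftZIsTerminal.from Y₁) := i
  haveI : IsImmersion i' := hi
  haveI : QuasiCompact i' := hqc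
  have hcomp' : i' ≫ pullback.snd _ _ = g₁ := hcomp
  let φ : Limits.pullback (CohB1.ProjSpace.toSpec n (ULift.{u} ℤ)) (specULiftZIsTerminal.from Y₁) ⟶
      Limits.pullback (CohB1.ProjSpace.toSpec n (ULift.{u} ℤ)) (specULiftZIsTerminal.from Y₂) :=
    pullback.map _ _ _ _ (𝟙 _) e.hom.right (𝟙 _) (by simp) (specULiftZIsTerminal.hom_ext _ _)
  have hw : e.hom.left ≫ g₂ = g₁ ≫ e.hom.right := e.hom.w
  haveI : IsIso e.hom.left := inferInstance
  haveI : IsIso e.hom.right := inferInstance
  haveI : IsIso φ := by dsimp only [φ]; infer_instance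
  let a : X₂ ⟶ X₁ := inv e.hom.left
  haveI : IsIso a := by dsimp only [a]; infer_instance
  haveI : IsImmersion (i' ≫ φ) := inferInstance
  haveI : IsOpenImmersion a := inferInstance
  haveI : IsImmersion a := inferInstance
  have h1 : IsImmersion (a ≫ i' ≫ φ) := inferInstance
  haveI : QuasiCompact (i' ≫ φ) := inferInstance
  have h2 : QuasiCompact (a ≫ i' ≫ φ) := inferInstance
  refine ⟨n, a ≫ i' ≫ φ, h1, h2, ?_⟩
  change (a ≫ i' ≫ φ) ≫ pullback.snd _ _ = g₂
  rw [Category.assoc, Category.assoc, pullback.lift_snd, ← Category.assoc i', hcomp', ← hw]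
  exact IsIso.inv_hom_id_assoc _ _

open Groth.Agent.Lib.Helper3 in
theorem isHQuasiProjective_of_isAmple {X Y : Scheme.{u}} (g : X ⟶ Y) [LocallyOfFiniteType g]
    [QuasiCompact g] {L : X.Modules} (hA : CohB1.IsAmple L) : RelProj.IsHQuasiProjective g := by
  obtain ⟨n₀, h⟩ := VAMain.eventually_isRelVeryAmplePn_pow g hA
  obtain ⟨m, i, hi, hcomp, -⟩ := h n₀ le_rfl
  let i' : X ⟶ Limits.pullback (CohB1.ProjSpace.toSpec m (ULift.{u} ℤ))
    (specULiftZIsTerminal.from Y) := i
  refine ⟨m, i, hi, ?_, hcomp⟩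
  haveI : QuasiCompact (i' ≫ pullback.snd (CohB1.ProjSpace.toSpec m (ULift.{u} ℤ))
      (specULiftZIsTerminal.from Y)) := by
    rw [show i' ≫ pullback.snd _ _ = g from hcomp]; infer_instance
  exact QuasiCompact.of_comp i' (pullback.snd (CohB1.ProjSpace.toSpec m (ULift.{u} ℤ))
      (specULiftZIsTerminal.from Y))

open Groth.Agent.Lib.Helper3 in
theorem isQuasiProjective_of_isHQuasiProjective {X Y : Scheme.{u}} (g : X ⟶ Y)
    (h : RelProj.IsHQuasiProjective g) : RelProj.IsQuasiProjective g := by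
  obtain ⟨m, i, hi, hqc, hcomp⟩ := h
  let i' : X ⟶ Limits.pullback (CohB1.ProjSpace.toSpec m (ULift.{u} ℤ))
    (specULiftZIsTerminal.from Y) := i
  haveI : IsImmersion i' := hi
  haveI : QuasiCompact i' := hqc
  have hcomp' : i' ≫ pullback.snd (CohB1.ProjSpace.toSpec m (ULift.{u} ℤ))
      (specULiftZIsTerminal.from Y) = g := hcomp
  have h1 : LocallyOfFiniteType g := by rw [← hcomp']; infer_instance
  have h2 : QuasiCompact g := by rw [← hcomp']; infer_instance
  haveI := h2
  exact ⟨h1, h2, _, VARel.isRelAmple_of_immersion g m i' hi hcomp' (Iso.refl _)⟩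

instance isProper_toSpec (R : Type u) [CommRing R] (m : ℕ) :
    IsProper (CohB1.ProjSpace.toSpec m R) := by
  haveI : IsScalarTower R ↥(CohB1.polyGrading m R 0) (MvPolynomial (Fin (m + 1)) R) :=
    ⟨fun r x a => by
      change (r • (x : MvPolynomial (Fin (m + 1)) R)) * a = r • ((x : MvPolynomial (Fin (m + 1)) R) * a)
      exact smul_mul_assoc r _ a⟩
  haveI : Algebra.FiniteType ↥(CohB1.polyGrading m R 0) (MvPolynomial (Fin (m + 1)) R) :=
    Algebra.FiniteType.of_restrictScalars_finiteType R _ _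
  haveI : IsClosedImmersion
      (Spec.map (CommRingCat.ofHom (algebraMap R ↥(CohB1.polyGrading m R 0)))) :=
    IsClosedImmersion.spec_of_surjective _ (algebraMap_polyGrading_zero_surjective R m)
  change IsProper (Proj.toSpecZero (CohB1.polyGrading m R) ≫
    Spec.map (CommRingCat.ofHom (algebraMap R ↥(CohB1.polyGrading m R 0))))
  infer_instance


theorem isHProjective_iff {X S : Scheme.{u}} (f : X ⟶ S) :
    RelProj.IsHProjective f ↔ RelProj.IsHQuasiProjective f ∧ IsProper f := by
  constructor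
  · rintro ⟨n, i, hi, hcomp⟩
    let i' : X ⟶ Limits.pullback (CohB1.ProjSpace.toSpec n (ULift.{u} ℤ))
      (specULiftZIsTerminal.from S) := i
    haveI : IsClosedImmersion i' := hi
    have hcomp' : i' ≫ pullback.snd (CohB1.ProjSpace.toSpec n (ULift.{u} ℤ))
      (specULiftZIsTerminal.from S) = f := hcomp
    have h1 : IsImmersion i' := inferInstance
    have h2 : QuasiCompact i' := inferInstance
    refine ⟨⟨n, i, h1, h2, hcomp⟩, ?_⟩
    rw [← hcomp']
    infer_instance
  · rintro ⟨⟨n, i, hi, hqc, hcomp⟩, hp⟩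
    let i' : X ⟶ Limits.pullback (CohB1.ProjSpace.toSpec n (ULift.{u} ℤ))
      (specULiftZIsTerminal.from S) := i
    haveI : IsImmersion i' := hi
    have hcomp' : i' ≫ pullback.snd (CohB1.ProjSpace.toSpec n (ULift.{u} ℤ))
      (specULiftZIsTerminal.from S) = f := hcomp
    haveI : IsProper (i' ≫ pullback.snd (CohB1.ProjSpace.toSpec n (ULift.{u} ℤ))
      (specULiftZIsTerminal.from S)) := by rw [hcomp']; exact hp
    haveI : UniversallyClosed i' := UniversallyClosed.of_comp_of_isSeparated i'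
      (pullback.snd (CohB1.ProjSpace.toSpec n (ULift.{u} ℤ)) (specULiftZIsTerminal.from S))
    have h3 : IsClosedImmersion i' :=
      IsClosedImmersion.of_isPreimmersion i' i'.isClosedMap.isClosed_range
    exact ⟨n, i, h3, hcomp⟩

open Groth.Agent.Lib.Helper3 in
theorem isRelAmple_of_isAmple {X S : Scheme.{u}} (f : X ⟶ S) [QuasiCompact f] {L : X.Modules}
    (hA : CohB1.IsAmple L) : RelAmple.IsRelAmple f L :=
  ⟨inferInstance, fun V =>
    haveI := RelAmpleLib.compactSpace_preimage f V.1 V.2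
    InvRestrict.isAmple_restrict _ hA⟩

open Groth.Agent.Lib.Helper3 in
/-- a quasi-projective scheme over a base with an ample module has an ample module -/
theorem exists_isAmple_of_isQuasiProjective {X S : Scheme.{u}} (f : X ⟶ S)
    (hS : ∃ N : S.Modules, CohB1.IsAmple N) (h : RelProj.IsQuasiProjective f) :
    ∃ L : X.Modules, CohB1.IsAmple L := by
  obtain ⟨-, hqc, L, hL⟩ := h
  obtain ⟨N, hN⟩ := hS
  haveI := hqc
  obtain ⟨n₀, hn₀⟩ := TwistAmple.isAmple_tensor_pullback_pow f hN hL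
  exact ⟨_, hn₀ n₀ le_rfl⟩

end Groth.Agent.Lib.Helper3.QProj
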