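import Groth.Agent.Lib.Helper3.FreeSec
import Groth.Agent.Lib.Helper3.QCPush
import Groth.Prelude.Def_ClSub2

/-!
# The ideal module `ClSub.idealMod I` of a quasi-coherent ideal sheaf
-/

set_option autoImplicit false
universe u
open CategoryTheory CategoryTheory.Limits AlgebraicGeometry TopologicalSpace Opposite
open Scheme.Modules

namespace Groth.Agent.Lib.Helper3.IdealMod

open QCSec InvGen FreeSec

variable {X : Scheme.{u}} (I : X.IdealSheafData)

instance isQuasicoherent_quotMod :
    SheafOfModules.IsQuasicoherent (R := X.ringCatSheaf) (ClSub.quotMod I) :=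
  QCSec.isQuasicoherent_pushforward I.subschemeι (Coh.structureModule I.subscheme)

instance isQuasicoherent_idealMod :
    SheafOfModules.IsQuasicoherent (R := X.ringCatSheaf) (ClSub.idealMod I) :=
  QCProps.isQuasicoherent_kernel (ClSub.toSubscheme I)

instance mono_idealModι : Mono (ClSub.idealModι I) :=
  inferInstanceAs (Mono (kernel.ι (ClSub.toSubscheme I)))

theorem unitToPush_app {Y : Scheme.{u}} (f : X ⟶ Y) (W : Y.Opens) (g : Γ(Y, W)) :
    (ClSub.unitToPush f).app W (ofFun W g) = ofFun (f ⁻¹ᵁ W) (f.app W g) := rfl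

/-- the function underlying a section of the ideal module -/
noncomputable def val {W : X.Opens} (s : Γ(ClSub.idealMod I, W)) : Γ(X, W) :=
  toFun W ((ClSub.idealModι I).app W s)

theorem val_injective (W : X.Opens) : Function.Injective (val I (W := W)) :=
  QCExact.injective_sections (ClSub.idealModι I) W

theorem app_val {W : X.Opens} (s : Γ(ClSub.idealMod I, W)) :
    I.subschemeι.app W (val I s) = 0 := by
  have h : (ClSub.idealModι I ≫ ClSub.toSubscheme I).app W s = 0 := by
    have : ClSub.idealModι I ≫ ClSub.toSubscheme I = 0 := kernel.condition _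
    rw [this]; rfl
  exact h

theorem exists_val_eq {W : X.Opens} (g : Γ(X, W)) (hg : I.subschemeι.app W g = 0) :
    ∃ s : Γ(ClSub.idealMod I, W), val I s = g := by
  let S : ShortComplex X.Modules :=
    ShortComplex.mk (kernel.ι (ClSub.toSubscheme I)) (ClSub.toSubscheme I) (kernel.condition _)
  have hS : S.Exact := ShortComplex.exact_kernel _
  haveI : Mono S.f := inferInstanceAs (Mono (kernel.ι (ClSub.toSubscheme I)))
  exact QCExact.exact_sections S hS W (ofFun W g) hg

theorem val_res {A B : X.Opens} (h : A ≤ B) (s : Γ(ClSub.idealMod I, B)) :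
    val I (res _ h s) = rres X h (val I s) := by
  change toFun A ((ClSub.idealModι I).app A (res _ h s)) = _
  rw [QCExact.app_res']
  rfl

theorem val_smul {W : X.Opens} (a : Γ(X, W)) (s : Γ(ClSub.idealMod I, W)) :
    val I (a • s) = a * val I s := by
  change toFun W ((ClSub.idealModι I).app W (a • s)) = _
  rw [Scheme.Modules.Hom.app_smul]
  rfl

theorem val_add {W : X.Opens} (s t : Γ(ClSub.idealMod I, W)) :
    val I (s + t) = val I s + val I t := by
  change toFun W ((ClSub.idealModι I).app W (s + t)) = _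
  rw [map_add]
  rfl

end Groth.Agent.Lib.Helper3.IdealMod

namespace Groth.Agent.Lib.Helper3.IdealMod

open QCSec InvGen FreeSec InvAmple

variable {X : Scheme.{u}}

/-- A module locally spanned by global sections `σ`, with a local generator `e` near `x`:
some `σ i` has unit coordinate at `x`. -/
theorem exists_unit_coord {M : X.Modules} {I : Type u} {σ : I → Γ(M, ⊤)}
    (h : IsLocSpannedBy M σ) {V : X.Opens} {e : Γ(M, V)} (hg : IsGen M V e) (x : X) (hxV : x ∈ V) :
    ∃ (i : I) (W : X.Opens) (hWV : W ≤ V) (a : Γ(X, W)), x ∈ X.basicOpen a ∧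
      a • res M hWV e = res M (le_top : W ≤ ⊤) (σ i) := by
  obtain ⟨W, hWV, hxW, hspan⟩ := h V e x hxV
  have hgW : IsGen M W (res M hWV e) := hg.mono hWV
  let P : Submodule Γ(X, W) Γ(M, W) :=
    { carrier := {m | ∀ a : Γ(X, W), a • res M hWV e = m →
        X.presheaf.germ W x hxW a ∈ IsLocalRing.maximalIdeal (X.presheaf.stalk x)}
      add_mem' := by
        intro m₁ m₂ h₁ h₂ a ha
        obtain ⟨a₁, ha₁⟩ := hgW.self.exists_coord m₁
        obtain ⟨a₂, ha₂⟩ := hgW.self.exists_coord m₂
        have : a = a₁ + a₂ := hgW.self.smul_inj (by rw [ha, add_smul, ha₁, ha₂])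
        rw [this, map_add]
        exact Ideal.add_mem _ (h₁ a₁ ha₁) (h₂ a₂ ha₂)
      zero_mem' := by
        intro a ha
        rw [hgW.self.eq_zero ha, map_zero]
        exact Ideal.zero_mem _
      smul_mem' := by
        intro r m hm a ha
        obtain ⟨a₁, ha₁⟩ := hgW.self.exists_coord m
        have : a = r * a₁ := hgW.self.smul_inj (by rw [ha, mul_smul, ha₁])
        rw [this, map_mul]
        exact Ideal.mul_mem_left _ _ (hm a₁ ha₁) }
  by_contra hcon
  push Not at hcon
  have hle : Submodule.span Γ(X, W) (Set.range (fun i => res M (le_top : W ≤ ⊤) (σ i))) ≤ P := by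
    rw [Submodule.span_le]
    rintro _ ⟨i, rfl⟩
    intro a ha
    rw [IsLocalRing.mem_maximalIdeal, mem_nonunits_iff]
    intro hu
    exact hcon i W hWV a ((Scheme.mem_basicOpen _ _ _ hxW).mpr hu) ha
  have h1 : res M hWV e ∈ P := hle hspan
  have h2 := h1 1 (one_smul _ _)
  rw [map_one] at h2
  exact (IsLocalRing.mem_maximalIdeal _).mp h2 isUnit_one

section Sub

variable {J : X.Modules} (j : J ⟶ Coh.structureModule X)

/-- the function underlying a section of a submodule of `O_X` -/
noncomputable def valOf {W : X.Opens} (s : Γ(J, W)) : Γ(X, W) := toFun W (j.app W s)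

theorem valOf_injective [Mono j] (W : X.Opens) : Function.Injective (valOf j (W := W)) :=
  QCExact.injective_sections j W

theorem valOf_res {A B : X.Opens} (h : A ≤ B) (s : Γ(J, B)) :
    valOf j (res _ h s) = rres X h (valOf j s) := by
  change toFun A (j.app A (res _ h s)) = _
  rw [QCExact.app_res']
  rfl

theorem valOf_smul {W : X.Opens} (a : Γ(X, W)) (s : Γ(J, W)) :
    valOf j (a • s) = a * valOf j s := by
  change toFun W (j.app W (a • s)) = _
  rw [Scheme.Modules.Hom.app_smul]
  rfl

/-- a section with value `1` generates -/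
theorem isGen_of_valOf_eq_one [Mono j] {U : X.Opens} (e : Γ(J, U)) (he : valOf j e = 1) :
    IsGen J U e := by
  intro V hV
  have he' : valOf j (res J hV e) = 1 := by rw [valOf_res, he, rres_one]
  constructor
  · intro a b hab
    have := congrArg (valOf j) hab
    simpa [valOf_smul, he'] using this
  · intro s
    refine ⟨valOf j s, valOf_injective j V ?_⟩
    simp [valOf_smul, he']

/-- a globally generated submodule of `O_X` which contains `1` near `x` has a global section not
vanishing at `x` -/
theorem exists_global_of_isGloballyGenerated [Mono j] (hgg : Curv2.IsGloballyGenerated J)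
    {U : X.Opens} (e : Γ(J, U)) (he : valOf j e = 1) (x : X) (hx : x ∈ U) :
    ∃ σ : Γ(J, ⊤), x ∈ X.basicOpen (valOf j σ) := by
  obtain ⟨I, σ, hσ⟩ := exists_isLocSpannedBy_of_isGloballyGenerated hgg
  obtain ⟨i, W, hWV, a, hxa, ha⟩ := exists_unit_coord hσ (isGen_of_valOf_eq_one j e he) x hx
  refine ⟨σ i, ?_⟩
  have h1 := congrArg (valOf j) ha
  rw [valOf_smul, valOf_res, valOf_res, he, rres_one, mul_one] at h1
  rw [h1] at hxa
  have h2 : X.basicOpen (rres X (le_top : W ≤ ⊤) (valOf j (σ i))) = W ⊓ X.basicOpen (valOf j (σ i)) :=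
    Scheme.basicOpen_res _ _ _
  rw [h2] at hxa
  exact hxa.2

end Sub

end Groth.Agent.Lib.Helper3.IdealMod

namespace Groth.Agent.Lib.Helper3.IdealMod

open QCSec InvGen FreeSec InvAmple

variable {X : Scheme.{u}} (I : X.IdealSheafData)

theorem val_eq_valOf {W : X.Opens} (s : Γ(ClSub.idealMod I, W)) :
    val I s = valOf (ClSub.idealModι I) s := rfl

/-- functions in the ideal vanish on the support -/
theorem disjoint_basicOpen_of_app_eq_zero {W : X.Opens} (g : Γ(X, W))
    (hg : I.subschemeι.app W g = 0) : Disjoint (X.basicOpen g : Set X) (I.support : Set X) := by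
  rw [Set.disjoint_left]
  intro x hx hxs
  rw [← I.range_subschemeι] at hxs
  obtain ⟨z, rfl⟩ := hxs
  have h1 : z ∈ I.subschemeι ⁻¹ᵁ X.basicOpen g := hx
  rw [Scheme.preimage_basicOpen, hg, Scheme.basicOpen_zero] at h1
  exact h1

theorem disjoint_basicOpen_val {W : X.Opens} (s : Γ(ClSub.idealMod I, W)) :
    Disjoint (X.basicOpen (val I s) : Set X) (I.support : Set X) :=
  disjoint_basicOpen_of_app_eq_zero I _ (app_val I s)

/-- away from the support, the ideal contains `1` -/
theorem exists_val_eq_one {U : X.Opens} (hU : Disjoint (U : Set X) (I.support : Set X)) :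
    ∃ e : Γ(ClSub.idealMod I, U), val I e = 1 := by
  apply exists_val_eq I
  have h1 : I.subschemeι ⁻¹ᵁ U = ⊥ := by
    ext z
    simp only [Opens.coe_bot, Set.mem_empty_iff_false, iff_false]
    intro hz
    exact Set.disjoint_left.mp hU hz (I.range_subschemeι ▸ Set.mem_range_self z)
  haveI : Subsingleton Γ(I.subscheme, I.subschemeι ⁻¹ᵁ U) := by
    rw [h1]
    exact CommRingCat.subsingleton_of_isTerminal (I.subscheme.sheaf.isTerminalOfEmpty)
  exact Subsingleton.elim _ _

end Groth.Agent.Lib.Helper3.IdealMod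

namespace Groth.Agent.Lib.Helper3.IdealMod

variable {X : Scheme.{u}}

/-- a global function which vanishes off the affine open `U` has an affine basic open -/
theorem isAffineOpen_basicOpen_of_disjoint {U : X.Opens} (hU : IsAffineOpen U)
    (f : Γ(X, ⊤)) (hf : Disjoint (X.basicOpen f : Set X) ((U : Set X)ᶜ)) :
    IsAffineOpen (X.basicOpen f) := by
  have hle : X.basicOpen f ≤ U := by
    intro x hx
    by_contra hxU
    exact Set.disjoint_left.mp hf hx hxU
  have h2 : X.basicOpen (X.presheaf.map (homOfLE (le_top : U ≤ ⊤)).op f) = U ⊓ X.basicOpen f :=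
    Scheme.basicOpen_res _ _ _
  have h3 : U ⊓ X.basicOpen f = X.basicOpen f := inf_eq_right.mpr hle
  rw [← h3, ← h2]
  exact hU.basicOpen _

end Groth.Agent.Lib.Helper3.IdealMod

namespace Groth.Agent.Lib.Helper3.IdealMod

open QCSec InvGen FreeSec InvAmple

theorem surjective_app_of_isIso_restrict {X : Scheme.{u}} {M N : X.Modules} (φ : M ⟶ N)
    (U : X.Opens) [IsIso ((restrictFunctor U.ι).map φ)] {V : X.Opens} (hV : V ≤ U) :
    Function.Surjective (φ.app V) := by
  intro t
  have hiso : IsIso (((restrictFunctor U.ι).map φ).app (U.ι ⁻¹ᵁ V)) :=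
    Scheme.Modules.Hom.isIso_iff_isIso_app.mp inferInstance _
  have hbij := (ConcreteCategory.isIso_iff_bijective _).mp hiso
  have hVe : U.ι ''ᵁ (U.ι ⁻¹ᵁ V) = V := ι_image_preimage_of_le hV
  obtain ⟨s', hs'⟩ := hbij.2 (res N (le_of_eq hVe) t)
  refine ⟨res M (le_of_eq hVe.symm) (show Γ(M, U.ι ''ᵁ (U.ι ⁻¹ᵁ V)) from s'), ?_⟩
  rw [QCExact.app_res']
  have h2 : φ.app (U.ι ''ᵁ (U.ι ⁻¹ᵁ V)) s' = res N (le_of_eq hVe) t := hs'
  rw [h2, res_res, res_self]

/-- for an affine open `U ∋ x` of a qcqs scheme there is a finite type quasi-coherent ideal `J ⊆ O_X`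
vanishing off `U` and containing `1` on `U` -/
theorem exists_finiteType_ideal {X : Scheme.{u}} [CompactSpace X] [QuasiSeparatedSpace X]
    {U : X.Opens} (hU : IsAffineOpen U) :
    ∃ (J : X.Modules) (j : J ⟶ Coh.structureModule X), Mono j ∧ Coh.IsQCoh J ∧ CohB1.IsFT J ∧
      (∃ e : Γ(J, U), valOf j e = 1) ∧
      ∀ (W' : X.Opens) (σ : Γ(J, W')),
        Disjoint (X.basicOpen (valOf j σ) : Set X) ((U : Set X)ᶜ) := by
  let Z : TopologicalSpace.Closeds X := ⟨(U : Set X)ᶜ, U.isOpen.isClosed_compl⟩
  let I := Scheme.IdealSheafData.vanishingIdeal Z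
  have hsupp : (I.support : Set X) = (U : Set X)ᶜ :=
    Scheme.IdealSheafData.coe_support_vanishingIdeal Z
  obtain ⟨e, he⟩ := exists_val_eq_one I (U := U) (by rw [hsupp]; exact disjoint_compl_right)
  have hg : IsGen (ClSub.idealMod I) U e := isGen_of_valOf_eq_one (ClSub.idealModι I) e he
  haveI := isIso_homOfSec hg
  haveI : ((ClSub.idealMod I).restrict U.ι).IsFiniteType :=
    QCProps.isFiniteType_of_iso (asIso (homOfSec (ClSub.idealMod I) U e))
  haveI : ((ClSub.idealMod I).restrict U.ι).IsQuasicoherent :=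
    Scheme.Modules.isQuasicoherent_restrictFunctor U.ι (ClSub.idealMod I)
  obtain ⟨F, i, eF, hmono, hqc, hft, hcomp⟩ := QCExtend.exists_finiteType_extension U hU.isCompact
    (ClSub.idealMod I) ((ClSub.idealMod I).restrict U.ι) inferInstance (𝟙 _)
  haveI := hmono
  haveI : IsIso ((restrictFunctor U.ι).map i) := by
    rw [← hcomp, Category.comp_id]; infer_instance
  refine ⟨F, i ≫ ClSub.idealModι I, mono_comp _ _, hqc, hft, ?_, ?_⟩
  · obtain ⟨e', he'⟩ := surjective_app_of_isIso_restrict i U le_rfl e
    refine ⟨e', ?_⟩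
    change val I (i.app U e') = 1
    rw [he', he]
  · intro W' σ
    rw [← hsupp]
    exact disjoint_basicOpen_val I (i.app W' σ)


end Groth.Agent.Lib.Helper3.IdealMod
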