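import Groth.Agent.Lib.Helper3.VAMain

/-!
# `O(1)` on projective space over an affine scheme is ample
-/

set_option autoImplicit false
set_option linter.unusedSectionVars false
universe u
open CategoryTheory CategoryTheory.Limits AlgebraicGeometry TopologicalSpace Opposite
open Scheme.Modules

namespace Groth.Agent.Lib.Helper3.VAConv

open QCSec InvGen InvTensor InvTwist InvMonoidal InvCoh InvAmple SecCoord ProjOfSec ProjUniq VACore
  VASegre GlobGen VAMain TwistProj PbBasic PbAmple

theorem exists_mem_basicOpen_X (R : Type u) [CommRing R] (m : ℕ)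
    (x : Proj (CohB1.polyGrading m R)) :
    ∃ j : Fin (m + 1), x ∈ Proj.basicOpen (CohB1.polyGrading m R)
      (MvPolynomial.X j : MvPolynomial (Fin (m + 1)) R) := by
  have hadj : Algebra.adjoin R (Set.range
      (fun j : Fin (m + 1) => (MvPolynomial.X j : MvPolynomial (Fin (m + 1)) R))) = ⊤ :=
    MvPolynomial.adjoin_range_X
  exact exists_mem_basicOpen_of_adjoin (𝒜 := CohB1.polyGrading m R)
    (fun j : Fin (m + 1) => (MvPolynomial.X j : MvPolynomial (Fin (m + 1)) R))
    (fun _ => 1) (fun j => MvPolynomial.isHomogeneous_X R j) hadj x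

theorem isAmple_twist_projSpace (R : Type u) [CommRing R] (m : ℕ) :
    CohB1.IsAmple (Twist.twist (CohB1.polyGrading m R) ((1 : ℕ) : ℤ)) := by
  haveI : CompactSpace (Proj (CohB1.polyGrading m R)) :=
    compactSpace_of_finite_affine_cover (ι := Fin (m + 1))
      (fun j => Proj.basicOpen (CohB1.polyGrading m R)
        (MvPolynomial.X j : MvPolynomial (Fin (m + 1)) R))
      (fun j => Proj.isAffineOpen_basicOpen _ _ (MvPolynomial.isHomogeneous_X R j) Nat.one_pos)
      (exists_mem_basicOpen_X R m)
  refine isAmple_twist_of_cover Nat.one_pos (fun x => ?_)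
  obtain ⟨j, hj⟩ := exists_mem_basicOpen_X R m x
  exact ⟨⟨MvPolynomial.X j, MvPolynomial.isHomogeneous_X R j⟩, hj⟩

theorem isAmple_twistOver (m : ℕ) (Y : Scheme.{u}) [IsAffine Y] :
    CohB1.IsAmple (Twist.twistOver m Y 1) := by
  let R := ULift.{u} ℤ
  have hA := isAmple_twist_projSpace R m
  let p := pullback.fst (CohB1.ProjSpace.toSpec m R) (specULiftZIsTerminal.from Y)
  have haff : ∀ W : (CohB1.ProjSpace m R).Opens, IsAffineOpen W → IsAffineOpen (p ⁻¹ᵁ W) := by
    intro W hW
    have := isAffineOpen_pullback_inf (f := CohB1.ProjSpace.toSpec m R)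
      (g := specULiftZIsTerminal.from Y) hW (isAffineOpen_top Y) (isAffineOpen_top _)
      le_top le_top
    rwa [Scheme.Hom.preimage_top, inf_top_eq] at this
  haveI : CompactSpace ↥(Limits.pullback (CohB1.ProjSpace.toSpec m R)
      (specULiftZIsTerminal.from Y)) :=
    compactSpace_of_finite_affine_cover (ι := Fin (m + 1))
      (fun j => p ⁻¹ᵁ Proj.basicOpen (CohB1.polyGrading m R)
        (MvPolynomial.X j : MvPolynomial (Fin (m + 1)) R))
      (fun j => haff _
        (Proj.isAffineOpen_basicOpen _ _ (MvPolynomial.isHomogeneous_X R j) Nat.one_pos))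
      (fun z => exists_mem_basicOpen_X R m (p z))
  change CohB1.IsAmple ((Scheme.Modules.pullback p).obj
    (Twist.twist (CohB1.polyGrading m R) ((1 : ℕ) : ℤ)))
  apply isAmple_of_secLocus (isInvertible_pullback p hA.1)
  intro z
  obtain ⟨W, hW, hzW, hWa⟩ := exists_secLocus_of_isAmple hA (p z)
  exact ⟨p ⁻¹ᵁ W, secLocus_pullback p hA.1 hW, hzW, haff W hWa⟩

/-- an invertible module some positive power of which is pulled back from `O(1)` along an
immersion into projective space over an affine scheme is ample -/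
theorem isAmple_of_isRelVeryAmplePn_pow {X Y : Scheme.{u}} [IsAffine Y] (q : X ⟶ Y)
    [CompactSpace X] {L : X.Modules} (hL : PicF.IsInvertible L) {n : ℕ} (hn : 0 < n)
    (h : RelAmple.IsRelVeryAmplePn q (CohB1.tensorPow L n)) : CohB1.IsAmple L := by
  obtain ⟨m, i, hi, -, ⟨τ⟩⟩ := h
  haveI := hi
  have h1 := isAmple_pullback_of_isEmbedding i (Scheme.Hom.isEmbedding i) (isAmple_twistOver m Y)
  exact (isAmple_pow_iff hL hn).mpr (isAmple_of_iso τ.symm h1)

end Groth.Agent.Lib.Helper3.VAConv
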