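import Groth.Agent.Lib.Helper3.InvTensor

/-!
# Monoidal structure isomorphisms for `CohB1.tensorMod`
-/

set_option autoImplicit false
universe u
open CategoryTheory CategoryTheory.Limits AlgebraicGeometry TopologicalSpace Opposite
open Scheme.Modules TensorProduct MonoidalCategory

namespace Groth.Agent.Lib.Helper3.InvMonoidal

open QCSec InvGen InvTensor

variable {X : Scheme.{u}}

/-- the image of a section of a presheaf of modules in its sheafification -/
noncomputable def uu (P : X.PresheafOfModules) (U : X.Opens) (x : P.obj (op U)) :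
    Γ((CohB1.sheafifyMod X).obj P, U) :=
  (((QCExact.adjSh X).unit.app P).app (op U)).hom x

theorem map_uu {P P' : X.PresheafOfModules} (φ : P ⟶ P') (U : X.Opens) (x : P.obj (op U)) :
    ((CohB1.sheafifyMod X).map φ).app U (uu P U x) = uu P' U ((φ.app (op U)).hom x) := by
  have natU := congrArg (fun ψ => (PresheafOfModules.Hom.app ψ (op U)).hom x)
    ((QCExact.adjSh X).unit.naturality φ)
  exact natU.symm

theorem tm_eq_uu (M N : X.Modules) (U : X.Opens) (m : Γ(M, U)) (n : Γ(N, U)) :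
    tm M N U m n = uu (show X.PresheafOfModules from CohB1.tensorPre M N) U
      ((show (CohB1.toPMod M).obj (op U) from m) ⊗ₜ[Rg X U]
        (show (CohB1.toPMod N).obj (op U) from n)) := rfl

/-- the unit of sheafification as a morphism in `PMod X` -/
noncomputable def eta (M N : X.Modules) :
    CohB1.toPMod M ⊗ CohB1.toPMod N ⟶ CohB1.toPMod (CohB1.tensorMod M N) :=
  SecTwist.toTensor M N

theorem eta_app (M N : X.Modules) (U : X.Opens) (m : Γ(M, U)) (n : Γ(N, U)) :
    ((eta M N).app (op U)).hom ((show (CohB1.toPMod M).obj (op U) from m) ⊗ₜ[Rg X U]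
        (show (CohB1.toPMod N).obj (op U) from n)) = tm M N U m n := rfl

theorem locSurj_eta (M N : X.Modules) :
    Helper13.TensorLocal.LocSurj (Opens.grothendieckTopology X) (eta M N) :=
  Helper13.TensorLocal.locSurj_unit (J := Opens.grothendieckTopology X)
    (𝟙 X.ringCatSheaf.obj) (show X.PresheafOfModules from CohB1.tensorPre M N)

theorem locInj_eta (M N : X.Modules) :
    Helper13.TensorLocal.LocInj (Opens.grothendieckTopology X) (eta M N) :=
  Helper13.TensorLocal.locInj_unit (J := Opens.grothendieckTopology X)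
    (𝟙 X.ringCatSheaf.obj) (show X.PresheafOfModules from CohB1.tensorPre M N)

/-- sheafification applied to a morphism of `PMod X` -/
noncomputable def aMap {P Q : CohB1.PMod X} (φ : P ⟶ Q) :
    (CohB1.sheafifyMod X).obj (show X.PresheafOfModules from P) ⟶
      (CohB1.sheafifyMod X).obj (show X.PresheafOfModules from Q) :=
  (CohB1.sheafifyMod X).map (show (show X.PresheafOfModules from P) ⟶
    (show X.PresheafOfModules from Q) from φ)

theorem aMap_comp {P Q R : CohB1.PMod X} (φ : P ⟶ Q) (ψ : Q ⟶ R) :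
    aMap (φ ≫ ψ) = aMap φ ≫ aMap ψ :=
  (CohB1.sheafifyMod X).map_comp _ _

theorem aMap_id (P : CohB1.PMod X) : aMap (𝟙 P) = 𝟙 _ :=
  (CohB1.sheafifyMod X).map_id _

instance isIso_aMap {P Q : CohB1.PMod X} (φ : P ⟶ Q) [IsIso φ] : IsIso (aMap φ) := by
  refine ⟨aMap (inv φ), ?_, ?_⟩
  · rw [← aMap_comp, IsIso.hom_inv_id, aMap_id]
  · rw [← aMap_comp, IsIso.inv_hom_id, aMap_id]

theorem aMap_uu {P Q : CohB1.PMod X} (φ : P ⟶ Q) (U : X.Opens) (x : P.obj (op U)) :
    (aMap φ).app U (uu (show X.PresheafOfModules from P) U x) =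
      uu (show X.PresheafOfModules from Q) U ((φ.app (op U)).hom x) :=
  map_uu _ U x

theorem isIso_aMap_whiskerRight (M N : X.Modules) (K : CohB1.PMod X) :
    IsIso (aMap (eta M N ▷ K)) := by
  obtain ⟨hs, hi⟩ := Helper13.TensorLocal.locBij_whiskerRight (J := Opens.grothendieckTopology X)
    (R := X.sheaf.obj) (eta M N) (locSurj_eta M N) (locInj_eta M N) K
  exact Helper13.TensorLocal.isIso_sheafification_map (J := Opens.grothendieckTopology X)
    (𝟙 X.ringCatSheaf.obj) _ hs hi

theorem isIso_aMap_whiskerLeft (M N : X.Modules) (K : CohB1.PMod X) :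
    IsIso (aMap (K ◁ eta M N)) := by
  have h : K ◁ eta M N = (β_ _ K).inv ≫ eta M N ▷ K ≫ (β_ _ K).hom := by
    rw [BraidedCategory.braiding_naturality_left, Iso.inv_hom_id_assoc]
  rw [h, aMap_comp, aMap_comp]
  haveI := isIso_aMap_whiskerRight M N K
  infer_instance


theorem inv_app_app {M N : X.Modules} (f : M ⟶ N) [IsIso f] (U : X.Opens) (z : Γ(M, U)) :
    (inv f).app U (f.app U z) = z := by
  have : (f ≫ inv f).app U z = z := by rw [IsIso.hom_inv_id]; rfl
  exact this

theorem iso_inv_hom_app {M N : X.Modules} (e : M ≅ N) (U : X.Opens) (z : Γ(M, U)) :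
    e.inv.app U (e.hom.app U z) = z := by
  have : (e.hom ≫ e.inv).app U z = z := by rw [Iso.hom_inv_id]; rfl
  exact this

theorem iso_hom_inv_app {M N : X.Modules} (e : M ≅ N) (U : X.Opens) (z : Γ(N, U)) :
    e.hom.app U (e.inv.app U z) = z := by
  have : (e.inv ≫ e.hom).app U z = z := by rw [Iso.inv_hom_id]; rfl
  exact this

/-! ### functoriality -/

/-- functoriality of the tensor product -/
noncomputable def tensorMap {M M' N N' : X.Modules} (f : M ⟶ M') (g : N ⟶ N') :
    CohB1.tensorMod M N ⟶ CohB1.tensorMod M' N' :=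
  aMap ((show CohB1.toPMod M ⟶ CohB1.toPMod M' from f.val) ⊗ₘ
    (show CohB1.toPMod N ⟶ CohB1.toPMod N' from g.val))

theorem tensorMap_tm {M M' N N' : X.Modules} (f : M ⟶ M') (g : N ⟶ N') (U : X.Opens)
    (m : Γ(M, U)) (n : Γ(N, U)) :
    (tensorMap f g).app U (tm M N U m n) = tm M' N' U (f.app U m) (g.app U n) := by
  rw [tm_eq_uu]
  exact aMap_uu _ U _

theorem tensorMap_id (M N : X.Modules) : tensorMap (𝟙 M) (𝟙 N) = 𝟙 _ := by
  unfold tensorMap
  have : ((show CohB1.toPMod M ⟶ CohB1.toPMod M from (𝟙 M : M ⟶ M).val) ⊗ₘ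
      (show CohB1.toPMod N ⟶ CohB1.toPMod N from (𝟙 N : N ⟶ N).val)) =
      𝟙 (CohB1.toPMod M ⊗ CohB1.toPMod N) := MonoidalCategory.id_tensorHom_id _ _
  rw [this]
  exact aMap_id _

theorem tensorMap_comp {M M' M'' N N' N'' : X.Modules} (f : M ⟶ M') (f' : M' ⟶ M'')
    (g : N ⟶ N') (g' : N' ⟶ N'') :
    tensorMap (f ≫ f') (g ≫ g') = tensorMap f g ≫ tensorMap f' g' := by
  unfold tensorMap
  have h : ((show CohB1.toPMod M ⟶ CohB1.toPMod M'' from (f ≫ f').val) ⊗ₘ
      (show CohB1.toPMod N ⟶ CohB1.toPMod N'' from (g ≫ g').val)) =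
      ((show CohB1.toPMod M ⟶ CohB1.toPMod M' from f.val) ⊗ₘ
        (show CohB1.toPMod N ⟶ CohB1.toPMod N' from g.val)) ≫
      ((show CohB1.toPMod M' ⟶ CohB1.toPMod M'' from f'.val) ⊗ₘ
        (show CohB1.toPMod N' ⟶ CohB1.toPMod N'' from g'.val)) :=
    (MonoidalCategory.tensorHom_comp_tensorHom _ _ _ _).symm
  exact (congrArg aMap h).trans (aMap_comp _ _)

/-- the tensor product of two isomorphisms -/
noncomputable def tensorMapIso {M M' N N' : X.Modules} (e : M ≅ M') (e' : N ≅ N') :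
    CohB1.tensorMod M N ≅ CohB1.tensorMod M' N' where
  hom := tensorMap e.hom e'.hom
  inv := tensorMap e.inv e'.inv
  hom_inv_id := by rw [← tensorMap_comp, Iso.hom_inv_id, Iso.hom_inv_id, tensorMap_id]
  inv_hom_id := by rw [← tensorMap_comp, Iso.inv_hom_id, Iso.inv_hom_id, tensorMap_id]

theorem tensorMapIso_hom_tm {M M' N N' : X.Modules} (e : M ≅ M') (e' : N ≅ N') (U : X.Opens)
    (m : Γ(M, U)) (n : Γ(N, U)) :
    (tensorMapIso e e').hom.app U (tm M N U m n) = tm M' N' U (e.hom.app U m) (e'.hom.app U n) :=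
  tensorMap_tm e.hom e'.hom U m n

/-! ### associator, braiding, unitors -/

/-- the associator -/
noncomputable def assoc (M N K : X.Modules) :
    CohB1.tensorMod (CohB1.tensorMod M N) K ≅ CohB1.tensorMod M (CohB1.tensorMod N K) :=
  haveI := isIso_aMap_whiskerRight M N (CohB1.toPMod K)
  haveI := isIso_aMap_whiskerLeft N K (CohB1.toPMod M)
  (asIso (aMap (eta M N ▷ CohB1.toPMod K)) :).symm ≪≫
    (asIso (aMap (α_ (CohB1.toPMod M) (CohB1.toPMod N) (CohB1.toPMod K)).hom) :) ≪≫
    (asIso (aMap (CohB1.toPMod M ◁ eta N K)) :)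

theorem assoc_hom_tm (M N K : X.Modules) (U : X.Opens) (m : Γ(M, U)) (n : Γ(N, U))
    (k : Γ(K, U)) :
    (assoc M N K).hom.app U (tm _ K U (tm M N U m n) k) = tm M _ U m (tm N K U n k) := by
  haveI := isIso_aMap_whiskerRight M N (CohB1.toPMod K)
  haveI := isIso_aMap_whiskerLeft N K (CohB1.toPMod M)
  let x : ((CohB1.toPMod M ⊗ CohB1.toPMod N) ⊗ CohB1.toPMod K).obj (op U) :=
    ((show (CohB1.toPMod M).obj (op U) from m) ⊗ₜ[Rg X U]
      (show (CohB1.toPMod N).obj (op U) from n)) ⊗ₜ[Rg X U]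
      (show (CohB1.toPMod K).obj (op U) from k)
  have h1 : (aMap (eta M N ▷ CohB1.toPMod K)).app U (uu _ U x) =
      tm _ K U (tm M N U m n) k := aMap_uu _ U x
  have h2 : (aMap (α_ (CohB1.toPMod M) (CohB1.toPMod N) (CohB1.toPMod K)).hom).app U (uu _ U x) =
      uu _ U ((show (CohB1.toPMod M).obj (op U) from m) ⊗ₜ[Rg X U]
      ((show (CohB1.toPMod N).obj (op U) from n) ⊗ₜ[Rg X U]
      (show (CohB1.toPMod K).obj (op U) from k))) := aMap_uu _ U x
  have h3 : (aMap (CohB1.toPMod M ◁ eta N K)).app U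
      (uu _ U ((show (CohB1.toPMod M).obj (op U) from m) ⊗ₜ[Rg X U]
      ((show (CohB1.toPMod N).obj (op U) from n) ⊗ₜ[Rg X U]
      (show (CohB1.toPMod K).obj (op U) from k)))) = tm M _ U m (tm N K U n k) :=
    aMap_uu _ U _
  rw [← h1]
  change (aMap (CohB1.toPMod M ◁ eta N K)).app U
    ((aMap (α_ (CohB1.toPMod M) (CohB1.toPMod N) (CohB1.toPMod K)).hom).app U
      ((inv (aMap (eta M N ▷ CohB1.toPMod K))).app U
        ((aMap (eta M N ▷ CohB1.toPMod K)).app U (uu _ U x)))) = _
  rw [inv_app_app, h2]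
  exact h3

theorem assoc_inv_tm (M N K : X.Modules) (U : X.Opens) (m : Γ(M, U)) (n : Γ(N, U))
    (k : Γ(K, U)) :
    (assoc M N K).inv.app U (tm M _ U m (tm N K U n k)) = tm _ K U (tm M N U m n) k := by
  rw [← assoc_hom_tm, iso_inv_hom_app]

/-- the braiding -/
noncomputable def braid (M N : X.Modules) : CohB1.tensorMod M N ≅ CohB1.tensorMod N M :=
  (asIso (aMap (β_ (CohB1.toPMod M) (CohB1.toPMod N)).hom) :)

theorem braid_hom_tm (M N : X.Modules) (U : X.Opens) (m : Γ(M, U)) (n : Γ(N, U)) :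
    (braid M N).hom.app U (tm M N U m n) = tm N M U n m := by
  rw [tm_eq_uu]
  exact aMap_uu _ U _

theorem unitorR_hom_tm (F : X.Modules) (U : X.Opens) (t : Γ(F, U)) (r : Γ(X, U)) :
    (SecTwist.unitorR F).hom.app U (tm F (Coh.structureModule X) U t (ofFun U r)) = r • t :=
  SecTwist.unitorR_tmul F U t r

/-- the left unitor -/
noncomputable def unitorL (F : X.Modules) : CohB1.tensorMod (Coh.structureModule X) F ≅ F :=
  braid _ F ≪≫ SecTwist.unitorR F

theorem unitorL_hom_tm (F : X.Modules) (U : X.Opens) (t : Γ(F, U)) (r : Γ(X, U)) :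
    (unitorL F).hom.app U (tm (Coh.structureModule X) F U (ofFun U r) t) = r • t := by
  change (SecTwist.unitorR F).hom.app U ((braid _ F).hom.app U _) = _
  rw [braid_hom_tm, unitorR_hom_tm]


/-! ### tensor powers -/

/-- `L^a ⊗ L^b ≅ L^(a+b)` -/
noncomputable def powAdd (L : X.Modules) (a : ℕ) :
    (b : ℕ) → (CohB1.tensorMod (CohB1.tensorPow L a) (CohB1.tensorPow L b) ≅
      CohB1.tensorPow L (a + b))
  | 0 => SecTwist.unitorR (CohB1.tensorPow L a)
  | b + 1 => (assoc (CohB1.tensorPow L a) (CohB1.tensorPow L b) L).symm ≪≫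
      tensorMapIso (powAdd L a b) (Iso.refl L)

theorem powAdd_hom_lpow (L : X.Modules) (a b : ℕ) {U : X.Opens} (e : Γ(L, U)) :
    (powAdd L a b).hom.app U (tm _ _ U (lpow L e a) (lpow L e b)) = lpow L e (a + b) := by
  induction b with
  | zero =>
    change (SecTwist.unitorR (CohB1.tensorPow L a)).hom.app U
      (tm _ (Coh.structureModule X) U (lpow L e a) (ofFun U 1)) = _
    rw [unitorR_hom_tm, one_smul]
    rfl
  | succ b ih =>
    change (tensorMapIso (powAdd L a b) (Iso.refl L)).hom.app U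
      ((assoc (CohB1.tensorPow L a) (CohB1.tensorPow L b) L).inv.app U
        (tm _ _ U (lpow L e a) (tm _ _ U (lpow L e b) e))) = _
    rw [assoc_inv_tm, tensorMapIso_hom_tm, ih]
    rfl

/-- `(L^a)^k ≅ L^(a*k)` -/
noncomputable def powMul (L : X.Modules) (a : ℕ) :
    (k : ℕ) → (CohB1.tensorPow (CohB1.tensorPow L a) k ≅ CohB1.tensorPow L (a * k))
  | 0 => Iso.refl _
  | k + 1 => tensorMapIso (powMul L a k) (Iso.refl (CohB1.tensorPow L a)) ≪≫ powAdd L (a * k) a

theorem powMul_hom_lpow (L : X.Modules) (a k : ℕ) {U : X.Opens} (e : Γ(L, U)) :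
    (powMul L a k).hom.app U (lpow (CohB1.tensorPow L a) (lpow L e a) k) = lpow L e (a * k) := by
  induction k with
  | zero => rfl
  | succ k ih =>
    change (powAdd L (a * k) a).hom.app U
      ((tensorMapIso (powMul L a k) (Iso.refl (CohB1.tensorPow L a))).hom.app U
        (tm _ _ U (lpow (CohB1.tensorPow L a) (lpow L e a) k) (lpow L e a))) = _
    rw [tensorMapIso_hom_tm, ih]
    exact powAdd_hom_lpow L (a * k) a e

/-- transport along an equality of exponents -/
noncomputable def powCast (L : X.Modules) {n m : ℕ} (h : n = m) :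
    CohB1.tensorPow L n ≅ CohB1.tensorPow L m :=
  eqToIso (congrArg (CohB1.tensorPow L) h)

theorem powCast_hom_lpow (L : X.Modules) {n m : ℕ} (h : n = m) {U : X.Opens} (e : Γ(L, U)) :
    (powCast L h).hom.app U (lpow L e n) = lpow L e m := by
  subst h
  rfl

/-- `F ⊗ L^a ⊗ L^b ≅ F ⊗ L^(a+b)` -/
noncomputable def twistAdd (F L : X.Modules) (a b : ℕ) :
    CohB1.tensorMod (CohB1.tensorMod F (CohB1.tensorPow L a)) (CohB1.tensorPow L b) ≅
      CohB1.tensorMod F (CohB1.tensorPow L (a + b)) :=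
  assoc F _ _ ≪≫ tensorMapIso (Iso.refl F) (powAdd L a b)

theorem twistAdd_hom_tm (F L : X.Modules) (a b : ℕ) {U : X.Opens} (t : Γ(F, U)) (e : Γ(L, U)) :
    (twistAdd F L a b).hom.app U (tm _ _ U (tm _ _ U t (lpow L e a)) (lpow L e b)) =
      tm _ _ U t (lpow L e (a + b)) := by
  change (tensorMapIso (Iso.refl F) (powAdd L a b)).hom.app U
    ((assoc F _ _).hom.app U (tm _ _ U (tm _ _ U t (lpow L e a)) (lpow L e b))) = _
  rw [assoc_hom_tm, tensorMapIso_hom_tm, powAdd_hom_lpow]
  rfl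

/-! ### products and powers of global sections of tensor powers -/

/-- the product of sections of `L^a` and `L^b`, a section of `L^(a+b)` -/
noncomputable def mulSec {L : X.Modules} {a b : ℕ} (s : Coh.structureModule X ⟶ CohB1.tensorPow L a)
    (t : Coh.structureModule X ⟶ CohB1.tensorPow L b) :
    Coh.structureModule X ⟶ CohB1.tensorPow L (a + b) :=
  SecTwist.tmulHom s t ≫ (powAdd L a b).hom

theorem genLocus_mulSec {L : X.Modules} (hL : PicF.IsInvertible L) {a b : ℕ}
    (s : Coh.structureModule X ⟶ CohB1.tensorPow L a)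
    (t : Coh.structureModule X ⟶ CohB1.tensorPow L b) :
    CohB1.genLocus _ (mulSec s t) = CohB1.genLocus _ s ⊓ CohB1.genLocus _ t := by
  unfold mulSec
  rw [genLocus_comp_iso, genLocus_tmulHom (isInvertible_tensorPow hL a) (isInvertible_tensorPow hL b)]

theorem sec_mulSec {L : X.Modules} {a b : ℕ} (s : Coh.structureModule X ⟶ CohB1.tensorPow L a)
    (t : Coh.structureModule X ⟶ CohB1.tensorPow L b) (U : X.Opens) :
    sec (mulSec s t) U = (powAdd L a b).hom.app U (tm _ _ U (sec s U) (sec t U)) := by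
  unfold mulSec
  rw [sec_comp, sec_tmulHom]

theorem genLocus_id : CohB1.genLocus (Coh.structureModule X) (𝟙 _) = ⊤ := by
  apply le_antisymm le_top
  apply le_genLocus
  exact isGen_one ⊤

theorem genLocus_powHom {L : X.Modules} (hL : PicF.IsInvertible L)
    (s : Coh.structureModule X ⟶ L) (k : ℕ) :
    CohB1.genLocus _ (SecTwist.powHom s (k + 1)) = CohB1.genLocus _ s := by
  induction k with
  | zero =>
    change CohB1.genLocus _ (SecTwist.tmulHom (𝟙 _) s) = _
    rw [genLocus_tmulHom (isInvertible_structureModule X) hL, genLocus_id, top_inf_eq]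
  | succ k ih =>
    change CohB1.genLocus _ (SecTwist.tmulHom (SecTwist.powHom s (k + 1)) s) = _
    rw [genLocus_tmulHom (isInvertible_tensorPow hL (k + 1)) hL, ih, inf_idem]

/-- the `k`-th power of a section of `L^a`, a section of `L^(a*k)` -/
noncomputable def powSec {L : X.Modules} {a : ℕ} (s : Coh.structureModule X ⟶ CohB1.tensorPow L a)
    (k : ℕ) : Coh.structureModule X ⟶ CohB1.tensorPow L (a * k) :=
  SecTwist.powHom s k ≫ (powMul L a k).hom

theorem genLocus_powSec {L : X.Modules} (hL : PicF.IsInvertible L) {a : ℕ}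
    (s : Coh.structureModule X ⟶ CohB1.tensorPow L a) (k : ℕ) :
    CohB1.genLocus _ (powSec s (k + 1)) = CohB1.genLocus _ s := by
  unfold powSec
  rw [genLocus_comp_iso, genLocus_powHom (isInvertible_tensorPow hL a)]

/-- transport of a section along an equality of exponents -/
noncomputable def castSec {L : X.Modules} {n m : ℕ} (h : n = m)
    (s : Coh.structureModule X ⟶ CohB1.tensorPow L n) :
    Coh.structureModule X ⟶ CohB1.tensorPow L m :=
  s ≫ (powCast L h).hom

theorem genLocus_castSec {L : X.Modules} {n m : ℕ} (h : n = m)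
    (s : Coh.structureModule X ⟶ CohB1.tensorPow L n) :
    CohB1.genLocus _ (castSec h s) = CohB1.genLocus _ s := by
  unfold castSec
  rw [genLocus_comp_iso]


/-! ### more isomorphisms between tensor powers -/

/-- `O^{⊗ k} ≅ O` -/
noncomputable def powUnit (X : Scheme.{u}) :
    (k : ℕ) → (CohB1.tensorPow (Coh.structureModule X) k ≅ Coh.structureModule X)
  | 0 => Iso.refl _
  | k + 1 => SecTwist.unitorR (CohB1.tensorPow (Coh.structureModule X) k) ≪≫ powUnit X k

/-- functoriality of tensor powers for isomorphisms -/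
noncomputable def tensorPowIso {L M : X.Modules} (e : L ≅ M) :
    (k : ℕ) → (CohB1.tensorPow L k ≅ CohB1.tensorPow M k)
  | 0 => Iso.refl _
  | k + 1 => tensorMapIso (tensorPowIso e k) e

/-- `(A ⊗ B) ⊗ (C ⊗ D) ≅ (A ⊗ C) ⊗ (B ⊗ D)` -/
noncomputable def interchange (A B C D : X.Modules) :
    CohB1.tensorMod (CohB1.tensorMod A B) (CohB1.tensorMod C D) ≅
      CohB1.tensorMod (CohB1.tensorMod A C) (CohB1.tensorMod B D) :=
  assoc A B (CohB1.tensorMod C D) ≪≫
    tensorMapIso (Iso.refl A)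
      ((assoc B C D).symm ≪≫ tensorMapIso (braid B C) (Iso.refl D) ≪≫ assoc C B D) ≪≫
    (assoc A C (CohB1.tensorMod B D)).symm

/-- `(L ⊗ L')^{⊗ k} ≅ L^{⊗ k} ⊗ L'^{⊗ k}` -/
noncomputable def powTensor (L L' : X.Modules) :
    (k : ℕ) → (CohB1.tensorPow (CohB1.tensorMod L L') k ≅
      CohB1.tensorMod (CohB1.tensorPow L k) (CohB1.tensorPow L' k))
  | 0 => (SecTwist.unitorR (Coh.structureModule X)).symm
  | k + 1 => tensorMapIso (powTensor L L' k) (Iso.refl _) ≪≫
      interchange (CohB1.tensorPow L k) (CohB1.tensorPow L' k) L L'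

/-- `L ≅ L^{⊗ 1}` -/
noncomputable def powOne (L : X.Modules) : L ≅ CohB1.tensorPow L 1 :=
  (unitorL L).symm

end Groth.Agent.Lib.Helper3.InvMonoidal
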