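import Groth.Agent.Lib.Helper3.QCExtend
import Mathlib.Topology.NoetherianSpace
import Mathlib.Order.Zorn

/-!
# Extension of quasi-coherent submodules of finite type on schemes with locally Noetherian space
(EGA I 9.4.7 case a)

By Zorn's lemma on quasi-coherent submodules `K ⊆ H` which are of finite type on an open `W`.
-/

set_option autoImplicit false
universe u
open CategoryTheory CategoryTheory.Limits AlgebraicGeometry TopologicalSpace Opposite
open Scheme.Modules

namespace Groth.Agent.Lib.Helper3.QCExtendNoeth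

open QCSec QCExtend

variable {X : Scheme.{u}}

/-- The underlying space of `X` is locally Noetherian. -/
def LocNoeth (X : Scheme.{u}) : Prop :=
  ∀ x : X, ∃ U : X.Opens, x ∈ U ∧ NoetherianSpace (U : Set X)

theorem isCompact_inter (hX : LocNoeth X) (A : Set X) {O : Set X} (hO : IsCompact O) :
    IsCompact (A ∩ O) := by
  choose N hxN hN using hX
  obtain ⟨t, -, ht⟩ := hO.elim_nhds_subcover (fun x => (N x : Set X))
    (fun x _ => (N x).2.mem_nhds (hxN x))
  have h : A ∩ O = ⋃ x ∈ t, (A ∩ O ∩ (N x : Set X)) := by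
    ext y
    simp only [Set.mem_iUnion, Set.mem_inter_iff, exists_prop]
    constructor
    · rintro ⟨hyA, hyO⟩
      obtain ⟨x, hx, hyx⟩ := Set.mem_iUnion₂.mp (ht hyO)
      exact ⟨x, hx, ⟨hyA, hyO⟩, hyx⟩
    · rintro ⟨x, hx, ⟨hyA, hyO⟩, -⟩
      exact ⟨hyA, hyO⟩
  rw [h]
  exact t.isCompact_biUnion
    (fun x _ => (noetherianSpace_set_iff _).mp (hN x) _ Set.inter_subset_right)

theorem quasiCompact_ι (hX : LocNoeth X) (A : X.Opens) : QuasiCompact A.ι := by
  constructor
  intro O _ hOc
  rw [A.ι.isOpenEmbedding.isInducing.isCompact_iff, Set.image_preimage_eq_inter_range,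
    Set.inter_comm]
  exact isCompact_inter hX _ hOc

section Poset

variable (H : X.Modules) (U : X.Opens)

/-- A family of sets of sections of `H` together with an open set. -/
abbrev Pair := (∀ O : X.Opens, Set Γ(H, O)) × X.Opens

/-- The pair is realized by a quasi-coherent submodule `K` of `H`, locally of finite type on the
open, and containing all sections over the opens of `U`. -/
def Good (p : Pair H) : Prop :=
  (∃ (K : X.Modules) (m : K ⟶ H), Mono m ∧ K.IsQuasicoherent ∧
    (∀ O, Set.range (m.app O) = p.1 O) ∧ LocFin K p.2) ∧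
  (∀ O : X.Opens, O ≤ U → p.1 O = Set.univ) ∧ U ≤ p.2

/-- The order relation: `q` is smaller, of finite type on a bigger open, and differs from `p`
only near the new part of the open. -/
def rel (p q : Pair H) : Prop :=
  p.2 ≤ q.2 ∧ (∀ O, q.1 O ⊆ p.1 O) ∧ (∀ O : X.Opens, O ⊓ q.2 ≤ p.2 → q.1 O = p.1 O)

theorem rel_refl (p : Pair H) : rel H p p := ⟨le_rfl, fun _ => subset_rfl, fun _ _ => rfl⟩

theorem rel_trans {p q r : Pair H} (h₁ : rel H p q) (h₂ : rel H q r) : rel H p r := by
  refine ⟨h₁.1.trans h₂.1, fun O => (h₂.2.1 O).trans (h₁.2.1 O), fun O hO => ?_⟩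
  have e1 : q.1 O = p.1 O := h₁.2.2 O ((inf_le_inf_left O h₂.1).trans hO)
  have e2 : r.1 O = q.1 O := h₂.2.2 O (hO.trans h₁.1)
  exact e2.trans e1

theorem exists_ub (hX : LocNoeth X) [H.IsQuasicoherent] (hHU : LocFin H U)
    (c : Set {p : Pair H // Good H U p})
    (hc : IsChain (fun a b : {p : Pair H // Good H U p} => rel H a.1 b.1) c) :
    ∃ ub : {p : Pair H // Good H U p}, ∀ a ∈ c, rel H a.1 ub.1 := by
  classical
  rcases c.eq_empty_or_nonempty with rfl | ⟨a₁, ha₁⟩
  · refine ⟨⟨(fun _ => Set.univ, U), ⟨H, 𝟙 H, inferInstance, inferInstance, fun O => ?_, hHU⟩,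
      fun _ _ => rfl, le_rfl⟩, fun a ha => ha.elim⟩
    exact Set.range_eq_univ.mpr (fun t => ⟨t, rfl⟩)
  · have htot : ∀ a b : c, rel H a.1.1 b.1.1 ∨ rel H b.1.1 a.1.1 := by
      intro a b
      by_cases hab : a = b
      · subst hab; exact Or.inl (rel_refl H _)
      · exact hc a.2 b.2 (fun h => hab (Subtype.ext h))
    choose K m hm hq hrange hfin using fun a : c => a.1.2.1
    haveI := hm
    haveI := hq
    let C : c → X.Modules := fun a => cokernel (m a)
    let Φ : H ⟶ ∏ᶜ C := Pi.lift (fun a => cokernel.π (m a))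
    have h_comp : ∀ a, kernel.ι Φ ≫ cokernel.π (m a) = 0 := fun a => by
      have : Φ ≫ Pi.π C a = cokernel.π (m a) := Pi.lift_π _ a
      rw [← this, ← Category.assoc, kernel.condition, zero_comp]
    have hrangeI : ∀ O, Set.range ((kernel.ι Φ).app O) = ⋂ a : c, a.1.1.1 O := by
      intro O
      ext t
      simp only [Set.mem_range, Set.mem_iInter]
      constructor
      · rintro ⟨t', rfl⟩ a
        rw [← hrange a O]
        let Sa : ShortComplex X.Modules :=
          ShortComplex.mk (m a) (cokernel.π (m a)) (cokernel.condition _)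
        have hSa : Sa.Exact := ShortComplex.exact_cokernel (m a)
        haveI : Mono Sa.f := hm a
        obtain ⟨y, hy⟩ := QCExact.exact_sections Sa hSa O ((kernel.ι Φ).app O t') (by
          change (kernel.ι Φ ≫ cokernel.π (m a)).app O t' = 0
          rw [h_comp a]; rfl)
        exact ⟨y, hy⟩
      · intro ht
        let SI : ShortComplex X.Modules := ShortComplex.mk (kernel.ι Φ) Φ (kernel.condition _)
        have hSI : SI.Exact := ShortComplex.exact_kernel Φ
        haveI : Mono SI.f := inferInstanceAs (Mono (kernel.ι Φ))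
        refine QCExact.exact_sections SI hSI O t ?_
        change Φ.app O t = 0
        have hl := isLimitOfPreserves (QCExact.secFunctor (X := X) O)
          (limit.isLimit (Discrete.functor C))
        refine Concrete.isLimit_ext _ hl (Φ.app O t) 0 ?_
        rintro ⟨a⟩
        have h1 : (Pi.π C a).app O (Φ.app O t) = (cokernel.π (m a)).app O t := by
          change (Φ ≫ Pi.π C a).app O t = _
          rw [Pi.lift_π]
        have h2 : (cokernel.π (m a)).app O t = 0 := by
          obtain ⟨t'', rfl⟩ : t ∈ Set.range ((m a).app O) := by rw [hrange a O]; exact ht a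
          change (m a ≫ cokernel.π (m a)).app O t'' = 0
          rw [cokernel.condition]; rfl
        rw [map_zero]
        exact h1.trans h2
    have hstab : ∀ (a₁ : c) (N : X.Opens), IsCompact (N : Set X) →
        ∃ a₀ : c, rel H a₁.1.1 a₀.1.1 ∧
          ∀ O : X.Opens, O ≤ N → (⋂ a : c, a.1.1.1 O) = a₀.1.1.1 O := by
      intro a₁ N hN
      let ι := {a : c // rel H a₁.1.1 a.1.1}
      haveI : Nonempty ι := ⟨⟨a₁, rel_refl H _⟩⟩
      have hs : IsCompact (((⨆ a : c, a.1.1.2 : X.Opens) : Set X) ∩ N) :=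
        isCompact_inter hX _ hN
      have hsU : ((⨆ a : c, a.1.1.2 : X.Opens) : Set X) ∩ N ⊆
          ⋃ a : ι, (a.1.1.1.2 : Set X) := by
        rintro y ⟨hyW, -⟩
        obtain ⟨b, hyb⟩ := Opens.mem_iSup.mp hyW
        rcases htot a₁ b with h | h
        · exact Set.mem_iUnion.mpr ⟨⟨b, h⟩, hyb⟩
        · exact Set.mem_iUnion.mpr ⟨⟨a₁, rel_refl H _⟩, h.1 hyb⟩
      have hdU : Directed (· ⊆ ·) (fun a : ι => (a.1.1.1.2 : Set X)) := by
        intro a b
        rcases htot a.1 b.1 with h | h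
        · exact ⟨b, fun y hy => h.1 hy, fun y hy => hy⟩
        · exact ⟨a, fun y hy => hy, fun y hy => h.1 hy⟩
      obtain ⟨a₀, ha₀⟩ := hs.elim_directed_cover (fun a : ι => (a.1.1.1.2 : Set X))
        (fun a => a.1.1.1.2.2) hsU hdU
      refine ⟨a₀.1, a₀.2, fun O hON => ?_⟩
      apply Set.Subset.antisymm
      · exact Set.iInter_subset _ a₀.1
      · intro t ht
        rw [Set.mem_iInter]
        intro b
        rcases htot a₀.1 b with h | h
        · have : O ⊓ b.1.1.2 ≤ a₀.1.1.1.2 := by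
            intro y hy
            exact ha₀ ⟨Opens.mem_iSup.mpr ⟨b, hy.2⟩, hON hy.1⟩
          rw [h.2.2 O this]; exact ht
        · exact h.2.1 O ht
    have hν : ∀ a₀ : c, ∃ ν : kernel Φ ⟶ K a₀, ν ≫ m a₀ = kernel.ι Φ := fun a₀ =>
      ⟨Abelian.monoLift (m a₀) (kernel.ι Φ) (h_comp a₀), Abelian.monoLift_comp _ _ _⟩
    have hiso : ∀ (a₀ : c) (ν : kernel Φ ⟶ K a₀), ν ≫ m a₀ = kernel.ι Φ → ∀ N : X.Opens,
        (∀ O : X.Opens, O ≤ N → (⋂ a : c, a.1.1.1 O) = a₀.1.1.1 O) →
        Mono ν ∧ ∀ O : X.Opens, O ≤ N → Function.Surjective (ν.app O) := by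
      intro a₀ ν hν N hN
      haveI : Mono (ν ≫ m a₀) := by rw [hν]; infer_instance
      refine ⟨mono_of_mono ν (m a₀), fun O hO t => ?_⟩
      have : (m a₀).app O t ∈ Set.range ((kernel.ι Φ).app O) := by
        rw [hrangeI O, hN O hO, ← hrange a₀ O]; exact ⟨t, rfl⟩
      obtain ⟨t', ht'⟩ := this
      refine ⟨t', ?_⟩
      apply QCExact.injective_sections (m a₀) O
      rw [← ht', ← hν]; rfl
    have hqI : (kernel Φ).IsQuasicoherent := by
      apply QCOpen.isQuasicoherent_of_open_cover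
      intro x
      obtain ⟨N, hN, hxN⟩ := QCProps.exists_affine_nbhd x
      obtain ⟨a₀, -, hstabN⟩ := hstab ⟨a₁, ha₁⟩ N hN.isCompact
      obtain ⟨ν, hν⟩ := hν a₀
      obtain ⟨hmono, hsurj⟩ := hiso a₀ ν hν N hstabN
      haveI := hmono
      haveI : IsIso ((restrictFunctor N.ι).map ν) :=
        isIso_restrict_map_of_surjective ν N (fun O _ hO => hsurj O hO)
      refine ⟨N, hxN, ?_⟩
      exact (SheafOfModules.isQuasicoherent (N : Scheme.{u}).ringCatSheaf).prop_of_iso
        (asIso ((restrictFunctor N.ι).map ν)).symm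
        (Scheme.Modules.isQuasicoherent_restrictFunctor N.ι (K a₀))
    have hfinI : LocFin (kernel Φ) (⨆ a : c, a.1.1.2) := by
      intro x hx
      obtain ⟨a₂, hxa₂⟩ := Opens.mem_iSup.mp hx
      obtain ⟨N, hN, hxN⟩ := QCProps.exists_affine_nbhd x
      obtain ⟨a₀, hrel, hstabN⟩ := hstab a₂ N hN.isCompact
      obtain ⟨ν, hν⟩ := hν a₀
      obtain ⟨hmono, hsurj⟩ := hiso a₀ ν hν N hstabN
      haveI := hmono
      obtain ⟨O', hO', hxO', hfinO'⟩ := hfin a₀ x (hrel.1 hxa₂)
      obtain ⟨g, hgle, hxg⟩ := hO'.exists_basicOpen_le (V := O' ⊓ N) ⟨x, hxO', hxN⟩ hxO'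
      have hfin' := finite_res (K a₀) hO' g rfl (X.basicOpen_le g) hfinO'
      refine ⟨X.basicOpen g, hO'.basicOpen g, hxg, ?_⟩
      have hinj := QCExact.injective_sections ν (X.basicOpen g)
      have hsur := hsurj (X.basicOpen g) (hgle.trans inf_le_right)
      let e := LinearEquiv.ofBijective (QCProps.appₗ ν (X.basicOpen g)) ⟨hinj, hsur⟩
      exact Module.Finite.equiv e.symm
    refine ⟨⟨(fun O => ⋂ a : c, a.1.1.1 O, ⨆ a : c, a.1.1.2),
      ⟨kernel Φ, kernel.ι Φ, inferInstance, hqI, hrangeI, hfinI⟩,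
      fun O hO => Set.iInter_eq_univ.mpr (fun a => a.1.2.2.1 O hO),
      a₁.2.2.2.trans (le_iSup (fun a : c => a.1.1.2) ⟨a₁, ha₁⟩)⟩, ?_⟩
    intro a ha
    refine ⟨le_iSup (fun a : c => a.1.1.2) ⟨a, ha⟩,
      fun O => Set.iInter_subset _ (⟨a, ha⟩ : c), fun O hO => ?_⟩
    apply Set.Subset.antisymm (Set.iInter_subset _ (⟨a, ha⟩ : c))
    intro t ht
    rw [Set.mem_iInter]
    intro b
    rcases htot ⟨a, ha⟩ b with h | h
    · have : O ⊓ b.1.1.2 ≤ a.1.2 :=
        (inf_le_inf_left O (le_iSup (fun a : c => a.1.1.2) b)).trans hO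
      rw [h.2.2 O this]; exact ht
    · exact h.2.1 O ht

end Poset

/-- On a scheme with locally Noetherian space, a quasi-coherent module which is locally of finite
type on an open `U` contains a quasi-coherent submodule of finite type with the same sections
over the opens of `U`. -/
theorem exists_finiteType_sub (hX : LocNoeth X) (H : X.Modules) [H.IsQuasicoherent] (U : X.Opens)
    (hH : LocFin H U) :
    ∃ (K : X.Modules) (m : K ⟶ H), Mono m ∧ K.IsQuasicoherent ∧ K.IsFiniteType ∧
      (∀ O : X.Opens, O ≤ U → Function.Surjective (m.app O)) := by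
  obtain ⟨M, hM⟩ := exists_maximal_of_chains_bounded
    (r := fun a b : {p : Pair H // Good H U p} => rel H a.1 b.1)
    (fun c hc => exists_ub H U hX hH c hc) (fun h₁ h₂ => rel_trans H h₁ h₂)
  obtain ⟨⟨S, W⟩, ⟨K, m, hm, hq, hrange, hfin⟩, htop, hUW⟩ := M
  dsimp only at hrange hfin htop hUW hM
  haveI := hm
  haveI := hq
  have hW : W = ⊤ := by
    by_contra hne
    obtain ⟨x, hx⟩ : ∃ x : X, x ∉ W := by
      by_contra h
      exact hne (eq_top_iff.mpr fun x _ => by_contra fun hx => h ⟨x, hx⟩)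
    obtain ⟨V, hV, hxV⟩ := QCProps.exists_affine_nbhd x
    haveI : QuasiCompact V.ι := quasiCompact_ι hX V
    obtain ⟨K', m', hm', hq', hsurj', hfin'⟩ :=
      exists_step' K (isCompact_inter hX (W : Set X) hV.isCompact) hV hfin
    haveI := hm'
    have hsub : ∀ O : X.Opens, Set.range ((m' ≫ m).app O) ⊆ S O := by
      rintro O _ ⟨t, rfl⟩
      rw [← hrange O]
      exact ⟨m'.app O t, rfl⟩
    have heq : ∀ O : X.Opens, O ⊓ V ≤ W → Set.range ((m' ≫ m).app O) = S O := by
      intro O hO
      apply Set.Subset.antisymm (hsub O)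
      intro t ht
      rw [← hrange O] at ht
      obtain ⟨t₁, rfl⟩ := ht
      obtain ⟨t₂, rfl⟩ := hsurj' O hO t₁
      exact ⟨t₂, rfl⟩
    have hgood : Good H U ((fun O => Set.range ((m' ≫ m).app O), W ⊔ V) : Pair H) := by
      refine ⟨⟨K', m' ≫ m, mono_comp m' m, hq', fun O => rfl, hfin'⟩, fun O hO => ?_,
        hUW.trans le_sup_left⟩
      show Set.range ((m' ≫ m).app O) = Set.univ
      rw [heq O (inf_le_left.trans (hO.trans hUW))]
      exact htop O hO
    have hrel : rel H ((S, W) : Pair H)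
        ((fun O => Set.range ((m' ≫ m).app O), W ⊔ V) : Pair H) :=
      ⟨le_sup_left, hsub, fun O hO => heq O ((inf_le_inf_left O le_sup_right).trans hO)⟩
    have hback := hM ⟨_, hgood⟩ hrel
    exact hx (hback.1 ((le_sup_right : V ≤ W ⊔ V) hxV))
  subst hW
  refine ⟨K, m, hm, hq, isFiniteType_of_locFin K hfin, fun O hO => ?_⟩
  exact Set.range_eq_univ.mp ((hrange O).trans (htop O hO))

/-- **EGA I 9.4.7, case a)**: extension of quasi-coherent submodules of finite type from an open
subset of a scheme whose underlying space is locally Noetherian. -/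
theorem exists_finiteType_extension (hX : LocNoeth X) (U : X.Opens)
    (G : X.Modules) [G.IsQuasicoherent]
    (F' : (U : Scheme.{u}).Modules) [F'.IsQuasicoherent] (hF' : F'.IsFiniteType)
    (i' : F' ⟶ G.restrict U.ι) [Mono i'] :
    ∃ (F : X.Modules) (i : F ⟶ G) (e : F.restrict U.ι ≅ F'), Mono i ∧ F.IsQuasicoherent ∧
      F.IsFiniteType ∧ e.hom ≫ i' = (restrictFunctor U.ι).map i := by
  haveI : QuasiCompact U.ι := quasiCompact_ι hX U
  obtain ⟨H, ψ, eH, hψ, hHq, hHeq⟩ := exists_canonical_extension U G F' i'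
  haveI := hHq
  haveI := hψ
  have hHU : LocFin H U := by
    haveI : (H.restrict U.ι).IsFiniteType := QCProps.isFiniteType_of_iso eH.symm
    exact locFin_of_restrict H U (Scheme.Modules.isQuasicoherent_restrictFunctor U.ι H)
      inferInstance
  obtain ⟨K, m, hm, hKq, hKft, hsurj⟩ := exists_finiteType_sub hX H U hHU
  haveI := hm
  haveI := hKq
  haveI hiso : IsIso ((restrictFunctor U.ι).map m) :=
    isIso_restrict_map_of_surjective m U (fun O _ hO => hsurj O hO)
  refine ⟨K, m ≫ ψ, asIso ((restrictFunctor U.ι).map m) ≪≫ eH, mono_comp m ψ, hKq, hKft, ?_⟩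
  rw [Iso.trans_hom, asIso_hom, Category.assoc, hHeq, Functor.map_comp]

end Groth.Agent.Lib.Helper3.QCExtendNoeth
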