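import Groth.Agent.Lib.Helper3.WeakAss
import Groth.Agent.Lib.Helper3.QCPush

/-!
# Weakly associated points and pushforward

* `QS.isWeakAssPoint_of_mem_minimalPrimes`, `QS.exists_mem_minimalPrimes_of_isWeakAssPoint`:
  for `F` quasi-coherent, `U` affine, `x ∈ U`: `x` is weakly associated to `F` iff `p_x` is minimal over
  the annihilator of some section `m ∈ Γ(F,U)`.
* `QS.exists_weakAssPoint_of_pushforward`: for `f` qcqs and `F` quasi-coherent, every weakly associated
  point of `f_* F` is the image of a weakly associated point of `F`.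
-/

set_option autoImplicit false
universe u
open CategoryTheory CategoryTheory.Limits AlgebraicGeometry TopologicalSpace

namespace Groth.Agent.Lib.Helper3.QS

theorem primeIdealOf_injective {X : Scheme.{u}} {U : X.Opens} (hU : IsAffineOpen U) (a b : U)
    (h : hU.primeIdealOf a = hU.primeIdealOf b) : a = b := by
  apply Subtype.ext
  rw [← hU.fromSpec_primeIdealOf a, ← hU.fromSpec_primeIdealOf b, h]

/-- If `p_z` is minimal over the annihilator of a section `t ∈ Γ(F,V)`, `V` affine, then `z` is weakly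
associated to `F`. -/
theorem isWeakAssPoint_of_mem_minimalPrimes {X : Scheme.{u}} (F : X.Modules) [F.IsQuasicoherent]
    {V : X.Opens} (hV : IsAffineOpen V) (z : X) (hzV : z ∈ V) (t : Γ(F, V))
    (hp : (hV.primeIdealOf ⟨z, hzV⟩).asIdeal ∈
      Ideal.minimalPrimes (LinearMap.ker (LinearMap.toSpanSingleton Γ(X, V) Γ(F, V) t))) :
    Curv2.IsWeakAssPoint F z := by
  set I : Ideal Γ(X, V) := LinearMap.ker (LinearMap.toSpanSingleton Γ(X, V) Γ(F, V) t) with hI
  have hImem : ∀ a : Γ(X, V), a ∈ I ↔ a • t = 0 := fun a => by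
    rw [hI, LinearMap.mem_ker, LinearMap.toSpanSingleton_apply]
  have hgerm : F.presheaf.germ V z hzV t ≠ 0 := by
    intro h0
    obtain ⟨c, hcp, hct⟩ := (QS.germ_eq_zero_iff hV F z hzV t).mp h0
    exact hcp (hp.1.2 ((hImem c).mpr hct))
  refine ⟨F.presheaf.germ V z hzV t, ?_⟩
  let _ : Algebra Γ(X, V) (X.presheaf.stalk z) :=
    TopCat.Presheaf.algebra_section_stalk X.presheaf (U := V) ⟨z, hzV⟩
  have hloc : IsLocalization.AtPrime (X.presheaf.stalk z) (hV.primeIdealOf ⟨z, hzV⟩).asIdeal :=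
    hV.isLocalization_stalk ⟨z, hzV⟩
  set J : Ideal (X.presheaf.stalk z) := LinearMap.ker
    (LinearMap.toSpanSingleton (X.presheaf.stalk z) (F.presheaf.stalk z) (F.presheaf.germ V z hzV t))
    with hJ
  have hJmem : ∀ b : X.presheaf.stalk z, b ∈ J ↔ b • F.presheaf.germ V z hzV t = 0 := fun b => by
    rw [hJ, LinearMap.mem_ker, LinearMap.toSpanSingleton_apply]
  have ha : I.map (algebraMap Γ(X, V) (X.presheaf.stalk z)) ≤ J := by
    rw [Ideal.map_le_iff_le_comap]
    intro a haI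
    rw [Ideal.mem_comap, hJmem]
    change X.presheaf.germ V z hzV a • F.presheaf.germ V z hzV t = 0
    rw [← QS.germ_smul, (hImem a).mp haI, map_zero]
  have hJne : J ≠ ⊤ := by
    intro h
    have h1 : (1 : X.presheaf.stalk z) ∈ J := by rw [h]; trivial
    rw [hJmem, one_smul] at h1
    exact hgerm h1
  have hb : J ≤ IsLocalRing.maximalIdeal (X.presheaf.stalk z) := IsLocalRing.le_maximalIdeal hJne
  have hrad : (I.map (algebraMap Γ(X, V) (X.presheaf.stalk z))).radical =
      IsLocalRing.maximalIdeal (X.presheaf.stalk z) := by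
    rw [IsLocalization.AtPrime.radical_map_of_mem_minimalPrimes _
      (hV.primeIdealOf ⟨z, hzV⟩).asIdeal I hp,
      IsLocalization.AtPrime.map_eq_maximalIdeal (hV.primeIdealOf ⟨z, hzV⟩).asIdeal]
  apply le_antisymm
  · calc J.radical ≤ (IsLocalRing.maximalIdeal (X.presheaf.stalk z)).radical := Ideal.radical_mono hb
      _ = IsLocalRing.maximalIdeal (X.presheaf.stalk z) :=
        (IsLocalRing.maximalIdeal.isMaximal _).isPrime.radical
  · rw [← hrad]
    exact Ideal.radical_mono ha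

/-- If `x ∈ U` (affine) is weakly associated to the quasi-coherent `F`, then `p_x` is minimal over the
annihilator of some section `m ∈ Γ(F,U)`. -/
theorem exists_mem_minimalPrimes_of_isWeakAssPoint {X : Scheme.{u}} (F : X.Modules)
    [F.IsQuasicoherent] {U : X.Opens} (hU : IsAffineOpen U) (x : X) (hx : x ∈ U)
    (h : Curv2.IsWeakAssPoint F x) :
    ∃ m : Γ(F, U), (hU.primeIdealOf ⟨x, hx⟩).asIdeal ∈
      Ideal.minimalPrimes (LinearMap.ker (LinearMap.toSpanSingleton Γ(X, U) Γ(F, U) m)) := by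
  obtain ⟨y, hy⟩ := h
  obtain ⟨c, m, hc, hcm⟩ := exists_smul_eq_germ hU F x hx y
  have hu : IsUnit (X.presheaf.germ U x hx c) :=
    (Scheme.mem_basicOpen X c x hx).mp ((mem_basicOpen_iff_notMem_primeIdealOf hU x hx c).mpr hc)
  refine ⟨m, ?_⟩
  set I : Ideal Γ(X, U) := LinearMap.ker (LinearMap.toSpanSingleton Γ(X, U) Γ(F, U) m) with hI
  have hImem : ∀ a : Γ(X, U), a ∈ I ↔ a • m = 0 := fun a => by
    rw [hI, LinearMap.mem_ker, LinearMap.toSpanSingleton_apply]
  set J : Ideal (X.presheaf.stalk x) := LinearMap.ker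
    (LinearMap.toSpanSingleton (X.presheaf.stalk x) (F.presheaf.stalk x) y) with hJ
  have hJmem : ∀ b : X.presheaf.stalk x, b ∈ J ↔ b • y = 0 := fun b => by
    rw [hJ, LinearMap.mem_ker, LinearMap.toSpanSingleton_apply]
  have key : ∀ a : Γ(X, U), a ∈ (hU.primeIdealOf ⟨x, hx⟩).asIdeal →
      ∃ (n : ℕ) (d : Γ(X, U)), d ∉ (hU.primeIdealOf ⟨x, hx⟩).asIdeal ∧ d * a ^ n ∈ I := by
    intro a ha
    have h1 : X.presheaf.germ U x hx a ∈ IsLocalRing.maximalIdeal (X.presheaf.stalk x) := by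
      rw [IsLocalRing.mem_maximalIdeal, mem_nonunits_iff]
      intro hunit
      have hxa : x ∈ X.basicOpen a := (Scheme.mem_basicOpen X a x hx).mpr hunit
      exact ((mem_basicOpen_iff_notMem_primeIdealOf hU x hx a).mp hxa) ha
    rw [← hy] at h1
    obtain ⟨n, hn⟩ := h1
    rw [hJmem] at hn
    have h2 : F.presheaf.germ U x hx (a ^ n • m) = 0 := by
      rw [QS.germ_smul, map_pow, ← hcm, smul_smul, mul_comm, mul_smul, hn, smul_zero]
    obtain ⟨d, hd, hdm⟩ := (germ_eq_zero_iff hU F x hx _).mp h2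
    exact ⟨n, d, hd, by rw [hImem, mul_smul]; exact hdm⟩
  have hIp : I ≤ (hU.primeIdealOf ⟨x, hx⟩).asIdeal := by
    intro a haI
    by_contra hap
    have h0 : F.presheaf.germ U x hx m = 0 :=
      (germ_eq_zero_iff hU F x hx m).mpr ⟨a, hap, (hImem a).mp haI⟩
    rw [h0] at hcm
    have hy0 : y = 0 := by
      have := congrArg (fun w => (hu.unit⁻¹ : (X.presheaf.stalk x)ˣ).1 • w) hcm
      simpa [smul_smul] using this
    have h1J : (1 : X.presheaf.stalk x) ∈ J := by rw [hJmem, hy0, smul_zero]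
    have htop : J.radical = ⊤ := by
      rw [Ideal.radical_eq_top]; exact (Ideal.eq_top_iff_one J).mpr h1J
    rw [hy] at htop
    exact (IsLocalRing.maximalIdeal.isMaximal _).ne_top htop
  refine ⟨⟨(hU.primeIdealOf ⟨x, hx⟩).isPrime, hIp⟩, ?_⟩
  rintro q ⟨hq, hIq⟩ hqp a ha
  obtain ⟨n, d, hd, hda⟩ := key a ha
  have hmem : d * a ^ n ∈ q := hIq hda
  rcases hq.mem_or_mem hmem with h | h
  · exact absurd (hqp h) hd
  · exact hq.mem_of_pow_mem n h

/-- For `f` quasi-compact quasi-separated and `F` quasi-coherent, every weakly associated point of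
`f_* F` is the image of a weakly associated point of `F`. -/
theorem exists_weakAssPoint_of_pushforward {X S : Scheme.{u}} (f : X ⟶ S) [QuasiCompact f]
    [QuasiSeparated f] (F : X.Modules) [F.IsQuasicoherent] (s : S)
    (hs : Curv2.IsWeakAssPoint ((Scheme.Modules.pushforward f).obj F) s) :
    ∃ x : X, f x = s ∧ Curv2.IsWeakAssPoint F x := by
  haveI : ((Scheme.Modules.pushforward f).obj F).IsQuasicoherent :=
    QCSec.isQuasicoherent_pushforward f F
  obtain ⟨V, hV, hsV⟩ := QCProps.exists_affine_nbhd s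
  obtain ⟨m, hm⟩ := exists_mem_minimalPrimes_of_isWeakAssPoint
    ((Scheme.Modules.pushforward f).obj F) hV s hsV hs
  obtain ⟨ι, hι, W, hWa, hWU, hcov⟩ :=
    QCSec.exists_finite_affine_cover (f ⁻¹ᵁ V) (f.isCompact_preimage hV.isCompact)
  have := Fintype.ofFinite ι
  set p : Ideal Γ(S, V) := (hV.primeIdealOf ⟨s, hsV⟩).asIdeal with hp
  have hpprime : p.IsPrime := (hV.primeIdealOf ⟨s, hsV⟩).isPrime
  let m' : Γ(F, f ⁻¹ᵁ V) := m
  let Iw : ι → Ideal Γ(S, V) := fun i =>
    Ideal.comap (f.appLE V (W i) (hWU i)).hom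
      (LinearMap.ker (LinearMap.toSpanSingleton Γ(X, W i) Γ(F, W i) (QCSec.res F (hWU i) m')))
  have hIwmem : ∀ i (a : Γ(S, V)), a ∈ Iw i ↔
      (f.appLE V (W i) (hWU i) a) • QCSec.res F (hWU i) m' = 0 := fun i a => by
    change (f.appLE V (W i) (hWU i)).hom a ∈ LinearMap.ker _ ↔ _
    rw [LinearMap.mem_ker, LinearMap.toSpanSingleton_apply]
  set I : Ideal Γ(S, V) := LinearMap.ker (LinearMap.toSpanSingleton Γ(S, V)
    Γ((Scheme.Modules.pushforward f).obj F, V) m) with hI
  have hImem : ∀ a : Γ(S, V), a ∈ I ↔ (f.app V a) • m' = 0 := fun a => by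
    rw [hI, LinearMap.mem_ker, LinearMap.toSpanSingleton_apply]
    rfl
  have hres : ∀ i (a : Γ(S, V)), QCSec.res F (hWU i) ((f.app V a) • m') =
      (f.appLE V (W i) (hWU i) a) • QCSec.res F (hWU i) m' := fun i a => by
    rw [QCSec.res_smul]
    rfl
  have hIle : ∀ i, I ≤ Iw i := fun i a ha => by
    rw [hIwmem, ← hres, (hImem a).mp ha, QCSec.res_zero]
  have hinf : Finset.univ.inf Iw ≤ I := by
    intro a ha
    rw [Submodule.mem_finsetInf] at ha
    rw [hImem]
    apply TopCat.Sheaf.eq_of_locally_eq' ⟨F.presheaf, F.isSheaf⟩ W (f ⁻¹ᵁ V)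
      (fun i => homOfLE (hWU i)) hcov
    intro i
    change QCSec.res F (hWU i) ((f.app V a) • m') = QCSec.res F (hWU i) 0
    rw [hres, QCSec.res_zero]
    exact (hIwmem i a).mp (ha i (Finset.mem_univ i))
  obtain ⟨i, -, hi⟩ := hpprime.inf_le'.mp (hinf.trans hm.1.2)
  have hmin : p ∈ (Iw i).minimalPrimes := by
    refine ⟨⟨hpprime, hi⟩, ?_⟩
    rintro q ⟨hq, hIq⟩ hqp
    exact hm.2 ⟨hq, (hIle i).trans hIq⟩ hqp
  obtain ⟨p', hp', hpp'⟩ := Ideal.exists_minimalPrimes_comap_eq (f.appLE V (W i) (hWU i)).hom p hmin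
  have hp'prime : p'.IsPrime := hp'.1.1
  obtain ⟨x, hxW, hxp⟩ := exists_point_of_prime (hWa i) p'
  refine ⟨x, ?_, isWeakAssPoint_of_mem_minimalPrimes F (hWa i) x hxW (QCSec.res F (hWU i) m')
    (by rw [hxp]; exact hp')⟩
  have h1 := IsAffineOpen.comap_primeIdealOf_appLE (f := f) V hV (W i) (hWa i) (hWU i) hxW
  have h2 : hV.primeIdealOf ⟨f x, hWU i hxW⟩ = hV.primeIdealOf ⟨s, hsV⟩ := by
    rw [← h1]
    apply PrimeSpectrum.ext
    change Ideal.comap (f.appLE V (W i) (hWU i)).hom ((hWa i).primeIdealOf ⟨x, hxW⟩).asIdeal = p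
    rw [hxp, hpp']
  exact congrArg Subtype.val (primeIdealOf_injective hV _ _ h2)

end Groth.Agent.Lib.Helper3.QS
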