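import Mathlib.AlgebraicGeometry.Morphisms.Flat
import Mathlib.AlgebraicGeometry.Morphisms.SurjectiveOnStalks
import Mathlib.AlgebraicGeometry.Morphisms.ClosedImmersion
import Mathlib.AlgebraicGeometry.IdealSheaf.Subscheme
import Mathlib.AlgebraicGeometry.Stalk
import Mathlib.AlgebraicGeometry.Fiber
import Mathlib.RingTheory.Flat.FaithfullyFlat.Algebra

/-!
# Reducedness helpers

* `flat_fromSpecStalk` : `Spec 𝒪_{X,x} ⟶ X` is flat.
* `isReduced_nilradical_subscheme` : the closed subscheme cut out by the nilradical is reduced.
* `isReduced_of_flat_of_surjectiveOnStalks` : a scheme flat and surjective on stalks over a reduced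
  scheme is reduced.
* `subsingleton_spec_stalk_of_isGenericPoint` : the local ring at the generic point of an irreducible
  component has a one-point spectrum.
-/

set_option autoImplicit false
universe u

namespace Groth.Agent.Lib.Helper3

open AlgebraicGeometry CategoryTheory Limits

theorem flat_fromSpecStalk (X : Scheme.{u}) (x : X) : Flat (X.fromSpecStalk x) := by
  obtain ⟨_, ⟨U, hU, rfl⟩, hxU, -⟩ :=
    X.isBasis_affineOpens.exists_subset_of_mem_open (Set.mem_univ x) isOpen_univ
  rw [← hU.fromSpecStalk_eq_fromSpecStalk hxU, IsAffineOpen.fromSpecStalk]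
  have : Flat (Spec.map (X.presheaf.germ U x hxU)) := by
    rw [Flat.SpecMap_iff]
    let : Algebra Γ(X, U) (X.presheaf.stalk x) := (X.presheaf.germ U x hxU).hom.toAlgebra
    have := hU.isLocalization_stalk ⟨x, hxU⟩
    have : Module.Flat Γ(X, U) (X.presheaf.stalk x) :=
      IsLocalization.flat _ (hU.primeIdealOf ⟨x, hxU⟩).asIdeal.primeCompl
    exact (RingHom.flat_algebraMap_iff).mpr this
  infer_instance

theorem isReduced_nilradical_subscheme (X : Scheme.{u}) : IsReduced X.nilradical.subscheme := by
  have : ∀ U : X.affineOpens, IsReduced (X.nilradical.subschemeCover.openCover.X U) := by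
    intro U
    change IsReduced (Spec (.of (Γ(X, U) ⧸ X.nilradical.ideal U)))
    have : _root_.IsReduced (Γ(X, U) ⧸ X.nilradical.ideal U) := by
      rw [← RingHom.ker_isRadical_iff_reduced_of_surjective
        (f := Ideal.Quotient.mk (X.nilradical.ideal U)) Ideal.Quotient.mk_surjective,
        Ideal.mk_ker]
      simp only [Scheme.nilradical, Scheme.IdealSheafData.radical_ideal]
      exact Ideal.radical_isRadical _
    infer_instance
  exact IsReduced.of_openCover (X := X.nilradical.subscheme) X.nilradical.subschemeCover.openCover

theorem injective_of_flat_of_isLocalHom {R S : Type*} [CommRing R] [CommRing S] [IsLocalRing R]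
    [IsLocalRing S] (φ : R →+* S) [IsLocalHom φ] (hφ : φ.Flat) : Function.Injective φ := by
  algebraize [φ]
  have : IsLocalHom (algebraMap R S) := by simpa [RingHom.algebraMap_toAlgebra]
  have : Module.FaithfullyFlat R S := Module.FaithfullyFlat.of_flat_of_isLocalHom
  exact FaithfulSMul.algebraMap_injective R S

theorem isReduced_of_flat_of_surjectiveOnStalks {W X : Scheme.{u}} (f : W ⟶ X) [Flat f]
    [SurjectiveOnStalks f] [IsReduced X] : IsReduced W := by
  have (w : W) : _root_.IsReduced (W.presheaf.stalk w) := by
    have hflat := Flat.stalkMap f w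
    have hsurj : Function.Surjective (f.stalkMap w).hom := f.stalkMap_surjective w
    have hinj : Function.Injective (f.stalkMap w).hom :=
      injective_of_flat_of_isLocalHom _ hflat
    let e := RingEquiv.ofBijective (f.stalkMap w).hom ⟨hinj, hsurj⟩
    exact isReduced_of_injective e.symm.toRingHom e.symm.injective
  exact isReduced_of_isReduced_stalk _

theorem subsingleton_spec_stalk_of_isGenericPoint (Y : Scheme.{u}) (η : Y) (W : Set Y)
    (hW : W ∈ irreducibleComponents Y) (hη : IsGenericPoint η W) :
    Subsingleton (Spec (Y.presheaf.stalk η)) := by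
  have key : ∀ p : Spec (Y.presheaf.stalk η), Y.fromSpecStalk η p = η := by
    intro p
    have hsp : Y.fromSpecStalk η p ⤳ η := by
      have : Y.fromSpecStalk η p ∈ Set.range (Y.fromSpecStalk η) := ⟨p, rfl⟩
      rwa [Scheme.range_fromSpecStalk] at this
    set y := Y.fromSpecStalk η p
    have hirr : IsIrreducible (closure ({y} : Set Y)) := isIrreducible_singleton.closure
    have hsub : W ⊆ closure ({y} : Set Y) := by
      rw [← hη.def]
      exact closure_minimal (Set.singleton_subset_iff.mpr hsp.mem_closure) isClosed_closure
    have heq : closure ({y} : Set Y) = W := (hW.2 hirr hsub).antisymm hsub |>.symm ▸ rfl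
    have hy : IsGenericPoint y W := heq
    exact hy.eq hη
  refine ⟨fun p q => ?_⟩
  exact (Y.fromSpecStalk η).isEmbedding.injective ((key p).trans (key q).symm)

end Groth.Agent.Lib.Helper3
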