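import Groth.Agent.Lib.Helper3.ChowMain
import Groth.Agent.Lib.Helper3.AmpleMisc

set_option autoImplicit false
universe u
open CategoryTheory CategoryTheory.Limits AlgebraicGeometry TopologicalSpace

namespace Groth.Agent.Lib.Helper3.ChowFinal

open Groth.Agent.Lib.Helper3

/-- **Chow's lemma** over a quasi-compact quasi-separated base, for `X` with finitely many
irreducible components. -/
theorem chow {X S : Scheme.{u}} (f : X ⟶ S) [CompactSpace S] [QuasiSeparatedSpace S]
    [IsSeparated f] [LocallyOfFiniteType f] [QuasiCompact f]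
    (hirr : (irreducibleComponents (X : Type u)).Finite) :
    ∃ (n : ℕ) (X' : Scheme.{u}) (π : X' ⟶ X) (j : X' ⟶ CohB1.ProjSpaceOver n S),
      IsImmersion j ∧ j ≫ CohB1.ProjSpaceOver.toBase n S = π ≫ f ∧ IsProper π ∧ Surjective π ∧
      ∃ U : X.Opens, Dense (U : Set X) ∧ IsIso (π ∣_ U) := by
  haveI : CompactSpace X := QuasiCompact.compactSpace_of_compactSpace f
  haveI : QuasiSeparatedSpace X := quasiSeparatedSpace_of_quasiSeparated f
  rcases isEmpty_or_nonempty X with hX | hX
  · let j : X ⟶ CohB1.ProjSpaceOver 0 S := (isInitialOfIsEmpty).to _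
    exact ⟨0, X, 𝟙 X, j, inferInstance, (isInitialOfIsEmpty).hom_ext _ _, inferInstance,
      inferInstance, ⊤, by simp, inferInstance⟩
  · obtain ⟨κ, hκ, Ua, hUa, hcov, hmeet⟩ := ChowTop.exists_affine_cover X hirr
    haveI : Finite κ := hκ
    haveI : Nonempty κ := by
      obtain ⟨x⟩ := hX
      have hx : x ∈ (⨆ a, Ua a) := by rw [hcov]; trivial
      obtain ⟨a, -⟩ := Opens.mem_iSup.mp hx
      exact ⟨a⟩
    let U : X.Opens := ⟨⋂ a, (Ua a : Set X), isOpen_iInter_of_finite (fun a => (Ua a).2)⟩
    have hU : ∀ a, U ≤ Ua a := fun a x hx => Set.mem_iInter.mp hx a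
    have hdense : Dense (U : Set X) := ChowTop.dense_iInter Ua hmeet
    haveI : CompactSpace U :=
      isCompact_iff_compactSpace.mp (ChowTop.isCompact_iInter Ua (fun a => (hUa a).isCompact))
    have hpiece : ∀ a, ∃ (n : ℕ) (i : (Ua a).toScheme ⟶ CohB1.ProjSpaceOver n S),
        IsImmersion i ∧ QuasiCompact i ∧
          i ≫ CohB1.ProjSpaceOver.toBase n S = (Ua a).ι ≫ f := by
      intro a
      haveI : IsAffine (Ua a).toScheme := hUa a
      haveI : QuasiCompact ((Ua a).ι ≫ f) := inferInstance
      exact QProj.isHQuasiProjective_of_isAmple ((Ua a).ι ≫ f)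
        (AmpleMisc.isAmple_of_isAffine (InvGen.isInvertible_structureModule _))
    choose n i hi hqc hif using hpiece
    haveI hopen : ∀ a, IsOpenImmersion ((i a).toImage) := fun a => by
      haveI := hi a
      haveI := hqc a
      infer_instance
    obtain ⟨X', π, W, hW, j, hWproj, hj, hjW, hπ, hsurj, hiso⟩ :=
      ChowMain.chow_of_cover f Ua hcov U hU hdense (fun a => (i a).image)
        (fun a => (i a).imageι ≫ CohB1.ProjSpaceOver.toBase (n a) S)
        (fun a => ⟨n a, (i a).imageι, inferInstance, rfl⟩)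
        (fun a => (i a).toImage)
        (fun a => by rw [Scheme.Hom.toImage_imageι_assoc, hif])
    obtain ⟨N, iW, hiW, hiWcomp⟩ := hWproj
    haveI := hj
    haveI := hiW
    exact ⟨N, X', π, j ≫ iW, inferInstance, by rw [Category.assoc, hiWcomp, hjW], hπ, hsurj, U,
      hdense, hiso⟩

end Groth.Agent.Lib.Helper3.ChowFinal
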