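import Groth.Agent.Lib.Helper3.GrTildeQC

/-!
# `O(n) ≅ A(n)~` on `Proj`, quasi-coherence of the twisting sheaves
-/

set_option autoImplicit false
set_option linter.unusedSectionVars false
universe u
open CategoryTheory CategoryTheory.Limits AlgebraicGeometry TopologicalSpace Opposite
open Scheme.Modules

namespace Groth.Agent.Lib.Helper3.GrTildeSelf

open QCSec TwistBasic GrTildeQC HomMk

variable {R A : Type u} [CommRing R] [CommRing A] [Algebra R A] {𝒜 : ℕ → Submodule R A}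
  [GradedAlgebra 𝒜]

theorem isLocMFrac_of_isLocFrac {n : ℤ} {U : (Proj 𝒜).Opens} {v : ∀ x : U, Twist.Loc 𝒜 x.1}
    (h : IsLocFrac n v) : IsLocMFrac (M := A) 𝒜 n v := h

theorem isLocFrac_of_isLocMFrac {n : ℤ} {U : (Proj 𝒜).Opens} {v : ∀ x : U, Twist.Loc 𝒜 x.1}
    (h : IsLocMFrac (M := A) 𝒜 n v) : IsLocFrac n v := h

/-- `O(n) ≅ A(n)~` -/
noncomputable def twistIsoTilde (n : ℤ) : Twist.twist 𝒜 n ≅ GrTilde.tilde 𝒜 𝒜 n :=
  isoMk (fun U t => mkMSec 𝒜 n U (fun x => val t x) (isLocMFrac_of_isLocFrac (isLocFrac_val t)))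
    (fun U t => mkSec n U (fun x => mval t x) (isLocFrac_of_isLocMFrac (isLocMFrac_mval t)))
    (fun U s s' => mval_ext fun x => rfl)
    (fun U a s => mval_ext fun x => by
      rw [mval_smul, mval_mkMSec, mval_mkMSec, val_smul]; rfl)
    (fun h s => mval_ext fun x => rfl)
    (fun U s => val_ext fun x => rfl)
    (fun U t => mval_ext fun x => rfl)

theorem isQuasicoherent_twist (n : ℤ) : (Twist.twist 𝒜 n).IsQuasicoherent := by
  have h : (GrTilde.tilde 𝒜 𝒜 n).IsQuasicoherent := isQuasicoherent_tilde (ℳ := 𝒜) n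
  exact (SheafOfModules.isQuasicoherent (Proj 𝒜).ringCatSheaf).prop_of_iso
    (twistIsoTilde (𝒜 := 𝒜) n).symm h

end Groth.Agent.Lib.Helper3.GrTildeSelf
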