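import Groth.Agent.Lib.Helper3.PbTensor

set_option autoImplicit false
universe u
open CategoryTheory CategoryTheory.Limits AlgebraicGeometry TopologicalSpace Opposite
open Scheme.Modules TensorProduct MonoidalCategory

namespace Groth.Agent.Lib.Helper3.PbAmple

open QCSec InvGen InvTensor InvMonoidal InvRestrict InvAmple PbBasic PbTensor RelAmpleLib

variable {X Y : Scheme.{u}}

theorem secLocus_pullback (f : X ⟶ Y) {L : Y.Modules} (hL : PicF.IsInvertible L) {W : Y.Opens}
    (hW : W ∈ SecLocus L) : f ⁻¹ᵁ W ∈ SecLocus ((Scheme.Modules.pullback f).obj L) := by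
  obtain ⟨n, s, rfl⟩ := hW
  refine ⟨n, pullHom f s ≫ (pbPowIso f L hL (n + 1)).hom, ?_⟩
  rw [genLocus_comp_iso, genLocus_pullHom f (isInvertible_tensorPow hL (n + 1))]

/-- EGA II 4.6.13 (i bis) / 5.1.12: the pullback of an ample module along a morphism which is a
topological embedding, with quasi-compact source, is ample -/
theorem isAmple_pullback_of_isEmbedding (i : X ⟶ Y) [CompactSpace X]
    (hi : Topology.IsEmbedding i) {L : Y.Modules} (hL : CohB1.IsAmple L) :
    CohB1.IsAmple ((Scheme.Modules.pullback i).obj L) := by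
  have hinv := isInvertible_pullback i hL.1
  haveI := isSeparated_of_isAmple hL
  apply isAmple_of_secLocus hinv
  intro x
  obtain ⟨U, e, hU, hxU, hg⟩ := exists_affine_isGen hinv x
  obtain ⟨W₀, hW₀, hWU⟩ := hi.isInducing.isOpen_iff.mp U.2
  obtain ⟨W, hWsec, hxW, hWle, -⟩ := exists_secLocus_nbhd hL (i x) ⟨W₀, hW₀⟩
    (by
      have : x ∈ (i : X → Y) ⁻¹' W₀ := by rw [hWU]; exact hxU
      exact this)
  obtain ⟨n, s, hs⟩ := secLocus_pullback i hL.1 hWsec
  have hle : i ⁻¹ᵁ W ≤ U := by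
    intro y hy
    have : y ∈ (i : X → Y) ⁻¹' W₀ := hWle hy
    rw [hWU] at this
    exact this
  refine ⟨i ⁻¹ᵁ W, ⟨n, s, hs⟩, hxW, ?_⟩
  have h1 := isAffineOpen_genLocus_inf_of_isGen s hU
    (isGen_lpow (L := (Scheme.Modules.pullback i).obj L) hg (n + 1))
  rw [← hs, inf_eq_left.mpr hle] at h1
  exact h1

theorem isAffineOpen_pullback_inf {X Y Z : Scheme.{u}} {f : X ⟶ Z} {g : Y ⟶ Z}
    {U : X.Opens} (hU : IsAffineOpen U) {V : Y.Opens} (hV : IsAffineOpen V)
    {W : Z.Opens} (hW : IsAffineOpen W) (hUW : U ≤ f ⁻¹ᵁ W) (hVW : V ≤ g ⁻¹ᵁ W) :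
    IsAffineOpen (pullback.fst f g ⁻¹ᵁ U ⊓ pullback.snd f g ⁻¹ᵁ V) := by
  have : IsAffine U.toScheme := hU
  have : IsAffine W.toScheme := hW
  have : IsAffine V.toScheme := hV
  let f' : U.toScheme ⟶ W := f.resLE _ _ hUW
  let q : V.toScheme ⟶ W := g.resLE _ _ hVW
  let p : pullback f' q ⟶ pullback f g :=
    pullback.map _ _ _ _ U.ι V.ι W.ι (by simp [f']) (by simp [q])
  have h1 : IsAffineOpen p.opensRange := isAffineOpen_opensRange p
  have h2 : p.opensRange = pullback.fst f g ⁻¹ᵁ U ⊓ pullback.snd f g ⁻¹ᵁ V := by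
    apply TopologicalSpace.Opens.ext
    simp [p, Scheme.Pullback.range_map]
  rwa [h2] at h1

/-- pullback along a commutative square with open immersions as vertical maps -/
noncomputable def pbSquare {X' X W' U' : Scheme.{u}} (F : X' ⟶ X) (a : W' ⟶ X') (b : U' ⟶ X)
    [IsOpenImmersion a] [IsOpenImmersion b] (q : W' ⟶ U') (h : a ≫ F = q ≫ b) (M : X.Modules) :
    ((Scheme.Modules.pullback F).obj M).restrict a ≅
      (Scheme.Modules.pullback q).obj (M.restrict b) :=
  (restrictFunctorIsoPullback a).app _ ≪≫ (pullbackComp a F).app M ≪≫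
    (pullbackCongr h).app M ≪≫ ((pullbackComp q b).app M).symm ≪≫
    (Scheme.Modules.pullback q).mapIso ((restrictFunctorIsoPullback b).app M).symm

/-- EGA II 4.6.13 (iv), absolute form: the external tensor product of ample modules on a fibre
product over a quasi-separated base is ample -/
theorem isAmple_tensor_pullback {X Y S : Scheme.{u}} [QuasiSeparatedSpace S]
    (f : X ⟶ S) (g : Y ⟶ S) {L : X.Modules} {N : Y.Modules} (hL : CohB1.IsAmple L)
    (hN : CohB1.IsAmple N) :
    CohB1.IsAmple (CohB1.tensorMod ((Scheme.Modules.pullback (pullback.fst f g)).obj L)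
      ((Scheme.Modules.pullback (pullback.snd f g)).obj N)) := by
  haveI := hL.2.1
  haveI := hN.2.1
  haveI := isSeparated_of_isAmple hL
  haveI := isSeparated_of_isAmple hN
  haveI : QuasiCompact f := inferInstance
  haveI : CompactSpace ↑(pullback f g) := inferInstance
  have hinv₁ := isInvertible_pullback (pullback.fst f g) hL.1
  have hinv₂ := isInvertible_pullback (pullback.snd f g) hN.1
  apply isAmple_of_secLocus (isInvertible_tensorMod hinv₁ hinv₂)
  intro z
  obtain ⟨V, hV, hzV⟩ := QCProps.exists_affine_nbhd (f (pullback.fst f g z))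
  have hzV' : g (pullback.snd f g z) ∈ V := by
    rw [← Scheme.Hom.comp_apply, ← pullback.condition, Scheme.Hom.comp_apply]
    exact hzV
  obtain ⟨W, hW, hxW, hWle, hWa⟩ := exists_secLocus_nbhd hL (pullback.fst f g z) (f ⁻¹ᵁ V) hzV
  obtain ⟨W', hW', hyW', hW'le, hW'a⟩ :=
    exists_secLocus_nbhd hN (pullback.snd f g z) (g ⁻¹ᵁ V) hzV'
  exact ⟨pullback.fst f g ⁻¹ᵁ W ⊓ pullback.snd f g ⁻¹ᵁ W',
    secLocus_tensor hinv₁ hinv₂ (secLocus_pullback _ hL.1 hW) (secLocus_pullback _ hN.1 hW'),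
    ⟨hxW, hyW'⟩, isAffineOpen_pullback_inf hWa hW'a hV hWle hW'le⟩

end Groth.Agent.Lib.Helper3.PbAmple
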