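import Groth.Agent.Lib.Helper3.InvAmple
import Groth.Agent.Lib.Helper3.QcohStalk
import Groth.Prelude.Def_ProjUP

/-!
# Ratios of global sections of an invertible module
-/

set_option autoImplicit false
set_option linter.unusedSectionVars false
universe u
open CategoryTheory CategoryTheory.Limits AlgebraicGeometry TopologicalSpace Opposite
open Scheme.Modules

namespace Groth.Agent.Lib.Helper3.SecCoord

open QCSec InvGen InvAmple

variable {X : Scheme.{u}} (L : X.Modules)

/-- the open locus where the global section `s` generates `L` -/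
noncomputable def locus (s : Γ(L, ⊤)) : X.Opens := CohB1.genLocus L (globalHom L s)

theorem isGen_locus (s : Γ(L, ⊤)) :
    IsGen L (locus L s) (res L (le_top : locus L s ≤ ⊤) s) := by
  have := isGen_genLocus (globalHom L s)
  rwa [sec_globalHom] at this

theorem isGenAt_of_le (s : Γ(L, ⊤)) {V : X.Opens} (hV : V ≤ locus L s) :
    IsGenAt L V (res L (le_top : V ≤ ⊤) s) := by
  have := isGen_locus L s V hV
  rwa [res_res] at this

/-- the function `s' / s` on the locus of `s` -/
noncomputable def ratio (s s' : Γ(L, ⊤)) : Γ(X, locus L s) :=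
  ((isGen_locus L s).self.exists_coord (res L (le_top : locus L s ≤ ⊤) s')).choose

theorem ratio_smul (s s' : Γ(L, ⊤)) :
    ratio L s s' • res L (le_top : locus L s ≤ ⊤) s = res L (le_top : locus L s ≤ ⊤) s' :=
  ((isGen_locus L s).self.exists_coord _).choose_spec

theorem ratio_smul_res (s s' : Γ(L, ⊤)) {V : X.Opens} (hV : V ≤ locus L s) :
    rres X hV (ratio L s s') • res L (le_top : V ≤ ⊤) s = res L (le_top : V ≤ ⊤) s' := by
  have := congrArg (res L hV) (ratio_smul L s s')
  rwa [res_smul, res_res, res_res] at this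

theorem eq_ratio (s s' : Γ(L, ⊤)) {a : Γ(X, locus L s)}
    (h : a • res L (le_top : locus L s ≤ ⊤) s = res L (le_top : locus L s ≤ ⊤) s') :
    a = ratio L s s' :=
  (isGen_locus L s).self.smul_inj (h.trans (ratio_smul L s s').symm)

theorem ratio_self (s : Γ(L, ⊤)) : ratio L s s = 1 := (eq_ratio L s s (one_smul _ _)).symm

theorem ratio_add (s s' s'' : Γ(L, ⊤)) :
    ratio L s (s' + s'') = ratio L s s' + ratio L s s'' :=
  (eq_ratio L s _ (by rw [add_smul, ratio_smul, ratio_smul, QCExact.res_add])).symm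

theorem ratio_smul_right (s s' : Γ(L, ⊤)) (f : Γ(X, ⊤)) :
    ratio L s (f • s') = rres X (le_top : locus L s ≤ ⊤) f * ratio L s s' :=
  (eq_ratio L s _ (by rw [mul_smul, ratio_smul, res_smul])).symm

theorem ratio_zero (s : Γ(L, ⊤)) : ratio L s 0 = 0 :=
  (eq_ratio L s _ (by rw [zero_smul, res_zero])).symm

theorem basicOpen_ratio (s s' : Γ(L, ⊤)) :
    X.basicOpen (ratio L s s') = locus L s ⊓ locus L s' := by
  have := genLocus_inf_eq_basicOpen (globalHom L s') (isGen_locus L s) (ratio L s s')
    (by rw [sec_globalHom, ratio_smul])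
  rw [← this, inf_comm]
  rfl

theorem ratio_chain (s s' s'' : Γ(L, ⊤)) {V : X.Opens} (hV : V ≤ locus L s)
    (hV' : V ≤ locus L s') :
    rres X hV (ratio L s s'') = rres X hV (ratio L s s') * rres X hV' (ratio L s' s'') := by
  apply (isGenAt_of_le L s hV).smul_inj
  rw [ratio_smul_res, mul_comm, mul_smul, ratio_smul_res, ratio_smul_res]

variable {L}

/-- generating global sections of an invertible module: the loci cover -/
theorem exists_mem_locus (hL : PicF.IsInvertible L) {ι : Type*} (s : ι → ProjUP.Γm L)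
    (hs : ProjUP.GeneratedBy L s) (x : X) : ∃ i, x ∈ locus L (s i) := by
  obtain ⟨U, e, hxU, hg⟩ := exists_isGen hL x
  choose f hf using fun i => hg.self.exists_coord (res L (le_top : U ≤ ⊤) (s i))
  by_contra hcon
  simp only [not_exists] at hcon
  have hnu : ∀ i, X.presheaf.germ U x hxU (f i) ∈ nonunits (X.presheaf.stalk x) := by
    intro i hu
    apply hcon i
    have h1 := genLocus_inf_eq_basicOpen (globalHom L (s i)) hg (f i)
      (by rw [sec_globalHom, hf])
    have h2 : x ∈ X.basicOpen (f i) := (Scheme.mem_basicOpen X (f i) x hxU).mpr hu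
    rw [← h1] at h2
    exact h2.1
  let P : Submodule (X.presheaf.stalk x) (L.presheaf.stalk x) :=
    { carrier := {y | ∃ a ∈ nonunits (X.presheaf.stalk x), y = a • L.presheaf.germ U x hxU e}
      add_mem' := by
        rintro _ _ ⟨a, ha, rfl⟩ ⟨b, hb, rfl⟩
        exact ⟨a + b, IsLocalRing.nonunits_add ha hb, (add_smul _ _ _).symm⟩
      zero_mem' := ⟨0, by simp, (zero_smul _ _).symm⟩
      smul_mem' := by
        rintro c _ ⟨a, ha, rfl⟩
        exact ⟨c * a, mul_mem_nonunits_right ha, (mul_smul _ _ _).symm⟩ }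
  have hP : Submodule.span (X.presheaf.stalk x)
      (Set.range fun i => (L.presheaf.germ ⊤ x trivial).hom (s i)) ≤ P := by
    rw [Submodule.span_le]
    rintro _ ⟨i, rfl⟩
    refine ⟨X.presheaf.germ U x hxU (f i), hnu i, ?_⟩
    rw [← QS.germ_smul, hf]
    exact (TopCat.Presheaf.germ_res_apply L.presheaf (homOfLE (le_top : U ≤ ⊤)) x hxU
      (s i)).symm
  have hex : L.presheaf.germ U x hxU e ∈ P := hP (by rw [hs x]; trivial)
  obtain ⟨a, ha, hae⟩ := hex
  have hu : IsUnit (1 - a) := IsLocalRing.isUnit_one_sub_self_of_mem_nonunits a ha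
  have h0 : L.presheaf.germ U x hxU e = 0 := by
    have h1 : (1 - a) • L.presheaf.germ U x hxU e = 0 := by
      rw [sub_smul, one_smul, ← hae, sub_self]
    obtain ⟨v, hv⟩ := hu.exists_left_inv
    calc L.presheaf.germ U x hxU e = (v * (1 - a)) • L.presheaf.germ U x hxU e := by
          rw [hv, one_smul]
      _ = 0 := by rw [mul_smul, h1, smul_zero]
  obtain ⟨W, hxW, i₁, i₂, hW⟩ := TopCat.Presheaf.germ_eq L.presheaf x hxU hxU e 0
    (by rw [h0, map_zero])
  have hWU : W ≤ U := leOfHom i₁
  have h3 : res L hWU e = 0 := by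
    have h4 : L.presheaf.map i₁.op e = L.presheaf.map i₂.op 0 := hW
    rw [map_zero] at h4
    exact h4
  have h4 := hg W hWU
  rw [h3] at h4
  have h5 : (1 : Γ(X, W)) = 0 := h4.1 (by simp)
  have h6 := congrArg (X.presheaf.germ W x hxW) h5
  rw [map_one, map_zero] at h6
  exact one_ne_zero h6

end Groth.Agent.Lib.Helper3.SecCoord
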