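import Groth.Agent.Lib.Helper3.ProjPullGen
import Groth.Agent.Lib.Helper3.SecCoord

/-!
# Morphisms to `Proj` are determined by the pulled back `O(1)` and its sections
-/

set_option autoImplicit false
set_option linter.unusedSectionVars false
universe u
open CategoryTheory CategoryTheory.Limits AlgebraicGeometry TopologicalSpace Opposite
open Scheme.Modules

namespace Groth.Agent.Lib.Helper3.ProjUniq

open QCSec InvGen InvAmple TwistBasic GrTildeQC ProjFrac GrTildeHom ProjMapFn TwistProj PbBasic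
  ToProj ProjPullGen SecCoord

variable {R A : Type u} [CommRing R] [CommRing A] [Algebra R A] {𝒜 : ℕ → Submodule R A}
  [GradedAlgebra 𝒜] {X : Scheme.{u}}

theorem unit_hom_ext {M : X.Modules} {s s' : Coh.structureModule X ⟶ M}
    (h : sec s ⊤ = sec s' ⊤) : s = s' := by
  apply M.unitHomEquiv.injective
  apply Subtype.ext
  funext U
  change sec s U.unop = sec s' U.unop
  rw [← res_sec s (le_top : U.unop ≤ ⊤), ← res_sec s' (le_top : U.unop ≤ ⊤), h]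

theorem globalHom_comp {M N : X.Modules} (m : Γ(M, ⊤)) (q : M ⟶ N) :
    globalHom M m ≫ q = globalHom N (q.app ⊤ m) := by
  apply unit_hom_ext
  rw [sec_comp, sec_globalHom, sec_globalHom, res_self, res_self]

theorem locus_app_iso {M N : X.Modules} (τ : M ≅ N) (m : Γ(M, ⊤)) :
    locus N (τ.hom.app ⊤ m) = locus M m := by
  unfold locus
  rw [← globalHom_comp]
  exact genLocus_comp_iso _ _

theorem ringHom_ext_of_adjoin {ι : Type*} (t : ι → A) (hadj : Algebra.adjoin R (Set.range t) = ⊤)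
    {B : Type*} [Semiring B] (φ φ' : A →+* B)
    (h1 : ∀ c, φ (algebraMap R A c) = φ' (algebraMap R A c)) (h2 : ∀ i, φ (t i) = φ' (t i)) :
    φ = φ' := by
  ext a
  have ha : a ∈ Algebra.adjoin R (Set.range t) := by rw [hadj]; trivial
  induction ha using Algebra.adjoin_induction with
  | mem x hx =>
    obtain ⟨i, rfl⟩ := hx
    exact h2 i
  | algebraMap c => exact h1 c
  | add x y _ _ hx hy => rw [map_add, map_add, hx, hy]
  | mul x y _ _ hx hy => rw [map_mul, map_mul, hx, hy]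

theorem locus_gpull_gsec {Y : Scheme.{u}} (h : Y ⟶ Proj 𝒜) {d : ℕ}
    (hUF : ∀ x : Proj 𝒜, ∃ U : (Proj 𝒜).Opens, x ∈ U ∧ HasUnitFrac (d : ℤ) U) (g : 𝒜 d) :
    locus ((Scheme.Modules.pullback h).obj (Twist.twist 𝒜 (d : ℤ)))
      (gpull h (Twist.twist 𝒜 (d : ℤ)) (gsec g)) = h ⁻¹ᵁ Proj.basicOpen 𝒜 (g : A) := by
  unfold locus
  have h1 : globalHom _ (gpull h (Twist.twist 𝒜 (d : ℤ)) (gsec g)) =
      pullHom h (globalHom _ (gsec g)) := by
    apply unit_hom_ext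
    rw [sec_globalHom, res_self]
    have := sec_pullHom h (globalHom _ (gsec g)) ⊤
    rw [sec_globalHom, res_self] at this
    exact this.symm
  rw [h1, genLocus_pullHom h (isInvertible_twist_of_cover _ hUF), genLocus_gsec g hUF]

theorem appLE_congr_hom {Y Z : Scheme.{u}} {f f' : Y ⟶ Z} (hf : f = f') (U : Z.Opens)
    (V : Y.Opens) (e : V ≤ f ⁻¹ᵁ U) (e' : V ≤ f' ⁻¹ᵁ U) : f.appLE U V e = f'.appLE U V e' := by
  subst hf
  rfl

/-- the uniqueness part of the universal property of `Proj` of an algebra generated in degree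
one -/
theorem hom_ext_of_iso {ι : Type u} (t : ι → A) (ht : ∀ i, t i ∈ 𝒜 1)
    (hadj : Algebra.adjoin R (Set.range t) = ⊤) (r r' : X ⟶ Proj 𝒜)
    (hrr' : r ≫ Proj.toSpecZero 𝒜 ≫ Spec.map (CommRingCat.ofHom (algebraMap R (𝒜 0))) =
      r' ≫ Proj.toSpecZero 𝒜 ≫ Spec.map (CommRingCat.ofHom (algebraMap R (𝒜 0))))
    (τ : (Scheme.Modules.pullback r).obj (Twist.twist 𝒜 ((1 : ℕ) : ℤ)) ≅
      (Scheme.Modules.pullback r').obj (Twist.twist 𝒜 ((1 : ℕ) : ℤ)))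
    (hτ : ∀ i, τ.hom.app ⊤ (gpull r (Twist.twist 𝒜 ((1 : ℕ) : ℤ)) (gsec (⟨t i, ht i⟩ : 𝒜 1))) =
      gpull r' (Twist.twist 𝒜 ((1 : ℕ) : ℤ)) (gsec (⟨t i, ht i⟩ : 𝒜 1))) : r = r' := by
  have hcovP : ∀ x : Proj 𝒜, ∃ i, x ∈ Proj.basicOpen 𝒜 (t i) :=
    exists_mem_basicOpen_of_adjoin t (fun _ => 1) ht hadj
  have hUF : ∀ x : Proj 𝒜, ∃ U : (Proj 𝒜).Opens, x ∈ U ∧ HasUnitFrac ((1 : ℕ) : ℤ) U := by
    intro x
    obtain ⟨i, hi⟩ := hcovP x
    exact ⟨_, hi, hasUnitFrac_basicOpen (ht i)⟩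
  have hV : ∀ i, r' ⁻¹ᵁ Proj.basicOpen 𝒜 (t i) = r ⁻¹ᵁ Proj.basicOpen 𝒜 (t i) := by
    intro i
    rw [← locus_gpull_gsec r hUF (⟨t i, ht i⟩ : 𝒜 1), ← locus_gpull_gsec r' hUF (⟨t i, ht i⟩ : 𝒜 1),
      ← hτ i, locus_app_iso]
  refine hom_ext_of_appLE r r' (fun i => Proj.basicOpen 𝒜 (t i))
    (fun i => Proj.isAffineOpen_basicOpen 𝒜 (t i) (ht i) Nat.one_pos)
    (fun i => r ⁻¹ᵁ Proj.basicOpen 𝒜 (t i))
    (fun x => by
      obtain ⟨i, hi⟩ := hcovP (r x)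
      exact ⟨i, hi⟩)
    (fun i => le_rfl) (fun i => (hV i).ge) (fun i => ?_)
  ext c
  obtain ⟨b, rfl⟩ := deh_surjective (ht i) c
  have key : (r.appLE (Proj.basicOpen 𝒜 (t i)) (r ⁻¹ᵁ Proj.basicOpen 𝒜 (t i)) le_rfl).hom.comp
      (deh (ht i)) =
      (r'.appLE (Proj.basicOpen 𝒜 (t i)) (r ⁻¹ᵁ Proj.basicOpen 𝒜 (t i)) (hV i).ge).hom.comp
        (deh (ht i)) := by
    apply ringHom_ext_of_adjoin t hadj
    · intro c
      have hc : algebraMap R A c ∈ 𝒜 0 := SetLike.algebraMap_mem_graded 𝒜 c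
      rw [RingHom.comp_apply, RingHom.comp_apply, deh_of_mem (ht i) hc, pow_zero,
        ← toSpec_appLE_fn (ht i) Nat.one_pos c]
      have h1 := Scheme.Hom.appLE_comp_appLE r
        (Proj.toSpecZero 𝒜 ≫ Spec.map (CommRingCat.ofHom (algebraMap R (𝒜 0)))) ⊤
        (Proj.basicOpen 𝒜 (t i)) (r ⁻¹ᵁ Proj.basicOpen 𝒜 (t i)) le_top le_rfl
      have h2 := Scheme.Hom.appLE_comp_appLE r'
        (Proj.toSpecZero 𝒜 ≫ Spec.map (CommRingCat.ofHom (algebraMap R (𝒜 0)))) ⊤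
        (Proj.basicOpen 𝒜 (t i)) (r ⁻¹ᵁ Proj.basicOpen 𝒜 (t i)) le_top (hV i).ge
      have h3 := appLE_congr_hom hrr' ⊤ (r ⁻¹ᵁ Proj.basicOpen 𝒜 (t i)) le_top le_top
      have h4 := (h1.trans h3).trans h2.symm
      exact congrArg (fun φ => φ.hom ((Scheme.ΓSpecIso (CommRingCat.of R)).inv c)) h4
    · intro k
      rw [RingHom.comp_apply, RingHom.comp_apply, deh_of_mem (ht i) (ht k), pow_one]
      have e1 := res_gpull_gsec r (ht i) (ht k) (r ⁻¹ᵁ Proj.basicOpen 𝒜 (t i)) le_rfl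
      have e2 := res_gpull_gsec r' (ht i) (ht k) (r ⁻¹ᵁ Proj.basicOpen 𝒜 (t i)) (hV i).ge
      have e3 := congrArg (τ.hom.app (r ⁻¹ᵁ Proj.basicOpen 𝒜 (t i))) e1
      rw [Scheme.Modules.Hom.app_smul, QCExact.app_res', QCExact.app_res', hτ k, hτ i, e2] at e3
      have hgen : IsGenAt ((Scheme.Modules.pullback r').obj (Twist.twist 𝒜 ((1 : ℕ) : ℤ)))
          (r ⁻¹ᵁ Proj.basicOpen 𝒜 (t i))
          (res _ (le_top : r ⁻¹ᵁ Proj.basicOpen 𝒜 (t i) ≤ ⊤)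
            (gpull r' (Twist.twist 𝒜 ((1 : ℕ) : ℤ)) (gsec (⟨t i, ht i⟩ : 𝒜 1)))) := by
        have h5 := (isGen_gpull_gsec r' (ht i)) (r ⁻¹ᵁ Proj.basicOpen 𝒜 (t i)) (hV i).ge
        rwa [res_res] at h5
      exact (hgen.smul_inj e3).symm
  exact congrArg (fun φ => φ b) key

end Groth.Agent.Lib.Helper3.ProjUniq
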