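import Groth.Agent.Lib.Helper3.ProjOfSec
import Groth.Agent.Lib.Helper3.ProjUniq
import Groth.Agent.Lib.Helper3.PbAmple
import Groth.Prelude.Def_LCI2

/-!
# Very ampleness data: sections whose ratios generate, and the immersion they define
-/

set_option autoImplicit false
set_option linter.unusedSectionVars false
universe u
open CategoryTheory CategoryTheory.Limits AlgebraicGeometry TopologicalSpace Opposite
open Scheme.Modules

namespace Groth.Agent.Lib.Helper3.VACore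

open QCSec InvGen TwistBasic GrTildeQC ProjFrac GrTildeHom ProjMapFn TwistProj PbBasic ToProj
  ProjGlue ProjPullGen InvIso SecCoord GrScale ProjOfSec ProjUniq InvAmple

/-- a criterion for immersions: affine opens of the target with affine preimages covering the
source and surjective maps on sections -/
theorem isImmersion_of_cover {X Z : Scheme.{u}} (i : X ⟶ Z) {κ : Type*} (W : κ → Z.Opens)
    (U : κ → X.Opens) (hW : ∀ k, IsAffineOpen (W k)) (hU : ∀ k, IsAffineOpen (U k))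
    (hUW : ∀ k, U k = i ⁻¹ᵁ W k)
    (hsurj : ∀ k, Function.Surjective (i.appLE (W k) (U k) (hUW k).le).hom)
    (hcov : ∀ x : X, ∃ k, x ∈ U k) : IsImmersion i := by
  haveI : MorphismProperty.RespectsRight @IsImmersion @IsOpenImmersion :=
    ⟨fun i hi f hf => by
      haveI : IsOpenImmersion i := hi
      haveI : IsImmersion f := hf
      exact (inferInstance : IsImmersion (f ≫ i))⟩
  refine IsZariskiLocalAtTarget.of_range_subset_iSup (P := @IsImmersion) W ?_ (fun k => ?_)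
  · rintro _ ⟨x, rfl⟩
    obtain ⟨k, hk⟩ := hcov x
    rw [hUW k] at hk
    exact Opens.mem_iSup.mpr ⟨k, hk⟩
  · haveI : IsAffine (W k) := hW k
    haveI : IsAffine (i ⁻¹ᵁ W k) := (hUW k) ▸ hU k
    haveI : IsClosedImmersion (i ∣_ W k) := by
      apply IsClosedImmersion.of_surjective_of_isAffine
      rw [morphismRestrict_appTop]
      have h1 : Function.Surjective (i.app ((W k).ι ''ᵁ ⊤)).hom := by
        rw [Scheme.Hom.app_eq_appLE]
        exact (Scheme.Hom.appLE_congr i (hUW k).le (by simp) (by simp [hUW k])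
          (fun φ => Function.Surjective φ.hom)).mp (hsurj k)
      exact (ConcreteCategory.bijective_of_isIso
        (X.presheaf.map (eqToHom (image_morphismRestrict_preimage i (W k) ⊤)).op)).2.comp h1
    infer_instance

section R1

variable {R A : Type u} [CommRing R] [CommRing A] [Algebra R A] {𝒜 : ℕ → Submodule R A}
  [GradedAlgebra 𝒜] {X : Scheme.{u}}

theorem preimage_basicOpen_eq_locus (r : X ⟶ Proj 𝒜)
    (hUF : ∀ x : Proj 𝒜, ∃ U : (Proj 𝒜).Opens, x ∈ U ∧ HasUnitFrac ((1 : ℕ) : ℤ) U)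
    {N : X.Modules} (τ : (Scheme.Modules.pullback r).obj (Twist.twist 𝒜 ((1 : ℕ) : ℤ)) ≅ N)
    {g : A} (hg : g ∈ 𝒜 1) {s : Γ(N, ⊤)}
    (hs : τ.hom.app ⊤ (gpull r (Twist.twist 𝒜 ((1 : ℕ) : ℤ)) (gsec (⟨g, hg⟩ : 𝒜 1))) = s) :
    r ⁻¹ᵁ Proj.basicOpen 𝒜 g = locus N s := by
  rw [← locus_gpull_gsec r hUF (⟨g, hg⟩ : 𝒜 1), ← hs, locus_app_iso]

theorem appLE_fn_eq_ratio (r : X ⟶ Proj 𝒜)
    {N : X.Modules} (τ : (Scheme.Modules.pullback r).obj (Twist.twist 𝒜 ((1 : ℕ) : ℤ)) ≅ N)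
    {g b : A} (hg : g ∈ 𝒜 1) (hb : b ∈ 𝒜 1) {s s' : Γ(N, ⊤)}
    (hs : τ.hom.app ⊤ (gpull r (Twist.twist 𝒜 ((1 : ℕ) : ℤ)) (gsec (⟨g, hg⟩ : 𝒜 1))) = s)
    (hs' : τ.hom.app ⊤ (gpull r (Twist.twist 𝒜 ((1 : ℕ) : ℤ)) (gsec (⟨b, hb⟩ : 𝒜 1))) = s')
    (e : locus N s ≤ r ⁻¹ᵁ Proj.basicOpen 𝒜 g) :
    r.appLE (Proj.basicOpen 𝒜 g) (locus N s) e (fn (Proj.basicOpen 𝒜 g) b g) = ratio N s s' := by
  apply eq_ratio
  have e1 := res_gpull_gsec r hg hb (locus N s) e
  have e3 := congrArg (τ.hom.app (locus N s)) e1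
  rw [Scheme.Modules.Hom.app_smul, QCExact.app_res', QCExact.app_res', hs, hs'] at e3
  exact e3.symm

end R1

section ProjSpace

variable {X : Scheme.{u}}

theorem hasUnitFrac_projSpace (R : Type u) [CommRing R] (n : ℕ) :
    ∀ x : Proj (CohB1.polyGrading n R), ∃ U : (Proj (CohB1.polyGrading n R)).Opens,
      x ∈ U ∧ HasUnitFrac ((1 : ℕ) : ℤ) U := by
  have hadj : Algebra.adjoin R (Set.range
      (fun j : ULift.{u} (Fin (n + 1)) => (MvPolynomial.X j.down : MvPolynomial (Fin (n + 1)) R)))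
      = ⊤ := by
    rw [eq_top_iff, ← MvPolynomial.adjoin_range_X]
    apply Algebra.adjoin_mono
    rintro _ ⟨i, rfl⟩
    exact ⟨⟨i⟩, rfl⟩
  intro x
  obtain ⟨i, hi⟩ := exists_mem_basicOpen_of_adjoin (𝒜 := CohB1.polyGrading n R)
    (fun j : ULift.{u} (Fin (n + 1)) => (MvPolynomial.X j.down : MvPolynomial (Fin (n + 1)) R))
    (fun _ => 1) (fun j => MvPolynomial.isHomogeneous_X R j.down) hadj x
  exact ⟨_, hi, hasUnitFrac_basicOpen (MvPolynomial.isHomogeneous_X R i.down)⟩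

/-- the morphism to projective space defined by sections whose loci cover -/
theorem exists_hom_projSpace {R : Type u} [CommRing R] (n : ℕ)
    (q : X ⟶ Spec (CommRingCat.of R)) (L : X.Modules)
    (s : Fin (n + 1) → Γ(L, ⊤)) (hcov' : ∀ x : X, ∃ i, x ∈ locus L (s i)) :
    ∃ (r : X ⟶ CohB1.ProjSpace n R) (_ : r ≫ CohB1.ProjSpace.toSpec n R = q)
      (τ : (Scheme.Modules.pullback r).obj (Twist.twist (CohB1.polyGrading n R) ((1 : ℕ) : ℤ)) ≅ L),
      ∀ i, τ.hom.app ⊤ (gpull r (Twist.twist (CohB1.polyGrading n R) ((1 : ℕ) : ℤ))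
        (gsec (⟨MvPolynomial.X i, MvPolynomial.isHomogeneous_X R i⟩ :
          CohB1.polyGrading n R 1))) = s i := by
  classical
  let ι := ULift.{u} (Fin (n + 1))
  let t : ι → MvPolynomial (Fin (n + 1)) R := fun j => MvPolynomial.X j.down
  have ht : ∀ j, t j ∈ CohB1.polyGrading n R 1 := fun j => MvPolynomial.isHomogeneous_X R j.down
  let σ : ι → Γ(L, ⊤) := fun j => s j.down
  have hcov : ∀ x, ∃ j : ι, x ∈ locus L (σ j) := fun x => by
    obtain ⟨i, hi⟩ := hcov' x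
    exact ⟨⟨i⟩, hi⟩
  let ρ : ∀ j : ι, R →+* Γ(X, locus L (σ j)) := fun j =>
    (rresHom X (le_top : locus L (σ j) ≤ ⊤)).comp (ProjUP.toGlobal q)
  let ψ : ∀ j : ι, MvPolynomial (Fin (n + 1)) R →+* Γ(X, locus L (σ j)) := fun j =>
    MvPolynomial.eval₂Hom (ρ j) (fun k => ratio L (σ j) (σ ⟨k⟩))
  have hψ : ∀ j k, ψ j (t k) = ratio L (σ j) (σ k) := fun j k => by
    change MvPolynomial.eval₂Hom (ρ j) (fun k => ratio L (σ j) (σ ⟨k⟩)) (MvPolynomial.X k.down) = _
    rw [MvPolynomial.eval₂Hom_X']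
  have hcoc : ∀ j k, (rresHom X (inf_le_left : locus L (σ j) ⊓ locus L (σ k) ≤
        locus L (σ j))).comp (ψ j) =
      scaleHom (CohB1.polyGrading n R) ((rresHom X (inf_le_right : locus L (σ j) ⊓ locus L (σ k) ≤
        locus L (σ k))).comp (ψ k)) (rres X (inf_le_left : locus L (σ j) ⊓ locus L (σ k) ≤
          locus L (σ j)) (ψ j (t k))) := by
    intro j k
    apply MvPolynomial.ringHom_ext
    · intro c
      rw [scaleHom_of_mem (CohB1.polyGrading n R) _ _ (MvPolynomial.isHomogeneous_C _ c),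
        pow_zero, one_mul, RingHom.comp_apply, RingHom.comp_apply]
      change rres X _ (MvPolynomial.eval₂Hom (ρ j) _ (MvPolynomial.C c)) =
        rres X _ (MvPolynomial.eval₂Hom (ρ k) _ (MvPolynomial.C c))
      rw [MvPolynomial.eval₂Hom_C, MvPolynomial.eval₂Hom_C]
      change rres X _ (rres X _ (ProjUP.toGlobal q c)) = rres X _ (rres X _ (ProjUP.toGlobal q c))
      rw [rres_rres, rres_rres]
    · intro i
      rw [scaleHom_of_mem (CohB1.polyGrading n R) _ _ (MvPolynomial.isHomogeneous_X R i),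
        pow_one, RingHom.comp_apply, RingHom.comp_apply, hψ j k]
      change rres X _ (MvPolynomial.eval₂Hom (ρ j) _ (MvPolynomial.X i)) =
        rres X _ (ratio L (σ j) (σ k)) *
          rres X _ (MvPolynomial.eval₂Hom (ρ k) _ (MvPolynomial.X i))
      rw [MvPolynomial.eval₂Hom_X', MvPolynomial.eval₂Hom_X']
      exact ratio_chain L (σ j) (σ k) (σ ⟨i⟩) inf_le_left inf_le_right
  refine ⟨ProjOfSec.hom L t ht σ hcov ψ hψ hcoc, ?_, ?_⟩
  · refine ProjOfSec.hom_toSpec L t ht σ hcov ψ hψ hcoc q (fun j c => ?_)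
    change MvPolynomial.eval₂Hom (ρ j) _ (MvPolynomial.C c) = _
    rw [MvPolynomial.eval₂Hom_C]
    rfl
  · obtain ⟨τ, hτ⟩ := ProjOfSec.exists_iso L t ht σ hcov ψ hψ hcoc
    exact ⟨τ, fun i => hτ ⟨i⟩⟩

end ProjSpace

section VA

variable {X S : Scheme.{u}}

/-- very ampleness data for `N` relative to `f`: finitely many global sections, some of whose
loci are affine, lie over affine opens of the base and cover `X`, such that the functions on
these loci are generated by the functions from the base and the ratios of the sections -/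
def IsVA (f : X ⟶ S) (N : X.Modules) : Prop :=
  ∃ (κ : Type u) (_ : Finite κ) (t : κ → Γ(N, ⊤)) (K : Set κ) (V : κ → S.Opens),
    (∀ x : X, ∃ k ∈ K, x ∈ locus N (t k)) ∧
    ∀ k ∈ K, IsAffineOpen (V k) ∧ IsAffineOpen (locus N (t k)) ∧
      ∃ h : locus N (t k) ≤ f ⁻¹ᵁ V k,
        Subring.closure (Set.range (f.appLE (V k) (locus N (t k)) h).hom ∪
          Set.range (fun k' => ratio N (t k) (t k'))) = ⊤

theorem isRelVeryAmplePn_of_isVA (f : X ⟶ S) {N : X.Modules} (h : IsVA f N) :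
    RelAmple.IsRelVeryAmplePn f N := by
  classical
  obtain ⟨κ, _, t, K, V, hcov, hK⟩ := h
  let c := Nat.card κ
  let e : κ ≃ Fin c := Finite.equivFin κ
  let s : Fin (c + 1) → Γ(N, ⊤) :=
    Fin.snoc (α := fun _ => Γ(N, ⊤)) (fun j : Fin c => t (e.symm j)) 0
  have hs : ∀ k, s (Fin.castSucc (e k)) = t k := fun k => by
    simp only [s, Fin.snoc_castSucc, Equiv.symm_apply_apply]
  have hcov' : ∀ x : X, ∃ i, x ∈ locus N (s i) := fun x => by
    obtain ⟨k, -, hk⟩ := hcov x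
    exact ⟨Fin.castSucc (e k), by rw [hs]; exact hk⟩
  let R := ULift.{u} ℤ
  obtain ⟨r, hr, τ, hτ⟩ := exists_hom_projSpace (R := R) c (specULiftZIsTerminal.from X) N s hcov'
  let i : X ⟶ CohB1.ProjSpaceOver c S :=
    pullback.lift r f (specULiftZIsTerminal.hom_ext _ _)
  have hi1 : i ≫ pullback.fst (CohB1.ProjSpace.toSpec c R) (specULiftZIsTerminal.from S) = r :=
    pullback.lift_fst _ _ _
  have hi2 : i ≫ pullback.snd (CohB1.ProjSpace.toSpec c R) (specULiftZIsTerminal.from S) = f :=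
    pullback.lift_snd _ _ _
  refine ⟨c, i, ?_, hi2, ⟨?_⟩⟩
  · -- immersion
    let P := pullback.fst (CohB1.ProjSpace.toSpec c R) (specULiftZIsTerminal.from S)
    let Q := pullback.snd (CohB1.ProjSpace.toSpec c R) (specULiftZIsTerminal.from S)
    let Xv : Fin (c + 1) → MvPolynomial (Fin (c + 1)) R := fun j => MvPolynomial.X j
    have hXv : ∀ j, Xv j ∈ CohB1.polyGrading c R 1 := fun j => MvPolynomial.isHomogeneous_X R j
    let D : Fin (c + 1) → (CohB1.ProjSpace c R).Opens :=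
      fun j => Proj.basicOpen (CohB1.polyGrading c R) (Xv j)
    have hD : ∀ k : κ, r ⁻¹ᵁ D (Fin.castSucc (e k)) = locus N (t k) := fun k =>
      preimage_basicOpen_eq_locus r (hasUnitFrac_projSpace R c) τ (hXv _)
        ((hτ _).trans (hs k))
    have hUW : ∀ k : K, locus N (t k.1) =
        i ⁻¹ᵁ (P ⁻¹ᵁ D (Fin.castSucc (e k.1)) ⊓ Q ⁻¹ᵁ V k.1) := by
      intro k
      obtain ⟨hle, -⟩ := (hK k.1 k.2).2.2
      have h1 : i ⁻¹ᵁ (P ⁻¹ᵁ D (Fin.castSucc (e k.1))) = locus N (t k.1) := by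
        rw [← Scheme.Hom.comp_preimage, hi1, hD]
      have h2 : i ⁻¹ᵁ (Q ⁻¹ᵁ V k.1) = f ⁻¹ᵁ V k.1 := by
        rw [← Scheme.Hom.comp_preimage, hi2]
      rw [Scheme.Hom.preimage_inf, h1, h2]
      exact (inf_eq_left.mpr hle).symm
    refine isImmersion_of_cover i (κ := K)
      (fun k => P ⁻¹ᵁ D (Fin.castSucc (e k.1)) ⊓ Q ⁻¹ᵁ V k.1) (fun k => locus N (t k.1))
      ?_ ?_ hUW ?_ ?_
    · intro k
      exact PbAmple.isAffineOpen_pullback_inf
        (Proj.isAffineOpen_basicOpen _ _ (hXv _) Nat.one_pos) (hK k.1 k.2).1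
        (isAffineOpen_top _) le_top le_top
    · intro k
      exact (hK k.1 k.2).2.1
    · intro k
      obtain ⟨hle, hgen⟩ := (hK k.1 k.2).2.2
      rw [← RingHom.range_eq_top, eq_top_iff, ← hgen]
      apply Subring.closure_le.mpr
      rintro z (⟨b, rfl⟩ | ⟨k', rfl⟩)
      · refine ⟨(Q.appLE (V k.1) (P ⁻¹ᵁ D (Fin.castSucc (e k.1)) ⊓ Q ⁻¹ᵁ V k.1)
          inf_le_right).hom b, ?_⟩
        have h1 := Scheme.Hom.appLE_comp_appLE i Q (V k.1)
          (P ⁻¹ᵁ D (Fin.castSucc (e k.1)) ⊓ Q ⁻¹ᵁ V k.1) (locus N (t k.1)) inf_le_right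
          (hUW k).le
        have h3 := appLE_congr_hom hi2 (V k.1) (locus N (t k.1))
          ((hUW k).le.trans ((Opens.map _).map (homOfLE inf_le_right)).le) hle
        exact congrArg (fun φ => φ.hom b) (h1.trans h3)
      · have hle' : locus N (t k.1) ≤ r ⁻¹ᵁ D (Fin.castSucc (e k.1)) := (hD k.1).ge
        refine ⟨(P.appLE (D (Fin.castSucc (e k.1)))
          (P ⁻¹ᵁ D (Fin.castSucc (e k.1)) ⊓ Q ⁻¹ᵁ V k.1) inf_le_left).hom
            (fn (D (Fin.castSucc (e k.1))) (Xv (Fin.castSucc (e k')))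
              (Xv (Fin.castSucc (e k.1)))), ?_⟩
        have h1 := Scheme.Hom.appLE_comp_appLE i P (D (Fin.castSucc (e k.1)))
          (P ⁻¹ᵁ D (Fin.castSucc (e k.1)) ⊓ Q ⁻¹ᵁ V k.1) (locus N (t k.1)) inf_le_left
          (hUW k).le
        have h3 := appLE_congr_hom hi1 (D (Fin.castSucc (e k.1))) (locus N (t k.1))
          ((hUW k).le.trans ((Opens.map _).map (homOfLE inf_le_left)).le) hle'
        have h4 := congrArg (fun φ => φ.hom (fn (D (Fin.castSucc (e k.1)))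
          (Xv (Fin.castSucc (e k'))) (Xv (Fin.castSucc (e k.1))))) (h1.trans h3)
        refine h4.trans ?_
        exact appLE_fn_eq_ratio r τ (hXv _) (hXv _) ((hτ _).trans (hs k.1))
          ((hτ _).trans (hs k')) hle'
    · intro x
      obtain ⟨k, hk, hx⟩ := hcov x
      exact ⟨⟨k, hk⟩, hx⟩
  · exact τ.symm ≪≫ ((pullbackCongr hi1).app _).symm ≪≫
      ((pullbackComp i (pullback.fst (CohB1.ProjSpace.toSpec c R)
        (specULiftZIsTerminal.from S))).app _).symm

end VA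

end Groth.Agent.Lib.Helper3.VACore
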