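import Mathlib

/-!
# A criterion for separatedness of a scheme via an affine open cover (EGA I 5.5.6)
-/

set_option autoImplicit false
universe u
open CategoryTheory CategoryTheory.Limits AlgebraicGeometry TopologicalSpace Opposite

namespace Groth.Agent.Lib.Helper3.SepCrit

variable {X : Scheme.{u}}

/-- Separatedness criterion, in terms of the open subschemes. -/
theorem isSeparated_of_affine_cover' {ι : Type u} (U : ι → X.Opens) (hU : IsOpenCover U)
    (hUa : ∀ i, IsAffineOpen (U i)) (hij : ∀ i j, IsAffineOpen (U i ⊓ U j))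
    (hgen : ∀ i j (z : Γ((U i ⊓ U j : X.Opens).toScheme, ⊤)),
      z ∈ Subring.closure
        (Set.range (X.homOfLE (inf_le_left : U i ⊓ U j ≤ U i)).appTop.hom ∪
          Set.range (X.homOfLE (inf_le_right : U i ⊓ U j ≤ U j)).appTop.hom)) :
    X.IsSeparated := by
  let f := terminal.from X
  let 𝒰 := X.openCoverOfIsOpenCover U hU
  haveI : ∀ i, IsAffine (𝒰.X i) := hUa
  have hQ : ∀ i j, IsAffine (pullback (𝒰.f i) (𝒰.f j)) ∧
      Function.Surjective ((pullback.mapDesc (𝒰.f i) (𝒰.f j) f).appTop) := by
    intro i j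
    let e : (U i ⊓ U j : X.Opens).toScheme ≅ pullback (U i).ι (U j).ι :=
      (isPullback_opens_inf (U i) (U j)).isoPullback
    have he1 : e.hom ≫ pullback.fst (U i).ι (U j).ι = X.homOfLE inf_le_left :=
      IsPullback.isoPullback_hom_fst _
    have he2 : e.hom ≫ pullback.snd (U i).ι (U j).ι = X.homOfLE inf_le_right :=
      IsPullback.isoPullback_hom_snd _
    haveI : IsAffine (U i ⊓ U j : X.Opens).toScheme := hij i j
    refine ⟨IsAffine.of_isIso e.inv, ?_⟩
    let md := pullback.mapDesc (U i).ι (U j).ι f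
    have hmd1 : md ≫ pullback.fst _ _ = pullback.fst _ _ :=
      (pullback.lift_fst _ _ _).trans (Category.comp_id _)
    have hmd2 : md ≫ pullback.snd _ _ = pullback.snd _ _ :=
      (pullback.lift_snd _ _ _).trans (Category.comp_id _)
    intro z
    let ψ := e.hom.appTop
    have hψ : Function.Injective ψ.hom := by
      have h : e.hom.appTop ≫ e.inv.appTop = 𝟙 _ := by
        rw [← Scheme.Hom.comp_appTop, Iso.inv_hom_id]
        rfl
      intro a b hab
      have := congrArg e.inv.appTop.hom hab
      have ha : e.inv.appTop.hom (ψ.hom a) = a := congrArg (fun φ => φ.hom a) h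
      have hb : e.inv.appTop.hom (ψ.hom b) = b := congrArg (fun φ => φ.hom b) h
      rw [ha, hb] at this
      exact this
    have key : Subring.closure
        (Set.range (X.homOfLE (inf_le_left : U i ⊓ U j ≤ U i)).appTop.hom ∪
          Set.range (X.homOfLE (inf_le_right : U i ⊓ U j ≤ U j)).appTop.hom) ≤
        (md.appTop ≫ ψ).hom.range := by
      rw [Subring.closure_le]
      rintro w (⟨a, rfl⟩ | ⟨a, rfl⟩)
      · refine ⟨(pullback.fst ((U i).ι ≫ f) ((U j).ι ≫ f)).appTop a, ?_⟩
        have : (pullback.fst ((U i).ι ≫ f) ((U j).ι ≫ f)).appTop ≫ md.appTop ≫ ψ =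
            (X.homOfLE (inf_le_left : U i ⊓ U j ≤ U i)).appTop := by
          rw [← Scheme.Hom.comp_appTop, ← Scheme.Hom.comp_appTop, Category.assoc, hmd1, he1]
        exact congrArg (fun φ => φ.hom a) this
      · refine ⟨(pullback.snd ((U i).ι ≫ f) ((U j).ι ≫ f)).appTop a, ?_⟩
        have : (pullback.snd ((U i).ι ≫ f) ((U j).ι ≫ f)).appTop ≫ md.appTop ≫ ψ =
            (X.homOfLE (inf_le_right : U i ⊓ U j ≤ U j)).appTop := by
          rw [← Scheme.Hom.comp_appTop, ← Scheme.Hom.comp_appTop, Category.assoc, hmd2, he2]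
        exact congrArg (fun φ => φ.hom a) this
    obtain ⟨y, hy⟩ := key (hgen i j (ψ.hom z))
    exact ⟨y, hψ hy⟩
  have hloc := HasAffineProperty.isLocal_affineProperty @IsClosedImmersion
  have h2 : MorphismProperty.diagonal @IsClosedImmersion f := by
    apply (HasAffineProperty.diagonal_iff @IsClosedImmersion).mp
    exact AffineTargetMorphismProperty.diagonal_of_openCover_source
      (Q := fun X _ f _ => IsAffine X ∧ Function.Surjective f.appTop) f 𝒰 hQ
  exact ⟨⟨h2⟩⟩


theorem topIso_inv_res {U V : X.Opens} (h : V ≤ U) :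
    X.presheaf.map (homOfLE h).op ≫ V.topIso.inv = U.topIso.inv ≫ (X.homOfLE h).appTop := by
  rw [Scheme.homOfLE_appTop, Scheme.Opens.topIso_inv, Scheme.Opens.topIso_inv]
  exact (X.presheaf.map_comp _ _).symm.trans
    ((congrArg X.presheaf.map (Subsingleton.elim _ _)).trans (X.presheaf.map_comp _ _))

/-- Separatedness criterion: an affine open cover with affine pairwise intersections whose rings
of functions are generated by the restrictions from the two members. -/
theorem isSeparated_of_affine_cover {ι : Type u} (U : ι → X.Opens) (hU : IsOpenCover U)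
    (hUa : ∀ i, IsAffineOpen (U i)) (hij : ∀ i j, IsAffineOpen (U i ⊓ U j))
    (hgen : ∀ i j (z : Γ(X, U i ⊓ U j)),
      z ∈ Subring.closure
        (Set.range (X.presheaf.map (homOfLE (inf_le_left : U i ⊓ U j ≤ U i)).op).hom ∪
          Set.range (X.presheaf.map (homOfLE (inf_le_right : U i ⊓ U j ≤ U j)).op).hom)) :
    X.IsSeparated := by
  apply isSeparated_of_affine_cover' U hU hUa hij
  intro i j z
  have hz : z = (U i ⊓ U j).topIso.inv.hom ((U i ⊓ U j).topIso.hom.hom z) := by
    have := congrArg (fun φ => φ.hom z) (U i ⊓ U j).topIso.hom_inv_id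
    exact this.symm
  rw [hz]
  have key : Subring.closure
        (Set.range (X.presheaf.map (homOfLE (inf_le_left : U i ⊓ U j ≤ U i)).op).hom ∪
          Set.range (X.presheaf.map (homOfLE (inf_le_right : U i ⊓ U j ≤ U j)).op).hom) ≤
      (Subring.closure
        (Set.range (X.homOfLE (inf_le_left : U i ⊓ U j ≤ U i)).appTop.hom ∪
          Set.range (X.homOfLE (inf_le_right : U i ⊓ U j ≤ U j)).appTop.hom)).comap
        (U i ⊓ U j).topIso.inv.hom := by
    rw [Subring.closure_le]
    rintro w (⟨a, rfl⟩ | ⟨a, rfl⟩)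
    · apply Subring.subset_closure
      left
      refine ⟨(U i).topIso.inv.hom a, ?_⟩
      exact (congrArg (fun φ => φ.hom a) (topIso_inv_res (inf_le_left : U i ⊓ U j ≤ U i))).symm
    · apply Subring.subset_closure
      right
      refine ⟨(U j).topIso.inv.hom a, ?_⟩
      exact (congrArg (fun φ => φ.hom a) (topIso_inv_res (inf_le_right : U i ⊓ U j ≤ U j))).symm
  exact key (hgen i j _)

end Groth.Agent.Lib.Helper3.SepCrit
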