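import Groth.Agent.Lib.Helper3.InvTwist
import Groth.Agent.Lib.Helper3.InvMonoidal
import Groth.Agent.Lib.Helper3.SepCrit
import Groth.Agent.Lib.Helper3.InvCoh

/-!
# Ample invertible modules: basic tools
-/

set_option autoImplicit false
universe u
open CategoryTheory CategoryTheory.Limits AlgebraicGeometry TopologicalSpace Opposite
open Scheme.Modules TensorProduct

namespace Groth.Agent.Lib.Helper3.InvAmple

open QCSec InvGen InvTensor InvTwist InvMonoidal InvCoh

variable {X : Scheme.{u}}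

theorem isAffineOpen_preimage_ι_iff (W U : X.Opens) :
    IsAffineOpen (W.ι ⁻¹ᵁ U) ↔ IsAffineOpen (W ⊓ U) := by
  rw [← W.ι.isAffineOpen_iff_of_isOpenImmersion, Scheme.Hom.image_preimage_eq_opensRange_inf,
    Scheme.Opens.opensRange_ι]

/-- `X_s ∩ U` is affine when `U` is affine and `L` is generated over `U`. -/
theorem isAffineOpen_genLocus_inf_of_isGen {L : X.Modules} (s : Coh.structureModule X ⟶ L)
    {U : X.Opens} (hU : IsAffineOpen U) {e : Γ(L, U)} (hg : IsGen L U e) :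
    IsAffineOpen (CohB1.genLocus L s ⊓ U) := by
  obtain ⟨f, hf⟩ := hg.self.exists_coord (sec s U)
  rw [genLocus_inf_eq_basicOpen s hg f hf.symm]
  exact hU.basicOpen f

/-- The inclusion of `X_s` is an affine morphism. -/
theorem isAffineHom_genLocus_ι {L : X.Modules} (hL : PicF.IsInvertible L)
    (s : Coh.structureModule X ⟶ L) : IsAffineHom (CohB1.genLocus L s).ι := by
  apply isAffineHom_of_forall_exists_isAffineOpen
  intro x
  obtain ⟨U, e, hU, hxU, hg⟩ := exists_affine_isGen hL x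
  refine ⟨U, hxU, hU, ?_⟩
  rw [isAffineOpen_preimage_ι_iff]
  exact isAffineOpen_genLocus_inf_of_isGen s hU hg

/-- `X_s ∩ U` is affine when `U` is affine. -/
theorem isAffineOpen_genLocus_inf {L : X.Modules} (hL : PicF.IsInvertible L)
    (s : Coh.structureModule X ⟶ L) {U : X.Opens} (hU : IsAffineOpen U) :
    IsAffineOpen (CohB1.genLocus L s ⊓ U) := by
  haveI := isAffineHom_genLocus_ι hL s
  rw [← isAffineOpen_preimage_ι_iff]
  exact hU.preimage (CohB1.genLocus L s).ι


/-! ### global sections as morphisms -/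

/-- the compatible family of sections defined by a global section -/
noncomputable def globalSections (L : X.Modules) (m : Γ(L, ⊤)) : L.sections :=
  PresheafOfModules.sectionsMk (fun V => (show Γ(L, V.unop) from res L le_top m))
    (fun _ _ f => res_res L (leOfHom f.unop) le_top m)

/-- a global section as a morphism out of the structure sheaf -/
noncomputable def globalHom (L : X.Modules) (m : Γ(L, ⊤)) : Coh.structureModule X ⟶ L :=
  L.unitHomEquiv.symm (globalSections L m)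

theorem sec_globalHom (L : X.Modules) (m : Γ(L, ⊤)) (U : X.Opens) :
    sec (globalHom L m) U = res L le_top m := by
  have h := L.unitHomEquiv.apply_symm_apply (globalSections L m)
  exact congrArg (fun σ => σ.val (op U)) h

/-! ### opens of the form `X_s` -/

/-- the opens `X_s`, `s` a section of a positive tensor power of `L` -/
def SecLocus (L : X.Modules) : Set X.Opens :=
  {W | ∃ (n : ℕ) (s : Coh.structureModule X ⟶ CohB1.tensorPow L (n + 1)), W = CohB1.genLocus _ s}

theorem secLocus_of_pos {L : X.Modules} {d : ℕ} (hd : 0 < d)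
    (s : Coh.structureModule X ⟶ CohB1.tensorPow L d) : CohB1.genLocus _ s ∈ SecLocus L := by
  obtain ⟨n, rfl⟩ : ∃ n, d = n + 1 := ⟨d - 1, by omega⟩
  exact ⟨n, s, rfl⟩

theorem SecLocus.inf {L : X.Modules} (hL : PicF.IsInvertible L) {W W' : X.Opens}
    (h : W ∈ SecLocus L) (h' : W' ∈ SecLocus L) : W ⊓ W' ∈ SecLocus L := by
  obtain ⟨n, s, rfl⟩ := h
  obtain ⟨m, t, rfl⟩ := h'
  rw [← genLocus_mulSec hL s t]
  exact secLocus_of_pos (by omega) _

theorem exists_common_degree {L : X.Modules} (hL : PicF.IsInvertible L) {n m : ℕ}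
    (s : Coh.structureModule X ⟶ CohB1.tensorPow L (n + 1))
    (t : Coh.structureModule X ⟶ CohB1.tensorPow L (m + 1)) :
    ∃ (d : ℕ) (s' t' : Coh.structureModule X ⟶ CohB1.tensorPow L d), 0 < d ∧
      CohB1.genLocus _ s' = CohB1.genLocus _ s ∧ CohB1.genLocus _ t' = CohB1.genLocus _ t :=
  ⟨(n + 1) * (m + 1), powSec s (m + 1), castSec (Nat.mul_comm _ _) (powSec t (n + 1)),
    Nat.mul_pos (Nat.succ_pos _) (Nat.succ_pos _), genLocus_powSec hL s m, by
      rw [genLocus_castSec, genLocus_powSec hL t n]⟩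

/-- In a quasi-compact quasi-separated scheme, the basic opens of functions on `X_g` are again of
the form `X_s`. -/
theorem secLocus_basicOpen [CompactSpace X] [QuasiSeparatedSpace X] {L : X.Modules}
    (hL : PicF.IsInvertible L) {W : X.Opens} (hW : W ∈ SecLocus L) (h : Γ(X, W)) :
    X.basicOpen h ∈ SecLocus L := by
  obtain ⟨n, g, rfl⟩ := hW
  have hN := isInvertible_tensorPow hL (n + 1)
  obtain ⟨n₀, hn₀⟩ := exists_tm_lpow_extension hN g (Coh.structureModule X) ⊤
    (by simpa using isCompact_univ)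
    (fun U U' hU hU' _ _ => QuasiSeparatedSpace.inter_isCompact U.1 U'.1 U.2 hU.isCompact U'.2
      hU'.isCompact)
    (CohB1.genLocus _ g) le_top le_rfl inf_le_right (ofFun _ h)
  obtain ⟨t', ht'⟩ := hn₀ (n₀ + 1) (Nat.le_succ _)
  let σ' : Γ(CohB1.tensorPow (CohB1.tensorPow L (n + 1)) (n₀ + 1), ⊤) :=
    (unitorL (CohB1.tensorPow (CohB1.tensorPow L (n + 1)) (n₀ + 1))).hom.app ⊤ t'
  let σ := globalHom _ σ'
  have hσ : sec σ (CohB1.genLocus _ g) =
      h • lpow (CohB1.tensorPow L (n + 1)) (sec g (CohB1.genLocus _ g)) (n₀ + 1) := by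
    rw [sec_globalHom]
    change res _ le_top
      ((unitorL (CohB1.tensorPow (CohB1.tensorPow L (n + 1)) (n₀ + 1))).hom.app ⊤ t') = _
    rw [← QCExact.app_res', ht', unitorL_hom_tm]
  have hgen : IsGen (CohB1.tensorPow (CohB1.tensorPow L (n + 1)) (n₀ + 1)) (CohB1.genLocus _ g)
      (lpow (CohB1.tensorPow L (n + 1)) (sec g (CohB1.genLocus _ g)) (n₀ + 1)) :=
    isGen_lpow (isGen_genLocus g) (n₀ + 1)
  have h1 : CohB1.genLocus _ σ ⊓ CohB1.genLocus _ g = X.basicOpen h :=
    genLocus_inf_eq_basicOpen σ hgen h hσ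
  let σ₂ : Coh.structureModule X ⟶ CohB1.tensorPow L ((n + 1) * (n₀ + 1)) :=
    σ ≫ (powMul L (n + 1) (n₀ + 1)).hom
  have h2 : CohB1.genLocus _ (mulSec σ₂ g) = X.basicOpen h := by
    rw [genLocus_mulSec hL, genLocus_comp_iso, h1]
  rw [← h2]
  exact secLocus_of_pos (by omega) _

/-- For an ample module on a quasi-separated scheme, the affine opens `X_s` form a basis. -/
theorem exists_secLocus_nbhd [QuasiSeparatedSpace X] {L : X.Modules} (hA : CohB1.IsAmple L)
    (x : X) (W₀ : X.Opens) (hx : x ∈ W₀) :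
    ∃ W ∈ SecLocus L, x ∈ W ∧ W ≤ W₀ ∧ IsAffineOpen W := by
  obtain ⟨hL, hc, hA⟩ := hA
  obtain ⟨n, g, hxg, hga⟩ := hA x
  obtain ⟨f, hfle, hxf⟩ := hga.exists_basicOpen_le (V := W₀ ⊓ CohB1.genLocus _ g)
    ⟨x, ⟨hx, hxg⟩⟩ hxg
  exact ⟨X.basicOpen f, secLocus_basicOpen hL ⟨n, g, rfl⟩ f, hxf, hfle.trans inf_le_left,
    hga.basicOpen f⟩


/-! ### separatedness -/

theorem mem_closure_res {N : X.Modules} (s t : Coh.structureModule X ⟶ N)
    {A B : X.Opens} (hA : A = CohB1.genLocus N s) (hB : B = CohB1.genLocus N t)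
    (hAa : IsAffineOpen A) (z : Γ(X, A ⊓ B)) :
    z ∈ Subring.closure
      (Set.range (X.presheaf.map (homOfLE (inf_le_left : A ⊓ B ≤ A)).op).hom ∪
        Set.range (X.presheaf.map (homOfLE (inf_le_right : A ⊓ B ≤ B)).op).hom) := by
  subst hA hB
  obtain ⟨g, hg⟩ := (isGen_genLocus s).self.exists_coord (sec t _)
  obtain ⟨h, hh⟩ := (isGen_genLocus t).self.exists_coord (sec s _)
  have hW : CohB1.genLocus N s ⊓ CohB1.genLocus N t = X.basicOpen g := by
    rw [inf_comm]
    exact genLocus_inf_eq_basicOpen t (isGen_genLocus s) g hg.symm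
  have hloc := isLocSec_of_isQuasicoherent (Coh.structureModule X) hAa g _ hW inf_le_left
  obtain ⟨n, a', ha'⟩ := hloc.surj (ofFun _ z)
  have ha : rres X (inf_le_left : CohB1.genLocus N s ⊓ CohB1.genLocus N t ≤ _) (toFun _ a') =
      (rres X (inf_le_left : CohB1.genLocus N s ⊓ CohB1.genLocus N t ≤ _) g) ^ n * z := by
    apply ofFun_injective
    exact ha'
  have hgh : rres X (inf_le_left : CohB1.genLocus N s ⊓ CohB1.genLocus N t ≤ _) g *
      rres X (inf_le_right : CohB1.genLocus N s ⊓ CohB1.genLocus N t ≤ _) h = 1 := by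
    have hgt : IsGenAt N (CohB1.genLocus N s ⊓ CohB1.genLocus N t) (sec t _) :=
      (isGen_sec_of_le t inf_le_right).self
    apply hgt.smul_inj
    have e1 : sec t (CohB1.genLocus N s ⊓ CohB1.genLocus N t) =
        rres X (inf_le_left : CohB1.genLocus N s ⊓ CohB1.genLocus N t ≤ _) g •
          sec s (CohB1.genLocus N s ⊓ CohB1.genLocus N t) := by
      rw [← res_sec t (inf_le_left : CohB1.genLocus N s ⊓ CohB1.genLocus N t ≤ _), ← hg,
        res_smul, res_sec]
    have e2 : sec s (CohB1.genLocus N s ⊓ CohB1.genLocus N t) =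
        rres X (inf_le_right : CohB1.genLocus N s ⊓ CohB1.genLocus N t ≤ _) h •
          sec t (CohB1.genLocus N s ⊓ CohB1.genLocus N t) := by
      rw [← res_sec s (inf_le_right : CohB1.genLocus N s ⊓ CohB1.genLocus N t ≤ _), ← hh,
        res_smul, res_sec]
    rw [mul_smul, ← e2, ← e1, one_smul]
  have hz : z = (rres X (inf_le_right : CohB1.genLocus N s ⊓ CohB1.genLocus N t ≤ _) h) ^ n *
      rres X (inf_le_left : CohB1.genLocus N s ⊓ CohB1.genLocus N t ≤ _) (toFun _ a') := by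
    rw [ha, ← mul_assoc, ← mul_pow, mul_comm (rres X _ h), hgh, one_pow, one_mul]
  rw [hz]
  refine Subring.mul_mem _ (pow_mem (Subring.subset_closure ?_) n) (Subring.subset_closure ?_)
  · exact Set.mem_union_right _ ⟨h, rfl⟩
  · exact Set.mem_union_left _ ⟨toFun _ a', rfl⟩

/-- A scheme covered by affine opens of the form `X_s` is separated. -/
theorem isSeparated_of_secLocus_cover {L : X.Modules} (hL : PicF.IsInvertible L)
    (h : ∀ x : X, ∃ W ∈ SecLocus L, x ∈ W ∧ IsAffineOpen W) : X.IsSeparated := by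
  let ι : Type u := {W : X.Opens // W ∈ SecLocus L ∧ IsAffineOpen W}
  apply SepCrit.isSeparated_of_affine_cover (fun i : ι => i.1)
  · apply IsOpenCover.mk
    apply top_le_iff.mp
    intro x _
    obtain ⟨W, hW, hxW, hWa⟩ := h x
    exact Opens.mem_iSup.mpr ⟨⟨W, hW, hWa⟩, hxW⟩
  · exact fun i => i.2.2
  · intro i j
    obtain ⟨n, s, hs⟩ := i.2.1
    rw [hs]
    exact isAffineOpen_genLocus_inf (isInvertible_tensorPow hL _) s j.2.2
  · intro i j z
    obtain ⟨n, s, hs⟩ := i.2.1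
    obtain ⟨m, t, ht⟩ := j.2.1
    obtain ⟨d, s', t', hd, hs', ht'⟩ := exists_common_degree hL s t
    exact mem_closure_res s' t' (hs.trans hs'.symm) (ht.trans ht'.symm) i.2.2 z


/-! ### ampleness -/

theorem isInvertible_of_iso {L M : X.Modules} (e : L ≅ M) (hL : PicF.IsInvertible L) :
    PicF.IsInvertible M := by
  intro x
  obtain ⟨U, hxU, ⟨φ⟩⟩ := hL x
  exact ⟨U, hxU, ⟨(Scheme.Modules.restrictFunctor U.ι).mapIso e.symm ≪≫ φ⟩⟩

theorem isAmple_of_secLocus {L : X.Modules} (hL : PicF.IsInvertible L) [CompactSpace X]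
    (h : ∀ x : X, ∃ W ∈ SecLocus L, x ∈ W ∧ IsAffineOpen W) : CohB1.IsAmple L := by
  refine ⟨hL, inferInstance, fun x => ?_⟩
  obtain ⟨W, ⟨n, s, rfl⟩, hxW, hWa⟩ := h x
  exact ⟨n, s, hxW, hWa⟩

theorem exists_secLocus_of_isAmple {L : X.Modules} (hA : CohB1.IsAmple L) (x : X) :
    ∃ W ∈ SecLocus L, x ∈ W ∧ IsAffineOpen W := by
  obtain ⟨n, s, hx, ha⟩ := hA.2.2 x
  exact ⟨_, ⟨n, s, rfl⟩, hx, ha⟩

theorem secLocus_of_iso {L M : X.Modules} (e : L ≅ M) {W : X.Opens} (hW : W ∈ SecLocus L) :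
    W ∈ SecLocus M := by
  obtain ⟨n, s, rfl⟩ := hW
  exact ⟨n, s ≫ (tensorPowIso e (n + 1)).hom, (genLocus_comp_iso s _).symm⟩

theorem isAmple_of_iso {L M : X.Modules} (e : L ≅ M) (hA : CohB1.IsAmple L) : CohB1.IsAmple M := by
  haveI := hA.2.1
  apply isAmple_of_secLocus (isInvertible_of_iso e hA.1)
  intro x
  obtain ⟨W, hW, hxW, hWa⟩ := exists_secLocus_of_isAmple hA x
  exact ⟨W, secLocus_of_iso e hW, hxW, hWa⟩

/-- `X_s` for sections of powers of `L^n` are `X_s` for sections of powers of `L`. -/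
theorem secLocus_of_pow {L : X.Modules} {n : ℕ} (hn : 0 < n) {W : X.Opens}
    (hW : W ∈ SecLocus (CohB1.tensorPow L n)) : W ∈ SecLocus L := by
  obtain ⟨m, s, rfl⟩ := hW
  rw [← genLocus_comp_iso s (powMul L n (m + 1)).hom]
  exact secLocus_of_pos (Nat.mul_pos hn (Nat.succ_pos _)) _

theorem secLocus_pow {L : X.Modules} (hL : PicF.IsInvertible L) {n : ℕ} (hn : 0 < n)
    {W : X.Opens} (hW : W ∈ SecLocus L) : W ∈ SecLocus (CohB1.tensorPow L n) := by
  obtain ⟨m, s, rfl⟩ := hW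
  obtain ⟨k, rfl⟩ : ∃ k, n = k + 1 := ⟨n - 1, by omega⟩
  refine ⟨m, castSec (Nat.mul_comm _ _) (powSec s (k + 1)) ≫ (powMul L (k + 1) (m + 1)).inv, ?_⟩
  rw [genLocus_comp_iso, genLocus_castSec, genLocus_powSec hL]

theorem isAmple_pow_iff {L : X.Modules} (hL : PicF.IsInvertible L) [CompactSpace X] {n : ℕ}
    (hn : 0 < n) : CohB1.IsAmple L ↔ CohB1.IsAmple (CohB1.tensorPow L n) := by
  constructor
  · intro hA
    apply isAmple_of_secLocus (isInvertible_tensorPow hL n)
    intro x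
    obtain ⟨W, hW, hxW, hWa⟩ := exists_secLocus_of_isAmple hA x
    exact ⟨W, secLocus_pow hL hn hW, hxW, hWa⟩
  · intro hA
    apply isAmple_of_secLocus hL
    intro x
    obtain ⟨W, hW, hxW, hWa⟩ := exists_secLocus_of_isAmple hA x
    exact ⟨W, secLocus_of_pow hn hW, hxW, hWa⟩

/-- `X_s ∩ X_{s'}` for sections of powers of `L` and `L'` is an `X_τ` for `L ⊗ L'`. -/
theorem secLocus_tensor {L L' : X.Modules} (hL : PicF.IsInvertible L)
    (hL' : PicF.IsInvertible L') {W W' : X.Opens} (hW : W ∈ SecLocus L)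
    (hW' : W' ∈ SecLocus L') : W ⊓ W' ∈ SecLocus (CohB1.tensorMod L L') := by
  obtain ⟨n, s, rfl⟩ := hW
  obtain ⟨m, s', rfl⟩ := hW'
  let σ := powSec s (m + 1)
  let σ' := castSec (Nat.mul_comm (m + 1) (n + 1)) (powSec s' (n + 1))
  let τ := SecTwist.tmulHom σ σ' ≫ (powTensor L L' ((n + 1) * (m + 1))).inv
  have hτ : CohB1.genLocus _ τ = CohB1.genLocus _ s ⊓ CohB1.genLocus _ s' := by
    rw [genLocus_comp_iso, genLocus_tmulHom (isInvertible_tensorPow hL _)
      (isInvertible_tensorPow hL' _), genLocus_powSec hL, genLocus_castSec, genLocus_powSec hL']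
  rw [← hτ]
  exact secLocus_of_pos (Nat.mul_pos (Nat.succ_pos _) (Nat.succ_pos _)) _


/-! ### the structure sheaf -/

theorem genLocus_unit_eq_basicOpen (s : Coh.structureModule X ⟶ Coh.structureModule X) :
    CohB1.genLocus _ s = X.basicOpen (toFun ⊤ (sec s ⊤)) := by
  have h := genLocus_inf_eq_basicOpen s (isGen_one ⊤) (toFun ⊤ (sec s ⊤)) (by
    rw [smul_ofFun, mul_one]; rfl)
  rwa [inf_top_eq] at h

theorem secLocus_unit_iff {W : X.Opens} :
    W ∈ SecLocus (Coh.structureModule X) ↔ ∃ r : Γ(X, ⊤), W = X.basicOpen r := by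
  constructor
  · rintro ⟨n, s, rfl⟩
    refine ⟨toFun ⊤ (sec (s ≫ (powUnit X (n + 1)).hom) ⊤), ?_⟩
    rw [← genLocus_unit_eq_basicOpen, genLocus_comp_iso]
  · rintro ⟨r, rfl⟩
    refine ⟨0, globalHom _ (ofFun ⊤ r) ≫ (powOne (Coh.structureModule X)).hom, ?_⟩
    rw [genLocus_comp_iso, genLocus_unit_eq_basicOpen, sec_globalHom, res_self]
    rfl

theorem isQuasiAffine_iff_isAmple_unit :
    X.IsQuasiAffine ↔ CohB1.IsAmple (Coh.structureModule X) := by
  constructor
  · intro hX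
    apply isAmple_of_secLocus (isInvertible_structureModule X)
    intro x
    obtain ⟨_, ⟨r, hr, rfl⟩, hxr, -⟩ := Opens.isBasis_iff_nbhd.mp
      (Scheme.IsQuasiAffine.isBasis_basicOpen X) (show x ∈ (⊤ : X.Opens) from trivial)
    exact ⟨_, secLocus_unit_iff.mpr ⟨r, rfl⟩, hxr, hr⟩
  · intro hA
    haveI := hA.2.1
    apply Scheme.IsQuasiAffine.of_forall_exists_mem_basicOpen
    intro x
    obtain ⟨W, hW, hxW, hWa⟩ := exists_secLocus_of_isAmple hA x
    obtain ⟨r, rfl⟩ := secLocus_unit_iff.mp hW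
    exact ⟨r, hWa, hxW⟩


/-! ### quasi-affine schemes -/

theorem genLocus_globalHom_smul_le {L : X.Modules} (hL : PicF.IsInvertible L) (r : Γ(X, ⊤))
    (σ : Γ(L, ⊤)) : CohB1.genLocus L (globalHom L (r • σ)) ≤ X.basicOpen r := by
  intro y hy
  obtain ⟨U, e, hyU, hg⟩ := exists_isGen hL y
  obtain ⟨c, hc⟩ := hg.self.exists_coord (res L le_top σ)
  have h1 : sec (globalHom L (r • σ)) U = (rres X le_top r * c) • e := by
    rw [sec_globalHom, res_smul, ← hc, mul_smul]
  have h2 := genLocus_inf_eq_basicOpen (globalHom L (r • σ)) hg _ h1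
  have hy' : y ∈ X.basicOpen (rres X (le_top : U ≤ ⊤) r * c) := by
    rw [← h2]; exact ⟨hy, hyU⟩
  rw [Scheme.basicOpen_mul] at hy'
  have h3 : X.basicOpen (rres X (le_top : U ≤ ⊤) r) = U ⊓ X.basicOpen r :=
    Scheme.basicOpen_res X r (homOfLE (le_top : U ≤ ⊤)).op
  have := hy'.1
  rw [h3] at this
  exact this.2

/-- On a quasi-affine scheme every invertible module is ample. -/
theorem isAmple_of_isQuasiAffine [X.IsQuasiAffine] {L : X.Modules} (hL : PicF.IsInvertible L) :
    CohB1.IsAmple L := by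
  apply isAmple_of_secLocus hL
  intro x
  obtain ⟨U, e, hU, hxU, hg⟩ := exists_affine_isGen hL x
  obtain ⟨_, ⟨r, hr, rfl⟩, hxr, hrU⟩ := Opens.isBasis_iff_nbhd.mp
    (Scheme.IsQuasiAffine.isBasis_basicOpen X) hxU
  haveI := isQuasicoherent_of_isInvertible hL
  obtain ⟨n, σ, hσ⟩ := surj_of_isCompact L (V := ⊤) (by simpa using isCompact_univ)
    (fun U U' hU hU' _ _ => QuasiSeparatedSpace.inter_isCompact U.1 U'.1 U.2 hU.isCompact U'.2
      hU'.isCompact) r (W := X.basicOpen r) rfl le_top (res L hrU e)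
  let s := globalHom L (r • σ)
  have hs : sec s (X.basicOpen r) =
      (rres X (le_top : X.basicOpen r ≤ ⊤) r) ^ (n + 1) • res L hrU e := by
    rw [sec_globalHom, res_smul, hσ, ← mul_smul, ← pow_succ']
  have hunit : IsUnit (rres X (le_top : X.basicOpen r ≤ ⊤) r) :=
    RingedSpace.isUnit_res_basicOpen X.toRingedSpace r
  have hle : X.basicOpen r ≤ CohB1.genLocus L s := by
    apply le_genLocus
    rw [hs]
    exact (hg.mono hrU).smul_unit (hunit.pow _)
  have heq : CohB1.genLocus L s = X.basicOpen r :=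
    le_antisymm (genLocus_globalHom_smul_le hL r σ) hle
  refine ⟨X.basicOpen r, ⟨0, s ≫ (powOne L).hom, ?_⟩, hxr, hr⟩
  rw [genLocus_comp_iso, heq]

/-- If `L` and an inverse of `L` are both ample then the scheme is quasi-affine. -/
theorem isQuasiAffine_of_isAmple_inverse [CompactSpace X] {L L' : X.Modules}
    (e : CohB1.tensorMod L L' ≅ Coh.structureModule X) (hL : CohB1.IsAmple L)
    (hL' : CohB1.IsAmple L') : X.IsQuasiAffine := by
  haveI : X.IsSeparated := isSeparated_of_secLocus_cover hL.1 (exists_secLocus_of_isAmple hL)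
  apply Scheme.IsQuasiAffine.of_forall_exists_mem_basicOpen
  intro x
  obtain ⟨W, hW, hxW, hWa⟩ := exists_secLocus_of_isAmple hL x
  obtain ⟨W', hW', hxW', hW'le, hW'a⟩ := exists_secLocus_nbhd hL' x W hxW
  have h1 := secLocus_of_iso e (secLocus_tensor hL.1 hL'.1 hW hW')
  rw [inf_eq_right.mpr hW'le] at h1
  obtain ⟨r, rfl⟩ := secLocus_unit_iff.mp h1
  exact ⟨r, hW'a, hxW'⟩

end Groth.Agent.Lib.Helper3.InvAmple
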