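import Groth.Agent.Lib.Helper3.GrModExact
import Groth.Agent.Lib.Helper3.QCExact
import Groth.Agent.Lib.Helper3.QCProps
import Groth.Agent.Lib.Helper3.InvGen
import Groth.Prelude.Def_RelProj3

/-!
# `GrMod.comap` along a bijective semilinear map is an isomorphism
-/

set_option autoImplicit false
set_option linter.unusedSectionVars false
universe u
open CategoryTheory CategoryTheory.Limits AlgebraicGeometry TopologicalSpace Opposite
open Scheme.Modules
open scoped HomogeneousIdeal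

namespace Groth.Agent.Lib.Helper3.GrModComap

open QCSec InvGen GrModSec GrModExact

/-- a morphism of modules which is bijective on sections over a basis of opens is an iso -/
theorem isIso_of_bijective_on_basis {X : Scheme.{u}} {F G : X.Modules} (φ : F ⟶ G)
    (h : ∀ (W : X.Opens) (x : X), x ∈ W →
      ∃ V : X.Opens, x ∈ V ∧ V ≤ W ∧ Function.Bijective (φ.app V)) : IsIso φ := by
  haveI : Mono φ := by
    rw [QCProps.mono_iff_app_injective]
    intro W t t' htt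
    have hz : ∀ t₀ : Γ(F, W), φ.app W t₀ = 0 → t₀ = 0 := by
      intro t₀ ht₀
      have hloc : ∀ x : {x : X // x ∈ W}, ∃ (W' : X.Opens) (hW' : W' ≤ W), x.1 ∈ W' ∧
          res F hW' t₀ = 0 := by
        intro x
        obtain ⟨V, hxV, hVW, hV⟩ := h W x.1 x.2
        refine ⟨V, hVW, hxV, ?_⟩
        apply hV.1
        rw [QCExact.app_res', ht₀, res_zero, map_zero]
      choose W' hW' hxW' hres using hloc
      exact sec_eq_of_locally_eq F W' W hW' (fun x hx => Opens.mem_iSup.mpr ⟨⟨x, hx⟩, hxW' _⟩)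
        t₀ 0 (fun i => by rw [hres i, res_zero])
    have h1 : φ.app W (t - t') = 0 := by rw [map_sub, htt, sub_self]
    exact sub_eq_zero.mp (hz _ h1)
  haveI : Epi φ := by
    apply QCExact.epi_of_locally_surjective
    intro W s x hx
    obtain ⟨V, hxV, hVW, hV⟩ := h W x hx
    obtain ⟨t, ht⟩ := hV.2 (res G hVW s)
    exact ⟨V, hVW, hxV, t, ht⟩
  exact isIso_of_mono_of_epi φ

section basis

variable {A σ : Type u} [CommRing A] [SetLike σ A] [AddSubgroupClass σ A] (𝒜 : ℕ → σ) [GradedRing 𝒜]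

/-- the basic opens of homogeneous elements of positive degree form a basis of `Proj` -/
theorem exists_basicOpen_le (W : (Proj 𝒜).Opens) (x : Proj 𝒜) (hx : x ∈ W) :
    ∃ (d : ℕ) (_ : 0 < d) (f : A) (_ : f ∈ 𝒜 d), x ∈ Proj.basicOpen 𝒜 f ∧ Proj.basicOpen 𝒜 f ≤ W := by
  classical
  obtain ⟨S, hS⟩ := (ProjectiveSpectrum.isOpen_iff 𝒜 W.1).1 W.2
  have hS' : ∀ y : ProjectiveSpectrum 𝒜, y ∉ W ↔ S ⊆ (y.asHomogeneousIdeal : Set A) := by
    intro y
    have := Set.ext_iff.1 hS y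
    exact this
  have hxS : ¬ (S ⊆ (x.asHomogeneousIdeal : Set A)) := fun hsub => ((hS' x).2 hsub) hx
  obtain ⟨r, hrS, hrx⟩ := Set.not_subset.1 hxS
  have hrx' : r ∉ x.asHomogeneousIdeal.toIdeal := hrx
  obtain ⟨k, hk⟩ : ∃ k, (DirectSum.decompose 𝒜 r k : A) ∉ x.asHomogeneousIdeal.toIdeal := by
    by_contra hcon
    push Not at hcon
    apply hrx'
    rw [← DirectSum.sum_support_decompose 𝒜 r]
    exact Ideal.sum_mem _ (fun k _ => hcon k)
  obtain ⟨e, he, g, hg, hgx⟩ : ∃ (e : ℕ) (_ : 0 < e) (g : A) (_ : g ∈ 𝒜 e),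
      g ∉ x.asHomogeneousIdeal.toIdeal := by
    by_contra hcon
    push Not at hcon
    apply x.not_irrelevant_le
    rw [HomogeneousIdeal.irrelevant_le]
    intro i hi a ha
    exact hcon i hi a ha
  refine ⟨k + e, Nat.add_pos_right k he, (DirectSum.decompose 𝒜 r k : A) * g,
    SetLike.mul_mem_graded (SetLike.coe_mem _) hg, ?_, ?_⟩
  · refine (ProjectiveSpectrum.mem_basicOpen 𝒜 _ x).mpr (fun hmem => ?_)
    rcases x.isPrime.mem_or_mem hmem with h | h
    · exact hk h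
    · exact hgx h
  · intro y hy
    have hy' := (ProjectiveSpectrum.mem_basicOpen 𝒜 _ y).mp hy
    by_contra hyW
    apply hy'
    refine Ideal.mul_mem_right _ _ ?_
    exact y.asHomogeneousIdeal.isHomogeneous k ((hS' y).1 hyW hrS)

end basis

section comap

variable {A σ : Type u} [CommRing A] [SetLike σ A] [AddSubgroupClass σ A] {𝒜 : ℕ → σ} [GradedRing 𝒜]
  {B σ' : Type u} [CommRing B] [SetLike σ' B] [AddSubgroupClass σ' B] {ℬ : ℕ → σ'} [GradedRing ℬ]
  (ψ : 𝒜 →+*ᵍ ℬ) (hψ : ℬ₊ ≤ (𝒜₊).map ψ)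
  {M τ : Type u} [AddCommGroup M] [Module A M] [SetLike τ M] [AddSubgroupClass τ M] (ℳ : ℕ → τ)
  [SetLike.GradedSMul 𝒜 ℳ] [DirectSum.Decomposition ℳ]
  {N τ' : Type u} [AddCommGroup N] [Module B N] [SetLike τ' N] [AddSubgroupClass τ' N] (𝒩 : ℕ → τ')
  [SetLike.GradedSMul ℬ 𝒩] [DirectSum.Decomposition 𝒩]
  (v : M →ₛₗ[ψ.toRingHom] N) (hv : ∀ (i : ℕ) (m : M), m ∈ ℳ i → v m ∈ 𝒩 i)

include hv in
/-- an injective degree-preserving map reflects degrees -/
theorem mem_of_map_mem (hinj : Function.Injective v) {i : ℕ} {m : M} (hm : v m ∈ 𝒩 i) :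
    m ∈ ℳ i := by
  classical
  rw [← DirectSum.sum_support_decompose ℳ m]
  refine sum_mem (fun j _ => ?_)
  by_cases hji : j = i
  · subst hji
    exact SetLike.coe_mem _
  · have h0 : v ((DirectSum.decompose ℳ m j : ℳ j) : M) = 0 := by
      rw [← coe_decompose_map ℳ 𝒩 v hv, DirectSum.decompose_of_mem_ne 𝒩 hm (Ne.symm hji)]
    have : ((DirectSum.decompose ℳ m j : ℳ j) : M) = 0 := hinj (by rw [h0, map_zero])
    rw [this]
    exact zero_mem _

theorem exists_val_eq' (n : ℤ) {d : ℕ} (hd : 0 < d) {f : B}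
    (hf : f ∈ ℬ d) (V : (Proj ℬ).Opens) (hV : V = Proj.basicOpen ℬ f)
    (t : Γ(GrMod.tilde ℬ 𝒩 n, V)) :
    ∃ (k i : ℕ) (m : 𝒩 i), (i : ℤ) = k * d + n ∧
      ∀ (x : V) (hx : f ^ k ∉ x.1.asHomogeneousIdeal.toIdeal),
        GrMod.val t x = LocalizedModule.mk m.1 ⟨f ^ k, hx⟩ := by
  subst hV
  exact exists_val_eq n hd hf t

theorem comap_app_bijective (hbij : Function.Bijective v) (n : ℤ) {d : ℕ} (hd : 0 < d) (f : A)
    (hf : f ∈ 𝒜 d) :
    Function.Bijective ((GrMod.comap ψ hψ v hv n).app (Proj.basicOpen 𝒜 f)) := by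
  classical
  have hψf : ψ f ∈ ℬ d := ψ.map_mem hf
  have hfirr : ψ f ∈ (HomogeneousIdeal.irrelevant ℬ).toIdeal :=
    HomogeneousIdeal.mem_irrelevant_of_mem ℬ hd hψf
  have hV : (Proj.map ψ hψ ⁻¹ᵁ Proj.basicOpen 𝒜 f : (Proj ℬ).Opens) = Proj.basicOpen ℬ (ψ f) := rfl
  have hfk : ∀ k : ℕ, f ^ k ∈ 𝒜 (k * d) := by
    intro k
    have := SetLike.pow_mem_graded k hf
    rwa [smul_eq_mul] at this
  constructor
  · -- injectivity
    intro s s' hss
    have hz : ∀ s₀ : Γ(GrMod.tilde 𝒜 ℳ n, Proj.basicOpen 𝒜 f),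
        (GrMod.comap ψ hψ v hv n).app (Proj.basicOpen 𝒜 f) s₀ = 0 → s₀ = 0 := by
      intro s₀ h0
      obtain ⟨k, i, m, hi, hform⟩ := exists_val_eq (𝒜 := 𝒜) (ℳ := ℳ) n hd hf s₀
      have hloc : ∀ y : ProjectiveSpectrum ℬ, ψ f ∉ y.asHomogeneousIdeal.toIdeal →
          ∃ c : B, c ∉ y.asHomogeneousIdeal.toIdeal ∧ c • v m.1 = 0 := by
        intro y hy
        have hyV : y ∈ (Proj.map ψ hψ ⁻¹ᵁ Proj.basicOpen 𝒜 f : (Proj ℬ).Opens) :=
          (ProjectiveSpectrum.mem_basicOpen ℬ (ψ f) y).mpr hy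
        have hxk : f ^ k ∉ (ProjectiveSpectrum.comap ψ hψ y).asHomogeneousIdeal.toIdeal :=
          pow_notMem k ⟨ProjectiveSpectrum.comap ψ hψ y, hyV⟩
        have e1 : GrMod.val ((GrMod.comap ψ hψ v hv n).app (Proj.basicOpen 𝒜 f) s₀) ⟨y, hyV⟩ = 0 := by
          rw [h0]; rfl
        rw [GrMod.comap_app_val, hform ⟨ProjectiveSpectrum.comap ψ hψ y, hyV⟩ hxk,
          GrMod.locModMap_mk] at e1
        rw [← LocalizedModule.zero_mk (⟨ψ (f ^ k), hxk⟩ : y.asHomogeneousIdeal.toIdeal.primeCompl),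
          LocalizedModule.mk_eq] at e1
        obtain ⟨c, hc⟩ := e1
        refine ⟨(c : B) * ψ (f ^ k), fun hmem => ?_, ?_⟩
        · rcases y.isPrime.mem_or_mem hmem with h | h
          · exact c.2 h
          · exact hxk h
        · have hc' : (c : B) • (ψ (f ^ k)) • v m.1 = (c : B) • (ψ (f ^ k)) • (0 : N) := hc
          rw [mul_smul, hc', smul_zero, smul_zero]
      obtain ⟨K, hK⟩ := exists_pow_smul_eq_zero_of_locally_killed ℬ 𝒩 hfirr (hv i m.1 m.2) hloc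
      have hker : v (f ^ K • m.1) = 0 := by
        rw [LinearMap.map_smulₛₗ]
        change ψ (f ^ K) • v m.1 = 0
        rw [map_pow, hK]
      have hm0 : f ^ K • m.1 = 0 := hbij.1 (by rw [hker, map_zero])
      refine val_ext (fun x => ?_)
      rw [hform x (pow_notMem k x), val_zero,
        ← LocalizedModule.zero_mk (⟨f ^ k, pow_notMem k x⟩ : x.1.asHomogeneousIdeal.toIdeal.primeCompl),
        LocalizedModule.mk_eq]
      refine ⟨⟨f ^ K, pow_notMem K x⟩, ?_⟩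
      change f ^ K • f ^ k • m.1 = f ^ K • f ^ k • (0 : M)
      rw [smul_comm, hm0]
      simp only [smul_zero]
    have h1 : (GrMod.comap ψ hψ v hv n).app (Proj.basicOpen 𝒜 f) (s - s') = 0 := by
      rw [map_sub, hss, sub_self]
    exact sub_eq_zero.mp (hz _ h1)
  · -- surjectivity
    intro t
    obtain ⟨k, i, m', hi, hform⟩ := exists_val_eq' 𝒩 n hd hψf
      (Proj.map ψ hψ ⁻¹ᵁ Proj.basicOpen 𝒜 f) hV t
    obtain ⟨m, hm⟩ := hbij.2 m'.1
    have hmi : m ∈ ℳ i := mem_of_map_mem ψ ℳ 𝒩 v hv hbij.1 (by rw [hm]; exact m'.2)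
    have hdeg : (i : ℤ) = ((k * d : ℕ) : ℤ) + n := by
      push_cast
      exact hi
    refine ⟨mfrac ℳ (Proj.basicOpen 𝒜 f) ⟨m, hmi⟩ ⟨f ^ k, hfk k⟩ (fun x => pow_notMem k x) n hdeg,
      ?_⟩
    refine val_ext (fun y => ?_)
    have hyk : ψ f ^ k ∉ y.1.asHomogeneousIdeal.toIdeal := by
      intro hmem
      exact (ProjectiveSpectrum.mem_basicOpen ℬ (ψ f) y.1).mp y.2 (y.1.isPrime.mem_of_pow_mem k hmem)
    rw [GrMod.comap_app_val, val_mfrac, GrMod.locModMap_mk, hform y hyk, LocalizedModule.mk_eq]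
    refine ⟨1, ?_⟩
    rw [one_smul, one_smul]
    change ψ f ^ k • v m = ψ (f ^ k) • m'.1
    rw [hm, map_pow]

theorem isIso_comap (hbij : Function.Bijective v) (n : ℤ) : IsIso (GrMod.comap ψ hψ v hv n) := by
  apply isIso_of_bijective_on_basis
  intro W x hx
  obtain ⟨d, hd, f, hf, hxf, hfW⟩ := exists_basicOpen_le 𝒜 W x hx
  exact ⟨Proj.basicOpen 𝒜 f, hxf, hfW, comap_app_bijective ψ hψ ℳ 𝒩 v hv hbij n hd f hf⟩

end comap

end Groth.Agent.Lib.Helper3.GrModComap
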