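import Groth.Agent.Lib.Helper3.QCSec

/-!
# Morphisms of sheaves of modules from sectionwise maps
-/

set_option autoImplicit false
universe u
open CategoryTheory CategoryTheory.Limits AlgebraicGeometry TopologicalSpace Opposite
open Scheme.Modules

namespace Groth.Agent.Lib.Helper3.HomMk

open QCSec

variable {X : Scheme.{u}}

/-- a morphism of modules given sectionwise -/
noncomputable def homMk {M N : X.Modules} (φ : ∀ U : X.Opens, Γ(M, U) → Γ(N, U))
    (hadd : ∀ (U : X.Opens) (s s' : Γ(M, U)), φ U (s + s') = φ U s + φ U s')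
    (hsmul : ∀ (U : X.Opens) (a : Γ(X, U)) (s : Γ(M, U)), φ U (a • s) = a • φ U s)
    (hres : ∀ {U V : X.Opens} (h : V ≤ U) (s : Γ(M, U)), res N h (φ U s) = φ V (res M h s)) :
    M ⟶ N :=
  (⟨{ app := fun V => ModuleCat.ofHom
        ({ toFun := fun s => φ V.unop s
           map_add' := fun s s' => hadd V.unop s s'
           map_smul' := fun a s => hsmul V.unop a s } :
          (M.val.obj V) →ₗ[(X.ringCatSheaf.obj.obj V)] (N.val.obj V))
      naturality := fun {V₁ V₂} f => by
        ext s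
        exact (hres (leOfHom f.unop) s).symm }⟩ : SheafOfModules.Hom M N)

theorem homMk_app {M N : X.Modules} (φ : ∀ U : X.Opens, Γ(M, U) → Γ(N, U))
    (hadd : ∀ (U : X.Opens) (s s' : Γ(M, U)), φ U (s + s') = φ U s + φ U s')
    (hsmul : ∀ (U : X.Opens) (a : Γ(X, U)) (s : Γ(M, U)), φ U (a • s) = a • φ U s)
    (hres : ∀ {U V : X.Opens} (h : V ≤ U) (s : Γ(M, U)), res N h (φ U s) = φ V (res M h s))
    (U : X.Opens) (s : Γ(M, U)) : (homMk φ hadd hsmul hres).app U s = φ U s := rfl

/-- an isomorphism of modules given sectionwise -/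
noncomputable def isoMk {M N : X.Modules} (φ : ∀ U : X.Opens, Γ(M, U) → Γ(N, U))
    (ψ : ∀ U : X.Opens, Γ(N, U) → Γ(M, U))
    (hadd : ∀ (U : X.Opens) (s s' : Γ(M, U)), φ U (s + s') = φ U s + φ U s')
    (hsmul : ∀ (U : X.Opens) (a : Γ(X, U)) (s : Γ(M, U)), φ U (a • s) = a • φ U s)
    (hres : ∀ {U V : X.Opens} (h : V ≤ U) (s : Γ(M, U)), res N h (φ U s) = φ V (res M h s))
    (h1 : ∀ (U : X.Opens) (s : Γ(M, U)), ψ U (φ U s) = s)
    (h2 : ∀ (U : X.Opens) (t : Γ(N, U)), φ U (ψ U t) = t) : M ≅ N where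
  hom := homMk φ hadd hsmul hres
  inv := homMk ψ
    (fun U t t' => by
      rw [← h1 U (ψ U t + ψ U t'), hadd, h2, h2])
    (fun U a t => by
      rw [← h1 U (a • ψ U t), hsmul, h2])
    (fun {U V} h t => by
      rw [← h1 V (res M h (ψ U t)), ← hres, h2])
  hom_inv_id := by
    apply Scheme.Modules.hom_ext
    intro U
    ext s
    exact h1 U s
  inv_hom_id := by
    apply Scheme.Modules.hom_ext
    intro U
    ext t
    exact h2 U t

end Groth.Agent.Lib.Helper3.HomMk
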