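import Groth.Agent.Lib.Helper3.ModBasis
import Groth.Agent.Lib.Helper3.HomMk

/-!
# Gluing morphisms of `O_X`-modules from their values on small opens
-/

set_option autoImplicit false
universe u
open CategoryTheory CategoryTheory.Limits AlgebraicGeometry TopologicalSpace Opposite
open Scheme.Modules

namespace Groth.Agent.Lib.Helper3.ModGlue

open QCSec InvGen HomMk

variable {X : Scheme.{u}}

/-- two morphisms of modules which agree on sections over a basis of opens are equal -/
theorem hom_ext_of_small {M N : X.Modules} (Small : X.Opens → Prop)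
    (hcov : ∀ (W : X.Opens) (x : X), x ∈ W → ∃ V : X.Opens, Small V ∧ x ∈ V ∧ V ≤ W)
    (φ ψ : M ⟶ N) (h : ∀ (V : X.Opens), Small V → ∀ s : Γ(M, V), φ.app V s = ψ.app V s) :
    φ = ψ := by
  apply Scheme.Modules.hom_ext
  intro W
  ext s
  have h0 : φ.app W s - ψ.app W s = 0 := by
    refine ModBasis.eq_zero_of_locally_zero N W _ (fun x hx => ?_)
    obtain ⟨V, hV, hxV, hVW⟩ := hcov W x hx
    refine ⟨V, hVW, hxV, ?_⟩
    rw [res_sub, ← QCExact.app_res', ← QCExact.app_res', h V hV, sub_self]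
  exact sub_eq_zero.mp h0

/-- a compatible family of linear maps on sections over small opens glues to a morphism -/
theorem exists_hom_of_small {M N : X.Modules} (Small : X.Opens → Prop)
    (hmono : ∀ {V V' : X.Opens}, V' ≤ V → Small V → Small V')
    (hcov : ∀ x : X, ∃ V : X.Opens, Small V ∧ x ∈ V)
    (D : ∀ V : X.Opens, Small V → Γ(M, V) → Γ(N, V))
    (hadd : ∀ V hV s s', D V hV (s + s') = D V hV s + D V hV s')
    (hsmul : ∀ V hV (a : Γ(X, V)) s, D V hV (a • s) = a • D V hV s)
    (hres : ∀ {V V' : X.Opens} (h : V' ≤ V) (hV : Small V) (hV' : Small V') (s : Γ(M, V)),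
      res N h (D V hV s) = D V' hV' (res M h s)) :
    ∃ φ : M ⟶ N, ∀ V (hV : Small V) (s : Γ(M, V)), φ.app V s = D V hV s := by
  -- the glued value
  have key : ∀ (U : X.Opens) (s : Γ(M, U)), ∃ b : Γ(N, U),
      ∀ (V : X.Opens) (hV : Small V) (hVU : V ≤ U), res N hVU b = D V hV (res M hVU s) := by
    intro U s
    let J := {V : X.Opens // Small V ∧ V ≤ U}
    obtain ⟨b, hb⟩ := sec_glue N (fun j : J => j.1) U (fun j => j.2.2)
      (by
        intro x hx
        obtain ⟨V, hV, hxV⟩ := hcov x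
        exact Opens.mem_iSup.mpr ⟨⟨V ⊓ U, hmono inf_le_left hV, inf_le_right⟩, ⟨hxV, hx⟩⟩)
      (fun j => D j.1 j.2.1 (res M j.2.2 s))
      (by
        intro i j
        rw [hres inf_le_left i.2.1 (hmono inf_le_left i.2.1), hres inf_le_right j.2.1
          (hmono inf_le_left i.2.1), res_res, res_res])
    exact ⟨b, fun V hV hVU => hb ⟨V, hV, hVU⟩⟩
  choose Φ hΦ using key
  have huniq : ∀ (U : X.Opens) (s : Γ(M, U)) (b : Γ(N, U)),
      (∀ (V : X.Opens) (hV : Small V) (hVU : V ≤ U), res N hVU b = D V hV (res M hVU s)) →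
        b = Φ U s := by
    intro U s b hb
    have h0 : b - Φ U s = 0 := by
      refine ModBasis.eq_zero_of_locally_zero N U _ (fun x hx => ?_)
      obtain ⟨V, hV, hxV⟩ := hcov x
      refine ⟨V ⊓ U, inf_le_right, ⟨hxV, hx⟩, ?_⟩
      rw [res_sub, hb _ (hmono inf_le_left hV), hΦ U s _ (hmono inf_le_left hV), sub_self]
    exact sub_eq_zero.mp h0
  refine ⟨homMk Φ ?_ ?_ ?_, ?_⟩
  · intro U s s'
    refine (huniq U (s + s') _ (fun V hV hVU => ?_)).symm
    rw [QCExact.res_add, hΦ U s V hV hVU, hΦ U s' V hV hVU, QCExact.res_add, hadd]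
  · intro U a s
    refine (huniq U (a • s) _ (fun V hV hVU => ?_)).symm
    rw [res_smul, hΦ U s V hV hVU, res_smul, hsmul]
  · intro U U' h s
    refine huniq U' (res M h s) _ (fun V hV hVU => ?_)
    rw [res_res, hΦ U s V hV (hVU.trans h), res_res]
  · intro V hV s
    rw [homMk_app]
    have := hΦ V s V hV le_rfl
    rw [res_self, res_self] at this
    exact this

end Groth.Agent.Lib.Helper3.ModGlue
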