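import Groth.Agent.Lib.Helper3.TwistBasic
import Groth.Agent.Lib.Helper3.InvAmple

/-!
# Multiplication of twisting sheaves: `O(m) ⊗ O(n) ⟶ O(m+n)`
-/

set_option autoImplicit false
universe u
open CategoryTheory CategoryTheory.Limits AlgebraicGeometry TopologicalSpace Opposite
open Scheme.Modules

namespace Groth.Agent.Lib.Helper3.TwistMul

open QCSec InvGen InvTensor InvMonoidal TensorDesc TwistBasic

variable {R A : Type u} [CommRing R] [CommRing A] [Algebra R A] {𝒜 : ℕ → Submodule R A}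
  [GradedAlgebra 𝒜]

/-- a morphism of modules which is bijective on sections over all small opens is an iso -/
theorem isIso_of_locally_bijective {X : Scheme.{u}} {F G : X.Modules} (φ : F ⟶ G)
    (h : ∀ x : X, ∃ U : X.Opens, x ∈ U ∧ ∀ V : X.Opens, V ≤ U → Function.Bijective (φ.app V)) :
    IsIso φ := by
  haveI : Mono φ := by
    rw [QCProps.mono_iff_app_injective]
    intro W t t' htt
    have hz : ∀ t₀ : Γ(F, W), φ.app W t₀ = 0 → t₀ = 0 := by
      intro t₀ ht₀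
      have hloc : ∀ x : {x : X // x ∈ W}, ∃ (W' : X.Opens) (hW' : W' ≤ W), x.1 ∈ W' ∧
          res F hW' t₀ = 0 := by
        intro x
        obtain ⟨U, hxU, hU⟩ := h x.1
        refine ⟨W ⊓ U, inf_le_left, ⟨x.2, hxU⟩, ?_⟩
        apply (hU (W ⊓ U) inf_le_right).1
        rw [QCExact.app_res', ht₀, res_zero, map_zero]
      choose W' hW' hxW' hres using hloc
      exact sec_eq_of_locally_eq F W' W hW' (fun x hx => Opens.mem_iSup.mpr ⟨⟨x, hx⟩, hxW' _⟩)
        t₀ 0 (fun i => by rw [hres i, res_zero])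
    have h1 : φ.app W (t - t') = 0 := by rw [map_sub, htt, sub_self]
    exact sub_eq_zero.mp (hz _ h1)
  haveI : Epi φ := by
    apply QCExact.epi_of_locally_surjective
    intro W s x hxW
    obtain ⟨U, hxU, hU⟩ := h x
    refine ⟨W ⊓ U, inf_le_left, ⟨hxW, hxU⟩, ?_⟩
    exact (hU (W ⊓ U) inf_le_right).2 _
  exact isIso_of_mono_of_epi φ

/-- the product of a section of `O(m)` and a section of `O(n)` -/
def mulSec {m n : ℤ} {U : (Proj 𝒜).Opens} (s : Γ(Twist.twist 𝒜 m, U))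
    (t : Γ(Twist.twist 𝒜 n, U)) : Γ(Twist.twist 𝒜 (m + n), U) :=
  mkSec (m + n) U (fun x => val s x * val t x) ((isLocFrac_val s).mul (isLocFrac_val t))

theorem val_mulSec {m n : ℤ} {U : (Proj 𝒜).Opens} (s : Γ(Twist.twist 𝒜 m, U))
    (t : Γ(Twist.twist 𝒜 n, U)) (x : U) : val (mulSec s t) x = val s x * val t x := rfl

/-- the multiplication pairing `O(m) × O(n) → O(m+n)` -/
def mulPairing (m n : ℤ) :
    Pairing (Twist.twist 𝒜 m) (Twist.twist 𝒜 n) (Twist.twist 𝒜 (m + n)) where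
  toFun _ s t := mulSec s t
  add_left _ s s' t := val_ext fun x => by
    rw [val_add, val_mulSec, val_mulSec, val_mulSec, val_add, add_mul]
  add_right _ s t t' := val_ext fun x => by
    rw [val_add, val_mulSec, val_mulSec, val_mulSec, val_add, mul_add]
  smul_left _ a s t := val_ext fun x => by
    rw [val_smul, val_mulSec, val_mulSec, val_smul, mul_assoc]
  smul_right _ a s t := val_ext fun x => by
    rw [val_smul, val_mulSec, val_mulSec, val_smul, mul_left_comm]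
  map_res _ _ _ := val_ext fun _ => rfl

/-- the multiplication map `O(m) ⊗ O(n) ⟶ O(m+n)` -/
noncomputable def mulHom (m n : ℤ) :
    CohB1.tensorMod (Twist.twist 𝒜 m) (Twist.twist 𝒜 n) ⟶ Twist.twist 𝒜 (m + n) :=
  (mulPairing m n).hom

theorem mulHom_tm (m n : ℤ) (U : (Proj 𝒜).Opens) (s : Γ(Twist.twist 𝒜 m, U))
    (t : Γ(Twist.twist 𝒜 n, U)) :
    (mulHom m n).app U (tm _ _ U s t) = mulSec s t :=
  (mulPairing m n).hom_tm U s t

/-- multiplication by a unit fraction is bijective -/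
theorem mulSec_frac_bijective (m : ℤ) {n : ℤ} (U : (Proj 𝒜).Opens) {i j : ℕ} (a : 𝒜 i) (b : 𝒜 j)
    (ha : ∀ x : U, a.1 ∉ x.1.asHomogeneousIdeal)
    (hb : ∀ x : U, b.1 ∉ x.1.asHomogeneousIdeal) (hn : (i : ℤ) = j + n) :
    Function.Bijective (fun s : Γ(Twist.twist 𝒜 m, U) => mulSec s (frac U a b hb n hn)) := by
  constructor
  · intro s s' hss
    apply val_ext
    intro x
    have h1 : val (mulSec s (frac U a b hb n hn)) x = val (mulSec s' (frac U a b hb n hn)) x :=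
      congrArg (fun t => val t x) hss
    rw [val_mulSec, val_mulSec, val_frac] at h1
    have hu := mk_mul_mk_swap (x := x.1) a.1 b.1 (ha x) (hb x)
    calc val s x = val s x * Localization.mk a.1 ⟨b.1, hb x⟩ *
          Localization.mk b.1 ⟨a.1, ha x⟩ := by rw [mul_assoc, hu, mul_one]
      _ = val s' x * Localization.mk a.1 ⟨b.1, hb x⟩ *
          Localization.mk b.1 ⟨a.1, ha x⟩ := by rw [h1]
      _ = val s' x := by rw [mul_assoc, hu, mul_one]
  · intro t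
    have hw : IsLocFrac m (fun x : U => val t x * Localization.mk b.1 ⟨a.1, ha x⟩) :=
      ((isLocFrac_val t).mul (isLocFrac_frac b a ha (-n) (by omega))).cast (by omega)
    refine ⟨mkSec m U _ hw, ?_⟩
    apply val_ext
    intro x
    change val (mulSec (mkSec m U _ hw) (frac U a b hb n hn)) x = _
    rw [val_mulSec, val_mkSec, val_frac, mul_assoc, mul_comm (Localization.mk b.1 _),
      mk_mul_mk_swap (x := x.1) a.1 b.1 (ha x) (hb x), mul_one]

/-- `O(m) ⊗ O(n) ≅ O(m+n)` when `O(n)` is locally generated by unit fractions -/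
theorem isIso_mulHom_right (m n : ℤ)
    (h : ∀ x : Proj 𝒜, ∃ U : (Proj 𝒜).Opens, x ∈ U ∧ HasUnitFrac n U) :
    IsIso (mulHom (𝒜 := 𝒜) m n) := by
  apply isIso_of_locally_bijective
  intro x
  obtain ⟨U, hxU, i, j, a, b, ha, hb, hd⟩ := h x
  refine ⟨U, hxU, fun V hV => ?_⟩
  have hg := isGen_frac U a b ha hb n hd
  have h1 := tm_gen_bijective (Twist.twist 𝒜 m) (Twist.twist 𝒜 n) hg V hV
  have h2 := mulSec_frac_bijective m V a b (fun x => ha ⟨x.1, hV x.2⟩)
    (fun x => hb ⟨x.1, hV x.2⟩) hd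
  have h3 : (fun s : Γ(Twist.twist 𝒜 m, V) => mulSec s (frac V a b
      (fun x => hb ⟨x.1, hV x.2⟩) n hd)) =
      ((mulHom m n).app V) ∘ (fun t : Γ(Twist.twist 𝒜 m, V) =>
        tm (Twist.twist 𝒜 m) (Twist.twist 𝒜 n) V t (res (Twist.twist 𝒜 n) hV
          (frac U a b hb n hd))) := by
    funext s
    change _ = (mulHom m n).app V (tm _ _ V s _)
    rw [mulHom_tm, res_frac]
  rw [h3] at h2
  exact (Function.Bijective.of_comp_iff _ h1).mp h2


/-- `O(m) = O(n)` for `m = n` -/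
noncomputable def twistCast {m n : ℤ} (h : m = n) : Twist.twist 𝒜 m ≅ Twist.twist 𝒜 n :=
  eqToIso (by rw [h])

/-- `O(m) ⊗ O(n) ≅ O(m+n)` when `O(n)` is locally generated by unit fractions -/
noncomputable def mulIsoRight (m n : ℤ)
    (h : ∀ x : Proj 𝒜, ∃ U : (Proj 𝒜).Opens, x ∈ U ∧ HasUnitFrac n U) :
    CohB1.tensorMod (Twist.twist 𝒜 m) (Twist.twist 𝒜 n) ≅ Twist.twist 𝒜 (m + n) :=
  haveI := isIso_mulHom_right (𝒜 := 𝒜) m n h
  asIso (mulHom m n)

/-- `O(m) ⊗ O(n) ≅ O(m+n)` when `O(m)` is locally generated by unit fractions -/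
noncomputable def mulIsoLeft (m n : ℤ)
    (h : ∀ x : Proj 𝒜, ∃ U : (Proj 𝒜).Opens, x ∈ U ∧ HasUnitFrac m U) :
    CohB1.tensorMod (Twist.twist 𝒜 m) (Twist.twist 𝒜 n) ≅ Twist.twist 𝒜 (m + n) :=
  braid _ _ ≪≫ mulIsoRight n m h ≪≫ twistCast (add_comm n m)

/-- the unit section of `O(0)` -/
def oneSec (U : (Proj 𝒜).Opens) : Γ(Twist.twist 𝒜 0, U) :=
  frac U (⟨1, SetLike.GradedOne.one_mem⟩ : 𝒜 0) (⟨1, SetLike.GradedOne.one_mem⟩ : 𝒜 0)
    (fun x h => x.1.isPrime.ne_top ((Ideal.eq_top_iff_one _).mpr h)) 0 (by simp)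

theorem isGen_oneSec (U : (Proj 𝒜).Opens) : IsGen (Twist.twist 𝒜 0) U (oneSec U) :=
  isGen_frac U _ _ (fun x h => x.1.isPrime.ne_top ((Ideal.eq_top_iff_one _).mpr h)) _ 0 _

/-- `O ≅ O(0)` -/
noncomputable def unitIso : Coh.structureModule (Proj 𝒜) ≅ Twist.twist 𝒜 0 :=
  haveI : IsIso (InvAmple.globalHom (Twist.twist 𝒜 0) (oneSec ⊤)) := by
    apply PbTensor.isIso_of_isGen_cover
    intro x
    refine ⟨⊤, ofFun ⊤ 1, trivial, isGen_one ⊤, ?_⟩
    have h1 : (InvAmple.globalHom (Twist.twist 𝒜 0) (oneSec ⊤)).app ⊤ (ofFun ⊤ 1) =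
        oneSec ⊤ := by
      have := InvAmple.sec_globalHom (Twist.twist 𝒜 0) (oneSec (𝒜 := 𝒜) ⊤) ⊤
      rw [res_self] at this
      exact this
    rw [h1]
    exact isGen_oneSec ⊤
  asIso (InvAmple.globalHom (Twist.twist 𝒜 0) (oneSec ⊤))

/-- `O(n) ≅ O(1)^{⊗ n}` when `O(1)` is locally generated by unit fractions -/
noncomputable def powIso
    (h : ∀ x : Proj 𝒜, ∃ U : (Proj 𝒜).Opens, x ∈ U ∧ HasUnitFrac 1 U) :
    (n : ℕ) → (Twist.twist 𝒜 (n : ℤ) ≅ CohB1.tensorPow (Twist.twist 𝒜 1) n)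
  | 0 => (unitIso (𝒜 := 𝒜)).symm
  | n + 1 => twistCast (by push_cast; rfl) ≪≫ (mulIsoRight (n : ℤ) 1 h).symm ≪≫
      tensorMapIso (powIso h n) (Iso.refl _)

theorem hasUnitFrac_of_cover_degOne
    (hcov : (⨆ f : 𝒜 1, Proj.basicOpen 𝒜 (f : A)) = ⊤) (n : ℤ) (x : Proj 𝒜) :
    ∃ U : (Proj 𝒜).Opens, x ∈ U ∧ HasUnitFrac n U := by
  have hx : x ∈ (⨆ f : 𝒜 1, Proj.basicOpen 𝒜 (f : A)) := by rw [hcov]; trivial
  obtain ⟨f, hxf⟩ := Opens.mem_iSup.mp hx
  refine ⟨Proj.basicOpen 𝒜 (f : A), hxf, ?_⟩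
  have := (hasUnitFrac_basicOpen f.2).zsmul n
  simpa using this

end Groth.Agent.Lib.Helper3.TwistMul
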