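import Groth.Agent.Lib.Helper3.TwistMul
import Groth.Agent.Lib.Helper3.FreeBasis
import Groth.Agent.Lib.Helper3.QcohStalk
import Groth.Prelude.Def_ProjUP

/-!
# Global sections of `O(d)` on `Proj`: generation, ampleness
-/

set_option autoImplicit false
universe u
open CategoryTheory CategoryTheory.Limits AlgebraicGeometry TopologicalSpace Opposite
open Scheme.Modules

namespace Groth.Agent.Lib.Helper3.TwistProj

open QCSec InvGen InvTensor InvMonoidal TwistBasic TwistMul InvAmple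

/-- global sections which are local generators generate the stalks -/
theorem generatedBy_of_isGen {X : Scheme.{u}} (L : X.Modules) {ι : Type*} (s : ι → ProjUP.Γm L)
    (h : ∀ x : X, ∃ (i : ι) (U : X.Opens), x ∈ U ∧
      IsGen L U (res L (le_top : U ≤ ⊤) (s i))) : ProjUP.GeneratedBy L s := by
  intro x
  obtain ⟨i, U, hxU, hg⟩ := h x
  rw [eq_top_iff]
  intro y _
  obtain ⟨V, hxV, t, rfl⟩ := TopCat.Presheaf.exists_germ_eq L.presheaf y
  obtain ⟨c, hc⟩ := (hg (V ⊓ U) inf_le_right).2 (res L (inf_le_left : V ⊓ U ≤ V) t)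
  have hxW : x ∈ V ⊓ U := ⟨hxV, hxU⟩
  have h1 : L.presheaf.germ V x hxV t =
      L.presheaf.germ (V ⊓ U) x hxW (res L (inf_le_left : V ⊓ U ≤ V) t) :=
    (TopCat.Presheaf.germ_res_apply L.presheaf (homOfLE (inf_le_left : V ⊓ U ≤ V)) x hxW t).symm
  have h2 : L.presheaf.germ (V ⊓ U) x hxW
      (res L (inf_le_right : V ⊓ U ≤ U) (res L (le_top : U ≤ ⊤) (s i))) =
      L.presheaf.germ ⊤ x trivial (s i) := by
    rw [res_res]
    exact TopCat.Presheaf.germ_res_apply L.presheaf (homOfLE (le_top : V ⊓ U ≤ ⊤)) x hxW (s i)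
  rw [h1, ← hc]
  dsimp only
  rw [QS.germ_smul, h2]
  exact Submodule.smul_mem _ _ (Submodule.subset_span ⟨i, rfl⟩)


variable {R A : Type u} [CommRing R] [CommRing A] [Algebra R A] {𝒜 : ℕ → Submodule R A}
  [GradedAlgebra 𝒜]

theorem one_notMem (x : ProjectiveSpectrum 𝒜) : (1 : A) ∉ x.asHomogeneousIdeal :=
  fun h => x.isPrime.ne_top ((Ideal.eq_top_iff_one _).mpr h)

/-- the global section `g / 1` of `O(d)` -/
def gsec {d : ℕ} (g : 𝒜 d) : Γ(Twist.twist 𝒜 (d : ℤ), ⊤) := Twist.globalOf 𝒜 g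

theorem res_gsec {d : ℕ} (g : 𝒜 d) (U : (Proj 𝒜).Opens) :
    res (Twist.twist 𝒜 (d : ℤ)) (le_top : U ≤ ⊤) (gsec g) =
      frac U g (⟨1, SetLike.GradedOne.one_mem⟩ : 𝒜 0) (fun x => one_notMem x.1) (d : ℤ)
        (by simp) :=
  val_ext (fun _ => rfl)

theorem isGen_res_gsec {d : ℕ} (g : 𝒜 d) {U : (Proj 𝒜).Opens}
    (hU : U ≤ Proj.basicOpen 𝒜 (g : A)) :
    IsGen (Twist.twist 𝒜 (d : ℤ)) U (res _ (le_top : U ≤ ⊤) (gsec g)) := by
  rw [res_gsec]
  exact isGen_frac U g _ (fun x => hU x.2) _ _ _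

theorem isUnit_mk_of_notMem {x : ProjectiveSpectrum 𝒜} (a b : A)
    (ha : a ∉ x.asHomogeneousIdeal) (hb : b ∉ x.asHomogeneousIdeal) :
    IsUnit (Localization.mk a ⟨b, hb⟩ : Twist.Loc 𝒜 x) :=
  IsUnit.of_mul_eq_one _ (mk_mul_mk_swap a b ha hb)

/-- if `O(d)` is locally generated by unit fractions, the non-vanishing locus of `g / 1` is
`D₊(g)` -/
theorem genLocus_gsec {d : ℕ} (g : 𝒜 d)
    (h : ∀ x : Proj 𝒜, ∃ U : (Proj 𝒜).Opens, x ∈ U ∧ HasUnitFrac (d : ℤ) U) :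
    CohB1.genLocus (Twist.twist 𝒜 (d : ℤ)) (globalHom _ (gsec g)) = Proj.basicOpen 𝒜 (g : A) := by
  apply le_antisymm
  · intro x hx
    obtain ⟨W, hxW, hW⟩ := (mem_genLocus_iff _ x).mp hx
    obtain ⟨U, hxU, i, j, a, b, ha, hb, hd⟩ := h x
    rw [sec_globalHom] at hW
    have hV := hW (W ⊓ U) inf_le_left
    rw [res_res, res_gsec] at hV
    obtain ⟨c, hc⟩ := hV.2 (frac (W ⊓ U) a b (fun y => hb ⟨y.1, y.2.2⟩) (d : ℤ) hd)
    have h1 := congrArg (fun t => val t (⟨x, ⟨hxW, hxU⟩⟩ : (W ⊓ U : (Proj 𝒜).Opens))) hc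
    dsimp only at h1
    rw [val_smul, val_frac, val_frac] at h1
    have hu : IsUnit (Localization.mk a.1 ⟨b.1, hb ⟨x, hxU⟩⟩ : Twist.Loc 𝒜 x) :=
      isUnit_mk_of_notMem a.1 b.1 (ha ⟨x, hxU⟩) (hb ⟨x, hxU⟩)
    rw [← h1] at hu
    have hu2 := isUnit_of_mul_isUnit_right hu
    have e1 : (Localization.mk g.1 ⟨1, one_notMem x⟩ : Twist.Loc 𝒜 x) =
        algebraMap A (Twist.Loc 𝒜 x) g.1 := Localization.mk_one_eq_algebraMap g.1
    change IsUnit (Localization.mk g.1 ⟨1, one_notMem x⟩ : Twist.Loc 𝒜 x) at hu2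
    rw [e1] at hu2
    have : x.asHomogeneousIdeal.toIdeal.IsPrime := x.isPrime
    exact (IsLocalization.AtPrime.isUnit_to_map_iff (Twist.Loc 𝒜 x)
      x.asHomogeneousIdeal.toIdeal g.1).mp hu2
  · apply le_genLocus
    rw [sec_globalHom]
    exact isGen_res_gsec g le_rfl

/-- `O(d)`, `d > 0`, is ample if `Proj` is quasi-compact and covered by the `D₊(g)`,
`g` of degree `d` -/
theorem isAmple_twist_of_cover {d : ℕ} (hd : 0 < d) [CompactSpace (Proj 𝒜)]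
    (h : ∀ x : Proj 𝒜, ∃ g : 𝒜 d, x ∈ Proj.basicOpen 𝒜 (g : A)) :
    CohB1.IsAmple (Twist.twist 𝒜 (d : ℤ)) := by
  have hu : ∀ x : Proj 𝒜, ∃ U : (Proj 𝒜).Opens, x ∈ U ∧ HasUnitFrac (d : ℤ) U := fun x => by
    obtain ⟨g, hg⟩ := h x
    exact ⟨_, hg, hasUnitFrac_basicOpen g.2⟩
  have hL := isInvertible_twist_of_cover (d : ℤ) hu
  apply isAmple_of_secLocus hL
  intro x
  obtain ⟨g, hg⟩ := h x
  refine ⟨Proj.basicOpen 𝒜 (g : A), ?_, hg, Proj.isAffineOpen_basicOpen 𝒜 (g : A) g.2 hd⟩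
  have h1 := genLocus_comp_iso (globalHom _ (gsec g)) (powOne (Twist.twist 𝒜 (d : ℤ))).hom
  rw [genLocus_gsec g hu] at h1
  rw [← h1]
  exact secLocus_of_pos Nat.one_pos _

theorem generatedBy_gsec_of_cover {d : ℕ}
    (h : ∀ x : Proj 𝒜, ∃ g : 𝒜 d, x ∈ Proj.basicOpen 𝒜 (g : A)) :
    ProjUP.GeneratedBy (Twist.twist 𝒜 (d : ℤ))
      (fun b : 𝒜 d => (Twist.globalOf 𝒜 b : ProjUP.Γm (Twist.twist 𝒜 (d : ℤ)))) := by
  apply generatedBy_of_isGen
  intro x
  obtain ⟨g, hg⟩ := h x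
  exact ⟨g, Proj.basicOpen 𝒜 (g : A), hg, isGen_res_gsec g le_rfl⟩


/-- a scheme covered by finitely many affine opens is quasi-compact -/
theorem compactSpace_of_finite_affine_cover {X : Scheme.{u}} {ι : Type*} [Finite ι]
    (U : ι → X.Opens) (hU : ∀ i, IsAffineOpen (U i)) (hcov : ∀ x : X, ∃ i, x ∈ U i) :
    CompactSpace X := by
  rw [← isCompact_univ_iff]
  have : (Set.univ : Set X) = ⋃ i, (U i : Set X) := by
    ext x
    simp only [Set.mem_univ, Set.mem_iUnion, SetLike.mem_coe, true_iff]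
    exact hcov x
  rw [this]
  exact isCompact_iUnion fun i => (hU i).isCompact

theorem adjoin_zero_eq_top_of_adjoin {ι : Type*} (f : ι → A)
    (hgen : Algebra.adjoin R (Set.range f) = ⊤) :
    Algebra.adjoin (𝒜 0) (Set.range f) = ⊤ := by
  rw [eq_top_iff]
  have key : ∀ x ∈ Algebra.adjoin R (Set.range f), x ∈ Algebra.adjoin (𝒜 0) (Set.range f) := by
    intro x hx
    induction hx using Algebra.adjoin_induction with
    | mem x hx => exact Algebra.subset_adjoin hx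
    | algebraMap r =>
      have : algebraMap R A r = algebraMap (𝒜 0) A
          ⟨algebraMap R A r, SetLike.algebraMap_mem_graded 𝒜 r⟩ := rfl
      rw [this]
      exact Subalgebra.algebraMap_mem _ _
    | add x y _ _ hx hy => exact add_mem hx hy
    | mul x y _ _ hx hy => exact mul_mem hx hy
  intro x _
  exact key x (by rw [hgen]; trivial)

theorem exists_mem_basicOpen_of_adjoin {ι : Type*} (f : ι → A) (deg : ι → ℕ)
    (hf : ∀ i, f i ∈ 𝒜 (deg i)) (hgen : Algebra.adjoin R (Set.range f) = ⊤) (x : Proj 𝒜) :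
    ∃ i, x ∈ Proj.basicOpen 𝒜 (f i) := by
  have h := Proj.iSup_basicOpen_eq_top' 𝒜 f (fun i => ⟨deg i, hf i⟩)
    (adjoin_zero_eq_top_of_adjoin f hgen)
  have hx : x ∈ ⨆ i, Proj.basicOpen 𝒜 (f i) := by rw [h]; trivial
  exact Opens.mem_iSup.mp hx

theorem exists_mem_basicOpen_of_span {ι : Type*} (f : ι → A)
    (hf : (HomogeneousIdeal.irrelevant 𝒜).toIdeal ≤ Ideal.span (Set.range f)) (x : Proj 𝒜) :
    ∃ i, x ∈ Proj.basicOpen 𝒜 (f i) := by
  have h := Proj.iSup_basicOpen_eq_top 𝒜 f hf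
  have hx : x ∈ ⨆ i, Proj.basicOpen 𝒜 (f i) := by rw [h]; trivial
  exact Opens.mem_iSup.mp hx

end Groth.Agent.Lib.Helper3.TwistProj
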