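import Groth.Agent.Lib.Helper3.AssPoints
import Groth.Prelude.Def_CohB1
import Mathlib.RingTheory.Ideal.MinimalPrime.Localization

/-!
# Weakly associated points of quasi-coherent modules
-/

set_option autoImplicit false
universe u
open CategoryTheory CategoryTheory.Limits AlgebraicGeometry TopologicalSpace

namespace Groth.Agent.Lib.Helper3.QS

theorem colon_bot_singleton_eq_ker {R M : Type*} [CommRing R] [AddCommGroup M] [Module R M] (y : M) :
    Submodule.colon (⊥ : Submodule R M) {y} = LinearMap.ker (LinearMap.toSpanSingleton R M y) := by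
  ext a
  rw [Submodule.mem_colon_singleton, Submodule.mem_bot, LinearMap.mem_ker,
    LinearMap.toSpanSingleton_apply]

/-- With Mathlib's (radical) definition of associated primes, associated and weakly associated
points coincide. -/
theorem isAssPoint_iff_isWeakAssPoint {X : Scheme.{u}} (F : X.Modules) (x : X) :
    Curv2.IsAssPoint F x ↔ Curv2.IsWeakAssPoint F x := by
  unfold Curv2.IsAssPoint Curv2.IsWeakAssPoint IsAssociatedPrime
  rw [Submodule.isAssociatedPrime_def]
  constructor
  · rintro ⟨-, y, hy⟩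
    exact ⟨y, by rw [← colon_bot_singleton_eq_ker]; exact hy.symm⟩
  · rintro ⟨y, hy⟩
    exact ⟨(IsLocalRing.maximalIdeal.isMaximal _).isPrime, y,
      by rw [colon_bot_singleton_eq_ker]; exact hy.symm⟩

/-- If `t ∈ Γ(F,V)` is a nonzero section over an affine open, there is a weakly associated point `z ∈ V`
of `F` at which the germ of `t` is nonzero. -/
theorem exists_weakAssPoint_germ_ne_zero {X : Scheme.{u}} (F : X.Modules) [F.IsQuasicoherent]
    {V : X.Opens} (hV : IsAffineOpen V) (t : Γ(F, V)) (ht : t ≠ 0) :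
    ∃ (z : X) (hz : z ∈ V), Curv2.IsWeakAssPoint F z ∧ F.presheaf.germ V z hz t ≠ 0 := by
  set I : Ideal Γ(X, V) := LinearMap.ker (LinearMap.toSpanSingleton Γ(X, V) Γ(F, V) t) with hI
  have hImem : ∀ a : Γ(X, V), a ∈ I ↔ a • t = 0 := fun a => by
    rw [hI, LinearMap.mem_ker, LinearMap.toSpanSingleton_apply]
  have hIne : I ≠ ⊤ := by
    intro h
    have h1 : (1 : Γ(X, V)) ∈ I := by rw [h]; trivial
    rw [hImem, one_smul] at h1
    exact ht h1
  obtain ⟨𝔪, h𝔪, hI𝔪⟩ := Ideal.exists_le_maximal I hIne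
  have := h𝔪.isPrime
  obtain ⟨p, hp, -⟩ := Ideal.exists_minimalPrimes_le hI𝔪
  have hpp : p.IsPrime := hp.1.1
  obtain ⟨z, hzV, hzp⟩ := QS.exists_point_of_prime hV p
  subst hzp
  have hgerm : F.presheaf.germ V z hzV t ≠ 0 := by
    intro h0
    obtain ⟨c, hcp, hct⟩ := (QS.germ_eq_zero_iff hV F z hzV t).mp h0
    exact hcp (hp.1.2 ((hImem c).mpr hct))
  refine ⟨z, hzV, ⟨F.presheaf.germ V z hzV t, ?_⟩, hgerm⟩
  let _ : Algebra Γ(X, V) (X.presheaf.stalk z) :=
    TopCat.Presheaf.algebra_section_stalk X.presheaf (U := V) ⟨z, hzV⟩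
  have hloc : IsLocalization.AtPrime (X.presheaf.stalk z) (hV.primeIdealOf ⟨z, hzV⟩).asIdeal :=
    hV.isLocalization_stalk ⟨z, hzV⟩
  set J : Ideal (X.presheaf.stalk z) := LinearMap.ker
    (LinearMap.toSpanSingleton (X.presheaf.stalk z) (F.presheaf.stalk z) (F.presheaf.germ V z hzV t))
    with hJ
  have hJmem : ∀ b : X.presheaf.stalk z, b ∈ J ↔ b • F.presheaf.germ V z hzV t = 0 := fun b => by
    rw [hJ, LinearMap.mem_ker, LinearMap.toSpanSingleton_apply]
  have ha : I.map (algebraMap Γ(X, V) (X.presheaf.stalk z)) ≤ J := by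
    rw [Ideal.map_le_iff_le_comap]
    intro a haI
    rw [Ideal.mem_comap, hJmem]
    change X.presheaf.germ V z hzV a • F.presheaf.germ V z hzV t = 0
    rw [← QS.germ_smul, (hImem a).mp haI, map_zero]
  have hJne : J ≠ ⊤ := by
    intro h
    have h1 : (1 : X.presheaf.stalk z) ∈ J := by rw [h]; trivial
    rw [hJmem, one_smul] at h1
    exact hgerm h1
  have hb : J ≤ IsLocalRing.maximalIdeal (X.presheaf.stalk z) := IsLocalRing.le_maximalIdeal hJne
  have hrad : (I.map (algebraMap Γ(X, V) (X.presheaf.stalk z))).radical =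
      IsLocalRing.maximalIdeal (X.presheaf.stalk z) := by
    rw [IsLocalization.AtPrime.radical_map_of_mem_minimalPrimes _
      (hV.primeIdealOf ⟨z, hzV⟩).asIdeal I hp,
      IsLocalization.AtPrime.map_eq_maximalIdeal (hV.primeIdealOf ⟨z, hzV⟩).asIdeal]
  apply le_antisymm
  · calc J.radical ≤ (IsLocalRing.maximalIdeal (X.presheaf.stalk z)).radical := Ideal.radical_mono hb
      _ = IsLocalRing.maximalIdeal (X.presheaf.stalk z) :=
        (IsLocalRing.maximalIdeal.isMaximal _).isPrime.radical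
  · rw [← hrad]
    exact Ideal.radical_mono ha


/-- A point of the support of `F` to which no other point of the support specializes is weakly
associated to `F`. -/
theorem isWeakAssPoint_of_maximal_support {X : Scheme.{u}} (F : X.Modules) [F.IsQuasicoherent] (x : X)
    (hx : x ∈ CohB1.support F) (hmax : ∀ y : X, y ∈ CohB1.support F → y ⤳ x → y = x) :
    Curv2.IsWeakAssPoint F x := by
  obtain ⟨_, ⟨U, hU, rfl⟩, hxU, -⟩ :=
    X.isBasis_affineOpens.exists_subset_of_mem_open (Set.mem_univ x) isOpen_univ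
  -- a section with nonzero germ at `x`
  obtain ⟨m, hm⟩ : ∃ m : Γ(F, U), F.presheaf.germ U x hxU m ≠ 0 := by
    by_contra hcon
    push Not at hcon
    apply hx
    rw [subsingleton_stalk_iff hU F x hxU]
    intro m
    exact (germ_eq_zero_iff hU F x hxU m).mp (hcon m)
  refine ⟨F.presheaf.germ U x hxU m, ?_⟩
  let _ : Algebra Γ(X, U) (X.presheaf.stalk x) :=
    TopCat.Presheaf.algebra_section_stalk X.presheaf (U := U) ⟨x, hxU⟩
  have hloc : IsLocalization.AtPrime (X.presheaf.stalk x) (hU.primeIdealOf ⟨x, hxU⟩).asIdeal :=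
    hU.isLocalization_stalk ⟨x, hxU⟩
  set J : Ideal (X.presheaf.stalk x) := LinearMap.ker
    (LinearMap.toSpanSingleton (X.presheaf.stalk x) (F.presheaf.stalk x) (F.presheaf.germ U x hxU m))
    with hJ
  have hJmem : ∀ b : X.presheaf.stalk x, b ∈ J ↔ b • F.presheaf.germ U x hxU m = 0 := fun b => by
    rw [hJ, LinearMap.mem_ker, LinearMap.toSpanSingleton_apply]
  have hJne : J ≠ ⊤ := by
    intro h
    have h1 : (1 : X.presheaf.stalk x) ∈ J := by rw [h]; trivial
    rw [hJmem, one_smul] at h1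
    exact hm h1
  have hb : J ≤ IsLocalRing.maximalIdeal (X.presheaf.stalk x) := IsLocalRing.le_maximalIdeal hJne
  apply le_antisymm
  · calc J.radical ≤ (IsLocalRing.maximalIdeal (X.presheaf.stalk x)).radical := Ideal.radical_mono hb
      _ = IsLocalRing.maximalIdeal (X.presheaf.stalk x) :=
        (IsLocalRing.maximalIdeal.isMaximal _).isPrime.radical
  · rw [Ideal.radical_eq_sInf]
    refine le_sInf ?_
    rintro Q ⟨hJQ, hQ⟩
    -- the point of `U` corresponding to `Q ∩ Γ(X,U)`
    have hqprime : (Q.comap (algebraMap Γ(X, U) (X.presheaf.stalk x))).IsPrime := hQ.comap _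
    obtain ⟨x', hx'U, hx'q⟩ := exists_point_of_prime hU
      (Q.comap (algebraMap Γ(X, U) (X.presheaf.stalk x)))
    have hqp : Q.comap (algebraMap Γ(X, U) (X.presheaf.stalk x)) ≤
        (hU.primeIdealOf ⟨x, hxU⟩).asIdeal := by
      rw [← IsLocalization.AtPrime.under_maximalIdeal (X.presheaf.stalk x)
        (hU.primeIdealOf ⟨x, hxU⟩).asIdeal]
      exact Ideal.comap_mono (IsLocalRing.le_maximalIdeal hQ.ne_top)
    have hspec : x' ⤳ x := by
      rw [← primeIdealOf_le_iff_specializes hU x' x hx'U hxU, hx'q]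
      exact hqp
    have hx'supp : x' ∈ CohB1.support F := by
      intro hsub
      have h0 : F.presheaf.germ U x' hx'U m = 0 := Subsingleton.elim _ _
      obtain ⟨d, hdq, hdm⟩ := (germ_eq_zero_iff hU F x' hx'U m).mp h0
      apply hdq
      rw [hx'q, Ideal.mem_comap]
      apply hJQ
      rw [hJmem]
      change X.presheaf.germ U x hxU d • F.presheaf.germ U x hxU m = 0
      rw [← germ_smul, hdm, map_zero]
    have hxx' : x' = x := hmax x' hx'supp hspec
    subst hxx'
    rw [← IsLocalization.AtPrime.map_eq_maximalIdeal (hU.primeIdealOf ⟨x', hxU⟩).asIdeal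
      (X.presheaf.stalk x'), hx'q]
    exact Ideal.map_comap_le

end Groth.Agent.Lib.Helper3.QS
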