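import Groth.Agent.Lib.Helper3.InvAmple
import Mathlib.Algebra.Module.Submodule.Union

/-!
# A section of an invertible module not vanishing at finitely many points (infinite field)
-/

set_option autoImplicit false
set_option linter.unusedSectionVars false
universe u
open CategoryTheory CategoryTheory.Limits AlgebraicGeometry TopologicalSpace Opposite
open Scheme.Modules

namespace Groth.Agent.Lib.Helper3.AvoidPoints

open QCSec InvGen InvAmple

variable {X : Scheme.{u}}

/-- generators are transported by isomorphisms -/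
theorem isGen_iso {M N : X.Modules} (e : M ≅ N) {U : X.Opens} {m : Γ(M, U)}
    (hg : IsGen M U m) : IsGen N U (e.hom.app U m) := by
  intro V hV
  have h := hg V hV
  rw [← QCExact.app_res']
  constructor
  · intro a b hab
    apply h.1
    dsimp only at hab ⊢
    have h1 : e.hom.app V (a • res M hV m) = e.hom.app V (b • res M hV m) := by
      rw [Scheme.Modules.Hom.app_smul, Scheme.Modules.Hom.app_smul]
      exact hab
    have h2 := congrArg (e.inv.app V) h1
    rwa [InvMonoidal.iso_inv_hom_app, InvMonoidal.iso_inv_hom_app] at h2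
  · intro t
    obtain ⟨a, ha⟩ := h.2 (e.inv.app V t)
    refine ⟨a, ?_⟩
    dsimp only at ha ⊢
    rw [← Scheme.Modules.Hom.app_smul, ha, InvMonoidal.iso_hom_inv_app]

/-- Over an infinite field: if at each of finitely many points some global section of the
invertible module `L` generates it, then one global section generates it at all these points. -/
theorem exists_globalHom_genLocus {L : X.Modules} (hL : PicF.IsInvertible L)
    (k : Type u) [Field k] [Infinite k] (ρ : k →+* Γ(X, ⊤)) {ι : Type} [Finite ι] (y : ι → X)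
    (h : ∀ i, ∃ s : Γ(L, ⊤), y i ∈ CohB1.genLocus L (globalHom L s)) :
    ∃ s : Γ(L, ⊤), ∀ i, y i ∈ CohB1.genLocus L (globalHom L s) := by
  classical
  letI : Module k Γ(L, ⊤) := Module.compHom _ ρ
  have hsm : ∀ (t : k) (s : Γ(L, ⊤)), t • s = ρ t • s := fun _ _ => rfl
  have hloc := fun i => exists_isGen hL (y i)
  choose W a hy hg using hloc
  have key : ∀ (i : ι) (s : Γ(L, ⊤)) (c : Γ(X, W i)), c • a i = res L le_top s →
      (y i ∈ CohB1.genLocus L (globalHom L s) ↔ y i ∈ X.basicOpen c) := by
    intro i s c hc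
    rw [← genLocus_inf_eq_basicOpen (globalHom L s) (hg i) c (by rw [sec_globalHom, hc])]
    exact ⟨fun h => ⟨h, hy i⟩, fun h => h.1⟩
  let H : ι → Submodule k Γ(L, ⊤) := fun i =>
    { carrier := {s | ∀ c : Γ(X, W i), c • a i = res L le_top s →
        X.presheaf.germ (W i) (y i) (hy i) c ∈ IsLocalRing.maximalIdeal (X.presheaf.stalk (y i))}
      add_mem' := by
        intro m₁ m₂ h₁ h₂ c hc
        obtain ⟨c₁, hc₁⟩ := (hg i).self.exists_coord (res L le_top m₁)
        obtain ⟨c₂, hc₂⟩ := (hg i).self.exists_coord (res L le_top m₂)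
        have : c = c₁ + c₂ := (hg i).self.smul_inj (by
          rw [hc, add_smul, hc₁, hc₂]; exact QCExact.res_add L _ _ _)
        rw [this, map_add]
        exact Ideal.add_mem _ (h₁ c₁ hc₁) (h₂ c₂ hc₂)
      zero_mem' := by
        intro c hc
        have h0 : res L (le_top : W i ≤ ⊤) (0 : Γ(L, ⊤)) = 0 := QCSec.res_zero L _
        rw [h0] at hc
        rw [(hg i).self.eq_zero hc, map_zero]
        exact Ideal.zero_mem _
      smul_mem' := by
        intro t m hm c hc
        obtain ⟨c₁, hc₁⟩ := (hg i).self.exists_coord (res L le_top m)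
        have : c = rres X (le_top : W i ≤ ⊤) (ρ t) * c₁ := (hg i).self.smul_inj (by
          rw [hc, hsm, res_smul, mul_smul, hc₁])
        rw [this, map_mul]
        exact Ideal.mul_mem_left _ _ (hm c₁ hc₁) }
  have hH : ∀ i, H i ≠ ⊤ := by
    intro i htop
    obtain ⟨s, hs⟩ := h i
    obtain ⟨c, hc⟩ := (hg i).self.exists_coord (res L le_top s)
    have h1 : s ∈ H i := by rw [htop]; trivial
    have h2 := h1 c hc
    have h3 := (key i s c hc).mp hs
    rw [IsLocalRing.mem_maximalIdeal, mem_nonunits_iff] at h2
    exact h2 ((Scheme.mem_basicOpen _ _ _ (hy i)).mp h3)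
  obtain ⟨s, hs⟩ := Submodule.exists_forall_notMem_of_forall_ne_top H hH
  refine ⟨s, fun i => ?_⟩
  obtain ⟨c, hc⟩ := (hg i).self.exists_coord (res L le_top s)
  rw [key i s c hc]
  apply (Scheme.mem_basicOpen _ _ _ (hy i)).mpr
  by_contra hnu
  apply hs i
  intro c' hc'
  have : c' = c := (hg i).self.smul_inj (by rw [hc, hc'])
  rw [this, IsLocalRing.mem_maximalIdeal, mem_nonunits_iff]
  exact hnu

end Groth.Agent.Lib.Helper3.AvoidPoints
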