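import Groth.Agent.Lib.Helper3.ModGlue
import Groth.Agent.Lib.Helper3.AvoidPoints

/-!
# Modules trivialised by a cover: isomorphism classes and cocycles
-/

set_option autoImplicit false
set_option linter.unusedSectionVars false
universe u
open CategoryTheory CategoryTheory.Limits AlgebraicGeometry TopologicalSpace Opposite
open Scheme.Modules

namespace Groth.Agent.Lib.Helper3.Cocycle

open QCSec InvGen

variable {X : Scheme.{u}} {ι : Type u} (U : ι → X.Opens) (hU : iSup U = ⊤)
  {L L' : X.Modules} (s : ∀ i, Γ(L, U i)) (s' : ∀ i, Γ(L', U i))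
  (hs : ∀ i, IsGen L (U i) (s i)) (hs' : ∀ i, IsGen L' (U i) (s' i))
  (η η' : ∀ i j, Γ(X, U i ⊓ U j))
  (hη : ∀ i j, res L (inf_le_left : U i ⊓ U j ≤ U i) (s i) =
    η i j • res L (inf_le_right : U i ⊓ U j ≤ U j) (s j))
  (hη' : ∀ i j, res L' (inf_le_left : U i ⊓ U j ≤ U i) (s' i) =
    η' i j • res L' (inf_le_right : U i ⊓ U j ≤ U j) (s' j))

include hη in
/-- the transition relation on an arbitrary open inside `U i ⊓ U j` -/
theorem trans_on (i j : ι) (V : X.Opens) (hi : V ≤ U i) (hj : V ≤ U j) :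
    res L hi (s i) = rres X (le_inf hi hj) (η i j) • res L hj (s j) := by
  have h := congrArg (res L (le_inf hi hj)) (hη i j)
  rwa [res_res, res_smul, res_res] at h

include hs hs' hη hη' in
/-- an isomorphism gives cohomologous cocycles -/
theorem exists_units_of_iso (e : L ≅ L') :
    ∃ u : ∀ i, (Γ(X, U i))ˣ, ∀ i j,
      η' i j * rres X (inf_le_left : U i ⊓ U j ≤ U i) (u i : Γ(X, U i)) =
        rres X (inf_le_right : U i ⊓ U j ≤ U j) (u j : Γ(X, U j)) * η i j := by
  have h1 : ∀ i, ∃ u : Γ(X, U i), IsUnit u ∧ e.hom.app (U i) (s i) = u • s' i := fun i =>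
    (hs' i).self.exists_unit (AvoidPoints.isGen_iso e (hs i)).self
  choose u hu hue using h1
  refine ⟨fun i => (hu i).unit, fun i j => ?_⟩
  simp only [IsUnit.unit_spec]
  have hV := hs' j (U i ⊓ U j) inf_le_right
  apply hV.smul_inj
  have e1 : e.hom.app (U i ⊓ U j) (res L inf_le_left (s i)) =
      (rres X inf_le_left (u i) * η' i j) • res L' inf_le_right (s' j) := by
    rw [QCExact.app_res', hue i, res_smul, hη' i j, smul_smul]
  have e2 : e.hom.app (U i ⊓ U j) (res L inf_le_left (s i)) =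
      (η i j * rres X inf_le_right (u j)) • res L' inf_le_right (s' j) := by
    rw [hη i j, Scheme.Modules.Hom.app_smul, QCExact.app_res', hue j, res_smul, smul_smul]
  rw [mul_comm, ← e1, e2, mul_comm]

section hom

variable (u : ∀ i, Γ(X, U i))
  (hu : ∀ i j, η' i j * rres X (inf_le_left : U i ⊓ U j ≤ U i) (u i) =
    rres X (inf_le_right : U i ⊓ U j ≤ U j) (u j) * η i j)

/-- the coordinate of a section with respect to a generator -/
noncomputable def coord {V : X.Opens} {m : Γ(L, V)} (hm : IsGenAt L V m) (t : Γ(L, V)) : Γ(X, V) :=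
  Classical.choose (hm.2 t)

theorem coord_smul {V : X.Opens} {m : Γ(L, V)} (hm : IsGenAt L V m) (t : Γ(L, V)) :
    coord hm t • m = t := Classical.choose_spec (hm.2 t)

theorem coord_eq {V : X.Opens} {m : Γ(L, V)} (hm : IsGenAt L V m) {t : Γ(L, V)} {c : Γ(X, V)}
    (h : c • m = t) : coord hm t = c :=
  hm.smul_inj ((coord_smul hm t).trans h.symm)

/-- the local map determined by the index `i` -/
noncomputable def Di (i : ι) (V : X.Opens) (h : V ≤ U i) (t : Γ(L, V)) : Γ(L', V) :=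
  (coord (hs i V h) t * rres X h (u i)) • res L' h (s' i)

theorem Di_eq (i : ι) (V : X.Opens) (h : V ≤ U i) {t : Γ(L, V)} {c : Γ(X, V)}
    (hc : c • res L h (s i) = t) :
    Di U s s' hs u i V h t = (c * rres X h (u i)) • res L' h (s' i) := by
  rw [Di, coord_eq (hs i V h) hc]

include hη hη' hu in
theorem Di_indep (i j : ι) (V : X.Opens) (hi : V ≤ U i) (hj : V ≤ U j) (t : Γ(L, V)) :
    Di U s s' hs u i V hi t = Di U s s' hs u j V hj t := by
  have hc := coord_smul (hs i V hi) t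
  set c := coord (hs i V hi) t with hcdef
  have hcj : (c * rres X (le_inf hi hj) (η i j)) • res L hj (s j) = t := by
    rw [← hc, trans_on U s η hη i j V hi hj, smul_smul]
  rw [Di_eq U s s' hs u i V hi hc, Di_eq U s s' hs u j V hj hcj,
    trans_on U s' η' hη' i j V hi hj, smul_smul]
  congr 1
  have h := congrArg (rres X (le_inf hi hj)) (hu i j)
  rw [rres_mul, rres_mul, rres_rres, rres_rres] at h
  calc c * rres X hi (u i) * rres X (le_inf hi hj) (η' i j)
      = c * (rres X (le_inf hi hj) (η' i j) * rres X hi (u i)) := by ring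
    _ = c * (rres X hj (u j) * rres X (le_inf hi hj) (η i j)) := by rw [h]
    _ = c * rres X (le_inf hi hj) (η i j) * rres X hj (u j) := by ring

theorem Di_add (i : ι) (V : X.Opens) (h : V ≤ U i) (t t' : Γ(L, V)) :
    Di U s s' hs u i V h (t + t') = Di U s s' hs u i V h t + Di U s s' hs u i V h t' := by
  have hc := coord_smul (hs i V h) t
  have hc' := coord_smul (hs i V h) t'
  have hcc : (coord (hs i V h) t + coord (hs i V h) t') • res L h (s i) = t + t' := by
    rw [add_smul, hc, hc']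
  rw [Di_eq U s s' hs u i V h hcc, Di, Di, ← add_smul, add_mul]

theorem Di_smul (i : ι) (V : X.Opens) (h : V ≤ U i) (a : Γ(X, V)) (t : Γ(L, V)) :
    Di U s s' hs u i V h (a • t) = a • Di U s s' hs u i V h t := by
  have hc := coord_smul (hs i V h) t
  have hcc : (a * coord (hs i V h) t) • res L h (s i) = a • t := by
    rw [mul_smul, hc]
  rw [Di_eq U s s' hs u i V h hcc, Di, smul_smul, mul_assoc]

theorem Di_res (i : ι) (V V' : X.Opens) (h : V ≤ U i) (h' : V' ≤ V) (t : Γ(L, V)) :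
    res L' h' (Di U s s' hs u i V h t) = Di U s s' hs u i V' (h'.trans h) (res L h' t) := by
  have hc := coord_smul (hs i V h) t
  have hcc : rres X h' (coord (hs i V h) t) • res L (h'.trans h) (s i) = res L h' t := by
    rw [← res_res L h' h, ← res_smul, hc]
  rw [Di_eq U s s' hs u i V' (h'.trans h) hcc, Di, res_smul, rres_mul, rres_rres, res_res]

include hU hs hη hη' hu in
/-- the morphism determined by a family of functions compatible with the cocycles -/
theorem exists_hom : ∃ φ : L ⟶ L', ∀ (i : ι) (V : X.Opens) (h : V ≤ U i),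
    φ.app V (res L h (s i)) = rres X h (u i) • res L' h (s' i) := by
  obtain ⟨φ, hφ⟩ := ModGlue.exists_hom_of_small (M := L) (N := L') (fun V => ∃ i, V ≤ U i)
    (fun {V V'} h hV => ⟨hV.choose, h.trans hV.choose_spec⟩)
    (fun x => by
      have hx : x ∈ (⨆ i, U i : X.Opens) := by rw [hU]; trivial
      obtain ⟨i, hi⟩ := Opens.mem_iSup.mp hx
      exact ⟨U i, ⟨i, le_rfl⟩, hi⟩)
    (fun V hV t => Di U s s' hs u hV.choose V hV.choose_spec t)
    (fun V hV t t' => Di_add U s s' hs u _ V _ t t')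
    (fun V hV a t => Di_smul U s s' hs u _ V _ a t)
    (fun {V V'} h hV hV' t => by
      rw [Di_res U s s' hs u _ V V' _ h t]
      exact Di_indep U s s' hs η η' hη hη' u hu _ _ V' _ _ _)
  refine ⟨φ, fun i V h => ?_⟩
  rw [hφ V ⟨i, h⟩, Di_indep U s s' hs η η' hη hη' u hu _ i V _ h,
    Di_eq U s s' hs u i V h (one_smul _ _), one_mul]

end hom

include hU hs hs' hη hη' in
/-- cohomologous cocycles give isomorphic modules -/
theorem nonempty_iso_of_units (u : ∀ i, (Γ(X, U i))ˣ)
    (hu : ∀ i j, η' i j * rres X (inf_le_left : U i ⊓ U j ≤ U i) (u i : Γ(X, U i)) =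
      rres X (inf_le_right : U i ⊓ U j ≤ U j) (u j : Γ(X, U j)) * η i j) :
    Nonempty (L ≅ L') := by
  obtain ⟨φ, hφ⟩ := exists_hom U hU s s' hs η η' hη hη' (fun i => (u i : Γ(X, U i))) hu
  have hu' : ∀ i j, η i j * rres X (inf_le_left : U i ⊓ U j ≤ U i) ((u i)⁻¹ : (Γ(X, U i))ˣ) =
      rres X (inf_le_right : U i ⊓ U j ≤ U j) ((u j)⁻¹ : (Γ(X, U j))ˣ) * η' i j := by
    intro i j
    have h1 : rres X (inf_le_left : U i ⊓ U j ≤ U i) (u i : Γ(X, U i)) *
        rres X (inf_le_left : U i ⊓ U j ≤ U i) ((u i)⁻¹ : (Γ(X, U i))ˣ) = 1 := by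
      rw [← rres_mul, Units.mul_inv, rres_one]
    have h2 : rres X (inf_le_right : U i ⊓ U j ≤ U j) ((u j)⁻¹ : (Γ(X, U j))ˣ) *
        rres X (inf_le_right : U i ⊓ U j ≤ U j) (u j : Γ(X, U j)) = 1 := by
      rw [← rres_mul, Units.inv_mul, rres_one]
    calc η i j * rres X inf_le_left ((u i)⁻¹ : (Γ(X, U i))ˣ)
        = (rres X inf_le_right ((u j)⁻¹ : (Γ(X, U j))ˣ) * rres X inf_le_right (u j : Γ(X, U j))) *
            η i j * rres X inf_le_left ((u i)⁻¹ : (Γ(X, U i))ˣ) := by rw [h2, one_mul]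
      _ = rres X inf_le_right ((u j)⁻¹ : (Γ(X, U j))ˣ) *
            (rres X inf_le_right (u j : Γ(X, U j)) * η i j) *
              rres X inf_le_left ((u i)⁻¹ : (Γ(X, U i))ˣ) := by ring
      _ = rres X inf_le_right ((u j)⁻¹ : (Γ(X, U j))ˣ) *
            (η' i j * rres X inf_le_left (u i : Γ(X, U i))) *
              rres X inf_le_left ((u i)⁻¹ : (Γ(X, U i))ˣ) := by rw [hu i j]
      _ = rres X inf_le_right ((u j)⁻¹ : (Γ(X, U j))ˣ) * η' i j *
            (rres X inf_le_left (u i : Γ(X, U i)) *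
              rres X inf_le_left ((u i)⁻¹ : (Γ(X, U i))ˣ)) := by ring
      _ = rres X inf_le_right ((u j)⁻¹ : (Γ(X, U j))ˣ) * η' i j := by rw [h1, mul_one]
  obtain ⟨φ', hφ'⟩ := exists_hom U hU s' s hs' η' η hη' hη
    (fun i => (((u i)⁻¹ : (Γ(X, U i))ˣ) : Γ(X, U i))) hu'
  have hcov : ∀ (W : X.Opens) (x : X), x ∈ W →
      ∃ V : X.Opens, (∃ i, V ≤ U i) ∧ x ∈ V ∧ V ≤ W := by
    intro W x hxW
    have hx : x ∈ (⨆ i, U i : X.Opens) := by rw [hU]; trivial
    obtain ⟨i, hi⟩ := Opens.mem_iSup.mp hx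
    exact ⟨W ⊓ U i, ⟨i, inf_le_right⟩, ⟨hxW, hi⟩, inf_le_left⟩
  refine ⟨⟨φ, φ', ?_, ?_⟩⟩
  · apply ModGlue.hom_ext_of_small (fun V => ∃ i, V ≤ U i) hcov
    rintro V ⟨i, h⟩ t
    obtain ⟨c, rfl⟩ := (hs i V h).2 t
    dsimp only
    change φ'.app V (φ.app V (c • res L h (s i))) = c • res L h (s i)
    rw [Scheme.Modules.Hom.app_smul, hφ i V h, Scheme.Modules.Hom.app_smul,
      Scheme.Modules.Hom.app_smul, hφ' i V h, smul_smul, smul_smul, mul_assoc, ← rres_mul,
      Units.mul_inv, rres_one, mul_one]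
  · apply ModGlue.hom_ext_of_small (fun V => ∃ i, V ≤ U i) hcov
    rintro V ⟨i, h⟩ t
    obtain ⟨c, rfl⟩ := (hs' i V h).2 t
    dsimp only
    change φ.app V (φ'.app V (c • res L' h (s' i))) = c • res L' h (s' i)
    rw [Scheme.Modules.Hom.app_smul, hφ' i V h, Scheme.Modules.Hom.app_smul,
      Scheme.Modules.Hom.app_smul, hφ i V h, smul_smul, smul_smul, mul_assoc, ← rres_mul,
      Units.inv_mul, rres_one, mul_one]

end Groth.Agent.Lib.Helper3.Cocycle
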