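import Groth.Agent.Lib.Helper3.ModLimSec
import Groth.Agent.Lib.Helper3.HomMk
import Groth.Agent.Lib.Helper3.InvGen
import Groth.Agent.Lib.Helper3.QCExact

/-!
# Gluing an invertible module from a cocycle of units
-/

set_option autoImplicit false
set_option linter.unusedSectionVars false
universe u
open CategoryTheory CategoryTheory.Limits AlgebraicGeometry TopologicalSpace Opposite
open Scheme.Modules

namespace Groth.Agent.Lib.Helper3.CocycleGlue

open QCSec InvGen HomMk

variable {X : Scheme.{u}}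

/-- `j_* O_A` for an open `A` -/
noncomputable def T (A : X.Opens) : X.Modules :=
  (pushforward A.ι).obj (Coh.structureModule (A : Scheme.{u}))

theorem rres_add {A B : X.Opens} (h : A ≤ B) (a b : Γ(X, B)) :
    rres X h (a + b) = rres X h a + rres X h b :=
  map_add (X.presheaf.map (homOfLE h).op).hom a b

theorem image_preimage (A W : X.Opens) : A.ι ''ᵁ (A.ι ⁻¹ᵁ W) = W ⊓ A := by
  rw [Scheme.Hom.image_preimage_eq_opensRange_inf, Scheme.Opens.opensRange_ι, inf_comm]

theorem le1 (A W : X.Opens) : A.ι ''ᵁ (A.ι ⁻¹ᵁ W) ≤ W ⊓ A := (image_preimage A W).le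

theorem le2 (A W : X.Opens) : W ⊓ A ≤ A.ι ''ᵁ (A.ι ⁻¹ᵁ W) := (image_preimage A W).ge

/-- a section of `j_* O_A` over `W` as a function on `W ⊓ A` -/
noncomputable def ofT (A W : X.Opens) (t : Γ(T A, W)) : Γ(X, W ⊓ A) :=
  rres X (le2 A W) (show Γ(X, A.ι ''ᵁ (A.ι ⁻¹ᵁ W)) from t)

/-- a function on `W ⊓ A` as a section of `j_* O_A` over `W` -/
noncomputable def toT (A W : X.Opens) (a : Γ(X, W ⊓ A)) : Γ(T A, W) :=
  (show Γ(T A, W) from rres X (le1 A W) a)

theorem ofT_toT (A W : X.Opens) (a : Γ(X, W ⊓ A)) : ofT A W (toT A W a) = a := by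
  unfold ofT toT
  change rres X (le2 A W) (rres X (le1 A W) a) = a
  rw [rres_rres, rres_self]

theorem toT_ofT (A W : X.Opens) (t : Γ(T A, W)) : toT A W (ofT A W t) = t := by
  unfold ofT toT
  change rres X (le1 A W) (rres X (le2 A W) (show Γ(X, A.ι ''ᵁ (A.ι ⁻¹ᵁ W)) from t)) = _
  rw [rres_rres, rres_self]

theorem ofT_injective (A W : X.Opens) : Function.Injective (ofT A W) := fun t t' h => by
  rw [← toT_ofT A W t, h, toT_ofT]

theorem ofT_add (A W : X.Opens) (t t' : Γ(T A, W)) :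
    ofT A W (t + t') = ofT A W t + ofT A W t' :=
  map_add (X.presheaf.map (homOfLE (le2 A W)).op).hom
    (show Γ(X, A.ι ''ᵁ (A.ι ⁻¹ᵁ W)) from t) (show Γ(X, A.ι ''ᵁ (A.ι ⁻¹ᵁ W)) from t')

theorem ofT_smul (A W : X.Opens) (a : Γ(X, W)) (t : Γ(T A, W)) :
    ofT A W (a • t) = rres X inf_le_left a * ofT A W t := by
  have h1 : (show Γ(X, A.ι ''ᵁ (A.ι ⁻¹ᵁ W)) from (a • t)) =
      rres X ((le1 A W).trans inf_le_left) a * (show Γ(X, A.ι ''ᵁ (A.ι ⁻¹ᵁ W)) from t) := rfl
  unfold ofT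
  rw [h1, rres_mul, rres_rres]

theorem ofT_res (A : X.Opens) {W W' : X.Opens} (h : W' ≤ W) (t : Γ(T A, W)) :
    ofT A W' (res (T A) h t) = rres X (inf_le_inf_right A h) (ofT A W t) := by
  have h1 : (show Γ(X, A.ι ''ᵁ (A.ι ⁻¹ᵁ W')) from (res (T A) h t)) =
      rres X (A.ι.image_mono (A.ι.preimage_mono h))
        (show Γ(X, A.ι ''ᵁ (A.ι ⁻¹ᵁ W)) from t) := rfl
  unfold ofT
  rw [h1, rres_rres, rres_rres]

theorem toT_add (A W : X.Opens) (a a' : Γ(X, W ⊓ A)) :
    toT A W (a + a') = toT A W a + toT A W a' := by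
  apply ofT_injective
  rw [ofT_add, ofT_toT, ofT_toT, ofT_toT]

theorem toT_smul (A W : X.Opens) (a : Γ(X, W)) (x : Γ(X, W ⊓ A)) :
    toT A W (rres X inf_le_left a * x) = a • toT A W x := by
  apply ofT_injective
  rw [ofT_smul, ofT_toT, ofT_toT]

theorem toT_res (A : X.Opens) {W W' : X.Opens} (h : W' ≤ W) (x : Γ(X, W ⊓ A)) :
    res (T A) h (toT A W x) = toT A W' (rres X (inf_le_inf_right A h) x) := by
  apply ofT_injective
  rw [ofT_res, ofT_toT, ofT_toT]

/-- restriction to a smaller open followed by multiplication with a function -/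
noncomputable def mulRes (A A' : X.Opens) (h : A' ≤ A) (g : Γ(X, A')) : T A ⟶ T A' :=
  homMk (M := T A) (N := T A')
    (fun W t => toT A' W (rres X (inf_le_inf_left W h) (ofT A W t) * rres X inf_le_right g))
    (fun W t t' => by
      rw [ofT_add, rres_add, add_mul, toT_add])
    (fun W a t => by
      rw [ofT_smul, rres_mul, rres_rres, mul_assoc]
      exact toT_smul A' W a _)
    (fun {W W'} hW t => by
      rw [toT_res, rres_mul, rres_rres, rres_rres, ofT_res, rres_rres])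

theorem mulRes_apply (A A' : X.Opens) (h : A' ≤ A) (g : Γ(X, A')) (W : X.Opens) (t : Γ(T A, W)) :
    ofT A' W ((mulRes A A' h g).app W t) =
      rres X (inf_le_inf_left W h) (ofT A W t) * rres X inf_le_right g := by
  have h1 : (mulRes A A' h g).app W t =
      toT A' W (rres X (inf_le_inf_left W h) (ofT A W t) * rres X inf_le_right g) := rfl
  rw [h1, ofT_toT]

variable {ι : Type u} (U : ι → X.Opens) (η : ∀ i j : ι, (Γ(X, U i ⊓ U j))ˣ)

/-- the shape of the gluing diagram -/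
abbrev shape (ι : Type u) : MulticospanShape.{u, u} where
  L := ι
  R := ι × ι
  fst := Prod.fst
  snd := Prod.snd

/-- the gluing diagram -/
noncomputable def index : MulticospanIndex (shape ι) X.Modules where
  left i := T (U i)
  right b := T (U b.1 ⊓ U b.2)
  fst b := mulRes (U b.1) (U b.1 ⊓ U b.2) inf_le_left (η b.1 b.2 : Γ(X, U b.1 ⊓ U b.2))
  snd b := mulRes (U b.2) (U b.1 ⊓ U b.2) inf_le_right 1

/-- the glued module -/
noncomputable def L : X.Modules := multiequalizer (index U η)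

/-- the projections -/
noncomputable def lam (i : ι) : L U η ⟶ T (U i) := Multiequalizer.ι (index U η) i

/-- the `i`-th coordinate of a section -/
noncomputable def comp (i : ι) (W : X.Opens) (σ : Γ(L U η, W)) : Γ(X, W ⊓ U i) :=
  ofT (U i) W ((lam U η i).app W σ)

theorem comp_smul (i : ι) (W : X.Opens) (r : Γ(X, W)) (σ : Γ(L U η, W)) :
    comp U η i W (r • σ) = rres X inf_le_left r * comp U η i W σ := by
  unfold comp
  rw [Scheme.Modules.Hom.app_smul]
  exact ofT_smul (U i) W r _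

theorem comp_res (i : ι) {W W' : X.Opens} (h : W' ≤ W) (σ : Γ(L U η, W)) :
    comp U η i W' (res (L U η) h σ) = rres X (inf_le_inf_right (U i) h) (comp U η i W σ) := by
  unfold comp
  rw [QCExact.app_res']
  exact ofT_res (U i) h _

theorem comp_compat (i j : ι) (W : X.Opens) (σ : Γ(L U η, W)) :
    rres X (inf_le_inf_left W inf_le_left : W ⊓ (U i ⊓ U j) ≤ W ⊓ U i) (comp U η i W σ) *
        rres X (inf_le_right : W ⊓ (U i ⊓ U j) ≤ U i ⊓ U j) (η i j : Γ(X, U i ⊓ U j)) =
      rres X (inf_le_inf_left W inf_le_right : W ⊓ (U i ⊓ U j) ≤ W ⊓ U j) (comp U η j W σ) := by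
  have hc : lam U η i ≫ mulRes (U i) (U i ⊓ U j) inf_le_left (η i j : Γ(X, U i ⊓ U j)) =
      lam U η j ≫ mulRes (U j) (U i ⊓ U j) inf_le_right 1 :=
    Multiequalizer.condition (index U η) ((i, j) : (shape ι).R)
  have h1 := congrArg (fun φ : L U η ⟶ T (U i ⊓ U j) => ofT (U i ⊓ U j) W (φ.app W σ)) hc
  have h2 := mulRes_apply (U i) (U i ⊓ U j) inf_le_left (η i j : Γ(X, U i ⊓ U j)) W
    ((lam U η i).app W σ)
  have h3 := mulRes_apply (U j) (U i ⊓ U j) inf_le_right 1 W
    ((lam U η j).app W σ)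
  rw [rres_one, mul_one] at h3
  exact h2.symm.trans (h1.trans h3)

theorem exists_sec (W : X.Opens) (a : ∀ i, Γ(X, W ⊓ U i))
    (ha : ∀ i j, rres X (inf_le_inf_left W inf_le_left : W ⊓ (U i ⊓ U j) ≤ W ⊓ U i) (a i) *
        rres X (inf_le_right : W ⊓ (U i ⊓ U j) ≤ U i ⊓ U j) (η i j : Γ(X, U i ⊓ U j)) =
      rres X (inf_le_inf_left W inf_le_right : W ⊓ (U i ⊓ U j) ≤ W ⊓ U j) (a j)) :
    ∃ σ : Γ(L U η, W), ∀ i, comp U η i W σ = a i := by
  obtain ⟨σ, hσ⟩ := ModLimSec.exists_section (index U η) W (fun i => toT (U i) W (a i))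
    (fun b => by
      apply ofT_injective
      have h2 := mulRes_apply (U b.1) (U b.1 ⊓ U b.2) inf_le_left
        (η b.1 b.2 : Γ(X, U b.1 ⊓ U b.2)) W (toT (U b.1) W (a b.1))
      have h3 := mulRes_apply (U b.2) (U b.1 ⊓ U b.2) inf_le_right 1 W (toT (U b.2) W (a b.2))
      rw [rres_one, mul_one, ofT_toT] at h3
      rw [ofT_toT] at h2
      exact h2.trans ((ha b.1 b.2).trans h3.symm))
  refine ⟨σ, fun i => ?_⟩
  unfold comp
  have : (lam U η i).app W σ = toT (U i) W (a i) := hσ i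
  rw [this, ofT_toT]

theorem sec_ext (W : X.Opens) (σ σ' : Γ(L U η, W))
    (h : ∀ i, comp U η i W σ = comp U η i W σ') : σ = σ' :=
  ModLimSec.section_ext (index U η) W σ σ' (fun i => ofT_injective (U i) W (h i))

section main

variable (hη : ∀ i j k : ι,
    rres X (inf_le_inf_right (U k) inf_le_left : U i ⊓ U j ⊓ U k ≤ U i ⊓ U k)
        (η i k : Γ(X, U i ⊓ U k)) =
      rres X (inf_le_left : U i ⊓ U j ⊓ U k ≤ U i ⊓ U j) (η i j : Γ(X, U i ⊓ U j)) *
        rres X (inf_le_inf_right (U k) inf_le_right : U i ⊓ U j ⊓ U k ≤ U j ⊓ U k)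
          (η j k : Γ(X, U j ⊓ U k)))

include hη in
theorem cocycle_on (i j k : ι) (V : X.Opens) (hi : V ≤ U i) (hj : V ≤ U j) (hk : V ≤ U k) :
    rres X (le_inf hi hk) (η i k : Γ(X, U i ⊓ U k)) =
      rres X (le_inf hi hj) (η i j : Γ(X, U i ⊓ U j)) *
        rres X (le_inf hj hk) (η j k : Γ(X, U j ⊓ U k)) := by
  have h := congrArg (rres X (le_inf (le_inf hi hj) hk : V ≤ U i ⊓ U j ⊓ U k)) (hη i j k)
  rwa [rres_mul, rres_rres, rres_rres, rres_rres] at h

include hη in
theorem eta_self (i : ι) (V : X.Opens) (hi : V ≤ U i) :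
    rres X (le_inf hi hi) (η i i : Γ(X, U i ⊓ U i)) = 1 := by
  have h := cocycle_on U η hη i i i V hi hi hi
  have hu : IsUnit (rres X (le_inf hi hi) (η i i : Γ(X, U i ⊓ U i))) :=
    rres_isUnit _ (η i i).isUnit
  obtain ⟨v, hv⟩ := hu.exists_left_inv
  set e := rres X (le_inf hi hi) (η i i : Γ(X, U i ⊓ U i)) with he
  calc e = v * e * e := by rw [hv, one_mul]
    _ = v * (e * e) := mul_assoc _ _ _
    _ = v * e := by rw [← h]
    _ = 1 := hv

include hη in
theorem exists_s (i : ι) : ∃ σ : Γ(L U η, U i),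
    ∀ k, comp U η k (U i) σ = (η i k : Γ(X, U i ⊓ U k)) := by
  apply exists_sec U η (U i) (fun k => (η i k : Γ(X, U i ⊓ U k)))
  intro k l
  exact (cocycle_on U η hη i k l (U i ⊓ (U k ⊓ U l)) inf_le_left
    (inf_le_right.trans inf_le_left) (inf_le_right.trans inf_le_right)).symm

include hη in
theorem isGen_s (i : ι) (σ : Γ(L U η, U i))
    (hσ : ∀ k, comp U η k (U i) σ = (η i k : Γ(X, U i ⊓ U k))) : IsGen (L U η) (U i) σ := by
  intro V hV
  constructor
  · intro r r' hrr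
    dsimp only at hrr
    have h1 := congrArg (comp U η i V) hrr
    have h0 : comp U η i V (res (L U η) hV σ) = 1 := by
      rw [comp_res, hσ i]
      exact eta_self U η hη i (V ⊓ U i) inf_le_right
    rw [comp_smul, comp_smul, h0, mul_one, mul_one] at h1
    have h2 := congrArg (rres X (le_inf le_rfl hV : V ≤ V ⊓ U i)) h1
    rwa [rres_rres, rres_rres, rres_self, rres_self] at h2
  · intro τ
    refine ⟨rres X (le_inf le_rfl hV : V ≤ V ⊓ U i) (comp U η i V τ), ?_⟩
    dsimp only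
    apply sec_ext
    intro k
    rw [comp_smul, comp_res, hσ k, rres_rres]
    have hc := comp_compat U η i k V τ
    have h2 := congrArg (rres X (le_inf inf_le_left (le_inf (inf_le_left.trans hV) inf_le_right) :
      V ⊓ U k ≤ V ⊓ (U i ⊓ U k))) hc
    rw [rres_mul, rres_rres, rres_rres, rres_rres, rres_self] at h2
    exact h2

include hη in
theorem rel_s (i j : ι) (σi : Γ(L U η, U i)) (σj : Γ(L U η, U j))
    (hσi : ∀ k, comp U η k (U i) σi = (η i k : Γ(X, U i ⊓ U k)))
    (hσj : ∀ k, comp U η k (U j) σj = (η j k : Γ(X, U j ⊓ U k))) :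
    res (L U η) (inf_le_left : U i ⊓ U j ≤ U i) σi =
      (η i j : Γ(X, U i ⊓ U j)) • res (L U η) (inf_le_right : U i ⊓ U j ≤ U j) σj := by
  apply sec_ext
  intro k
  rw [comp_res, comp_smul, comp_res, hσi k, hσj k]
  exact cocycle_on U η hη i j k ((U i ⊓ U j) ⊓ U k) (inf_le_left.trans inf_le_left)
    (inf_le_left.trans inf_le_right) inf_le_right

include hη in
theorem main (hU : iSup U = ⊤) : ∃ (M : X.Modules) (s : ∀ i : ι, Γ(M, U i)),
    PicF.IsInvertible M ∧ (∀ i, IsGen M (U i) (s i)) ∧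
      ∀ i j : ι, res M (inf_le_left : U i ⊓ U j ≤ U i) (s i) =
        (η i j : Γ(X, U i ⊓ U j)) • res M (inf_le_right : U i ⊓ U j ≤ U j) (s j) := by
  choose s hs using exists_s U η hη
  refine ⟨L U η, s, ?_, fun i => isGen_s U η hη i (s i) (hs i),
    fun i j => rel_s U η hη i j (s i) (s j) (hs i) (hs j)⟩
  apply isInvertible_of_isGen
  intro x
  have hx : x ∈ (⨆ i, U i : X.Opens) := by rw [hU]; trivial
  obtain ⟨i, hi⟩ := Opens.mem_iSup.mp hx
  exact ⟨U i, s i, hi, isGen_s U η hη i (s i) (hs i)⟩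

end main

end Groth.Agent.Lib.Helper3.CocycleGlue
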