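import Mathlib.RingTheory.Localization.AtPrime.Basic
import Mathlib.RingTheory.Localization.Away.Basic
import Mathlib.RingTheory.Localization.Ideal
import Mathlib.RingTheory.Noetherian.Basic

/-!
# Spreading out a principal generator from a local ring

If `A` is Noetherian, `I` an ideal with `I A_p = (g)` for a nonzerodivisor `g`, then there are
`h ∉ p` and `a ∈ I` with `I A_h = (a)` and `a` a nonzerodivisor of `A_h`.
-/

set_option autoImplicit false

namespace Groth.Agent.Lib.Helper3

variable {A : Type*} [CommRing A]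

/-- If every element of a finitely generated ideal `J` can be multiplied into `L` by an element
outside the prime `p`, a single element outside `p` works for all of `J`. -/
theorem exists_notMem_forall_mul_mem (p : Ideal A) [p.IsPrime] (J L : Ideal A) (hJ : J.FG)
    (h : ∀ b ∈ J, ∃ u, u ∉ p ∧ u * b ∈ L) : ∃ u, u ∉ p ∧ ∀ b ∈ J, u * b ∈ L := by
  classical
  obtain ⟨T, rfl⟩ := hJ
  have hT : ∀ b ∈ T, ∃ u, u ∉ p ∧ u * b ∈ L := fun b hb => h b (Ideal.subset_span hb)
  choose! u hu hub using hT
  refine ⟨∏ b ∈ T, u b, ?_, ?_⟩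
  · intro hmem
    rw [Ideal.IsPrime.prod_mem_iff] at hmem
    obtain ⟨b, hb, hbp⟩ := hmem
    exact hu b hb hbp
  · intro b hb
    induction hb using Submodule.span_induction with
    | mem x hx =>
      have hx' : x ∈ T := hx
      rw [← Finset.mul_prod_erase T u hx', mul_comm (u x), mul_assoc]
      exact L.mul_mem_left _ (hub x hx')
    | zero => simp
    | add x y _ _ hx hy => rw [mul_add]; exact L.add_mem hx hy
    | smul c x _ hx =>
      rw [smul_eq_mul, mul_left_comm]
      exact L.mul_mem_left _ hx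

theorem exists_away_principal [IsNoetherianRing A] (p : Ideal A) [p.IsPrime]
    (S : Type*) [CommRing S] [Algebra A S] [IsLocalization.AtPrime S p] (I : Ideal A) (g : S)
    (hg : g ∈ nonZeroDivisors S) (hI : I.map (algebraMap A S) = Ideal.span {g}) :
    ∃ h : A, h ∉ p ∧ ∃ a ∈ I, ∀ (B : Type*) [CommRing B] [Algebra A B] [IsLocalization.Away h B],
      I.map (algebraMap A B) = Ideal.span {algebraMap A B a} ∧
        algebraMap A B a ∈ nonZeroDivisors B := by
  -- Step 1: a generator coming from `I`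
  have hgI : g ∈ I.map (algebraMap A S) := by rw [hI]; exact Ideal.mem_span_singleton_self g
  rw [IsLocalization.mem_map_algebraMap_iff p.primeCompl] at hgI
  obtain ⟨⟨⟨a, haI⟩, s⟩, hgs⟩ := hgI
  simp only at hgs
  have hsu : IsUnit (algebraMap A S s) := IsLocalization.map_units S s
  have ha_nzd : algebraMap A S a ∈ nonZeroDivisors S := by
    rw [← hgs]
    exact mul_mem hg hsu.mem_nonZeroDivisors
  have hspan : Ideal.span {algebraMap A S a} = Ideal.span {g} := by
    rw [← hgs, Ideal.span_singleton_mul_right_unit hsu]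
  -- Step 2
  have h2 : ∀ b ∈ I, ∃ u, u ∉ p ∧ u * b ∈ Ideal.span {a} := by
    intro b hb
    have hb' : algebraMap A S b ∈ Ideal.span {algebraMap A S a} := by
      rw [hspan, ← hI]; exact Ideal.mem_map_of_mem _ hb
    rw [Ideal.mem_span_singleton'] at hb'
    obtain ⟨c, hc⟩ := hb'
    obtain ⟨c', s', rfl⟩ := IsLocalization.exists_mk'_eq p.primeCompl c
    have h3 : algebraMap A S (c' * a) = algebraMap A S (b * s') := by
      rw [map_mul, map_mul, ← hc, ← IsLocalization.mk'_spec S c' s']
      ring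
    rw [IsLocalization.eq_iff_exists p.primeCompl] at h3
    obtain ⟨t, ht⟩ := h3
    refine ⟨t * s', ?_, ?_⟩
    · exact (t * s').2
    · rw [Ideal.mem_span_singleton']
      refine ⟨t * c', ?_⟩
      rw [mul_assoc, ht]; ring
  obtain ⟨h₁, hh₁, hh₁I⟩ := exists_notMem_forall_mul_mem p I (Ideal.span {a})
    (IsNoetherian.noetherian I) h2
  -- Step 3
  let K : Ideal A := (Ideal.span {a}).annihilator
  have hK : ∀ k, k ∈ K ↔ k * a = 0 := by
    intro k
    simp only [K, Submodule.mem_annihilator_span_singleton, smul_eq_mul]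
  have h3 : ∀ k ∈ K, ∃ v, v ∉ p ∧ v * k ∈ (⊥ : Ideal A) := by
    intro k hk
    rw [hK] at hk
    have : algebraMap A S k = 0 := by
      apply ha_nzd.2
      rw [← map_mul, hk, map_zero]
    rw [IsLocalization.map_eq_zero_iff p.primeCompl] at this
    obtain ⟨m, hm⟩ := this
    exact ⟨m, m.2, hm⟩
  obtain ⟨h₂, hh₂, hh₂K⟩ := exists_notMem_forall_mul_mem p K ⊥ (IsNoetherian.noetherian K) h3
  refine ⟨h₁ * h₂, ?_, a, haI, ?_⟩
  · intro hmem
    rcases Ideal.IsPrime.mem_or_mem inferInstance hmem with h | h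
    · exact hh₁ h
    · exact hh₂ h
  intro B _ _ _
  have hu₁ : IsUnit (algebraMap A B h₁) := by
    rw [IsLocalization.Away.algebraMap_isUnit_iff (x := h₁ * h₂)]
    exact ⟨1, by simp⟩
  have hu₂ : IsUnit (algebraMap A B h₂) := by
    rw [IsLocalization.Away.algebraMap_isUnit_iff (x := h₁ * h₂)]
    exact ⟨1, by simp⟩
  have hu : IsUnit (algebraMap A B (h₁ * h₂)) := IsLocalization.Away.algebraMap_isUnit _
  constructor
  · apply le_antisymm
    · rw [Ideal.map_le_iff_le_comap]
      intro b hb
      rw [Ideal.mem_comap]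
      have := hh₁I b hb
      rw [Ideal.mem_span_singleton'] at this
      obtain ⟨c, hc⟩ := this
      rw [Ideal.mem_span_singleton']
      refine ⟨hu₁.unit⁻¹ * algebraMap A B c, ?_⟩
      rw [mul_assoc, ← map_mul, hc, map_mul, ← mul_assoc, IsUnit.val_inv_mul, one_mul]
    · rw [Ideal.span_singleton_le_iff_mem]
      exact Ideal.mem_map_of_mem _ haI
  · rw [mem_nonZeroDivisors_iff_right]
    intro x hx
    obtain ⟨n, y, hy⟩ := IsLocalization.Away.surj (h₁ * h₂) x
    have hya : algebraMap A B (y * a) = 0 := by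
      rw [map_mul, ← hy, mul_right_comm, hx, zero_mul]
    rw [IsLocalization.map_eq_zero_iff (Submonoid.powers (h₁ * h₂))] at hya
    obtain ⟨⟨_, m, rfl⟩, hm⟩ := hya
    simp only at hm
    have hmem : (h₁ * h₂) ^ m * y ∈ K := by
      rw [hK, mul_assoc]; exact hm
    have h0 := hh₂K _ hmem
    rw [Ideal.mem_bot] at h0
    have h0' : algebraMap A B h₂ * algebraMap A B (h₁ * h₂) ^ m * algebraMap A B y = 0 := by
      rw [← map_pow, ← map_mul, ← map_mul, mul_assoc, h0, map_zero]
    have hy0 : algebraMap A B y = 0 := by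
      have hunit : IsUnit (algebraMap A B h₂ * algebraMap A B (h₁ * h₂) ^ m) := hu₂.mul (hu.pow m)
      exact hunit.mul_right_eq_zero.mp h0'
    rw [hy0] at hy
    exact (hu.pow n).mul_left_eq_zero.mp hy

end Groth.Agent.Lib.Helper3
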