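import Groth.Agent.Lib.Helper3.IdealAmple
import Groth.Prelude.Def_BlowUp2

/-!
# The ideal sheaf datum of a quasi-coherent submodule of `O_X`
-/

set_option autoImplicit false
universe u
open CategoryTheory CategoryTheory.Limits AlgebraicGeometry TopologicalSpace Opposite
open Scheme.Modules

namespace Groth.Agent.Lib.Helper3.SubIdeal

open QCSec InvGen InvTensor InvMonoidal InvCoh FreeSec PbBasic InvRestrict IdealMod CounitGG AmpleMisc
  GlobGen InvAmple QAffCrit IdealAmple QCExtend

variable {X : Scheme.{u}}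

theorem unit_hom_ext {M : X.Modules} {s s' : Coh.structureModule X ⟶ M}
    (h : sec s ⊤ = sec s' ⊤) : s = s' := by
  apply M.unitHomEquiv.injective
  apply Subtype.ext
  funext U
  change sec s U.unop = sec s' U.unop
  rw [← res_sec s (le_top : U.unop ≤ ⊤), ← res_sec s' (le_top : U.unop ≤ ⊤), h]

theorem globalHom_comp {M N : X.Modules} (m : Γ(M, ⊤)) (q : M ⟶ N) :
    globalHom M m ≫ q = globalHom N (q.app ⊤ m) := by
  apply unit_hom_ext
  rw [sec_comp, sec_globalHom, sec_globalHom, res_self, res_self]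

theorem globalHom_sec {M : X.Modules} (s : Coh.structureModule X ⟶ M) :
    globalHom M (sec s ⊤) = s := by
  apply unit_hom_ext
  rw [sec_globalHom, res_self]

/-- a quotient of a (small) direct sum of copies of `O_X` is globally generated -/
theorem isGloballyGenerated_of_epi_sigma {M : X.Modules} {ι : Type}
    [HasCoproduct (fun _ : ι => Coh.structureModule X)]
    (p : (∐ fun _ : ι => Coh.structureModule X) ⟶ M) [Epi p] :
    Curv2.IsGloballyGenerated M := by
  let σ : ULift.{u} ι → Γ(M, ⊤) := fun i => sec (Sigma.ι (fun _ : ι => Coh.structureModule X) i.down ≫ p) ⊤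
  let r : (∐ fun _ : ι => Coh.structureModule X) ⟶ freeMod X (ULift.{u} ι) :=
    Sigma.desc (fun i => globalHom _ (fs (ULift.{u} ι) ⟨i⟩ ⊤))
  have hrq : r ≫ freeHom M σ = p := by
    apply Sigma.hom_ext
    intro i
    rw [Sigma.ι_desc_assoc, globalHom_comp, freeHom_fs]
    exact globalHom_sec _
  have : Epi (r ≫ freeHom M σ) := by rw [hrq]; infer_instance
  exact ⟨ULift.{u} ι, freeHom M σ, epi_of_epi r (freeHom M σ)⟩

section Ideal

variable {J : X.Modules} (j : J ⟶ Coh.structureModule X)

/-- `valOf` as a linear map -/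
noncomputable def valLin (W : X.Opens) : Γ(J, W) →ₗ[Γ(X, W)] Γ(X, W) where
  toFun := valOf j
  map_add' s t := by
    change toFun W (j.app W (s + t)) = _
    rw [map_add]; rfl
  map_smul' a s := valOf_smul j a s

theorem valLin_apply (W : X.Opens) (s : Γ(J, W)) : valLin j W s = valOf j s := rfl

/-- the ideal sheaf datum of a quasi-coherent submodule of `O_X` -/
noncomputable def idealOfSub [J.IsQuasicoherent] : X.IdealSheafData where
  ideal U := LinearMap.range (valLin j U.1)
  map_ideal_basicOpen U f := by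
    apply le_antisymm
    · rw [Ideal.map_le_iff_le_comap]
      rintro _ ⟨s, rfl⟩
      exact ⟨res J (X.basicOpen_le f) s, valOf_res j _ s⟩
    · rintro _ ⟨t, rfl⟩
      have hloc := isLocSec_of_isQuasicoherent J U.2 f (X.basicOpen f) rfl (X.basicOpen_le f)
      obtain ⟨n, s, hs⟩ := hloc.surj t
      have h1 := congrArg (valOf j) hs
      rw [valOf_res, valOf_smul] at h1
      have hu : IsUnit (rres X (X.basicOpen_le f) f) := X.toRingedSpace.isUnit_res_basicOpen f
      obtain ⟨u, hu'⟩ := hu.pow n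
      have h2 : valOf j t = (↑u⁻¹ : Γ(X, X.basicOpen f)) * rres X (X.basicOpen_le f) (valOf j s) := by
        rw [h1, ← hu', ← mul_assoc, Units.inv_mul, one_mul]
        rfl
      change valOf j t ∈ _
      rw [h2]
      exact Ideal.mul_mem_left _ _ (Ideal.mem_map_of_mem _ ⟨s, rfl⟩)

theorem mem_ideal_idealOfSub [J.IsQuasicoherent] (U : X.affineOpens) (g : Γ(X, U.1)) :
    g ∈ (idealOfSub j).ideal U ↔ ∃ s : Γ(J, U.1), valOf j s = g := Iff.rfl

theorem isFiniteTypeIdeal_idealOfSub [J.IsQuasicoherent] [J.IsFiniteType] :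
    BlowUp.IsFiniteTypeIdeal (idealOfSub j) := by
  intro U
  haveI := QCProps.finite_sections J U.2
  change (LinearMap.range (valLin j U.1)).FG
  rw [LinearMap.range_eq_map]
  exact (Module.Finite.fg_top).map _

theorem notMem_support_idealOfSub [J.IsQuasicoherent] {U : X.Opens} (hU : IsAffineOpen U)
    (e : Γ(J, U)) (he : valOf j e = 1) {x : X} (hx : x ∈ U) : x ∉ (idealOfSub j).support := by
  rw [Scheme.IdealSheafData.mem_support_iff_of_mem (U := ⟨U, hU⟩) hx, Scheme.mem_zeroLocus_iff]
  intro h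
  apply h 1 ⟨e, he⟩
  rw [Scheme.basicOpen_of_isUnit _ isUnit_one]
  exact hx

theorem mem_support_idealOfSub [J.IsQuasicoherent] {U : X.Opens}
    (hdisj : ∀ (W' : X.Opens) (σ : Γ(J, W')),
      Disjoint (X.basicOpen (valOf j σ) : Set X) ((U : Set X)ᶜ))
    {y : X} (hy : y ∉ U) : y ∈ (idealOfSub j).support := by
  rw [Scheme.IdealSheafData.mem_support_iff]
  intro V
  rw [Scheme.mem_zeroLocus_iff]
  rintro _ ⟨s, rfl⟩ hys
  exact Set.disjoint_left.mp (hdisj V.1 s) hys hy

end Ideal

end Groth.Agent.Lib.Helper3.SubIdeal
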