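import Groth.Agent.Lib.Helper3.VASegre
import Groth.Agent.Lib.Helper3.RelAmpleLib

/-!
# Very ampleness: main constructions
-/

set_option autoImplicit false
set_option linter.unusedSectionVars false
universe u
open CategoryTheory CategoryTheory.Limits AlgebraicGeometry TopologicalSpace Opposite
open Scheme.Modules

namespace Groth.Agent.Lib.Helper3.VAMain

open QCSec InvGen InvTensor InvTwist InvMonoidal InvCoh InvAmple SecCoord ProjOfSec ProjUniq VACore
  VASegre GlobGen InvSum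

variable {X S : Scheme.{u}}

theorem isRelVeryAmplePn_of_iso (f : X ⟶ S) {N N' : X.Modules} (e : N ≅ N')
    (h : RelAmple.IsRelVeryAmplePn f N) : RelAmple.IsRelVeryAmplePn f N' := by
  obtain ⟨n, i, hi, hf, ⟨τ⟩⟩ := h
  exact ⟨n, i, hi, hf, ⟨e.symm ≪≫ τ⟩⟩

theorem exists_closure_eq_top_of_finiteType {A B : Type u} [CommRing A] [CommRing B]
    (φ : A →+* B) (h : φ.FiniteType) :
    ∃ s : Finset B, Subring.closure (Set.range φ ∪ (s : Set B)) = ⊤ := by
  letI := φ.toAlgebra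
  obtain ⟨s, hs⟩ := (h : Algebra.FiniteType A B).out
  refine ⟨s, ?_⟩
  have := Algebra.adjoin_eq_ring_closure (R := A) (s : Set B)
  rw [hs] at this
  exact this.symm.trans Algebra.top_toSubring

theorem rres_surjective_of_le {A B : X.Opens} (h : A ≤ B) (h' : B ≤ A) :
    Function.Surjective (rresHom X h) := fun z =>
  ⟨rres X h' z, by rw [rresHom_apply, rres_rres, rres_self]⟩

theorem locus_sec (P : X.Modules) (s : Coh.structureModule X ⟶ P) :
    locus P (sec s ⊤) = CohB1.genLocus P s := by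
  unfold locus
  congr 1
  apply unit_hom_ext
  rw [sec_globalHom, res_self]

theorem isFGG_of_isSpanned [CompactSpace X] {P : X.Modules} (hP : PicF.IsInvertible P)
    (h : IsSpanned P) : IsFGG P := by
  choose s hs using fun x => h.exists_mem_genLocus hP x
  obtain ⟨t, ht⟩ := CompactSpace.elim_nhds_subcover (fun x => (CohB1.genLocus P (s x) : Set X))
    (fun x => (CohB1.genLocus P (s x)).2.mem_nhds (hs x))
  refine ⟨↥t, inferInstance, fun j => sec (s j.1) ⊤, fun x => ?_⟩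
  have hx : x ∈ ⋃ y ∈ t, (CohB1.genLocus P (s y) : Set X) := ht ▸ Set.mem_univ x
  obtain ⟨y, hy, hxy⟩ := Set.mem_iUnion₂.mp hx
  exact ⟨⟨y, hy⟩, by rw [locus_sec]; exact hxy⟩

/-- Step A: some power of an ample module on a scheme locally of finite type over the base has
very ampleness data -/
theorem exists_isVA_pow [QuasiSeparatedSpace X] (f : X ⟶ S) [LocallyOfFiniteType f]
    {L : X.Modules} (hA : CohB1.IsAmple L) :
    ∃ (d m : ℕ), 0 < d ∧ IsVA f (CohB1.tensorPow (CohB1.tensorPow L d) (m + 1)) := by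
  classical
  have hL : PicF.IsInvertible L := hA.1
  haveI : CompactSpace X := hA.2.1
  have h1 : ∀ x : X, ∃ (V : S.Opens) (W : X.Opens), IsAffineOpen V ∧ W ∈ SecLocus L ∧ x ∈ W ∧
      W ≤ f ⁻¹ᵁ V ∧ IsAffineOpen W := by
    intro x
    obtain ⟨V, hV, hxV, -⟩ := exists_isAffineOpen_mem_and_subset (x := f x) (U := ⊤) trivial
    obtain ⟨W, hW, hxW, hWle, hWa⟩ := exists_secLocus_nbhd hA x (f ⁻¹ᵁ V) hxV
    exact ⟨V, W, hV, hW, hxW, hWle, hWa⟩
  choose V W hV hWS hxW hWV hWa using h1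
  obtain ⟨T, hT⟩ := CompactSpace.elim_nhds_subcover (fun x => (W x : Set X))
    (fun x => (W x).2.mem_nhds (hxW x))
  obtain ⟨d, hd, hs⟩ := exists_common_degree_finite hL (ι := ↥T) (fun i => W i.1)
    (fun i => hWS i.1)
  choose s hs using hs
  have hN : PicF.IsInvertible (CohB1.tensorPow L d) := isInvertible_tensorPow hL d
  have h2 : ∀ i : ↥T, ∃ B : Finset Γ(X, W i.1),
      Subring.closure (Set.range (f.appLE (V i.1) (W i.1) (hWV i.1)).hom ∪ (B : Set _)) = ⊤ :=
    fun i => exists_closure_eq_top_of_finiteType _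
      (HasRingHomProperty.appLE @LocallyOfFiniteType f inferInstance ⟨_, hV i.1⟩ ⟨_, hWa i.1⟩ _)
  choose B hB using h2
  haveI : (Coh.structureModule X).IsQuasicoherent :=
    isQuasicoherent_of_isInvertible (isInvertible_structureModule X)
  have hqs : ∀ U U' : X.Opens, IsAffineOpen U → IsAffineOpen U' → U ≤ ⊤ → U' ≤ ⊤ →
      IsCompact ((U ⊓ U' : X.Opens) : Set X) := fun U U' hU hU' _ _ =>
    QuasiSeparatedSpace.inter_isCompact _ _ U.2 hU.isCompact U'.2 hU'.isCompact
  have h3 : ∀ p : (Σ i : ↥T, ↥(B i)), ∃ n₀ : ℕ, ∀ n, n₀ ≤ n →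
      ∃ t' : Γ(CohB1.tensorMod (Coh.structureModule X)
        (CohB1.tensorPow (CohB1.tensorPow L d) n), ⊤),
        res _ (le_top : W p.1.1 ≤ ⊤) t' = tm _ _ (W p.1.1) (ofFun _ p.2.1)
          (lpow (CohB1.tensorPow L d) (sec (s p.1) (W p.1.1)) n) := fun p =>
    exists_tm_lpow_extension hN (s p.1) (Coh.structureModule X) ⊤ isCompact_univ hqs (W p.1.1)
      le_top (hs p.1).ge (by rw [hs p.1]; exact inf_le_right) (ofFun _ p.2.1)
  choose n₀ hn₀ using h3
  haveI : Fintype (Σ i : ↥T, ↥(B i)) := Fintype.ofFinite _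
  let m := Finset.univ.sup n₀
  have hm : ∀ p, n₀ p ≤ m + 1 := fun p =>
    (Finset.le_sup (Finset.mem_univ p)).trans (Nat.le_succ _)
  choose t' ht' using fun p => hn₀ p (m + 1) (hm p)
  refine ⟨d, m, hd, ?_⟩
  let τ : ↥T → Γ(CohB1.tensorPow (CohB1.tensorPow L d) (m + 1), ⊤) :=
    fun i => lpow (CohB1.tensorPow L d) (sec (s i) ⊤) (m + 1)
  let β : (Σ i : ↥T, ↥(B i)) → Γ(CohB1.tensorPow (CohB1.tensorPow L d) (m + 1), ⊤) :=
    fun p => (unitorL (CohB1.tensorPow (CohB1.tensorPow L d) (m + 1))).hom.app ⊤ (t' p)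
  have hloc : ∀ i, locus (CohB1.tensorPow (CohB1.tensorPow L d) (m + 1)) (τ i) = W i.1 := by
    intro i
    have h4 : globalHom (CohB1.tensorPow (CohB1.tensorPow L d) (m + 1)) (τ i) =
        SecTwist.powHom (s i) (m + 1) := by
      apply unit_hom_ext
      rw [sec_globalHom, res_self, sec_powHom]
    unfold locus
    rw [h4, genLocus_powHom hN, hs]
  refine ⟨↥T ⊕ (Σ i : ↥T, ↥(B i)), inferInstance, Sum.elim τ β, Set.range Sum.inl,
    Sum.elim (fun i => V i.1) (fun _ => ⊤), ?_, ?_⟩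
  · intro x
    have hx : x ∈ ⋃ y ∈ T, (W y : Set X) := hT ▸ Set.mem_univ x
    obtain ⟨y, hy, hxy⟩ := Set.mem_iUnion₂.mp hx
    refine ⟨Sum.inl ⟨y, hy⟩, ⟨_, rfl⟩, ?_⟩
    change x ∈ locus _ (τ ⟨y, hy⟩)
    rw [hloc]
    exact hxy
  · rintro _ ⟨i, rfl⟩
    change IsAffineOpen (V i.1) ∧
      IsAffineOpen (locus (CohB1.tensorPow (CohB1.tensorPow L d) (m + 1)) (τ i)) ∧
      ∃ h : locus (CohB1.tensorPow (CohB1.tensorPow L d) (m + 1)) (τ i) ≤ f ⁻¹ᵁ V i.1,
        Subring.closure (Set.range (f.appLE (V i.1)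
          (locus (CohB1.tensorPow (CohB1.tensorPow L d) (m + 1)) (τ i)) h).hom ∪
          Set.range (fun k' => ratio (CohB1.tensorPow (CohB1.tensorPow L d) (m + 1)) (τ i)
            (Sum.elim τ β k'))) = ⊤
    have hle : locus (CohB1.tensorPow (CohB1.tensorPow L d) (m + 1)) (τ i) ≤ W i.1 := (hloc i).le
    refine ⟨hV i.1, (hloc i) ▸ hWa i.1, hle.trans (hWV i.1), ?_⟩
    refine closure_eq_top_of_surjective (rresHom X hle) (rres_surjective_of_le hle (hloc i).ge)
      (hB i) ?_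
    rintro a (⟨c, rfl⟩ | ha)
    · apply Subring.subset_closure
      left
      exact ⟨c, congrArg (fun φ => φ.hom c)
        (Scheme.Hom.appLE_map f (hWV i.1) (homOfLE hle).op).symm⟩
    · apply Subring.subset_closure
      right
      refine ⟨Sum.inr ⟨i, ⟨a, ha⟩⟩, ?_⟩
      change ratio (CohB1.tensorPow (CohB1.tensorPow L d) (m + 1)) (τ i) (β ⟨i, ⟨a, ha⟩⟩) =
        rres X hle a
      symm
      apply eq_ratio
      have e1 : res (CohB1.tensorPow (CohB1.tensorPow L d) (m + 1)) (le_top : W i.1 ≤ ⊤)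
          (β ⟨i, ⟨a, ha⟩⟩) =
          a • res (CohB1.tensorPow (CohB1.tensorPow L d) (m + 1)) (le_top : W i.1 ≤ ⊤)
            (lpow (CohB1.tensorPow L d) (sec (s i) ⊤) (m + 1)) := by
        change res _ _ ((unitorL (CohB1.tensorPow (CohB1.tensorPow L d) (m + 1))).hom.app ⊤
          (t' ⟨i, ⟨a, ha⟩⟩)) = _
        rw [← QCExact.app_res', ht', unitorL_hom_tm, lpow_res, res_sec]
      have e2 := congrArg (res (CohB1.tensorPow (CohB1.tensorPow L d) (m + 1)) hle) e1
      rw [res_res, res_smul, res_res] at e2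
      exact e2.symm

/-- all large twists `L^n ⊗ L'` of an invertible module by an ample one, on a scheme locally of
finite type over `S`, are very ample relative to some projective space over `S` -/
theorem eventually_isRelVeryAmplePn (f : X ⟶ S) [LocallyOfFiniteType f] {L L' : X.Modules}
    (hA : CohB1.IsAmple L) (hL' : PicF.IsInvertible L') :
    ∃ n₀ : ℕ, ∀ n, n₀ ≤ n →
      RelAmple.IsRelVeryAmplePn f (CohB1.tensorMod (CohB1.tensorPow L n) L') := by
  have hL := hA.1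
  haveI : CompactSpace X := hA.2.1
  haveI : X.IsSeparated := RelAmpleLib.isSeparated_of_isAmple hA
  obtain ⟨d, m, hd, hVA⟩ := exists_isVA_pow f hA
  obtain ⟨n₁, -, hn₁⟩ := exists_isAmple_isSpanned_twist hA hL'
  refine ⟨d * (m + 1) + n₁, fun n hn => ?_⟩
  obtain ⟨e, rfl⟩ : ∃ e, n = d * (m + 1) + e := ⟨n - d * (m + 1), by omega⟩
  have he : n₁ ≤ e := by omega
  have hP : PicF.IsInvertible (CohB1.tensorMod (CohB1.tensorPow L e) L') :=
    isInvertible_tensorMod (isInvertible_tensorPow hL e) hL'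
  have hG := isFGG_of_isSpanned hP (hn₁ e he).2
  have hN₁ := isInvertible_tensorPow (isInvertible_tensorPow hL d) (m + 1)
  have h := isRelVeryAmplePn_of_isVA f (IsVA.tensor f hN₁ hP hVA hG)
  refine isRelVeryAmplePn_of_iso f ?_ h
  exact tensorMapIso (powMul L d (m + 1)) (Iso.refl _) ≪≫ (assoc _ _ _).symm ≪≫
    tensorMapIso (powAdd L (d * (m + 1)) e) (Iso.refl L')

/-- the same for powers of `L` alone -/
theorem eventually_isRelVeryAmplePn_pow (f : X ⟶ S) [LocallyOfFiniteType f] {L : X.Modules}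
    (hA : CohB1.IsAmple L) :
    ∃ n₀ : ℕ, ∀ n, n₀ ≤ n → RelAmple.IsRelVeryAmplePn f (CohB1.tensorPow L n) := by
  obtain ⟨n₀, hn₀⟩ := eventually_isRelVeryAmplePn f hA (isInvertible_structureModule X)
  exact ⟨n₀, fun n hn => isRelVeryAmplePn_of_iso f (SecTwist.unitorR _) (hn₀ n hn)⟩

end Groth.Agent.Lib.Helper3.VAMain
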