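import Groth.Agent.Lib.Helper3.HomMk
import Groth.Agent.Lib.Helper3.InvGen
import Groth.Prelude.Def_RelSpec

/-!
# Extending morphisms from the affine opens
-/

set_option autoImplicit false
universe u
open CategoryTheory CategoryTheory.Limits AlgebraicGeometry TopologicalSpace Opposite
open Scheme.Modules
open AlgebraicGeometry.Scheme AlgebraicGeometry.Scheme.AffineZariskiSite

namespace Groth.Agent.Lib.Helper3.AffExt

open QCSec InvGen HomMk

variable {S : Scheme.{u}}

/-- affine opens form a basis -/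
theorem exists_affine_nbhd (W : S.Opens) (x : S) (hx : x ∈ W) :
    ∃ U : S.Opens, IsAffineOpen U ∧ x ∈ U ∧ U ≤ W := by
  obtain ⟨_, ⟨U, hU, rfl⟩, hxU, hUW⟩ :=
    (S.isBasis_affineOpens).exists_subset_of_mem_open hx W.2
  exact ⟨U, hU, hxU, hUW⟩

/-- sections of a module which agree on all affine opens are equal -/
theorem sec_eq_of_affine (N : S.Modules) {W : S.Opens} (a b : Γ(N, W))
    (h : ∀ (U : S.Opens) (_ : IsAffineOpen U) (hUW : U ≤ W), res N hUW a = res N hUW b) :
    a = b := by
  have hloc : ∀ x : {x : S // x ∈ W}, ∃ U : S.Opens, IsAffineOpen U ∧ x.1 ∈ U ∧ U ≤ W :=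
    fun x => exists_affine_nbhd W x.1 x.2
  choose U hU hxU hUW using hloc
  exact sec_eq_of_locally_eq N U W hUW (fun x hx => Opens.mem_iSup.mpr ⟨⟨x, hx⟩, hxU _⟩) a b
    (fun i => h (U i) (hU i) (hUW i))

/-- a natural family of additive maps on the affine opens extends to a morphism of modules -/
theorem exists_hom_of_affine {M N : S.Modules}
    (D : ∀ U : S.AffineZariskiSite, Γ(M, U.1) →+ Γ(N, U.1))
    (hsmul : ∀ (U : S.AffineZariskiSite) (a : Γ(S, U.1)) (s : Γ(M, U.1)),
      D U (a • s) = a • D U s)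
    (hres : ∀ {U V : S.AffineZariskiSite} (i : V ⟶ U) (s : Γ(M, U.1)),
      res N (toOpens_mono i.le) (D U s) = D V (res M (toOpens_mono i.le) s)) :
    ∃ φ : M ⟶ N, ∀ (U : S.AffineZariskiSite) (s : Γ(M, U.1)), φ.app U.1 s = D U s := by
  let D₀ : (toOpensFunctor S).op ⋙ M.presheaf ⟶ (toOpensFunctor S).op ⋙ N.presheaf :=
    { app := fun U => AddCommGrpCat.ofHom (D U.unop)
      naturality := fun U V i => by
        ext s
        exact (hres i.unop s).symm }
  let Φ : M.presheaf ⟶ N.presheaf :=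
    Functor.IsCoverDense.restrictHomEquivHom (G := toOpensFunctor S)
      (K := Opens.grothendieckTopology S) (ℱ := M.presheaf)
      (ℱ' := (⟨N.presheaf, N.isSheaf⟩ : TopCat.Sheaf Ab S.carrier)) D₀
  have hΦ : (toOpensFunctor S).op.whiskerLeft Φ = D₀ :=
    (Functor.IsCoverDense.restrictHomEquivHom (G := toOpensFunctor S)
      (K := Opens.grothendieckTopology S) (ℱ := M.presheaf)
      (ℱ' := (⟨N.presheaf, N.isSheaf⟩ : TopCat.Sheaf Ab S.carrier))).symm_apply_apply _
  have hΦU : ∀ (U : S.AffineZariskiSite) (s : Γ(M, U.1)), Φ.app (op U.1) s = D U s := by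
    intro U s
    exact congr($(NatTrans.congr_app hΦ (op U)) s)
  have hnat : ∀ {W V : S.Opens} (h : V ≤ W) (s : Γ(M, W)),
      res N h (Φ.app (op W) s) = Φ.app (op V) (res M h s) := by
    intro W V h s
    exact congr($(Φ.naturality (homOfLE h).op) s).symm
  refine ⟨homMk (fun W s => Φ.app (op W) s) (fun W s s' => map_add _ s s') ?_
    (fun {W V} h s => hnat h s), fun U s => hΦU U s⟩
  intro W a s
  refine sec_eq_of_affine N _ _ (fun U hU hUW => ?_)
  rw [hnat, res_smul, res_smul, hnat]
  exact (hΦU ⟨U, hU⟩ _).trans ((hsmul ⟨U, hU⟩ _ _).trans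
    (congrArg (fun t => rres S hUW a • t) (hΦU ⟨U, hU⟩ _).symm))

/-- sections of a quasi-coherent algebra which agree on all affine opens are equal -/
theorem alg_eq_of_affine (A : RelSpec.QCAlg S) {W : S.Opens} (a b : A.presheaf.obj (op W))
    (h : ∀ (U : S.Opens) (_ : IsAffineOpen U) (hUW : U ≤ W),
      (A.presheaf.map (homOfLE hUW).op).hom a = (A.presheaf.map (homOfLE hUW).op).hom b) :
    a = b :=
  sec_eq_of_affine A.toModule (W := W) a b h

/-- a natural family of ring homomorphisms on the affine opens, compatible with the structure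
maps, extends to a homomorphism of quasi-coherent algebras -/
theorem exists_algHom_of_affine {A B : RelSpec.QCAlg S}
    (D : ∀ U : S.AffineZariskiSite, A.presheaf.obj (op U.1) →+* B.presheaf.obj (op U.1))
    (hstr : ∀ (U : S.AffineZariskiSite) (a : Γ(S, U.1)),
      D U ((A.str.app (op U.1)).hom a) = (B.str.app (op U.1)).hom a)
    (hres : ∀ {U V : S.AffineZariskiSite} (i : V ⟶ U) (s : A.presheaf.obj (op U.1)),
      (B.presheaf.map (homOfLE (toOpens_mono i.le)).op).hom (D U s) =
        D V ((A.presheaf.map (homOfLE (toOpens_mono i.le)).op).hom s)) :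
    ∃ ψ : A ⟶ B, ∀ (U : S.AffineZariskiSite) (s : A.presheaf.obj (op U.1)),
      (ψ.hom.app (op U.1)).hom s = D U s := by
  let D₀ : (toOpensFunctor S).op ⋙ A.presheaf ⟶ (toOpensFunctor S).op ⋙ B.presheaf :=
    { app := fun U => CommRingCat.ofHom (D U.unop)
      naturality := fun U V i => by
        ext s
        exact (hres i.unop s).symm }
  let Φ : A.presheaf ⟶ B.presheaf :=
    Functor.IsCoverDense.restrictHomEquivHom (G := toOpensFunctor S)
      (K := Opens.grothendieckTopology S) (ℱ := A.presheaf)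
      (ℱ' := (⟨B.presheaf, B.isSheaf⟩ : TopCat.Sheaf CommRingCat.{u} S.carrier)) D₀
  have hΦ : (toOpensFunctor S).op.whiskerLeft Φ = D₀ :=
    (Functor.IsCoverDense.restrictHomEquivHom (G := toOpensFunctor S)
      (K := Opens.grothendieckTopology S) (ℱ := A.presheaf)
      (ℱ' := (⟨B.presheaf, B.isSheaf⟩ : TopCat.Sheaf CommRingCat.{u} S.carrier))).symm_apply_apply _
  have hΦU : ∀ (U : S.AffineZariskiSite) (s : A.presheaf.obj (op U.1)),
      (Φ.app (op U.1)).hom s = D U s := by
    intro U s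
    exact congr($(NatTrans.congr_app hΦ (op U)) s)
  have hnat : ∀ {W V : S.Opens} (h : V ≤ W) (s : A.presheaf.obj (op W)),
      (B.presheaf.map (homOfLE h).op).hom ((Φ.app (op W)).hom s) =
        (Φ.app (op V)).hom ((A.presheaf.map (homOfLE h).op).hom s) := by
    intro W V h s
    exact congr($(Φ.naturality (homOfLE h).op) s).symm
  refine ⟨⟨Φ, ?_⟩, fun U s => hΦU U s⟩
  ext W a
  refine alg_eq_of_affine B _ _ (fun U hU hUW => ?_)
  change (B.presheaf.map (homOfLE hUW).op).hom ((Φ.app (op W)).hom ((A.str.app (op W)).hom a)) =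
    (B.presheaf.map (homOfLE hUW).op).hom ((B.str.app (op W)).hom a)
  have h1 : (A.presheaf.map (homOfLE hUW).op).hom ((A.str.app (op W)).hom a) =
      (A.str.app (op U)).hom (S.presheaf.map (homOfLE hUW).op a) :=
    congr($(A.str.naturality (homOfLE hUW).op) a).symm
  have h2 : (B.presheaf.map (homOfLE hUW).op).hom ((B.str.app (op W)).hom a) =
      (B.str.app (op U)).hom (S.presheaf.map (homOfLE hUW).op a) :=
    congr($(B.str.naturality (homOfLE hUW).op) a).symm
  rw [hnat, h1, h2, hΦU ⟨U, hU⟩, hstr ⟨U, hU⟩]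

/-- homomorphisms of quasi-coherent algebras which agree on all affine opens are equal -/
theorem algHom_ext_of_affine {A B : RelSpec.QCAlg S} (ψ ψ' : A ⟶ B)
    (h : ∀ (U : S.AffineZariskiSite) (s : A.presheaf.obj (op U.1)),
      (ψ.hom.app (op U.1)).hom s = (ψ'.hom.app (op U.1)).hom s) : ψ = ψ' := by
  apply RelSpec.QCAlg.hom_ext
  apply (Functor.IsCoverDense.restrictHomEquivHom (G := toOpensFunctor S)
    (K := Opens.grothendieckTopology S) (ℱ := A.presheaf)
    (ℱ' := (⟨B.presheaf, B.isSheaf⟩ : TopCat.Sheaf CommRingCat.{u} S.carrier))).symm.injective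
  ext U s
  exact h U.unop s

/-- morphisms of modules which agree on all affine opens are equal -/
theorem hom_ext_of_affine {M N : S.Modules} (φ ψ : M ⟶ N)
    (h : ∀ (U : S.AffineZariskiSite) (s : Γ(M, U.1)), φ.app U.1 s = ψ.app U.1 s) : φ = ψ := by
  apply Scheme.Modules.hom_ext
  intro W
  ext s
  refine sec_eq_of_affine N _ _ (fun U hU hUW => ?_)
  rw [← QCExact.app_res', ← QCExact.app_res']
  exact h ⟨U, hU⟩ _

end Groth.Agent.Lib.Helper3.AffExt
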