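import Groth.Agent.Lib.Helper3.AffinePoints
import Mathlib.AlgebraicGeometry.Morphisms.ClosedImmersion

/-!
# The stalk map of `𝓘.subschemeι`: surjective with kernel `𝓘_x`
-/

set_option autoImplicit false
universe u
open CategoryTheory CategoryTheory.Limits AlgebraicGeometry TopologicalSpace

namespace Groth.Agent.Lib.Helper3

variable {X : Scheme.{u}} (𝓘 : X.IdealSheafData)

theorem ker_stalkMap_subschemeι (U : X.affineOpens) (d : 𝓘.subscheme)
    (hd : 𝓘.subschemeι d ∈ U.1) :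
    RingHom.ker (𝓘.subschemeι.stalkMap d).hom =
      (𝓘.ideal U).map (X.presheaf.germ U.1 (𝓘.subschemeι d) hd).hom := by
  set ι := 𝓘.subschemeι with hι
  set x := ι d with hx
  have hU := U.2
  have hW : IsAffineOpen (ι ⁻¹ᵁ U.1) := U.2.preimage ι
  have hdW : d ∈ ι ⁻¹ᵁ U.1 := hd
  apply le_antisymm
  · intro b hb
    rw [RingHom.mem_ker] at hb
    let _ : Algebra Γ(X, U.1) (X.presheaf.stalk x) :=
      TopCat.Presheaf.algebra_section_stalk X.presheaf (U := U.1) ⟨x, hd⟩
    have hloc : IsLocalization.AtPrime (X.presheaf.stalk x) (hU.primeIdealOf ⟨x, hd⟩).asIdeal :=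
      hU.isLocalization_stalk ⟨x, hd⟩
    obtain ⟨⟨a, s⟩, has⟩ := IsLocalization.surj (hU.primeIdealOf ⟨x, hd⟩).asIdeal.primeCompl b
    change b * (X.presheaf.germ U.1 x hd).hom s.1 = (X.presheaf.germ U.1 x hd).hom a at has
    have hsunit : IsUnit ((X.presheaf.germ U.1 x hd).hom s.1) := by
      have h1 : x ∈ X.basicOpen s.1 := (mem_basicOpen_iff_notMem_primeIdealOf hU x hd s.1).mpr s.2
      exact (Scheme.mem_basicOpen X s.1 x hd).mp h1
    -- the image of `a` in the stalk of `D` at `d` is zero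
    have h2 : (𝓘.subscheme.presheaf.germ (ι ⁻¹ᵁ U.1) d hdW).hom ((ι.app U.1).hom a) = 0 := by
      have := Scheme.Hom.germ_stalkMap_apply ι U.1 d hd a
      change (ι.stalkMap d).hom ((X.presheaf.germ U.1 x hd).hom a) = _ at this
      rw [← this, ← has, map_mul, hb, zero_mul]
    let _ : Algebra Γ(𝓘.subscheme, ι ⁻¹ᵁ U.1) (𝓘.subscheme.presheaf.stalk d) :=
      TopCat.Presheaf.algebra_section_stalk 𝓘.subscheme.presheaf (U := ι ⁻¹ᵁ U.1) ⟨d, hdW⟩
    have hlocD : IsLocalization.AtPrime (𝓘.subscheme.presheaf.stalk d)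
        (hW.primeIdealOf ⟨d, hdW⟩).asIdeal := hW.isLocalization_stalk ⟨d, hdW⟩
    obtain ⟨m, hm⟩ := (IsLocalization.map_eq_zero_iff
      (hW.primeIdealOf ⟨d, hdW⟩).asIdeal.primeCompl (𝓘.subscheme.presheaf.stalk d)
      ((ι.app U.1).hom a)).mp h2
    obtain ⟨r, hr⟩ := 𝓘.subschemeι_app_surjective U m.1
    have hdm : d ∈ 𝓘.subscheme.basicOpen m.1 :=
      (mem_basicOpen_iff_notMem_primeIdealOf hW d hdW m.1).mpr m.2
    have hxr : x ∈ X.basicOpen r := by
      have h3 : d ∈ ι ⁻¹ᵁ X.basicOpen r := by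
        rw [Scheme.preimage_basicOpen]
        change d ∈ 𝓘.subscheme.basicOpen ((𝓘.subschemeι.app U.1).hom r)
        rw [show (𝓘.subschemeι.app U.1).hom r = m.1 from hr]
        exact hdm
      exact h3
    have hrunit : IsUnit ((X.presheaf.germ U.1 x hd).hom r) :=
      (Scheme.mem_basicOpen X r x hd).mp hxr
    have hra : r * a ∈ 𝓘.ideal U := by
      rw [← 𝓘.ker_subschemeι_app U, RingHom.mem_ker, map_mul]
      rw [show (𝓘.subschemeι.app U.1).hom r = m.1 from hr]
      exact hm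
    have h4 : (X.presheaf.germ U.1 x hd).hom (r * a) ∈
        (𝓘.ideal U).map (X.presheaf.germ U.1 x hd).hom := Ideal.mem_map_of_mem _ hra
    rw [map_mul] at h4
    have h5 : (X.presheaf.germ U.1 x hd).hom a ∈
        (𝓘.ideal U).map (X.presheaf.germ U.1 x hd).hom := by
      have := Ideal.mul_mem_left _ (hrunit.unit⁻¹ : (X.presheaf.stalk x)ˣ).1 h4
      rwa [← mul_assoc, IsUnit.val_inv_mul, one_mul] at this
    rw [← has] at h5
    have := Ideal.mul_mem_right (hsunit.unit⁻¹ : (X.presheaf.stalk x)ˣ).1 _ h5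
    rwa [mul_assoc, IsUnit.mul_val_inv, mul_one] at this
  · rw [Ideal.map_le_iff_le_comap]
    intro a ha
    rw [Ideal.mem_comap, RingHom.mem_ker]
    have := Scheme.Hom.germ_stalkMap_apply ι U.1 d hd a
    change (ι.stalkMap d).hom ((X.presheaf.germ U.1 x hd).hom a) = _ at this
    rw [this]
    have h0 : (ι.app U.1).hom a = 0 := by
      rw [← RingHom.mem_ker, 𝓘.ker_subschemeι_app U]
      exact ha
    change (𝓘.subscheme.presheaf.germ (ι ⁻¹ᵁ U.1) d hd).hom ((ι.app U.1).hom a) = 0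
    rw [h0, map_zero]

theorem stalkMap_subschemeι_surjective (d : 𝓘.subscheme) :
    Function.Surjective (𝓘.subschemeι.stalkMap d).hom :=
  𝓘.subschemeι.stalkMap_surjective d

end Groth.Agent.Lib.Helper3
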