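import Groth.Agent.Lib.Helper3.GrTildeHom
import Groth.Agent.Lib.Helper3.QCExact

/-!
# The morphism `M~ ⟶ F` is an isomorphism under injectivity/surjectivity hypotheses
-/

set_option autoImplicit false
set_option linter.unusedSectionVars false
universe u
open CategoryTheory CategoryTheory.Limits AlgebraicGeometry TopologicalSpace Opposite
open Scheme.Modules

namespace Groth.Agent.Lib.Helper3.GrTildeIso

open QCSec InvGen TwistBasic GrTildeQC ProjFrac HomMk GrTildeHom

/-- A morphism of quasi-coherent modules which is injective on the sections over the members of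
an affine open cover is a monomorphism. -/
theorem mono_of_injective_on_affine_cover {X : Scheme.{u}} {M N : X.Modules} (φ : M ⟶ N)
    [M.IsQuasicoherent] [N.IsQuasicoherent]
    (h : ∀ x : X, ∃ (U : X.Opens) (_ : IsAffineOpen U), x ∈ U ∧ Function.Injective (φ.app U)) :
    Mono φ := by
  rw [QCProps.mono_iff_app_injective]
  intro W
  have hz : ∀ t : Γ(M, W), φ.app W t = 0 → t = 0 := by
    intro t ht
    have hloc : ∀ x : {x : X // x ∈ W}, ∃ (W' : X.Opens) (hW' : W' ≤ W), x.1 ∈ W' ∧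
        res M hW' t = 0 := by
      intro x
      obtain ⟨U, hU, hxU, hinj⟩ := h x.1
      obtain ⟨g, hgW, hxg⟩ := hU.exists_basicOpen_le (V := W ⊓ U) ⟨x.1, ⟨x.2, hxU⟩⟩ hxU
      have hDW : X.basicOpen g ≤ W := hgW.trans inf_le_left
      have hDU : X.basicOpen g ≤ U := X.basicOpen_le g
      refine ⟨X.basicOpen g, hDW, hxg, ?_⟩
      obtain ⟨k, s, hs⟩ :=
        (isLocSec_of_isQuasicoherent M hU g (X.basicOpen g) rfl hDU).surj (res M hDW t)
      have h1 : res N hDU (φ.app U s) = 0 := by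
        rw [← QCExact.app_res', hs, Scheme.Modules.Hom.app_smul, QCExact.app_res', ht,
          res_zero, smul_zero]
      obtain ⟨n, hn⟩ :=
        (isLocSec_of_isQuasicoherent N hU g (X.basicOpen g) rfl hDU).inj (φ.app U s) h1
      have h2 : g ^ n • s = 0 := by
        apply hinj
        rw [Scheme.Modules.Hom.app_smul, hn, map_zero]
      have h3 : rres X hDU g ^ (n + k) • res M hDW t = 0 := by
        rw [pow_add, mul_smul, ← hs, ← map_pow, ← res_smul, h2, res_zero]
      have hu : IsUnit (rres X hDU g) := RingedSpace.isUnit_res_basicOpen _ g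
      exact ((hu.pow (n + k)).smul_eq_zero).mp h3
    choose W' hW' hxW' hres using hloc
    exact sec_eq_of_locally_eq M W' W hW' (fun x hx => Opens.mem_iSup.mpr ⟨⟨x, hx⟩, hxW' _⟩)
      t 0 (fun i => by rw [hres i, res_zero])
  intro t t' htt
  have h1 : φ.app W (t - t') = 0 := by rw [map_sub, htt, sub_self]
  exact sub_eq_zero.mp (hz _ h1)

variable {R A : Type u} [CommRing R] [CommRing A] [Algebra R A] {𝒜 : ℕ → Submodule R A}
  [GradedAlgebra 𝒜] {M : Type u} [AddCommGroup M] [Module R M] [Module A M]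
  {ℳ : ℕ → Submodule R M} [SetLike.GradedSMul 𝒜 ℳ] [DirectSum.Decomposition ℳ]
  {ι : Type u} {F : (Proj 𝒜).Modules} {f : ι → A}
  (hf : ∀ i, f i ∈ 𝒜 1)
  (hcov : ∀ x : Proj 𝒜, ∃ i, x ∈ Proj.basicOpen 𝒜 (f i)) (D : Dehom ℳ F f)

include hf in
theorem rel_of_mval_eq (i : ι) {n : ℕ} {m : M} (hm : m ∈ ℳ n)
    (t : Γ(GrTilde.tilde 𝒜 ℳ 0, Proj.basicOpen 𝒜 (f i)))
    (hval : ∀ x : Proj.basicOpen 𝒜 (f i),
      mval t x = LocalizedModule.mk m ⟨f i ^ n, notMem_pow x.2 n⟩) :
    Rel D t (D.lam i m) := by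
  intro x
  refine ⟨Proj.basicOpen 𝒜 (f i), x.2, le_rfl, n, m, f i ^ n, hm,
    pow_mem_of_mem_one (hf i) n, fun y => notMem_pow y.2 n, fun y => hval y, fun k => ?_⟩
  exact D.lam_compat i k hm

include hf hcov in
theorem injective_hom_app [Finite ι] [F.IsQuasicoherent]
    (h3 : ∀ {n : ℕ} {m : M}, m ∈ ℳ n → (∀ i, D.lam i m = 0) → m = 0) (i : ι) :
    Function.Injective ((hom hf hcov D).app (Proj.basicOpen 𝒜 (f i))) := by
  classical
  haveI := Fintype.ofFinite ι
  have hz : ∀ t : Γ(GrTilde.tilde 𝒜 ℳ 0, Proj.basicOpen 𝒜 (f i)),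
      (hom hf hcov D).app (Proj.basicOpen 𝒜 (f i)) t = 0 → t = 0 := by
    intro t ht
    obtain ⟨k, j, m, hj, hval⟩ := exists_mval_eq 0 Nat.one_pos (hf i) t
    have hjk : j = k := by push_cast at hj; omega
    subst hjk
    have hval' : ∀ x : Proj.basicOpen 𝒜 (f i),
        mval t x = LocalizedModule.mk m.1 ⟨f i ^ j, notMem_pow x.2 j⟩ := fun x => hval x _
    have h1 : D.lam i m.1 = 0 := by
      rw [← hom_app_eq hf hcov D (rel_of_mval_eq hf D i m.2 t hval'), ht]
    -- vanishing of the other components after multiplying by a power of `f i`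
    have hN : ∀ i' : ι, ∃ N : ℕ, fn (Proj.basicOpen 𝒜 (f i')) (f i) (f i') ^ N •
        D.lam i' m.1 = 0 := by
      intro i'
      have hU' := Proj.isAffineOpen_basicOpen 𝒜 (f i') (hf i') Nat.one_pos
      have hg : Good (Proj.basicOpen 𝒜 (f i')) (f i) (f i') :=
        good_of_mem (hf i) (hf i') (fun x => x.2)
      have hW : Proj.basicOpen 𝒜 (f i') ⊓ Proj.basicOpen 𝒜 (f i) =
          (Proj 𝒜).basicOpen (fn (Proj.basicOpen 𝒜 (f i')) (f i) (f i')) :=
        (basicOpen_fn hg).symm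
      have hloc := isLocSec_of_isQuasicoherent F hU'
        (fn (Proj.basicOpen 𝒜 (f i')) (f i) (f i')) _ hW inf_le_left
      apply hloc.inj
      rw [D.lam_compat i' i m.2, h1, res_zero, smul_zero]
    choose N hN using hN
    obtain ⟨Nt, hNt⟩ : ∃ Nt : ℕ, ∀ i', N i' ≤ Nt :=
      ⟨Finset.univ.sup N, fun i' => Finset.le_sup (Finset.mem_univ i')⟩
    have h2 : f i ^ Nt • m.1 = 0 := by
      have hmem : f i ^ Nt • m.1 ∈ ℳ (Nt + j) :=
        SetLike.GradedSMul.smul_mem (pow_mem_of_mem_one (hf i) Nt) m.2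
      apply h3 hmem
      intro i'
      have hg : Good (Proj.basicOpen 𝒜 (f i')) (f i) (f i') :=
        good_of_mem (hf i) (hf i') (fun x => x.2)
      rw [D.lam_smul i' (pow_mem_of_mem_one (hf i) Nt) m.2, ← fn_pow hg,
        ← Nat.sub_add_cancel (hNt i'), pow_add, mul_smul, hN i', smul_zero]
    apply mval_ext
    intro x
    rw [hval' x, mval_zero,
      ← LocalizedModule.zero_mk (1 : x.1.asHomogeneousIdeal.toIdeal.primeCompl),
      LocalizedModule.mk_eq]
    refine ⟨⟨f i ^ Nt, notMem_pow x.2 Nt⟩, ?_⟩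
    rw [smul_zero, smul_zero]
    show f i ^ Nt • (1 : A) • m.1 = 0
    rw [one_smul, h2]
  intro t t' htt
  have h1 : (hom hf hcov D).app (Proj.basicOpen 𝒜 (f i)) (t - t') = 0 := by
    rw [map_sub, htt, sub_self]
  exact sub_eq_zero.mp (hz _ h1)

include hf hcov in
/-- the morphism `M~ ⟶ F` is an isomorphism -/
theorem isIso_hom [Finite ι] [F.IsQuasicoherent]
    (h3 : ∀ {n : ℕ} {m : M}, m ∈ ℳ n → (∀ i, D.lam i m = 0) → m = 0)
    (h5 : ∀ (i : ι) (t : Γ(F, Proj.basicOpen 𝒜 (f i))), ∃ (n : ℕ) (m : M), m ∈ ℳ n ∧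
      D.lam i m = t) :
    IsIso (hom hf hcov D) := by
  haveI : (GrTilde.tilde 𝒜 ℳ 0).IsQuasicoherent := isQuasicoherent_tilde 0
  haveI : Mono (hom hf hcov D) := by
    apply mono_of_injective_on_affine_cover
    intro x
    obtain ⟨i, hi⟩ := hcov x
    exact ⟨Proj.basicOpen 𝒜 (f i), Proj.isAffineOpen_basicOpen 𝒜 (f i) (hf i) Nat.one_pos, hi,
      injective_hom_app hf hcov D h3 i⟩
  haveI : Epi (hom hf hcov D) := by
    apply QCExact.epi_of_surjective_on_affine_cover
    intro x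
    obtain ⟨i, hi⟩ := hcov x
    refine ⟨Proj.basicOpen 𝒜 (f i),
      Proj.isAffineOpen_basicOpen 𝒜 (f i) (hf i) Nat.one_pos, hi, fun t => ?_⟩
    obtain ⟨n, m, hm, hmt⟩ := h5 i t
    exact ⟨_, (hom_mfrac hf hcov D i hm).trans hmt⟩
  exact isIso_of_mono_of_epi _

end Groth.Agent.Lib.Helper3.GrTildeIso
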