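import Groth.Agent.Lib.Helper3.CounitGG
import Groth.Agent.Lib.Helper3.ModGlue

set_option autoImplicit false
universe u
open CategoryTheory CategoryTheory.Limits AlgebraicGeometry TopologicalSpace Opposite
open Scheme.Modules

namespace Groth.Agent.Lib.Helper3.PullLemmas

open PbBasic QCSec

variable {X Y Z : Scheme.{u}}

/-- maps out of `g^*E` are determined by their values on pulled-back sections -/
theorem hom_ext_pull (g : X ⟶ Y) {E : Y.Modules} {F : X.Modules} (Small : Y.Opens → Prop)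
    (hcov : ∀ (W : Y.Opens) (y : Y), y ∈ W → ∃ V : Y.Opens, Small V ∧ y ∈ V ∧ V ≤ W)
    (m₁ m₂ : (Scheme.Modules.pullback g).obj E ⟶ F)
    (h : ∀ (U : Y.Opens), Small U → ∀ e : Γ(E, U),
      m₁.app (g ⁻¹ᵁ U) (pull g E U e) = m₂.app (g ⁻¹ᵁ U) (pull g E U e)) :
    m₁ = m₂ := by
  apply ((pullbackPushforwardAdjunction g).homEquiv E F).injective
  apply ModGlue.hom_ext_of_small Small hcov
  intro U hU e
  rw [Adjunction.homEquiv_unit, Adjunction.homEquiv_unit]
  exact h U hU e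

theorem pullbackComp_inv_pull (f : X ⟶ Y) (g : Y ⟶ Z) (M : Z.Modules) (V : Z.Opens)
    (σ : Γ(M, V)) :
    ((pullbackComp f g).inv.app M).app ((f ≫ g) ⁻¹ᵁ V) (pull (f ≫ g) M V σ) =
      pull f ((Scheme.Modules.pullback g).obj M) (g ⁻¹ᵁ V) (pull g M V σ) := by
  have h := unit_conjugateEquiv
    ((pullbackPushforwardAdjunction g).comp (pullbackPushforwardAdjunction f))
    (pullbackPushforwardAdjunction (f ≫ g)) (pullbackComp f g).inv M
  rw [conjugateEquiv_pullbackComp_inv] at h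
  have h2 := congrArg (fun ψ => (Scheme.Modules.Hom.app ψ V) σ) h
  exact h2.symm

theorem pullbackComp_hom_pull (f : X ⟶ Y) (g : Y ⟶ Z) (M : Z.Modules) (V : Z.Opens)
    (σ : Γ(M, V)) :
    ((pullbackComp f g).hom.app M).app ((f ≫ g) ⁻¹ᵁ V)
      (pull f ((Scheme.Modules.pullback g).obj M) (g ⁻¹ᵁ V) (pull g M V σ)) =
      pull (f ≫ g) M V σ := by
  rw [← pullbackComp_inv_pull]
  exact InvMonoidal.iso_hom_inv_app ((pullbackComp f g).app M) _ _

theorem pullbackId_hom_pull (M : X.Modules) (V : X.Opens) (σ : Γ(M, V)) :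
    ((pullbackId X).hom.app M).app V (pull (𝟙 X) M V σ) = σ := by
  have h := unit_conjugateEquiv Adjunction.id
    (pullbackPushforwardAdjunction (𝟙 X)) (pullbackId X).hom M
  rw [conjugateEquiv_pullbackId_hom] at h
  have h2 := congrArg (fun ψ => (Scheme.Modules.Hom.app ψ V) σ) h
  exact h2.symm

theorem pullbackCongr_hom_pull {f g : X ⟶ Y} (hf : f = g) (M : Y.Modules) (V : Y.Opens)
    (σ : Γ(M, V)) (W : X.Opens) (hW : W ≤ f ⁻¹ᵁ V) (hW' : W ≤ g ⁻¹ᵁ V) :
    ((pullbackCongr hf).hom.app M).app W (res _ hW (pull f M V σ)) =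
      res _ hW' (pull g M V σ) := by
  subst hf
  simp [pullbackCongr]

theorem pullbackCongr_inv_pull {f g : X ⟶ Y} (hf : f = g) (M : Y.Modules) (V : Y.Opens)
    (σ : Γ(M, V)) (W : X.Opens) (hW : W ≤ f ⁻¹ᵁ V) (hW' : W ≤ g ⁻¹ᵁ V) :
    ((pullbackCongr hf).inv.app M).app W (res _ hW' (pull g M V σ)) =
      res _ hW (pull f M V σ) := by
  subst hf
  simp [pullbackCongr]

/-- sections of a pushforward, seen upstairs -/
def up (p : X ⟶ Y) (F : X.Modules) (U : Y.Opens) (x : Γ((pushforward p).obj F, U)) :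
    Γ(F, p ⁻¹ᵁ U) := x

theorem adjoint_pull (p : X ⟶ Y) {E : Y.Modules} {F : X.Modules}
    (φ : E ⟶ (pushforward p).obj F) (U : Y.Opens) (e : Γ(E, U)) :
    (((pullbackPushforwardAdjunction p).homEquiv E F).symm φ).app (p ⁻¹ᵁ U) (pull p E U e) =
      up p F U (φ.app U e) := by
  rw [Adjunction.homEquiv_counit]
  change ((pullbackPushforwardAdjunction p).counit.app F).app (p ⁻¹ᵁ U)
    (((Scheme.Modules.pullback p).map φ).app (p ⁻¹ᵁ U) (pull p E U e)) = _
  rw [pull_app]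
  exact CounitGG.counit_pull p F U (φ.app U e)

section compat

variable {P : Scheme.{u}} (r : X ⟶ P) (p : P ⟶ Y) (g : X ⟶ Y) (hr : r ≫ p = g)
  {E : Y.Modules} {O1 : P.Modules} {L : X.Modules}
  (φ : E ⟶ (pushforward p).obj O1) (τ : (Scheme.Modules.pullback r).obj O1 ⟶ L)
  (s : (Scheme.Modules.pullback g).obj E ⟶ L)

include hr in
theorem preimage_le (U : Y.Opens) : g ⁻¹ᵁ U ≤ r ⁻¹ᵁ (p ⁻¹ᵁ U) := by
  subst hr
  exact le_rfl

theorem pull_of_compat
    (h : (pullbackCongr hr).inv.app E ≫ (pullbackComp r p).inv.app E ≫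
      (Scheme.Modules.pullback r).map
        (((pullbackPushforwardAdjunction p).homEquiv E O1).symm φ) ≫ τ = s)
    (U : Y.Opens) (e : Γ(E, U)) :
    τ.app (g ⁻¹ᵁ U) (res _ (preimage_le r p g hr U) (pull r O1 (p ⁻¹ᵁ U) (up p O1 U (φ.app U e)))) =
      s.app (g ⁻¹ᵁ U) (pull g E U e) := by
  subst hr
  subst h
  have h1 := pullbackCongr_inv_pull (rfl : r ≫ p = r ≫ p) E U e _ le_rfl le_rfl
  rw [res_self] at h1
  have h2 := pullbackComp_inv_pull r p E U e
  have h3 := pull_app r (((pullbackPushforwardAdjunction p).homEquiv E O1).symm φ) (p ⁻¹ᵁ U)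
    (pull p E U e)
  rw [adjoint_pull] at h3
  have e1 : res ((Scheme.Modules.pullback r).obj O1) (preimage_le r p (r ≫ p) rfl U)
      (pull r O1 (p ⁻¹ᵁ U) (up p O1 U (φ.app U e))) =
      pull r O1 (p ⁻¹ᵁ U) (up p O1 U (φ.app U e)) := res_self _ _ _
  refine (congrArg (τ.app ((r ≫ p) ⁻¹ᵁ U)) e1).trans ?_
  change _ = τ.app _ (((Scheme.Modules.pullback r).map _).app _
    (((pullbackComp r p).inv.app E).app _ (((pullbackCongr rfl).inv.app E).app _ _)))
  rw [h1, h2]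
  exact congrArg (τ.app ((r ≫ p) ⁻¹ᵁ U)) h3.symm

theorem compat_of_pull
    (h : ∀ (U : Y.Opens), IsAffineOpen U → ∀ (e : Γ(E, U)),
      τ.app (g ⁻¹ᵁ U) (res _ (preimage_le r p g hr U) (pull r O1 (p ⁻¹ᵁ U) (up p O1 U (φ.app U e)))) =
        s.app (g ⁻¹ᵁ U) (pull g E U e)) :
    (pullbackCongr hr).inv.app E ≫ (pullbackComp r p).inv.app E ≫
      (Scheme.Modules.pullback r).map
        (((pullbackPushforwardAdjunction p).homEquiv E O1).symm φ) ≫ τ = s := by
  apply hom_ext_pull g IsAffineOpen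
  · intro W y hy
    obtain ⟨_, ⟨V, hV, rfl⟩, hyV, hVW⟩ := Y.isBasis_affineOpens.exists_subset_of_mem_open hy W.2
    exact ⟨V, hV, hyV, hVW⟩
  · intro U hU e
    rw [← h U hU e]
    exact (pull_of_compat r p g hr φ τ _ rfl U e).symm

end compat

end Groth.Agent.Lib.Helper3.PullLemmas
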