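import Groth.Agent.Lib.Helper17.UnitBC2
import Groth.Agent.Lib.Helper17.PbStalk
import Groth.Agent.Lib.Helper3.PullLemmas
import Groth.Agent.Lib.Helper3.GrTildeIso
import Groth.Agent.Lib.Helper3.QCExact

/-!
# A criterion for the adjunct `f^* M ⟶ N` of `M ⟶ f_* N` to be an isomorphism

If, locally on the source, the map `Γ(V, M) → Γ(U, N)` is a base change along `Γ(V, O) → Γ(U, O)`
(for affine opens `U ≤ f⁻¹ V`), the adjunct is an isomorphism.
-/

set_option autoImplicit false
universe u
open CategoryTheory CategoryTheory.Limits AlgebraicGeometry TopologicalSpace Opposite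
open Scheme.Modules

namespace Groth.Agent.Lib.Helper3.PbIsoCrit

open QCSec InvGen PbBasic PullLemmas Groth.Agent.Lib.Helper17.UnitBC Groth.Agent.Lib.Helper17

section alg

variable {R S : Type u} [CommRing R] [CommRing S] {φ : R →+* S} {M N₁ N₂ : Type u}
  [AddCommGroup M] [Module R M] [AddCommGroup N₁] [Module S N₁] [AddCommGroup N₂] [Module S N₂]

/-- two base changes of the same module are related by a bijection -/
theorem bijective_of_isBCHom {β₁ : M → N₁} {β₂ : M → N₂} (h₁ : IsBCHom φ β₁)
    (h₂ : IsBCHom φ β₂) (g : N₁ →ₗ[S] N₂) (hg : ∀ m, g (β₁ m) = β₂ m) :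
    Function.Bijective g := by
  letI := φ.toAlgebra
  letI : Module R N₁ := Module.compHom N₁ φ
  haveI : IsScalarTower R S N₁ := IsScalarTower.of_algebraMap_smul fun _ _ => rfl
  letI : Module R N₂ := Module.compHom N₂ φ
  haveI : IsScalarTower R S N₂ := IsScalarTower.of_algebraMap_smul fun _ _ => rfl
  obtain ⟨l₁, hl₁, hb₁⟩ := h₁
  obtain ⟨l₂, hl₂, hb₂⟩ := h₂
  have hge : g = (hb₁.equiv.symm ≪≫ₗ hb₂.equiv).toLinearMap := by
    apply hb₁.algHom_ext
    intro m
    have e1 : (hb₁.equiv.symm ≪≫ₗ hb₂.equiv) (l₁ m) = l₂ m := by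
      rw [LinearEquiv.trans_apply, hb₁.equiv_symm_apply, hb₂.equiv_tmul, one_smul]
    change g (l₁ m) = (hb₁.equiv.symm ≪≫ₗ hb₂.equiv) (l₁ m)
    rw [e1, hl₁, hg, hl₂]
  rw [hge]
  exact LinearEquiv.bijective _

/-- a bijective semilinear map over a bijective ring homomorphism is a base change -/
theorem isBCHom_of_bijective {N : Type u} [AddCommGroup N] [Module S N]
    (hφ : Function.Bijective φ) (β : M →+ N) (hβ : ∀ (r : R) (m : M), β (r • m) = φ r • β m)
    (hbij : Function.Bijective β) : IsBCHom φ (fun m => β m) := by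
  letI := φ.toAlgebra
  letI : Module R N := Module.compHom N φ
  haveI : IsScalarTower R S N := IsScalarTower.of_algebraMap_smul fun _ _ => rfl
  let lin : M →ₗ[R] N :=
    { toFun := β
      map_add' := β.map_add
      map_smul' := fun r m => hβ r m }
  refine ⟨lin, fun m => rfl, ?_⟩
  apply IsBaseChange.of_lift_unique lin
  intro Q _ _ _ _ g
  let eβ := Equiv.ofBijective β hbij
  let eφ := Equiv.ofBijective φ hφ
  have h1 : ∀ s : S, φ (eφ.symm s) = s := fun s => eφ.apply_symm_apply s
  have h2 : ∀ n : N, β (eβ.symm n) = n := fun n => eβ.apply_symm_apply n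
  have h3 : ∀ m : M, eβ.symm (β m) = m := fun m => eβ.symm_apply_apply m
  have hsm : ∀ (s : S) (n : N), eβ.symm (s • n) = eφ.symm s • eβ.symm n := by
    intro s n
    apply hbij.1
    rw [h2, hβ, h1, h2]
  have hadd : ∀ a b : N, eβ.symm (a + b) = eβ.symm a + eβ.symm b := by
    intro a b
    apply hbij.1
    rw [h2, map_add, h2, h2]
  refine ⟨{ toFun := fun n => g (eβ.symm n)
            map_add' := fun a b => by rw [hadd, map_add]
            map_smul' := fun s n => by
              rw [hsm, LinearMap.map_smul, RingHom.id_apply, ← algebraMap_smul S (eφ.symm s)]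
              congr 1
              exact h1 s }, ?_, ?_⟩
  · ext m
    change g (eβ.symm (β m)) = g m
    rw [h3]
  · intro g' hg'
    ext n
    have h4 := congrArg (fun F => F (eβ.symm n)) hg'
    change g' n = g (eβ.symm n)
    rw [← h4]
    change g' n = g' (β (eβ.symm n))
    rw [h2]

end alg

variable {X Y : Scheme.{u}}

/-- a morphism of quasi-coherent modules which is bijective on the sections over the members of
an affine open cover is an isomorphism -/
theorem isIso_of_bijective_on_affine_cover {M N : X.Modules} (φ : M ⟶ N) [M.IsQuasicoherent]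
    [N.IsQuasicoherent]
    (h : ∀ x : X, ∃ (U : X.Opens) (_ : IsAffineOpen U), x ∈ U ∧ Function.Bijective (φ.app U)) :
    IsIso φ := by
  haveI : Mono φ := GrTildeIso.mono_of_injective_on_affine_cover φ (fun x => by
    obtain ⟨U, hU, hxU, hb⟩ := h x
    exact ⟨U, hU, hxU, hb.1⟩)
  haveI : Epi φ := QCExact.epi_of_surjective_on_affine_cover φ (fun x => by
    obtain ⟨U, hU, hxU, hb⟩ := h x
    exact ⟨U, hU, hxU, hb.2⟩)
  exact isIso_of_mono_of_epi φ

/-- **the criterion**: if locally on `X` the maps `Γ(V, M) → Γ(U, N)` induced by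
`α : M ⟶ f_* N` are base changes, the adjunct `f^* M ⟶ N` is an isomorphism. -/
theorem isIso_adjunct_of_isBCHom (f : X ⟶ Y) (M : Y.Modules) [M.IsQuasicoherent]
    (N : X.Modules) [N.IsQuasicoherent] (α : M ⟶ (pushforward f).obj N)
    (h : ∀ x : X, ∃ (V : Y.Opens) (U : X.Opens) (_ : IsAffineOpen V) (_ : IsAffineOpen U)
      (e : U ≤ f ⁻¹ᵁ V), x ∈ U ∧
        IsBCHom (f.appLE V U e).hom (fun m : Γ(M, V) => res N e (up f N V (α.app V m)))) :
    IsIso (((pullbackPushforwardAdjunction f).homEquiv M N).symm α) := by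
  haveI : ((Scheme.Modules.pullback f).obj M).IsQuasicoherent :=
    PbStalk.isQuasicoherent_pullback f M
  apply isIso_of_bijective_on_affine_cover
  intro x
  obtain ⟨V, U, hV, hU, e, hxU, hbc⟩ := h x
  refine ⟨U, hU, hxU, ?_⟩
  have h1 := isBCHom_unitSec f M hV hU e
  let g : Γ((Scheme.Modules.pullback f).obj M, U) →ₗ[Γ(X, U)] Γ(N, U) :=
    { toFun := fun t => (((pullbackPushforwardAdjunction f).homEquiv M N).symm α).app U t
      map_add' := fun a b => map_add _ a b
      map_smul' := fun r t => Scheme.Modules.Hom.app_smul _ r t }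
  exact bijective_of_isBCHom h1 hbc g (fun m => by
    change (((pullbackPushforwardAdjunction f).homEquiv M N).symm α).app U
      (unitSec f M V U e m) = _
    unfold unitSec
    rw [QCExact.app_res', adjoint_pull])

/-- for an open immersion: if `α : M ⟶ f_* N` is bijective on sections over the opens contained
in the range, the adjunct is an isomorphism. -/
theorem isIso_adjunct_of_isOpenImmersion (f : X ⟶ Y) [IsOpenImmersion f] (M : Y.Modules)
    [M.IsQuasicoherent] (N : X.Modules) [N.IsQuasicoherent] (α : M ⟶ (pushforward f).obj N)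
    (h : ∀ W : Y.Opens, W ≤ f.opensRange → Function.Bijective (α.app W)) :
    IsIso (((pullbackPushforwardAdjunction f).homEquiv M N).symm α) := by
  apply isIso_adjunct_of_isBCHom
  intro x
  obtain ⟨_, ⟨U, hU, rfl⟩, hxU, -⟩ := X.isBasis_affineOpens.exists_subset_of_mem_open
    (show x ∈ ((⊤ : X.Opens) : Set X) from trivial) (⊤ : X.Opens).2
  have e : U ≤ f ⁻¹ᵁ (f ''ᵁ U) := (f.preimage_image_eq U).ge
  have e' : f ⁻¹ᵁ (f ''ᵁ U) ≤ U := (f.preimage_image_eq U).le
  refine ⟨f ''ᵁ U, U, hU.image_of_isOpenImmersion f, hU, e, hxU, ?_⟩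
  have hφ : Function.Bijective (f.appLE (f ''ᵁ U) U e).hom := by
    have h1 : IsIso (f.appLE (f ''ᵁ U) U e) := by
      rw [← f.appIso_hom' U]
      infer_instance
    exact (ConcreteCategory.isIso_iff_bijective _).mp h1
  let β : Γ(M, f ''ᵁ U) →+ Γ(N, U) :=
    { toFun := fun m => res N e (up f N (f ''ᵁ U) (α.app (f ''ᵁ U) m))
      map_zero' := by
        rw [map_zero]
        exact res_zero N e
      map_add' := fun a b => by
        rw [map_add]
        exact QCExact.res_add N e _ _ }
  have hres : Function.Bijective (fun t : Γ(N, f ⁻¹ᵁ (f ''ᵁ U)) => res N e t) := by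
    refine Function.bijective_iff_has_inverse.mpr ⟨fun t => res N e' t, fun t => ?_, fun t => ?_⟩
    · change res N e' (res N e t) = t
      rw [res_res, res_self]
    · change res N e (res N e' t) = t
      rw [res_res, res_self]
  refine isBCHom_of_bijective hφ β (fun r m => ?_) ?_
  · change res N e (up f N (f ''ᵁ U) (α.app (f ''ᵁ U) (r • m))) =
      (f.appLE (f ''ᵁ U) U e).hom r • res N e (up f N (f ''ᵁ U) (α.app (f ''ᵁ U) m))
    rw [Scheme.Modules.Hom.app_smul, PbTensor.pushforward_smul]
    change res N e ((f.app (f ''ᵁ U) r) • (up f N (f ''ᵁ U) (α.app (f ''ᵁ U) m))) = _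
    rw [res_smul]
    rfl
  · exact hres.comp (h (f ''ᵁ U) (f.image_le_opensRange U))

end Groth.Agent.Lib.Helper3.PbIsoCrit
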