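import Mathlib.Topology.NoetherianSpace
import Mathlib.Topology.Irreducible

/-!
# Irreducible components meeting a Noetherian open subset
-/

set_option autoImplicit false
open TopologicalSpace

namespace Groth.Agent.Lib.Helper3

/-- If `V ⊆ Y` is open and Noetherian as a subspace, only finitely many irreducible components of `Y`
meet `V`. -/
theorem finite_irreducibleComponents_inter {Y : Type*} [TopologicalSpace Y] (V : Set Y)
    (hV : IsOpen V) [NoetherianSpace ↥V] :
    {T ∈ irreducibleComponents Y | (T ∩ V).Nonempty}.Finite := by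
  have hfin : (irreducibleComponents ↥V).Finite := NoetherianSpace.finite_irreducibleComponents
  refine Set.Finite.subset (hfin.image (fun C : Set ↥V => closure (Subtype.val '' C))) ?_
  rintro T ⟨hT, hTV⟩
  have hpre : IsPreirreducible ((Subtype.val : ↥V → Y) ⁻¹' T) :=
    hT.1.isPreirreducible.preimage hV.isOpenEmbedding_subtypeVal
  obtain ⟨C, hC, hTC, hmax⟩ := exists_preirreducible _ hpre
  have hne : C.Nonempty := by
    obtain ⟨x, hxT, hxV⟩ := hTV
    exact ⟨⟨x, hxV⟩, hTC hxT⟩
  have hCirr : C ∈ irreducibleComponents ↥V :=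
    ⟨⟨hne, hC⟩, fun u hu hCu => (hmax u hu.2 hCu).le⟩
  refine ⟨C, hCirr, ?_⟩
  have h1 : T ⊆ closure (T ∩ V) :=
    subset_closure_inter_of_isPreirreducible_of_isOpen hT.1.isPreirreducible hV hTV
  have h2 : T ∩ V ⊆ Subtype.val '' C := by
    rintro x ⟨hxT, hxV⟩
    exact ⟨⟨x, hxV⟩, hTC hxT, rfl⟩
  have h3 : IsIrreducible (closure (Subtype.val '' C)) :=
    (IsIrreducible.image ⟨hne, hC⟩ _ continuous_subtype_val.continuousOn).closure
  exact subset_antisymm (hT.2 h3 (h1.trans (closure_mono h2))) (h1.trans (closure_mono h2))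

end Groth.Agent.Lib.Helper3
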