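import Groth.Agent.Lib.Helper3.InvGen
import Groth.Agent.Lib.Helper13.TensorLocal

/-!
# Sections of tensor products with invertible modules
-/

set_option autoImplicit false
universe u
open CategoryTheory CategoryTheory.Limits AlgebraicGeometry TopologicalSpace Opposite
open Scheme.Modules TensorProduct

namespace Groth.Agent.Lib.Helper3.InvTensor

open QCSec InvGen

variable {X : Scheme.{u}}

/-- the section `m ⊗ n` of `M ⊗ N` -/
noncomputable def tm (M N : X.Modules) (U : X.Opens) (m : Γ(M, U)) (n : Γ(N, U)) :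
    Γ(CohB1.tensorMod M N, U) :=
  SecTwist.tmul M N U m n

/-- the ring of functions over `U`, in the form used by the sectionwise tensor product -/
abbrev Rg (X : Scheme.{u}) (U : X.Opens) : Type u :=
  ↑((X.sheaf.obj ⋙ forget₂ CommRingCat RingCat).obj (op U))

theorem tm_add_left (M N : X.Modules) (U : X.Opens) (m m' : Γ(M, U)) (n : Γ(N, U)) :
    tm M N U (m + m') n = tm M N U m n + tm M N U m' n := by
  let m₁ : (CohB1.toPMod M).obj (op U) := m
  let m₁' : (CohB1.toPMod M).obj (op U) := m'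
  let n₁ : (CohB1.toPMod N).obj (op U) := n
  have h2 := TensorProduct.add_tmul (R := Rg X U) m₁ m₁' n₁
  exact (congrArg ((SecTwist.toTensor M N).app (op U)).hom h2).trans
    (map_add ((SecTwist.toTensor M N).app (op U)).hom _ _)

theorem tm_add_right (M N : X.Modules) (U : X.Opens) (m : Γ(M, U)) (n n' : Γ(N, U)) :
    tm M N U m (n + n') = tm M N U m n + tm M N U m n' := by
  let m₁ : (CohB1.toPMod M).obj (op U) := m
  let n₁ : (CohB1.toPMod N).obj (op U) := n
  let n₁' : (CohB1.toPMod N).obj (op U) := n'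
  have h2 := TensorProduct.tmul_add (R := Rg X U) m₁ n₁ n₁'
  exact (congrArg ((SecTwist.toTensor M N).app (op U)).hom h2).trans
    (map_add ((SecTwist.toTensor M N).app (op U)).hom _ _)

theorem tm_smul_left (M N : X.Modules) (U : X.Opens) (r : Γ(X, U)) (m : Γ(M, U)) (n : Γ(N, U)) :
    tm M N U (r • m) n = r • tm M N U m n := by
  let m₁ : (CohB1.toPMod M).obj (op U) := m
  let n₁ : (CohB1.toPMod N).obj (op U) := n
  let r₁ : Rg X U := r
  have h2 := TensorProduct.smul_tmul' (R := Rg X U) r₁ m₁ n₁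
  have h1 := _root_.map_smul ((SecTwist.toTensor M N).app (op U)).hom r₁ (m₁ ⊗ₜ[Rg X U] n₁)
  exact (congrArg ((SecTwist.toTensor M N).app (op U)).hom h2.symm).trans h1

theorem tm_smul_right (M N : X.Modules) (U : X.Opens) (r : Γ(X, U)) (m : Γ(M, U)) (n : Γ(N, U)) :
    tm M N U m (r • n) = r • tm M N U m n := by
  let m₁ : (CohB1.toPMod M).obj (op U) := m
  let n₁ : (CohB1.toPMod N).obj (op U) := n
  let r₁ : Rg X U := r
  have h2 := TensorProduct.tmul_smul (R := Rg X U) r₁ m₁ n₁
  have h1 := _root_.map_smul ((SecTwist.toTensor M N).app (op U)).hom r₁ (m₁ ⊗ₜ[Rg X U] n₁)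
  exact (congrArg ((SecTwist.toTensor M N).app (op U)).hom h2).trans h1

theorem tm_res (M N : X.Modules) {A B : X.Opens} (h : A ≤ B) (m : Γ(M, B)) (n : Γ(N, B)) :
    res (CohB1.tensorMod M N) h (tm M N B m n) = tm M N A (res M h m) (res N h n) :=
  SecTwist.map_tmul M N (homOfLE h) m n


theorem tm_sub_left (M N : X.Modules) (U : X.Opens) (m m' : Γ(M, U)) (n : Γ(N, U)) :
    tm M N U (m - m') n = tm M N U m n - tm M N U m' n := by
  rw [eq_sub_iff_add_eq, ← tm_add_left, sub_add_cancel]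

theorem tm_sub_right (M N : X.Modules) (U : X.Opens) (m : Γ(M, U)) (n n' : Γ(N, U)) :
    tm M N U m (n - n') = tm M N U m n - tm M N U m n' := by
  rw [eq_sub_iff_add_eq, ← tm_add_right, sub_add_cancel]

theorem tm_zero_left (M N : X.Modules) (U : X.Opens) (n : Γ(N, U)) :
    tm M N U 0 n = 0 := by
  have := tm_sub_left M N U 0 0 n
  rwa [sub_self, sub_self] at this

theorem tm_zero_right (M N : X.Modules) (U : X.Opens) (m : Γ(M, U)) :
    tm M N U m 0 = 0 := by
  have := tm_sub_right M N U m 0 0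
  rwa [sub_self, sub_self] at this

theorem tm_smul_comm (M N : X.Modules) (U : X.Opens) (r : Γ(X, U)) (m : Γ(M, U)) (n : Γ(N, U)) :
    tm M N U (r • m) n = tm M N U m (r • n) := by
  rw [tm_smul_left, tm_smul_right]

theorem tm_sum_left (M N : X.Modules) (U : X.Opens) {ι : Type*} (s : Finset ι)
    (m : ι → Γ(M, U)) (n : Γ(N, U)) :
    tm M N U (∑ i ∈ s, m i) n = ∑ i ∈ s, tm M N U (m i) n := by
  classical
  induction s using Finset.induction_on with
  | empty => simp [tm_zero_left]
  | insert a s ha ih => rw [Finset.sum_insert ha, Finset.sum_insert ha, tm_add_left, ih]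

/-! ### pure algebra -/

section Algebra

variable {R M N : Type*} [CommRing R] [AddCommGroup M] [Module R M] [AddCommGroup N] [Module R N]

theorem eq_zero_of_tmul_gen (e : N) (he : Function.Bijective (fun a : R => a • e)) (t : M)
    (h : t ⊗ₜ[R] e = 0) : t = 0 := by
  let c : N ≃ₗ[R] R := (LinearEquiv.ofBijective (LinearMap.toSpanSingleton R N e) he).symm
  have hc : c e = 1 := by
    rw [LinearEquiv.symm_apply_eq]
    simp
  let φ : M ⊗[R] N →ₗ[R] M := (TensorProduct.rid R M).toLinearMap ∘ₗ LinearMap.lTensor M c.toLinearMap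
  have h1 : φ (t ⊗ₜ[R] e) = t := by
    simp [φ, hc]
  rw [h, map_zero] at h1
  exact h1.symm

theorem exists_tmul_gen (e : N) (he : Function.Bijective (fun a : R => a • e)) (y : M ⊗[R] N) :
    ∃ t : M, y = t ⊗ₜ[R] e := by
  induction y using TensorProduct.induction_on with
  | zero => exact ⟨0, (TensorProduct.zero_tmul _ _).symm⟩
  | tmul m n =>
    obtain ⟨a, ha⟩ := he.2 n
    dsimp only at ha
    exact ⟨a • m, by rw [← ha, TensorProduct.smul_tmul]⟩
  | add x y hx hy =>
    obtain ⟨t₁, rfl⟩ := hx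
    obtain ⟨t₂, rfl⟩ := hy
    exact ⟨t₁ + t₂, (TensorProduct.add_tmul _ _ _).symm⟩

end Algebra

/-! ### local representation of sections of a tensor product -/

theorem exists_local_rep (M N : X.Modules) (U : X.Opens) (σ : Γ(CohB1.tensorMod M N, U))
    (x : X) (hx : x ∈ U) :
    ∃ (V : X.Opens) (hVU : V ≤ U) (_ : x ∈ V) (y : ↑((CohB1.tensorPre M N).obj (op V))),
      ((SecTwist.toTensor M N).app (op V)).hom y = res (CohB1.tensorMod M N) hVU σ := by
  obtain ⟨S, hS, h⟩ := Helper13.TensorLocal.locSurj_unit (J := Opens.grothendieckTopology X)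
    (𝟙 X.ringCatSheaf.obj) (show X.PresheafOfModules from CohB1.tensorPre M N) U σ
  obtain ⟨V, g, hg, hxV⟩ := hS x hx
  obtain ⟨t, ht⟩ := h g hg
  exact ⟨V, g.le, hxV, t, ht⟩

theorem local_inj (M N : X.Modules) (U : X.Opens) (y : ↑((CohB1.tensorPre M N).obj (op U)))
    (hy : ((SecTwist.toTensor M N).app (op U)).hom y = 0) (x : X) (hx : x ∈ U) :
    ∃ (V : X.Opens) (hVU : V ≤ U), x ∈ V ∧
      ((CohB1.tensorPre M N).map (homOfLE hVU).op).hom y = 0 :=
  QCExact.locInj_unit (show X.PresheafOfModules from CohB1.tensorPre M N) U y hy x hx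


/-! ### tensoring with a generated module -/

theorem pre_map_tmul (M N : X.Modules) {A B : X.Opens} (h : A ≤ B) (m : Γ(M, B)) (n : Γ(N, B)) :
    ((CohB1.tensorPre M N).map (homOfLE h).op).hom
      ((show (CohB1.toPMod M).obj (op B) from m) ⊗ₜ[Rg X B]
        (show (CohB1.toPMod N).obj (op B) from n)) =
      ((show (CohB1.toPMod M).obj (op A) from res M h m) ⊗ₜ[Rg X A]
        (show (CohB1.toPMod N).obj (op A) from res N h n)) := rfl

theorem tm_gen_eq_zero (F L : X.Modules) {U : X.Opens} {e : Γ(L, U)} (hg : IsGen L U e)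
    (V : X.Opens) (h : V ≤ U) (t : Γ(F, V)) (ht : tm F L V t (res L h e) = 0) : t = 0 := by
  have key : ∀ x : {x : X // x ∈ V}, ∃ (W : X.Opens) (hWV : W ≤ V), x.1 ∈ W ∧ res F hWV t = 0 := by
    intro x
    obtain ⟨W, hWV, hxW, hW⟩ := local_inj F L V _ ht x.1 x.2
    refine ⟨W, hWV, hxW, ?_⟩
    rw [pre_map_tmul] at hW
    have hgW : IsGenAt L W (res L hWV (res L h e)) := by
      rw [res_res]; exact hg W (hWV.trans h)
    exact eq_zero_of_tmul_gen (R := Rg X W) (M := (CohB1.toPMod F).obj (op W))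
      (N := (CohB1.toPMod L).obj (op W)) _ hgW _ hW
  choose W hWV hxW hW using key
  apply sec_eq_of_locally_eq F W V hWV (fun x hx => Opens.mem_iSup.mpr ⟨⟨x, hx⟩, hxW ⟨x, hx⟩⟩)
  intro i
  rw [hW i, res_zero]

theorem tm_gen_injective (F L : X.Modules) {U : X.Opens} {e : Γ(L, U)} (hg : IsGen L U e)
    (V : X.Opens) (h : V ≤ U) :
    Function.Injective (fun t : Γ(F, V) => tm F L V t (res L h e)) := by
  intro t t' htt
  dsimp only at htt
  have : tm F L V (t - t') (res L h e) = 0 := by rw [tm_sub_left, htt, sub_self]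
  exact sub_eq_zero.mp (tm_gen_eq_zero F L hg V h _ this)

theorem tm_gen_surjective (F L : X.Modules) {U : X.Opens} {e : Γ(L, U)} (hg : IsGen L U e)
    (V : X.Opens) (h : V ≤ U) :
    Function.Surjective (fun t : Γ(F, V) => tm F L V t (res L h e)) := by
  intro σ
  have key : ∀ x : {x : X // x ∈ V}, ∃ (W : X.Opens) (hWV : W ≤ V), x.1 ∈ W ∧
      ∃ t : Γ(F, W), tm F L W t (res L (hWV.trans h) e) = res (CohB1.tensorMod F L) hWV σ := by
    intro x
    obtain ⟨W, hWV, hxW, y, hy⟩ := exists_local_rep F L V σ x.1 x.2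
    refine ⟨W, hWV, hxW, ?_⟩
    have hgW : IsGenAt L W (res L (hWV.trans h) e) := hg W (hWV.trans h)
    obtain ⟨t, rfl⟩ := exists_tmul_gen (R := Rg X W) (M := (CohB1.toPMod F).obj (op W))
      (N := (CohB1.toPMod L).obj (op W)) _ hgW y
    exact ⟨t, hy⟩
  choose W hWV hxW t ht using key
  have hcov : V ≤ ⨆ i, W i := fun x hx => Opens.mem_iSup.mpr ⟨⟨x, hx⟩, hxW ⟨x, hx⟩⟩
  obtain ⟨t₀, ht₀⟩ := sec_glue F W V hWV hcov t (by
    intro i j
    apply tm_gen_injective F L hg (W i ⊓ W j) ((inf_le_left.trans (hWV i)).trans h)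
    dsimp only
    have h1 := congrArg (res (CohB1.tensorMod F L) (inf_le_left : W i ⊓ W j ≤ W i)) (ht i)
    have h2 := congrArg (res (CohB1.tensorMod F L) (inf_le_right : W i ⊓ W j ≤ W j)) (ht j)
    rw [tm_res, res_res, res_res] at h1 h2
    rw [h1, h2])
  refine ⟨t₀, ?_⟩
  dsimp only
  apply sec_eq_of_locally_eq (CohB1.tensorMod F L) W V hWV hcov
  intro i
  rw [tm_res, res_res, ht₀ i, ht i]

theorem tm_gen_bijective (F L : X.Modules) {U : X.Opens} {e : Γ(L, U)} (hg : IsGen L U e)
    (V : X.Opens) (h : V ≤ U) :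
    Function.Bijective (fun t : Γ(F, V) => tm F L V t (res L h e)) :=
  ⟨tm_gen_injective F L hg V h, tm_gen_surjective F L hg V h⟩

/-- The tensor product of two generators is a generator. -/
theorem isGen_tm {L L' : X.Modules} {U : X.Opens} {e : Γ(L, U)} {e' : Γ(L', U)}
    (hg : IsGen L U e) (hg' : IsGen L' U e') : IsGen (CohB1.tensorMod L L') U (tm L L' U e e') := by
  intro V hV
  have h1 := tm_gen_bijective L L' hg' V hV
  have h2 := hg V hV
  have : (fun a : Γ(X, V) => a • res (CohB1.tensorMod L L') hV (tm L L' U e e')) =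
      (fun t : Γ(L, V) => tm L L' V t (res L' hV e')) ∘ (fun a : Γ(X, V) => a • res L hV e) := by
    funext a
    change _ = tm L L' V (a • res L hV e) (res L' hV e')
    rw [tm_smul_left, tm_res]
  unfold IsGenAt
  rw [this]
  exact h1.comp h2


/-! ### powers of a local section -/

/-- the section `e^{⊗ n}` of `L^{⊗ n}` -/
noncomputable def lpow (L : X.Modules) {U : X.Opens} (e : Γ(L, U)) :
    (n : ℕ) → Γ(CohB1.tensorPow L n, U)
  | 0 => ofFun U 1
  | n + 1 => tm (CohB1.tensorPow L n) L U (lpow L e n) e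

theorem lpow_zero (L : X.Modules) {U : X.Opens} (e : Γ(L, U)) : lpow L e 0 = ofFun U 1 := rfl

theorem lpow_succ (L : X.Modules) {U : X.Opens} (e : Γ(L, U)) (n : ℕ) :
    lpow L e (n + 1) = tm (CohB1.tensorPow L n) L U (lpow L e n) e := rfl

theorem lpow_res (L : X.Modules) {A B : X.Opens} (h : A ≤ B) (e : Γ(L, B)) (n : ℕ) :
    res (CohB1.tensorPow L n) h (lpow L e n) = lpow L (res L h e) n := by
  induction n with
  | zero => exact (res_ofFun h 1).trans (congrArg (ofFun A) (rres_one h))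
  | succ n ih =>
    change res (CohB1.tensorMod (CohB1.tensorPow L n) L) h
      (tm (CohB1.tensorPow L n) L B (lpow L e n) e) = _
    rw [tm_res, ih]
    rfl

theorem lpow_smul (L : X.Modules) {U : X.Opens} (a : Γ(X, U)) (e : Γ(L, U)) (n : ℕ) :
    lpow L (a • e) n = a ^ n • lpow L e n := by
  induction n with
  | zero => rw [pow_zero, one_smul]; rfl
  | succ n ih =>
    rw [lpow_succ, ih, tm_smul_left, tm_smul_right, ← mul_smul, ← pow_succ]
    rfl

theorem isGen_lpow {L : X.Modules} {U : X.Opens} {e : Γ(L, U)} (hg : IsGen L U e) (n : ℕ) :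
    IsGen (CohB1.tensorPow L n) U (lpow L e n) := by
  induction n with
  | zero => exact isGen_one U
  | succ n ih => exact isGen_tm ih hg

theorem pow_eq_lpow {L : X.Modules} (s : Coh.structureModule X ⟶ L) (n : ℕ) (U : X.Opens) :
    SecTwist.pow s n U = lpow L (sec s U) n := by
  induction n with
  | zero => rfl
  | succ n ih =>
    change SecTwist.tmul _ _ U (SecTwist.pow s n U) (SecTwist.val s U) = _
    rw [ih]
    rfl

theorem sec_powHom {L : X.Modules} (s : Coh.structureModule X ⟶ L) (n : ℕ) (U : X.Opens) :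
    sec (SecTwist.powHom s n) U = lpow L (sec s U) n :=
  (SecTwist.val_powHom s n U).trans (pow_eq_lpow s n U)

theorem sec_tmulHom {M N : X.Modules} (a : Coh.structureModule X ⟶ M)
    (b : Coh.structureModule X ⟶ N) (U : X.Opens) :
    sec (SecTwist.tmulHom a b) U = tm M N U (sec a U) (sec b U) :=
  SecTwist.val_tmulHom a b U

theorem isInvertible_tensorMod {L L' : X.Modules} (hL : PicF.IsInvertible L)
    (hL' : PicF.IsInvertible L') : PicF.IsInvertible (CohB1.tensorMod L L') := by
  apply isInvertible_of_isGen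
  intro x
  obtain ⟨U, e, hxU, hg⟩ := exists_isGen hL x
  obtain ⟨U', e', hxU', hg'⟩ := exists_isGen hL' x
  exact ⟨U ⊓ U', _, ⟨hxU, hxU'⟩, isGen_tm (hg.mono inf_le_left) (hg'.mono inf_le_right)⟩

theorem isInvertible_tensorPow {L : X.Modules} (hL : PicF.IsInvertible L) (n : ℕ) :
    PicF.IsInvertible (CohB1.tensorPow L n) := by
  induction n with
  | zero => exact isInvertible_structureModule X
  | succ n ih => exact isInvertible_tensorMod ih hL

/-- `X_{f ⊗ g} = X_f ∩ X_g`. -/
theorem genLocus_tmulHom {L L' : X.Modules} (hL : PicF.IsInvertible L)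
    (hL' : PicF.IsInvertible L') (f : Coh.structureModule X ⟶ L)
    (g : Coh.structureModule X ⟶ L') :
    CohB1.genLocus (CohB1.tensorMod L L') (SecTwist.tmulHom f g) =
      CohB1.genLocus L f ⊓ CohB1.genLocus L' g := by
  apply le_antisymm
  · intro x hx
    -- local generators near `x`
    obtain ⟨U₁, e₁, hxU₁, hg₁⟩ := exists_isGen hL x
    obtain ⟨U₂, e₂, hxU₂, hg₂⟩ := exists_isGen hL' x
    let U := U₁ ⊓ U₂
    have hxU : x ∈ U := ⟨hxU₁, hxU₂⟩
    have hgU₁ : IsGen L U (res L inf_le_left e₁) := hg₁.mono inf_le_left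
    have hgU₂ : IsGen L' U (res L' inf_le_right e₂) := hg₂.mono inf_le_right
    obtain ⟨a, ha⟩ := hgU₁.self.exists_coord (sec f U)
    obtain ⟨b, hb⟩ := hgU₂.self.exists_coord (sec g U)
    have hab : sec (SecTwist.tmulHom f g) U =
        (a * b) • tm L L' U (res L inf_le_left e₁) (res L' inf_le_right e₂) := by
      rw [sec_tmulHom, ← ha, ← hb, tm_smul_left, tm_smul_right, mul_smul]
    have h1 := genLocus_inf_eq_basicOpen (SecTwist.tmulHom f g) (isGen_tm hgU₁ hgU₂) (a * b) hab
    have h2 := genLocus_inf_eq_basicOpen f hgU₁ a ha.symm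
    have h3 := genLocus_inf_eq_basicOpen g hgU₂ b hb.symm
    have hx' : x ∈ X.basicOpen (a * b) := by rw [← h1]; exact ⟨hx, hxU⟩
    rw [Scheme.basicOpen_mul] at hx'
    constructor
    · have : x ∈ CohB1.genLocus L f ⊓ U := by rw [h2]; exact hx'.1
      exact this.1
    · have : x ∈ CohB1.genLocus L' g ⊓ U := by rw [h3]; exact hx'.2
      exact this.1
  · apply le_genLocus
    rw [sec_tmulHom]
    exact isGen_tm (isGen_sec_of_le f inf_le_left) (isGen_sec_of_le g inf_le_right)

end Groth.Agent.Lib.Helper3.InvTensor
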