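import Mathlib.Topology.Sheaves.Functors
import Mathlib.Topology.Sheaves.Stalks
import Mathlib.CategoryTheory.Adjunction.Whiskering
import Mathlib.CategoryTheory.Adjunction.FullyFaithful
import Mathlib.CategoryTheory.Adjunction.Opposites

/-! Pushforward of sheaves along a closed embedding is fully faithful. -/

set_option autoImplicit false
set_option linter.unusedVariables false
universe u v w
open CategoryTheory TopologicalSpace Opposite Topology

namespace Groth.Agent.Lib.Helper3.ClosedEmbSheaf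

variable {Z X : TopCat.{u}} (i : Z ⟶ X)

/-- The largest open of `X` with a given preimage in `Z`. -/
def Φ (hi : IsClosedEmbedding i) : Opens Z ⥤ Opens X where
  obj V := ⟨(i '' (V : Set Z)ᶜ)ᶜ, (hi.isClosedMap _ V.isOpen.isClosed_compl).isOpen_compl⟩
  map {V W} h := homOfLE (by
    intro x hx ⟨z, hz, hzx⟩
    exact hx ⟨z, fun hzV => hz (leOfHom h hzV), hzx⟩)

/-- `i⁻¹ ⊣ Φ` on opens. -/
def adj (hi : IsClosedEmbedding i) : Opens.map i ⊣ Φ i hi :=
  Adjunction.mkOfHomEquiv
    { homEquiv := fun U V =>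
        { toFun := fun h => homOfLE (by
            intro x hxU ⟨z, hz, hzx⟩
            subst hzx
            exact hz (leOfHom h hxU))
          invFun := fun h => homOfLE (by
            intro z hz
            by_contra hzV
            exact (leOfHom h hz) ⟨z, hzV, rfl⟩)
          left_inv := fun _ => Subsingleton.elim _ _
          right_inv := fun _ => Subsingleton.elim _ _ }
      homEquiv_naturality_left_symm := by intros; apply Subsingleton.elim
      homEquiv_naturality_right := by intros; apply Subsingleton.elim }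

lemma map_Φ (hi : IsClosedEmbedding i) (V : Opens Z) :
    (Opens.map i).obj ((Φ i hi).obj V) = V := by
  apply Opens.ext
  ext z
  show i z ∈ (i '' (V : Set Z)ᶜ)ᶜ ↔ z ∈ (V : Set Z)
  constructor
  · intro hz
    by_contra hzV
    exact hz ⟨z, hzV, rfl⟩
  · rintro hzV ⟨z', hz', e⟩
    exact hz' (hi.injective e ▸ hzV)

instance isIso_unit_op (hi : IsClosedEmbedding i) : IsIso (adj i hi).op.unit := by
  have : ∀ V, IsIso ((adj i hi).op.unit.app V) := fun V =>
    ⟨⟨(homOfLE (le_of_eq (map_Φ i hi V.unop).symm)).op,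
      Subsingleton.elim _ _, Subsingleton.elim _ _⟩⟩
  exact NatIso.isIso_of_isIso_app _

variable (C : Type v) [Category.{w} C]

/-- On presheaves, pushforward along a closed embedding has a right adjoint. -/
def adjP (hi : IsClosedEmbedding i) :
    TopCat.Presheaf.pushforward C i ⊣ (Functor.whiskeringLeft _ _ C).obj (Φ i hi).op :=
  (adj i hi).op.whiskerLeft C

instance isIso_unit_adjP (hi : IsClosedEmbedding i) : IsIso (adjP i C hi).unit := by
  have : ∀ P : Z.Presheaf C, IsIso ((adjP i C hi).unit.app P) := by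
    intro P
    have : ∀ V, IsIso (((adjP i C hi).unit.app P).app V) := by
      intro V
      rw [adjP, Adjunction.whiskerLeft_unit_app_app]
      infer_instance
    exact NatIso.isIso_of_isIso_app _
  exact NatIso.isIso_of_isIso_app _

/-- Pushforward of presheaves along a closed embedding is fully faithful. -/
noncomputable def ffPresheaf (hi : IsClosedEmbedding i) :
    (TopCat.Presheaf.pushforward C i).FullyFaithful :=
  (adjP i C hi).fullyFaithfulLOfIsIsoUnit

/-- Pushforward of sheaves along a closed embedding is fully faithful. -/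
noncomputable def ffSheaf (hi : IsClosedEmbedding i) :
    (TopCat.Sheaf.pushforward C i).FullyFaithful where
  preimage {F G} γ := ObjectProperty.homMk ((ffPresheaf i C hi).preimage γ.hom)
  map_preimage {F G} γ := Sheaf.hom_ext ((ffPresheaf i C hi).map_preimage γ.hom)
  preimage_map {F G} α := Sheaf.hom_ext ((ffPresheaf i C hi).preimage_map α.hom)


open AlgebraicGeometry in
/-- The stalk of a pushforward along a closed embedding at a point outside the image is a
one-point set. -/
theorem stalk_unique {Z X : TopCat.{u}} (i : Z ⟶ X) (hi : IsClosedEmbedding i)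
    (F : Z.Sheaf (Type u)) (x : X) (hx : x ∉ Set.range i) :
    Nonempty (Unique (((TopCat.Sheaf.pushforward (Type u) i).obj F).presheaf.stalk x)) := by
  have hbot : ∀ W : Opens X, (W : Set X) ⊆ (Set.range i)ᶜ → (Opens.map i).obj W = ⊥ := by
    intro W hW
    apply Opens.ext
    ext z
    simp only [Opens.map_coe, Set.mem_preimage, Opens.coe_bot, Set.mem_empty_iff_false, iff_false]
    intro hz
    exact hW hz ⟨z, rfl⟩
  have huniq : ∀ W : Opens X, (W : Set X) ⊆ (Set.range i)ᶜ →
      Unique (((TopCat.Sheaf.pushforward (Type u) i).obj F).presheaf.obj (op W)) := fun W hW =>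
    (Limits.Types.isTerminalEquivUnique _) (F.isTerminalOfEqEmpty (hbot W hW))
  have hx0 : x ∈ (⟨(Set.range i)ᶜ, hi.isClosed_range.isOpen_compl⟩ : Opens X) := hx
  refine ⟨⟨⟨((TopCat.Sheaf.pushforward (Type u) i).obj F).presheaf.germ
    ⟨(Set.range i)ᶜ, hi.isClosed_range.isOpen_compl⟩ x hx0
    (huniq ⟨(Set.range i)ᶜ, hi.isClosed_range.isOpen_compl⟩ subset_rfl).default⟩, fun t => ?_⟩⟩
  obtain ⟨U, hxU, s, rfl⟩ :=
    ((TopCat.Sheaf.pushforward (Type u) i).obj F).presheaf.exists_germ_eq t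
  refine TopCat.Presheaf.germ_ext ((TopCat.Sheaf.pushforward (Type u) i).obj F).presheaf
    (U ⊓ ⟨(Set.range i)ᶜ, hi.isClosed_range.isOpen_compl⟩) ⟨hxU, hx0⟩
    (homOfLE inf_le_left) (homOfLE inf_le_right) ?_
  exact @Subsingleton.elim _ (huniq _ Set.inter_subset_right).instSubsingleton _ _


section EssImage

open TopCat.Presheaf

/-- Sections of `G` over opens below `W₀` are unique. -/
def UniqueBelow {X : TopCat.{u}} (G : X.Sheaf (Type u)) (W₀ : Opens X) : Prop :=
  ∀ W' : Opens X, W' ≤ W₀ → Nonempty (Unique (G.1.obj (op W')))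

theorem uniqueBelow_of_stalk {X : TopCat.{u}} (G : X.Sheaf (Type u)) (W₀ : Opens X)
    (h : ∀ x ∈ W₀, Nonempty (Unique (G.presheaf.stalk x))) : UniqueBelow G W₀ := by
  have hsub : ∀ W' : Opens X, W' ≤ W₀ → Subsingleton (G.1.obj (op W')) := by
    intro W' hW'
    refine ⟨fun s t => TopCat.Presheaf.section_ext G W' s t fun x hx => ?_⟩
    obtain ⟨hu⟩ := h x (hW' hx)
    exact @Subsingleton.elim _ hu.instSubsingleton _ _
  intro W' hW'
  have hloc : ∀ x : W', ∃ (N : Opens X) (_ : x.1 ∈ N) (_ : N ≤ W'),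
      Nonempty (G.1.obj (op N)) := by
    intro x
    obtain ⟨hu⟩ := h x.1 (hW' x.2)
    obtain ⟨N, hxN, s, -⟩ := G.presheaf.exists_germ_eq hu.default
    exact ⟨N ⊓ W', ⟨hxN, x.2⟩, inf_le_right, ⟨G.1.map (homOfLE inf_le_left).op s⟩⟩
  choose N hxN hNW hne using hloc
  obtain ⟨s, -, -⟩ := G.existsUnique_gluing' N W' (fun x => homOfLE (hNW x)) (by
      intro x hx
      exact Opens.mem_iSup.2 ⟨⟨x, hx⟩, hxN ⟨x, hx⟩⟩)
    (fun x => (hne x).some) (by
      intro x y
      exact @Subsingleton.elim _ (hsub _ (inf_le_left.trans ((hNW x).trans hW'))) _ _)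
  exact ⟨⟨⟨s⟩, fun t => @Subsingleton.elim _ (hsub W' hW') _ _⟩⟩

/-- Adjoin the open `W₀` to a family of opens. -/
def optU {X : TopCat.{u}} (W₀ : Opens X) {ι : Type u} (U : ι → Opens X) : Option ι → Opens X
  | none => W₀
  | some a => U a

theorem gluing_with {X : TopCat.{u}} (G : X.Sheaf (Type u)) (W₀ : Opens X)
    (hW : UniqueBelow G W₀) {ι : Type u} (U : ι → Opens X)
    (T : Opens X) (hUT : ∀ a, U a ≤ T) (hWT : W₀ ≤ T) (hcov : T ≤ W₀ ⊔ ⨆ a, U a)
    (sf : ∀ a, G.1.obj (op (U a))) (hsf : IsCompatible G.1 U sf) :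
    ∃! s : G.1.obj (op T), ∀ a, G.1.map (homOfLE (hUT a)).op s = sf a := by
  obtain ⟨hu⟩ := hW W₀ le_rfl
  have hU'T : ∀ o, optU W₀ U o ≤ T := by
    rintro (_ | a)
    · exact hWT
    · exact hUT a
  let sf' : ∀ o, G.1.obj (op (optU W₀ U o)) := fun o =>
    match o with
    | none => hu.default
    | some a => sf a
  have hcompat : IsCompatible G.1 (optU W₀ U) sf' := by
    rintro (_ | a) (_ | b)
    · exact @Subsingleton.elim _
        (hW (W₀ ⊓ W₀) inf_le_left).some.instSubsingleton _ _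
    · exact @Subsingleton.elim _
        (hW (W₀ ⊓ U b) inf_le_left).some.instSubsingleton _ _
    · exact @Subsingleton.elim _
        (hW (U a ⊓ W₀) inf_le_right).some.instSubsingleton _ _
    · exact hsf a b
  obtain ⟨s, hs, huniq⟩ := G.existsUnique_gluing' (optU W₀ U) T (fun o => homOfLE (hU'T o))
    (hcov.trans (sup_le (le_iSup (optU W₀ U) none)
      (iSup_le fun a => le_iSup (optU W₀ U) (some a)))) sf' hcompat
  refine ⟨s, fun a => hs (some a), fun t ht => huniq t ?_⟩
  rintro (_ | a)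
  · exact @Subsingleton.elim _ (hW W₀ le_rfl).some.instSubsingleton _ _
  · exact ht a

variable {Z X : TopCat.{u}} (i : Z ⟶ X) (hi : IsClosedEmbedding i)

lemma mem_Φ_bot (x : X) : x ∈ (Φ i hi).obj ⊥ ↔ x ∉ Set.range i := by
  show x ∈ (i '' ((⊥ : Opens Z) : Set Z)ᶜ)ᶜ ↔ _
  simp [Set.image_univ]

lemma mem_Φ_apply (V : Opens Z) (z : Z) : i z ∈ (Φ i hi).obj V ↔ z ∈ V := by
  have : z ∈ (Opens.map i).obj ((Φ i hi).obj V) ↔ z ∈ V := by rw [map_Φ]
  exact this

variable (G : X.Sheaf (Type u)) (hW : UniqueBelow G ((Φ i hi).obj ⊥))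
include hW

/-- The presheaf `V ↦ G (Φ V)` on `Z` is a sheaf. -/
theorem isSheaf_Φ_comp : TopCat.Presheaf.IsSheaf ((Φ i hi).op ⋙ G.1) := by
  refine (isSheaf_iff_isSheafUniqueGluing _).2 ?_
  intro ι V sf hsf
  have hle : ∀ a b, (Φ i hi).obj (V a) ⊓ (Φ i hi).obj (V b) ≤ (Φ i hi).obj (V a ⊓ V b) := by
    rintro a b x ⟨hxa, hxb⟩ ⟨z, hz, rfl⟩
    have hza : z ∈ V a := (mem_Φ_apply i hi _ z).1 hxa
    have hzb : z ∈ V b := (mem_Φ_apply i hi _ z).1 hxb
    exact hz ⟨hza, hzb⟩
  have key : ∀ (a b c : ι) (h₁ : (Φ i hi).obj (V a) ⊓ (Φ i hi).obj (V b) ⟶ (Φ i hi).obj (V c))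
      (h₂ : V a ⊓ V b ⟶ V c) (t : G.1.obj (op ((Φ i hi).obj (V c)))),
      G.1.map h₁.op t = G.1.map (homOfLE (hle a b)).op (G.1.map ((Φ i hi).map h₂).op t) := by
    intro a b c h₁ h₂ t
    have : h₁.op = ((Φ i hi).map h₂).op ≫ (homOfLE (hle a b)).op := Subsingleton.elim _ _
    rw [this, G.1.map_comp, ConcreteCategory.comp_apply]
  have hsf' : IsCompatible G.1 (fun a => (Φ i hi).obj (V a)) sf := by
    intro a b
    rw [key a b a _ (Opens.infLELeft _ _), key a b b _ (Opens.infLERight _ _)]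
    exact congrArg _ (hsf a b)
  have hcov : (Φ i hi).obj (iSup V) ≤
      (Φ i hi).obj ⊥ ⊔ ⨆ a, (Φ i hi).obj (V a) := by
    intro x hx
    by_cases hxr : x ∈ Set.range i
    · obtain ⟨z, rfl⟩ := hxr
      have hz : z ∈ iSup V := (mem_Φ_apply i hi _ z).1 hx
      obtain ⟨a, hza⟩ := Opens.mem_iSup.1 hz
      exact Or.inr (Opens.mem_iSup.2 ⟨a, (mem_Φ_apply i hi _ z).2 hza⟩)
    · exact Or.inl ((mem_Φ_bot i hi x).2 hxr)
  exact gluing_with G _ hW (fun a => (Φ i hi).obj (V a)) ((Φ i hi).obj (iSup V))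
    (fun a => ((Φ i hi).map (Opens.leSupr V a)).le) ((Φ i hi).map (homOfLE bot_le)).le hcov sf hsf'

theorem bijective_res (U : Opens X) (h : U ⟶ (Φ i hi).obj ((Opens.map i).obj U)) :
    Function.Bijective (G.1.map h.op) := by
  rw [Function.bijective_iff_existsUnique]
  intro s
  have hcov : (Φ i hi).obj ((Opens.map i).obj U) ≤
      (Φ i hi).obj ⊥ ⊔ ⨆ _ : PUnit.{u + 1}, U := by
    intro x hx
    by_cases hxr : x ∈ Set.range i
    · obtain ⟨z, rfl⟩ := hxr
      have hz : z ∈ (Opens.map i).obj U := (mem_Φ_apply i hi _ z).1 hx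
      exact Or.inr (Opens.mem_iSup.2 ⟨⟨⟩, hz⟩)
    · exact Or.inl ((mem_Φ_bot i hi x).2 hxr)
  obtain ⟨t, ht, hu⟩ := gluing_with G _ hW (fun _ : PUnit.{u + 1} => U)
    ((Φ i hi).obj ((Opens.map i).obj U)) (fun _ => h.le) ((Φ i hi).map (homOfLE bot_le)).le
    hcov (fun _ => s) (fun _ _ => rfl)
  have hh : h = homOfLE h.le := Subsingleton.elim _ _
  rw [hh]
  exact ⟨t, ht ⟨⟩, fun t' ht' => hu t' fun _ => ht'⟩

/-- A sheaf on `X` with unique sections away from `Z` is a pushforward from `Z`. -/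
theorem essImage_of_uniqueBelow : (TopCat.Sheaf.pushforward (Type u) i).essImage G := by
  have hiso : IsIso ((adjP i (Type u) hi).counit.app G.1) := by
    have : ∀ U, IsIso (((adjP i (Type u) hi).counit.app G.1).app U) := by
      intro U
      rw [adjP, Adjunction.whiskerLeft_counit_app_app, isIso_iff_bijective]
      have hg : ((adj i hi).op.counit.app U) = ((adj i hi).op.counit.app U).unop.op := rfl
      rw [hg]
      exact bijective_res i hi G hW U.unop _
    exact NatIso.isIso_of_isIso_app _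
  let Fs : Z.Sheaf (Type u) := ⟨(Φ i hi).op ⋙ G.1, isSheaf_Φ_comp i hi G hW⟩
  exact ⟨Fs, ⟨(TopCat.Sheaf.forget (Type u) X).preimageIso
    (@asIso _ _ _ _ ((adjP i (Type u) hi).counit.app G.1) hiso)⟩⟩

end EssImage

end Groth.Agent.Lib.Helper3.ClosedEmbSheaf
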