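import Groth.Agent.Lib.Helper3.AmpleMisc

set_option autoImplicit false
universe u
open CategoryTheory CategoryTheory.Limits AlgebraicGeometry TopologicalSpace Opposite
open Scheme.Modules TensorProduct MonoidalCategory

namespace Groth.Agent.Lib.Helper3.AmpleQA

open QCSec InvGen InvTensor InvMonoidal InvRestrict InvAmple PbBasic PbTensor PbAmple RelAmpleLib
  GlobGen FreeSec InvCoh AmpleMisc

variable {X Y : Scheme.{u}}

/-- a scheme covered by quasi-separated opens of the form `X_s` is quasi-separated -/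
theorem quasiSeparatedSpace_of_secLocus_cover {L : X.Modules} (hL : PicF.IsInvertible L)
    (h : ∀ x : X, ∃ W ∈ SecLocus L, x ∈ W ∧ IsQuasiSeparated (W : Set X)) :
    QuasiSeparatedSpace X := by
  rw [quasiSeparatedSpace_iff_forall_affineOpens]
  intro U U'
  choose W hWsec hxW hqs using h
  obtain ⟨t, -, ht⟩ := U.2.isCompact.elim_nhds_subcover (fun x => (W x : Set X))
    (fun x _ => (W x).2.mem_nhds (hxW x))
  have heq : ((U : Set X) ∩ (U' : Set X)) =
      ⋃ x ∈ t, ((U.1 ⊓ W x : X.Opens) : Set X) ∩ ((U'.1 ⊓ W x : X.Opens) : Set X) := by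
    ext y
    simp only [Opens.coe_inf, Set.mem_inter_iff, SetLike.mem_coe, Set.mem_iUnion, exists_prop]
    constructor
    · rintro ⟨hyU, hyU'⟩
      obtain ⟨x, hx, hyx⟩ := Set.mem_iUnion₂.mp (ht hyU)
      exact ⟨x, hx, ⟨hyU, hyx⟩, ⟨hyU', hyx⟩⟩
    · rintro ⟨x, -, ⟨hyU, -⟩, ⟨hyU', -⟩⟩
      exact ⟨hyU, hyU'⟩
  rw [heq]
  apply t.finite_toSet.isCompact_biUnion
  intro x _
  have h1 : ∀ (A : X.Opens), IsAffineOpen A →
      IsCompact ((A ⊓ W x : X.Opens) : Set X) := by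
    intro A hA
    obtain ⟨n, s, hs⟩ := hWsec x
    rw [hs, inf_comm]
    exact (isAffineOpen_genLocus_inf (isInvertible_tensorPow hL (n + 1)) s hA).isCompact
  exact hqs x _ _ (fun y hy => hy.2) (U.1 ⊓ W x).2 (h1 U.1 U.2)
    (fun y hy => hy.2) (U'.1 ⊓ W x).2 (h1 U'.1 U'.2)

/-- EGA II 4.5.2 (a''): an invertible module on a quasi-compact scheme covered by quasi-affine
opens of the form `X_s` is ample -/
theorem isAmple_of_quasiAffine_secLocus_cover [CompactSpace X] {L : X.Modules}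
    (hL : PicF.IsInvertible L)
    (h : ∀ x : X, ∃ W ∈ SecLocus L, x ∈ W ∧ (W : Scheme.{u}).IsQuasiAffine) :
    CohB1.IsAmple L := by
  haveI : QuasiSeparatedSpace X := by
    apply quasiSeparatedSpace_of_secLocus_cover hL
    intro x
    obtain ⟨W, hW, hxW, hqa⟩ := h x
    refine ⟨W, hW, hxW, ?_⟩
    exact (isQuasiSeparated_iff_quasiSeparatedSpace _ W.2).mpr
      (inferInstanceAs (QuasiSeparatedSpace ↥(W : Scheme.{u})))
  apply isAmple_of_secLocus hL
  intro x
  obtain ⟨W, hW, hxW, hqa⟩ := h x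
  obtain ⟨_, ⟨r, hr, rfl⟩, hxr, -⟩ := Opens.isBasis_iff_nbhd.mp
    (Scheme.IsQuasiAffine.isBasis_basicOpen (W : Scheme.{u}))
    (show (⟨x, hxW⟩ : ↥(W : Scheme.{u})) ∈ (⊤ : (W : Scheme.{u}).Opens) from trivial)
  have himg : W.ι ''ᵁ ((W : Scheme.{u}).basicOpen r) = X.basicOpen (W.topIso.hom r) := by
    have h1 := Scheme.Opens.ι_image_basicOpen_topIso_inv W (W.topIso.hom r)
    have h2 : W.topIso.inv (W.topIso.hom r) = r := by
      change (W.topIso.hom ≫ W.topIso.inv) r = r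
      rw [Iso.hom_inv_id]; rfl
    rw [h2] at h1
    exact h1
  refine ⟨X.basicOpen (W.topIso.hom r), secLocus_basicOpen hL hW _, ?_, ?_⟩
  · rw [← himg]
    exact ⟨⟨x, hxW⟩, hxr, rfl⟩
  · rw [← himg]
    exact hr.image_of_isOpenImmersion W.ι

/-- EGA II 5.1.12: the pullback of an ample module along a quasi-affine morphism is ample -/
theorem isAmple_pullback_of_quasiAffine (g : X ⟶ Y) [CompactSpace X] {L : Y.Modules}
    (hL : CohB1.IsAmple L)
    (hg : ∀ A : Y.Opens, IsAffineOpen A → ((g ⁻¹ᵁ A : X.Opens) : Scheme.{u}).IsQuasiAffine) :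
    CohB1.IsAmple ((Scheme.Modules.pullback g).obj L) := by
  apply isAmple_of_quasiAffine_secLocus_cover (isInvertible_pullback g hL.1)
  intro x
  obtain ⟨W, hW, hxW, hWa⟩ := exists_secLocus_of_isAmple hL (g x)
  exact ⟨g ⁻¹ᵁ W, secLocus_pullback g hL.1 hW, hxW, hg W hWa⟩

end Groth.Agent.Lib.Helper3.AmpleQA
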