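import Mathlib.RingTheory.GradedAlgebra.Basic

/-!
# Scaling a ring homomorphism from a graded ring by powers of an element
-/

set_option autoImplicit false
universe u v

namespace Groth.Agent.Lib.Helper3.GrScale

variable {R : Type*} {A : Type*} [CommRing R] [CommRing A] [Algebra R A]
  (𝒜 : ℕ → Submodule R A) [GradedAlgebra 𝒜] {B : Type*} [CommRing B]

/-- the degree `m` piece of the scaled homomorphism -/
noncomputable def scaleFun (φ : A →+* B) (u : B) (m : ℕ) : 𝒜 m →+ B where
  toFun b := u ^ m * φ (b : A)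
  map_zero' := by simp
  map_add' a b := by simp [mul_add]

/-- the ring homomorphism `b ↦ u ^ deg b * φ b` -/
noncomputable def scaleHom (φ : A →+* B) (u : B) : A →+* B :=
  (DirectSum.toSemiring (scaleFun 𝒜 φ u)
    (by
      change u ^ 0 * φ ((1 : A)) = 1
      simp)
    (by
      intro i j a b
      change u ^ (i + j) * φ ((a : A) * (b : A)) = (u ^ i * φ (a : A)) * (u ^ j * φ (b : A))
      rw [pow_add, map_mul]
      ring)).comp
    (DirectSum.decomposeRingEquiv 𝒜).toRingHom

theorem scaleHom_of_mem (φ : A →+* B) (u : B) {m : ℕ} {b : A} (hb : b ∈ 𝒜 m) :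
    scaleHom 𝒜 φ u b = u ^ m * φ b := by
  unfold scaleHom
  rw [RingHom.comp_apply]
  change DirectSum.toSemiring _ _ _ (DirectSum.decompose 𝒜 b) = _
  rw [DirectSum.decompose_of_mem 𝒜 hb, DirectSum.toSemiring_of]
  rfl

end Groth.Agent.Lib.Helper3.GrScale
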