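import Groth.Agent.Lib.Helper3.InvGen
import Groth.Agent.Lib.Helper3.HomMk

/-!
# Isomorphisms of modules from compatible families of generating global sections
-/

set_option autoImplicit false
set_option linter.unusedSectionVars false
universe u
open CategoryTheory CategoryTheory.Limits AlgebraicGeometry TopologicalSpace Opposite
open Scheme.Modules

namespace Groth.Agent.Lib.Helper3.InvIso

open QCSec InvGen HomMk

variable {X : Scheme.{u}} {ι : Type u}

/-- a family of global sections `G i` of `N`, with `G i` generating on `Xo i`, and transition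
functions `c i k` (`G k = c i k • G i` on `Xo i`) -/
structure GenData (N : X.Modules) (Xo : ι → X.Opens) (c : ∀ i : ι, ι → Γ(X, Xo i)) where
  G : ι → Γ(N, ⊤)
  gen : ∀ i, IsGen N (Xo i) (res N (le_top : Xo i ≤ ⊤) (G i))
  tr : ∀ i k, res N (le_top : Xo i ≤ ⊤) (G k) = c i k • res N (le_top : Xo i ≤ ⊤) (G i)

variable {N L : X.Modules} {Xo : ι → X.Opens} {c : ∀ i : ι, ι → Γ(X, Xo i)}

namespace GenData

theorem genAt (D : GenData N Xo c) (i : ι) {V : X.Opens} (hV : V ≤ Xo i) :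
    IsGenAt N V (res N (le_top : V ≤ ⊤) (D.G i)) := by
  have := D.gen i V hV
  rwa [res_res] at this

theorem tr' (D : GenData N Xo c) (i k : ι) {V : X.Opens} (hV : V ≤ Xo i) :
    res N (le_top : V ≤ ⊤) (D.G k) = rres X hV (c i k) • res N (le_top : V ≤ ⊤) (D.G i) := by
  have := congrArg (res N hV) (D.tr i k)
  rwa [res_res, res_smul, res_res] at this

/-- the relation "same coordinates" -/
def Rel (DN : GenData N Xo c) (DL : GenData L Xo c) (U : X.Opens) (n : Γ(N, U)) (l : Γ(L, U)) :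
    Prop :=
  ∀ (i : ι) (a : Γ(X, U ⊓ Xo i)),
    res N (inf_le_left : U ⊓ Xo i ≤ U) n = a • res N (le_top : U ⊓ Xo i ≤ ⊤) (DN.G i) →
    res L (inf_le_left : U ⊓ Xo i ≤ U) l = a • res L (le_top : U ⊓ Xo i ≤ ⊤) (DL.G i)

variable (DN : GenData N Xo c) (DL : GenData L Xo c) (hcov : ∀ x : X, ∃ i, x ∈ Xo i)

theorem exists_coord (U : X.Opens) (n : Γ(N, U)) (i : ι) :
    ∃ a : Γ(X, U ⊓ Xo i),
      res N (inf_le_left : U ⊓ Xo i ≤ U) n = a • res N (le_top : U ⊓ Xo i ≤ ⊤) (DN.G i) := by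
  obtain ⟨a, ha⟩ := (DN.genAt i (inf_le_right : U ⊓ Xo i ≤ Xo i)).exists_coord
    (res N (inf_le_left : U ⊓ Xo i ≤ U) n)
  exact ⟨a, ha.symm⟩

include hcov in
theorem le_iSup_inf (U : X.Opens) : U ≤ ⨆ i, U ⊓ Xo i := by
  intro x hx
  obtain ⟨i, hi⟩ := hcov x
  exact Opens.mem_iSup.mpr ⟨i, hx, hi⟩

include hcov in
theorem Rel.unique {U : X.Opens} {n : Γ(N, U)} {l l' : Γ(L, U)} (h : Rel DN DL U n l)
    (h' : Rel DN DL U n l') : l = l' := by
  apply sec_eq_of_locally_eq L (fun i => U ⊓ Xo i) U (fun i => inf_le_left) (le_iSup_inf hcov U)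
  intro i
  obtain ⟨a, ha⟩ := exists_coord DN U n i
  rw [h i a ha, h' i a ha]

theorem Rel.symm {U : X.Opens} {n : Γ(N, U)} {l : Γ(L, U)} (h : Rel DN DL U n l) :
    Rel DL DN U l n := by
  intro i a ha
  obtain ⟨a', ha'⟩ := exists_coord DN U n i
  have h1 := h i a' ha'
  have h2 : a = a' := (DL.genAt i (inf_le_right : U ⊓ Xo i ≤ Xo i)).smul_inj (ha.symm.trans h1)
  rw [h2]
  exact ha'

theorem Rel.add {U : X.Opens} {n n' : Γ(N, U)} {l l' : Γ(L, U)} (h : Rel DN DL U n l)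
    (h' : Rel DN DL U n' l') : Rel DN DL U (n + n') (l + l') := by
  intro i a ha
  obtain ⟨a₁, ha₁⟩ := exists_coord DN U n i
  obtain ⟨a₂, ha₂⟩ := exists_coord DN U n' i
  have h3 : a = a₁ + a₂ := by
    apply (DN.genAt i (inf_le_right : U ⊓ Xo i ≤ Xo i)).smul_inj
    rw [← ha, QCExact.res_add, ha₁, ha₂, add_smul]
  rw [QCExact.res_add, h i a₁ ha₁, h' i a₂ ha₂, h3, add_smul]

theorem Rel.smul {U : X.Opens} {n : Γ(N, U)} {l : Γ(L, U)} (h : Rel DN DL U n l)
    (f : Γ(X, U)) : Rel DN DL U (f • n) (f • l) := by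
  intro i a ha
  obtain ⟨a₁, ha₁⟩ := exists_coord DN U n i
  have h3 : a = rres X (inf_le_left : U ⊓ Xo i ≤ U) f * a₁ := by
    apply (DN.genAt i (inf_le_right : U ⊓ Xo i ≤ Xo i)).smul_inj
    rw [← ha, res_smul, ha₁, mul_smul]
  rw [res_smul, h i a₁ ha₁, h3, mul_smul]

theorem Rel.res {U V : X.Opens} (hVU : V ≤ U) {n : Γ(N, U)} {l : Γ(L, U)}
    (h : Rel DN DL U n l) : Rel DN DL V (res N hVU n) (res L hVU l) := by
  intro i a ha
  obtain ⟨a₁, ha₁⟩ := exists_coord DN U n i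
  have hle : V ⊓ Xo i ≤ U ⊓ Xo i := inf_le_inf_right _ hVU
  have h1 := congrArg (QCSec.res N hle) ha₁
  rw [res_res, res_smul, res_res] at h1
  have h2 := congrArg (QCSec.res L hle) (h i a₁ ha₁)
  rw [res_res, res_smul, res_res] at h2
  rw [res_res] at ha
  have h3 : a = rres X hle a₁ :=
    (DN.genAt i (inf_le_right : V ⊓ Xo i ≤ Xo i)).smul_inj (ha.symm.trans h1)
  rw [res_res, h3]
  exact h2

include hcov in
theorem exists_rel (U : X.Opens) (n : Γ(N, U)) : ∃ l : Γ(L, U), Rel DN DL U n l := by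
  choose a ha using exists_coord DN U n
  obtain ⟨l, hl⟩ := sec_glue L (fun i => U ⊓ Xo i) U (fun i => inf_le_left)
    (le_iSup_inf hcov U) (fun i => a i • res L (le_top : U ⊓ Xo i ≤ ⊤) (DL.G i)) (by
      intro i k
      have hVi : (U ⊓ Xo i) ⊓ (U ⊓ Xo k) ≤ Xo i := inf_le_left.trans inf_le_right
      have hVk : (U ⊓ Xo i) ⊓ (U ⊓ Xo k) ≤ Xo k := inf_le_right.trans inf_le_right
      have h1 := congrArg (QCSec.res N (inf_le_left : (U ⊓ Xo i) ⊓ (U ⊓ Xo k) ≤ U ⊓ Xo i)) (ha i)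
      have h2 := congrArg (QCSec.res N (inf_le_right : (U ⊓ Xo i) ⊓ (U ⊓ Xo k) ≤ U ⊓ Xo k)) (ha k)
      rw [res_res, res_smul, res_res] at h1 h2
      rw [DN.tr' i k hVi, ← mul_smul] at h2
      have h3 := (DN.genAt i hVi).smul_inj (h1.symm.trans h2)
      rw [res_smul, res_smul, res_res, res_res, DL.tr' i k hVi, ← mul_smul, h3])
  refine ⟨l, fun i b hb => ?_⟩
  have h3 : b = a i :=
    (DN.genAt i (inf_le_right : U ⊓ Xo i ≤ Xo i)).smul_inj (hb.symm.trans (ha i))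
  rw [hl i, h3]

theorem rel_G (k : ι) : Rel DN DL ⊤ (DN.G k) (DL.G k) := by
  intro i a ha
  have hV : ⊤ ⊓ Xo i ≤ Xo i := inf_le_right
  have h1 := DN.tr' i k hV
  have h2 : a = rres X hV (c i k) := (DN.genAt i hV).smul_inj (ha.symm.trans h1)
  rw [h2]
  exact DL.tr' i k hV

/-- the sectionwise map -/
noncomputable def φ (U : X.Opens) (n : Γ(N, U)) : Γ(L, U) := (exists_rel DN DL hcov U n).choose

theorem φ_spec (U : X.Opens) (n : Γ(N, U)) : Rel DN DL U n (φ DN DL hcov U n) :=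
  (exists_rel DN DL hcov U n).choose_spec

/-- the isomorphism matching the generators -/
noncomputable def iso : N ≅ L :=
  isoMk (φ DN DL hcov) (φ DL DN hcov)
    (fun U s s' => Rel.unique DN DL hcov (φ_spec DN DL hcov U (s + s'))
      ((φ_spec DN DL hcov U s).add DN DL (φ_spec DN DL hcov U s')))
    (fun U f s => Rel.unique DN DL hcov (φ_spec DN DL hcov U (f • s))
      ((φ_spec DN DL hcov U s).smul DN DL f))
    (fun {U V} h s => Rel.unique DN DL hcov ((φ_spec DN DL hcov U s).res DN DL h)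
      (φ_spec DN DL hcov V (QCSec.res N h s)))
    (fun U s => Rel.unique DL DN hcov (φ_spec DL DN hcov U (φ DN DL hcov U s))
      ((φ_spec DN DL hcov U s).symm DN DL))
    (fun U t => Rel.unique DN DL hcov (φ_spec DN DL hcov U (φ DL DN hcov U t))
      ((φ_spec DL DN hcov U t).symm DL DN))

theorem iso_hom_G (k : ι) : (iso DN DL hcov).hom.app ⊤ (DN.G k) = DL.G k :=
  Rel.unique DN DL hcov (φ_spec DN DL hcov ⊤ (DN.G k)) (rel_G DN DL k)

end GenData

end Groth.Agent.Lib.Helper3.InvIso
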