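import Groth.Agent.Lib.Helper3.GrGamma

/-!
# Finitely generated graded modules computing a quasi-coherent sheaf of finite type on `Proj`
-/

set_option autoImplicit false
set_option linter.unusedSectionVars false
universe u
open CategoryTheory CategoryTheory.Limits AlgebraicGeometry TopologicalSpace Opposite
open Scheme.Modules

namespace Groth.Agent.Lib.Helper3.GrGen

open QCSec InvGen TwistBasic GrTildeQC ProjFrac HomMk GrTildeHom GrExt GrGamma

section Generic

variable {R A : Type u} [CommRing R] [CommRing A] [Algebra R A] {𝒜 : ℕ → Submodule R A}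
  [GradedAlgebra 𝒜] {P : Type u} [AddCommGroup P]

theorem act_neg_right (T : ActData 𝒜 P) (d : ℕ) (a : A) (p : P) :
    T.act d a (-p) = -T.act d a p := by
  have h := T.act_add_right d a (-p) p
  rw [neg_add_cancel, T.act_zero_right] at h
  exact eq_neg_of_add_eq_zero_left h.symm

variable (T : ActData 𝒜 P) {J : Type u} (x : J → P) (e : J → ℕ)

/-- the sub-family generated by a family of homogeneous elements -/
def gen : SubFam T where
  N n := AddSubgroup.closure
    {p | ∃ (j : J) (d : ℕ) (a : A), a ∈ 𝒜 d ∧ d + e j = n ∧ T.act d a (x j) = p}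
  act_mem := by
    intro d n a p ha hp
    induction hp using AddSubgroup.closure_induction with
    | mem q hq =>
      obtain ⟨j, d', a', ha', hd', rfl⟩ := hq
      apply AddSubgroup.subset_closure
      exact ⟨j, d + d', a * a', SetLike.mul_mem_graded ha ha', by omega, T.act_mul ha ha' _⟩
    | zero => rw [T.act_zero_right]; exact zero_mem _
    | add q q' _ _ hq hq' => rw [T.act_add_right]; exact add_mem hq hq'
    | neg q _ hq => rw [act_neg_right]; exact neg_mem hq

theorem gen_le (S₀ : SubFam T) (hx : ∀ j, x j ∈ S₀.N (e j)) (n : ℕ) :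
    (gen T x e).N n ≤ S₀.N n := by
  apply (AddSubgroup.closure_le _).mpr
  rintro p ⟨j, d, a, ha, rfl, rfl⟩
  exact S₀.act_mem ha (hx j)

theorem mem_gen (j : J) : x j ∈ (gen T x e).N (e j) :=
  AddSubgroup.subset_closure ⟨j, 0, 1, SetLike.GradedOne.one_mem, zero_add _, T.act_one _⟩

theorem finite_gen [Finite J] : Module.Finite A (gen T x e).Tot := by
  classical
  let g : J → (gen T x e).Tot := fun j =>
    DirectSum.of (fun n => (gen T x e).N n) (e j) ⟨x j, mem_gen T x e j⟩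
  refine ⟨Submodule.fg_def.mpr ⟨Set.range g, Set.finite_range g, ?_⟩⟩
  rw [eq_top_iff]
  rintro z -
  induction z using DirectSum.induction_on with
  | zero => exact zero_mem _
  | of n p =>
    obtain ⟨q, hq⟩ := p
    induction hq using AddSubgroup.closure_induction with
    | mem q hq =>
      obtain ⟨j, d, a, ha, rfl, rfl⟩ := hq
      have h1 := (gen T x e).smul_of ha ⟨x j, mem_gen T x e j⟩
      have h2 : a • g j ∈ Submodule.span A (Set.range g) :=
        Submodule.smul_mem _ _ (Submodule.subset_span ⟨j, rfl⟩)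
      rw [h1] at h2
      exact h2
    | zero =>
      have h0 : (⟨0, zero_mem _⟩ : (gen T x e).N n) = 0 := rfl
      rw [h0, map_zero]
      exact zero_mem _
    | add q q' hq hq' h h' =>
      have h0 : (⟨q + q', add_mem hq hq'⟩ : (gen T x e).N n) = ⟨q, hq⟩ + ⟨q', hq'⟩ := rfl
      rw [h0, map_add]
      exact add_mem h h'
    | neg q hq h =>
      have h0 : (⟨-q, neg_mem hq⟩ : (gen T x e).N n) = -⟨q, hq⟩ := rfl
      rw [h0, map_neg]
      exact neg_mem h
  | add z z' hz hz' => exact add_mem hz hz'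

end Generic

variable {R A : Type u} [CommRing R] [CommRing A] [Algebra R A] {𝒜 : ℕ → Submodule R A}
  [GradedAlgebra 𝒜] {ι : Type u} {f : ι → A} {F : (Proj 𝒜).Modules}

/-- functions on `D₊(f)`, `f` of degree one, are fractions `a / f ^ k` -/
theorem exists_fn_eq {g : A} (hg : g ∈ 𝒜 1) (c : Γ(Proj 𝒜, Proj.basicOpen 𝒜 g)) :
    ∃ (k : ℕ) (a : A), a ∈ 𝒜 k ∧ c = fn (Proj.basicOpen 𝒜 g) a (g ^ k) := by
  obtain ⟨k, a, ha, hc⟩ := exists_awayToSection Nat.one_pos hg c
  have ha' : a ∈ 𝒜 k := by simpa using ha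
  have hG : Good (Proj.basicOpen 𝒜 g) a (g ^ k) :=
    good_of_mem ha' (pow_mem_of_mem_one hg k) (fun x => notMem_pow x.2 k)
  refine ⟨k, a, ha', ?_⟩
  apply fval_ext
  intro x
  rw [fval_fn hG, ← hc]
  exact fval_mk_away hg k a ha x _

local notation "𝒰" k:max => Proj.basicOpen 𝒜 (f k)

/-- the sections hit by a sub-family form a submodule -/
theorem surj_of_span {hf : ∀ i, f i ∈ 𝒜 1} (S : SubFam (actData F hf)) (i : ι)
    (G : Set Γ(F, 𝒰 i)) (hG : Submodule.span Γ(Proj 𝒜, 𝒰 i) G = ⊤)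
    (hGS : ∀ t ∈ G, ∃ n, ∃ p ∈ S.N n, p i = t) (t : Γ(F, 𝒰 i)) :
    ∃ n, ∃ p ∈ S.N n, p i = t := by
  have ht : t ∈ Submodule.span Γ(Proj 𝒜, 𝒰 i) G := hG ▸ Submodule.mem_top
  induction ht using Submodule.span_induction with
  | mem t ht => exact hGS t ht
  | zero => exact ⟨0, 0, zero_mem _, rfl⟩
  | add t t' _ _ h h' =>
    obtain ⟨n, p, hp, rfl⟩ := h
    obtain ⟨n', p', hp', rfl⟩ := h'
    have h1 := S.act_mem (pow_mem_of_mem_one (hf i) n') hp
    have h2 := S.act_mem (pow_mem_of_mem_one (hf i) n) hp'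
    have e : n + n' = n' + n := add_comm _ _
    rw [e] at h2
    refine ⟨n' + n, _, add_mem h1 h2, ?_⟩
    have gs : ∀ m : ℕ, Good (𝒰 i) (f i ^ m) (f i ^ m) := fun m =>
      good_q hf i le_rfl (pow_mem_of_mem_one (hf i) m)
    change fn (𝒰 i) (f i ^ n') (f i ^ n') • p i + fn (𝒰 i) (f i ^ n) (f i ^ n) • p' i =
      p i + p' i
    rw [fn_self (gs n'), fn_self (gs n), one_smul, one_smul]
  | smul c t _ h =>
    obtain ⟨n, p, hp, rfl⟩ := h
    obtain ⟨k, a, ha, rfl⟩ := exists_fn_eq (hf i) c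
    exact ⟨k + n, _, S.act_mem ha hp, rfl⟩

/-- a quasi-coherent sheaf of finite type on `Proj` is `M~` for a finitely generated graded
module -/
theorem exists_finite_iso (hf : ∀ i, f i ∈ 𝒜 1)
    (hcov : ∀ x : Proj 𝒜, ∃ i, x ∈ Proj.basicOpen 𝒜 (f i)) [Finite ι]
    [F.IsQuasicoherent] [F.IsFiniteType] :
    ∃ S : SubFam (actData F hf), Module.Finite A S.Tot ∧
      Nonempty (GrTilde.tilde 𝒜 S.piece 0 ≅ F) := by
  have hUa : ∀ k, IsAffineOpen (𝒰 k) := fun k =>
    Proj.isAffineOpen_basicOpen 𝒜 (f k) (hf k) Nat.one_pos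
  have hgen : ∀ i : ι, ∃ (r : ℕ) (g : Fin r → Γ(F, 𝒰 i)),
      Submodule.span Γ(Proj 𝒜, 𝒰 i) (Set.range g) = ⊤ := fun i => by
    haveI := QCProps.finite_sections F (hUa i)
    exact Module.Finite.exists_fin
  choose r g hg using hgen
  have hext : ∀ j : (Σ i : ι, Fin (r i)), ∃ n, ∃ p ∈ Mn f F n, p j.1 = g j.1 j.2 :=
    fun j => exists_extension f F hf j.1 _
  choose e x hx hxg using hext
  refine ⟨gen (actData F hf) x e, finite_gen _ x e, ?_⟩
  apply nonempty_iso hcov _ (gen_le _ x e (full F hf) hx)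
  intro i t
  apply surj_of_span _ i (Set.range (g i)) (hg i)
  rintro _ ⟨l, rfl⟩
  exact ⟨e ⟨i, l⟩, x ⟨i, l⟩, mem_gen _ x e ⟨i, l⟩, hxg ⟨i, l⟩⟩

end Groth.Agent.Lib.Helper3.GrGen
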