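import Groth.Agent.Lib.Helper3.ProjMapFn
import Groth.Agent.Lib.Helper3.GrGen

/-!
# Morphisms into `Proj` through a chart, and an equality criterion
-/

set_option autoImplicit false
set_option linter.unusedSectionVars false
universe u
open CategoryTheory CategoryTheory.Limits AlgebraicGeometry TopologicalSpace Opposite
open Scheme.Modules

namespace Groth.Agent.Lib.Helper3.ToProj

open QCSec TwistBasic GrTildeQC ProjFrac GrTildeHom ProjMapFn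

variable {R A : Type u} [CommRing R] [CommRing A] [Algebra R A] {𝒜 : ℕ → Submodule R A}
  [GradedAlgebra 𝒜]

theorem comp_ι_appLE {X Y : Scheme.{u}} (U : X.Opens) (g : Y ⟶ U.toScheme)
    (e : (⊤ : Y.Opens) ≤ (g ≫ U.ι) ⁻¹ᵁ U) :
    (g ≫ U.ι).appLE U ⊤ e = U.topIso.inv ≫ g.appTop := by
  have h1 : U.ι.app U = U.topIso.inv ≫ U.toScheme.presheaf.map (homOfLE le_top).op := by
    rw [Scheme.Opens.ι_app, Scheme.Opens.topIso_inv, Scheme.Opens.toScheme_presheaf_map]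
    refine Eq.trans ?_ (X.presheaf.map_comp _ _)
    rfl
  rw [Scheme.Hom.comp_appLE, h1, Category.assoc, Scheme.Hom.map_appLE]
  simp [Scheme.Hom.appLE, Scheme.Hom.appTop]

section Chart

variable (t : A) {d : ℕ} (ht : t ∈ 𝒜 d) (hd : 0 < d) {Y : Scheme.{u}}
  (θ : CommRingCat.of (HomogeneousLocalization.Away 𝒜 t) ⟶ Γ(Y, ⊤))

/-- the morphism into the chart `D₊(t)` with prescribed map on functions -/
noncomputable def toOpen : Y ⟶ (Proj.basicOpen 𝒜 t).toScheme :=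
  Y.toSpecΓ ≫ Spec.map θ ≫ (Proj.basicOpenIsoSpec 𝒜 t ht hd).inv

theorem toOpen_appTop :
    Proj.awayToSection 𝒜 t ≫ (Proj.basicOpen 𝒜 t).topIso.inv ≫ (toOpen t ht hd θ).appTop = θ := by
  have h1 : (Proj.basicOpenIsoSpec 𝒜 t ht hd).hom.appTop =
      (Scheme.ΓSpecIso _).hom ≫ Proj.awayToSection 𝒜 t ≫ (Proj.basicOpen 𝒜 t).topIso.inv := by
    rw [Proj.basicOpenIsoSpec_hom]
    exact Proj.basicOpenToSpec_app_top 𝒜 t
  have h2 : (Proj.basicOpenIsoSpec 𝒜 t ht hd).hom.appTop ≫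
      (Proj.basicOpenIsoSpec 𝒜 t ht hd).inv.appTop = 𝟙 _ := by
    rw [← Scheme.Hom.comp_appTop, Iso.inv_hom_id, Scheme.Hom.id_appTop]
  have h3 : Proj.awayToSection 𝒜 t ≫ (Proj.basicOpen 𝒜 t).topIso.inv =
      (Scheme.ΓSpecIso _).inv ≫ (Proj.basicOpenIsoSpec 𝒜 t ht hd).hom.appTop := by
    rw [h1, Iso.inv_hom_id_assoc]
  unfold toOpen
  rw [Scheme.Hom.comp_appTop, Scheme.Hom.comp_appTop, ← Category.assoc (Proj.awayToSection 𝒜 t),
    h3]
  simp only [Category.assoc]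
  rw [reassoc_of% h2, Scheme.toSpecΓ_appTop, Scheme.ΓSpecIso_naturality, Iso.inv_hom_id_assoc]

/-- the morphism to `Proj` factoring through the chart `D₊(t)` -/
noncomputable def toProj : Y ⟶ Proj 𝒜 := toOpen t ht hd θ ≫ (Proj.basicOpen 𝒜 t).ι

theorem toProj_preimage : toProj t ht hd θ ⁻¹ᵁ Proj.basicOpen 𝒜 t = ⊤ := by
  unfold toProj
  rw [Scheme.Hom.comp_preimage, Scheme.Opens.ι_preimage_self]
  rfl

theorem toProj_appLE (e : (⊤ : Y.Opens) ≤ toProj t ht hd θ ⁻¹ᵁ Proj.basicOpen 𝒜 t) :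
    (toProj t ht hd θ).appLE (Proj.basicOpen 𝒜 t) ⊤ e =
      (Proj.basicOpen 𝒜 t).topIso.inv ≫ (toOpen t ht hd θ).appTop :=
  comp_ι_appLE _ _ e

theorem awayToSection_toProj_appLE
    (e : (⊤ : Y.Opens) ≤ toProj t ht hd θ ⁻¹ᵁ Proj.basicOpen 𝒜 t) :
    Proj.awayToSection 𝒜 t ≫ (toProj t ht hd θ).appLE (Proj.basicOpen 𝒜 t) ⊤ e = θ := by
  rw [toProj_appLE, toOpen_appTop]

end Chart

/-! ### general lemmas on `appLE` -/

section General

variable {X Y Z : Scheme.{u}}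

theorem comp_appLE_top (f : X ⟶ Y) (g : Y ⟶ Z) (U : Z.Opens) (e₁ : (⊤ : Y.Opens) ≤ g ⁻¹ᵁ U)
    (e : (⊤ : X.Opens) ≤ (f ≫ g) ⁻¹ᵁ U) :
    (f ≫ g).appLE U ⊤ e = g.appLE U ⊤ e₁ ≫ f.appTop := by
  rw [← Scheme.Hom.appLE_comp_appLE f g U ⊤ ⊤ e₁ le_top]
  congr 1
  simp [Scheme.Hom.appLE, Scheme.Hom.appTop]

theorem ι_comp_appLE (U : X.Opens) (r : X ⟶ Z) (O : Z.Opens) (e' : U ≤ r ⁻¹ᵁ O)
    (e : (⊤ : U.toScheme.Opens) ≤ (U.ι ≫ r) ⁻¹ᵁ O) :
    (U.ι ≫ r).appLE O ⊤ e = r.appLE O U e' ≫ U.topIso.inv := by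
  rw [← Scheme.Hom.appLE_comp_appLE U.ι r O U ⊤ e' (by simp)]
  congr 1
  rw [Scheme.Opens.ι_appLE, Scheme.Opens.topIso_inv]
  rfl

theorem topIso_inv_homOfLE_appTop {W U : X.Opens} (h : W ≤ U) :
    U.topIso.inv ≫ (X.homOfLE h).appTop = X.presheaf.map (homOfLE h).op ≫ W.topIso.inv := by
  rw [Scheme.homOfLE_appTop, Scheme.Opens.topIso_inv, Scheme.Opens.topIso_inv]
  refine ((X.presheaf.map_comp _ _).symm.trans ?_).trans (X.presheaf.map_comp _ _)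
  rfl

theorem isUnit_rres_of_le_basicOpen {U V : X.Opens} (f : Γ(X, U)) (hVU : V ≤ U)
    (h : V ≤ X.basicOpen f) : IsUnit (rres X hVU f) := by
  have h1 := RingedSpace.isUnit_res_basicOpen X.toRingedSpace f
  have h2 : rres X hVU f = rres X h (rres X (X.basicOpen_le f) f) := (rres_rres _ _ _).symm
  rw [h2]
  exact h1.map _

theorem appLE_eq_rres (f : X ⟶ Y) (U : Y.Opens) (V : X.Opens) (e : V ≤ f ⁻¹ᵁ U) (c : Γ(Y, U)) :
    f.appLE U V e c = rres X e (f.app U c) := rfl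

theorem appLE_rres (f : X ⟶ Y) {U U' : Y.Opens} (hU : U ≤ U') (V : X.Opens) (e : V ≤ f ⁻¹ᵁ U)
    (c : Γ(Y, U')) :
    f.appLE U V e (rres Y hU c) = f.appLE U' V (e.trans (fun _ hx => hU hx)) c :=
  congrArg (fun φ => φ.hom c) (Scheme.Hom.map_appLE f e (homOfLE hU).op)

/-- Two morphisms which agree on sections over an affine cover are equal. -/
theorem hom_ext_of_appLE (h h' : Y ⟶ Z) {κ : Type u} (U : κ → Z.Opens)
    (hU : ∀ k, IsAffineOpen (U k)) (V : κ → Y.Opens) (hV : ∀ y : Y, ∃ k, y ∈ V k)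
    (e : ∀ k, V k ≤ h ⁻¹ᵁ U k) (e' : ∀ k, V k ≤ h' ⁻¹ᵁ U k)
    (H : ∀ k, h.appLE (U k) (V k) (e k) = h'.appLE (U k) (V k) (e' k)) : h = h' := by
  have hV' : IsOpenCover V := by
    rw [IsOpenCover, eq_top_iff]
    intro y _
    obtain ⟨k, hk⟩ := hV y
    exact Opens.mem_iSup.mpr ⟨k, hk⟩
  refine (Y.openCoverOfIsOpenCover V hV').hom_ext _ _ (fun k => ?_)
  change (V k).ι ≫ h = (V k).ι ≫ h'
  rw [← Scheme.Hom.resLE_comp_ι h (e k), ← Scheme.Hom.resLE_comp_ι h' (e' k)]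
  congr 1
  haveI : IsAffine (U k).toScheme := hU k
  apply ext_of_isAffine
  change (h.resLE (U k) (V k) (e k)).app ⊤ = (h'.resLE (U k) (V k) (e' k)).app ⊤
  rw [Scheme.Hom.resLE_app_top, Scheme.Hom.resLE_app_top, H k]

end General

/-! ### functions on charts -/

section Fn

theorem goodD {g : A} {d : ℕ} (hg : g ∈ 𝒜 d) {k : ℕ} {a : A} (ha : a ∈ 𝒜 (k • d)) :
    Good (Proj.basicOpen 𝒜 g) a (g ^ k) :=
  good_of_mem ha (SetLike.pow_mem_graded k hg) (fun x => notMem_pow x.2 k)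

theorem goodD1 {g : A} (hg : g ∈ 𝒜 1) {k : ℕ} {a : A} (ha : a ∈ 𝒜 k) :
    Good (Proj.basicOpen 𝒜 g) a (g ^ k) :=
  good_of_mem ha (pow_mem_of_mem_one hg k) (fun x => notMem_pow x.2 k)

theorem awayToSection_mk {g : A} {d : ℕ} (hg : g ∈ 𝒜 d) (k : ℕ) (a : A) (ha : a ∈ 𝒜 (k • d)) :
    (Proj.awayToSection 𝒜 g).hom (HomogeneousLocalization.Away.mk 𝒜 hg k a ha) =
      fn (Proj.basicOpen 𝒜 g) a (g ^ k) := by
  apply fval_ext
  intro x
  rw [fval_fn (goodD hg ha)]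
  exact fval_mk_away hg k a ha x _

variable {Y : Scheme.{u}} (h : Y ⟶ Proj 𝒜)

theorem basicOpen_appLE_fn {g g' : A} {d : ℕ} (hg : g ∈ 𝒜 d) (hg' : g' ∈ 𝒜 d) (V : Y.Opens)
    (e : V ≤ h ⁻¹ᵁ Proj.basicOpen 𝒜 g) :
    Y.basicOpen (h.appLE (Proj.basicOpen 𝒜 g) V e (fn (Proj.basicOpen 𝒜 g) g' g)) =
      V ⊓ h ⁻¹ᵁ Proj.basicOpen 𝒜 g' := by
  have hG : Good (Proj.basicOpen 𝒜 g) g' g := good_of_mem hg' hg (fun x => x.2)
  rw [appLE_eq_rres]
  have h1 : Y.basicOpen (rres Y e (h.app (Proj.basicOpen 𝒜 g) (fn (Proj.basicOpen 𝒜 g) g' g))) =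
      V ⊓ Y.basicOpen (h.app (Proj.basicOpen 𝒜 g) (fn (Proj.basicOpen 𝒜 g) g' g)) :=
    Scheme.basicOpen_res Y _ (homOfLE e).op
  rw [h1, ← Scheme.preimage_basicOpen, basicOpen_fn hG]
  apply le_antisymm
  · exact fun x hx => ⟨hx.1, hx.2.2⟩
  · exact fun x hx => ⟨hx.1, e hx.1, hx.2⟩

theorem appLE_fn_mul_pow {g g' : A} (hg : g ∈ 𝒜 1) (hg' : g' ∈ 𝒜 1) (V : Y.Opens)
    (e : V ≤ h ⁻¹ᵁ Proj.basicOpen 𝒜 g) (e' : V ≤ h ⁻¹ᵁ Proj.basicOpen 𝒜 g') {m : ℕ} {b : A}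
    (hb : b ∈ 𝒜 m) :
    h.appLE (Proj.basicOpen 𝒜 g') V e' (fn (Proj.basicOpen 𝒜 g') b (g' ^ m)) *
        (h.appLE (Proj.basicOpen 𝒜 g) V e (fn (Proj.basicOpen 𝒜 g) g' g)) ^ m =
      h.appLE (Proj.basicOpen 𝒜 g) V e (fn (Proj.basicOpen 𝒜 g) b (g ^ m)) := by
  have eW : V ≤ h ⁻¹ᵁ (Proj.basicOpen 𝒜 g ⊓ Proj.basicOpen 𝒜 g') := fun x hx => ⟨e hx, e' hx⟩
  have hl : Proj.basicOpen 𝒜 g ⊓ Proj.basicOpen 𝒜 g' ≤ Proj.basicOpen 𝒜 g := inf_le_left
  have hr : Proj.basicOpen 𝒜 g ⊓ Proj.basicOpen 𝒜 g' ≤ Proj.basicOpen 𝒜 g' := inf_le_right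
  have hG1 : Good (Proj.basicOpen 𝒜 g') b (g' ^ m) := goodD1 hg' hb
  have hG2 : Good (Proj.basicOpen 𝒜 g) g' g := good_of_mem hg' hg (fun x => x.2)
  have hG3 : Good (Proj.basicOpen 𝒜 g) b (g ^ m) := goodD1 hg hb
  rw [← appLE_rres h hr V eW, ← appLE_rres h hl V eW, ← appLE_rres h hl V eW, ← map_pow,
    ← map_mul, rres_fn hr hG1, rres_fn hl hG2, rres_fn hl hG3, fn_pow (hG2.mono hl),
    fn_mul (hG1.mono hr) ((hG2.mono hl).pow m)]
  congr 1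
  exact fn_eq ((hG1.mono hr).mul ((hG2.mono hl).pow m)) (hG3.mono hl) (by ring)

end Fn

/-! ### dehomogenization -/

section Deh

variable {g : A} (hg : g ∈ 𝒜 1)

/-- the degree `m` part of dehomogenization -/
noncomputable def dehFun (m : ℕ) : 𝒜 m →+ Γ(Proj 𝒜, Proj.basicOpen 𝒜 g) where
  toFun b := fn (Proj.basicOpen 𝒜 g) (b : A) (g ^ m)
  map_zero' := fn_zero (goodD1 hg (zero_mem _))
  map_add' a b := (fn_add (goodD1 hg a.2) (goodD1 hg b.2) (goodD1 hg (add_mem a.2 b.2))).symm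

/-- dehomogenization `a ↦ Σ aₘ / g ^ m` -/
noncomputable def deh : A →+* Γ(Proj 𝒜, Proj.basicOpen 𝒜 g) :=
  (DirectSum.toSemiring (dehFun hg)
    (by
      change fn (Proj.basicOpen 𝒜 g) ((1 : A)) (g ^ 0) = 1
      rw [pow_zero]
      exact fn_self (good_of_mem (j := 0) SetLike.GradedOne.one_mem SetLike.GradedOne.one_mem
        (fun x hx => x.1.isPrime.ne_top ((Ideal.eq_top_iff_one _).mpr hx))))
    (by
      intro i j a b
      change fn (Proj.basicOpen 𝒜 g) ((a : A) * (b : A)) (g ^ (i + j)) =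
        fn (Proj.basicOpen 𝒜 g) (a : A) (g ^ i) * fn (Proj.basicOpen 𝒜 g) (b : A) (g ^ j)
      rw [fn_mul (goodD1 hg a.2) (goodD1 hg b.2), pow_add])).comp
    (DirectSum.decomposeRingEquiv 𝒜).toRingHom

theorem deh_of_mem {m : ℕ} {b : A} (hb : b ∈ 𝒜 m) :
    deh hg b = fn (Proj.basicOpen 𝒜 g) b (g ^ m) := by
  unfold deh
  rw [RingHom.comp_apply]
  change DirectSum.toSemiring _ _ _ (DirectSum.decompose 𝒜 b) = _
  rw [DirectSum.decompose_of_mem 𝒜 hb, DirectSum.toSemiring_of]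
  rfl

theorem deh_self : deh hg g = 1 := by
  rw [deh_of_mem hg hg, pow_one]
  exact fn_self (good_of_mem hg hg (fun x => x.2))

theorem deh_surjective : Function.Surjective (deh (𝒜 := 𝒜) hg) := by
  intro c
  obtain ⟨k, a, ha, hc⟩ := GrGen.exists_fn_eq hg c
  exact ⟨a, by rw [deh_of_mem hg ha, hc]⟩

/-- ring homomorphisms out of a graded ring are determined on homogeneous elements -/
theorem ringHom_ext_of_homogeneous {B : Type*} [Semiring B] (φ φ' : A →+* B)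
    (H : ∀ (m : ℕ) (b : A), b ∈ 𝒜 m → φ b = φ' b) : φ = φ' := by
  ext a
  induction a using DirectSum.Decomposition.inductionOn 𝒜 with
  | zero => simp
  | homogeneous b => exact H _ _ b.2
  | add a a' ha ha' => rw [map_add, map_add, ha, ha']

end Deh

/-! ### the structure morphism on charts -/

section Struct

variable {g : A} {d : ℕ} (hg : g ∈ 𝒜 d) (hd : 0 < d)

include hg hd in
theorem toSpecZero_appLE :
    (Proj.toSpecZero 𝒜).appLE ⊤ (Proj.basicOpen 𝒜 g) le_top =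
      (Scheme.ΓSpecIso (.of (𝒜 0))).hom ≫
        CommRingCat.ofHom (HomogeneousLocalization.fromZeroRingHom 𝒜 (Submonoid.powers g)) ≫
        Proj.awayToSection 𝒜 g := by
  have h0 := Proj.awayι_toSpecZero 𝒜 g hg hd
  have h1 : (Proj.basicOpenIsoSpec 𝒜 g hg hd).hom.appTop =
      (Scheme.ΓSpecIso _).hom ≫ Proj.awayToSection 𝒜 g ≫ (Proj.basicOpen 𝒜 g).topIso.inv := by
    rw [Proj.basicOpenIsoSpec_hom]
    exact Proj.basicOpenToSpec_app_top 𝒜 g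
  have h2 : (Proj.basicOpen 𝒜 g).ι ≫ Proj.toSpecZero 𝒜 =
      (Proj.basicOpenIsoSpec 𝒜 g hg hd).hom ≫
        Spec.map (CommRingCat.ofHom (HomogeneousLocalization.fromZeroRingHom 𝒜 _)) := by
    rw [← h0, Proj.awayι, Category.assoc, Iso.hom_inv_id_assoc]
  have h3 := congrArg Scheme.Hom.appTop h2
  rw [Scheme.Hom.comp_appTop, Scheme.Hom.comp_appTop, h1] at h3
  have h4 : (Proj.toSpecZero 𝒜).appTop ≫ (Proj.basicOpen 𝒜 g).ι.appTop =
      (Proj.toSpecZero 𝒜).appLE ⊤ (Proj.basicOpen 𝒜 g) le_top ≫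
        (Proj.basicOpen 𝒜 g).topIso.inv := by
    rw [Scheme.Opens.ι_appTop, Scheme.Opens.topIso_inv, Scheme.Hom.appLE, Category.assoc]
    congr 1
  rw [h4, Scheme.ΓSpecIso_naturality_assoc] at h3
  simp only [← Category.assoc] at h3
  exact (cancel_mono ((Proj.basicOpen 𝒜 g).topIso.inv)).mp (by simpa only [Category.assoc] using h3)

include hg in
theorem awayToSection_fromZero (w : 𝒜 0) :
    (Proj.awayToSection 𝒜 g).hom
        (HomogeneousLocalization.fromZeroRingHom 𝒜 (Submonoid.powers g) w) =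
      fn (Proj.basicOpen 𝒜 g) (w : A) 1 := by
  have hw : (w : A) ∈ 𝒜 (0 • d) := by simp
  have h1 : HomogeneousLocalization.fromZeroRingHom 𝒜 (Submonoid.powers g) w =
      HomogeneousLocalization.Away.mk 𝒜 hg 0 (w : A) hw := by
    apply HomogeneousLocalization.val_injective
    rw [HomogeneousLocalization.Away.val_mk]
    change Localization.mk (w : A) 1 = _
    congr 1
    exact Subtype.ext (pow_zero g).symm
  rw [h1, awayToSection_mk hg 0 (w : A) hw, pow_zero]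

include hg hd in
theorem toSpec_appLE_fn (c : R) :
    (Proj.toSpecZero 𝒜 ≫ Spec.map (CommRingCat.ofHom (algebraMap R (𝒜 0)))).appLE ⊤
        (Proj.basicOpen 𝒜 g) le_top ((Scheme.ΓSpecIso (CommRingCat.of R)).inv c) =
      fn (Proj.basicOpen 𝒜 g) (algebraMap R A c) 1 := by
  have h1 := Scheme.Hom.appLE_comp_appLE (Proj.toSpecZero 𝒜)
    (Spec.map (CommRingCat.ofHom (algebraMap R (𝒜 0)))) ⊤ ⊤ (Proj.basicOpen 𝒜 g) le_top le_top
  have h2 : (Spec.map (CommRingCat.ofHom (algebraMap R (𝒜 0)))).appLE ⊤ ⊤ le_top =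
      (Spec.map (CommRingCat.ofHom (algebraMap R (𝒜 0)))).appTop := by
    simp [Scheme.Hom.appLE, Scheme.Hom.appTop]
  have h3 := Scheme.ΓSpecIso_inv_naturality (CommRingCat.ofHom (algebraMap R (𝒜 0)))
  have h4 : ((Spec.map (CommRingCat.ofHom (algebraMap R (𝒜 0)))).appTop)
      ((Scheme.ΓSpecIso (CommRingCat.of R)).inv c) =
      (Scheme.ΓSpecIso (CommRingCat.of (𝒜 0))).inv (algebraMap R (𝒜 0) c) :=
    (congrArg (fun φ => φ.hom c) h3).symm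
  have h5 : ((Scheme.ΓSpecIso (CommRingCat.of (𝒜 0))).hom)
      ((Scheme.ΓSpecIso (CommRingCat.of (𝒜 0))).inv (algebraMap R (𝒜 0) c)) =
      algebraMap R (𝒜 0) c :=
    congrArg (fun φ => φ.hom (algebraMap R (𝒜 0) c))
      (Scheme.ΓSpecIso (CommRingCat.of (𝒜 0))).inv_hom_id
  rw [← h1, h2, toSpecZero_appLE hg hd]
  change (Proj.awayToSection 𝒜 g).hom (HomogeneousLocalization.fromZeroRingHom 𝒜 _
    ((Scheme.ΓSpecIso (CommRingCat.of (𝒜 0))).hom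
      (((Spec.map (CommRingCat.ofHom (algebraMap R (𝒜 0)))).appTop)
        ((Scheme.ΓSpecIso (CommRingCat.of R)).inv c)))) = _
  rw [h4, h5, awayToSection_fromZero hg]
  rfl

end Struct

end Groth.Agent.Lib.Helper3.ToProj
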