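import Groth.Agent.Lib.Helper3.ProjPullSec
import Groth.Agent.Lib.Helper3.ToProj

/-!
# Pulled back global sections of `O(d)` along a morphism to `Proj`
-/

set_option autoImplicit false
set_option linter.unusedSectionVars false
universe u
open CategoryTheory CategoryTheory.Limits AlgebraicGeometry TopologicalSpace Opposite
open Scheme.Modules

namespace Groth.Agent.Lib.Helper3.ProjPullGen

open QCSec InvGen TwistBasic GrTildeQC ProjFrac GrTildeHom ProjMapFn TwistProj PbBasic ToProj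

variable {R A : Type u} [CommRing R] [CommRing A] [Algebra R A] {𝒜 : ℕ → Submodule R A}
  [GradedAlgebra 𝒜]

theorem res_gsec_eq_fn_smul {d : ℕ} {U : (Proj 𝒜).Opens} {g' : A} (hg' : g' ∈ 𝒜 d)
    (hU : U ≤ Proj.basicOpen 𝒜 g') {b : A} (hb : b ∈ 𝒜 d) :
    res (Twist.twist 𝒜 (d : ℤ)) (le_top : U ≤ ⊤) (gsec (⟨b, hb⟩ : 𝒜 d)) =
      fn U b g' • res (Twist.twist 𝒜 (d : ℤ)) (le_top : U ≤ ⊤) (gsec (⟨g', hg'⟩ : 𝒜 d)) := by
  apply val_ext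
  intro x
  rw [val_smul, fval_fn (good_of_mem hb hg' (fun y => hU y.2))]
  change Localization.mk b ⟨1, _⟩ =
    Localization.mk b ⟨g', _⟩ * Localization.mk g' ⟨1, _⟩
  rw [Localization.mk_mul, Localization.mk_eq_mk_iff, Localization.r_iff_exists]
  exact ⟨1, by simp only [OneMemClass.coe_one, Submonoid.coe_mul]; ring⟩

variable {Y : Scheme.{u}} (h : Y ⟶ Proj 𝒜)

/-- pullback of a global section, as a global section -/
noncomputable def gpull (M : (Proj 𝒜).Modules) (σ : Γ(M, ⊤)) :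
    Γ((Scheme.Modules.pullback h).obj M, ⊤) :=
  pull h M ⊤ σ

theorem res_gpull (M : (Proj 𝒜).Modules) (σ : Γ(M, ⊤)) (V : (Proj 𝒜).Opens) :
    res ((Scheme.Modules.pullback h).obj M) (le_top : h ⁻¹ᵁ V ≤ ⊤) (gpull h M σ) =
      pull h M V (res M (le_top : V ≤ ⊤) σ) :=
  res_pull h M (le_top : V ≤ ⊤) σ

theorem isGen_gpull_gsec {d : ℕ} {g' : A} (hg' : g' ∈ 𝒜 d) :
    IsGen ((Scheme.Modules.pullback h).obj (Twist.twist 𝒜 (d : ℤ))) (h ⁻¹ᵁ Proj.basicOpen 𝒜 g')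
      (res _ (le_top : h ⁻¹ᵁ Proj.basicOpen 𝒜 g' ≤ ⊤)
        (gpull h (Twist.twist 𝒜 (d : ℤ)) (gsec (⟨g', hg'⟩ : 𝒜 d)))) := by
  rw [res_gpull]
  exact isGen_pull h (isGen_res_gsec (⟨g', hg'⟩ : 𝒜 d) le_rfl)

theorem res_gpull_gsec {d : ℕ} {g' : A} (hg' : g' ∈ 𝒜 d) {b : A} (hb : b ∈ 𝒜 d) (V : Y.Opens)
    (e : V ≤ h ⁻¹ᵁ Proj.basicOpen 𝒜 g') :
    res ((Scheme.Modules.pullback h).obj (Twist.twist 𝒜 (d : ℤ))) (le_top : V ≤ ⊤)
        (gpull h (Twist.twist 𝒜 (d : ℤ)) (gsec (⟨b, hb⟩ : 𝒜 d))) =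
      h.appLE (Proj.basicOpen 𝒜 g') V e (fn (Proj.basicOpen 𝒜 g') b g') •
        res ((Scheme.Modules.pullback h).obj (Twist.twist 𝒜 (d : ℤ))) (le_top : V ≤ ⊤)
          (gpull h (Twist.twist 𝒜 (d : ℤ)) (gsec (⟨g', hg'⟩ : 𝒜 d))) := by
  have h1 : res ((Scheme.Modules.pullback h).obj (Twist.twist 𝒜 (d : ℤ)))
      (le_top : h ⁻¹ᵁ Proj.basicOpen 𝒜 g' ≤ ⊤)
      (gpull h (Twist.twist 𝒜 (d : ℤ)) (gsec (⟨b, hb⟩ : 𝒜 d))) =
      h.app (Proj.basicOpen 𝒜 g') (fn (Proj.basicOpen 𝒜 g') b g') •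
        res ((Scheme.Modules.pullback h).obj (Twist.twist 𝒜 (d : ℤ)))
          (le_top : h ⁻¹ᵁ Proj.basicOpen 𝒜 g' ≤ ⊤)
          (gpull h (Twist.twist 𝒜 (d : ℤ)) (gsec (⟨g', hg'⟩ : 𝒜 d))) := by
    rw [res_gpull, res_gpull, res_gsec_eq_fn_smul hg' le_rfl hb, pull_smul]
  have h2 := congrArg (res ((Scheme.Modules.pullback h).obj (Twist.twist 𝒜 (d : ℤ))) e) h1
  rw [res_res, res_smul, res_res] at h2
  exact h2

end Groth.Agent.Lib.Helper3.ProjPullGen
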