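import Groth.Agent.Lib.Helper3.ProjGlue
import Groth.Agent.Lib.Helper3.ProjPullGen
import Groth.Agent.Lib.Helper3.InvIso
import Groth.Agent.Lib.Helper3.SecCoord
import Groth.Agent.Lib.Helper3.GrScale

/-!
# The morphism to `Proj` defined by an invertible module and global sections
-/

set_option autoImplicit false
set_option linter.unusedSectionVars false
universe u
open CategoryTheory CategoryTheory.Limits AlgebraicGeometry TopologicalSpace Opposite
open Scheme.Modules

namespace Groth.Agent.Lib.Helper3.ProjOfSec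

open QCSec InvGen TwistBasic GrTildeQC ProjFrac GrTildeHom ProjMapFn TwistProj PbBasic ToProj
  ProjGlue ProjPullGen InvIso SecCoord GrScale

variable {R A : Type u} [CommRing R] [CommRing A] [Algebra R A] {𝒜 : ℕ → Submodule R A}
  [GradedAlgebra 𝒜] {X : Scheme.{u}}

/-- restriction of functions as a ring homomorphism -/
noncomputable def rresHom (X : Scheme.{u}) {V U : X.Opens} (h : V ≤ U) : Γ(X, U) →+* Γ(X, V) :=
  (X.presheaf.map (homOfLE h).op).hom

theorem rresHom_apply {V U : X.Opens} (h : V ≤ U) (a : Γ(X, U)) : rresHom X h a = rres X h a :=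
  rfl

variable (L : X.Modules) {ι : Type u} (t : ι → A) (ht : ∀ i, t i ∈ 𝒜 1) (σ : ι → Γ(L, ⊤))
  (hcov : ∀ x : X, ∃ i, x ∈ locus L (σ i))
  (ψ : ∀ i, A →+* Γ(X, locus L (σ i)))
  (hψ : ∀ i k, ψ i (t k) = ratio L (σ i) (σ k))
  (hcoc : ∀ i k, (rresHom X (inf_le_left : locus L (σ i) ⊓ locus L (σ k) ≤ locus L (σ i))).comp
      (ψ i) =
    scaleHom 𝒜 ((rresHom X (inf_le_right : locus L (σ i) ⊓ locus L (σ k) ≤ locus L (σ k))).comp
      (ψ k)) (rres X (inf_le_left : locus L (σ i) ⊓ locus L (σ k) ≤ locus L (σ i))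
        (ψ i (t k))))

/-- the gluing data defined by sections -/
noncomputable def data : ProjData 𝒜 X ι where
  t := t
  ht := ht
  Xo i := locus L (σ i)
  cov := hcov
  ψ := ψ
  ψ_self i := by rw [hψ, ratio_self]
  basicOpen_ψ i k := by rw [hψ, basicOpen_ratio]
  cocycle i k m b hb := by
    have h := congrArg (fun φ => φ b) (hcoc i k)
    simp only [RingHom.comp_apply, rresHom_apply] at h
    rw [scaleHom_of_mem 𝒜 _ _ hb] at h
    exact h

/-- the morphism defined by sections -/
noncomputable def hom : X ⟶ Proj 𝒜 := (data L t ht σ hcov ψ hψ hcoc).hom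

theorem exists_iso :
    ∃ τ : (Scheme.Modules.pullback (hom L t ht σ hcov ψ hψ hcoc)).obj
        (Twist.twist 𝒜 ((1 : ℕ) : ℤ)) ≅ L,
      ∀ i, τ.hom.app ⊤ (gpull (hom L t ht σ hcov ψ hψ hcoc) (Twist.twist 𝒜 ((1 : ℕ) : ℤ))
        (gsec (⟨t i, ht i⟩ : 𝒜 1))) = σ i := by
  set D := data L t ht σ hcov ψ hψ hcoc with hD
  let DN : GenData ((Scheme.Modules.pullback D.hom).obj (Twist.twist 𝒜 ((1 : ℕ) : ℤ)))
      (fun i => locus L (σ i)) (fun i k => ratio L (σ i) (σ k)) :=
    { G := fun i => gpull D.hom (Twist.twist 𝒜 ((1 : ℕ) : ℤ)) (gsec (⟨t i, ht i⟩ : 𝒜 1))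
      gen := fun i => by
        have h1 := (isGen_gpull_gsec D.hom (ht i)).mono (D.le_preimage i)
        rwa [res_res] at h1
      tr := fun i k => by
        have h1 := res_gpull_gsec D.hom (ht i) (ht k) (locus L (σ i)) (D.le_preimage i)
        have h2 := D.hom_appLE_fn i (ht k)
        rw [pow_one] at h2
        rw [h1]
        congr 1
        exact h2.trans (hψ i k) }
  let DL : GenData L (fun i => locus L (σ i)) (fun i k => ratio L (σ i) (σ k)) :=
    { G := σ
      gen := fun i => isGen_locus L (σ i)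
      tr := fun i k => (ratio_smul L (σ i) (σ k)).symm }
  exact ⟨GenData.iso DN DL hcov, fun i => GenData.iso_hom_G DN DL hcov i⟩

theorem hom_toSpec (q : X ⟶ Spec (CommRingCat.of R))
    (hq : ∀ (i : ι) (c : R), ψ i (algebraMap R A c) =
      rres X (le_top : locus L (σ i) ≤ ⊤)
        (q.appTop ((Scheme.ΓSpecIso (CommRingCat.of R)).inv c))) :
    hom L t ht σ hcov ψ hψ hcoc ≫ Proj.toSpecZero 𝒜 ≫
      Spec.map (CommRingCat.ofHom (algebraMap R (𝒜 0))) = q :=
  (data L t ht σ hcov ψ hψ hcoc).hom_toSpec q hq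

end Groth.Agent.Lib.Helper3.ProjOfSec
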