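import Groth.Prelude.Def_BlowUp2
import Mathlib.AlgebraicGeometry.Restrict
import Mathlib.RingTheory.Ideal.MinimalPrime.Localization

/-!
# Basic facts on `BlowUp.IsEffCartierIdeal` / `BlowUp.IsBlowUp`

* the unit ideal is effective Cartier;
* the inverse image of `𝓘` along a morphism landing in the complement of `𝓘.support` is `⊤`;
* a blow-up is an isomorphism over the complement of the centre;
* a maximal point does not lie in the support of an effective Cartier ideal;
* maximal points and open embeddings.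
-/

set_option autoImplicit false
universe u
open CategoryTheory CategoryTheory.Limits AlgebraicGeometry TopologicalSpace

namespace Groth.Agent.Lib.Helper3

theorem isEffCartierIdeal_top {Y : Scheme.{u}} : BlowUp.IsEffCartierIdeal (⊤ : Y.IdealSheafData) := by
  intro x
  obtain ⟨_, ⟨V, hV, rfl⟩, hxV, -⟩ :=
    Y.isBasis_affineOpens.exists_subset_of_mem_open (Set.mem_univ x) isOpen_univ
  refine ⟨⟨V, hV⟩, hxV, 1, one_mem _, ?_⟩
  simp

theorem comap_eq_top_of_range_subset {X Y : Scheme.{u}} (𝓘 : X.IdealSheafData) (g : Y ⟶ X)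
    (hg : Set.range g ⊆ (𝓘.support.compl : Set X)) : 𝓘.comap g = ⊤ := by
  rw [← Scheme.IdealSheafData.support_eq_bot_iff]
  ext y
  rw [Scheme.IdealSheafData.support_comap]
  constructor
  · intro hy
    exact absurd hy (hg ⟨y, rfl⟩)
  · intro hy
    exact absurd hy (by simp)

theorem isIso_morphismRestrict_of_isBlowUp {X X' : Scheme.{u}} (𝓘 : X.IdealSheafData) (b : X' ⟶ X)
    (hb : BlowUp.IsBlowUp b 𝓘) : IsIso (b ∣_ 𝓘.support.compl) := by
  set U : X.Opens := 𝓘.support.compl with hU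
  have h1 : BlowUp.IsEffCartierIdeal (𝓘.comap U.ι) := by
    rw [comap_eq_top_of_range_subset 𝓘 U.ι (by simp [hU])]
    exact isEffCartierIdeal_top
  obtain ⟨h, hh, -⟩ := hb.2 _ U.ι h1
  have hrange : Set.range h ⊆ Set.range (b ⁻¹ᵁ U).ι := by
    rintro _ ⟨y, rfl⟩
    simp only [Scheme.Opens.range_ι, TopologicalSpace.Opens.map_coe, Set.mem_preimage]
    have : b (h y) = U.ι y := by rw [← hh]; rfl
    rw [this]
    exact y.2
  let h' : U.toScheme ⟶ (b ⁻¹ᵁ U).toScheme := IsOpenImmersion.lift (b ⁻¹ᵁ U).ι h hrange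
  have hh' : h' ≫ (b ⁻¹ᵁ U).ι = h := IsOpenImmersion.lift_fac _ _ _
  have h2 : BlowUp.IsEffCartierIdeal (𝓘.comap ((b ⁻¹ᵁ U).ι ≫ b)) := by
    rw [comap_eq_top_of_range_subset 𝓘 _ ?_]
    · exact isEffCartierIdeal_top
    · rintro _ ⟨y, rfl⟩
      exact y.2
  obtain ⟨k, -, hk⟩ := hb.2 _ _ h2
  refine ⟨h', ?_, ?_⟩
  · rw [← cancel_mono (b ⁻¹ᵁ U).ι, Category.assoc, hh', Category.id_comp]
    rw [hk ((b ∣_ U) ≫ h) (by
      show ((b ∣_ U) ≫ h) ≫ b = (b ⁻¹ᵁ U).ι ≫ b
      rw [Category.assoc, hh, morphismRestrict_ι]), hk (b ⁻¹ᵁ U).ι rfl]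
  · rw [← cancel_mono U.ι, Category.assoc, morphismRestrict_ι, ← Category.assoc, hh', hh,
      Category.id_comp]

/-- Maximal points (no proper generization) correspond under open embeddings. -/
theorem maximal_iff_of_isOpenEmbedding {S T : Type*} [TopologicalSpace S] [TopologicalSpace T]
    (j : S → T) (hj : Topology.IsOpenEmbedding j) (s : S) :
    (∀ y : T, y ⤳ j s → y = j s) ↔ (∀ y : S, y ⤳ s → y = s) := by
  constructor
  · intro H y hy
    exact hj.injective (H _ (hj.isInducing.specializes_iff.mpr hy))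
  · intro H y hy
    have hy' : y ∈ Set.range j := hy.mem_open hj.isOpen_range ⟨s, rfl⟩
    obtain ⟨y0, rfl⟩ := hy'
    rw [H y0 (hj.isInducing.specializes_iff.mp hy)]

/-- The prime corresponding to a maximal point of an affine open is a minimal prime. -/
theorem primeIdealOf_mem_minimalPrimes {Y : Scheme.{u}} {U : Y.Opens} (hU : IsAffineOpen U)
    (y : Y) (hyU : y ∈ U) (hy : ∀ z : Y, z ⤳ y → z = y) :
    (hU.primeIdealOf ⟨y, hyU⟩).asIdeal ∈ minimalPrimes Γ(Y, U) := by
  set p := hU.primeIdealOf ⟨y, hyU⟩ with hp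
  have hpy : hU.fromSpec p = y := hU.fromSpec_primeIdealOf ⟨y, hyU⟩
  refine ⟨⟨p.2, bot_le⟩, ?_⟩
  rintro q ⟨hq, -⟩ hqp
  let q' : PrimeSpectrum Γ(Y, U) := ⟨q, hq⟩
  have h1 : q' ⤳ p := (PrimeSpectrum.le_iff_specializes q' p).mp hqp
  have h2 : hU.fromSpec q' ⤳ hU.fromSpec p := h1.map hU.fromSpec.continuous
  rw [hpy] at h2
  have h3 : hU.fromSpec q' = hU.fromSpec p := by rw [hpy]; exact hy _ h2
  have h4 : q' = p := hU.fromSpec.isOpenEmbedding.injective h3
  rw [← h4]

/-- A maximal point does not lie in the support of an effective Cartier ideal. -/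
theorem notMem_support_of_isEffCartierIdeal {Y : Scheme.{u}} (𝓙 : Y.IdealSheafData)
    (h : BlowUp.IsEffCartierIdeal 𝓙) (y : Y) (hy : ∀ z : Y, z ⤳ y → z = y) :
    y ∉ 𝓙.support := by
  obtain ⟨U, hyU, f, hf, hI⟩ := h y
  rw [Scheme.IdealSheafData.mem_support_iff_of_mem hyU, hI, Scheme.zeroLocus_span,
    Scheme.zeroLocus_singleton]
  simp only [Set.mem_compl_iff, SetLike.mem_coe, not_not]
  have hU := U.2
  set p := hU.primeIdealOf ⟨y, hyU⟩ with hp
  have hpy : hU.fromSpec p = y := hU.fromSpec_primeIdealOf ⟨y, hyU⟩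
  have hmin := primeIdealOf_mem_minimalPrimes hU y hyU hy
  rw [← hpy]
  change p ∈ hU.fromSpec ⁻¹ᵁ Y.basicOpen f
  rw [hU.fromSpec_preimage_basicOpen]
  intro hfp
  exact notMem_nonZeroDivisors_of_mem_mem_minimalPrimes hfp hmin hf

end Groth.Agent.Lib.Helper3
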