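import Groth.Agent.Lib.Helper3.SubschemeStalk
import Groth.Agent.Lib.Helper3.BlowUpBasic
import Mathlib.AlgebraicGeometry.Noetherian

/-!
# Local structure of an effective Cartier divisor at a point: `O_{D,d} = O_{X,x}/(t)`
-/

set_option autoImplicit false
universe u
open CategoryTheory CategoryTheory.Limits AlgebraicGeometry TopologicalSpace

namespace Groth.Agent.Lib.Helper3

variable {X : Scheme.{u}}

/-- At a point `d` of an effective Cartier divisor `D`, the surjection `O_{X,x} → O_{D,d}` has kernel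
generated by a nonzerodivisor lying in the maximal ideal. -/
theorem exists_stalk_generator (𝓘 : X.IdealSheafData) (hc : BlowUp.IsEffCartierIdeal 𝓘)
    (d : 𝓘.subscheme) :
    ∃ t : X.presheaf.stalk (𝓘.subschemeι d),
      t ∈ nonZeroDivisors (X.presheaf.stalk (𝓘.subschemeι d)) ∧
      t ∈ IsLocalRing.maximalIdeal (X.presheaf.stalk (𝓘.subschemeι d)) ∧
      RingHom.ker (𝓘.subschemeι.stalkMap d).hom = Ideal.span {t} := by
  set x := 𝓘.subschemeι d with hx
  obtain ⟨U, hxU, t, ht, hI⟩ := hc x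
  have hU := U.2
  have hxs : x ∈ 𝓘.support := by
    rw [← SetLike.mem_coe, ← 𝓘.range_subschemeι]; exact ⟨d, rfl⟩
  let _ : Algebra Γ(X, U.1) (X.presheaf.stalk x) :=
    TopCat.Presheaf.algebra_section_stalk X.presheaf (U := U.1) ⟨x, hxU⟩
  have hloc : IsLocalization.AtPrime (X.presheaf.stalk x) (hU.primeIdealOf ⟨x, hxU⟩).asIdeal :=
    hU.isLocalization_stalk ⟨x, hxU⟩
  refine ⟨(X.presheaf.germ U.1 x hxU).hom t, ?_, ?_, ?_⟩
  · exact IsLocalization.map_nonZeroDivisors_le (hU.primeIdealOf ⟨x, hxU⟩).asIdeal.primeCompl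
      (X.presheaf.stalk x) (Submonoid.mem_map_of_mem _ ht)
  · rw [IsLocalRing.mem_maximalIdeal, mem_nonunits_iff]
    intro hunit
    have h1 : x ∈ X.basicOpen t := (Scheme.mem_basicOpen X t x hxU).mpr hunit
    rw [Scheme.IdealSheafData.mem_support_iff_of_mem hxU, hI, Scheme.zeroLocus_span,
      Scheme.zeroLocus_singleton] at hxs
    exact hxs h1
  · rw [ker_stalkMap_subschemeι 𝓘 U d hxU, hI, Ideal.map_span, Set.image_singleton]

/-- Stalks of a locally Noetherian scheme are Noetherian. -/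
theorem isNoetherianRing_stalk [IsLocallyNoetherian X] (x : X) :
    IsNoetherianRing (X.presheaf.stalk x) := by
  obtain ⟨_, ⟨U, hU, rfl⟩, hxU, -⟩ :=
    X.isBasis_affineOpens.exists_subset_of_mem_open (Set.mem_univ x) isOpen_univ
  have : IsNoetherianRing Γ(X, U) := IsLocallyNoetherian.component_noetherian ⟨U, hU⟩
  let _ : Algebra Γ(X, U) (X.presheaf.stalk x) :=
    TopCat.Presheaf.algebra_section_stalk X.presheaf (U := U) ⟨x, hxU⟩
  have hloc : IsLocalization.AtPrime (X.presheaf.stalk x) (hU.primeIdealOf ⟨x, hxU⟩).asIdeal :=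
    hU.isLocalization_stalk ⟨x, hxU⟩
  exact IsLocalization.isNoetherianRing (hU.primeIdealOf ⟨x, hxU⟩).asIdeal.primeCompl _ inferInstance

end Groth.Agent.Lib.Helper3
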