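import Mathlib.AlgebraicGeometry.IdealSheaf.Functorial

/-!
# The pulled-back ideal sheaf on affine charts

`ideal_comap_of_le`: for `f : X ⟶ Y`, affine opens `U ⊆ X`, `V ⊆ Y` with `U ≤ f ⁻¹ᵁ V`,
`(J.comap f).ideal U = (J.ideal V).map (f.appLE V U)`.
-/
set_option autoImplicit false
universe u
open CategoryTheory CategoryTheory.Limits AlgebraicGeometry

namespace Groth.Agent.Lib.Helper3

open Scheme

theorem ideal_comap_top_of_isAffine {X Y : Scheme.{u}} [IsAffine X] [IsAffine Y] (f : X ⟶ Y)
    (J : Y.IdealSheafData) :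
    (J.comap f).ideal ⟨⊤, isAffineOpen_top X⟩ =
      (J.ideal ⟨⊤, isAffineOpen_top Y⟩).map f.appTop.hom := by
  apply le_antisymm
  · have h1 : J.comap f ≤ IdealSheafData.ofIdealTop
        ((J.ideal ⟨⊤, isAffineOpen_top Y⟩).map f.appTop.hom) := by
      rw [← IdealSheafData.le_map_iff_comap_le]
      apply IdealSheafData.le_of_isAffine
      rw [IdealSheafData.ideal_map_of_isAffineHom, ← Ideal.map_le_iff_le_comap]
      simp only [IdealSheafData.ofIdealTop_ideal]
      rw [Ideal.map_map]
      refine le_of_eq (congrArg (fun φ => Ideal.map φ _) ?_)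
      have hid : X.presheaf.map (homOfLE (le_top : f ⁻¹ᵁ ⊤ ≤ ⊤)).op = 𝟙 _ := X.presheaf.map_id _
      rw [hid]
      rfl
    have := h1 ⟨⊤, isAffineOpen_top X⟩
    simpa using this
  · rw [Ideal.map_le_iff_le_comap]
    have h2 : J ≤ (J.comap f).map f := IdealSheafData.le_map_comap J f
    have := h2 ⟨⊤, isAffineOpen_top Y⟩
    rw [IdealSheafData.ideal_map_of_isAffineHom] at this
    exact this

/-- the ideal of `K.comap U.ι` on the whole of `U`, in terms of `K.ideal U`. -/
theorem ideal_comap_ι_top {X : Scheme.{u}} (K : X.IdealSheafData) (U : X.affineOpens) :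
    (K.comap U.1.ι).ideal ⟨⊤, @isAffineOpen_top _ U.2⟩ =
      (K.ideal U).map (X.presheaf.map (eqToHom U.1.ι_image_top).op).hom := by
  have : IsAffine U.1.toScheme := U.2
  rw [IdealSheafData.ideal_comap_of_isOpenImmersion]
  have h1 := K.map_ideal' (U := ⟨U.1.ι ''ᵁ ⊤, (isAffineOpen_top _).image_of_isOpenImmersion U.1.ι⟩)
    (V := U) (eqToHom U.1.ι_image_top).op
  rw [h1, Scheme.Opens.ι_appIso]
  exact Ideal.comap_id _

theorem ideal_comap_of_le {X Y : Scheme.{u}} (f : X ⟶ Y) (J : Y.IdealSheafData)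
    (U : X.affineOpens) (V : Y.affineOpens) (h : U.1 ≤ f ⁻¹ᵁ V.1) :
    (J.comap f).ideal U = (J.ideal V).map (f.appLE V.1 U.1 h).hom := by
  have : IsAffine U.1.toScheme := U.2
  have : IsAffine V.1.toScheme := V.2
  set eU := X.presheaf.map (eqToHom U.1.ι_image_top).op with heU
  set eV := Y.presheaf.map (eqToHom V.1.ι_image_top).op with heV
  have hbij : Function.Bijective eU.hom := by
    have : IsIso eU := by rw [heU]; infer_instance
    exact ConcreteCategory.bijective_of_isIso eU
  have key : ((J.comap f).ideal U).map eU.hom = ((J.ideal V).map (f.appLE V.1 U.1 h).hom).map eU.hom := by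
    rw [← ideal_comap_ι_top, ← IdealSheafData.comap_comp, ← Scheme.Hom.resLE_comp_ι f h,
      IdealSheafData.comap_comp, ideal_comap_top_of_isAffine, ideal_comap_ι_top,
      Ideal.map_map]
    erw [Ideal.map_map]
    congr 1
    rw [← CommRingCat.hom_comp]
    erw [← CommRingCat.hom_comp]
    congr 1
    rw [Scheme.Hom.appTop, Scheme.Hom.app_eq_appLE, Scheme.Hom.resLE_appLE, heU]
    erw [Scheme.Hom.map_appLE, Scheme.Hom.appLE_map]
    rfl
  have := congrArg (Ideal.comap eU.hom) key
  rwa [Ideal.comap_map_of_bijective _ hbij, Ideal.comap_map_of_bijective _ hbij] at this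

end Groth.Agent.Lib.Helper3
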