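import Groth.Agent.Lib.Helper4.FiniteExt

/-!
# Dimension and depth of the quotient of a Noetherian local ring by a regular element
-/

set_option autoImplicit false
universe u

namespace Groth.Agent.Lib.Helper3

open Function Pointwise

variable {A C : Type u} [CommRing A] [CommRing C] [IsLocalRing A] [IsLocalRing C]
  [IsNoetherianRing A]

omit [IsLocalRing C] in
theorem ringKrullDim_add_one_of_surjective (π : A →+* C) (hπ : Surjective π) (t : A)
    (ht : t ∈ nonZeroDivisors A) (htm : t ∈ IsLocalRing.maximalIdeal A)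
    (hker : RingHom.ker π = Ideal.span {t}) : ringKrullDim C + 1 = ringKrullDim A := by
  have e1 : (A ⧸ RingHom.ker π) ≃+* C := RingHom.quotientKerEquivOfSurjective hπ
  have e2 : (A ⧸ RingHom.ker π) ≃+* (A ⧸ Ideal.span {t}) := Ideal.quotEquivOfEq hker
  rw [← ringKrullDim_eq_of_ringEquiv e1, ringKrullDim_eq_of_ringEquiv e2]
  exact ringKrullDim_quotient_span_singleton_succ_eq_ringKrullDim_of_mem_nonZeroDivisors ht htm

theorem depth_add_one_of_surjective (π : A →+* C) (hπ : Surjective π) (t : A)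
    (ht : t ∈ nonZeroDivisors A) (htm : t ∈ IsLocalRing.maximalIdeal A)
    (hker : RingHom.ker π = Ideal.span {t}) : LocCoh.depth C C + 1 = LocCoh.depth A A := by
  let _ := π.toAlgebra
  have hfin : Module.Finite A C := Module.Finite.of_surjective (Algebra.linearMap A C) hπ
  have h1 := Groth.Agent.Lib.Helper4.idealDepth_map_eq (A := A) (B := C)
    (IsLocalRing.maximalIdeal A) C
  have h2 : (IsLocalRing.maximalIdeal A).map (algebraMap A C) = IsLocalRing.maximalIdeal C :=
    IsLocalRing.map_maximalIdeal_of_surjective π hπ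
  rw [h2] at h1
  have hreg : IsSMulRegular A t := by
    intro a b hab
    have hab' : t * a = t * b := hab
    have h0 : (a - b) * t = 0 := by rw [sub_mul, mul_comm a, mul_comm b, hab', sub_self]
    exact sub_eq_zero.mp (ht.2 _ h0)
  -- `C ≃ A / tA` as `A`-modules
  have hkerlin : LinearMap.ker (Algebra.linearMap A C) = t • (⊤ : Submodule A A) := by
    ext a
    rw [LinearMap.mem_ker, Submodule.mem_smul_pointwise_iff_exists]
    change π a = 0 ↔ _
    rw [← RingHom.mem_ker, hker, Ideal.mem_span_singleton']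
    constructor
    · rintro ⟨c, rfl⟩; exact ⟨c, trivial, mul_comm _ _⟩
    · rintro ⟨c, -, rfl⟩; exact ⟨c, mul_comm _ _⟩
  let e : QuotSMulTop t A ≃ₗ[A] C :=
    (Submodule.quotEquivOfEq _ _ hkerlin.symm).trans
      ((Algebra.linearMap A C).quotKerEquivOfSurjective hπ)
  have h3 := Groth.Agent.Lib.Helper4.idealDepth_congr (IsLocalRing.maximalIdeal A) e
  have h4 := Groth.Agent.Lib.Helper4.idealDepth_quotSMulTop_add_one (M := A)
    (IsLocalRing.maximalIdeal A) t htm hreg
  unfold LocCoh.depth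
  rw [← h1, ← h3, h4]

/-- The numerical step for Serre's condition. -/
theorem min_pred_le_of_min_le (k : ℕ) (a : WithBot ℕ∞) (e : ℕ∞)
    (h : min (k : WithBot ℕ∞) (a + 1) ≤ ((e + 1 : ℕ∞) : WithBot ℕ∞)) :
    min ((k - 1 : ℕ) : WithBot ℕ∞) a ≤ ((e : ℕ∞) : WithBot ℕ∞) := by
  rcases eq_or_ne e ⊤ with rfl | he
  · exact le_top
  obtain ⟨e₀, rfl⟩ := ENat.ne_top_iff_exists.mp he
  rw [min_le_iff] at h ⊢
  rcases h with h | h
  · left
    have h' : (k : ℕ∞) ≤ (e₀ : ℕ∞) + 1 := by exact_mod_cast h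
    have h'' : k ≤ e₀ + 1 := by exact_mod_cast h'
    have h3 : k - 1 ≤ e₀ := by omega
    have h4 : ((k - 1 : ℕ) : ℕ∞) ≤ (e₀ : ℕ∞) := Nat.cast_le.mpr h3
    exact WithBot.coe_le_coe.mpr h4
  · right
    induction a using WithBot.recBotCoe with
    | bot => exact bot_le
    | coe a =>
      have h' : a + 1 ≤ (e₀ : ℕ∞) + 1 := by exact_mod_cast h
      have : a ≤ (e₀ : ℕ∞) := (ENat.add_le_add_iff_right ENat.one_ne_top).mp h'
      exact_mod_cast this

end Groth.Agent.Lib.Helper3
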