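import Mathlib.RingTheory.QuasiFinite.Basic
import Mathlib.RingTheory.Ideal.GoingUp
import Mathlib.RingTheory.Ideal.MinimalPrime.Localization

/-!
# Weakly associated primes under finite ring maps (Stacks 05E1)

`exists_smul_mem_minimalPrimes_comap`: for a finite ring map `φ : A → B`, a `B`-module `N`, and a prime
`q` of `B` minimal over the annihilator of `m ∈ N`, there is `y ∈ B` such that `φ⁻¹ q` is minimal over
the `A`-annihilator of `y • m`.
-/

set_option autoImplicit false

namespace Groth.Agent.Lib.Helper3.WAF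

/-- If `p` is minimal over `I` and `x ∈ p`, then `y * x ^ n ∈ I` for some `y ∉ p`. -/
theorem exists_mul_pow_mem_of_mem_minimalPrimes {R : Type*} [CommRing R] {I p : Ideal R}
    (hp : p ∈ I.minimalPrimes) {x : R} (hx : x ∈ p) :
    ∃ y, y ∉ p ∧ ∃ n : ℕ, y * x ^ n ∈ I := by
  have hpp : p.IsPrime := hp.1.1
  by_contra hcon
  push Not at hcon
  have hdisj : Disjoint (I : Set R) ((p.primeCompl ⊔ Submonoid.powers x : Submonoid R) : Set R) := by
    rw [Set.disjoint_left]
    intro a haI haS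
    obtain ⟨y, hy, z, ⟨n, rfl⟩, rfl⟩ := Submonoid.mem_sup.mp haS
    exact hcon y hy n haI
  obtain ⟨Q, hQ, hIQ, hQS⟩ := Ideal.exists_le_prime_disjoint I _ hdisj
  have hQp : Q ≤ p := by
    intro a haQ
    by_contra hap
    exact Set.disjoint_left.mp hQS haQ
      ((le_sup_left : p.primeCompl ≤ p.primeCompl ⊔ Submonoid.powers x) hap)
  have hpQ : p ≤ Q := hp.2 ⟨hQ, hIQ⟩ hQp
  exact Set.disjoint_left.mp hQS (hpQ hx)
    ((le_sup_right : Submonoid.powers x ≤ p.primeCompl ⊔ Submonoid.powers x)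
      (Submonoid.mem_powers x))

theorem exists_smul_mem_minimalPrimes_comap {A B : Type*} [CommRing A] [CommRing B] (φ : A →+* B)
    (hφ : φ.Finite) {N : Type*} [AddCommGroup N] [Module B N] (m : N) (q : Ideal B)
    (hq : q ∈ Ideal.minimalPrimes (LinearMap.ker (LinearMap.toSpanSingleton B N m))) :
    ∃ y : B, Ideal.comap φ q ∈
      Ideal.minimalPrimes (Ideal.comap φ (LinearMap.ker (LinearMap.toSpanSingleton B N (y • m)))) := by
  classical
  letI : Algebra A B := φ.toAlgebra
  haveI : Module.Finite A B := hφ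
  haveI : Algebra.IsIntegral A B := Algebra.IsIntegral.of_finite A B
  have hqprime : q.IsPrime := hq.1.1
  set J : Ideal B := LinearMap.ker (LinearMap.toSpanSingleton B N m) with hJ
  have hJmem : ∀ b : B, b ∈ J ↔ b • m = 0 := fun b => by
    rw [hJ, LinearMap.mem_ker, LinearMap.toSpanSingleton_apply]
  set p : Ideal A := Ideal.comap φ q with hp
  have hpprime : p.IsPrime := Ideal.comap_isPrime φ q
  have hfin : (p.primesOver B).Finite := Algebra.QuasiFinite.finite_primesOver p
  set T : Finset (Ideal B) := hfin.toFinset.erase q with hT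
  have hTmem : ∀ Q : Ideal B, Q ∈ T ↔ Q ≠ q ∧ Q.IsPrime ∧ Q.LiesOver p := by
    intro Q
    rw [hT, Finset.mem_erase, Set.Finite.mem_toFinset]
    rfl
  have havoid : ∃ x ∈ q, ∀ Q ∈ T, x ∉ Q := by
    by_contra hcon
    push Not at hcon
    have hsub : (q : Set B) ⊆ ⋃ Q ∈ (T : Set (Ideal B)), ((fun Q : Ideal B => Q) Q : Set B) := by
      intro x hx
      obtain ⟨Q, hQ, hxQ⟩ := hcon x hx
      exact Set.mem_biUnion (Finset.mem_coe.mpr hQ) hxQ
    rw [Ideal.subset_union_prime (f := fun Q : Ideal B => Q) q q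
      (fun Q hQ _ _ => ((hTmem Q).mp hQ).2.1)] at hsub
    obtain ⟨Q, hQ, hqQ⟩ := hsub
    obtain ⟨hne, hQprime, hQover⟩ := (hTmem Q).mp hQ
    apply hne
    by_contra hneq
    have hlt : q < Q := lt_of_le_of_ne hqQ (fun h => hneq h.symm)
    have h1 := Ideal.IsIntegral.comap_lt_comap (R := A) hlt
    have h2 : Ideal.comap (algebraMap A B) Q = p := hQover.over.symm
    rw [h2] at h1
    exact lt_irrefl _ h1
  obtain ⟨x, hxq, hxT⟩ := havoid
  obtain ⟨y, hyq, t, hyt⟩ := exists_mul_pow_mem_of_mem_minimalPrimes hq hxq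
  refine ⟨y, ?_⟩
  set K : Ideal A := Ideal.comap φ (LinearMap.ker (LinearMap.toSpanSingleton B N (y • m))) with hK
  have hKmem : ∀ a : A, a ∈ K ↔ (φ a * y) • m = 0 := fun a => by
    rw [hK, Ideal.mem_comap, LinearMap.mem_ker, LinearMap.toSpanSingleton_apply, smul_smul]
  refine ⟨⟨hpprime, ?_⟩, ?_⟩
  · intro a ha
    rw [hKmem] at ha
    have h1 : φ a * y ∈ q := hq.1.2 ((hJmem _).mpr ha)
    rcases hqprime.mem_or_mem h1 with h | h
    · exact h
    · exact absurd h hyq
  · rintro P ⟨hP, hKP⟩ hPp a ha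
    have haq : φ a ∈ q := ha
    obtain ⟨z, hzq, n, hzn⟩ := exists_mul_pow_mem_of_mem_minimalPrimes hq haq
    set K' : Ideal B := LinearMap.ker (LinearMap.toSpanSingleton B N ((φ a ^ n * y) • m)) with hK'
    have hK'mem : ∀ b : B, b ∈ K' ↔ (b * (φ a ^ n * y)) • m = 0 := fun b => by
      rw [hK', LinearMap.mem_ker, LinearMap.toSpanSingleton_apply, smul_smul]
    have hz : z ∈ K' := by
      rw [hK'mem]
      have e : z * (φ a ^ n * y) = y * (z * φ a ^ n) := by ring
      rw [e, mul_smul, (hJmem _).mp hzn, smul_zero]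
    have hx : x ^ t ∈ K' := by
      rw [hK'mem]
      have e : x ^ t * (φ a ^ n * y) = φ a ^ n * (y * x ^ t) := by ring
      rw [e, mul_smul, (hJmem _).mp hyt, smul_zero]
    have hnot : ¬ Ideal.comap (algebraMap A B) K' ≤ p := by
      intro hle
      obtain ⟨Q, hK'Q, hQprime, hQp⟩ := Ideal.exists_ideal_over_prime_of_isIntegral p K' hle
      by_cases hQq : Q = q
      · exact hzq (hQq ▸ hK'Q hz)
      · have hQT : Q ∈ T := (hTmem Q).mpr ⟨hQq, hQprime, ⟨hQp.symm⟩⟩
        exact hxT Q hQT (hQprime.mem_of_pow_mem t (hK'Q hx))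
    obtain ⟨d, hdK', hdp⟩ := SetLike.not_le_iff_exists.mp hnot
    have hdK : d * a ^ n ∈ K := by
      rw [hKmem, map_mul, map_pow]
      have h3 := (hK'mem _).mp hdK'
      have e : φ d * φ a ^ n * y = algebraMap A B d * (φ a ^ n * y) := by
        change φ d * φ a ^ n * y = φ d * (φ a ^ n * y)
        ring
      rw [e]
      exact h3
    have h4 : d * a ^ n ∈ P := hKP hdK
    rcases hP.mem_or_mem h4 with h | h
    · exact absurd (hPp h) hdp
    · exact hP.mem_of_pow_mem n h

end Groth.Agent.Lib.Helper3.WAF
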