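import Mathlib.AlgebraicGeometry.Morphisms.Flat
import Mathlib.AlgebraicGeometry.Morphisms.FlatDescent
import Mathlib.RingTheory.Flat.FaithfullyFlat.Algebra

/-!
# Descent of flatness along a faithfully flat map on the source side

If `R → S → T` with `S → T` faithfully flat and `R → T` flat, then `R → S` is flat.
Scheme version: if `f : X ⟶ Y` is flat and surjective and `f ≫ h` is flat then `h` is flat.
-/

set_option autoImplicit false
universe u

namespace Groth.Agent.Lib.Helper3

open TensorProduct

theorem flat_of_faithfullyFlat_of_flat_comp (R S T : Type*) [CommRing R] [CommRing S] [CommRing T]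
    [Algebra R S] [Algebra S T] [Algebra R T] [IsScalarTower R S T]
    [Module.FaithfullyFlat S T] [Module.Flat R T] : Module.Flat R S := by
  rw [Module.Flat.iff_lTensor_preserves_injective_linearMap]
  intro N P _ _ _ _ f hf
  have h1 : Function.Injective (LinearMap.lTensor T f) :=
    Module.Flat.lTensor_preserves_injective_linearMap f hf
  have h2 := TensorProduct.AlgebraTensorModule.lTensor_comp_cancelBaseChange (R := R) (A := S) (B := S)
    (M := T) f
  have h3 : Function.Injective
      (TensorProduct.AlgebraTensorModule.lTensor S T (TensorProduct.AlgebraTensorModule.lTensor S S f)) := by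
    have : Function.Injective ((TensorProduct.AlgebraTensorModule.cancelBaseChange R S S T P).toLinearMap ∘ₗ
        TensorProduct.AlgebraTensorModule.lTensor S T (TensorProduct.AlgebraTensorModule.lTensor S S f)) := by
      rw [← h2]
      simp only [LinearMap.coe_comp, LinearEquiv.coe_coe]
      exact Function.Injective.comp h1 (LinearEquiv.injective _)
    simpa using this
  have h4 : Function.Injective (TensorProduct.AlgebraTensorModule.lTensor S S f) := by
    rw [← Module.FaithfullyFlat.lTensor_injective_iff_injective S T]
    exact h3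
  exact h4

theorem ringHom_flat_of_comp_of_faithfullyFlat {R S T : Type*} [CommRing R] [CommRing S] [CommRing T]
    (φ : R →+* S) (ψ : S →+* T) (hψ : ψ.Flat) [IsLocalRing S] [IsLocalRing T] [IsLocalHom ψ]
    (hc : (ψ.comp φ).Flat) : φ.Flat := by
  algebraize [φ, ψ, ψ.comp φ]
  have : IsLocalHom (algebraMap S T) := by simpa [RingHom.algebraMap_toAlgebra]
  have : Module.FaithfullyFlat S T := Module.FaithfullyFlat.of_flat_of_isLocalHom
  exact flat_of_faithfullyFlat_of_flat_comp R S T

open AlgebraicGeometry CategoryTheory Limits

theorem flat_of_flat_comp_of_surjective {X Y W : Scheme.{u}} (f : X ⟶ Y) (h : Y ⟶ W)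
    [Flat f] [Surjective f] [Flat (f ≫ h)] : Flat h := by
  apply Flat.of_stalkMap
  intro y
  obtain ⟨x, rfl⟩ := f.surjective y
  have hcomp := Scheme.Hom.stalkMap_comp f h x
  have h1 : ((f ≫ h).stalkMap x).hom.Flat := Flat.stalkMap (f ≫ h) x
  have h2 : (f.stalkMap x).hom.Flat := Flat.stalkMap f x
  rw [hcomp] at h1
  exact ringHom_flat_of_comp_of_faithfullyFlat _ _ h2 h1

end Groth.Agent.Lib.Helper3
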