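import Mathlib.RingTheory.Henselian
import Mathlib.Algebra.Polynomial.Lifts
import Mathlib.RingTheory.LocalRing.RingHom.Basic

/-!
# Directed unions (element-wise filtered colimits) of henselian local rings
-/

namespace Groth.Agent.Lib.Helper3

open Polynomial

variable {A : Type*} [CommRing A] {J : Type*} [Nonempty J] (R : J → Type*) [∀ j, CommRing (R j)]
  (ι : ∀ j, R j →+* A)

/-- finitely many elements come from a common stage -/
theorem exists_stage_of_finset
    (P1 : ∀ x : A, ∃ j y, ι j y = x)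
    (P2 : ∀ j₁ j₂, ∃ (k : J) (t₁ : R j₁ →+* R k) (t₂ : R j₂ →+* R k), IsLocalHom t₁ ∧ IsLocalHom t₂ ∧
      (ι k).comp t₁ = ι j₁ ∧ (ι k).comp t₂ = ι j₂)
    (s : Finset A) : ∃ j, ∀ x ∈ s, x ∈ (ι j).range := by
  classical
  induction s using Finset.induction_on with
  | empty => exact ⟨Classical.arbitrary J, by simp⟩
  | insert a s _ ih =>
    obtain ⟨j₁, hj₁⟩ := ih
    obtain ⟨j₂, y, rfl⟩ := P1 a
    obtain ⟨k, t₁, t₂, -, -, h₁, h₂⟩ := P2 j₁ j₂
    refine ⟨k, fun x hx => ?_⟩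
    rcases Finset.mem_insert.mp hx with rfl | hx
    · exact ⟨t₂ y, by rw [← h₂]; rfl⟩
    · obtain ⟨z, rfl⟩ := hj₁ x hx
      exact ⟨t₁ z, by rw [← h₁]; rfl⟩

theorem henselianLocalRing_of_directed [∀ j, HenselianLocalRing (R j)]
    (P1 : ∀ x : A, ∃ j y, ι j y = x)
    (P2 : ∀ j₁ j₂, ∃ (k : J) (t₁ : R j₁ →+* R k) (t₂ : R j₂ →+* R k), IsLocalHom t₁ ∧ IsLocalHom t₂ ∧
      (ι k).comp t₁ = ι j₁ ∧ (ι k).comp t₂ = ι j₂)
    (P3 : ∀ j (y : R j), ι j y = 0 → ∃ (k : J) (t : R j →+* R k), IsLocalHom t ∧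
      (ι k).comp t = ι j ∧ t y = 0) : HenselianLocalRing A := by
  classical
  -- the structure maps are local
  have hL : ∀ j (y : R j), IsUnit (ι j y) → IsUnit y := by
    intro j y hy
    obtain ⟨w, hw⟩ := hy.exists_right_inv
    obtain ⟨j', z, rfl⟩ := P1 w
    obtain ⟨k, t₁, t₂, ht₁, ht₂, h₁, h₂⟩ := P2 j j'
    have h0 : ι k (t₁ y * t₂ z - 1) = 0 := by
      have e1 : ι k (t₁ y) = ι j y := by rw [← h₁]; rfl
      have e2 : ι k (t₂ z) = ι j' z := by rw [← h₂]; rfl
      rw [map_sub, map_mul, e1, e2, hw, map_one, sub_self]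
    obtain ⟨k', t, ht, -, htz⟩ := P3 k _ h0
    rw [map_sub, map_mul, map_one, sub_eq_zero] at htz
    have hu : IsUnit (t (t₁ y)) := IsUnit.of_mul_eq_one _ htz
    exact ht₁.map_nonunit _ (ht.map_nonunit _ hu)
  have hnt : Nontrivial A := by
    refine ⟨⟨0, 1, fun h => ?_⟩⟩
    let j := Classical.arbitrary J
    have h0 : ι j 1 = 0 := by rw [map_one]; exact h.symm
    obtain ⟨k, t, -, -, ht⟩ := P3 j 1 h0
    rw [map_one] at ht
    exact one_ne_zero ht
  have hloc : IsLocalRing A := by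
    apply IsLocalRing.of_isUnit_or_isUnit_one_sub_self
    intro a
    obtain ⟨j, y, rfl⟩ := P1 a
    rcases IsLocalRing.isUnit_or_isUnit_one_sub_self y with h | h
    · exact Or.inl (h.map _)
    · right
      have := h.map (ι j)
      rwa [map_sub, map_one] at this
  refine { hloc with is_henselian := ?_ }
  intro f hf a₀ h₁ h₂
  obtain ⟨j, hj⟩ := exists_stage_of_finset R ι P1 P2
    (insert a₀ ((Finset.range (f.natDegree + 1)).image f.coeff))
  have hlifts : f ∈ Polynomial.lifts (ι j) := by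
    rw [Polynomial.lifts_iff_coeff_lifts]
    intro n
    by_cases hn : n ≤ f.natDegree
    · exact hj _ (Finset.mem_insert_of_mem (Finset.mem_image.mpr
        ⟨n, Finset.mem_range.mpr (by omega), rfl⟩))
    · rw [Polynomial.coeff_eq_zero_of_natDegree_lt (by omega)]
      exact ⟨0, map_zero _⟩
  obtain ⟨q, hq1, -, hq3⟩ := Polynomial.lifts_and_natDegree_eq_and_monic hlifts hf
  obtain ⟨b₀, hb₀⟩ := hj a₀ (Finset.mem_insert_self _ _)
  have e1 : ι j (q.eval b₀) = f.eval a₀ := by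
    rw [← hq1, ← hb₀, Polynomial.eval_map_apply]
  have e2 : ι j (q.derivative.eval b₀) = f.derivative.eval a₀ := by
    rw [← hq1, ← hb₀, Polynomial.derivative_map, Polynomial.eval_map_apply]
  have hq0 : q.eval b₀ ∈ IsLocalRing.maximalIdeal (R j) := by
    rw [IsLocalRing.mem_maximalIdeal, mem_nonunits_iff]
    intro hu
    have := hu.map (ι j)
    rw [e1] at this
    exact (IsLocalRing.mem_maximalIdeal _).mp h₁ this
  have hq1' : IsUnit (q.derivative.eval b₀) := hL j _ (by rw [e2]; exact h₂)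
  obtain ⟨b, hb, hbb₀⟩ := HenselianLocalRing.is_henselian q hq3 b₀ hq0 hq1'
  refine ⟨ι j b, ?_, ?_⟩
  · rw [Polynomial.IsRoot.def, ← hq1, Polynomial.eval_map_apply, hb.eq_zero, map_zero]
  · rw [IsLocalRing.mem_maximalIdeal, mem_nonunits_iff, ← hb₀, ← map_sub]
    intro hu
    exact (IsLocalRing.mem_maximalIdeal _).mp hbb₀ (hL j _ hu)

end Groth.Agent.Lib.Helper3
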