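import Mathlib.Topology.Sheaves.Functors
import Mathlib.Topology.Sheaves.Stalks
import Mathlib.Topology.Sheaves.SheafCondition.UniqueGluing
import Mathlib.Topology.Sheaves.SheafCondition.Sites
import Mathlib.CategoryTheory.Sites.LocallyBijective
import Mathlib.CategoryTheory.Limits.Types.Filtered
import Mathlib.CategoryTheory.Limits.FunctorCategory.Basic
import Mathlib.Topology.Sheaves.Limits
import Mathlib.Data.Fintype.Order

/-! Directed colimits of sheaves of sets on a topological space: comparison of sections. -/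

set_option autoImplicit false
set_option linter.unusedVariables false
set_option linter.unusedSectionVars false
universe u
open CategoryTheory CategoryTheory.Limits TopologicalSpace Opposite

namespace Groth.Agent.Lib.Helper3.ShColim

variable {X : TopCat.{u}} {J : Type u} [Preorder J] [Nonempty J] [IsDirected J (· ≤ ·)]
  (F : J ⥤ X.Sheaf (Type u)) (c : Cocone F)

/-- Sections of the `i`-th sheaf. -/
abbrev Sec (i : J) (V : Opens X) : Type u := (F.obj i).1.obj (op V)
/-- Sections of the colimit sheaf. -/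
abbrev SecT (V : Opens X) : Type u := c.pt.1.obj (op V)

/-- Restriction. -/
def res (i : J) {V W : Opens X} (h : W ≤ V) (s : Sec F i V) : Sec F i W :=
  (F.obj i).1.map (homOfLE h).op s
/-- Restriction on the colimit sheaf. -/
def resT {V W : Opens X} (h : W ≤ V) (s : SecT F c V) : SecT F c W :=
  c.pt.1.map (homOfLE h).op s
/-- Transition maps. -/
def tr {i k : J} (h : i ≤ k) {V : Opens X} (s : Sec F i V) : Sec F k V :=
  (F.map (homOfLE h)).hom.app (op V) s
/-- Cocone maps. -/
def inc (i : J) {V : Opens X} (s : Sec F i V) : SecT F c V :=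
  (c.ι.app i).hom.app (op V) s

lemma map_map_eq (P : X.Presheaf (Type u)) {V W W' : Opens X} (h1 : W ≤ V) (h2 : W' ≤ W)
    (s : P.obj (op V)) :
    P.map (homOfLE h2).op (P.map (homOfLE h1).op s) = P.map (homOfLE (h2.trans h1)).op s := by
  have e : (homOfLE h1).op ≫ (homOfLE h2).op = (homOfLE (h2.trans h1)).op :=
    Subsingleton.elim _ _
  rw [← ConcreteCategory.comp_apply, ← Functor.map_comp, e]

lemma res_res (i : J) {V W W' : Opens X} (h1 : W ≤ V) (h2 : W' ≤ W) (s : Sec F i V) :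
    res F i h2 (res F i h1 s) = res F i (h2.trans h1) s :=
  map_map_eq _ h1 h2 s

lemma resT_resT {V W W' : Opens X} (h1 : W ≤ V) (h2 : W' ≤ W) (s : SecT F c V) :
    resT F c h2 (resT F c h1 s) = resT F c (h2.trans h1) s :=
  map_map_eq _ h1 h2 s

lemma tr_res {i k : J} (h : i ≤ k) {V W : Opens X} (hW : W ≤ V) (s : Sec F i V) :
    tr F h (res F i hW s) = res F k hW (tr F h s) :=
  NatTrans.naturality_apply (F.map (homOfLE h)).hom (homOfLE hW).op s

lemma inc_res (i : J) {V W : Opens X} (hW : W ≤ V) (s : Sec F i V) :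
    inc F c i (res F i hW s) = resT F c hW (inc F c i s) :=
  NatTrans.naturality_apply (c.ι.app i).hom (homOfLE hW).op s

lemma tr_tr {i k l : J} (h1 : i ≤ k) (h2 : k ≤ l) {V : Opens X} (s : Sec F i V) :
    tr F h2 (tr F h1 s) = tr F (h1.trans h2) s := by
  have e : F.map (homOfLE (h1.trans h2)) = F.map (homOfLE h1) ≫ F.map (homOfLE h2) := by
    rw [← F.map_comp]
    rfl
  have := congrArg (fun φ : F.obj i ⟶ F.obj l => φ.hom.app (op V) s) e
  exact this.symm

lemma inc_tr {i k : J} (h : i ≤ k) {V : Opens X} (s : Sec F i V) :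
    inc F c k (tr F h s) = inc F c i s :=
  congrArg (fun φ : F.obj i ⟶ c.pt => φ.hom.app (op V) s) (c.w (homOfLE h))

lemma sec_ext (G : X.Sheaf (Type u)) {ι : Type*} (W : ι → Opens X) (V : Opens X)
    (hW : ∀ a, W a ≤ V) (hcov : V ≤ ⨆ a, W a) (s t : G.1.obj (op V))
    (h : ∀ a, G.1.map (homOfLE (hW a)).op s = G.1.map (homOfLE (hW a)).op t) : s = t :=
  G.eq_of_locally_eq' W V (fun a => homOfLE (hW a)) hcov s t h

lemma sec_glue (G : X.Sheaf (Type u)) {ι : Type*} (W : ι → Opens X) (V : Opens X)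
    (hW : ∀ a, W a ≤ V) (hcov : V ≤ ⨆ a, W a) (sf : ∀ a, G.1.obj (op (W a)))
    (hcompat : ∀ a b, G.1.map (homOfLE (inf_le_left : W a ⊓ W b ≤ W a)).op (sf a) =
      G.1.map (homOfLE (inf_le_right : W a ⊓ W b ≤ W b)).op (sf b)) :
    ∃ s : G.1.obj (op V), ∀ a, G.1.map (homOfLE (hW a)).op s = sf a := by
  obtain ⟨s, hs, -⟩ := G.existsUnique_gluing' W V (fun a => homOfLE (hW a)) hcov sf
    (fun a b => hcompat a b)
  exact ⟨s, hs⟩

section PartI

/-- The diagram of underlying presheaves. -/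
noncomputable abbrev FP : J ⥤ X.Presheaf (Type u) :=
  F ⋙ sheafToPresheaf (Opens.grothendieckTopology X) (Type u)

/-- The comparison from the presheaf colimit to the sheaf colimit. -/
noncomputable def θ : colimit (FP F) ⟶ c.pt.obj :=
  colimit.desc (FP F) ((sheafToPresheaf _ _).mapCocone c)

lemma ι_θ (i : J) : colimit.ι (FP F) i ≫ θ F c = (c.ι.app i).hom :=
  colimit.ι_desc _ _

theorem W_θ (hc : IsColimit c) : (Opens.grothendieckTopology X).W (θ F c) := by
  intro Z hZ
  constructor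
  · intro g g' h
    have h' : θ F c ≫ g = θ F c ≫ g' := h
    have key : (ObjectProperty.homMk g : c.pt ⟶ ⟨Z, hZ⟩) = ObjectProperty.homMk g' := by
      apply hc.hom_ext
      intro i
      apply Sheaf.hom_ext
      show (c.ι.app i).hom ≫ g = (c.ι.app i).hom ≫ g'
      rw [← ι_θ, Category.assoc, Category.assoc, h']
    exact congrArg (fun φ => φ.hom) key
  · intro h
    let s : Cocone F :=
      { pt := ⟨Z, hZ⟩
        ι := { app := fun i => ObjectProperty.homMk (colimit.ι (FP F) i ≫ h)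
               naturality := fun i k f => by
                 apply Sheaf.hom_ext
                 show (F.map f).hom ≫ colimit.ι (FP F) k ≫ h = (colimit.ι (FP F) i ≫ h) ≫ 𝟙 _
                 rw [Category.comp_id, ← Category.assoc]
                 congr 1
                 exact colimit.w (FP F) f } }
    refine ⟨(hc.desc s).hom, ?_⟩
    show θ F c ≫ (hc.desc s).hom = h
    apply colimit.hom_ext
    intro i
    rw [← Category.assoc, ι_θ]
    exact congrArg (fun φ => φ.hom) (hc.fac s i)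

theorem locInj_θ (hc : IsColimit c) :
    Presheaf.IsLocallyInjective (Opens.grothendieckTopology X) (θ F c) :=
  (((Opens.grothendieckTopology X).W_iff_isLocallyBijective (θ F c)).1 (W_θ F c hc)).1

theorem locSurj_θ (hc : IsColimit c) :
    Presheaf.IsLocallySurjective (Opens.grothendieckTopology X) (θ F c) :=
  (((Opens.grothendieckTopology X).W_iff_isLocallyBijective (θ F c)).1 (W_θ F c hc)).2

theorem locInj (hc : IsColimit c) (V : Opens X) (i : J) (s t : Sec F i V)
    (h : inc F c i s = inc F c i t) (x : X) (hx : x ∈ V) :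
    ∃ (W : Opens X) (hW : W ≤ V) (k : J) (hik : i ≤ k), x ∈ W ∧
      tr F hik (res F i hW s) = tr F hik (res F i hW t) := by
  have hLI := locInj_θ F c hc
  have e : ∀ r : Sec F i V,
      (θ F c).app (op V) ((colimit.ι (FP F) i).app (op V) r) = inc F c i r := fun r =>
    congrArg (fun φ : (FP F).obj i ⟶ c.pt.obj => φ.app (op V) r) (ι_θ F c i)
  have hστ : (θ F c).app (op V) ((colimit.ι (FP F) i).app (op V) s) =
      (θ F c).app (op V) ((colimit.ι (FP F) i).app (op V) t) := by
    rw [e, e]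
    exact h
  have hmem := Presheaf.equalizerSieve_mem (Opens.grothendieckTopology X) (θ F c) _ _ hστ
  obtain ⟨W, f, hf, hxW⟩ := hmem x hx
  have hW : W ≤ V := leOfHom f
  have e2 : ∀ r : Sec F i V, (colimit (FP F)).map f.op ((colimit.ι (FP F) i).app (op V) r) =
      (colimit.ι (FP F) i).app (op W) (res F i hW r) := fun r =>
    (NatTrans.naturality_apply (colimit.ι (FP F) i) f.op r).symm
  have hf' : (colimit.ι (FP F) i).app (op W) (res F i hW s) =
      (colimit.ι (FP F) i).app (op W) (res F i hW t) := by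
    rw [← e2, ← e2]
    exact hf
  have hcolim := isColimitOfPreserves ((evaluation (Opens X)ᵒᵖ (Type u)).obj (op W))
    (colimit.isColimit (FP F))
  obtain ⟨k, f1, f2, hk⟩ := (Types.FilteredColimit.isColimit_eq_iff _ hcolim
    (i := i) (j := i) (xi := res F i hW s) (xj := res F i hW t)).1 hf'
  obtain rfl : f1 = f2 := Subsingleton.elim _ _
  exact ⟨W, hW, k, leOfHom f1, hxW, hk⟩

theorem locSurj (hc : IsColimit c) (V : Opens X) (s : SecT F c V) (x : X) (hx : x ∈ V) :
    ∃ (W : Opens X) (hW : W ≤ V) (i : J) (si : Sec F i W), x ∈ W ∧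
      inc F c i si = resT F c hW s := by
  have hLS := locSurj_θ F c hc
  have hmem := Presheaf.imageSieve_mem (Opens.grothendieckTopology X) (θ F c) (U := op V) s
  obtain ⟨W, f, ⟨σ, hσ⟩, hxW⟩ := hmem x hx
  have hcolim := isColimitOfPreserves ((evaluation (Opens X)ᵒᵖ (Type u)).obj (op W))
    (colimit.isColimit (FP F))
  obtain ⟨i, si, hsi⟩ := Types.jointly_surjective _ hcolim σ
  have hsi' : (colimit.ι (FP F) i).app (op W) si = σ := hsi
  refine ⟨W, leOfHom f, i, si, hxW, ?_⟩
  have e : (θ F c).app (op W) ((colimit.ι (FP F) i).app (op W) si) = inc F c i si :=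
    congrArg (fun φ : (FP F).obj i ⟶ c.pt.obj => φ.app (op W) si) (ι_θ F c i)
  rw [← e, hsi']
  exact hσ

end PartI

section PartII

/-- (E1) If the transition maps are injective, so are the cocone maps. -/
theorem inc_injective_of_tr_injective (hc : IsColimit c)
    (hinj : ∀ (i j : J) (h : i ⟶ j) (V : Opens X), Function.Injective ((F.map h).1.app (op V)))
    (V : Opens X) (i : J) (s t : Sec F i V) (h : inc F c i s = inc F c i t) : s = t := by
  choose W hW k hik hxW hWeq using fun x : V => locInj F c hc V i s t h x.1 x.2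
  refine sec_ext (F.obj i) W V hW ?_ s t ?_
  · intro x hx
    exact Opens.mem_iSup.2 ⟨⟨x, hx⟩, hxW ⟨x, hx⟩⟩
  · intro a
    exact hinj i (k a) (homOfLE (hik a)) (W a) (hWeq a)

/-- (E2) Over a quasi-compact open, sections with equal image become equal at a later stage. -/
theorem exists_tr_eq_of_isCompact (hc : IsColimit c) (V : Opens X) (hV : IsCompact (V : Set X))
    (i : J) (s t : Sec F i V) (h : inc F c i s = inc F c i t) :
    ∃ (k : J) (hik : i ≤ k), tr F hik s = tr F hik t := by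
  classical
  choose W hW k hik hxW hWeq using fun x : V => locInj F c hc V i s t h x.1 x.2
  obtain ⟨T, hT⟩ := hV.elim_finite_subcover (fun x : V => (W x : Set X)) (fun x => (W x).isOpen)
    (fun x hx => Set.mem_iUnion.2 ⟨⟨x, hx⟩, hxW ⟨x, hx⟩⟩)
  obtain ⟨l, hl⟩ := (insert i (T.image k)).exists_le
  have hil : i ≤ l := hl i (Finset.mem_insert_self _ _)
  have hkl : ∀ a : T, k a.1 ≤ l := fun a =>
    hl _ (Finset.mem_insert_of_mem (Finset.mem_image_of_mem k a.2))
  have hcov : V ≤ ⨆ a : T, W a.1 := by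
    intro x hx
    obtain ⟨a, haT, hxa⟩ := Set.mem_iUnion₂.1 (hT hx)
    exact Opens.mem_iSup.2 ⟨⟨a, haT⟩, hxa⟩
  refine ⟨l, hil, sec_ext (F.obj l) (fun a : T => W a.1) V (fun a => hW a.1) hcov _ _ ?_⟩
  intro a
  show res F l (hW a.1) (tr F hil s) = res F l (hW a.1) (tr F hil t)
  rw [← tr_res, ← tr_res, ← tr_tr F (hik a.1) (hkl a), ← tr_tr F (hik a.1) (hkl a), hWeq a.1]

variable (U : Opens X)

/-- Evaluation of sheaves at `U`. -/
noncomputable abbrev ev : X.Sheaf (Type u) ⥤ Type u :=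
  TopCat.Sheaf.forget (Type u) X ⋙ (evaluation (Opens X)ᵒᵖ (Type u)).obj (op U)

/-- The comparison map. -/
noncomputable abbrev Ψ : colimit (F ⋙ ev U) → (ev U).obj c.pt :=
  colimit.desc (F ⋙ ev U) ((ev U).mapCocone c)

lemma Ψ_ι (i : J) (s : Sec F i U) : Ψ F c U (colimit.ι (F ⋙ ev U) i s) = inc F c i s :=
  congrArg (fun φ : (F ⋙ ev U).obj i ⟶ (ev U).obj c.pt => φ s)
    (colimit.ι_desc ((ev U).mapCocone c) i)

lemma ι_tr {i k : J} (h : i ≤ k) (s : Sec F i U) :
    colimit.ι (F ⋙ ev U) k (tr F h s) = colimit.ι (F ⋙ ev U) i s :=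
  congrArg (fun φ : (F ⋙ ev U).obj i ⟶ colimit (F ⋙ ev U) => φ s)
    (colimit.w (F ⋙ ev U) (homOfLE h))

theorem Ψ_injective_of
    (hE : ∀ (i : J) (s t : Sec F i U), inc F c i s = inc F c i t →
      ∃ (k : J) (hik : i ≤ k), tr F hik s = tr F hik t) :
    Function.Injective (Ψ F c U) := by
  intro a b hab
  obtain ⟨i, s, rfl⟩ := Types.jointly_surjective' a
  obtain ⟨j, t, rfl⟩ := Types.jointly_surjective' b
  obtain ⟨k, hik, hjk⟩ := exists_ge_ge i j
  rw [← ι_tr F U hik s, ← ι_tr F U hjk t] at hab ⊢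
  rw [Ψ_ι, Ψ_ι] at hab
  obtain ⟨l, hkl, hl⟩ := hE k _ _ hab
  rw [← ι_tr F U hkl (tr F hik s), ← ι_tr F U hkl (tr F hjk t), hl]

theorem Ψ_surjective_of
    (h : ∀ s : SecT F c U, ∃ (i : J) (s' : Sec F i U), inc F c i s' = s) :
    Function.Surjective (Ψ F c U) := by
  intro s
  obtain ⟨i, s', hs'⟩ := h s
  exact ⟨colimit.ι (F ⋙ ev U) i s', (Ψ_ι F c U i s').trans hs'⟩

/-- (3) surjectivity. -/
theorem exists_inc_eq_of_compact_inj (hc : IsColimit c)
    (hinj : ∀ (i j : J) (h : i ⟶ j) (V : Opens X), Function.Injective ((F.map h).1.app (op V)))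
    (hU : IsCompact (U : Set X)) (s : SecT F c U) :
    ∃ (i : J) (s' : Sec F i U), inc F c i s' = s := by
  classical
  choose W hW k sk hxW hsk using fun x : U => locSurj F c hc U s x.1 x.2
  obtain ⟨T, hT⟩ := hU.elim_finite_subcover (fun x : U => (W x : Set X)) (fun x => (W x).isOpen)
    (fun x hx => Set.mem_iUnion.2 ⟨⟨x, hx⟩, hxW ⟨x, hx⟩⟩)
  obtain ⟨l, hl⟩ := (T.image k).exists_le
  have hkl : ∀ a : T, k a.1 ≤ l := fun a => hl _ (Finset.mem_image_of_mem k a.2)
  have hcov : U ≤ ⨆ a : T, W a.1 := by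
    intro x hx
    obtain ⟨a, haT, hxa⟩ := Set.mem_iUnion₂.1 (hT hx)
    exact Opens.mem_iSup.2 ⟨⟨a, haT⟩, hxa⟩
  let sf : ∀ a : T, Sec F l (W a.1) := fun a => tr F (hkl a) (sk a.1)
  have hsf : ∀ a : T, inc F c l (sf a) = resT F c (hW a.1) s := fun a => by
    rw [inc_tr]
    exact hsk a.1
  have hcompat : ∀ a b : T, res F l (inf_le_left : W a.1 ⊓ W b.1 ≤ W a.1) (sf a) =
      res F l (inf_le_right : W a.1 ⊓ W b.1 ≤ W b.1) (sf b) := by
    intro a b
    apply inc_injective_of_tr_injective F c hc hinj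
    rw [inc_res, inc_res, hsf, hsf, resT_resT, resT_resT]
  obtain ⟨s', hs'⟩ := sec_glue (F.obj l) (fun a : T => W a.1) U (fun a => hW a.1) hcov sf hcompat
  refine ⟨l, s', sec_ext c.pt (fun a : T => W a.1) U (fun a => hW a.1) hcov _ _ ?_⟩
  intro a
  show resT F c (hW a.1) (inc F c l s') = resT F c (hW a.1) s
  rw [← inc_res, ← hsf a]
  exact congrArg _ (hs' a)

/-- The refinement hypothesis of (4). -/
def Refinable : Prop :=
  ∀ 𝒱 : Set (Opens X), (⨆ V ∈ 𝒱, V) = U →
    ∃ (m : ℕ) (W : Fin m → Opens X), (∀ j, ∃ V ∈ 𝒱, W j ≤ V) ∧ (⨆ j, W j) = U ∧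
      ∀ j j', IsCompact ((W j ⊓ W j' : Opens X) : Set X)

theorem isCompact_of_refinable (href : Refinable U) : IsCompact (U : Set X) := by
  obtain ⟨m, W, -, hWU, hWc⟩ := href {U} (by simp)
  have hU : (U : Set X) = ⋃ j, (W j : Set X) := by
    rw [← hWU]
    simp
  rw [hU]
  exact isCompact_iUnion fun j => by simpa using hWc j j

/-- (4) surjectivity. -/
theorem exists_inc_eq_of_refinable (hc : IsColimit c) (href : Refinable U) (s : SecT F c U) :
    ∃ (i : J) (s' : Sec F i U), inc F c i s' = s := by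
  let 𝒱 : Set (Opens X) :=
    {V | ∃ hV : V ≤ U, ∃ (i : J) (si : Sec F i V), inc F c i si = resT F c hV s}
  have h𝒱 : (⨆ V ∈ 𝒱, V) = U := by
    apply le_antisymm
    · refine iSup₂_le fun V hV => ?_
      obtain ⟨h, -⟩ := hV
      exact h
    · intro x hx
      obtain ⟨W, hW, i, si, hxW, hsi⟩ := locSurj F c hc U s x hx
      exact Opens.mem_iSup.2 ⟨W, Opens.mem_iSup.2 ⟨⟨hW, i, si, hsi⟩, hxW⟩⟩
  obtain ⟨m, W, hWV, hWU, hWc⟩ := href 𝒱 h𝒱
  have hWle : ∀ j, W j ≤ U := fun j => (le_iSup W j).trans hWU.le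
  have hdata : ∀ j, ∃ (i : J) (sj : Sec F i (W j)), inc F c i sj = resT F c (hWle j) s := by
    intro j
    obtain ⟨V, ⟨hV, i, si, hsi⟩, hWjV⟩ := hWV j
    refine ⟨i, res F i hWjV si, ?_⟩
    rw [inc_res, hsi, resT_resT]
  choose k sk hsk using hdata
  obtain ⟨l, hl⟩ := Finite.exists_le k
  obtain ⟨sf, hsf⟩ : ∃ sf : ∀ j, Sec F l (W j),
      ∀ j, inc F c l (sf j) = resT F c (hWle j) s :=
    ⟨fun j => tr F (hl j) (sk j), fun j => by
      rw [inc_tr]
      exact hsk j⟩
  have hpair : ∀ p : Fin m × Fin m, ∃ (n : J) (hln : l ≤ n),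
      tr F hln (res F l (inf_le_left : W p.1 ⊓ W p.2 ≤ W p.1) (sf p.1)) =
      tr F hln (res F l (inf_le_right : W p.1 ⊓ W p.2 ≤ W p.2) (sf p.2)) := by
    intro p
    apply exists_tr_eq_of_isCompact F c hc _ (hWc p.1 p.2)
    rw [inc_res, inc_res, hsf, hsf, resT_resT, resT_resT]
  choose n hln hn using hpair
  obtain ⟨N, hN⟩ := Finite.exists_le n
  obtain ⟨N', hNN', hlN'⟩ := exists_ge_ge N l
  let sf' : ∀ j, Sec F N' (W j) := fun j => tr F hlN' (sf j)
  have hcompat : ∀ a b, res F N' (inf_le_left : W a ⊓ W b ≤ W a) (sf' a) =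
      res F N' (inf_le_right : W a ⊓ W b ≤ W b) (sf' b) := by
    intro a b
    have hnN' : n (a, b) ≤ N' := (hN (a, b)).trans hNN'
    have h1 : tr F (hln (a, b)) (res F l (inf_le_left : W a ⊓ W b ≤ W a) (sf a)) =
        tr F (hln (a, b)) (res F l (inf_le_right : W a ⊓ W b ≤ W b) (sf b)) := hn (a, b)
    show res F N' _ (tr F hlN' (sf a)) = res F N' _ (tr F hlN' (sf b))
    rw [← tr_res, ← tr_res, ← tr_tr F (hln (a, b)) hnN', ← tr_tr F (hln (a, b)) hnN', h1]
  have hcov : U ≤ ⨆ j, W j := hWU.ge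
  obtain ⟨s', hs'⟩ := sec_glue (F.obj N') W U hWle hcov sf' hcompat
  refine ⟨N', s', sec_ext c.pt W U hWle hcov _ _ ?_⟩
  intro j
  show resT F c (hWle j) (inc F c N' s') = resT F c (hWle j) s
  rw [← inc_res, ← hsf j, ← inc_tr F c hlN' (sf j)]
  exact congrArg _ (hs' j)

/-- The full comparison statement. -/
theorem main (hc : IsColimit c) :
    ((∀ (i j : J) (h : i ⟶ j) (V : Opens X), Function.Injective ((F.map h).1.app (op V))) →
      Function.Injective (Ψ F c U)) ∧
    (IsCompact (U : Set X) → Function.Injective (Ψ F c U)) ∧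
    (IsCompact (U : Set X) →
      (∀ (i j : J) (h : i ⟶ j) (V : Opens X), Function.Injective ((F.map h).1.app (op V))) →
      Function.Bijective (Ψ F c U)) ∧
    (Refinable U → Function.Bijective (Ψ F c U)) := by
  have h1 : (∀ (i j : J) (h : i ⟶ j) (V : Opens X),
      Function.Injective ((F.map h).1.app (op V))) → Function.Injective (Ψ F c U) := fun hinj =>
    Ψ_injective_of F c U (fun i s t h =>
      ⟨i, le_rfl, congrArg _ (inc_injective_of_tr_injective F c hc hinj U i s t h)⟩)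
  have h2 : IsCompact (U : Set X) → Function.Injective (Ψ F c U) := fun hU =>
    Ψ_injective_of F c U (fun i s t h => exists_tr_eq_of_isCompact F c hc U hU i s t h)
  refine ⟨h1, h2, fun hU hinj => ⟨h1 hinj, ?_⟩, fun href => ⟨?_, ?_⟩⟩
  · exact Ψ_surjective_of F c U (exists_inc_eq_of_compact_inj F c U hc hinj hU)
  · exact h2 (isCompact_of_refinable U href)
  · exact Ψ_surjective_of F c U (exists_inc_eq_of_refinable F c U hc href)

end PartII

end Groth.Agent.Lib.Helper3.ShColim
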