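import Groth.Agent.Lib.Helper3.InvRestrict

/-!
# Morphisms out of a tensor product of modules from bilinear pairings of sections
-/

set_option autoImplicit false
universe u
open CategoryTheory CategoryTheory.Limits AlgebraicGeometry TopologicalSpace Opposite
open Scheme.Modules TensorProduct MonoidalCategory

namespace Groth.Agent.Lib.Helper3.TensorDesc

open QCSec InvGen InvTensor InvMonoidal InvRestrict

variable {X : Scheme.{u}}

/-- a bilinear pairing of sheaves of modules, given on sections -/
structure Pairing (M N P : X.Modules) where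
  toFun : ∀ U : X.Opens, Γ(M, U) → Γ(N, U) → Γ(P, U)
  add_left : ∀ (U : X.Opens) (m m' : Γ(M, U)) (n : Γ(N, U)),
    toFun U (m + m') n = toFun U m n + toFun U m' n
  add_right : ∀ (U : X.Opens) (m : Γ(M, U)) (n n' : Γ(N, U)),
    toFun U m (n + n') = toFun U m n + toFun U m n'
  smul_left : ∀ (U : X.Opens) (a : Γ(X, U)) (m : Γ(M, U)) (n : Γ(N, U)),
    toFun U (a • m) n = a • toFun U m n
  smul_right : ∀ (U : X.Opens) (a : Γ(X, U)) (m : Γ(M, U)) (n : Γ(N, U)),
    toFun U m (a • n) = a • toFun U m n
  map_res : ∀ {U V : X.Opens} (h : V ≤ U) (m : Γ(M, U)) (n : Γ(N, U)),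
    res P h (toFun U m n) = toFun V (res M h m) (res N h n)

variable {M N P : X.Modules}

/-- the morphism of presheaves of modules defined by a pairing -/
noncomputable def Pairing.pre (B : Pairing M N P) :
    CohB1.toPMod M ⊗ CohB1.toPMod N ⟶ CohB1.toPMod P where
  app V := ModuleCat.MonoidalCategory.tensorLift
    (fun (m : (CohB1.toPMod M).obj V) (n : (CohB1.toPMod N).obj V) =>
      (show (CohB1.toPMod P).obj V from B.toFun V.unop m n))
    (fun m₁ m₂ n => B.add_left _ m₁ m₂ n)
    (fun a m n => B.smul_left _ a m n)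
    (fun m n₁ n₂ => B.add_right _ m n₁ n₂)
    (fun a m n => B.smul_right _ a m n)
  naturality {V₁ V₂} f := by
    apply ModuleCat.MonoidalCategory.tensor_ext
    intro m n
    exact (B.map_res (leOfHom f.unop) m n).symm

/-- the morphism `M ⊗ N ⟶ P` defined by a pairing -/
noncomputable def Pairing.hom (B : Pairing M N P) : CohB1.tensorMod M N ⟶ P :=
  aMap B.pre ≫ counitHom P

theorem Pairing.hom_tm (B : Pairing M N P) (U : X.Opens) (m : Γ(M, U)) (n : Γ(N, U)) :
    B.hom.app U (tm M N U m n) = B.toFun U m n := by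
  rw [tm_eq_uu]
  change (counitHom P).app U ((aMap B.pre).app U (uu _ U _)) = _
  exact (congrArg ((counitHom P).app U) (aMap_uu B.pre U _)).trans (counit_uu _ U _)

end Groth.Agent.Lib.Helper3.TensorDesc
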