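import Mathlib.Topology.Spectral.ConstructibleTopology
import Mathlib.Topology.Spectral.Basic
import Mathlib.Topology.Constructible

/-! Basic facts on the constructible topology of a spectral space. -/

set_option autoImplicit false
universe u
open Set Topology

namespace Groth.Agent.Lib.Helper3.ConsTop

variable {X : Type u} [TopologicalSpace X]

lemma compactSpace_cons [CompactSpace X] [QuasiSober X] [PrespectralSpace X]
    [QuasiSeparatedSpace X] : @CompactSpace X (constructibleTopology X) :=
  @Function.Surjective.compactSpace (WithConstructibleTopology X) X _ (constructibleTopology X)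
    (WithTopology.ofTopology (t := constructibleTopology X))
    (WithTopology.continuous_ofTopology _) inferInstance (WithTopology.ofTopology_surjective _)

lemma isOpen_cons_of_isOpen [PrespectralSpace X] {s : Set X} (hs : IsOpen s) :
    IsOpen[constructibleTopology X] s := by
  obtain ⟨S, hS, rfl⟩ := PrespectralSpace.isTopologicalBasis.open_eq_sUnion hs
  exact @isOpen_sUnion X (constructibleTopology X) S
    (fun t ht => (hS ht).2.isOpen_constructibleTopology_of_isOpen (hS ht).1)

lemma isClosed_cons_of_isClosed [PrespectralSpace X] {s : Set X} (hs : IsClosed s) :
    IsClosed[constructibleTopology X] s := by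
  rw [← @isOpen_compl_iff X s (constructibleTopology X)]
  exact isOpen_cons_of_isOpen hs.isOpen_compl

lemma isClosed_cons_of_isCompact_isOpen {s : Set X} (hc : IsCompact s) (ho : IsOpen s) :
    IsClosed[constructibleTopology X] s := by
  rw [← @isOpen_compl_iff X s (constructibleTopology X)]
  exact IsCompact.isOpen_constructibleTopology_of_isClosed (by rwa [compl_compl])
    ho.isClosed_compl

end Groth.Agent.Lib.Helper3.ConsTop
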