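import Mathlib.Topology.Spectral.ConstructibleTopology
import Mathlib.Topology.Spectral.Basic
import Mathlib.Topology.Spectral.Hom
import Mathlib.Topology.Constructible
import Mathlib.Topology.Sober
import Groth.Agent.Lib.Helper3.ConsTop

/-! Spectral spaces: constructible topology is compact Hausdorff, spectral maps are continuous
for it, subsets closed in the constructible topology are spectral. -/

set_option autoImplicit false
universe u
open Set Topology Filter

namespace Groth.Agent.Lib.Helper3.SpecTop

open Groth.Agent.Lib.Helper3.ConsTop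

variable {X : Type u} [TopologicalSpace X]

lemma cons_le [PrespectralSpace X] :
    constructibleTopology X ≤ (inferInstance : TopologicalSpace X) :=
  fun _ hs => isOpen_cons_of_isOpen hs

lemma t2_cons [T0Space X] [PrespectralSpace X] : @T2Space X (constructibleTopology X) := by
  refine @T2Space.mk X (constructibleTopology X) fun x y hxy => ?_
  obtain ⟨U, hU, hne⟩ := exists_isOpen_xor_mem hxy
  rcases hne with ⟨hx, hy⟩ | ⟨hy, hx⟩
  · obtain ⟨V, ⟨hVo, hVc⟩, hxV, hVU⟩ :=
      PrespectralSpace.isTopologicalBasis.exists_subset_of_mem_open hx hU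
    exact ⟨V, Vᶜ, hVc.isOpen_constructibleTopology_of_isOpen hVo,
      IsCompact.isOpen_constructibleTopology_of_isClosed (by rwa [compl_compl]) hVo.isClosed_compl,
      hxV, fun h => hy (hVU h), disjoint_compl_right⟩
  · obtain ⟨V, ⟨hVo, hVc⟩, hyV, hVU⟩ :=
      PrespectralSpace.isTopologicalBasis.exists_subset_of_mem_open hy hU
    exact ⟨Vᶜ, V,
      IsCompact.isOpen_constructibleTopology_of_isClosed (by rwa [compl_compl]) hVo.isClosed_compl,
      hVc.isOpen_constructibleTopology_of_isOpen hVo,
      fun h => hx (hVU h), hyV, disjoint_compl_left⟩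

lemma continuous_cons {Y : Type u} [TopologicalSpace Y] {f : X → Y} (hf : IsSpectralMap f) :
    @Continuous X Y (constructibleTopology X) (constructibleTopology Y) f := by
  refine continuous_generateFrom_iff.2 fun s hs => ?_
  rcases hs with ⟨ho, hc⟩ | ⟨hcl, hc⟩
  · exact (hf.isCompact_preimage_of_isOpen ho hc).isOpen_constructibleTopology_of_isOpen
      (ho.preimage hf.continuous)
  · refine IsCompact.isOpen_constructibleTopology_of_isClosed (s := f ⁻¹' s) ?_
      (hcl.preimage hf.continuous)
    rw [← preimage_compl]
    exact hf.isCompact_preimage_of_isOpen hcl.isOpen_compl hc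

lemma isCompact_of_isClosed_cons [CompactSpace X] [QuasiSober X] [PrespectralSpace X]
    [QuasiSeparatedSpace X] {s : Set X} (hs : IsClosed[constructibleTopology X] s) :
    IsCompact s := by
  have h1 : @IsCompact X (constructibleTopology X) s :=
    @IsClosed.isCompact X (constructibleTopology X) s compactSpace_cons hs
  have h2 := @IsCompact.image X X (constructibleTopology X) _ s id h1 (continuous_id_of_le cons_le)
  rwa [Set.image_id] at h2

lemma isClopen_cons_of_isConstructible [CompactSpace X] {s : Set X} (hs : IsConstructible s) :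
    IsOpen[constructibleTopology X] s ∧ IsClosed[constructibleTopology X] s := by
  induction hs using IsConstructible.empty_union_induction with
  | open_retrocompact U hUopen hUcomp =>
    exact ⟨hUcomp.isCompact.isOpen_constructibleTopology_of_isOpen hUopen,
      isClosed_cons_of_isCompact_isOpen hUcomp.isCompact hUopen⟩
  | union s hs t ht hs' ht' =>
    let _ := constructibleTopology X
    exact ⟨hs'.1.union ht'.1, hs'.2.union ht'.2⟩
  | compl s hs hs' =>
    let _ := constructibleTopology X
    exact ⟨hs'.2.isOpen_compl, hs'.1.isClosed_compl⟩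


/-- A subset of a spectral space which is closed in the constructible topology is a spectral
space, and the inclusion is a spectral map. -/
theorem spectral_of_isClosed_cons [SpectralSpace X] {Z : Set X}
    (hZ : IsClosed[constructibleTopology X] Z) :
    SpectralSpace Z ∧ IsSpectralMap (Subtype.val : Z → X) := by
  have hcpt : ∀ U : Set X, IsClosed[constructibleTopology X] U →
      IsCompact ((Subtype.val : Z → X) ⁻¹' U) := by
    intro U hU
    rw [Topology.IsInducing.subtypeVal.isCompact_iff, Subtype.image_preimage_coe]
    refine isCompact_of_isClosed_cons ?_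
    let _ := constructibleTopology X
    exact hZ.inter hU
  have hqc : ∀ U : Set X, IsOpen U → IsCompact U → IsCompact ((Subtype.val : Z → X) ⁻¹' U) :=
    fun U ho hc => hcpt U (isClosed_cons_of_isCompact_isOpen hc ho)
  have hbasis : TopologicalSpace.IsTopologicalBasis
      (Set.preimage (Subtype.val : Z → X) '' {U : Set X | IsOpen U ∧ IsCompact U}) :=
    PrespectralSpace.isTopologicalBasis.isInducing Topology.IsInducing.subtypeVal
  have : CompactSpace Z := isCompact_iff_compactSpace.1 (isCompact_of_isClosed_cons hZ)
  have : PrespectralSpace Z := .of_isTopologicalBasis hbasis (by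
    rintro _ ⟨U, ⟨ho, hc⟩, rfl⟩
    exact hqc U ho hc)
  have : QuasiSeparatedSpace Z := by
    refine QuasiSeparatedSpace.of_isTopologicalBasis
      (b := fun U : {U : Set X // IsOpen U ∧ IsCompact U} => (Subtype.val : Z → X) ⁻¹' U.1) ?_ ?_
    · convert hbasis using 1
      ext V
      constructor
      · rintro ⟨⟨U, hU⟩, rfl⟩
        exact ⟨U, hU, rfl⟩
      · rintro ⟨U, hU, rfl⟩
        exact ⟨⟨U, hU⟩, rfl⟩
    · intro U V
      rw [← preimage_inter]
      exact hqc _ (U.2.1.inter V.2.1) (U.2.2.inter_of_isOpen V.2.2 U.2.1 V.2.1)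
  have : QuasiSober Z := by
    constructor
    intro T hTirr hTcl
    have hirr : IsIrreducible (closure ((Subtype.val : Z → X) '' T)) :=
      (hTirr.image _ continuous_subtype_val.continuousOn).closure
    obtain ⟨ξ, hξ⟩ := QuasiSober.sober hirr isClosed_closure
    have hξZ : ξ ∈ Z := by
      by_contra hξZ
      have hopen : IsOpen[constructibleTopology X] Zᶜ :=
        (@isOpen_compl_iff X Z (constructibleTopology X)).2 hZ
      have key : ∃ f : Set (Set X), f.Finite ∧ f ⊆ constructibleTopologySubbasis X ∧
          ξ ∈ ⋂₀ f ∧ ⋂₀ f ⊆ Zᶜ := by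
        have hb := @TopologicalSpace.isTopologicalBasis_of_subbasis X (constructibleTopology X)
          (constructibleTopologySubbasis X) rfl
        obtain ⟨B, ⟨f, ⟨hfin, hsub⟩, rfl⟩, hξB, hBZ⟩ :=
          @TopologicalSpace.IsTopologicalBasis.exists_subset_of_mem_open X
            (constructibleTopology X) _ hb ξ Zᶜ hξZ hopen
        exact ⟨f, hfin, hsub, hξB, hBZ⟩
      obtain ⟨f, hfin, hsub, hξf, hfZ⟩ := key
      have hO : IsOpen (⋂₀ {A ∈ f | IsOpen A}) :=
        (hfin.subset (sep_subset _ _)).isOpen_sInter (fun A hA => hA.2)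
      have hξO : ξ ∈ ⋂₀ {A ∈ f | IsOpen A} := fun A hA => hξf A hA.1
      have hξcl : ξ ∈ closure ((Subtype.val : Z → X) '' T) := hξ.mem
      obtain ⟨_, htO, ⟨t, htT, rfl⟩⟩ := mem_closure_iff.1 hξcl _ hO hξO
      refine hfZ (a := t.1) ?_ t.2
      intro A hA
      rcases hsub hA with ⟨ho, _⟩ | ⟨hcl, _⟩
      · exact htO A ⟨hA, ho⟩
      · have h1 : closure {ξ} ⊆ A :=
          hcl.closure_subset_iff.2 (singleton_subset_iff.2 (hξf A hA))
        apply h1
        rw [hξ.def]
        exact subset_closure ⟨t, htT, rfl⟩
    refine ⟨⟨ξ, hξZ⟩, ?_⟩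
    have himg : ((Subtype.val : Z → X) '' {⟨ξ, hξZ⟩}) = {ξ} := by simp
    show closure {(⟨ξ, hξZ⟩ : Z)} = T
    rw [Topology.IsInducing.subtypeVal.closure_eq_preimage_closure_image, himg, hξ.def,
      ← Topology.IsInducing.subtypeVal.closure_eq_preimage_closure_image, hTcl.closure_eq]
  exact ⟨⟨⟩, continuous_subtype_val, fun s ho hc => hqc s ho hc⟩

/-- A space embedded in a spectral space with image closed in the constructible topology is
spectral, and the embedding is a spectral map. -/
theorem spectral_of_isEmbedding {Y : Type*} [TopologicalSpace Y] [SpectralSpace X] {f : Y → X}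
    (hf : IsEmbedding f) (hr : IsClosed[constructibleTopology X] (range f)) :
    SpectralSpace Y ∧ IsSpectralMap f := by
  obtain ⟨h1, h2⟩ := spectral_of_isClosed_cons hr
  have : CompactSpace Y := hf.toHomeomorph.symm.compactSpace
  refine ⟨hf.toHomeomorph.isOpenEmbedding.spectralSpace, ?_⟩
  have : f = Subtype.val ∘ hf.toHomeomorph := rfl
  rw [this]
  exact h2.comp ⟨hf.toHomeomorph.continuous, fun s _ hc => hf.toHomeomorph.isCompact_preimage.2 hc⟩


/-- The set of generalizations of points of a compact subset of a prespectral space is the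
intersection of the quasi-compact opens containing it. -/
lemma generalizations_eq_sInter [PrespectralSpace X] {E : Set X} (hE : IsCompact E) :
    {x : X | ∃ e ∈ E, x ⤳ e} = ⋂₀ {U : Set X | IsOpen U ∧ IsCompact U ∧ E ⊆ U} := by
  ext x
  constructor
  · rintro ⟨e, he, hxe⟩ U ⟨hUo, _, hEU⟩
    exact hxe.mem_open hUo (hEU he)
  · intro hx
    by_contra hcon
    have hsub : E ⊆ (closure {x})ᶜ :=
      fun e he hmem => hcon ⟨e, he, specializes_iff_mem_closure.2 hmem⟩
    obtain ⟨U, hUc, hUo, hEU, hUsub⟩ :=
      PrespectralSpace.exists_isCompact_and_isOpen_between hE isClosed_closure.isOpen_compl hsub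
    exact hUsub (hx U ⟨hUo, hUc, hEU⟩) (subset_closure rfl)

lemma isClosed_cons_sInter_qc {S : Set (Set X)} (hS : ∀ s ∈ S, IsOpen s ∧ IsCompact s) :
    IsClosed[constructibleTopology X] (⋂₀ S) := by
  have h : ∀ U ∈ S, IsClosed[constructibleTopology X] U :=
    fun U hU => isClosed_cons_of_isCompact_isOpen (hS U hU).2 (hS U hU).1
  let _ := constructibleTopology X
  exact isClosed_sInter h


lemma isConstructible_preimage_of_isSpectralMap {Y : Type*} [TopologicalSpace Y]
    [QuasiSeparatedSpace X] [CompactSpace Y] {f : X → Y} (hf : IsSpectralMap f) {s : Set Y}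
    (hs : IsConstructible s) : IsConstructible (f ⁻¹' s) :=
  hs.preimage hf.continuous fun _ ho hr =>
    (hf.isCompact_preimage_of_isOpen ho hr.isCompact).isRetrocompact (ho.preimage hf.continuous)


lemma t2_cons_subtype [T0Space X] [PrespectralSpace X] (s : Set X) :
    @T2Space s (TopologicalSpace.induced Subtype.val (constructibleTopology X)) :=
  @T2Space.of_injective_continuous s X
    (TopologicalSpace.induced Subtype.val (constructibleTopology X)) (constructibleTopology X)
    t2_cons Subtype.val Subtype.val_injective continuous_induced_dom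

lemma compactSpace_cons_subtype [CompactSpace X] [QuasiSober X] [PrespectralSpace X]
    [QuasiSeparatedSpace X] {s : Set X} (hs : IsClosed[constructibleTopology X] s) :
    @CompactSpace s (TopologicalSpace.induced Subtype.val (constructibleTopology X)) :=
  (@isCompact_iff_compactSpace X (constructibleTopology X) s).1
    (@IsClosed.isCompact X (constructibleTopology X) s compactSpace_cons hs)

lemma continuous_cons_restrict {Y : Type u} [TopologicalSpace Y] {f : X → Y}
    (hf : IsSpectralMap f) {s : Set X} {t : Set Y} (h : MapsTo f s t) :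
    @Continuous s t (TopologicalSpace.induced Subtype.val (constructibleTopology X))
      (TopologicalSpace.induced Subtype.val (constructibleTopology Y)) (h.restrict f s t) :=
  @Continuous.restrict X Y (constructibleTopology X) (constructibleTopology Y) f s t h
    (continuous_cons hf)

end Groth.Agent.Lib.Helper3.SpecTop
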