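import Groth.Agent.Lib.Helper3.InvAmple

/-!
# Sums of sections of an invertible module (towards EGA II 4.5.4)
-/

set_option autoImplicit false
universe u
open CategoryTheory CategoryTheory.Limits AlgebraicGeometry TopologicalSpace Opposite
open Scheme.Modules TensorProduct

namespace Groth.Agent.Lib.Helper3.InvSum

open QCSec InvGen InvTensor InvTwist InvMonoidal InvCoh InvAmple

variable {X : Scheme.{u}}

theorem sec_zero {L : X.Modules} (U : X.Opens) :
    sec (0 : Coh.structureModule X ⟶ L) U = 0 := rfl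

theorem sec_sum {L : X.Modules} {ι : Type*} (F : Finset ι)
    (t : ι → (Coh.structureModule X ⟶ L)) (U : X.Opens) :
    sec (∑ i ∈ F, t i) U = ∑ i ∈ F, sec (t i) U := by
  classical
  induction F using Finset.induction_on with
  | empty => simp [sec_zero]
  | insert a F ha ih => rw [Finset.sum_insert ha, Finset.sum_insert ha, sec_add, ih]

/-- local coordinates of a finite family of sections of an invertible module -/
theorem exists_local_coords {L : X.Modules} (hL : PicF.IsInvertible L) {ι : Type*}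
    (F : Finset ι) (t : ι → (Coh.structureModule X ⟶ L)) (x : X) :
    ∃ (V : X.Opens) (f : ι → Γ(X, V)), x ∈ V ∧
      (∀ i, CohB1.genLocus L (t i) ⊓ V = X.basicOpen (f i)) ∧
      CohB1.genLocus L (∑ i ∈ F, t i) ⊓ V = X.basicOpen (∑ i ∈ F, f i) := by
  obtain ⟨V, e, hxV, hg⟩ := exists_isGen hL x
  choose f hf using fun i => (hg.self).exists_coord (sec (t i) V)
  refine ⟨V, f, hxV, fun i => genLocus_inf_eq_basicOpen (t i) hg (f i) (hf i).symm, ?_⟩
  apply genLocus_inf_eq_basicOpen _ hg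
  rw [sec_sum, Finset.sum_smul]
  exact Finset.sum_congr rfl (fun i _ => (hf i).symm)

/-- `X_{∑ t_i} ⊆ ⋃ X_{t_i}` -/
theorem exists_mem_genLocus_of_mem_genLocus_sum {L : X.Modules} (hL : PicF.IsInvertible L)
    {ι : Type*} (F : Finset ι) (t : ι → (Coh.structureModule X ⟶ L)) (x : X)
    (hx : x ∈ CohB1.genLocus L (∑ i ∈ F, t i)) : ∃ i ∈ F, x ∈ CohB1.genLocus L (t i) := by
  obtain ⟨V, f, hxV, hf, hs⟩ := exists_local_coords hL F t x
  have h1 : x ∈ X.basicOpen (∑ i ∈ F, f i) := hs ▸ ⟨hx, hxV⟩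
  rw [Scheme.mem_basicOpen _ _ _ hxV] at h1
  by_contra hcon
  push Not at hcon
  have h2 : ∀ i ∈ F, X.presheaf.germ V x hxV (f i) ∈
      IsLocalRing.maximalIdeal (X.presheaf.stalk x) := by
    intro i hi
    rw [IsLocalRing.mem_maximalIdeal, mem_nonunits_iff]
    intro hu
    apply hcon i hi
    have : x ∈ X.basicOpen (f i) := (Scheme.mem_basicOpen _ _ _ hxV).mpr hu
    rw [← hf i] at this
    exact this.1
  have h3 : X.presheaf.germ V x hxV (∑ i ∈ F, f i) ∈
      IsLocalRing.maximalIdeal (X.presheaf.stalk x) := by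
    rw [map_sum]
    exact Ideal.sum_mem _ h2
  exact (IsLocalRing.mem_maximalIdeal _).mp h3 h1

/-- a point lying in exactly one `X_{t_i}` lies in `X_{∑ t_i}` -/
theorem mem_genLocus_sum_of_unique {L : X.Modules} (hL : PicF.IsInvertible L)
    {ι : Type*} (F : Finset ι) (t : ι → (Coh.structureModule X ⟶ L)) (x : X)
    (i₀ : ι) (hi₀ : i₀ ∈ F) (hx : x ∈ CohB1.genLocus L (t i₀))
    (hne : ∀ i ∈ F, i ≠ i₀ → x ∉ CohB1.genLocus L (t i)) :
    x ∈ CohB1.genLocus L (∑ i ∈ F, t i) := by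
  classical
  obtain ⟨V, f, hxV, hf, hs⟩ := exists_local_coords hL F t x
  have h1 : IsUnit (X.presheaf.germ V x hxV (f i₀)) := by
    rw [← Scheme.mem_basicOpen _ _ _ hxV, ← hf i₀]
    exact ⟨hx, hxV⟩
  have h2 : X.presheaf.germ V x hxV (∑ i ∈ F.erase i₀, f i) ∈
      IsLocalRing.maximalIdeal (X.presheaf.stalk x) := by
    rw [map_sum]
    apply Ideal.sum_mem
    intro i hi
    rw [IsLocalRing.mem_maximalIdeal, mem_nonunits_iff]
    intro hu
    apply hne i (Finset.mem_of_mem_erase hi) (Finset.ne_of_mem_erase hi)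
    have : x ∈ X.basicOpen (f i) := (Scheme.mem_basicOpen _ _ _ hxV).mpr hu
    rw [← hf i] at this
    exact this.1
  have h3 : x ∈ X.basicOpen (∑ i ∈ F, f i) := by
    rw [Scheme.mem_basicOpen _ _ _ hxV, ← Finset.add_sum_erase F f hi₀, map_add]
    by_contra hnu
    have h4 : X.presheaf.germ V x hxV (f i₀) + X.presheaf.germ V x hxV (∑ i ∈ F.erase i₀, f i) ∈
        IsLocalRing.maximalIdeal (X.presheaf.stalk x) := by
      rw [IsLocalRing.mem_maximalIdeal, mem_nonunits_iff]
      exact hnu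
    have h5 := Ideal.sub_mem _ h4 h2
    rw [add_sub_cancel_right] at h5
    exact (IsLocalRing.mem_maximalIdeal _).mp h5 h1
  rw [← hs] at h3
  exact h3.1

/-- if all `X_{t_i}` are affine, so is `X_{∑ t_i}` -/
theorem isAffineOpen_genLocus_sum {L : X.Modules} (hL : PicF.IsInvertible L)
    {ι : Type*} (F : Finset ι) (t : ι → (Coh.structureModule X ⟶ L))
    (h : ∀ i ∈ F, IsAffineOpen (CohB1.genLocus L (t i))) :
    IsAffineOpen (CohB1.genLocus L (∑ i ∈ F, t i)) := by
  have hg : IsGen L (CohB1.genLocus L (∑ i ∈ F, t i)) (sec (∑ i ∈ F, t i) _) :=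
    isGen_genLocus _
  choose φ hφ using fun i => hg.self.exists_coord (sec (t i) (CohB1.genLocus L (∑ i ∈ F, t i)))
  have hsum : ∑ i ∈ F, φ i = 1 := by
    apply hg.self.smul_inj
    rw [Finset.sum_smul, one_smul, Finset.sum_congr rfl (fun i _ => hφ i)]
    exact (sec_sum F t _).symm
  apply isAffineOpen_of_isAffineOpen_basicOpen _ (φ '' (F : Set ι))
  · rw [Ideal.eq_top_iff_one, ← hsum]
    exact Ideal.sum_mem _ (fun i hi => Ideal.subset_span ⟨i, hi, rfl⟩)
  · rintro _ ⟨i, hi, rfl⟩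
    rw [← genLocus_inf_eq_basicOpen (t i) hg (φ i) (hφ i).symm, inf_comm]
    exact isAffineOpen_genLocus_inf hL _ (h i hi)

/-- a common degree for a finite family of opens `X_s` -/
theorem exists_common_degree_finite {L : X.Modules} (hL : PicF.IsInvertible L) {ι : Type*}
    [Fintype ι] (W : ι → X.Opens) (hW : ∀ i, W i ∈ SecLocus L) :
    ∃ d : ℕ, 0 < d ∧ ∀ i, ∃ t : Coh.structureModule X ⟶ CohB1.tensorPow L d,
      CohB1.genLocus _ t = W i := by
  classical
  choose n s hs using hW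
  refine ⟨∏ i, (n i + 1), Finset.prod_pos (fun i _ => Nat.succ_pos _), fun i => ?_⟩
  obtain ⟨k, hk⟩ : (n i + 1) ∣ ∏ i, (n i + 1) := Finset.dvd_prod_of_mem _ (Finset.mem_univ i)
  have hkpos : 0 < k := by
    rcases Nat.eq_zero_or_pos k with h0 | h0
    · exfalso
      rw [h0, Nat.mul_zero] at hk
      exact absurd hk (Finset.prod_pos (fun i _ => Nat.succ_pos _)).ne'
    · exact h0
  obtain ⟨k', rfl⟩ : ∃ k', k = k' + 1 := ⟨k - 1, by omega⟩
  refine ⟨castSec hk.symm (powSec (s i) (k' + 1)), ?_⟩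
  rw [genLocus_castSec, genLocus_powSec hL, hs i]

end Groth.Agent.Lib.Helper3.InvSum
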