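import Mathlib.Topology.Spectral.Prespectral
import Mathlib.Topology.QuasiSeparated
import Mathlib.Topology.Connected.Clopen

/-! Connected components of spectral-like spaces are intersections of clopen sets. -/

set_option autoImplicit false
universe u
open Set Topology

namespace Groth.Agent.Lib.Helper3.SpectralConn

variable {X : Type u} [TopologicalSpace X]

theorem connectedComponent_eq_sInter_isClopen
    [CompactSpace X] [PrespectralSpace X] [QuasiSeparatedSpace X] (x : X) :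
    connectedComponent x = ⋂₀ {Z : Set X | IsClopen Z ∧ x ∈ Z} := by
  set S := ⋂₀ {Z : Set X | IsClopen Z ∧ x ∈ Z} with hSdef
  have hxS : x ∈ S := mem_sInter.2 fun Z hZ => hZ.2
  have hScl : IsClosed S := isClosed_sInter fun Z hZ => hZ.1.1
  have hSi : S = ⋂ Z : {Z : Set X // IsClopen Z ∧ x ∈ Z}, (Z : Set X) := by
    rw [hSdef, sInter_eq_iInter]
    rfl
  have hne : Nonempty {Z : Set X // IsClopen Z ∧ x ∈ Z} := ⟨⟨univ, isClopen_univ, trivial⟩⟩
  have hdir : Directed (· ⊇ ·) (fun Z : {Z : Set X // IsClopen Z ∧ x ∈ Z} => (Z : Set X)) := by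
    intro Z₁ Z₂
    exact ⟨⟨Z₁ ∩ Z₂, Z₁.2.1.inter Z₂.2.1, Z₁.2.2, Z₂.2.2⟩, inter_subset_left, inter_subset_right⟩
  apply le_antisymm
  · intro y hy
    exact mem_sInter.2 fun Z hZ => hZ.1.connectedComponent_subset hZ.2 hy
  · refine IsPreconnected.subset_connectedComponent ?_ hxS
    rw [isPreconnected_iff_subset_of_fully_disjoint_closed hScl]
    intro u v hu hv hSuv huv
    -- B = S ∩ u, C = S ∩ v
    have hBc : IsCompact (S ∩ u) := (hScl.inter hu).isCompact
    have hCc : IsCompact (S ∩ v) := (hScl.inter hv).isCompact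
    obtain ⟨U, hUc, hUo, hBU, hUC⟩ := PrespectralSpace.exists_isCompact_and_isOpen_between hBc
      (hScl.inter hv).isOpen_compl (by
        rintro y ⟨hyS, hyu⟩ ⟨-, hyv⟩
        exact disjoint_left.1 huv hyu hyv)
    obtain ⟨V, hVc, hVo, hCV, hVB⟩ := PrespectralSpace.exists_isCompact_and_isOpen_between hCc
      (hScl.inter hu).isOpen_compl (by
        rintro y ⟨hyS, hyv⟩ ⟨-, hyu⟩
        exact disjoint_left.1 huv hyu hyv)
    have hSUV : S ⊆ U ∪ V := by
      intro y hy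
      rcases hSuv hy with h | h
      · exact Or.inl (hBU ⟨hy, h⟩)
      · exact Or.inr (hCV ⟨hy, h⟩)
    have hUVc : IsCompact (U ∩ V) := QuasiSeparatedSpace.inter_isCompact U V hUo hUc hVo hVc
    obtain ⟨Z', hZ'⟩ := hUVc.elim_directed_family_closed
      (fun Z : {Z : Set X // IsClopen Z ∧ x ∈ Z} => (Z : Set X)) (fun Z => Z.2.1.1) (by
        rw [← hSi, eq_empty_iff_forall_notMem]
        rintro y ⟨⟨hyU, hyV⟩, hyS⟩
        rcases hSuv hyS with h | h
        · exact hVB hyV ⟨hyS, h⟩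
        · exact hUC hyU ⟨hyS, h⟩) hdir
    obtain ⟨Z'', hZ''⟩ := ((hUo.union hVo).isClosed_compl.isCompact).elim_directed_family_closed
      (fun Z : {Z : Set X // IsClopen Z ∧ x ∈ Z} => (Z : Set X)) (fun Z => Z.2.1.1) (by
        rw [← hSi, eq_empty_iff_forall_notMem]
        rintro y ⟨hy, hyS⟩
        exact hy (hSUV hyS)) hdir
    -- Z₀ = Z' ∩ Z''
    have hZ₀ : IsClopen ((Z' : Set X) ∩ Z'') := Z'.2.1.inter Z''.2.1
    have hxZ₀ : x ∈ (Z' : Set X) ∩ Z'' := ⟨Z'.2.2, Z''.2.2⟩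
    have hZ₀UV : (Z' : Set X) ∩ Z'' ⊆ U ∪ V := by
      intro y hy
      by_contra h
      have : y ∈ (U ∪ V)ᶜ ∩ (Z'' : Set X) := ⟨h, hy.2⟩
      rw [hZ''] at this
      exact this
    have hZ₀d : ∀ y, y ∈ (Z' : Set X) ∩ Z'' → y ∈ U → y ∈ V → False := by
      intro y hy hyU hyV
      have : y ∈ U ∩ V ∩ (Z' : Set X) := ⟨⟨hyU, hyV⟩, hy.1⟩
      rw [hZ'] at this
      exact this
    have hUZ : IsClopen (U ∩ ((Z' : Set X) ∩ Z'')) := by
      refine ⟨?_, hUo.inter hZ₀.2⟩
      have : U ∩ ((Z' : Set X) ∩ Z'') = ((Z' : Set X) ∩ Z'') ∩ Vᶜ := by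
        ext y
        constructor
        · rintro ⟨hyU, hy⟩; exact ⟨hy, fun hyV => hZ₀d y hy hyU hyV⟩
        · rintro ⟨hy, hyV⟩
          rcases hZ₀UV hy with h | h
          · exact ⟨h, hy⟩
          · exact absurd h hyV
      rw [this]
      exact hZ₀.1.inter hVo.isClosed_compl
    have hVZ : IsClopen (V ∩ ((Z' : Set X) ∩ Z'')) := by
      refine ⟨?_, hVo.inter hZ₀.2⟩
      have : V ∩ ((Z' : Set X) ∩ Z'') = ((Z' : Set X) ∩ Z'') ∩ Uᶜ := by
        ext y
        constructor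
        · rintro ⟨hyV, hy⟩; exact ⟨hy, fun hyU => hZ₀d y hy hyU hyV⟩
        · rintro ⟨hy, hyU⟩
          rcases hZ₀UV hy with h | h
          · exact absurd h hyU
          · exact ⟨h, hy⟩
      rw [this]
      exact hZ₀.1.inter hUo.isClosed_compl
    rcases hZ₀UV hxZ₀ with hxU | hxV
    · left
      have hSU : S ⊆ U ∩ ((Z' : Set X) ∩ Z'') := sInter_subset_of_mem ⟨hUZ, hxU, hxZ₀⟩
      intro y hy
      rcases hSuv hy with h | h
      · exact h
      · exact absurd ⟨hy, h⟩ (hUC (hSU hy).1)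
    · right
      have hSV : S ⊆ V ∩ ((Z' : Set X) ∩ Z'') := sInter_subset_of_mem ⟨hVZ, hxV, hxZ₀⟩
      intro y hy
      rcases hSuv hy with h | h
      · exact absurd ⟨hy, h⟩ (hVB (hSV hy).1)
      · exact h

end Groth.Agent.Lib.Helper3.SpectralConn
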