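import Groth.Agent.Lib.Helper3.SecLoc
import Groth.Agent.Lib.Helper3.SecCoord
import Groth.Agent.Lib.Helper3.InvCoh

/-!
# Local generation data for sections of quasi-coherent modules on affine schemes
-/

set_option autoImplicit false
universe u
open CategoryTheory CategoryTheory.Limits AlgebraicGeometry TopologicalSpace Opposite
open Scheme.Modules

namespace Groth.Agent.Lib.Helper3.SecLocGen

open QCSec InvGen FreeBasis SecLoc SecCoord InvAmple

variable {X : Scheme.{u}}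

theorem isBasisAt_of_isGenAt {L : X.Modules} {V : X.Opens} {m : Γ(L, V)} (h : IsGenAt L V m) :
    IsBasisAt L V (fun _ : Fin 1 => m) := by
  have e : (fun a : Fin 1 → Γ(X, V) => ∑ i, a i • (fun _ : Fin 1 => m) i) =
      (fun c : Γ(X, V) => c • m) ∘ (fun a => a 0) := by
    funext a
    simp
  unfold IsBasisAt
  rw [e]
  exact Function.Bijective.comp h (Function.bijective_iff_has_inverse.mpr ⟨fun c _ => c,
    fun a => funext fun i => by rw [Subsingleton.elim i 0], fun c => rfl⟩)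

theorem isGenAt_of_isBasisAt {L : X.Modules} {V : X.Opens} {m : Γ(L, V)}
    (h : IsBasisAt L V (fun _ : Fin 1 => m)) : IsGenAt L V m := by
  have e : (fun c : Γ(X, V) => c • m) =
      (fun a : Fin 1 → Γ(X, V) => ∑ i, a i • (fun _ : Fin 1 => m) i) ∘ (fun c _ => c) := by
    funext c
    simp
  unfold IsGenAt
  rw [e]
  exact Function.Bijective.comp h (Function.bijective_iff_has_inverse.mpr ⟨fun a => a 0,
    fun c => rfl, fun a => funext fun i => by rw [Subsingleton.elim i 0]⟩)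

theorem isGen_of_isGenAt_affine (L : X.Modules) [L.IsQuasicoherent] {U : X.Opens}
    (hU : IsAffineOpen U) {m : Γ(L, U)} (h : IsGenAt L U m) : IsGen L U m := by
  have hb := isBasis_of_isBasisAt L hU (isBasisAt_of_isGenAt h)
  intro V hV
  exact isGenAt_of_isBasisAt (hb V hV)

theorem exists_data_of_mem_locus [IsAffine X] {L : X.Modules} [L.IsQuasicoherent] (s : Γ(L, ⊤))
    (x : X) (hx : x ∈ locus L s) :
    ∃ f : Γ(X, ⊤), x ∈ X.basicOpen f ∧
      (∀ m : Γ(L, ⊤), ∃ (k : ℕ) (r : Γ(X, ⊤)), f ^ k • m = r • s) ∧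
      (∀ r : Γ(X, ⊤), r • s = 0 → ∃ k : ℕ, f ^ k * r = 0) := by
  have hT : IsAffineOpen (⊤ : X.Opens) := isAffineOpen_top X
  obtain ⟨f, hfV, hxf⟩ := hT.exists_basicOpen_le ⟨x, hx⟩ trivial
  have hW : X.basicOpen f ≤ ⊤ := le_top
  have hgen : IsGenAt L (X.basicOpen f) (res L le_top s) := isGenAt_of_le L s hfV
  have hloc := isLocSec_of_isQuasicoherent L hT f (X.basicOpen f) rfl hW
  haveI := hT.isLocalization_basicOpen f
  have halg : ∀ r : Γ(X, ⊤), algebraMap Γ(X, ⊤) Γ(X, X.basicOpen f) r = rres X hW r := fun _ => rfl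
  refine ⟨f, hxf, ?_, ?_⟩
  · intro m
    obtain ⟨a, ha⟩ := hgen.exists_coord (res L hW m)
    obtain ⟨⟨r, t⟩, hrt⟩ := IsLocalization.surj (Submonoid.powers f) a
    obtain ⟨k, hk⟩ := t.2
    have hk' : f ^ k = (t : Γ(X, ⊤)) := hk
    have h0 : rres X hW (f ^ k) * a = rres X hW r := by
      rw [mul_comm, hk', ← halg, ← halg]
      exact hrt
    have h1 : res L hW (f ^ k • m - r • s) = 0 := by
      rw [res_sub, res_smul, res_smul, ← ha, smul_smul, h0, sub_self]
    obtain ⟨n, hn⟩ := hloc.inj _ h1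
    refine ⟨n + k, f ^ n * r, ?_⟩
    rw [smul_sub, sub_eq_zero] at hn
    rw [pow_add, mul_smul, hn, mul_smul]
  · intro r hr
    have h1 : rres X hW r • res L hW s = 0 := by
      rw [← res_smul, hr, res_zero]
    have h2 : rres X hW r = 0 := hgen.eq_zero h1
    rw [← halg] at h2
    obtain ⟨t, ht⟩ := (IsLocalization.map_eq_zero_iff (Submonoid.powers f)
      Γ(X, X.basicOpen f) r).mp h2
    obtain ⟨k, hk⟩ := t.2
    have hk' : f ^ k = (t : Γ(X, ⊤)) := hk
    exact ⟨k, by rw [hk']; exact ht⟩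

theorem isGen_of_data [IsAffine X] {L : X.Modules} [L.IsQuasicoherent] (s : Γ(L, ⊤))
    (f : Γ(X, ⊤))
    (h1 : ∀ m : Γ(L, ⊤), ∃ (k : ℕ) (r : Γ(X, ⊤)), f ^ k • m = r • s)
    (h2 : ∀ r : Γ(X, ⊤), r • s = 0 → ∃ k : ℕ, f ^ k * r = 0) :
    IsGen L (X.basicOpen f) (res L le_top s) := by
  have hT : IsAffineOpen (⊤ : X.Opens) := isAffineOpen_top X
  have hW : X.basicOpen f ≤ ⊤ := le_top
  have hloc := isLocSec_of_isQuasicoherent L hT f (X.basicOpen f) rfl hW
  haveI := hT.isLocalization_basicOpen f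
  have halg : ∀ r : Γ(X, ⊤), algebraMap Γ(X, ⊤) Γ(X, X.basicOpen f) r = rres X hW r := fun _ => rfl
  apply isGen_of_isGenAt_affine L (hT.basicOpen f)
  have hfu : IsUnit (rres X hW f) := by
    rw [← halg]
    exact IsLocalization.Away.algebraMap_isUnit f
  constructor
  · intro a b hab
    have h0 : (a - b) • res L hW s = 0 := by
      rw [sub_smul]
      exact sub_eq_zero.mpr hab
    suffices a - b = 0 from sub_eq_zero.mp this
    generalize a - b = c at h0
    obtain ⟨⟨r, t⟩, hrt⟩ := IsLocalization.surj (Submonoid.powers f) c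
    have h3 : res L hW (r • s) = 0 := by
      rw [res_smul, ← halg, ← hrt, mul_comm, mul_smul, h0, smul_zero]
    obtain ⟨n, hn⟩ := hloc.inj _ h3
    rw [← mul_smul] at hn
    obtain ⟨k, hk⟩ := h2 _ hn
    have h4 : algebraMap Γ(X, ⊤) Γ(X, X.basicOpen f) r = 0 := by
      rw [IsLocalization.map_eq_zero_iff (Submonoid.powers f)]
      refine ⟨⟨f ^ (k + n), ⟨k + n, rfl⟩⟩, ?_⟩
      show f ^ (k + n) * r = 0
      rw [pow_add, mul_assoc]
      exact hk
    have h5 : c * algebraMap Γ(X, ⊤) Γ(X, X.basicOpen f) (t : Γ(X, ⊤)) = 0 := hrt.trans h4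
    exact (IsUnit.mul_left_eq_zero (IsLocalization.map_units _ t)).mp h5
  · intro y
    obtain ⟨n, m, hm⟩ := hloc.surj y
    obtain ⟨k, r, hk⟩ := h1 m
    obtain ⟨u, hu⟩ := hfu.pow (k + n)
    refine ⟨↑u⁻¹ * rres X hW r, ?_⟩
    show (↑u⁻¹ * rres X hW r) • res L hW s = y
    rw [mul_smul, ← res_smul, ← hk, res_smul, hm, rres_pow, smul_smul, smul_smul, mul_assoc,
      ← pow_add, ← hu, Units.inv_mul, one_smul]

end Groth.Agent.Lib.Helper3.SecLocGen
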