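import Groth.Agent.Lib.Helper3.TensorDesc
import Groth.Agent.Lib.Helper3.PbTensor
import Groth.Prelude.Def_Twist2

/-!
# Basic sheaf-level API for Serre's twisting sheaves `O(n)` on `Proj`
-/

set_option autoImplicit false
universe u
open CategoryTheory CategoryTheory.Limits AlgebraicGeometry TopologicalSpace Opposite
open Scheme.Modules

namespace Groth.Agent.Lib.Helper3.TwistBasic

open QCSec InvGen

variable {R A : Type u} [CommRing R] [CommRing A] [Algebra R A] {𝒜 : ℕ → Submodule R A}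
  [GradedAlgebra 𝒜]

/-- the value of a section of `O(n)` at a point, in the localization at that point -/
def val {n : ℤ} {U : (Proj 𝒜).Opens} (t : Γ(Twist.twist 𝒜 n, U)) (x : U) : Twist.Loc 𝒜 x.1 :=
  ((show Twist.sectN (𝒜 := 𝒜) n (op U) from t).1 x).1

/-- the value of a function at a point, in the localization at that point -/
def fval {U : (Proj 𝒜).Opens} (c : Γ(Proj 𝒜, U)) (x : U) : Twist.Loc 𝒜 x.1 :=
  ((show Twist.O (𝒜 := 𝒜) (op U) from c).1 x).val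

theorem val_ext {n : ℤ} {U : (Proj 𝒜).Opens} {t t' : Γ(Twist.twist 𝒜 n, U)}
    (h : ∀ x, val t x = val t' x) : t = t' :=
  Subtype.ext (funext fun x => Subtype.ext (h x))

theorem fval_ext {U : (Proj 𝒜).Opens} {c c' : Γ(Proj 𝒜, U)}
    (h : ∀ x, fval c x = fval c' x) : c = c' :=
  Subtype.ext (funext fun x => HomogeneousLocalization.val_injective _ (h x))

theorem val_smul {n : ℤ} {U : (Proj 𝒜).Opens} (c : Γ(Proj 𝒜, U)) (t : Γ(Twist.twist 𝒜 n, U))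
    (x : U) : val (c • t) x = fval c x * val t x :=
  Twist.coe_smul_val n x.1 _ _

theorem val_add {n : ℤ} {U : (Proj 𝒜).Opens} (t t' : Γ(Twist.twist 𝒜 n, U)) (x : U) :
    val (t + t') x = val t x + val t' x := rfl

theorem val_zero {n : ℤ} {U : (Proj 𝒜).Opens} (x : U) :
    val (0 : Γ(Twist.twist 𝒜 n, U)) x = 0 := rfl

theorem val_res {n : ℤ} {U V : (Proj 𝒜).Opens} (h : V ≤ U) (t : Γ(Twist.twist 𝒜 n, U))
    (x : V) : val (res (Twist.twist 𝒜 n) h t) x = val t ⟨x.1, h x.2⟩ := rfl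

theorem fval_res {U V : (Proj 𝒜).Opens} (h : V ≤ U) (c : Γ(Proj 𝒜, U))
    (x : V) : fval (rres (Proj 𝒜) h c) x = fval c ⟨x.1, h x.2⟩ := rfl

theorem fval_one {U : (Proj 𝒜).Opens} (x : U) : fval (1 : Γ(Proj 𝒜, U)) x = 1 :=
  HomogeneousLocalization.val_one

theorem fval_zero {U : (Proj 𝒜).Opens} (x : U) : fval (0 : Γ(Proj 𝒜, U)) x = 0 :=
  HomogeneousLocalization.val_zero

theorem fval_mul {U : (Proj 𝒜).Opens} (c c' : Γ(Proj 𝒜, U)) (x : U) :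
    fval (c * c') x = fval c x * fval c' x :=
  HomogeneousLocalization.val_mul _ _

theorem fval_add {U : (Proj 𝒜).Opens} (c c' : Γ(Proj 𝒜, U)) (x : U) :
    fval (c + c') x = fval c x + fval c' x :=
  HomogeneousLocalization.val_add _ _


/-- `v` is locally a homogeneous fraction of degree `n` -/
def IsLocFrac (n : ℤ) {U : (Proj 𝒜).Opens} (v : ∀ x : U, Twist.Loc 𝒜 x.1) : Prop :=
  ∀ x : U, ∃ (V : (Proj 𝒜).Opens) (_ : x.1 ∈ V) (hVU : V ≤ U) (i j : ℕ) (a : 𝒜 i) (s : 𝒜 j)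
    (hs : ∀ y : V, s.1 ∉ y.1.asHomogeneousIdeal), ((i : ℤ) = j + n ∨ a.1 = 0) ∧
      ∀ y : V, v ⟨y.1, hVU y.2⟩ = Localization.mk a.1 ⟨s.1, hs y⟩

theorem IsLocFrac.mem {n : ℤ} {U : (Proj 𝒜).Opens} {v : ∀ x : U, Twist.Loc 𝒜 x.1}
    (h : IsLocFrac n v) (x : U) : v x ∈ Twist.twistAt 𝒜 n x.1 := by
  obtain ⟨V, hxV, hVU, i, j, a, s, hs, hdeg, hv⟩ := h x
  have h1 := hv ⟨x.1, hxV⟩
  change v x = _ at h1
  rw [h1]
  rcases hdeg with hd | h0
  · exact Submodule.subset_span ⟨i, j, a, s, hs ⟨x.1, hxV⟩, hd, rfl⟩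
  · rw [h0, Localization.mk_zero]
    exact zero_mem _

theorem isLocFrac_val {n : ℤ} {U : (Proj 𝒜).Opens} (t : Γ(Twist.twist 𝒜 n, U)) :
    IsLocFrac n (val t) := by
  intro x
  obtain ⟨V, hxV, iV, i, j, a, s, hs, hdeg, hv⟩ :=
    (show Twist.sectN (𝒜 := 𝒜) n (op U) from t).2 x
  exact ⟨V, hxV, leOfHom iV, i, j, a, s, hs, hdeg, fun y => hv y⟩

/-- the section of `O(n)` with prescribed values -/
def mkSec (n : ℤ) (U : (Proj 𝒜).Opens) (v : ∀ x : U, Twist.Loc 𝒜 x.1) (h : IsLocFrac n v) :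
    Γ(Twist.twist 𝒜 n, U) :=
  (⟨fun x => ⟨v x, h.mem x⟩, fun x => by
    obtain ⟨V, hxV, hVU, i, j, a, s, hs, hdeg, hv⟩ := h x
    exact ⟨V, hxV, homOfLE hVU, i, j, a, s, hs, hdeg, fun y => hv y⟩⟩ :
      Twist.sectN (𝒜 := 𝒜) n (op U))

theorem val_mkSec (n : ℤ) (U : (Proj 𝒜).Opens) (v : ∀ x : U, Twist.Loc 𝒜 x.1)
    (h : IsLocFrac n v) (x : U) : val (mkSec n U v h) x = v x := rfl

theorem IsLocFrac.exists_val {U : (Proj 𝒜).Opens} {v : ∀ x : U, Twist.Loc 𝒜 x.1}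
    (h : IsLocFrac 0 v) (x : U) : ∃ c : Twist.A0 𝒜 x.1, c.val = v x := by
  obtain ⟨V, hxV, hVU, i, j, a, s, hs, hdeg, hv⟩ := h x
  have h1 := hv ⟨x.1, hxV⟩
  change v x = _ at h1
  rcases hdeg with hd | h0
  · have hij : i = j := by simpa using hd
    subst hij
    exact ⟨HomogeneousLocalization.mk ⟨i, a, s, hs ⟨x.1, hxV⟩⟩, by
      rw [HomogeneousLocalization.val_mk, h1]⟩
  · refine ⟨0, ?_⟩
    rw [h1, h0, Localization.mk_zero, HomogeneousLocalization.val_zero]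

/-- the function with prescribed values -/
noncomputable def mkFun (U : (Proj 𝒜).Opens) (v : ∀ x : U, Twist.Loc 𝒜 x.1)
    (h : IsLocFrac 0 v) : Γ(Proj 𝒜, U) :=
  (⟨fun x => (h.exists_val x).choose, fun x => by
    obtain ⟨V, hxV, hVU, i, j, a, s, hs, hdeg, hv⟩ := h x
    rcases hdeg with hd | h0
    · have hij : i = j := by simpa using hd
      subst hij
      refine ⟨V, hxV, homOfLE hVU, i, a, s, hs, fun y => ?_⟩
      apply HomogeneousLocalization.val_injective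
      rw [HomogeneousLocalization.val_mk]
      exact ((h.exists_val ⟨y.1, hVU y.2⟩).choose_spec).trans (hv y)
    · refine ⟨V, hxV, homOfLE hVU, j, ⟨0, zero_mem _⟩, s, hs, fun y => ?_⟩
      apply HomogeneousLocalization.val_injective
      rw [HomogeneousLocalization.val_mk]
      refine ((h.exists_val ⟨y.1, hVU y.2⟩).choose_spec).trans ((hv y).trans ?_)
      rw [h0]⟩ : Twist.O (𝒜 := 𝒜) (op U))

theorem fval_mkFun (U : (Proj 𝒜).Opens) (v : ∀ x : U, Twist.Loc 𝒜 x.1)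
    (h : IsLocFrac 0 v) (x : U) : fval (mkFun U v h) x = v x :=
  (h.exists_val x).choose_spec

theorem isLocFrac_fval {U : (Proj 𝒜).Opens} (c : Γ(Proj 𝒜, U)) : IsLocFrac 0 (fval c) := by
  intro x
  obtain ⟨V, hxV, iV, i, a, s, hs, hv⟩ := (show Twist.O (𝒜 := 𝒜) (op U) from c).2 x
  refine ⟨V, hxV, leOfHom iV, i, i, a, s, hs, Or.inl (by simp), fun y => ?_⟩
  have := congrArg HomogeneousLocalization.val (hv y)
  rw [HomogeneousLocalization.val_mk] at this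
  exact this

theorem IsLocFrac.cast {m n : ℤ} (hmn : m = n) {U : (Proj 𝒜).Opens}
    {v : ∀ x : U, Twist.Loc 𝒜 x.1} (h : IsLocFrac m v) : IsLocFrac n v := hmn ▸ h

theorem IsLocFrac.mul {m n : ℤ} {U : (Proj 𝒜).Opens} {v w : ∀ x : U, Twist.Loc 𝒜 x.1}
    (hv : IsLocFrac m v) (hw : IsLocFrac n w) : IsLocFrac (m + n) (fun x => v x * w x) := by
  intro x
  obtain ⟨V, hxV, hVU, i, j, a, s, hs, hdeg, hv'⟩ := hv x
  obtain ⟨V', hxV', hVU', i', j', a', s', hs', hdeg', hw'⟩ := hw x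
  have hnin : ∀ y : (V ⊓ V' : (Proj 𝒜).Opens), s.1 * s'.1 ∉ y.1.asHomogeneousIdeal :=
    fun y hmem => (y.1.isPrime.mem_or_mem hmem).elim (hs ⟨y.1, y.2.1⟩) (hs' ⟨y.1, y.2.2⟩)
  refine ⟨V ⊓ V', ⟨hxV, hxV'⟩, inf_le_left.trans hVU, i + i', j + j',
    ⟨a.1 * a'.1, SetLike.mul_mem_graded a.2 a'.2⟩,
    ⟨s.1 * s'.1, SetLike.mul_mem_graded s.2 s'.2⟩, hnin, ?_, fun y => ?_⟩
  · rcases hdeg with hd | h0
    · rcases hdeg' with hd' | h0'
      · left; push_cast; omega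
      · right; change a.1 * a'.1 = 0; rw [h0', mul_zero]
    · right; change a.1 * a'.1 = 0; rw [h0, zero_mul]
  · have e1 := hv' ⟨y.1, y.2.1⟩
    have e2 := hw' ⟨y.1, y.2.2⟩
    change v ⟨y.1, _⟩ * w ⟨y.1, _⟩ = _
    rw [e1, e2, Localization.mk_mul]
    rfl


/-! ### fraction sections -/

theorem isLocFrac_frac {U : (Proj 𝒜).Opens} {i j : ℕ} (a : 𝒜 i) (b : 𝒜 j)
    (hb : ∀ x : U, b.1 ∉ x.1.asHomogeneousIdeal) (n : ℤ) (hn : (i : ℤ) = j + n) :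
    IsLocFrac n (fun x : U => Localization.mk a.1 ⟨b.1, hb x⟩) :=
  fun x => ⟨U, x.2, le_rfl, i, j, a, b, hb, Or.inl hn, fun _ => rfl⟩

/-- the section `a / b` of `O(n)`, for `a`, `b` homogeneous with `deg a = deg b + n` and
`b` vanishing nowhere on `U` -/
def frac (U : (Proj 𝒜).Opens) {i j : ℕ} (a : 𝒜 i) (b : 𝒜 j)
    (hb : ∀ x : U, b.1 ∉ x.1.asHomogeneousIdeal) (n : ℤ) (hn : (i : ℤ) = j + n) :
    Γ(Twist.twist 𝒜 n, U) :=
  mkSec n U _ (isLocFrac_frac a b hb n hn)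

theorem val_frac (U : (Proj 𝒜).Opens) {i j : ℕ} (a : 𝒜 i) (b : 𝒜 j)
    (hb : ∀ x : U, b.1 ∉ x.1.asHomogeneousIdeal) (n : ℤ) (hn : (i : ℤ) = j + n) (x : U) :
    val (frac U a b hb n hn) x = Localization.mk a.1 ⟨b.1, hb x⟩ := rfl

theorem res_frac {U V : (Proj 𝒜).Opens} (h : V ≤ U) {i j : ℕ} (a : 𝒜 i) (b : 𝒜 j)
    (hb : ∀ x : U, b.1 ∉ x.1.asHomogeneousIdeal) (n : ℤ) (hn : (i : ℤ) = j + n) :
    res (Twist.twist 𝒜 n) h (frac U a b hb n hn) =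
      frac V a b (fun x => hb ⟨x.1, h x.2⟩) n hn :=
  val_ext (fun _ => rfl)

theorem mk_mul_mk_swap {x : ProjectiveSpectrum 𝒜} (a b : A)
    (ha : a ∉ x.asHomogeneousIdeal) (hb : b ∉ x.asHomogeneousIdeal) :
    (Localization.mk a ⟨b, hb⟩ : Twist.Loc 𝒜 x) * Localization.mk b ⟨a, ha⟩ = 1 := by
  rw [Localization.mk_mul]
  have hba : b * a ∉ x.asHomogeneousIdeal.toIdeal := fun h =>
    (x.isPrime.mem_or_mem h).elim hb ha
  have hab : a * b ∉ x.asHomogeneousIdeal.toIdeal := by rwa [mul_comm]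
  have : ((⟨b, hb⟩ : x.asHomogeneousIdeal.toIdeal.primeCompl) * ⟨a, ha⟩) =
      ⟨a * b, hab⟩ := Subtype.ext (mul_comm b a)
  rw [this]
  exact Localization.mk_self (⟨a * b, hab⟩ : x.asHomogeneousIdeal.toIdeal.primeCompl)

/-- A fraction `a / b` with `a` and `b` both vanishing nowhere on `U` generates the sections
of `O(n)` over `U`. -/
theorem isGenAt_frac (U : (Proj 𝒜).Opens) {i j : ℕ} (a : 𝒜 i) (b : 𝒜 j)
    (ha : ∀ x : U, a.1 ∉ x.1.asHomogeneousIdeal)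
    (hb : ∀ x : U, b.1 ∉ x.1.asHomogeneousIdeal) (n : ℤ) (hn : (i : ℤ) = j + n) :
    IsGenAt (Twist.twist 𝒜 n) U (frac U a b hb n hn) := by
  constructor
  · intro c c' hcc
    apply fval_ext
    intro x
    have h1 : val (c • frac U a b hb n hn) x = val (c' • frac U a b hb n hn) x :=
      congrArg (fun t => val t x) hcc
    rw [val_smul, val_smul, val_frac] at h1
    have hu := mk_mul_mk_swap (x := x.1) a.1 b.1 (ha x) (hb x)
    calc fval c x = fval c x * Localization.mk a.1 ⟨b.1, hb x⟩ *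
          Localization.mk b.1 ⟨a.1, ha x⟩ := by rw [mul_assoc, hu, mul_one]
      _ = fval c' x * Localization.mk a.1 ⟨b.1, hb x⟩ *
          Localization.mk b.1 ⟨a.1, ha x⟩ := by rw [h1]
      _ = fval c' x := by rw [mul_assoc, hu, mul_one]
  · intro t
    have hw : IsLocFrac 0 (fun x : U => val t x * Localization.mk b.1 ⟨a.1, ha x⟩) :=
      ((isLocFrac_val t).mul (isLocFrac_frac b a ha (-n) (by omega))).cast (by omega)
    refine ⟨mkFun U _ hw, ?_⟩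
    apply val_ext
    intro x
    change val (mkFun U _ hw • frac U a b hb n hn) x = _
    rw [val_smul, fval_mkFun, val_frac, mul_assoc, mul_comm (Localization.mk b.1 _),
      mk_mul_mk_swap (x := x.1) a.1 b.1 (ha x) (hb x), mul_one]

theorem isGen_frac (U : (Proj 𝒜).Opens) {i j : ℕ} (a : 𝒜 i) (b : 𝒜 j)
    (ha : ∀ x : U, a.1 ∉ x.1.asHomogeneousIdeal)
    (hb : ∀ x : U, b.1 ∉ x.1.asHomogeneousIdeal) (n : ℤ) (hn : (i : ℤ) = j + n) :
    IsGen (Twist.twist 𝒜 n) U (frac U a b hb n hn) := by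
  intro V hV
  rw [res_frac]
  exact isGenAt_frac V a b (fun x => ha ⟨x.1, hV x.2⟩) _ n hn


/-! ### opens carrying a unit fraction -/

/-- `U` carries a homogeneous fraction of degree `d` which is a unit at every point of `U` -/
def HasUnitFrac (d : ℤ) (U : (Proj 𝒜).Opens) : Prop :=
  ∃ (i j : ℕ) (a : 𝒜 i) (b : 𝒜 j), (∀ x : U, a.1 ∉ x.1.asHomogeneousIdeal) ∧
    (∀ x : U, b.1 ∉ x.1.asHomogeneousIdeal) ∧ (i : ℤ) = j + d

theorem HasUnitFrac.mono {d : ℤ} {U V : (Proj 𝒜).Opens} (h : V ≤ U) (hU : HasUnitFrac d U) :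
    HasUnitFrac d V := by
  obtain ⟨i, j, a, b, ha, hb, hd⟩ := hU
  exact ⟨i, j, a, b, fun x => ha ⟨x.1, h x.2⟩, fun x => hb ⟨x.1, h x.2⟩, hd⟩

theorem HasUnitFrac.exists_isGen {d : ℤ} {U : (Proj 𝒜).Opens} (hU : HasUnitFrac d U) :
    ∃ e : Γ(Twist.twist 𝒜 d, U), IsGen (Twist.twist 𝒜 d) U e := by
  obtain ⟨i, j, a, b, ha, hb, hd⟩ := hU
  exact ⟨frac U a b hb d hd, isGen_frac U a b ha hb d hd⟩

theorem hasUnitFrac_zero (U : (Proj 𝒜).Opens) : HasUnitFrac 0 U :=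
  ⟨0, 0, ⟨1, SetLike.GradedOne.one_mem⟩, ⟨1, SetLike.GradedOne.one_mem⟩,
    fun x h => x.1.isPrime.ne_top ((Ideal.eq_top_iff_one _).mpr h),
    fun x h => x.1.isPrime.ne_top ((Ideal.eq_top_iff_one _).mpr h), by simp⟩

theorem HasUnitFrac.add {d d' : ℤ} {U : (Proj 𝒜).Opens} (h : HasUnitFrac d U)
    (h' : HasUnitFrac d' U) : HasUnitFrac (d + d') U := by
  obtain ⟨i, j, a, b, ha, hb, hd⟩ := h
  obtain ⟨i', j', a', b', ha', hb', hd'⟩ := h'
  refine ⟨i + i', j + j', ⟨a.1 * a'.1, SetLike.mul_mem_graded a.2 a'.2⟩,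
    ⟨b.1 * b'.1, SetLike.mul_mem_graded b.2 b'.2⟩, fun x hmem => ?_, fun x hmem => ?_, ?_⟩
  · exact (x.1.isPrime.mem_or_mem hmem).elim (ha x) (ha' x)
  · exact (x.1.isPrime.mem_or_mem hmem).elim (hb x) (hb' x)
  · push_cast; omega

theorem HasUnitFrac.neg {d : ℤ} {U : (Proj 𝒜).Opens} (h : HasUnitFrac d U) :
    HasUnitFrac (-d) U := by
  obtain ⟨i, j, a, b, ha, hb, hd⟩ := h
  exact ⟨j, i, b, a, hb, ha, by omega⟩

theorem HasUnitFrac.nsmul {d : ℤ} {U : (Proj 𝒜).Opens} (h : HasUnitFrac d U) (n : ℕ) :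
    HasUnitFrac (n * d) U := by
  induction n with
  | zero => simpa using hasUnitFrac_zero U
  | succ n ih =>
    have := ih.add h
    have e : ((n + 1 : ℕ) : ℤ) * d = n * d + d := by push_cast; ring
    rw [e]
    exact this

theorem HasUnitFrac.zsmul {d : ℤ} {U : (Proj 𝒜).Opens} (h : HasUnitFrac d U) (n : ℤ) :
    HasUnitFrac (n * d) U := by
  obtain ⟨k, rfl | rfl⟩ := n.eq_nat_or_neg
  · exact h.nsmul k
  · have := (h.nsmul k).neg
    rwa [← neg_mul] at this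

theorem hasUnitFrac_basicOpen {d : ℕ} {f : A} (hf : f ∈ 𝒜 d) :
    HasUnitFrac (d : ℤ) (Proj.basicOpen 𝒜 f) :=
  ⟨d, 0, ⟨f, hf⟩, ⟨1, SetLike.GradedOne.one_mem⟩, fun x => x.2,
    fun x h => x.1.isPrime.ne_top ((Ideal.eq_top_iff_one _).mpr h), by simp⟩

theorem hasUnitFrac_basicOpen_mul {i j : ℕ} {a b : A} (ha : a ∈ 𝒜 i) (hb : b ∈ 𝒜 j) (d : ℤ)
    (hd : (i : ℤ) = j + d) : HasUnitFrac d (Proj.basicOpen 𝒜 (a * b)) := by
  refine ⟨i, j, ⟨a, ha⟩, ⟨b, hb⟩, fun x hmem => ?_, fun x hmem => ?_, hd⟩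
  · exact x.2 (Ideal.mul_mem_right _ _ hmem)
  · exact x.2 (Ideal.mul_mem_left _ _ hmem)

/-- if every point has a neighbourhood carrying a unit fraction of degree `d`, then `O(d)` is
invertible -/
theorem isInvertible_twist_of_cover (d : ℤ)
    (h : ∀ x : Proj 𝒜, ∃ U : (Proj 𝒜).Opens, x ∈ U ∧ HasUnitFrac d U) :
    PicF.IsInvertible (Twist.twist 𝒜 d) := by
  apply isInvertible_of_isGen
  intro x
  obtain ⟨U, hxU, hU⟩ := h x
  obtain ⟨e, he⟩ := hU.exists_isGen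
  exact ⟨U, e, hxU, he⟩

theorem nonempty_restrict_iso_of_hasUnitFrac {d : ℤ} {U : (Proj 𝒜).Opens}
    (hU : HasUnitFrac d U) :
    Nonempty ((Twist.twist 𝒜 d).restrict U.ι ≅ Coh.structureModule (U : Scheme.{u})) := by
  obtain ⟨e, he⟩ := hU.exists_isGen
  haveI := isIso_homOfSec he
  exact ⟨(asIso (homOfSec (Twist.twist 𝒜 d) U e)).symm⟩

end Groth.Agent.Lib.Helper3.TwistBasic
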