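import Groth.Agent.Lib.Helper3.FPExtH4

set_option autoImplicit false
universe u
open CategoryTheory CategoryTheory.Limits AlgebraicGeometry TopologicalSpace Opposite
open Scheme.Modules

namespace Groth.Agent.Lib.Helper3.FPExt

open QCSec QCExtend Idx

variable {X : Scheme.{u}}

section Colim

variable {F : X.Modules} {ι₀ : Type u} (V : ι₀ → X.Opens)
  (Gb : (Σ i : ι₀, Γ(F, V i)) → X.Modules) (φb : ∀ b, Gb b ⟶ F)
  (Kf : ∀ T, AT Gb φb V T → X.Modules)
  (m : ∀ (T : Finset (Σ i : ι₀, Γ(F, V i))) (a : AT Gb φb V T),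
    Kf T a ⟶ kernel (φT Gb φb T))

/-- the index with one generator and no relation -/
def idx1 (b : Σ i : ι₀, Γ(F, V i)) : Idx Gb φb V Kf m := ⟨{b}, ∅⟩

set_option maxHeartbeats 200000 in
theorem exists_preimage_γ (b : Σ i : ι₀, Γ(F, V i)) (g : Γ(Gb b, V b.1)) :
    ∃ w : Γ((colimit (Dfun2 Gb φb V Kf m) : X.Modules), V b.1),
      (γ Gb φb V Kf m).app (V b.1) w = (φb b).app (V b.1) g := by
  have h4 : Sigma.ι (fun b' : {b' // b' ∈ (idx1 V Gb φb Kf m b).T} => Gb b'.1)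
        ⟨b, Finset.mem_singleton_self b⟩ ≫
      π2 Gb φb V Kf m (idx1 V Gb φb Kf m b) ≫
        colimit.ι (Dfun2 Gb φb V Kf m) (idx1 V Gb φb Kf m b) ≫
        γ Gb φb V Kf m = φb b := by
    rw [π2_ι_γ]
    exact ι_φT Gb φb _ _
  have h5 : (Sigma.ι (fun b' : {b' // b' ∈ (idx1 V Gb φb Kf m b).T} => Gb b'.1)
        ⟨b, Finset.mem_singleton_self b⟩ ≫
      π2 Gb φb V Kf m (idx1 V Gb φb Kf m b) ≫
        colimit.ι (Dfun2 Gb φb V Kf m) (idx1 V Gb φb Kf m b) ≫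
        γ Gb φb V Kf m).app (V b.1) g = (φb b).app (V b.1) g := by
    rw [h4]
  rw [app_comp_apply, app_comp_apply, app_comp_apply] at h5
  exact ⟨_, h5⟩

open Classical in
/-- adding one relation to an index -/
noncomputable abbrev idxIns (x : Idx Gb φb V Kf m) (a : AT Gb φb V x.T) : Idx Gb φb V Kf m :=
  ⟨x.T, insert a x.S⟩

variable {V Gb φb Kf m}

open Classical in
theorem mem_idxIns (x : Idx Gb φb V Kf m) (a : AT Gb φb V x.T) :
    a ∈ (idxIns V Gb φb Kf m x a).S := Finset.mem_insert_self _ _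

open Classical in
theorem subset_idxIns (x : Idx Gb φb V Kf m) (a : AT Gb φb V x.T) :
    x.S ⊆ (idxIns V Gb φb Kf m x a).S := Finset.subset_insert _ _

set_option maxHeartbeats 200000 in
theorem le_idxIns (x : Idx Gb φb V Kf m) (a : AT Gb φb V x.T) :
    x ≤ idxIns V Gb φb Kf m x a :=
  ⟨le_refl _, by
    rw [jT_refl, Category.id_comp]
    exact cS_comp_π _ _ _ (subset_idxIns x a)⟩

set_option maxHeartbeats 200000 in
theorem m_ι_π2 (y : Idx Gb φb V Kf m) (a : AT Gb φb V y.T) (ha : a ∈ y.S) :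
    m y.T a ≫ kernel.ι (φT Gb φb y.T) ≫ π2 Gb φb V Kf m y = 0 := by
  rw [← Category.assoc, ← ι_cS (φT Gb φb y.T) (Kf y.T) (m y.T) y.S ⟨a, ha⟩, Category.assoc]
  exact (congrArg (_ ≫ ·) (c_π2 Gb φb V Kf m y)).trans comp_zero

set_option maxHeartbeats 200000 in
theorem π2_ι_idxIns (x : Idx Gb φb V Kf m) (a : AT Gb φb V x.T) :
    π2 Gb φb V Kf m x ≫ colimit.ι (Dfun2 Gb φb V Kf m) x =
      π2 Gb φb V Kf m (idxIns V Gb φb Kf m x a) ≫
        colimit.ι (Dfun2 Gb φb V Kf m) (idxIns V Gb φb Kf m x a) := by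
  rw [← colimit.w (Dfun2 Gb φb V Kf m) (homOfLE (le_idxIns x a)), π2_map_assoc]
  exact (congrArg (· ≫ (π2 Gb φb V Kf m (idxIns V Gb φb Kf m x a) ≫
    colimit.ι (Dfun2 Gb φb V Kf m) (idxIns V Gb φb Kf m x a))) (jT_refl Gb x.T)).trans
    (Category.id_comp _)

variable (hVa : ∀ i, IsAffineOpen (V i)) (hcov : ∀ x : X, ∃ i, x ∈ V i)
  (hbsec : ∀ b : (Σ i : ι₀, Γ(F, V i)), ∃ g : Γ(Gb b, V b.1), (φb b).app (V b.1) g = b.2)
  (hsec : ∀ (T : Finset (Σ i : ι₀, Γ(F, V i))) (a : AT Gb φb V T),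
    ∃ g : Γ(Kf T a, V a.1), (m T a).app (V a.1) g = a.2)

include hsec in
set_option maxHeartbeats 200000 in
theorem colimit_ι_π2_eq_zero (x : Idx Gb φb V Kf m) (i : ι₀) (g : Γ(GT Gb x.T, V i))
    (hg : (φT Gb φb x.T).app (V i) g = 0) :
    (colimit.ι (Dfun2 Gb φb V Kf m) x).app (V i) ((π2 Gb φb V Kf m x).app (V i) g) = 0 := by
  obtain ⟨k, hk⟩ := QCExact.exact_sections
    (ShortComplex.mk (kernel.ι (φT Gb φb x.T)) (φT Gb φb x.T) (kernel.condition _))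
    (ShortComplex.exact_kernel _) (V i) g hg
  obtain ⟨g', hg'⟩ : ∃ g' : Γ(Kf x.T ⟨i, k⟩, V i), (m x.T ⟨i, k⟩).app (V i) g' = k :=
    hsec x.T ⟨i, k⟩
  have h1 := m_ι_π2 (idxIns V Gb φb Kf m x ⟨i, k⟩) ⟨i, k⟩ (mem_idxIns x ⟨i, k⟩)
  have h2 : (m x.T ⟨i, k⟩ ≫ kernel.ι (φT Gb φb x.T) ≫
      π2 Gb φb V Kf m (idxIns V Gb φb Kf m x ⟨i, k⟩)).app (V i) g' = 0 := by
    rw [h1]; rfl
  rw [app_comp_apply, app_comp_apply, hg'] at h2
  have hk' : (kernel.ι (φT Gb φb x.T)).app (V i) k = g := hk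
  rw [hk'] at h2
  rw [← app_comp_apply, π2_ι_idxIns x ⟨i, k⟩, app_comp_apply, h2]
  exact map_zero _

include hVa hcov hbsec in
set_option maxHeartbeats 200000 in
theorem epi_γ [F.IsQuasicoherent] : Epi (γ Gb φb V Kf m) := by
  apply QCExact.epi_of_surjective_on_affine_cover
  intro x₀
  obtain ⟨i, hxi⟩ := hcov x₀
  refine ⟨V i, hVa i, hxi, ?_⟩
  intro t
  obtain ⟨g, hg⟩ : ∃ g : Γ(Gb ⟨i, t⟩, V i), (φb ⟨i, t⟩).app (V i) g = t := hbsec ⟨i, t⟩
  obtain ⟨w, hw⟩ := exists_preimage_γ V Gb φb Kf m ⟨i, t⟩ g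
  exact ⟨w, hw.trans hg⟩

include hVa hcov hsec in
set_option maxHeartbeats 200000 in
theorem mono_γ [IsFiltered (Idx Gb φb V Kf m)] [F.IsQuasicoherent]
    [hGq : ∀ T, (GT Gb T).IsQuasicoherent] [hKq : ∀ T a, (Kf T a).IsQuasicoherent] :
    Mono (γ Gb φb V Kf m) := by
  have hDq : ∀ x : Idx Gb φb V Kf m, ((Dfun2 Gb φb V Kf m).obj x).IsQuasicoherent :=
    fun x => isQuasicoherent_Dobj (φT Gb φb x.T) (Kf x.T) (m x.T) x.S
  haveI hC : (colimit (Dfun2 Gb φb V Kf m) : X.Modules).IsQuasicoherent :=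
    QCLim.isQuasicoherent_colimit _ hDq
  apply GrTildeIso.mono_of_injective_on_affine_cover
  intro x₀
  obtain ⟨i, hxi⟩ := hcov x₀
  refine ⟨V i, hVa i, hxi, ?_⟩
  have hinj : Function.Injective (QCProps.appₗ (γ Gb φb V Kf m) (V i)) := by
    rw [injective_iff_map_eq_zero]
    intro t ht
    rw [QCProps.appₗ_apply] at ht
    obtain ⟨x, tx, rfl⟩ := exists_rep_sections_colimit (Dfun2 Gb φb V Kf m) hDq (hVa i) t
    obtain ⟨g, rfl⟩ := π2_app_surjective Gb φb V Kf m x (hVa i) tx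
    apply colimit_ι_π2_eq_zero hsec x i g
    rw [← π2_ι_γ Gb φb V Kf m x, app_comp_apply, app_comp_apply]
    exact ht
  exact hinj

end Colim

section Main

set_option maxHeartbeats 400000 in
/-- **Stacks 01PJ**: on a qcqs scheme every quasi-coherent module is a filtered colimit of
finitely presented modules. -/
theorem exists_filtered_colimit_fp [CompactSpace X] [QuasiSeparatedSpace X] (F : X.Modules)
    [F.IsQuasicoherent] :
    ∃ (I : Type u) (_ : SmallCategory I) (_ : IsFiltered I) (D : I ⥤ X.Modules)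
      (c : Cocone D) (_ : IsColimit c),
      (∀ i, SheafOfModules.IsFinitePresentation (R := X.ringCatSheaf) (D.obj i)) ∧ c.pt = F := by
  classical
  obtain ⟨ι₀, hι₀, V, hVa, -, hcov⟩ :=
    exists_finite_affine_cover (⊤ : X.Opens)
      (by simpa using (isCompact_univ : IsCompact (Set.univ : Set X)))
  have := Fintype.ofFinite ι₀
  have hcov' : ∀ x : X, ∃ i, x ∈ V i :=
    fun x => Opens.mem_iSup.mp (hcov (show x ∈ (⊤ : X.Opens) from trivial))
  have hch : ∀ b : (Σ i : ι₀, Γ(F, V i)), ∃ (G : X.Modules) (φ : G ⟶ F),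
      SheafOfModules.IsFinitePresentation (R := X.ringCatSheaf) G ∧
      ∃ g : Γ(G, V b.1), φ.app (V b.1) g = b.2 :=
    fun b => exists_fp_through_section F (hVa b.1) b.2
  choose Gb φb hGb hbsec using hch
  haveI : ∀ b, SheafOfModules.IsFinitePresentation (R := X.ringCatSheaf) (Gb b) := hGb
  haveI hGfp : ∀ T : Finset (Σ i : ι₀, Γ(F, V i)),
      SheafOfModules.IsFinitePresentation (R := X.ringCatSheaf) (GT Gb T) :=
    fun T => isFinitePresentation_sigma _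
  haveI hGq : ∀ T : Finset (Σ i : ι₀, Γ(F, V i)), (GT Gb T).IsQuasicoherent :=
    fun T => inferInstance
  haveI hKerq : ∀ T : Finset (Σ i : ι₀, Γ(F, V i)),
      (kernel (φT Gb φb T) : X.Modules).IsQuasicoherent :=
    fun T => QCProps.isQuasicoherent_kernel _
  have hch2 : ∀ (T : Finset (Σ i : ι₀, Γ(F, V i))) (a : AT Gb φb V T),
      ∃ (Ka : X.Modules) (ma : Ka ⟶ kernel (φT Gb φb T)), Mono ma ∧ Ka.IsQuasicoherent ∧
        Ka.IsFiniteType ∧ ∃ g : Γ(Ka, V a.1), ma.app (V a.1) g = a.2 :=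
    fun T a => exists_ft_sub_through_section (kernel (φT Gb φb T)) (hVa a.1) a.2
  choose Kf m hm hKq hKft hsec using hch2
  haveI : ∀ T a, (Kf T a).IsQuasicoherent := hKq
  haveI : ∀ T a, (Kf T a).IsFiniteType := hKft
  haveI hfilt : IsFiltered (Idx Gb φb V Kf m) := isFiltered_Idx Gb φb V Kf m hVa hcov' hsec
  haveI hepi : Epi (γ Gb φb V Kf m) := epi_γ hVa hcov' hbsec
  haveI hmono : Mono (γ Gb φb V Kf m) := mono_γ hVa hcov' hsec
  have hiso : IsIso (γ Gb φb V Kf m) := isIso_of_mono_of_epi _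
  refine ⟨Idx Gb φb V Kf m, inferInstance, hfilt, Dfun2 Gb φb V Kf m, cocone2 Gb φb V Kf m,
    ?_, ?_, rfl⟩
  · exact IsColimit.ofIsoColimit (colimit.isColimit _)
      (Cocone.ext (@asIso _ _ _ _ (γ Gb φb V Kf m) hiso) (fun x => ι_γ Gb φb V Kf m x))
  · intro x
    haveI : (∐ fun a : {a // a ∈ x.S} => Kf x.T a.1 : X.Modules).IsQuasicoherent :=
      QCLim.isQuasicoherent_sigma _
    exact isFinitePresentation_cokernel (cS (φT Gb φb x.T) (Kf x.T) (m x.T) x.S)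
      (fun D hD => finite_sections_sigma (fun a : {a // a ∈ x.S} => Kf x.T a.1) hD)

end Main

end Groth.Agent.Lib.Helper3.FPExt
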