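import Mathlib
import Groth.Prelude

/-!
# Helper3: the equalizer of two homomorphisms of quasi-coherent algebras is a quasi-coherent
algebra.
-/

set_option autoImplicit false
universe u
open CategoryTheory CategoryTheory.Limits AlgebraicGeometry TopologicalSpace Opposite

namespace H3.EqAlg

variable {X : Scheme.{u}}

/-- restriction in `B` -/
noncomputable abbrev bres (B : RelSpec.QCAlg X) {A O : X.Opens} (h : A ≤ O) :
    B.presheaf.obj (op O) →+* B.presheaf.obj (op A) :=
  (B.presheaf.map (homOfLE h).op).hom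

theorem bres_bres (B : RelSpec.QCAlg X) {A A' O : X.Opens} (h : A ≤ A') (h' : A' ≤ O)
    (y : B.presheaf.obj (op O)) : bres B h (bres B h' y) = bres B (h.trans h') y := by
  have h0 : B.presheaf.map (homOfLE h').op ≫ B.presheaf.map (homOfLE h).op =
      B.presheaf.map (homOfLE (h.trans h')).op := by
    rw [← Functor.map_comp]; rfl
  exact congrArg (fun ψ => ψ.hom y) h0

theorem bres_self (B : RelSpec.QCAlg X) {O : X.Opens} (y : B.presheaf.obj (op O)) :
    bres B (le_refl O) y = y := by
  have h0 : B.presheaf.map (homOfLE (le_refl O)).op = 𝟙 _ := by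
    rw [← B.presheaf.map_id]; rfl
  exact congrArg (fun ψ => ψ.hom y) h0

variable {B C : RelSpec.QCAlg X}

theorem hom_bres (γ : B ⟶ C) {A O : X.Opens} (h : A ≤ O) (y : B.presheaf.obj (op O)) :
    (γ.hom.app (op A)).hom (bres B h y) = bres C h ((γ.hom.app (op O)).hom y) :=
  congrArg (fun ψ => ψ.hom y) (γ.hom.naturality (homOfLE h).op)

theorem hom_str (γ : B ⟶ C) (O : X.Opens) (r : Γ(X, O)) :
    (γ.hom.app (op O)).hom ((B.str.app (op O)).hom r) = (C.str.app (op O)).hom r := by
  have h0 := NatTrans.congr_app γ.comm (op O)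
  rw [NatTrans.comp_app] at h0
  exact congrArg (fun ψ => ψ.hom r) h0

variable (α β : B ⟶ C)

/-- the sections of `B` on which `α` and `β` agree -/
noncomputable def eqSub (O : X.Opens) : Subring (B.presheaf.obj (op O)) :=
  RingHom.eqLocus (α.hom.app (op O)).hom (β.hom.app (op O)).hom

theorem mem_eqSub {O : X.Opens} (y : B.presheaf.obj (op O)) :
    y ∈ eqSub α β O ↔ (α.hom.app (op O)).hom y = (β.hom.app (op O)).hom y := Iff.rfl

theorem bres_mem {A O : X.Opens} (h : A ≤ O) (y : B.presheaf.obj (op O))
    (hy : y ∈ eqSub α β O) : bres B h y ∈ eqSub α β A := by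
  rw [mem_eqSub, hom_bres, hom_bres, (mem_eqSub α β y).mp hy]

theorem str_mem (O : X.Opens) (r : Γ(X, O)) : (B.str.app (op O)).hom r ∈ eqSub α β O := by
  rw [mem_eqSub, hom_str, hom_str]

/-- restriction maps of the equalizer -/
noncomputable def eqMap {A O : X.Opens} (h : A ≤ O) : eqSub α β O →+* eqSub α β A :=
  ((bres B h).comp (eqSub α β O).subtype).codRestrict (eqSub α β A)
    (fun y => bres_mem α β h y.1 y.2)

theorem eqMap_val {A O : X.Opens} (h : A ≤ O) (y : eqSub α β O) :
    (eqMap α β h y).1 = bres B h y.1 := rfl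

/-- the equalizer presheaf of rings -/
noncomputable def eqPresheaf : TopCat.Presheaf CommRingCat.{u} X.carrier where
  obj O := CommRingCat.of (eqSub α β O.unop)
  map {O A} f := CommRingCat.ofHom (eqMap α β (leOfHom f.unop))
  map_id O := by
    ext y
    exact bres_self B _
  map_comp {O A D} f g := by
    ext y
    exact (bres_bres B _ _ _).symm

/-- the inclusion of the equalizer -/
noncomputable def incl : eqPresheaf α β ⟶ B.presheaf where
  app O := CommRingCat.ofHom (eqSub α β O.unop).subtype
  naturality O A f := by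
    ext y
    rfl

/-- the underlying section of `B` -/
noncomputable def eqVal {O : X.Opens} (y : ToType ((eqPresheaf α β).obj (op O))) :
    B.presheaf.obj (op O) := (show eqSub α β O from y).1

theorem eqVal_mem {O : X.Opens} (y : ToType ((eqPresheaf α β).obj (op O))) :
    eqVal α β y ∈ eqSub α β O := (show eqSub α β O from y).2

theorem eqVal_ext {O : X.Opens} (a b : ToType ((eqPresheaf α β).obj (op O)))
    (h : eqVal α β a = eqVal α β b) : a = b := Subtype.ext h

/-- a section of the equalizer from a section of `B` -/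
noncomputable def eqMk {O : X.Opens} (y : B.presheaf.obj (op O)) (hy : y ∈ eqSub α β O) :
    ToType ((eqPresheaf α β).obj (op O)) := (⟨y, hy⟩ : eqSub α β O)

theorem eqVal_eqMk {O : X.Opens} (y : B.presheaf.obj (op O)) (hy : y ∈ eqSub α β O) :
    eqVal α β (eqMk α β y hy) = y := rfl

theorem incl_app_apply {O : X.Opens} (y : ToType ((eqPresheaf α β).obj (op O))) :
    ((incl α β).app (op O)).hom y = eqVal α β y := rfl

theorem isSheaf_eqPresheaf : (eqPresheaf α β).IsSheaf := by
  rw [TopCat.Presheaf.isSheaf_iff_isSheafUniqueGluing]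
  intro ι U sf hsf
  have hB := (TopCat.Presheaf.isSheaf_iff_isSheafUniqueGluing B.presheaf).mp B.isSheaf U
    (fun i => eqVal α β (sf i))
    (fun i k => congrArg (eqVal α β) (hsf i k))
  obtain ⟨s, hs, huniq⟩ := hB
  have hmem : s ∈ eqSub α β (iSup U) := by
    rw [mem_eqSub]
    refine TopCat.Sheaf.eq_of_locally_eq (⟨C.presheaf, C.isSheaf⟩ : TopCat.Sheaf _ _) U _ _
      (fun i => ?_)
    show bres C (le_iSup U i) _ = bres C (le_iSup U i) _
    rw [← hom_bres, ← hom_bres]
    have h1 : bres B (le_iSup U i) s = eqVal α β (sf i) := hs i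
    rw [h1]
    exact eqVal_mem α β (sf i)
  refine ⟨eqMk α β s hmem, ?_, ?_⟩
  · intro i
    exact eqVal_ext α β _ _ (hs i)
  · intro s' hs'
    have h2 := huniq (eqVal α β s') (fun i => congrArg (eqVal α β) (hs' i))
    exact eqVal_ext α β _ _ h2

/-- the structure map of the equalizer -/
noncomputable def eqStr : X.presheaf ⟶ eqPresheaf α β where
  app O := CommRingCat.ofHom ((B.str.app O).hom.codRestrict (eqSub α β O.unop)
    (fun r => str_mem α β O.unop r))
  naturality O A f := by
    ext r
    exact eqVal_ext α β _ _ (congrArg (fun ψ => ψ.hom r) (B.str.naturality f))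

theorem eqStr_val (O : X.Opens) (r : Γ(X, O)) :
    eqVal α β (((eqStr α β).app (op O)).hom r) = (B.str.app (op O)).hom r := rfl

theorem isQC_eq : RelSpec.IsQC (eqPresheaf α β) (eqStr α β) := by
  intro U hU r
  letI alg := ((eqPresheaf α β).map (homOfLE (X.basicOpen_le r)).op).hom.toAlgebra
  show IsLocalization.Away (((eqStr α β).app (op U)).hom r)
    ((eqPresheaf α β).obj (op (X.basicOpen r)))
  letI algB := (B.presheaf.map (homOfLE (X.basicOpen_le r)).op).hom.toAlgebra
  haveI hlocB : IsLocalization.Away ((B.str.app (op U)).hom r)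
      (B.presheaf.obj (op (X.basicOpen r))) := B.isQC U hU r
  letI algC := (C.presheaf.map (homOfLE (X.basicOpen_le r)).op).hom.toAlgebra
  haveI hlocC : IsLocalization.Away ((C.str.app (op U)).hom r)
      (C.presheaf.obj (op (X.basicOpen r))) := C.isQC U hU r
  have hnat : algebraMap ((eqPresheaf α β).obj (op U)) ((eqPresheaf α β).obj (op (X.basicOpen r)))
      (((eqStr α β).app (op U)).hom r) =
      ((eqStr α β).app (op (X.basicOpen r))).hom
        ((X.presheaf.map (homOfLE (X.basicOpen_le r)).op).hom r) :=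
    (congrArg (fun ψ => ψ.hom r) ((eqStr α β).naturality (homOfLE (X.basicOpen_le r)).op)).symm
  have hunit : IsUnit (algebraMap ((eqPresheaf α β).obj (op U))
      ((eqPresheaf α β).obj (op (X.basicOpen r))) (((eqStr α β).app (op U)).hom r)) := by
    rw [hnat]
    exact (RingedSpace.isUnit_res_basicOpen _ r).map ((eqStr α β).app (op (X.basicOpen r))).hom
  rw [IsLocalization.Away, isLocalization_iff]
  refine ⟨?_, ?_, ?_⟩
  · rintro ⟨_, n, rfl⟩
    rw [map_pow]
    exact hunit.pow n
  · intro z
    obtain ⟨⟨b, ⟨_, n, rfl⟩⟩, hb⟩ := IsLocalization.surj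
      (Submonoid.powers ((B.str.app (op U)).hom r)) (z : eqSub α β (X.basicOpen r)).1
    have hb' : bres B (X.basicOpen_le r) b =
        (z : eqSub α β (X.basicOpen r)).1 *
          bres B (X.basicOpen_le r) ((B.str.app (op U)).hom r ^ n) := hb.symm
    have hpow : bres B (X.basicOpen_le r) ((B.str.app (op U)).hom r ^ n) ∈
        eqSub α β (X.basicOpen r) :=
      bres_mem α β _ _ (pow_mem (str_mem α β U r) n)
    have h1 : algebraMap (C.presheaf.obj (op U)) (C.presheaf.obj (op (X.basicOpen r)))
        ((α.hom.app (op U)).hom b) =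
        algebraMap (C.presheaf.obj (op U)) (C.presheaf.obj (op (X.basicOpen r)))
          ((β.hom.app (op U)).hom b) := by
      show bres C (X.basicOpen_le r) _ = bres C (X.basicOpen_le r) _
      rw [← hom_bres, ← hom_bres, hb', map_mul, map_mul,
        (mem_eqSub α β _).mp (z : eqSub α β (X.basicOpen r)).2, (mem_eqSub α β _).mp hpow]
    obtain ⟨m, hm⟩ := IsLocalization.Away.exists_of_eq ((C.str.app (op U)).hom r) h1
    have hmem : (B.str.app (op U)).hom r ^ m * b ∈ eqSub α β U := by
      rw [mem_eqSub, map_mul, map_mul, map_pow, map_pow, hom_str, hom_str]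
      exact hm
    refine ⟨(⟨(⟨(B.str.app (op U)).hom r ^ m * b, hmem⟩ : eqSub α β U),
      ⟨((eqStr α β).app (op U)).hom r ^ (n + m), n + m, rfl⟩⟩), ?_⟩
    apply Subtype.ext
    show (z : eqSub α β (X.basicOpen r)).1 * bres B (X.basicOpen_le r)
      (((B.str.app (op U)).hom r) ^ (n + m)) =
      bres B (X.basicOpen_le r) ((B.str.app (op U)).hom r ^ m * b)
    rw [map_mul, hb', map_pow, map_pow, map_pow, pow_add]
    ring
  · intro x y hxy
    have h1 : algebraMap (B.presheaf.obj (op U)) (B.presheaf.obj (op (X.basicOpen r)))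
        (x : eqSub α β U).1 = algebraMap (B.presheaf.obj (op U))
          (B.presheaf.obj (op (X.basicOpen r))) (y : eqSub α β U).1 :=
      congrArg Subtype.val hxy
    obtain ⟨n, hn⟩ := IsLocalization.Away.exists_of_eq ((B.str.app (op U)).hom r) h1
    refine ⟨⟨((eqStr α β).app (op U)).hom r ^ n, n, rfl⟩, ?_⟩
    apply Subtype.ext
    exact hn

/-- the equalizer of two homomorphisms of quasi-coherent algebras -/
noncomputable def eqAlg : RelSpec.QCAlg X where
  presheaf := eqPresheaf α β
  isSheaf := isSheaf_eqPresheaf α β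
  str := eqStr α β
  isQC := isQC_eq α β

/-- the inclusion of the equalizer, as a homomorphism of algebras -/
noncomputable def eqIncl : eqAlg α β ⟶ B :=
  ⟨incl α β, by ext O r; rfl⟩

theorem eqIncl_comp : eqIncl α β ≫ α = eqIncl α β ≫ β := by
  apply RelSpec.QCAlg.hom_ext
  ext O y
  exact (show eqSub α β O from y).2

theorem incl_injective (O : X.Opens) : Function.Injective ((incl α β).app (op O)).hom :=
  fun _ _ h => Subtype.ext h

theorem mem_range_incl {O : X.Opens} (y : B.presheaf.obj (op O)) :
    y ∈ Set.range ((incl α β).app (op O)).hom ↔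
      (α.hom.app (op O)).hom y = (β.hom.app (op O)).hom y := by
  constructor
  · rintro ⟨z, rfl⟩
    exact (show eqSub α β O from z).2
  · intro h
    exact ⟨(⟨y, h⟩ : eqSub α β O), rfl⟩

/-- the universal property of the equalizer, among presheaves of rings -/
noncomputable def lift {D : TopCat.Presheaf CommRingCat.{u} X.carrier} (γ : D ⟶ B.presheaf)
    (h : γ ≫ α.hom = γ ≫ β.hom) : D ⟶ eqPresheaf α β where
  app O := CommRingCat.ofHom ((γ.app O).hom.codRestrict (eqSub α β O.unop)
    (fun d => by
      have h0 : ((γ ≫ α.hom).app O).hom d = ((γ ≫ β.hom).app O).hom d :=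
        congrArg (fun ψ => ψ.hom d) (NatTrans.congr_app h O)
      exact h0))
  naturality O A f := by
    ext d
    exact eqVal_ext α β _ _ (congrArg (fun ψ => ψ.hom d) (γ.naturality f))

theorem lift_incl {D : TopCat.Presheaf CommRingCat.{u} X.carrier} (γ : D ⟶ B.presheaf)
    (h : γ ≫ α.hom = γ ≫ β.hom) : lift α β γ h ≫ incl α β = γ := by
  ext O d
  rfl

theorem hom_ext_incl {D : TopCat.Presheaf CommRingCat.{u} X.carrier} (a b : D ⟶ eqPresheaf α β)
    (h : a ≫ incl α β = b ≫ incl α β) : a = b := by
  ext O d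
  apply Subtype.ext
  exact congrArg (fun ψ => (ψ.app (op O)).hom d) h

end H3.EqAlg
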