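import Mathlib
import Groth.Prelude
import Groth.Agent.Lib.Helper6.AffAlgHom
import Groth.Agent.Lib.Helper3.EqAlg
import Groth.Agent.S8255

/-!
# Helper3: the coequalizer of two morphisms of affine `S`-schemes, among affine `S`-schemes:
the relative spectrum of the equalizer of the direct image algebras.
-/

set_option autoImplicit false
universe u
open CategoryTheory CategoryTheory.Limits AlgebraicGeometry TopologicalSpace Opposite

namespace H3.AffCoeq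

open Groth.Agent.Lib.Helper6.AffAlgHom H3.EqAlg

section general

variable {S : Scheme.{u}}

theorem algHom_congr {X Y : Scheme.{u}} (f : X ⟶ S) (g : Y ⟶ S) {h h' : Y ⟶ X} (e : h = h')
    (w : h ≫ f = g) (w' : h' ≫ f = g) : AffAlg.algHom f g h w = AffAlg.algHom f g h' w' := by
  subst e
  rfl

theorem algHom_comp {X₁ X₂ X₃ : Scheme.{u}} (p₁ : X₁ ⟶ S) (p₂ : X₂ ⟶ S) (p₃ : X₃ ⟶ S)
    (h : X₂ ⟶ X₁) (w : h ≫ p₁ = p₂) (k : X₃ ⟶ X₂) (w' : k ≫ p₂ = p₃)
    (w'' : (k ≫ h) ≫ p₁ = p₃) :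
    AffAlg.algHom p₁ p₃ (k ≫ h) w'' = AffAlg.algHom p₁ p₂ h w ≫ AffAlg.algHom p₂ p₃ k w' := by
  ext U : 2
  have e₁ : p₂ ⁻¹ᵁ U ≤ h ⁻¹ᵁ p₁ ⁻¹ᵁ U := by rw [← Scheme.Hom.comp_preimage, w]
  have e₂ : p₃ ⁻¹ᵁ U ≤ k ⁻¹ᵁ p₂ ⁻¹ᵁ U := by rw [← Scheme.Hom.comp_preimage, w']
  have e₃ : p₃ ⁻¹ᵁ U ≤ (k ≫ h) ⁻¹ᵁ p₁ ⁻¹ᵁ U := by rw [← Scheme.Hom.comp_preimage, w'']
  rw [NatTrans.comp_app, algHom_app_appLE p₁ p₃ (k ≫ h) w'' U e₃,
    algHom_app_appLE p₁ p₂ h w U e₁, algHom_app_appLE p₂ p₃ k w' U e₂,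
    Scheme.Hom.appLE_comp_appLE]

theorem algHom_injective {X Y : Scheme.{u}} (f : X ⟶ S) (g : Y ⟶ S) [IsAffineHom f]
    (h h' : Y ⟶ X) (w : h ≫ f = g) (w' : h' ≫ f = g)
    (e : AffAlg.algHom f g h w = AffAlg.algHom f g h' w') : h = h' := by
  have h0 := (algOf_bijective f g).1 (a₁ := ⟨h, w⟩) (a₂ := ⟨h', w'⟩) (Subtype.ext e)
  exact congrArg Subtype.val h0

theorem exists_of_algHom {X Y : Scheme.{u}} (f : X ⟶ S) (g : Y ⟶ S) [IsAffineHom f]
    (ω : AffAlg.alg f ⟶ AffAlg.alg g) (hω : f.c ≫ ω = g.c) :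
    ∃ (h : Y ⟶ X) (w : h ≫ f = g), AffAlg.algHom f g h w = ω := by
  obtain ⟨⟨h, w⟩, e⟩ := (algOf_bijective f g).2 ⟨ω, hω⟩
  exact ⟨h, w, congrArg Subtype.val e⟩

end general

section coeq

variable {S Y Z : Scheme.{u}} (pY : Y ⟶ S) (pZ : Z ⟶ S) [IsAffineHom pY] [IsAffineHom pZ]

/-- the homomorphism of direct image algebras induced by an `S`-morphism -/
noncomputable def aHom (f : Y ⟶ Z) (hf : f ≫ pZ = pY) :
    RelSpec.QCAlg.directImage pZ ⟶ RelSpec.QCAlg.directImage pY :=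
  ⟨AffAlg.algHom pZ pY f hf, AffAlg.algHom_comm pZ pY f hf⟩

variable (f g : Y ⟶ Z) (hf : f ≫ pZ = pY) (hg : g ≫ pZ = pY)

/-- the equalizer algebra -/
noncomputable def E : RelSpec.QCAlg S := eqAlg (aHom pY pZ f hf) (aHom pY pZ g hg)

/-- the coequalizer scheme -/
noncomputable def Q : Scheme.{u} := (E pY pZ f g hf hg).spec

/-- its structure morphism -/
noncomputable def q : Q pY pZ f g hf hg ⟶ S := (E pY pZ f g hf hg).π

instance : IsAffineHom (q pY pZ f g hf hg) :=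
  RelSpec.QCAlg.isAffineHom_π (E pY pZ f g hf hg)

/-- the inclusion of the equalizer algebra -/
noncomputable def inc : (E pY pZ f g hf hg).presheaf ⟶ AffAlg.alg pZ :=
  incl (aHom pY pZ f hf) (aHom pY pZ g hg)

/-- the identification of the direct image algebra of `q` with the equalizer algebra -/
noncomputable def gam : AffAlg.alg (q pY pZ f g hf hg) ⟶ (E pY pZ f g hf hg).presheaf :=
  (E pY pZ f g hf hg).gammaMap

instance : IsIso (gam pY pZ f g hf hg) := Groth.Agent.S8255.result _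

theorem q_c_gam : (q pY pZ f g hf hg).c ≫ gam pY pZ f g hf hg = (E pY pZ f g hf hg).str :=
  (E pY pZ f g hf hg).π_c_gammaMap

theorem str_inc : (E pY pZ f g hf hg).str ≫ inc pY pZ f g hf hg = pZ.c :=
  (eqIncl (aHom pY pZ f hf) (aHom pY pZ g hg)).comm

theorem inc_f_eq_inc_g :
    inc pY pZ f g hf hg ≫ AffAlg.algHom pZ pY f hf = inc pY pZ f g hf hg ≫ AffAlg.algHom pZ pY g hg :=
  congrArg (fun φ => φ.hom) (eqIncl_comp (aHom pY pZ f hf) (aHom pY pZ g hg))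

theorem exists_proj : ∃ (πc : Z ⟶ Q pY pZ f g hf hg) (w : πc ≫ q pY pZ f g hf hg = pZ),
    AffAlg.algHom (q pY pZ f g hf hg) pZ πc w = gam pY pZ f g hf hg ≫ inc pY pZ f g hf hg := by
  apply exists_of_algHom
  rw [← Category.assoc, q_c_gam, str_inc]

/-- the projection to the coequalizer -/
noncomputable def proj : Z ⟶ Q pY pZ f g hf hg := (exists_proj pY pZ f g hf hg).choose

theorem proj_q : proj pY pZ f g hf hg ≫ q pY pZ f g hf hg = pZ :=
  (exists_proj pY pZ f g hf hg).choose_spec.choose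

theorem algHom_proj :
    AffAlg.algHom (q pY pZ f g hf hg) pZ (proj pY pZ f g hf hg) (proj_q pY pZ f g hf hg) =
      gam pY pZ f g hf hg ≫ inc pY pZ f g hf hg :=
  (exists_proj pY pZ f g hf hg).choose_spec.choose_spec

theorem f_proj : f ≫ proj pY pZ f g hf hg = g ≫ proj pY pZ f g hf hg := by
  have w₁ : (f ≫ proj pY pZ f g hf hg) ≫ q pY pZ f g hf hg = pY := by
    rw [Category.assoc, proj_q, hf]
  have w₂ : (g ≫ proj pY pZ f g hf hg) ≫ q pY pZ f g hf hg = pY := by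
    rw [Category.assoc, proj_q, hg]
  refine algHom_injective (q pY pZ f g hf hg) pY _ _ w₁ w₂ ?_
  rw [algHom_comp (q pY pZ f g hf hg) pZ pY (proj pY pZ f g hf hg) (proj_q pY pZ f g hf hg) f hf w₁,
    algHom_comp (q pY pZ f g hf hg) pZ pY (proj pY pZ f g hf hg) (proj_q pY pZ f g hf hg) g hg w₂,
    algHom_proj, Category.assoc, Category.assoc, inc_f_eq_inc_g]

theorem exists_lift {D : TopCat.Presheaf CommRingCat.{u} S.carrier} (γ : D ⟶ AffAlg.alg pZ)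
    (hγ : γ ≫ AffAlg.algHom pZ pY f hf = γ ≫ AffAlg.algHom pZ pY g hg) :
    ∃ l : D ⟶ (E pY pZ f g hf hg).presheaf, l ≫ inc pY pZ f g hf hg = γ :=
  ⟨lift (aHom pY pZ f hf) (aHom pY pZ g hg) γ hγ,
    lift_incl (aHom pY pZ f hf) (aHom pY pZ g hg) γ hγ⟩

theorem inc_cancel {D : TopCat.Presheaf CommRingCat.{u} S.carrier}
    (a b : D ⟶ (E pY pZ f g hf hg).presheaf)
    (h : a ≫ inc pY pZ f g hf hg = b ≫ inc pY pZ f g hf hg) : a = b :=
  hom_ext_incl (aHom pY pZ f hf) (aHom pY pZ g hg) a b h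

set_option maxHeartbeats 400000 in
theorem exists_desc {W : Scheme.{u}} (pW : W ⟶ S) [IsAffineHom pW] (k : Z ⟶ W)
    (hk : k ≫ pW = pZ) (hfg : f ≫ k = g ≫ k) :
    ∃ d : Q pY pZ f g hf hg ⟶ W, d ≫ pW = q pY pZ f g hf hg ∧
      proj pY pZ f g hf hg ≫ d = k := by
  have w₁ : (f ≫ k) ≫ pW = pY := by rw [Category.assoc, hk, hf]
  have w₂ : (g ≫ k) ≫ pW = pY := by rw [Category.assoc, hk, hg]
  have hγ : AffAlg.algHom pW pZ k hk ≫ AffAlg.algHom pZ pY f hf =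
      AffAlg.algHom pW pZ k hk ≫ AffAlg.algHom pZ pY g hg := by
    rw [← algHom_comp pW pZ pY k hk f hf w₁, ← algHom_comp pW pZ pY k hk g hg w₂]
    exact algHom_congr pW pY hfg w₁ w₂
  obtain ⟨l, hl⟩ := exists_lift pY pZ f g hf hg (AffAlg.algHom pW pZ k hk) hγ
  have hstr : pW.c ≫ l = (E pY pZ f g hf hg).str := by
    apply inc_cancel pY pZ f g hf hg
    rw [Category.assoc, hl, str_inc]
    exact AffAlg.algHom_comm pW pZ k hk
  have hω : pW.c ≫ (l ≫ inv (gam pY pZ f g hf hg)) = (q pY pZ f g hf hg).c := by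
    rw [← Category.assoc, hstr, ← q_c_gam, Category.assoc, IsIso.hom_inv_id, Category.comp_id]
  obtain ⟨d, hd, hda⟩ := exists_of_algHom pW (q pY pZ f g hf hg)
    (l ≫ inv (gam pY pZ f g hf hg)) hω
  refine ⟨d, hd, ?_⟩
  have w₃ : (proj pY pZ f g hf hg ≫ d) ≫ pW = pZ := by rw [Category.assoc, hd, proj_q]
  refine algHom_injective pW pZ _ _ w₃ hk ?_
  rw [algHom_comp pW (q pY pZ f g hf hg) pZ d hd (proj pY pZ f g hf hg) (proj_q pY pZ f g hf hg) w₃,
    hda, algHom_proj, Category.assoc, IsIso.inv_hom_id_assoc, hl]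

set_option maxHeartbeats 400000 in
theorem desc_unique {W : Scheme.{u}} (pW : W ⟶ S) [IsAffineHom pW]
    (d d' : Q pY pZ f g hf hg ⟶ W) (hd : d ≫ pW = q pY pZ f g hf hg)
    (hd' : d' ≫ pW = q pY pZ f g hf hg)
    (h : proj pY pZ f g hf hg ≫ d = proj pY pZ f g hf hg ≫ d') : d = d' := by
  have w₃ : (proj pY pZ f g hf hg ≫ d) ≫ pW = pZ := by rw [Category.assoc, hd, proj_q]
  have w₃' : (proj pY pZ f g hf hg ≫ d') ≫ pW = pZ := by rw [Category.assoc, hd', proj_q]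
  refine algHom_injective pW (q pY pZ f g hf hg) _ _ hd hd' ?_
  have h1 := algHom_congr pW pZ h w₃ w₃'
  rw [algHom_comp pW (q pY pZ f g hf hg) pZ d hd (proj pY pZ f g hf hg) (proj_q pY pZ f g hf hg) w₃,
    algHom_comp pW (q pY pZ f g hf hg) pZ d' hd' (proj pY pZ f g hf hg) (proj_q pY pZ f g hf hg) w₃',
    algHom_proj, ← Category.assoc, ← Category.assoc] at h1
  have h2 := inc_cancel pY pZ f g hf hg _ _ h1
  exact (cancel_mono (gam pY pZ f g hf hg)).mp h2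

end coeq

end H3.AffCoeq
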