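import Mathlib

/-!
# Helper3: the equalizer of two algebra maps between split algebras `(ι₁ → T) ⇉ (ι₂ → T)` is a
finite product of rings `T / (1 - ε)` (`ε` idempotent); in particular it is finite étale.
-/

set_option autoImplicit false
universe u v w
open scoped BigOperators

namespace H3.EqSplit

section single

variable {T : Type u} [CommRing T] {ι₁ : Type v} {ι₂ : Type w} [Fintype ι₁] [DecidableEq ι₁]
variable (φ : (ι₁ → T) →ₐ[T] (ι₂ → T))

/-- the matrix of idempotents of `φ` -/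
def em (i : ι₂) (j : ι₁) : T := φ (Pi.single j 1) i

theorem em_idem (i : ι₂) (j : ι₁) : em φ i j * em φ i j = em φ i j := by
  unfold em
  rw [← Pi.mul_apply, ← map_mul, ← Pi.single_mul, mul_one]

theorem em_orth (i : ι₂) {j j' : ι₁} (h : j ≠ j') : em φ i j * em φ i j' = 0 := by
  unfold em
  rw [← Pi.mul_apply, ← map_mul]
  have h0 : (Pi.single j (1 : T) : ι₁ → T) * Pi.single j' 1 = 0 := by
    ext k
    simp only [Pi.mul_apply, Pi.zero_apply, Pi.single_apply]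
    by_cases h1 : k = j
    · have h2 : k ≠ j' := fun h2 => h (h1.symm.trans h2)
      simp [h1, h2, h]
    · simp [h1]
  rw [h0, map_zero]; rfl

theorem sum_em (i : ι₂) : ∑ j, em φ i j = 1 := by
  unfold em
  have h0 : ∑ j, (Pi.single j (1 : T) : ι₁ → T) = 1 := Finset.univ_sum_single (1 : ι₁ → T)
  rw [← Finset.sum_apply, ← map_sum, h0, map_one]; rfl

theorem apply_eq_sum (x : ι₁ → T) (i : ι₂) : φ x i = ∑ j, x j * em φ i j := by
  have hx : x = ∑ j, x j • (Pi.single j (1 : T) : ι₁ → T) := by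
    ext k
    simp [Finset.sum_apply, Pi.single_apply]
  conv_lhs => rw [hx]
  rw [map_sum, Finset.sum_apply]
  refine Finset.sum_congr rfl (fun j _ => ?_)
  rw [map_smul]; rfl

end single

section pair

variable {T : Type u} [CommRing T] {ι₁ : Type v} {ι₂ : Type w} [Fintype ι₁] [DecidableEq ι₁]
  [Fintype ι₂] [DecidableEq ι₂]
variable (φ ψ : (ι₁ → T) →ₐ[T] (ι₂ → T))

/-- the idempotent of `T` on which `φ`, `ψ` are given by the maps `c` -/
def eps (c : ι₂ → ι₁ × ι₁) : T := ∏ i, em φ i (c i).1 * em ψ i (c i).2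

theorem em_dvd_eps (c : ι₂ → ι₁ × ι₁) (i : ι₂) : ∃ r, eps φ ψ c = em φ i (c i).1 * r := by
  have h1 : em φ i (c i).1 * em ψ i (c i).2 ∣ eps φ ψ c :=
    Finset.dvd_prod_of_mem (fun i => em φ i (c i).1 * em ψ i (c i).2) (Finset.mem_univ i)
  obtain ⟨r, hr⟩ := h1
  exact ⟨em ψ i (c i).2 * r, by rw [hr]; ring⟩

theorem em_dvd_eps' (c : ι₂ → ι₁ × ι₁) (i : ι₂) : ∃ r, eps φ ψ c = em ψ i (c i).2 * r := by
  have h1 : em φ i (c i).1 * em ψ i (c i).2 ∣ eps φ ψ c :=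
    Finset.dvd_prod_of_mem (fun i => em φ i (c i).1 * em ψ i (c i).2) (Finset.mem_univ i)
  obtain ⟨r, hr⟩ := h1
  exact ⟨em φ i (c i).1 * r, by rw [hr]; ring⟩

theorem eps_mul_em (c : ι₂ → ι₁ × ι₁) (i : ι₂) (j : ι₁) :
    eps φ ψ c * em φ i j = if j = (c i).1 then eps φ ψ c else 0 := by
  obtain ⟨r, hr⟩ := em_dvd_eps φ ψ c i
  split_ifs with h
  · subst h
    rw [hr]
    calc em φ i (c i).1 * r * em φ i (c i).1 = (em φ i (c i).1 * em φ i (c i).1) * r := by ring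
      _ = _ := by rw [em_idem]
  · rw [hr]
    calc em φ i (c i).1 * r * em φ i j = (em φ i (c i).1 * em φ i j) * r := by ring
      _ = 0 := by rw [em_orth φ i (Ne.symm h), zero_mul]

theorem eps_mul_em' (c : ι₂ → ι₁ × ι₁) (i : ι₂) (j : ι₁) :
    eps φ ψ c * em ψ i j = if j = (c i).2 then eps φ ψ c else 0 := by
  obtain ⟨r, hr⟩ := em_dvd_eps' φ ψ c i
  split_ifs with h
  · subst h
    rw [hr]
    calc em ψ i (c i).2 * r * em ψ i (c i).2 = (em ψ i (c i).2 * em ψ i (c i).2) * r := by ring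
      _ = _ := by rw [em_idem]
  · rw [hr]
    calc em ψ i (c i).2 * r * em ψ i j = (em ψ i (c i).2 * em ψ i j) * r := by ring
      _ = 0 := by rw [em_orth ψ i (Ne.symm h), zero_mul]

theorem eps_idem (c : ι₂ → ι₁ × ι₁) : eps φ ψ c * eps φ ψ c = eps φ ψ c := by
  unfold eps
  rw [← Finset.prod_mul_distrib]
  refine Finset.prod_congr rfl (fun i _ => ?_)
  calc em φ i (c i).1 * em ψ i (c i).2 * (em φ i (c i).1 * em ψ i (c i).2)
      = (em φ i (c i).1 * em φ i (c i).1) * (em ψ i (c i).2 * em ψ i (c i).2) := by ring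
    _ = _ := by rw [em_idem, em_idem]

theorem eps_orth {c c' : ι₂ → ι₁ × ι₁} (h : c ≠ c') : eps φ ψ c * eps φ ψ c' = 0 := by
  obtain ⟨i, hi⟩ := Function.ne_iff.mp h
  by_cases h1 : (c i).1 = (c' i).1
  · have h2 : (c i).2 ≠ (c' i).2 := fun h2 => hi (Prod.ext h1 h2)
    obtain ⟨r, hr⟩ := em_dvd_eps' φ ψ c i
    obtain ⟨r', hr'⟩ := em_dvd_eps' φ ψ c' i
    rw [hr, hr']
    calc em ψ i (c i).2 * r * (em ψ i (c' i).2 * r')
        = (em ψ i (c i).2 * em ψ i (c' i).2) * (r * r') := by ring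
      _ = 0 := by rw [em_orth ψ i h2, zero_mul]
  · obtain ⟨r, hr⟩ := em_dvd_eps φ ψ c i
    obtain ⟨r', hr'⟩ := em_dvd_eps φ ψ c' i
    rw [hr, hr']
    calc em φ i (c i).1 * r * (em φ i (c' i).1 * r')
        = (em φ i (c i).1 * em φ i (c' i).1) * (r * r') := by ring
      _ = 0 := by rw [em_orth φ i h1, zero_mul]

theorem sum_eps : ∑ c : ι₂ → ι₁ × ι₁, eps φ ψ c = 1 := by
  unfold eps
  have h0 := Finset.prod_univ_sum (fun _ : ι₂ => (Finset.univ : Finset (ι₁ × ι₁)))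
    (fun i k => em φ i k.1 * em ψ i k.2)
  rw [Fintype.piFinset_univ] at h0
  rw [← h0]
  refine Finset.prod_eq_one (fun i _ => ?_)
  rw [Fintype.sum_prod_type]
  simp only
  rw [← Finset.sum_mul_sum, sum_em, sum_em, one_mul]

/-- the relation on `ι₁` identifying the two images of each `i : ι₂` -/
def rel (c : ι₂ → ι₁ × ι₁) (j j' : ι₁) : Prop := ∃ i, j = (c i).1 ∧ j' = (c i).2

/-- the coequalizer of the two maps `ι₂ ⇉ ι₁` given by `c` -/
abbrev Qc (c : ι₂ → ι₁ × ι₁) : Type v := Quot (rel c)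

/-- the factor ring of `T` cut out by the idempotent `eps c` -/
abbrev Tc (c : ι₂ → ι₁ × ι₁) : Type u := T ⧸ Ideal.span {1 - eps φ ψ c}

/-- the explicit model of the equalizer -/
abbrev P : Type (max u v w) := ∀ c : ι₂ → ι₁ × ι₁, Qc c → Tc φ ψ c

/-- the quotient map to a factor -/
noncomputable abbrev mkc (c : ι₂ → ι₁ × ι₁) : T →ₐ[T] Tc φ ψ c :=
  Ideal.Quotient.mkₐ T (Ideal.span {1 - eps φ ψ c})

theorem mkc_eps_self (c : ι₂ → ι₁ × ι₁) : mkc φ ψ c (eps φ ψ c) = 1 := by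
  have h0 : mkc φ ψ c (1 - eps φ ψ c) = 0 :=
    Ideal.Quotient.eq_zero_iff_mem.mpr (Ideal.mem_span_singleton_self _)
  rw [map_sub, map_one, sub_eq_zero] at h0
  exact h0.symm

theorem mkc_eps_ne {c c' : ι₂ → ι₁ × ι₁} (h : c ≠ c') : mkc φ ψ c (eps φ ψ c') = 0 := by
  have h1 : mkc φ ψ c (eps φ ψ c') = mkc φ ψ c (eps φ ψ c * eps φ ψ c') := by
    rw [map_mul, mkc_eps_self, one_mul]
  rw [h1, eps_orth φ ψ h, map_zero]

theorem eps_mul_eq_zero (c : ι₂ → ι₁ × ι₁) (t : T) (h : mkc φ ψ c t = 0) :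
    eps φ ψ c * t = 0 := by
  have h0 : t ∈ Ideal.span {1 - eps φ ψ c} := Ideal.Quotient.eq_zero_iff_mem.mp h
  obtain ⟨a, ha⟩ := Ideal.mem_span_singleton'.mp h0
  rw [← ha]
  calc eps φ ψ c * (a * (1 - eps φ ψ c)) = a * (eps φ ψ c - eps φ ψ c * eps φ ψ c) := by ring
    _ = 0 := by rw [eps_idem, sub_self, mul_zero]

theorem mkc_em (c : ι₂ → ι₁ × ι₁) (i : ι₂) (j : ι₁) :
    mkc φ ψ c (em φ i j) = if j = (c i).1 then 1 else 0 := by
  have h1 : mkc φ ψ c (em φ i j) = mkc φ ψ c (eps φ ψ c * em φ i j) := by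
    rw [map_mul, mkc_eps_self, one_mul]
  rw [h1, eps_mul_em]
  split_ifs
  · exact mkc_eps_self φ ψ c
  · exact map_zero _

theorem mkc_em' (c : ι₂ → ι₁ × ι₁) (i : ι₂) (j : ι₁) :
    mkc φ ψ c (em ψ i j) = if j = (c i).2 then 1 else 0 := by
  have h1 : mkc φ ψ c (em ψ i j) = mkc φ ψ c (eps φ ψ c * em ψ i j) := by
    rw [map_mul, mkc_eps_self, one_mul]
  rw [h1, eps_mul_em']
  split_ifs
  · exact mkc_eps_self φ ψ c
  · exact map_zero _

theorem mkc_apply_fst (c : ι₂ → ι₁ × ι₁) (x : ι₁ → T) (i : ι₂) :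
    mkc φ ψ c (φ x i) = mkc φ ψ c (x (c i).1) := by
  rw [apply_eq_sum, map_sum]
  simp only [map_mul, mkc_em, mul_ite, mul_one, mul_zero]
  rw [Finset.sum_ite_eq']
  simp

theorem mkc_apply_snd (c : ι₂ → ι₁ × ι₁) (x : ι₁ → T) (i : ι₂) :
    mkc φ ψ c (ψ x i) = mkc φ ψ c (x (c i).2) := by
  rw [apply_eq_sum, map_sum]
  simp only [map_mul, mkc_em', mul_ite, mul_one, mul_zero]
  rw [Finset.sum_ite_eq']
  simp

theorem mkc_const (c : ι₂ → ι₁ × ι₁) (x : ι₁ → T) (hx : φ x = ψ x) {j j' : ι₁}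
    (h : rel c j j') : mkc φ ψ c (x j) = mkc φ ψ c (x j') := by
  obtain ⟨i, rfl, rfl⟩ := h
  rw [← mkc_apply_fst, ← mkc_apply_snd, hx]

theorem mkc_const' (c : ι₂ → ι₁ × ι₁) (x : ι₁ → T) (hx : φ x = ψ x) {j j' : ι₁}
    (h : (Quot.mk (rel c) j : Qc c) = Quot.mk (rel c) j') :
    mkc φ ψ c (x j) = mkc φ ψ c (x j') := by
  let F : Qc c → Tc φ ψ c := Quot.lift (fun j => mkc φ ψ c (x j))
    (fun j j' h => mkc_const φ ψ c x hx h)
  exact congrArg F h

/-- the comparison map from the equalizer to the explicit model -/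
noncomputable def Theta : AlgHom.equalizer φ ψ →ₐ[T] P φ ψ :=
  Pi.algHom T _ (fun c => Pi.algHom T _ (fun q =>
    (mkc φ ψ c).comp ((Pi.evalAlgHom T (fun _ : ι₁ => T) (Quot.out q)).comp
      (AlgHom.equalizer φ ψ).val)))

theorem Theta_apply (x : AlgHom.equalizer φ ψ) (c : ι₂ → ι₁ × ι₁) (q : Qc c) :
    Theta φ ψ x c q = mkc φ ψ c (x.1 (Quot.out q)) := rfl

theorem Theta_apply_mk (x : AlgHom.equalizer φ ψ) (c : ι₂ → ι₁ × ι₁) (j : ι₁) :
    Theta φ ψ x c (Quot.mk _ j) = mkc φ ψ c (x.1 j) := by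
  rw [Theta_apply]
  exact mkc_const' φ ψ c x.1 x.2 (Quot.out_eq _)

theorem Theta_injective : Function.Injective (Theta φ ψ) := by
  rw [injective_iff_map_eq_zero]
  intro x hx
  apply Subtype.ext
  funext j
  show x.1 j = 0
  have h1 : x.1 j = ∑ c : ι₂ → ι₁ × ι₁, eps φ ψ c * x.1 j := by
    rw [← Finset.sum_mul, sum_eps, one_mul]
  rw [h1]
  refine Finset.sum_eq_zero (fun c _ => ?_)
  apply eps_mul_eq_zero
  rw [← Theta_apply_mk, hx]
  rfl

theorem Theta_surjective : Function.Surjective (Theta φ ψ) := by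
  intro p
  have hsurj : ∀ (c : ι₂ → ι₁ × ι₁) (q : Qc c), ∃ s : T, mkc φ ψ c s = p c q :=
    fun c q => Ideal.Quotient.mk_surjective (p c q)
  choose s hs using hsurj
  let x₀ : ι₁ → T := fun j => ∑ c : ι₂ → ι₁ × ι₁, eps φ ψ c * s c (Quot.mk _ j)
  have key : ∀ (χ : (ι₁ → T) →ₐ[T] (ι₂ → T)) (sel : ι₁ × ι₁ → ι₁)
      (_ : ∀ (c : ι₂ → ι₁ × ι₁) (i : ι₂) (k : ι₁),
        eps φ ψ c * em χ i k = if k = sel (c i) then eps φ ψ c else 0) (i : ι₂),
      χ x₀ i = ∑ c : ι₂ → ι₁ × ι₁, eps φ ψ c * s c (Quot.mk _ (sel (c i))) := by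
    intro χ sel hsel i
    rw [apply_eq_sum]
    simp only [x₀, Finset.sum_mul]
    rw [Finset.sum_comm]
    refine Finset.sum_congr rfl (fun c _ => ?_)
    have h2 : ∀ k, eps φ ψ c * s c (Quot.mk _ k) * em χ i k =
        if k = sel (c i) then eps φ ψ c * s c (Quot.mk _ k) else 0 := by
      intro k
      rw [mul_right_comm, hsel]
      split_ifs <;> simp
    simp only [h2]
    rw [Finset.sum_ite_eq']
    simp
  have hx₀ : x₀ ∈ AlgHom.equalizer φ ψ := by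
    show φ x₀ = ψ x₀
    funext i
    rw [key φ Prod.fst (fun c i k => eps_mul_em φ ψ c i k) i,
      key ψ Prod.snd (fun c i k => eps_mul_em' φ ψ c i k) i]
    refine Finset.sum_congr rfl (fun c _ => ?_)
    have : (Quot.mk (rel c) (c i).1 : Qc c) = Quot.mk (rel c) (c i).2 :=
      Quot.sound ⟨i, rfl, rfl⟩
    rw [this]
  refine ⟨⟨x₀, hx₀⟩, ?_⟩
  funext c q
  rw [Theta_apply]
  show mkc φ ψ c (∑ c' : ι₂ → ι₁ × ι₁, eps φ ψ c' * s c' (Quot.mk _ (Quot.out q))) = p c q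
  rw [map_sum, Finset.sum_eq_single c]
  · rw [map_mul, mkc_eps_self, one_mul, Quot.out_eq, hs]
  · intro c' _ hc'
    rw [map_mul, mkc_eps_ne φ ψ (Ne.symm hc'), zero_mul]
  · intro h
    exact absurd (Finset.mem_univ c) h

/-- **Split case**: the equalizer of two maps between split algebras is finite étale. -/
theorem finite_etale :
    Module.Finite T (AlgHom.equalizer φ ψ) ∧ Algebra.Etale T (AlgHom.equalizer φ ψ) := by
  let Θe : AlgHom.equalizer φ ψ ≃ₐ[T] P φ ψ :=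
    AlgEquiv.ofBijective (Theta φ ψ) ⟨Theta_injective φ ψ, Theta_surjective φ ψ⟩
  haveI : ∀ c, Algebra.Etale T (Tc φ ψ c) := fun c => by
    haveI := IsLocalization.Away.quotient_of_isIdempotentElem (eps_idem φ ψ c)
    exact Algebra.Etale.of_isLocalizationAway (eps φ ψ c)
  exact ⟨Module.Finite.equiv Θe.symm.toLinearEquiv, Algebra.Etale.of_equiv Θe.symm⟩

end pair

end H3.EqSplit
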