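import Mathlib
import Groth.Agent.Lib.Helper3.EqSplit

/-!
# Helper3: the equalizer of two algebra maps between finite étale algebras of constant rank is
finite étale (by splitting both algebras after a faithfully flat base change).
-/

set_option autoImplicit false
universe u
open scoped TensorProduct

namespace H3.EqDescent

/-- transport of equalizers along isomorphisms of source and target -/
theorem finite_etale_of_isFiniteSplit {T B' C' : Type u} [CommRing T] [CommRing B'] [CommRing C']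
    [Algebra T B'] [Algebra T C'] [hB : Algebra.IsFiniteSplit T B']
    [hC : Algebra.IsFiniteSplit T C'] (φ ψ : B' →ₐ[T] C') :
    Module.Finite T (AlgHom.equalizer φ ψ) ∧ Algebra.Etale T (AlgHom.equalizer φ ψ) := by
  obtain ⟨n, ⟨eB⟩⟩ := Algebra.IsFiniteSplit.nonempty_algEquiv_fun T B'
  obtain ⟨m, ⟨eC⟩⟩ := Algebra.IsFiniteSplit.nonempty_algEquiv_fun T C'
  let φ' : (Fin n → T) →ₐ[T] (Fin m → T) := eC.toAlgHom.comp (φ.comp eB.symm.toAlgHom)
  let ψ' : (Fin n → T) →ₐ[T] (Fin m → T) := eC.toAlgHom.comp (ψ.comp eB.symm.toAlgHom)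
  obtain ⟨hfin, het⟩ := H3.EqSplit.finite_etale φ' ψ'
  have hmem : ∀ x : AlgHom.equalizer φ ψ, eB x.1 ∈ AlgHom.equalizer φ' ψ' := by
    intro x
    show eC (φ (eB.symm (eB x.1))) = eC (ψ (eB.symm (eB x.1)))
    rw [eB.symm_apply_apply]
    exact congrArg eC x.2
  let g : AlgHom.equalizer φ ψ →ₐ[T] AlgHom.equalizer φ' ψ' :=
    (eB.toAlgHom.comp (AlgHom.equalizer φ ψ).val).codRestrict (AlgHom.equalizer φ' ψ') hmem
  have hg : Function.Bijective g := by
    constructor
    · intro x y hxy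
      have h1 : eB x.1 = eB y.1 := congrArg Subtype.val hxy
      exact Subtype.ext (eB.injective h1)
    · intro y
      have hy : φ (eB.symm y.1) = ψ (eB.symm y.1) := eC.injective y.2
      refine ⟨⟨eB.symm y.1, hy⟩, ?_⟩
      apply Subtype.ext
      show eB (eB.symm y.1) = y.1
      exact eB.apply_symm_apply _
  let ge : AlgHom.equalizer φ ψ ≃ₐ[T] AlgHom.equalizer φ' ψ' := AlgEquiv.ofBijective g hg
  exact ⟨Module.Finite.equiv ge.symm.toLinearEquiv, Algebra.Etale.of_equiv ge.symm⟩

/-- **Equalizers of finite étale algebras** (constant rank case). -/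
theorem finite_etale_equalizer {R B C : Type u} [CommRing R] [CommRing B] [CommRing C]
    [Algebra R B] [Algebra R C] [Module.Finite R B] [Algebra.Etale R B] [Module.Finite R C]
    [Algebra.Etale R C] {n m : ℕ} (hB : Module.rankAtStalk (R := R) B = n)
    (hC : Module.rankAtStalk (R := R) C = m) (φ ψ : B →ₐ[R] C) :
    Module.Finite R (AlgHom.equalizer φ ψ) ∧ Algebra.Etale R (AlgHom.equalizer φ ψ) := by
  obtain ⟨T₁, _, _, _, _, _, hT₁⟩ := Algebra.IsFiniteSplit.exists_tensorProduct_of_etale hB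
  have hC₁ : Module.rankAtStalk (R := T₁) (T₁ ⊗[R] C) = m := by
    ext p
    rw [Module.rankAtStalk_baseChange, hC]
    rfl
  obtain ⟨T₂, _, _, _, _, _, hT₂⟩ :=
    Algebra.IsFiniteSplit.exists_tensorProduct_of_etale (R := T₁) (S := T₁ ⊗[R] C) hC₁
  algebraize [(algebraMap T₁ T₂).comp (algebraMap R T₁)]
  haveI : Module.FaithfullyFlat R T₂ := Module.FaithfullyFlat.trans R T₁ T₂
  haveI hsB : Algebra.IsFiniteSplit T₂ (T₂ ⊗[R] B) :=
    Algebra.IsFiniteSplit.of_algEquiv (Algebra.TensorProduct.cancelBaseChange R T₁ T₂ T₂ B)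
  haveI hsC : Algebra.IsFiniteSplit T₂ (T₂ ⊗[R] C) :=
    Algebra.IsFiniteSplit.of_algEquiv (Algebra.TensorProduct.cancelBaseChange R T₁ T₂ T₂ C)
  obtain ⟨hfin, het⟩ := finite_etale_of_isFiniteSplit
    (Algebra.TensorProduct.map (AlgHom.id T₂ T₂) φ) (Algebra.TensorProduct.map (AlgHom.id T₂ T₂) ψ)
  let e := AlgHom.tensorEqualizerEquiv T₂ T₂ φ ψ
  haveI : Module.Finite T₂ (T₂ ⊗[R] AlgHom.equalizer φ ψ) :=
    Module.Finite.equiv e.symm.toLinearEquiv
  haveI : Algebra.Etale T₂ (T₂ ⊗[R] AlgHom.equalizer φ ψ) := Algebra.Etale.of_equiv e.symm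
  exact ⟨Module.Finite.of_finite_tensorProduct_of_faithfullyFlat T₂,
    Algebra.Etale.of_etale_tensorProduct_of_faithfullyFlat T₂⟩

/-- Ring-homomorphism form: if `ι : E → B` is injective with image the equalizer of `φ, ψ`, then
`R → E` is finite étale. -/
theorem ringHom_finite_etale {R B C E : Type u} [CommRing R] [CommRing B] [CommRing C]
    [CommRing E] (fB : R →+* B) (fC : R →+* C) (φ ψ : B →+* C) (hφ : φ.comp fB = fC)
    (hψ : ψ.comp fB = fC) (hBf : fB.Finite) (hBe : fB.Etale) (hCf : fC.Finite) (hCe : fC.Etale)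
    {n m : ℕ} (hn : ∀ p, fB.finrank p = n) (hm : ∀ p, fC.finrank p = m)
    (ι : E →+* B) (hι : Function.Injective ι) (hrange : ∀ b, b ∈ Set.range ι ↔ φ b = ψ b)
    (s : R →+* E) (hs : ι.comp s = fB) : s.Finite ∧ s.Etale := by
  letI := fB.toAlgebra
  letI := fC.toAlgebra
  haveI : Module.Finite R B := hBf
  haveI : Module.Finite R C := hCf
  haveI : Algebra.Etale R B := hBe
  haveI : Algebra.Etale R C := hCe
  have hB : Module.rankAtStalk (R := R) B = n := by
    ext p
    exact hn p
  have hC : Module.rankAtStalk (R := R) C = m := by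
    ext p
    exact hm p
  have hcφ : ∀ r : R, φ (fB r) = fC r := fun r => congrArg (fun f => f r) hφ
  have hcψ : ∀ r : R, ψ (fB r) = fC r := fun r => congrArg (fun f => f r) hψ
  let φ' : B →ₐ[R] C := { φ with commutes' := hcφ }
  let ψ' : B →ₐ[R] C := { ψ with commutes' := hcψ }
  obtain ⟨hfin, het⟩ := finite_etale_equalizer hB hC φ' ψ'
  have hmem : ∀ x : E, ι x ∈ AlgHom.equalizer φ' ψ' := fun x => (hrange _).mp ⟨x, rfl⟩
  let g : E →+* AlgHom.equalizer φ' ψ' := ι.codRestrict (AlgHom.equalizer φ' ψ') hmem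
  have hg : Function.Bijective g := by
    constructor
    · intro x y hxy
      exact hι (congrArg Subtype.val hxy)
    · intro y
      obtain ⟨x, hx⟩ := (hrange y.1).mpr y.2
      exact ⟨x, Subtype.ext hx⟩
  let e : E ≃+* AlgHom.equalizer φ' ψ' := RingEquiv.ofBijective g hg
  have h2 : s = e.symm.toRingHom.comp (algebraMap R (AlgHom.equalizer φ' ψ')) := by
    ext r
    apply e.injective
    show e (s r) = e (e.symm (algebraMap R (AlgHom.equalizer φ' ψ') r))
    rw [e.apply_symm_apply]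
    apply Subtype.ext
    show ι (s r) = fB r
    exact congrArg (fun f => f r) hs
  have h1 : (algebraMap R (AlgHom.equalizer φ' ψ')).Finite := RingHom.finite_algebraMap.mpr hfin
  have h1' : (algebraMap R (AlgHom.equalizer φ' ψ')).Etale := RingHom.etale_algebraMap.mpr het
  rw [h2]
  exact ⟨RingHom.finite_respectsIso.1 _ e.symm h1, RingHom.Etale.respectsIso.1 _ e.symm h1'⟩

end H3.EqDescent
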