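import Mathlib
import Groth.Agent.Lib.Helper15.FinEtCount

/-!
# Helper3: a finite étale cover of constant rank is split by a finite étale surjective cover

Induction on the rank: remove the diagonal from `X ×_S X → X`.  The rank bookkeeping is done by
counting geometric points (`Helper15.FinEtCount.natCard_lifts_eq_finrank`).
-/

set_option autoImplicit false
universe u
open CategoryTheory CategoryTheory.Limits AlgebraicGeometry

namespace H3.FEtSplit

/-- Open immersions cancel against unramified morphisms locally of finite type. -/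
instance hasOfPostcomp_openImm :
    MorphismProperty.HasOfPostcompProperty @IsOpenImmersion
      (@LocallyOfFiniteType ⊓ @FormallyUnramified) := by
  rw [MorphismProperty.hasOfPostcompProperty_iff_le_diagonal]
  intro X Y f ⟨hft, hfu⟩
  exact inferInstanceAs <| IsOpenImmersion (pullback.diagonal f)

/-- A section of an étale morphism is an open immersion. -/
theorem isOpenImmersion_of_section {W Y : Scheme.{u}} (p : W ⟶ Y) [Etale p] (g : Y ⟶ W)
    (hg : g ≫ p = 𝟙 Y) : IsOpenImmersion g := by
  have h1 : IsOpenImmersion (g ≫ p) := by rw [hg]; infer_instance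
  exact MorphismProperty.of_postcomp (W := @IsOpenImmersion)
    (W' := @LocallyOfFiniteType ⊓ @FormallyUnramified) g p ⟨inferInstance, inferInstance⟩ h1

/-- A separably closed geometric point over any point. -/
theorem exists_geomPoint {W : Scheme.{u}} (w : W) :
    ∃ (Ω : Type u) (_ : Field Ω) (_ : IsSepClosed Ω) (ξ : Spec (CommRingCat.of Ω) ⟶ W),
      ∀ s : ↥(Spec (CommRingCat.of Ω)), ξ s = w := by
  refine ⟨AlgebraicClosure (W.residueField w), inferInstance, inferInstance,
    Spec.map (CommRingCat.ofHom (algebraMap (W.residueField w)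
      (AlgebraicClosure (W.residueField w)))) ≫ W.fromSpecResidueField w, ?_⟩
  intro s
  rw [Scheme.Hom.comp_apply]
  exact Scheme.fromSpecResidueField_apply w _

/-- Two morphisms are *everywhere distinct* if they agree on no nonempty test scheme. -/
def Distinct {Y X : Scheme.{u}} (a b : Y ⟶ X) : Prop :=
  ∀ (T : Scheme.{u}) (ξ : T ⟶ Y), Nonempty T → ξ ≫ a ≠ ξ ≫ b

theorem Distinct.symm {Y X : Scheme.{u}} {a b : Y ⟶ X} (h : Distinct a b) : Distinct b a :=
  fun T ξ hT heq => h T ξ hT heq.symm

/-- `n` everywhere distinct sections of a finite étale morphism of constant rank `n`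
trivialise it. -/
theorem isIso_sigmaDesc_of_sections {W Y : Scheme.{u}} (p : W ⟶ Y) [IsFinite p] [Etale p] (n : ℕ)
    (hrk : ∀ y, p.finrank y = n) (g : Fin n → (Y ⟶ W)) (hg : ∀ i, g i ≫ p = 𝟙 Y)
    (hdist : ∀ i j, i ≠ j → Distinct (g i) (g j)) :
    IsIso (Sigma.desc (f := fun _ : Fin n => Y) g) := by
  haveI : Flat p := inferInstance
  haveI : ∀ i, IsOpenImmersion (g i) := fun i => isOpenImmersion_of_section p (g i) (hg i)
  have hdisj : Pairwise (Function.onFun Disjoint (fun i => Set.range (g i))) := by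
    intro i j hij
    rw [Function.onFun, Set.disjoint_iff_forall_ne]
    rintro _ ⟨y, rfl⟩ _ ⟨y', rfl⟩ heq
    obtain ⟨z, hz1, hz2⟩ :=
      Scheme.Pullback.exists_preimage_pullback (f := g i) (g := g j) y y' heq
    have hfs : pullback.fst (g i) (g j) = pullback.snd (g i) (g j) := by
      have hc := pullback.condition (f := g i) (g := g j)
      calc pullback.fst (g i) (g j) = pullback.fst (g i) (g j) ≫ g i ≫ p := by
            rw [hg i, Category.comp_id]
        _ = pullback.snd (g i) (g j) ≫ g j ≫ p := by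
            rw [← Category.assoc, hc, Category.assoc]
        _ = pullback.snd (g i) (g j) := by rw [hg j, Category.comp_id]
    refine hdist i j hij (pullback (g i) (g j)) (pullback.fst (g i) (g j)) ⟨z⟩ ?_
    rw [pullback.condition, hfs]
  haveI : IsOpenImmersion (Sigma.desc (f := fun _ : Fin n => Y) g) :=
    isOpenImmersion_sigmaDesc _ g hdisj
  rw [isIso_iff_isOpenImmersion_and_surjective]
  refine ⟨inferInstance, ⟨fun w => ?_⟩⟩
  obtain ⟨Ω, hF, hS, wbar, hw⟩ := exists_geomPoint w
  obtain ⟨s⟩ : Nonempty ↥(Spec (CommRingCat.of Ω)) :=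
    inferInstanceAs (Nonempty (PrimeSpectrum Ω))
  have hcard := Helper15.FinEtCount.natCard_lifts_eq_finrank p Ω (wbar ≫ p) s
  rw [hrk] at hcard
  have hn : n ≠ 0 := by
    have h1 := Scheme.Hom.one_le_finrank_map p w
    rw [hrk] at h1
    omega
  haveI : Finite {ξ' : Spec (CommRingCat.of Ω) ⟶ W // ξ' ≫ p = wbar ≫ p} :=
    Nat.finite_of_card_ne_zero (by rw [hcard]; exact hn)
  let F : Fin n → {ξ' : Spec (CommRingCat.of Ω) ⟶ W // ξ' ≫ p = wbar ≫ p} :=
    fun i => ⟨(wbar ≫ p) ≫ g i, by rw [Category.assoc, hg i, Category.comp_id]⟩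
  have hFinj : Function.Injective F := by
    intro i j hij
    by_contra hne
    exact hdist i j hne _ (wbar ≫ p) ⟨s⟩ (congrArg Subtype.val hij)
  have hFbij : Function.Bijective F :=
    hFinj.bijective_of_nat_card_le (by rw [hcard, Nat.card_fin])
  obtain ⟨i, hi⟩ := hFbij.2 ⟨wbar, rfl⟩
  have hi' : (wbar ≫ p) ≫ g i = wbar := congrArg Subtype.val hi
  refine ⟨(Sigma.ι (fun _ : Fin n => Y) i) ((wbar ≫ p) s), ?_⟩
  rw [← Scheme.Hom.comp_apply, Sigma.ι_desc, ← Scheme.Hom.comp_apply, hi', hw]

section Compl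

variable {X S : Scheme.{u}} (φ : X ⟶ S) [IsFinite φ] [Etale φ]

/-- The complement of the diagonal in `X ×_S X`. -/
noncomputable def dcompl : (pullback φ φ).Opens :=
  ⟨(Set.range (pullback.diagonal φ))ᶜ, by
    haveI : IsSeparated φ := inferInstance
    exact (pullback.diagonal φ).isClosedEmbedding.isClosed_range.isOpen_compl⟩

theorem mem_dcompl (z : ↥(pullback φ φ)) :
    z ∈ dcompl φ ↔ z ∉ Set.range (pullback.diagonal φ) := Iff.rfl

/-- The complement of the diagonal as a cover of `X` (second projection). -/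
noncomputable def dmap : (dcompl φ).toScheme ⟶ X := (dcompl φ).ι ≫ pullback.snd φ φ

instance : IsClosedImmersion (dcompl φ).ι := by
  apply IsClosedImmersion.of_isPreimmersion
  rw [Scheme.Opens.range_ι]
  exact (pullback.diagonal φ).isOpenEmbedding.isOpen_range.isClosed_compl

instance : IsFinite (dmap φ) := by unfold dmap; infer_instance
instance : Etale (dmap φ) := by unfold dmap; infer_instance

theorem ι_apply_mem (y : ↥(dcompl φ).toScheme) :
    (dcompl φ).ι y ∉ Set.range (pullback.diagonal φ) := by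
  have h : (dcompl φ).ι y ∈ Set.range (dcompl φ).ι := ⟨_, rfl⟩
  rw [Scheme.Opens.range_ι] at h
  exact h

theorem finrank_dmap (n : ℕ) (hrk : ∀ s, φ.finrank s = n + 1) (x : X) :
    (dmap φ).finrank x = n := by
  haveI : Flat φ := inferInstance
  obtain ⟨Ω, hF, hS, xbar, hx⟩ := exists_geomPoint x
  obtain ⟨s⟩ : Nonempty ↥(Spec (CommRingCat.of Ω)) :=
    inferInstanceAs (Nonempty (PrimeSpectrum Ω))
  haveI : Subsingleton ↥(Spec (CommRingCat.of Ω)) :=
    inferInstanceAs (Subsingleton (PrimeSpectrum Ω))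
  have h1 := Helper15.FinEtCount.natCard_lifts_eq_finrank (pullback.snd φ φ) Ω xbar s
  rw [hx, Scheme.Hom.finrank_pullback_snd, hrk] at h1
  have h2 := Helper15.FinEtCount.natCard_lifts_eq_finrank (dmap φ) Ω xbar s
  rw [hx] at h2
  rw [← h2]
  let δ : {ξ' : Spec (CommRingCat.of Ω) ⟶ pullback φ φ // ξ' ≫ pullback.snd φ φ = xbar} :=
    ⟨xbar ≫ pullback.diagonal φ, by rw [Category.assoc, pullback.diagonal_snd, Category.comp_id]⟩
  let incl : {ξ' : Spec (CommRingCat.of Ω) ⟶ (dcompl φ).toScheme // ξ' ≫ dmap φ = xbar} →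
      {ξ' : Spec (CommRingCat.of Ω) ⟶ pullback φ φ // ξ' ≫ pullback.snd φ φ = xbar} :=
    fun ξ => ⟨ξ.1 ≫ (dcompl φ).ι, by rw [Category.assoc]; exact ξ.2⟩
  have hincl_inj : Function.Injective incl := by
    intro a b hab
    have h := congrArg Subtype.val hab
    exact Subtype.ext ((cancel_mono (dcompl φ).ι).mp h)
  have hincl_ne : ∀ ξ, incl ξ ≠ δ := by
    intro ξ hξ
    have h : ξ.1 ≫ (dcompl φ).ι = xbar ≫ pullback.diagonal φ := congrArg Subtype.val hξ
    have h3 : (dcompl φ).ι (ξ.1 s) = pullback.diagonal φ (xbar s) := by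
      rw [← Scheme.Hom.comp_apply, ← Scheme.Hom.comp_apply, h]
    exact ι_apply_mem φ (ξ.1 s) ⟨_, h3.symm⟩
  have hsurj : ∀ l, l ≠ δ → ∃ ξ, incl ξ = l := by
    intro l hl
    have hnot : l.1 s ∉ Set.range (pullback.diagonal φ) := by
      intro hmem
      have hsub : Set.range l.1 ⊆ Set.range (pullback.diagonal φ) := by
        rintro _ ⟨t, rfl⟩
        rwa [Subsingleton.elim t s]
      apply hl
      apply Subtype.ext
      have hfac := IsOpenImmersion.lift_fac (pullback.diagonal φ) l.1 hsub
      have hlift : IsOpenImmersion.lift (pullback.diagonal φ) l.1 hsub = xbar := by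
        calc IsOpenImmersion.lift (pullback.diagonal φ) l.1 hsub
            = IsOpenImmersion.lift (pullback.diagonal φ) l.1 hsub ≫ pullback.diagonal φ ≫
                pullback.snd φ φ := by rw [pullback.diagonal_snd, Category.comp_id]
          _ = l.1 ≫ pullback.snd φ φ := by rw [← Category.assoc, hfac]
          _ = xbar := l.2
      exact hfac.symm.trans (congrArg (· ≫ pullback.diagonal φ) hlift)
    have hsub : Set.range l.1 ⊆ Set.range (dcompl φ).ι := by
      rw [Scheme.Opens.range_ι]
      rintro _ ⟨t, rfl⟩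
      rw [Subsingleton.elim t s]
      exact hnot
    refine ⟨⟨IsOpenImmersion.lift (dcompl φ).ι l.1 hsub, ?_⟩, ?_⟩
    · unfold dmap
      rw [← Category.assoc, IsOpenImmersion.lift_fac]
      exact l.2
    · apply Subtype.ext
      exact IsOpenImmersion.lift_fac _ _ _
  let E : Option {ξ' : Spec (CommRingCat.of Ω) ⟶ (dcompl φ).toScheme // ξ' ≫ dmap φ = xbar} →
      {ξ' : Spec (CommRingCat.of Ω) ⟶ pullback φ φ // ξ' ≫ pullback.snd φ φ = xbar} :=
    fun o => o.elim δ incl
  have hE : Function.Bijective E := by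
    constructor
    · rintro (_ | a) (_ | b) hab
      · rfl
      · exact absurd hab.symm (hincl_ne b)
      · exact absurd hab (hincl_ne a)
      · exact congrArg some (hincl_inj hab)
    · intro l
      by_cases hl : l = δ
      · exact ⟨none, hl.symm⟩
      · obtain ⟨ξ, hξ⟩ := hsurj l hl
        exact ⟨some ξ, hξ⟩
  haveI : Finite {ξ' : Spec (CommRingCat.of Ω) ⟶ pullback φ φ // ξ' ≫ pullback.snd φ φ = xbar} :=
    Nat.finite_of_card_ne_zero (by rw [h1]; omega)
  haveI : Finite {ξ' : Spec (CommRingCat.of Ω) ⟶ (dcompl φ).toScheme // ξ' ≫ dmap φ = xbar} :=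
    Finite.of_injective incl hincl_inj
  have hc := Nat.card_congr (Equiv.ofBijective E hE)
  rw [Finite.card_option, h1] at hc
  omega

theorem distinct_zero_succ {Y : Scheme.{u}} (ψ' : Y ⟶ X) (t' : Y ⟶ (dcompl φ).toScheme)
    (h : t' ≫ dmap φ = ψ') :
    Distinct ψ' (t' ≫ (dcompl φ).ι ≫ pullback.fst φ φ) := by
  intro T ξ hT heq
  obtain ⟨τ⟩ := hT
  have h' : t' ≫ (dcompl φ).ι ≫ pullback.snd φ φ = ψ' := h
  have hζ : ξ ≫ t' ≫ (dcompl φ).ι = (ξ ≫ ψ') ≫ pullback.diagonal φ := by
    apply pullback.hom_ext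
    · rw [Category.assoc, Category.assoc, Category.assoc, pullback.diagonal_fst, Category.comp_id,
        ← heq]
    · rw [Category.assoc, Category.assoc, Category.assoc, pullback.diagonal_snd, Category.comp_id,
        h']
  have h3 : (dcompl φ).ι ((ξ ≫ t') τ) = pullback.diagonal φ ((ξ ≫ ψ') τ) := by
    rw [← Scheme.Hom.comp_apply, ← Scheme.Hom.comp_apply, Category.assoc, hζ]
  exact ι_apply_mem φ _ ⟨_, h3.symm⟩

theorem distinct_succ_succ {Y : Scheme.{u}} (ψ' : Y ⟶ X) (a b : Y ⟶ (dcompl φ).toScheme)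
    (ha : a ≫ dmap φ = ψ') (hb : b ≫ dmap φ = ψ') (h : Distinct a b) :
    Distinct (a ≫ (dcompl φ).ι ≫ pullback.fst φ φ) (b ≫ (dcompl φ).ι ≫ pullback.fst φ φ) := by
  intro T ξ hT heq
  apply h T ξ hT
  have ha' : a ≫ (dcompl φ).ι ≫ pullback.snd φ φ = ψ' := ha
  have hb' : b ≫ (dcompl φ).ι ≫ pullback.snd φ φ = ψ' := hb
  rw [← cancel_mono (dcompl φ).ι]
  apply pullback.hom_ext
  · simpa only [Category.assoc] using heq
  · rw [Category.assoc, Category.assoc, Category.assoc, Category.assoc, ha', hb']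

end Compl

/-- A finite étale morphism of constant rank `n` is split by a finite étale surjective cover:
there are `n` everywhere distinct sections after base change. -/
theorem exists_splitting (n : ℕ) : ∀ {X S : Scheme.{u}} (φ : X ⟶ S) [IsFinite φ] [Etale φ],
    (∀ s, φ.finrank s = n) →
    ∃ (Y : Scheme.{u}) (ψ : Y ⟶ S) (t : Fin n → (Y ⟶ X)), IsFinite ψ ∧ Etale ψ ∧ Surjective ψ ∧
      (∀ i, t i ≫ φ = ψ) ∧ (∀ i j, i ≠ j → Distinct (t i) (t j)) := by
  induction n with
  | zero =>
    intro X S φ _ _ _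
    exact ⟨S, 𝟙 S, fun i => i.elim0, inferInstance, inferInstance, inferInstance,
      fun i => i.elim0, fun i => i.elim0⟩
  | succ n ih =>
    intro X S φ _ _ hrk
    haveI : Flat φ := inferInstance
    obtain ⟨Y, ψ', t', h1, h2, h3, h4, h5⟩ := ih (dmap φ) (finrank_dmap φ n hrk)
    haveI : Surjective φ := (Scheme.Hom.one_le_finrank_iff_surjective φ).mp (fun s => by
      rw [hrk]; simp)
    refine ⟨Y, ψ' ≫ φ, Fin.cases ψ' (fun i => t' i ≫ (dcompl φ).ι ≫ pullback.fst φ φ),
      inferInstance, inferInstance, inferInstance, ?_, ?_⟩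
    · intro i
      induction i using Fin.cases with
      | zero => rfl
      | succ j =>
        simp only [Fin.cases_succ]
        have h' : t' j ≫ (dcompl φ).ι ≫ pullback.snd φ φ = ψ' := h4 j
        rw [← h']
        simp only [Category.assoc]
        rw [pullback.condition]
    · intro i j hij
      induction i using Fin.cases with
      | zero =>
        induction j using Fin.cases with
        | zero => exact absurd rfl hij
        | succ j =>
          simp only [Fin.cases_zero, Fin.cases_succ]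
          exact distinct_zero_succ φ ψ' (t' j) (h4 j)
      | succ i =>
        induction j using Fin.cases with
        | zero =>
          simp only [Fin.cases_zero, Fin.cases_succ]
          exact (distinct_zero_succ φ ψ' (t' i) (h4 i)).symm
        | succ j =>
          simp only [Fin.cases_succ]
          exact distinct_succ_succ φ ψ' (t' i) (t' j) (h4 i) (h4 j)
            (h5 i j (fun h => hij (congrArg Fin.succ h)))

/-- A finite coproduct of finite morphisms is finite. -/
theorem isFinite_sigmaDesc : ∀ (n : ℕ) (Z : Fin n → Scheme.{u}) (X : Scheme.{u})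
    (g : ∀ i, Z i ⟶ X), (∀ i, IsFinite (g i)) → IsFinite (Sigma.desc g)
  | 0, Z, X, g, _ => by
    have hinit : IsInitial (∐ Z) :=
      IsInitial.ofUniqueHom (fun W => Sigma.desc (fun i => i.elim0))
        (fun W m => Sigma.hom_ext _ _ (fun i => i.elim0))
    haveI : IsEmpty ↥(∐ Z) := isInitial_iff_isEmpty.mp ⟨hinit⟩
    infer_instance
  | n + 1, Z, X, g, hg => by
    haveI := hg
    haveI := isFinite_sigmaDesc n (fun i => Z i.succ) X (fun i => g i.succ) (fun i => hg i.succ)
    haveI hfin2 : IsFinite (coprod.desc (g 0) (Sigma.desc fun i : Fin n => g i.succ)) :=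
      inferInstance
    let c₁ : Cofan (fun i : Fin n => Z i.succ) :=
      Cofan.mk (∐ fun i : Fin n => Z i.succ) (Sigma.ι _)
    let hc₁ : IsColimit c₁ := coproductIsCoproduct _
    let c₂ : BinaryCofan (Z 0) c₁.pt := BinaryCofan.mk coprod.inl coprod.inr
    let hc₂ : IsColimit c₂ := coprodIsCoprod _ _
    let hc := extendCofanIsColimit Z hc₁ hc₂
    let θ : ∐ Z ≅ Z 0 ⨿ ∐ fun i : Fin n => Z i.succ :=
      (coproductIsCoproduct Z).coconePointUniqueUpToIso hc
    have key : Sigma.desc g =
        θ.hom ≫ coprod.desc (g 0) (Sigma.desc fun i : Fin n => g i.succ) := by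
      refine Sigma.hom_ext _ _ (fun i => ?_)
      rw [Sigma.ι_desc, ← Category.assoc]
      have hθ : Sigma.ι Z i ≫ θ.hom = (extendCofan c₁ c₂).ι.app ⟨i⟩ :=
        IsColimit.comp_coconePointUniqueUpToIso_hom (coproductIsCoproduct Z) hc ⟨i⟩
      rw [hθ]
      induction i using Fin.cases with
      | zero =>
        simp [c₂]
        exact (coprod.inl_desc _ _).symm
      | succ j =>
        simp [c₁, c₂]
        show g j.succ = (Sigma.ι (fun b : Fin n => Z b.succ) j ≫
          (coprod.inr : _ ⟶ Z 0 ⨿ ∐ fun i : Fin n => Z i.succ)) ≫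
            coprod.desc (g 0) (Sigma.desc fun i : Fin n => g i.succ)
        rw [Category.assoc, coprod.inr_desc, Sigma.ι_desc]
    rw [key]
    infer_instance

/-- The main equivalence. -/
theorem main {X S : Scheme.{u}} (φ : X ⟶ S) [IsAffineHom φ] [Surjective φ] [ConnectedSpace ↥S] :
    (IsFinite φ ∧ Etale φ) ↔
      ∃ (Y : Scheme.{u}) (ψ : Y ⟶ S), IsFinite ψ ∧ Flat ψ ∧ LocallyOfFinitePresentation ψ ∧
        Surjective ψ ∧
        ∃ (n : ℕ) (e : Limits.pullback φ ψ ≅ ∐ fun _ : Fin n => Y),
          ∀ i : Fin n, Limits.Sigma.ι (fun _ : Fin n => Y) i ≫ e.inv ≫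
            Limits.pullback.snd φ ψ = 𝟙 Y := by
  constructor
  · rintro ⟨hfin, het⟩
    haveI : Flat φ := inferInstance
    obtain ⟨s₀⟩ : Nonempty S := inferInstance
    have hloc := Scheme.Hom.isLocallyConstant_finrank φ
    have hrk : ∀ s, φ.finrank s = φ.finrank s₀ := fun s => hloc.apply_eq_of_preconnectedSpace s s₀
    obtain ⟨Y, ψ, t, h1, h2, h3, h4, h5⟩ := exists_splitting (φ.finrank s₀) φ hrk
    refine ⟨Y, ψ, h1, inferInstance, inferInstance, h3, φ.finrank s₀, ?_⟩
    let g : Fin (φ.finrank s₀) → (Y ⟶ pullback φ ψ) :=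
      fun i => pullback.lift (t i) (𝟙 Y) (by rw [h4 i, Category.id_comp])
    have hg : ∀ i, g i ≫ pullback.snd φ ψ = 𝟙 Y := fun i => pullback.lift_snd _ _ _
    have hgf : ∀ i, g i ≫ pullback.fst φ ψ = t i := fun i => pullback.lift_fst _ _ _
    have hiso : IsIso (Sigma.desc (f := fun _ : Fin (φ.finrank s₀) => Y) g) := by
      refine isIso_sigmaDesc_of_sections (pullback.snd φ ψ) _
        (fun y => by rw [Scheme.Hom.finrank_pullback_snd, hrk]) g hg ?_
      intro i j hij T ξ hT heq
      apply h5 i j hij T ξ hT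
      rw [← hgf i, ← hgf j, ← Category.assoc, heq, Category.assoc]
    refine ⟨(asIso (Sigma.desc (f := fun _ : Fin (φ.finrank s₀) => Y) g)).symm, fun i => ?_⟩
    rw [Iso.symm_inv, asIso_hom, ← Category.assoc, Sigma.ι_desc, hg]
  · rintro ⟨Y, ψ, h1, h2, h3, h4, n, e, he⟩
    have hq : (@Surjective ⊓ @Flat ⊓ @QuasiCompact : MorphismProperty Scheme.{u}) ψ :=
      ⟨⟨h4, h2⟩, inferInstance⟩
    have hsnd : pullback.snd φ ψ =
        e.hom ≫ Sigma.desc (f := fun _ : Fin n => Y) (fun _ => 𝟙 Y) := by
      rw [← Iso.inv_comp_eq]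
      refine Sigma.hom_ext _ _ (fun i => ?_)
      rw [he i, Sigma.ι_desc]
    haveI : IsFinite (Sigma.desc (f := fun _ : Fin n => Y) (fun _ => 𝟙 Y)) :=
      isFinite_sigmaDesc n _ _ _ (fun _ => inferInstance)
    haveI : Etale (Sigma.desc (f := fun _ : Fin n => Y) (fun _ => 𝟙 Y)) :=
      IsZariskiLocalAtSource.sigmaDesc (P := @Etale) (fun _ => inferInstance)
    have hfin : IsFinite (pullback.snd φ ψ) := by rw [hsnd]; infer_instance
    have het : Etale (pullback.snd φ ψ) := by rw [hsnd]; infer_instance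
    have e1 : Etale φ := MorphismProperty.of_pullback_snd_of_descendsAlong (P := @Etale)
      (Q := @Surjective ⊓ @Flat ⊓ @QuasiCompact) hq het
    have e2 : UniversallyClosed φ :=
      MorphismProperty.of_pullback_snd_of_descendsAlong (P := @UniversallyClosed)
        (Q := @Surjective ⊓ @Flat ⊓ @QuasiCompact) hq inferInstance
    have e3 : LocallyOfFiniteType φ :=
      MorphismProperty.of_pullback_snd_of_descendsAlong (P := @LocallyOfFiniteType)
        (Q := @Surjective ⊓ @Flat ⊓ @QuasiCompact) hq inferInstance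
    have e4 : IsIntegralHom φ :=
      IsIntegralHom.iff_universallyClosed_and_isAffineHom.mpr ⟨e2, inferInstance⟩
    exact ⟨(IsFinite.iff_isIntegralHom_and_locallyOfFiniteType φ).mpr ⟨e4, e3⟩, e1⟩

end H3.FEtSplit
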