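import Mathlib
import Groth.Prelude.Def_FEt
import Groth.Agent.Lib.Helper3.FEtSplit

/-!
# Helper3: fibre functors on finite étale covers of a connected scheme

* any natural transformation between two geometric fibre functors is an isomorphism
  (complement of the diagonal + point counting);
* any two geometric fibre functors are isomorphic (Tychonoff compactness; finite subdiagrams are
  handled by a connected cover splitting finitely many covers).
-/

set_option autoImplicit false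
universe u
open CategoryTheory CategoryTheory.Limits AlgebraicGeometry

namespace H3.FEtFib
open H3.FEtSplit

variable {X : Scheme.{u}}

instance instFin (Y : FEt.Cat X) : IsFinite Y.hom := Y.prop.1
instance instEt (Y : FEt.Cat X) : Etale Y.hom := Y.prop.2

theorem natCard_lt_of_injective_of_notMem {α β : Type*} [Finite β] (f : α → β)
    (hf : Function.Injective f) {b : β} (hb : b ∉ Set.range f) : Nat.card α < Nat.card β := by
  haveI : Finite α := Finite.of_injective f hf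
  haveI := Fintype.ofFinite α
  haveI := Fintype.ofFinite β
  rw [Nat.card_eq_fintype_card, Nat.card_eq_fintype_card]
  exact Fintype.card_lt_of_injective_of_notMem f hf hb

section Geom

variable {Ω : Type u} [Field Ω] (ξ : Spec (CommRingCat.of Ω) ⟶ X)

theorem nonempty_pt : Nonempty ↥(Spec (CommRingCat.of Ω)) :=
  inferInstanceAs (Nonempty (PrimeSpectrum Ω))

theorem subsingleton_pt : Subsingleton ↥(Spec (CommRingCat.of Ω)) :=
  inferInstanceAs (Subsingleton (PrimeSpectrum Ω))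

theorem fiberObj_apply (Y : FEt.Cat X) (y : FEt.fiberObj ξ Y) (s : ↥(Spec (CommRingCat.of Ω))) :
    Y.hom (y.1 s) = ξ s := by
  rw [← Scheme.Hom.comp_apply, y.2]

variable [IsSepClosed Ω]

theorem natCard_fiberObj (Y : FEt.Cat X) (s : ↥(Spec (CommRingCat.of Ω))) :
    Nat.card (FEt.fiberObj ξ Y) = Y.hom.finrank (ξ s) := by
  haveI : Flat Y.hom := inferInstance
  exact Helper15.FinEtCount.natCard_lifts_eq_finrank Y.hom Ω ξ s

theorem finite_fiberObj (Y : FEt.Cat X) : Finite (FEt.fiberObj ξ Y) := by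
  haveI : Flat Y.hom := inferInstance
  obtain ⟨s⟩ := nonempty_pt (Ω := Ω)
  by_cases h : Y.hom.finrank (ξ s) = 0
  · haveI : IsEmpty (FEt.fiberObj ξ Y) := ⟨fun y => by
      have h1 := Scheme.Hom.one_le_finrank_map Y.hom (y.1 s)
      rw [fiberObj_apply ξ Y y s, h] at h1
      omega⟩
    infer_instance
  · exact Nat.finite_of_card_ne_zero (by rw [natCard_fiberObj ξ Y s]; exact h)

theorem finrank_const [ConnectedSpace X] (Y : FEt.Cat X) (x x' : X) :
    Y.hom.finrank x = Y.hom.finrank x' := by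
  haveI : Flat Y.hom := inferInstance
  have h := Scheme.Hom.isLocallyConstant_finrank (X := Y.left) (Y := X) Y.hom
  exact h.apply_eq_of_preconnectedSpace x x'

theorem nonempty_fiberObj_of_point [ConnectedSpace X] (Y : FEt.Cat X) (y₀ : Y.left) :
    Nonempty (FEt.fiberObj ξ Y) := by
  haveI : Flat Y.hom := inferInstance
  obtain ⟨s⟩ := nonempty_pt (Ω := Ω)
  have h1 := Scheme.Hom.one_le_finrank_map Y.hom y₀
  rw [finrank_const Y _ (ξ s), ← natCard_fiberObj ξ Y s] at h1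
  exact (Nat.card_pos_iff.mp h1).1

end Geom

/-! ### Natural transformations of fibre functors are injective, hence bijective -/

section Inj

/-- The complement of the diagonal of `Y ×_X Y` as a finite étale cover of `X`. -/
noncomputable def dObj (Y : FEt.Cat X) : FEt.Cat X :=
  MorphismProperty.Over.mk ⊤ (dmap Y.hom ≫ Y.hom) ⟨inferInstance, inferInstance⟩

noncomputable def dπ₁ (Y : FEt.Cat X) : dObj Y ⟶ Y :=
  MorphismProperty.Over.homMk ((dcompl Y.hom).ι ≫ pullback.fst Y.hom Y.hom) (by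
    show ((dcompl Y.hom).ι ≫ pullback.fst Y.hom Y.hom) ≫ Y.hom = dmap Y.hom ≫ Y.hom
    unfold dmap
    rw [Category.assoc, Category.assoc, pullback.condition])

noncomputable def dπ₂ (Y : FEt.Cat X) : dObj Y ⟶ Y :=
  MorphismProperty.Over.homMk (dmap Y.hom) rfl

theorem dπ₁_left (Y : FEt.Cat X) :
    (dπ₁ Y).left = (dcompl Y.hom).ι ≫ pullback.fst Y.hom Y.hom := rfl

theorem dπ₂_left (Y : FEt.Cat X) : (dπ₂ Y).left = dmap Y.hom := rfl

theorem fiber_map_val {Ω : Type u} [Field Ω] (ξ : Spec (CommRingCat.of Ω) ⟶ X) {Y Z : FEt.Cat X}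
    (h : Y ⟶ Z) (w : FEt.fiberObj ξ Y) : ((FEt.fiber ξ).map h w).1 = w.1 ≫ h.left := rfl

/-- No point of the complement of the diagonal has equal projections. -/
theorem dcompl_fst_ne_snd {X Y : Scheme.{u}} (φ : Y ⟶ X) [IsFinite φ] [Etale φ] {T : Scheme.{u}}
    (cv : T ⟶ (dcompl φ).toScheme) (τ : T)
    (k : cv ≫ ((dcompl φ).ι ≫ pullback.fst φ φ) = cv ≫ dmap φ) : False := by
  unfold dmap at k
  rw [← Category.assoc, ← Category.assoc] at k
  have hd : cv ≫ (dcompl φ).ι =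
      ((cv ≫ (dcompl φ).ι) ≫ pullback.fst φ φ) ≫ pullback.diagonal φ := by
    apply pullback.hom_ext
    · rw [Category.assoc _ (pullback.diagonal φ), pullback.diagonal_fst, Category.comp_id]
    · rw [Category.assoc _ (pullback.diagonal φ), pullback.diagonal_snd, Category.comp_id, k]
  have h3 : (dcompl φ).ι (cv τ) = pullback.diagonal φ
      ((((cv ≫ (dcompl φ).ι) ≫ pullback.fst φ φ)) τ) := by
    rw [← Scheme.Hom.comp_apply, ← Scheme.Hom.comp_apply, ← hd]
  exact ι_apply_mem φ (cv τ) ⟨_, h3.symm⟩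

variable {Ω Ω' : Type u} [Field Ω] [Field Ω'] (ξ : Spec (CommRingCat.of Ω) ⟶ X)
  (ξ' : Spec (CommRingCat.of Ω') ⟶ X)

theorem app_injective (φ : FEt.fiber ξ ⟶ FEt.fiber ξ') (Y : FEt.Cat X) :
    Function.Injective (φ.app Y) := by
  intro y₁ y₂ heq
  by_contra hne
  obtain ⟨s⟩ := nonempty_pt (Ω := Ω)
  haveI := subsingleton_pt (Ω := Ω)
  obtain ⟨s'⟩ := nonempty_pt (Ω := Ω')
  have hy₁ : y₁.1 ≫ Y.hom = ξ := y₁.2
  have hy₂ : y₂.1 ≫ Y.hom = ξ := y₂.2
  obtain ⟨ζ, hζdef⟩ : ∃ ζ : Spec (CommRingCat.of Ω) ⟶ pullback Y.hom Y.hom,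
      ζ = pullback.lift y₁.1 y₂.1 (hy₁.trans hy₂.symm) := ⟨_, rfl⟩
  have hζ1 : ζ ≫ pullback.fst Y.hom Y.hom = y₁.1 := by rw [hζdef, pullback.lift_fst]
  have hζ2 : ζ ≫ pullback.snd Y.hom Y.hom = y₂.1 := by rw [hζdef, pullback.lift_snd]
  have hζ : ζ s ∉ Set.range (pullback.diagonal Y.hom) := by
    intro hmem
    have hsub : Set.range ζ ⊆ Set.range (pullback.diagonal Y.hom) := by
      rintro _ ⟨t, rfl⟩
      rwa [Subsingleton.elim t s]
    have hfac := IsOpenImmersion.lift_fac (pullback.diagonal Y.hom) ζ hsub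
    apply hne
    apply Subtype.ext
    have e1 : IsOpenImmersion.lift (pullback.diagonal Y.hom) ζ hsub = y₁.1 := by
      have h := congrArg (· ≫ pullback.fst Y.hom Y.hom) hfac
      simp only [Category.assoc, pullback.diagonal_fst, Category.comp_id] at h
      rw [h, hζ1]
    have e2 : IsOpenImmersion.lift (pullback.diagonal Y.hom) ζ hsub = y₂.1 := by
      have h := congrArg (· ≫ pullback.snd Y.hom Y.hom) hfac
      simp only [Category.assoc, pullback.diagonal_snd, Category.comp_id] at h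
      rw [h, hζ2]
    rw [← e1, e2]
  have hsub : Set.range ζ ⊆ Set.range (dcompl Y.hom).ι := by
    rw [Scheme.Opens.range_ι]
    rintro _ ⟨t, rfl⟩
    rw [Subsingleton.elim t s]
    exact hζ
  obtain ⟨c₀v, hfac⟩ : ∃ c₀v : Spec (CommRingCat.of Ω) ⟶ (dcompl Y.hom).toScheme,
      c₀v ≫ (dcompl Y.hom).ι = ζ := ⟨_, IsOpenImmersion.lift_fac (dcompl Y.hom).ι ζ hsub⟩
  let c₀ : FEt.fiberObj ξ (dObj Y) := ⟨c₀v, by
    show c₀v ≫ (dmap Y.hom ≫ Y.hom) = ξ
    unfold dmap
    rw [← Category.assoc, ← Category.assoc, hfac, hζ2, hy₂]⟩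
  have n1 := NatTrans.naturality_apply φ (dπ₁ Y) c₀
  have n2 := NatTrans.naturality_apply φ (dπ₂ Y) c₀
  have m1 : (FEt.fiber ξ).map (dπ₁ Y) c₀ = y₁ := by
    apply Subtype.ext
    rw [fiber_map_val, dπ₁_left]
    show c₀v ≫ ((dcompl Y.hom).ι ≫ pullback.fst Y.hom Y.hom) = y₁.1
    rw [← Category.assoc, hfac, hζ1]
  have m2 : (FEt.fiber ξ).map (dπ₂ Y) c₀ = y₂ := by
    apply Subtype.ext
    rw [fiber_map_val, dπ₂_left]
    show c₀v ≫ ((dcompl Y.hom).ι ≫ pullback.snd Y.hom Y.hom) = y₂.1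
    rw [← Category.assoc, hfac, hζ2]
  rw [m1] at n1
  rw [m2] at n2
  obtain ⟨c', hc'⟩ : ∃ c' : FEt.fiberObj ξ' (dObj Y), c' = φ.app (dObj Y) c₀ := ⟨_, rfl⟩
  rw [← hc'] at n1 n2
  have k0 : (FEt.fiber ξ').map (dπ₁ Y) c' = (FEt.fiber ξ').map (dπ₂ Y) c' :=
    n1.symm.trans (heq.trans n2)
  have k1 := congrArg Subtype.val k0
  rw [fiber_map_val, fiber_map_val, dπ₁_left, dπ₂_left] at k1
  exact dcompl_fst_ne_snd Y.hom c'.1 s' k1

theorem isIso_of_connected [ConnectedSpace X] [IsSepClosed Ω] [IsSepClosed Ω']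
    (φ : FEt.fiber ξ ⟶ FEt.fiber ξ') : IsIso φ := by
  haveI : ∀ Y, IsIso (φ.app Y) := fun Y => by
    rw [isIso_iff_bijective]
    obtain ⟨s⟩ := nonempty_pt (Ω := Ω)
    obtain ⟨s'⟩ := nonempty_pt (Ω := Ω')
    haveI : Finite ((FEt.fiber ξ').obj Y) := finite_fiberObj ξ' Y
    refine (app_injective ξ ξ' φ Y).bijective_of_nat_card_le ?_
    have h1 : Nat.card (FEt.fiberObj ξ' Y) ≤ Nat.card (FEt.fiberObj ξ Y) := by
      rw [natCard_fiberObj ξ Y s, natCard_fiberObj ξ' Y s', finrank_const Y (ξ s) (ξ' s')]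
    exact h1
  exact NatIso.isIso_of_isIso_app φ

end Inj

/-! ### Splitting data -/

/-- `P` trivialises `W`: rank-many everywhere distinct `X`-morphisms `P → W`. -/
structure SplitData (P W : FEt.Cat X) where
  n : ℕ
  t : Fin n → (P.left ⟶ W.left)
  hrk : ∀ x, W.hom.finrank x = n
  ht : ∀ j, t j ≫ W.hom = P.hom
  hd : ∀ i j, i ≠ j → Distinct (t i) (t j)

noncomputable def SplitData.precomp {P P' W : FEt.Cat X} (h : P' ⟶ P) (D : SplitData P W) :
    SplitData P' W where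
  n := D.n
  t j := h.left ≫ D.t j
  hrk := D.hrk
  ht j := by rw [Category.assoc, D.ht, MorphismProperty.Over.w]
  hd i j hij T ζ hT heq := D.hd i j hij T (ζ ≫ h.left) hT (by
    rw [Category.assoc, Category.assoc]; exact heq)

theorem exists_splits_step [ConnectedSpace X] (P W : FEt.Cat X) [Surjective P.hom] :
    ∃ (P' : FEt.Cat X) (_ : P' ⟶ P), Surjective P'.hom ∧ Nonempty (SplitData P' W) := by
  obtain ⟨x₀⟩ : Nonempty X := inferInstance
  haveI : Flat W.hom := inferInstance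
  have hrk : ∀ y, (pullback.snd W.hom P.hom).finrank y = W.hom.finrank x₀ := fun y => by
    rw [Scheme.Hom.finrank_pullback_snd, finrank_const W _ x₀]
  obtain ⟨Y, ψ, t, h1, h2, h3, h4, h5⟩ :=
    exists_splitting (W.hom.finrank x₀) (pullback.snd W.hom P.hom) hrk
  refine ⟨MorphismProperty.Over.mk ⊤ (ψ ≫ P.hom) ⟨inferInstance, inferInstance⟩,
    MorphismProperty.Over.homMk ψ rfl, ?_, ⟨?_⟩⟩
  · show Surjective (ψ ≫ P.hom)
    infer_instance
  · refine ⟨W.hom.finrank x₀, fun j => t j ≫ pullback.fst W.hom P.hom,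
      fun x => finrank_const W x x₀, fun j => ?_, fun i j hij T ζ hT heq => ?_⟩
    · show (t j ≫ pullback.fst W.hom P.hom) ≫ W.hom = ψ ≫ P.hom
      rw [Category.assoc, pullback.condition, ← Category.assoc, h4 j]
    · apply h5 i j hij T ζ hT
      apply pullback.hom_ext
      · rw [Category.assoc, Category.assoc]; exact heq
      · rw [Category.assoc, Category.assoc, h4 i, h4 j]

theorem exists_splits_all [ConnectedSpace X] (l : List (FEt.Cat X)) :
    ∃ P : FEt.Cat X, Surjective P.hom ∧ ∀ W ∈ l, Nonempty (SplitData P W) := by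
  induction l with
  | nil =>
    refine ⟨MorphismProperty.Over.mk ⊤ (𝟙 X) ⟨inferInstance, inferInstance⟩, ?_, by simp⟩
    show Surjective (𝟙 X)
    infer_instance
  | cons W l ih =>
    obtain ⟨P, hP, hl⟩ := ih
    haveI := hP
    obtain ⟨P', h, hP', hW⟩ := exists_splits_step P W
    refine ⟨P', hP', fun W' hW' => ?_⟩
    rcases List.mem_cons.mp hW' with rfl | hmem
    · exact hW
    · exact ⟨(hl W' hmem).some.precomp h⟩

theorem opens_disjoint_aux {P : Scheme.{u}} (U₁ U₂ : P.Opens) (hdisj : ∀ x, x ∈ U₁ → x ∉ U₂)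
    {T : Scheme.{u}} (τ : T) (a : T ⟶ U₁.toScheme) (b : T ⟶ U₂.toScheme)
    (h : a ≫ U₁.ι = b ≫ U₂.ι) : False := by
  have h2 : U₁.ι (a τ) = U₂.ι (b τ) := by
    rw [← Scheme.Hom.comp_apply, ← Scheme.Hom.comp_apply, h]
  have m1 : U₁.ι (a τ) ∈ Set.range U₁.ι := ⟨_, rfl⟩
  have m2 : U₂.ι (b τ) ∈ Set.range U₂.ι := ⟨_, rfl⟩
  rw [Scheme.Opens.range_ι] at m1 m2
  rw [h2] at m1
  exact hdisj _ m1 m2

theorem exists_connected_splits [ConnectedSpace X] {Ω : Type u} [Field Ω] [IsSepClosed Ω]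
    (ξ : Spec (CommRingCat.of Ω) ⟶ X) (l : List (FEt.Cat X)) :
    ∃ P : FEt.Cat X, ConnectedSpace P.left ∧ ∀ W ∈ l, Nonempty (SplitData P W) := by
  obtain ⟨P₀, hP₀, hl₀⟩ := exists_splits_all l
  have hne₀ : Nonempty P₀.left := by
    obtain ⟨x₀⟩ : Nonempty X := inferInstance
    obtain ⟨p, -⟩ := hP₀.surj x₀
    exact ⟨p⟩
  suffices H : ∀ r : ℕ, ∀ P : FEt.Cat X, Nonempty P.left → (∀ W ∈ l, Nonempty (SplitData P W)) →
      Nat.card (FEt.fiberObj ξ P) = r →
      ∃ P' : FEt.Cat X, ConnectedSpace P'.left ∧ ∀ W ∈ l, Nonempty (SplitData P' W) from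
    H _ P₀ hne₀ hl₀ rfl
  intro r
  induction r using Nat.strong_induction_on with
  | _ r ih =>
    intro P hne hl hr
    by_cases hc : PreconnectedSpace P.left
    · exact ⟨P, { toPreconnectedSpace := hc, toNonempty := hne }, hl⟩
    · rw [preconnectedSpace_iff_clopen] at hc
      push_neg at hc
      obtain ⟨A, hA, hA0, hA1⟩ := hc
      obtain ⟨s⟩ := nonempty_pt (Ω := Ω)
      let U₁ : P.left.Opens := ⟨A, hA.isOpen⟩
      let U₂ : P.left.Opens := ⟨Aᶜ, hA.compl.isOpen⟩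
      haveI : IsClosedImmersion U₁.ι := IsClosedImmersion.of_isPreimmersion _ (by
        rw [Scheme.Opens.range_ι]; exact hA.isClosed)
      haveI : IsClosedImmersion U₂.ι := IsClosedImmersion.of_isPreimmersion _ (by
        rw [Scheme.Opens.range_ι]; exact hA.compl.isClosed)
      let P₁ : FEt.Cat X := MorphismProperty.Over.mk ⊤ (U₁.ι ≫ P.hom) ⟨inferInstance, inferInstance⟩
      let P₂ : FEt.Cat X := MorphismProperty.Over.mk ⊤ (U₂.ι ≫ P.hom) ⟨inferInstance, inferInstance⟩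
      let i₁ : P₁ ⟶ P := MorphismProperty.Over.homMk U₁.ι rfl
      have hne₁ : Nonempty P₁.left := by
        obtain ⟨a, ha⟩ := hA0
        have : a ∈ Set.range U₁.ι := by rw [Scheme.Opens.range_ι]; exact ha
        obtain ⟨y, -⟩ := this
        exact ⟨y⟩
      obtain ⟨y₂⟩ : Nonempty P₂.left := by
        obtain ⟨a, ha⟩ := Set.nonempty_compl.mpr hA1
        have : a ∈ Set.range U₂.ι := by rw [Scheme.Opens.range_ι]; exact ha
        obtain ⟨y, -⟩ := this
        exact ⟨y⟩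
      obtain ⟨q₂⟩ := nonempty_fiberObj_of_point ξ P₂ y₂
      haveI := finite_fiberObj ξ P
      let incl : FEt.fiberObj ξ P₁ → FEt.fiberObj ξ P := fun q => ⟨q.1 ≫ U₁.ι, by
        rw [Category.assoc]; exact q.2⟩
      have hinj : Function.Injective incl := fun a b hab =>
        Subtype.ext ((cancel_mono U₁.ι).mp (congrArg Subtype.val hab))
      let b : FEt.fiberObj ξ P := ⟨q₂.1 ≫ U₂.ι, by rw [Category.assoc]; exact q₂.2⟩
      have hb : b ∉ Set.range incl := by
        rintro ⟨q, hq⟩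
        have h1 : q.1 ≫ U₁.ι = q₂.1 ≫ U₂.ι := congrArg Subtype.val hq
        exact opens_disjoint_aux U₁ U₂
          (fun x m1 m2 => (show x ∈ Aᶜ from m2) (show x ∈ A from m1)) s q.1 q₂.1 h1
      have hlt := natCard_lt_of_injective_of_notMem incl hinj hb
      exact ih _ (hr ▸ hlt) P₁ hne₁ (fun W hW => ⟨(hl W hW).some.precomp i₁⟩) rfl

/-! ### Evaluation at a geometric point -/

section Theta

variable {Ω : Type u} [Field Ω] [IsSepClosed Ω] (ξ : Spec (CommRingCat.of Ω) ⟶ X)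

/-- Evaluate the sections of a splitting at a geometric point of the cover. -/
noncomputable def ev {P W : FEt.Cat X} (D : SplitData P W) (p : FEt.fiberObj ξ P) :
    Fin D.n → FEt.fiberObj ξ W :=
  fun j => ⟨p.1 ≫ D.t j, by rw [Category.assoc, D.ht j]; exact p.2⟩

theorem ev_bijective {P W : FEt.Cat X} (D : SplitData P W) (p : FEt.fiberObj ξ P) :
    Function.Bijective (ev ξ D p) := by
  obtain ⟨s⟩ := nonempty_pt (Ω := Ω)
  haveI := finite_fiberObj ξ W
  refine Function.Injective.bijective_of_nat_card_le (fun i j hij => ?_) (by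
    rw [natCard_fiberObj ξ W s, D.hrk, Nat.card_fin])
  by_contra hne
  exact D.hd i j hne _ p.1 ⟨s⟩ (congrArg Subtype.val hij)

end Theta

theorem exists_mem_range_of_isIso_sigmaDesc {n : ℕ} {Y W : Scheme.{u}} (g : Fin n → (Y ⟶ W))
    (hiso : IsIso (Sigma.desc (f := fun _ : Fin n => Y) g)) (w : W) :
    ∃ i, w ∈ Set.range (g i) := by
  have hs : Surjective (Sigma.desc (f := fun _ : Fin n => Y) g) :=
    ((isIso_iff_isOpenImmersion_and_surjective _).mp hiso).2
  obtain ⟨z, rfl⟩ := hs.surj w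
  obtain ⟨i, y, hy⟩ := (sigmaOpenCover (fun _ : Fin n => Y)).exists_eq z
  refine ⟨i, y, ?_⟩
  rw [← hy]
  show g i y = (Sigma.desc (f := fun _ : Fin n => Y) g) ((Sigma.ι (fun _ : Fin n => Y) i) y)
  rw [← Scheme.Hom.comp_apply, Sigma.ι_desc]

/-- Over a connected cover, every `X`-morphism into a split cover is one of the sections. -/
theorem exists_factor {P W : FEt.Cat X} [ConnectedSpace P.left] (D : SplitData P W)
    (σ₀ : P.left ⟶ W.left) (hσ₀ : σ₀ ≫ W.hom = P.hom) : ∃ k, σ₀ = D.t k := by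
  haveI : Flat W.hom := inferInstance
  let g : Fin D.n → (P.left ⟶ pullback W.hom P.hom) :=
    fun k => pullback.lift (D.t k) (𝟙 _) (by rw [D.ht k, Category.id_comp])
  have hg : ∀ k, g k ≫ pullback.snd W.hom P.hom = 𝟙 _ := fun k => pullback.lift_snd _ _ _
  have hgf : ∀ k, g k ≫ pullback.fst W.hom P.hom = D.t k := fun k => pullback.lift_fst _ _ _
  have hiso : IsIso (Sigma.desc (f := fun _ : Fin D.n => P.left) g) :=
    isIso_sigmaDesc_of_sections (pullback.snd W.hom P.hom) D.n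
      (fun y => by rw [Scheme.Hom.finrank_pullback_snd, D.hrk]) g hg
      (fun i j hij T ζ hT heq => D.hd i j hij T ζ hT (by
        rw [← hgf i, ← hgf j, ← Category.assoc, heq, Category.assoc]))
  obtain ⟨σ, hσdef⟩ : ∃ σ : P.left ⟶ pullback W.hom P.hom,
      σ = pullback.lift σ₀ (𝟙 _) (by rw [hσ₀, Category.id_comp]) := ⟨_, rfl⟩
  have hσ1 : σ ≫ pullback.fst W.hom P.hom = σ₀ := by rw [hσdef, pullback.lift_fst]
  have hσ2 : σ ≫ pullback.snd W.hom P.hom = 𝟙 _ := by rw [hσdef, pullback.lift_snd]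
  obtain ⟨π₀⟩ : Nonempty P.left := inferInstance
  obtain ⟨k, hk⟩ := exists_mem_range_of_isIso_sigmaDesc g hiso (σ π₀)
  haveI : IsOpenImmersion (g k) := isOpenImmersion_of_section _ (g k) (hg k)
  haveI : IsClosedImmersion (g k) := by
    have h1 : IsClosedImmersion (g k ≫ pullback.snd W.hom P.hom) := by
      rw [hg k]; infer_instance
    exact MorphismProperty.of_postcomp (W := @IsClosedImmersion) (W' := @IsSeparated) (g k)
      (pullback.snd W.hom P.hom) inferInstance h1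
  have hclopen : IsClopen (σ ⁻¹' Set.range (g k)) :=
    ⟨(g k).isClosedEmbedding.isClosed_range.preimage σ.continuous,
      (g k).isOpenEmbedding.isOpen_range.preimage σ.continuous⟩
  have huniv : σ ⁻¹' Set.range (g k) = Set.univ := hclopen.eq_univ ⟨π₀, hk⟩
  have hsub : Set.range σ ⊆ Set.range (g k) := by
    rintro _ ⟨π, rfl⟩
    have : π ∈ σ ⁻¹' Set.range (g k) := by rw [huniv]; trivial
    exact this
  have hfac := IsOpenImmersion.lift_fac (g k) σ hsub
  have hu : IsOpenImmersion.lift (g k) σ hsub = 𝟙 _ := by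
    have h := congrArg (· ≫ pullback.snd W.hom P.hom) hfac
    simp only [Category.assoc, hg k, Category.comp_id] at h
    rw [h, hσ2]
  rw [hu, Category.id_comp] at hfac
  refine ⟨k, ?_⟩
  rw [← hσ1, ← hfac, hgf k]

section Theta2

variable {Ω Ω' : Type u} [Field Ω] [IsSepClosed Ω] [Field Ω'] [IsSepClosed Ω']
  (ξ : Spec (CommRingCat.of Ω) ⟶ X) (ξ' : Spec (CommRingCat.of Ω') ⟶ X)

/-- Transport of geometric points from `ξ` to `ξ'` through a splitting. -/
noncomputable def theta {P W : FEt.Cat X} (D : SplitData P W) (p : FEt.fiberObj ξ P)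
    (p' : FEt.fiberObj ξ' P) : FEt.fiberObj ξ W → FEt.fiberObj ξ' W :=
  fun w => ev ξ' D p' ((Equiv.ofBijective _ (ev_bijective ξ D p)).symm w)

theorem theta_ev {P W : FEt.Cat X} (D : SplitData P W) (p : FEt.fiberObj ξ P)
    (p' : FEt.fiberObj ξ' P) (j : Fin D.n) :
    theta ξ ξ' D p p' (ev ξ D p j) = ev ξ' D p' j := by
  unfold theta
  rw [Equiv.ofBijective_symm_apply_apply]

theorem theta_natural {P W₁ W₂ : FEt.Cat X} [ConnectedSpace P.left] (D₁ : SplitData P W₁)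
    (D₂ : SplitData P W₂) (h : W₁ ⟶ W₂) (p : FEt.fiberObj ξ P) (p' : FEt.fiberObj ξ' P)
    (w : FEt.fiberObj ξ W₁) :
    theta ξ ξ' D₂ p p' ((FEt.fiber ξ).map h w) = (FEt.fiber ξ').map h (theta ξ ξ' D₁ p p' w) := by
  obtain ⟨j, rfl⟩ := (ev_bijective ξ D₁ p).2 w
  obtain ⟨k, hk⟩ := exists_factor D₂ (D₁.t j ≫ h.left) (by
    rw [Category.assoc, MorphismProperty.Over.w, D₁.ht])
  have e1 : (FEt.fiber ξ).map h (ev ξ D₁ p j) = ev ξ D₂ p k := by
    apply Subtype.ext
    show (p.1 ≫ D₁.t j) ≫ h.left = p.1 ≫ D₂.t k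
    rw [Category.assoc, hk]
  have e2 : (FEt.fiber ξ').map h (ev ξ' D₁ p' j) = ev ξ' D₂ p' k := by
    apply Subtype.ext
    show (p'.1 ≫ D₁.t j) ≫ h.left = p'.1 ≫ D₂.t k
    rw [Category.assoc, hk]
  rw [e1, theta_ev, theta_ev, e2]

theorem exists_natTrans [ConnectedSpace X] : Nonempty (FEt.fiber ξ ⟶ FEt.fiber ξ') := by
  classical
  obtain ⟨s⟩ := nonempty_pt (Ω := Ω)
  obtain ⟨s'⟩ := nonempty_pt (Ω := Ω')
  have hdef : ∀ Y : FEt.Cat X, Nonempty (FEt.fiberObj ξ Y → FEt.fiberObj ξ' Y) := fun Y => by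
    by_cases hY : Nonempty (FEt.fiberObj ξ' Y)
    · exact ⟨fun _ => hY.some⟩
    · exact ⟨fun w => absurd (nonempty_fiberObj_of_point ξ' Y (w.1 s)) hY⟩
  letI : ∀ Y : FEt.Cat X, TopologicalSpace (FEt.fiberObj ξ Y → FEt.fiberObj ξ' Y) := fun _ => ⊥
  haveI : ∀ Y : FEt.Cat X, DiscreteTopology (FEt.fiberObj ξ Y → FEt.fiberObj ξ' Y) :=
    fun _ => ⟨rfl⟩
  haveI : ∀ Y : FEt.Cat X, Finite (FEt.fiberObj ξ Y → FEt.fiberObj ξ' Y) := fun Y => by
    haveI := finite_fiberObj ξ Y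
    haveI := finite_fiberObj ξ' Y
    infer_instance
  let N : (Σ (Y Z : FEt.Cat X), (Y ⟶ Z)) →
      Set (∀ Y : FEt.Cat X, FEt.fiberObj ξ Y → FEt.fiberObj ξ' Y) :=
    fun i => {θ | ∀ w : FEt.fiberObj ξ i.1,
      θ i.2.1 ((FEt.fiber ξ).map i.2.2 w) = (FEt.fiber ξ').map i.2.2 (θ i.1 w)}
  have hclosed : ∀ i, IsClosed (N i) := fun i => by
    have hc : Continuous (fun θ : (∀ Y : FEt.Cat X, FEt.fiberObj ξ Y → FEt.fiberObj ξ' Y) =>
        (θ i.1, θ i.2.1)) := (continuous_apply i.1).prodMk (continuous_apply i.2.1)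
    exact (isClosed_discrete {q : (FEt.fiberObj ξ i.1 → FEt.fiberObj ξ' i.1) ×
        (FEt.fiberObj ξ i.2.1 → FEt.fiberObj ξ' i.2.1) | ∀ w : FEt.fiberObj ξ i.1,
        q.2 ((FEt.fiber ξ).map i.2.2 w) = (FEt.fiber ξ').map i.2.2 (q.1 w)}).preimage hc
  have hfip : ∀ u : Finset (Σ (Y Z : FEt.Cat X), (Y ⟶ Z)),
      (Set.univ ∩ ⋂ i ∈ u, N i).Nonempty := by
    intro u
    obtain ⟨P, hPc, hPl⟩ := exists_connected_splits ξ (u.toList.flatMap (fun i => [i.1, i.2.1]))
    haveI := hPc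
    obtain ⟨π₀⟩ : Nonempty P.left := inferInstance
    obtain ⟨p⟩ := nonempty_fiberObj_of_point ξ P π₀
    obtain ⟨p'⟩ := nonempty_fiberObj_of_point ξ' P π₀
    let θ : ∀ Y : FEt.Cat X, FEt.fiberObj ξ Y → FEt.fiberObj ξ' Y := fun Y =>
      if h : Nonempty (SplitData P Y) then theta ξ ξ' h.some p p' else (hdef Y).some
    refine ⟨θ, Set.mem_univ _, ?_⟩
    simp only [Set.mem_iInter]
    intro i hi w
    have h1 : Nonempty (SplitData P i.1) :=
      hPl _ (List.mem_flatMap.mpr ⟨i, Finset.mem_toList.mpr hi, by simp⟩)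
    have h2 : Nonempty (SplitData P i.2.1) :=
      hPl _ (List.mem_flatMap.mpr ⟨i, Finset.mem_toList.mpr hi, by simp⟩)
    show θ i.2.1 ((FEt.fiber ξ).map i.2.2 w) = (FEt.fiber ξ').map i.2.2 (θ i.1 w)
    simp only [θ, dif_pos h1, dif_pos h2]
    exact theta_natural ξ ξ' h1.some h2.some i.2.2 p p' w
  obtain ⟨θ, -, hθ⟩ := isCompact_univ.inter_iInter_nonempty N hclosed hfip
  simp only [Set.mem_iInter] at hθ
  exact ⟨{ app := fun Y => TypeCat.ofHom (θ Y)
           naturality := fun Y Z h => by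
            apply ConcreteCategory.hom_ext
            intro w
            exact hθ ⟨Y, Z, h⟩ w }⟩

theorem nonempty_iso [ConnectedSpace X] : Nonempty (FEt.fiber ξ ≅ FEt.fiber ξ') := by
  obtain ⟨τ⟩ := exists_natTrans ξ ξ'
  haveI := isIso_of_connected ξ ξ' τ
  exact ⟨asIso τ⟩

end Theta2

end H3.FEtFib
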