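import Mathlib
import Groth.Prelude
import Groth.Agent.Lib.Helper3.FreeBasis
import Groth.Agent.Lib.Helper3.InvGen
import Groth.Agent.Lib.Helper3.InvCoh
import Groth.Agent.Lib.Helper3.QCSec
import Groth.Agent.Lib.Helper3.SecLoc
import Groth.Agent.Lib.Helper3.QCPush
import Groth.Agent.Lib.Helper3.NormAlg
import Groth.Agent.Lib.Helper16.Norm.FreeNorm
import Groth.Agent.Lib.Helper17.FinCovTrace
import Groth.Agent.Lib.Helper3.FEtFib

/-!
# Helper3: the degree of a finite étale cover — `π_* O_X` locally free of rank `n` versus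
`Scheme.Hom.finrank`; splitting covers of degree `n!`; counting morphisms into a cover.
-/

set_option autoImplicit false
universe u
open CategoryTheory CategoryTheory.Limits AlgebraicGeometry Opposite TopologicalSpace
open Groth.Agent.Lib.Helper3 Groth.Agent.Lib.Helper3.QCSec Groth.Agent.Lib.Helper3.InvGen
  Groth.Agent.Lib.Helper3.FreeBasis

namespace H3.FEtRank
open H16FNorm H3.FEtSplit H3.FEtFib

section Rank

variable {X Y : Scheme.{u}} (π : X ⟶ Y)

/-- `π_* O_X`. -/
noncomputable abbrev pushO : Y.Modules :=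
  (Scheme.Modules.pushforward π).obj (Coh.structureModule X)

/-- sections of `π_* O_X` over `V` are functions on `π⁻¹ V`. -/
noncomputable def secEquiv (V : Y.Opens) :
    letI := alg π V
    Γ(pushO π, V) ≃ₗ[Γ(Y, V)] Γ(X, π ⁻¹ᵁ V) :=
  letI := alg π V
  { toFun := fun a => a
    invFun := fun a => a
    map_add' := fun _ _ => rfl
    map_smul' := fun _ _ => rfl
    left_inv := fun _ => rfl
    right_inv := fun _ => rfl }

variable [IsFinite π] [Flat π] [LocallyOfFinitePresentation π]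

theorem finrank_of_good {V : Y.Opens} (hV : Good π V) (p : PrimeSpectrum Γ(Y, V)) :
    letI := alg π V
    π.finrank (hV.affine.fromSpec p) = Module.finrank Γ(Y, V) Γ(X, π ⁻¹ᵁ V) := by
  letI := alg π V
  haveI := hV.free
  have hπV : IsAffineOpen (π ⁻¹ᵁ V) := hV.affine.preimage π
  have hfin : (π.app V).hom.Finite := π.finite_app V hV.affine
  have hflat : (π.app V).hom.Flat := by
    have := π.flat_appLE hV.affine hπV le_rfl
    rwa [← Scheme.Hom.app_eq_appLE] at this
  have hpb : IsPullback (Spec.map (π.app V)) hπV.fromSpec hV.affine.fromSpec π := by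
    refine IsOpenImmersion.isPullback _ _ _ _ ?_ ?_
    · have := hV.affine.SpecMap_appLE_fromSpec π hπV le_rfl
      rw [← Scheme.Hom.app_eq_appLE] at this
      exact this.symm
    · rw [hV.affine.opensRange_fromSpec, hπV.opensRange_fromSpec]
  have h1 := Scheme.Hom.finrank_of_isPullback hπV.fromSpec (Spec.map (π.app V)) π
    hV.affine.fromSpec hpb.flip p
  rw [Scheme.Hom.finrank_SpecMap_eq_finrank hfin hflat] at h1
  have h2 : (π.app V).hom.finrank p = Module.finrank Γ(Y, V) Γ(X, π ⁻¹ᵁ V) := by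
    change Module.rankAtStalk (R := Γ(Y, V)) Γ(X, π ⁻¹ᵁ V) p = _
    rw [Module.rankAtStalk_eq_finrank_of_free]
    rfl
  exact h1.symm.trans h2

theorem finrank_of_isFinLocFreeOfRank (n : ℕ) (hdeg : FlatMod.IsFinLocFreeOfRank n (pushO π))
    (y : Y) : π.finrank y = n := by
  obtain ⟨V, -, hyV, hV, e, he⟩ :=
    Groth.Agent.Lib.Helper17.FinCovTrace.exists_affine_isBasis hdeg ⊤ y trivial
  letI := alg π V
  haveI : Nontrivial Γ(Y, V) :=
    PrimeSpectrum.nontrivial (R := Γ(Y, V)) (hV.primeIdealOf ⟨y, hyV⟩)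
  let b₀ : Module.Basis (Fin n) Γ(Y, V) Γ(pushO π, V) := NormAlg.basisOfBijective e he.self
  let b : Module.Basis (Fin n) Γ(Y, V) Γ(X, π ⁻¹ᵁ V) := b₀.map (secEquiv π V)
  have hgood : Good π V := ⟨hV, Module.Free.of_basis b, Module.Finite.of_basis b⟩
  have h1 := finrank_of_good π hgood (hV.primeIdealOf ⟨y, hyV⟩)
  rw [hV.fromSpec_primeIdealOf ⟨y, hyV⟩] at h1
  rw [h1, Module.finrank_eq_card_basis b, Fintype.card_fin]

theorem isFinLocFreeOfRank_of_finrank (m : ℕ) (hd : ∀ y, π.finrank y = m) :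
    FlatMod.IsFinLocFreeOfRank m (pushO π) := by
  haveI : (Coh.structureModule X).IsQuasicoherent :=
    InvCoh.isQuasicoherent_of_isInvertible (InvGen.isInvertible_structureModule X)
  haveI : (pushO π).IsQuasicoherent :=
    QCSec.isQuasicoherent_pushforward π (Coh.structureModule X)
  rw [FreeBasis.isFinLocFreeOfRank_iff]
  intro y
  obtain ⟨V, hV, hyV, -⟩ := exists_good π (U := ⊤) (y := y) trivial
  letI := alg π V
  haveI : Nontrivial Γ(Y, V) :=
    PrimeSpectrum.nontrivial (R := Γ(Y, V)) (hV.affine.primeIdealOf ⟨y, hyV⟩)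
  have hfr := finrank_eq π hd hV
  haveI := hV.free
  haveI := hV.finite
  let b : Module.Basis (Fin m) Γ(Y, V) Γ(X, π ⁻¹ᵁ V) := Module.finBasisOfFinrankEq _ _ hfr
  let b' : Module.Basis (Fin m) Γ(Y, V) Γ(pushO π, V) := b.map (secEquiv π V).symm
  exact ⟨V, fun i => b' i, hyV, SecLoc.isBasis_of_isBasisAt (pushO π) hV.affine
    (SecLoc.isBasisAt_of_basis (pushO π) V b')⟩

end Rank

/-! ### multiplicativity of constant ranks -/

theorem finrank_comp_const {X Y S : Scheme.{u}} (ψ : Y ⟶ X) (φ : X ⟶ S) [IsFinite ψ] [Etale ψ]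
    [IsFinite φ] [Etale φ] (a b : ℕ) (hψ : ∀ x, ψ.finrank x = a) (hφ : ∀ s, φ.finrank s = b)
    (s : S) : (ψ ≫ φ).finrank s = a * b := by
  haveI : Flat ψ := inferInstance
  haveI : Flat φ := inferInstance
  haveI : Flat (ψ ≫ φ) := inferInstance
  obtain ⟨Ω, _, _, ξ, hξ⟩ := exists_geomPoint s
  obtain ⟨t⟩ := nonempty_pt (Ω := Ω)
  have h1 := Helper15.FinEtCount.natCard_lifts_eq_finrank (ψ ≫ φ) Ω ξ t
  rw [hξ t] at h1
  rw [← h1]
  have hA : Nat.card {w : Spec (CommRingCat.of Ω) ⟶ X // w ≫ φ = ξ} = b := by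
    rw [Helper15.FinEtCount.natCard_lifts_eq_finrank φ Ω ξ t, hφ]
  have hB : ∀ w : {w : Spec (CommRingCat.of Ω) ⟶ X // w ≫ φ = ξ},
      Nat.card {z : Spec (CommRingCat.of Ω) ⟶ Y // z ≫ ψ = w.1} = a := fun w => by
    rw [Helper15.FinEtCount.natCard_lifts_eq_finrank ψ Ω w.1 t, hψ]
  haveI hfA : Finite {w : Spec (CommRingCat.of Ω) ⟶ X // w ≫ φ = ξ} :=
    finite_fiberObj ξ (MorphismProperty.Over.mk ⊤ φ ⟨inferInstance, inferInstance⟩ : FEt.Cat S)
  haveI hfB : ∀ w : {w : Spec (CommRingCat.of Ω) ⟶ X // w ≫ φ = ξ},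
      Finite {z : Spec (CommRingCat.of Ω) ⟶ Y // z ≫ ψ = w.1} := fun w =>
    finite_fiberObj w.1 (MorphismProperty.Over.mk ⊤ ψ ⟨inferInstance, inferInstance⟩ : FEt.Cat X)
  haveI hfZ : Finite {z : Spec (CommRingCat.of Ω) ⟶ Y // z ≫ (ψ ≫ φ) = ξ} :=
    finite_fiberObj ξ
      (MorphismProperty.Over.mk ⊤ (ψ ≫ φ) ⟨inferInstance, inferInstance⟩ : FEt.Cat S)
  let F : {z : Spec (CommRingCat.of Ω) ⟶ Y // z ≫ (ψ ≫ φ) = ξ} →
      {w : Spec (CommRingCat.of Ω) ⟶ X // w ≫ φ = ξ} :=
    fun z => ⟨z.1 ≫ ψ, by rw [Category.assoc]; exact z.2⟩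
  have hfib : ∀ w : {w : Spec (CommRingCat.of Ω) ⟶ X // w ≫ φ = ξ},
      Nat.card {z : {z : Spec (CommRingCat.of Ω) ⟶ Y // z ≫ (ψ ≫ φ) = ξ} // F z = w} = a := by
    intro w
    rw [← hB w]
    exact Nat.card_congr
      { toFun := fun z => ⟨z.1.1, congrArg Subtype.val z.2⟩
        invFun := fun z' => ⟨⟨z'.1, by rw [← Category.assoc, z'.2, w.2]⟩, Subtype.ext z'.2⟩
        left_inv := fun z => rfl
        right_inv := fun z' => rfl }
  haveI := Fintype.ofFinite {w : Spec (CommRingCat.of Ω) ⟶ X // w ≫ φ = ξ}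
  rw [Nat.card_congr (Equiv.sigmaFiberEquiv F).symm, Nat.card_sigma]
  simp only [hfib, Finset.sum_const, Finset.card_univ, smul_eq_mul]
  rw [← Nat.card_eq_fintype_card, hA, Nat.mul_comm]

/-- A finite étale morphism of constant rank `n` is split by a finite étale surjective cover of
constant rank `n!`. -/
theorem exists_splitting_deg (n : ℕ) : ∀ {X S : Scheme.{u}} (φ : X ⟶ S) [IsFinite φ] [Etale φ],
    (∀ s, φ.finrank s = n) →
    ∃ (Y : Scheme.{u}) (ψ : Y ⟶ S) (t : Fin n → (Y ⟶ X)), IsFinite ψ ∧ Etale ψ ∧ Surjective ψ ∧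
      (∀ s, ψ.finrank s = n.factorial) ∧
      (∀ i, t i ≫ φ = ψ) ∧ (∀ i j, i ≠ j → Distinct (t i) (t j)) := by
  induction n with
  | zero =>
    intro X S φ _ _ _
    refine ⟨S, 𝟙 S, fun i => i.elim0, inferInstance, inferInstance, inferInstance, ?_,
      fun i => i.elim0, fun i => i.elim0⟩
    intro s
    rw [Scheme.Hom.finrank_eq_one_of_isIso]
    rfl
  | succ n ih =>
    intro X S φ _ _ hrk
    haveI : Flat φ := inferInstance
    obtain ⟨Y, ψ', t', h1, h2, h3, hdeg, h4, h5⟩ := ih (dmap φ) (finrank_dmap φ n hrk)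
    haveI : Surjective φ := (Scheme.Hom.one_le_finrank_iff_surjective φ).mp (fun s => by
      rw [hrk]; simp)
    refine ⟨Y, ψ' ≫ φ, Fin.cases ψ' (fun i => t' i ≫ (dcompl φ).ι ≫ pullback.fst φ φ),
      inferInstance, inferInstance, inferInstance, ?_, ?_, ?_⟩
    · intro s
      rw [finrank_comp_const ψ' φ n.factorial (n + 1) hdeg hrk s, Nat.factorial_succ,
        Nat.mul_comm]
    · intro i
      induction i using Fin.cases with
      | zero => rfl
      | succ j =>
        simp only [Fin.cases_succ]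
        have h' : t' j ≫ (dcompl φ).ι ≫ pullback.snd φ φ = ψ' := h4 j
        rw [← h']
        simp only [Category.assoc]
        rw [pullback.condition]
    · intro i j hij
      induction i using Fin.cases with
      | zero =>
        induction j using Fin.cases with
        | zero => exact absurd rfl hij
        | succ j =>
          simp only [Fin.cases_zero, Fin.cases_succ]
          exact distinct_zero_succ φ ψ' (t' j) (h4 j)
      | succ i =>
        induction j using Fin.cases with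
        | zero =>
          simp only [Fin.cases_zero, Fin.cases_succ]
          exact (distinct_zero_succ φ ψ' (t' i) (h4 i)).symm
        | succ j =>
          simp only [Fin.cases_succ]
          exact distinct_succ_succ φ ψ' (t' i) (t' j) (h4 i) (h4 j)
            (h5 i j (fun h => hij (congrArg Fin.succ h)))

/-! ### S7762 -/

theorem split_main {S : Scheme.{u}} (Y : FEt.Cat S) (n : ℕ)
    (hdeg : FlatMod.IsFinLocFreeOfRank n ((Coh.push Y.hom).obj (Coh.structureModule Y.left))) :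
    ∃ T : FEt.Cat S, Surjective T.hom ∧
      FlatMod.IsFinLocFreeOfRank n.factorial
        ((Coh.push T.hom).obj (Coh.structureModule T.left)) ∧
      Pi1.IsSplit ((FEt.restrict T.hom).obj Y) := by
  haveI : Flat Y.hom := inferInstance
  haveI : LocallyOfFinitePresentation Y.hom := inferInstance
  have hrk : ∀ s : S, Scheme.Hom.finrank (X := Y.left) (S := S) Y.hom s = n :=
    fun s => finrank_of_isFinLocFreeOfRank (X := Y.left) (Y := S) Y.hom n hdeg s
  obtain ⟨T₀, ψ, t, hfin, het, hsurj, hdegψ, ht, hdist⟩ :=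
    exists_splitting_deg n (X := Y.left) (S := S) Y.hom hrk
  haveI := hfin
  haveI := het
  haveI : Flat ψ := inferInstance
  haveI : LocallyOfFinitePresentation ψ := inferInstance
  refine ⟨MorphismProperty.Over.mk ⊤ ψ ⟨hfin, het⟩, hsurj,
    isFinLocFreeOfRank_of_finrank ψ _ hdegψ, ?_⟩
  have hrk' : ∀ z, (pullback.snd Y.hom ψ).finrank z = n := fun z => by
    rw [Scheme.Hom.finrank_pullback_snd]; exact hrk _
  let g : Fin n → (T₀ ⟶ pullback Y.hom ψ) := fun i =>
    pullback.lift (t i) (𝟙 T₀) (by rw [ht i, Category.id_comp])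
  have hg : ∀ i, g i ≫ pullback.snd Y.hom ψ = 𝟙 T₀ := fun i => pullback.lift_snd _ _ _
  have hgf : ∀ i, g i ≫ pullback.fst Y.hom ψ = t i := fun i => pullback.lift_fst _ _ _
  haveI hiso : IsIso (Sigma.desc (f := fun _ : Fin n => T₀) g) :=
    isIso_sigmaDesc_of_sections (pullback.snd Y.hom ψ) n hrk' g hg
      (fun i j hij T' ζ hT heq => hdist i j hij T' ζ hT (by
        rw [← hgf i, ← hgf j, ← Category.assoc, heq, Category.assoc]))
  let R := Sigma.reindex (Equiv.ulift.{u, 0} (α := Fin n)) (fun _ : Fin n => T₀)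
  let e : pullback Y.hom ψ ≅ ∐ fun _ : ULift.{u} (Fin n) => T₀ :=
    (asIso (Sigma.desc (f := fun _ : Fin n => T₀) g)).symm ≪≫ R.symm
  refine ⟨ULift.{u} (Fin n), inferInstance, e, fun i => ?_⟩
  have h1 : Sigma.ι (fun _ : ULift.{u} (Fin n) => T₀) i ≫ R.hom =
      Sigma.ι (fun _ : Fin n => T₀) (Equiv.ulift i) :=
    Sigma.ι_reindex_hom (Equiv.ulift.{u, 0} (α := Fin n)) (fun _ : Fin n => T₀) i
  have h2 : e.inv = R.hom ≫ Sigma.desc (f := fun _ : Fin n => T₀) g := rfl
  show Sigma.ι (fun _ : ULift.{u} (Fin n) => T₀) i ≫ e.inv ≫ pullback.snd Y.hom ψ = 𝟙 T₀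
  rw [h2, Category.assoc, ← Category.assoc, h1, ← Category.assoc, Sigma.ι_desc, hg]

/-! ### S18918 -/

theorem eq_of_comp_eq {X' X Y : Scheme.{u}} (f : X ⟶ Y) [IsFinite f] [Etale f]
    [ConnectedSpace X'] (a b : X' ⟶ X) (hab : a ≫ f = b ≫ f) {T : Scheme.{u}} [Nonempty T]
    (ζ : T ⟶ X') (h : ζ ≫ a = ζ ≫ b) : a = b := by
  haveI : IsSeparated f := inferInstance
  obtain ⟨m, hm⟩ : ∃ m : X' ⟶ pullback f f, m = pullback.lift a b hab := ⟨_, rfl⟩
  have hm1 : m ≫ pullback.fst f f = a := by rw [hm, pullback.lift_fst]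
  have hm2 : m ≫ pullback.snd f f = b := by rw [hm, pullback.lift_snd]
  have hclopen : IsClopen (m ⁻¹' Set.range (pullback.diagonal f)) :=
    ⟨(pullback.diagonal f).isClosedEmbedding.isClosed_range.preimage m.continuous,
      (pullback.diagonal f).isOpenEmbedding.isOpen_range.preimage m.continuous⟩
  obtain ⟨τ⟩ : Nonempty T := inferInstance
  have hζ : ζ ≫ m = (ζ ≫ a) ≫ pullback.diagonal f := by
    apply pullback.hom_ext
    · rw [Category.assoc, hm1, Category.assoc, pullback.diagonal_fst, Category.comp_id]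
    · rw [Category.assoc, hm2, Category.assoc, pullback.diagonal_snd, Category.comp_id, h]
  have hmem : ζ τ ∈ m ⁻¹' Set.range (pullback.diagonal f) := by
    show m (ζ τ) ∈ Set.range (pullback.diagonal f)
    rw [← Scheme.Hom.comp_apply, hζ, Scheme.Hom.comp_apply]
    exact ⟨_, rfl⟩
  have huniv := hclopen.eq_univ ⟨ζ τ, hmem⟩
  have hsub : Set.range m ⊆ Set.range (pullback.diagonal f) := by
    rintro _ ⟨x, rfl⟩
    have : x ∈ m ⁻¹' Set.range (pullback.diagonal f) := by rw [huniv]; trivial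
    exact this
  have hfac := IsOpenImmersion.lift_fac (pullback.diagonal f) m hsub
  have e1 : IsOpenImmersion.lift (pullback.diagonal f) m hsub = a := by
    have h := congrArg (· ≫ pullback.fst f f) hfac
    simp only [Category.assoc, pullback.diagonal_fst, Category.comp_id] at h
    rw [h, hm1]
  have e2 : IsOpenImmersion.lift (pullback.diagonal f) m hsub = b := by
    have h := congrArg (· ≫ pullback.snd f f) hfac
    simp only [Category.assoc, pullback.diagonal_snd, Category.comp_id] at h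
    rw [h, hm2]
  rw [← e1, e2]

theorem hom_count {X Y X' : Scheme.{u}} (f : X ⟶ Y) [IsFinite f] [Etale f] (n : ℕ)
    (hdeg : FlatMod.IsFinLocFreeOfRank n
      ((Scheme.Modules.pushforward f).obj (Coh.structureModule X)))
    (φ : X' ⟶ Y) [Nonempty X'] [ConnectedSpace X'] :
    Finite (Over.mk φ ⟶ Over.mk f) ∧ Nat.card (Over.mk φ ⟶ Over.mk f) ≤ n ∧
      (Nat.card (Over.mk φ ⟶ Over.mk f) = n ↔
        ∃ e : pullback f φ ≅ ∐ fun _ : Fin n => X',
          e.hom ≫ Sigma.desc (fun _ : Fin n => 𝟙 X') = pullback.snd f φ) := by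
  haveI : Flat f := inferInstance
  haveI : LocallyOfFinitePresentation f := inferInstance
  have hrk : ∀ y, f.finrank y = n := fun y => finrank_of_isFinLocFreeOfRank f n hdeg y
  obtain ⟨x₀⟩ : Nonempty X' := inferInstance
  obtain ⟨Ω, _, _, xbar, -⟩ := exists_geomPoint x₀
  obtain ⟨s⟩ := nonempty_pt (Ω := Ω)
  obtain ⟨ξ, hξ⟩ : ∃ ξ : Spec (CommRingCat.of Ω) ⟶ Y, ξ = xbar ≫ φ := ⟨_, rfl⟩
  have hcard : Nat.card {z : Spec (CommRingCat.of Ω) ⟶ X // z ≫ f = ξ} = n := by
    rw [Helper15.FinEtCount.natCard_lifts_eq_finrank f Ω ξ s, hrk]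
  haveI hfinF : Finite {z : Spec (CommRingCat.of Ω) ⟶ X // z ≫ f = ξ} :=
    finite_fiberObj ξ (MorphismProperty.Over.mk ⊤ f ⟨inferInstance, inferInstance⟩ : FEt.Cat Y)
  have hw : ∀ m : Over.mk φ ⟶ Over.mk f, m.left ≫ f = φ := fun m => Over.w m
  let ev : (Over.mk φ ⟶ Over.mk f) → {z : Spec (CommRingCat.of Ω) ⟶ X // z ≫ f = ξ} :=
    fun m => ⟨xbar ≫ m.left, by rw [Category.assoc, hw m, hξ]⟩
  have hleft_inj : ∀ m m' : Over.mk φ ⟶ Over.mk f, m.left = m'.left → m = m' :=
    fun m m' h => Over.OverMorphism.ext h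
  haveI : Nonempty ↥(Spec (CommRingCat.of Ω)) := ⟨s⟩
  have hev : Function.Injective ev := by
    intro m m' h
    apply hleft_inj
    exact eq_of_comp_eq (X' := X') (X := X) f m.left m'.left ((hw m).trans (hw m').symm) xbar
      (congrArg Subtype.val h)
  haveI hfinH : Finite (Over.mk φ ⟶ Over.mk f) := Finite.of_injective ev hev
  have hle : Nat.card (Over.mk φ ⟶ Over.mk f) ≤ n := by
    rw [← hcard]; exact Nat.card_le_card_of_injective ev hev
  refine ⟨hfinH, hle, ?_, ?_⟩
  · intro hHn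
    let e : Fin n ≃ (Over.mk φ ⟶ Over.mk f) := (Finite.equivFinOfCardEq hHn).symm
    have hrk' : ∀ z, (pullback.snd f φ).finrank z = n := fun z => by
      rw [Scheme.Hom.finrank_pullback_snd, hrk]
    let g : Fin n → (X' ⟶ pullback f φ) := fun i =>
      pullback.lift (e i).left (𝟙 X') (by rw [hw (e i), Category.id_comp])
    have hg : ∀ i, g i ≫ pullback.snd f φ = 𝟙 X' := fun i => pullback.lift_snd _ _ _
    have hgf : ∀ i, g i ≫ pullback.fst f φ = (e i).left := fun i => pullback.lift_fst _ _ _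
    haveI hiso : IsIso (Sigma.desc (f := fun _ : Fin n => X') g) :=
      isIso_sigmaDesc_of_sections (pullback.snd f φ) n hrk' g hg (fun i j hij T ζ hT heq => by
        apply hij
        apply e.injective
        apply hleft_inj
        haveI := hT
        refine eq_of_comp_eq (X' := X') (X := X) f (e i).left (e j).left
          ((hw (e i)).trans (hw (e j)).symm) ζ ?_
        rw [← hgf i, ← hgf j, ← Category.assoc, heq, Category.assoc])
    refine ⟨(asIso (Sigma.desc (f := fun _ : Fin n => X') g)).symm, ?_⟩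
    show inv (Sigma.desc (f := fun _ : Fin n => X') g) ≫
      Sigma.desc (fun _ : Fin n => 𝟙 X') = pullback.snd f φ
    rw [IsIso.inv_comp_eq]
    refine Sigma.hom_ext _ _ (fun i => ?_)
    rw [Sigma.ι_desc, ← Category.assoc, Sigma.ι_desc, hg]
  · rintro ⟨e, he⟩
    refine le_antisymm hle ?_
    have hsec : ∀ i : Fin n,
        (Sigma.ι (fun _ : Fin n => X') i ≫ e.inv) ≫ pullback.snd f φ = 𝟙 X' := by
      intro i
      rw [← he, Category.assoc, Iso.inv_hom_id_assoc, Sigma.ι_desc]
    let m : Fin n → (Over.mk φ ⟶ Over.mk f) := fun i =>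
      Over.homMk ((Sigma.ι (fun _ : Fin n => X') i ≫ e.inv) ≫ pullback.fst f φ) (by
        show ((Sigma.ι (fun _ : Fin n => X') i ≫ e.inv) ≫ pullback.fst f φ) ≫ f = φ
        rw [Category.assoc, pullback.condition, ← Category.assoc, hsec i, Category.id_comp])
    have hm : Function.Injective m := by
      intro i j hij
      have h1 : (Sigma.ι (fun _ : Fin n => X') i ≫ e.inv) ≫ pullback.fst f φ =
          (Sigma.ι (fun _ : Fin n => X') j ≫ e.inv) ≫ pullback.fst f φ :=
        congrArg (fun k : Over.mk φ ⟶ Over.mk f => k.left) hij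
      have h2 : Sigma.ι (fun _ : Fin n => X') i ≫ e.inv =
          Sigma.ι (fun _ : Fin n => X') j ≫ e.inv := by
        apply pullback.hom_ext h1
        rw [hsec i, hsec j]
      have h3 : Sigma.ι (fun _ : Fin n => X') i = Sigma.ι (fun _ : Fin n => X') j := by
        have := congrArg (· ≫ e.hom) h2
        simpa only [Category.assoc, Iso.inv_hom_id, Category.comp_id] using this
      by_contra hne
      have hdisj := disjoint_opensRange_sigmaι (fun _ : Fin n => X') i j hne
      have hx1 : (Sigma.ι (fun _ : Fin n => X') i) x₀ ∈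
          (Sigma.ι (fun _ : Fin n => X') i).opensRange := ⟨x₀, rfl⟩
      have hx2 : (Sigma.ι (fun _ : Fin n => X') i) x₀ ∈
          (Sigma.ι (fun _ : Fin n => X') j).opensRange := by
        rw [h3]; exact ⟨x₀, rfl⟩
      exact hdisj.le_bot ⟨hx1, hx2⟩
    have := Nat.card_le_card_of_injective m hm
    rwa [Nat.card_fin] at this

end H3.FEtRank
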