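import Mathlib
import Groth.Prelude
import Groth.Agent.Lib.Helper3.FEtRank

/-!
# Helper3: covers of degree `d` = affine morphisms with `f_* O_X` locally free of rank `d`.
-/

set_option autoImplicit false
universe u
open CategoryTheory CategoryTheory.Limits AlgebraicGeometry Opposite TopologicalSpace
open Groth.Agent.Lib.Helper3 Groth.Agent.Lib.Helper3.QCSec Groth.Agent.Lib.Helper3.InvGen
  Groth.Agent.Lib.Helper3.FreeBasis

namespace H3.FEtRank2
open H16FNorm H3.FEtRank

variable {X Y : Scheme.{u}} (f : X ⟶ Y)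

theorem restrict_appTop_iff (Q : ∀ {R S : Type u} [CommRing R] [CommRing S], (R →+* S) → Prop)
    (hQ : RingHom.RespectsIso Q) (V : Y.Opens) :
    Q ((f ∣_ V).appTop).hom ↔ Q (f.app V).hom := by
  rw [← Scheme.Hom.resLE_eq_morphismRestrict,
    hQ.arrow_mk_iso_iff (arrowResLEAppIso f V (f ⁻¹ᵁ V) le_rfl), ← Scheme.Hom.app_eq_appLE]

/-- local bases from the rank hypothesis (no hypothesis on `f`). -/
theorem exists_basis (d : ℕ) (hdeg : FlatMod.IsFinLocFreeOfRank d (pushO f)) (y : Y) :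
    ∃ V : Y.Opens, IsAffineOpen V ∧ y ∈ V ∧
      letI := alg f V
      Nonempty (Module.Basis (Fin d) Γ(Y, V) Γ(X, f ⁻¹ᵁ V)) := by
  obtain ⟨V, -, hyV, hV, e, he⟩ :=
    Groth.Agent.Lib.Helper17.FinCovTrace.exists_affine_isBasis hdeg ⊤ y trivial
  letI := alg f V
  exact ⟨V, hV, hyV, ⟨(NormAlg.basisOfBijective e he.self).map (secEquiv f V)⟩⟩

theorem isFinite_flat_fp_of_affine (d : ℕ) [IsAffineHom f]
    (hdeg : FlatMod.IsFinLocFreeOfRank d (pushO f)) :
    IsFinite f ∧ Flat f ∧ LocallyOfFinitePresentation f := by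
  choose V hVaff hyV hb using exists_basis f d hdeg
  have hcov : ⨆ y, V y = ⊤ := by
    rw [eq_top_iff]; intro y _; exact Opens.mem_iSup.mpr ⟨y, hyV y⟩
  have hpreaff : ∀ y, IsAffineOpen (f ⁻¹ᵁ V y) := fun y => (hVaff y).preimage f
  have hfree : ∀ y, letI := alg f (V y); Module.Free Γ(Y, V y) Γ(X, f ⁻¹ᵁ V y) := fun y => by
    letI := alg f (V y); exact Module.Free.of_basis (hb y).some
  have hfinm : ∀ y, letI := alg f (V y); Module.Finite Γ(Y, V y) Γ(X, f ⁻¹ᵁ V y) := fun y => by
    letI := alg f (V y); exact Module.Finite.of_basis (hb y).some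
  have hFin : ∀ y, (f.app (V y)).hom.Finite := fun y => hfinm y
  have hFlat : ∀ y, (f.app (V y)).hom.Flat := fun y => by
    letI := alg f (V y)
    haveI := hfree y
    exact (inferInstance : Module.Flat Γ(Y, V y) Γ(X, f ⁻¹ᵁ V y))
  have hFP : ∀ y, (f.app (V y)).hom.FinitePresentation := fun y => by
    letI := alg f (V y)
    haveI := hfree y
    haveI := hfinm y
    haveI : Module.FinitePresentation Γ(Y, V y) Γ(X, f ⁻¹ᵁ V y) :=
      Module.finitePresentation_of_projective _ _
    exact (inferInstance : Algebra.FinitePresentation Γ(Y, V y) Γ(X, f ⁻¹ᵁ V y))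
  haveI : ∀ y, IsAffine (f ⁻¹ᵁ V y).toScheme := fun y => hpreaff y
  haveI : ∀ y, IsAffine (V y).toScheme := fun y => hVaff y
  refine ⟨?_, ?_, ?_⟩
  · refine IsZariskiLocalAtTarget.of_iSup_eq_top (P := @IsFinite) V hcov (fun y => ?_)
    rw [HasAffineProperty.iff_of_isAffine (P := @IsFinite)]
    exact ⟨inferInstance,
      (restrict_appTop_iff f @RingHom.Finite RingHom.finite_respectsIso (V y)).mpr (hFin y)⟩
  · refine IsZariskiLocalAtTarget.of_iSup_eq_top (P := @Flat) V hcov (fun y => ?_)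
    rw [HasRingHomProperty.iff_of_isAffine (P := @Flat)]
    exact (restrict_appTop_iff f @RingHom.Flat RingHom.Flat.respectsIso (V y)).mpr (hFlat y)
  · refine IsZariskiLocalAtTarget.of_iSup_eq_top (P := @LocallyOfFinitePresentation) V hcov
      (fun y => ?_)
    rw [HasRingHomProperty.iff_of_isAffine (P := @LocallyOfFinitePresentation)]
    exact (restrict_appTop_iff f @RingHom.FinitePresentation
      RingHom.finitePresentation_respectsIso (V y)).mpr (hFP y)

theorem isCover_iff (d : ℕ) :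
    FinCov.IsCover f d ↔
      IsAffineHom f ∧ FlatMod.IsFinLocFreeOfRank d
        ((Scheme.Modules.pushforward f).obj (Coh.structureModule X)) := by
  constructor
  · rintro ⟨⟨h1, h2, h3⟩, hd⟩
    haveI := h1
    haveI := h2
    haveI := h3
    exact ⟨inferInstance, isFinLocFreeOfRank_of_finrank f d hd⟩
  · rintro ⟨h1, hdeg⟩
    haveI := h1
    obtain ⟨h2, h3, h4⟩ := isFinite_flat_fp_of_affine f d hdeg
    haveI := h2
    haveI := h3
    haveI := h4
    exact ⟨⟨h2, h3, h4⟩, fun y => finrank_of_isFinLocFreeOfRank f d hdeg y⟩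

end H3.FEtRank2
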