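import Mathlib
import Groth.Prelude
import Groth.Agent.Lib.Helper3.FEtRank2
import Groth.Agent.S8255

/-!
# Helper3: the relative spectrum of a locally free algebra of rank `d` is a cover of degree `d`.
-/

set_option autoImplicit false
universe u
open CategoryTheory CategoryTheory.Limits AlgebraicGeometry Opposite TopologicalSpace
open Groth.Agent.Lib.Helper3 Groth.Agent.Lib.Helper3.QCSec Groth.Agent.Lib.Helper3.InvGen
  Groth.Agent.Lib.Helper3.FreeBasis

namespace H3.FEtRank3
open H16FNorm H3.FEtRank H3.FEtRank2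

variable {X Y : Scheme.{u}} (f : X ⟶ Y)

theorem isFinite_flat_fp_of_local_bases (d : ℕ) [IsAffineHom f]
    (h : ∀ y : Y, ∃ V : Y.Opens, IsAffineOpen V ∧ y ∈ V ∧
      letI := alg f V
      Nonempty (Module.Basis (Fin d) Γ(Y, V) Γ(X, f ⁻¹ᵁ V))) :
    IsFinite f ∧ Flat f ∧ LocallyOfFinitePresentation f := by
  choose V hVaff hyV hb using h
  have hcov : ⨆ y, V y = ⊤ := by
    rw [eq_top_iff]; intro y _; exact Opens.mem_iSup.mpr ⟨y, hyV y⟩
  have hpreaff : ∀ y, IsAffineOpen (f ⁻¹ᵁ V y) := fun y => (hVaff y).preimage f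
  have hfree : ∀ y, letI := alg f (V y); Module.Free Γ(Y, V y) Γ(X, f ⁻¹ᵁ V y) := fun y => by
    letI := alg f (V y); exact Module.Free.of_basis (hb y).some
  have hfinm : ∀ y, letI := alg f (V y); Module.Finite Γ(Y, V y) Γ(X, f ⁻¹ᵁ V y) := fun y => by
    letI := alg f (V y); exact Module.Finite.of_basis (hb y).some
  have hFin : ∀ y, (f.app (V y)).hom.Finite := fun y => hfinm y
  have hFlat : ∀ y, (f.app (V y)).hom.Flat := fun y => by
    letI := alg f (V y)
    haveI := hfree y
    exact (inferInstance : Module.Flat Γ(Y, V y) Γ(X, f ⁻¹ᵁ V y))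
  have hFP : ∀ y, (f.app (V y)).hom.FinitePresentation := fun y => by
    letI := alg f (V y)
    haveI := hfree y
    haveI := hfinm y
    haveI : Module.FinitePresentation Γ(Y, V y) Γ(X, f ⁻¹ᵁ V y) :=
      Module.finitePresentation_of_projective _ _
    exact (inferInstance : Algebra.FinitePresentation Γ(Y, V y) Γ(X, f ⁻¹ᵁ V y))
  haveI : ∀ y, IsAffine (f ⁻¹ᵁ V y).toScheme := fun y => hpreaff y
  haveI : ∀ y, IsAffine (V y).toScheme := fun y => hVaff y
  refine ⟨?_, ?_, ?_⟩
  · refine IsZariskiLocalAtTarget.of_iSup_eq_top (P := @IsFinite) V hcov (fun y => ?_)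
    rw [HasAffineProperty.iff_of_isAffine (P := @IsFinite)]
    exact ⟨inferInstance,
      (restrict_appTop_iff f @RingHom.Finite RingHom.finite_respectsIso (V y)).mpr (hFin y)⟩
  · refine IsZariskiLocalAtTarget.of_iSup_eq_top (P := @Flat) V hcov (fun y => ?_)
    rw [HasRingHomProperty.iff_of_isAffine (P := @Flat)]
    exact (restrict_appTop_iff f @RingHom.Flat RingHom.Flat.respectsIso (V y)).mpr (hFlat y)
  · refine IsZariskiLocalAtTarget.of_iSup_eq_top (P := @LocallyOfFinitePresentation) V hcov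
      (fun y => ?_)
    rw [HasRingHomProperty.iff_of_isAffine (P := @LocallyOfFinitePresentation)]
    exact (restrict_appTop_iff f @RingHom.FinitePresentation
      RingHom.finitePresentation_respectsIso (V y)).mpr (hFP y)

theorem isCover_of_local_bases (d : ℕ) [IsAffineHom f]
    (h : ∀ y : Y, ∃ V : Y.Opens, IsAffineOpen V ∧ y ∈ V ∧
      letI := alg f V
      Nonempty (Module.Basis (Fin d) Γ(Y, V) Γ(X, f ⁻¹ᵁ V))) :
    FinCov.IsCover f d := by
  obtain ⟨h2, h3, h4⟩ := isFinite_flat_fp_of_local_bases f d h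
  haveI := h2
  haveI := h3
  haveI := h4
  refine ⟨⟨h2, h3, h4⟩, fun y => ?_⟩
  obtain ⟨V, hV, hyV, ⟨b⟩⟩ := h y
  letI := alg f V
  haveI : Nontrivial Γ(Y, V) :=
    PrimeSpectrum.nontrivial (R := Γ(Y, V)) (hV.primeIdealOf ⟨y, hyV⟩)
  have hgood : Good f V := ⟨hV, Module.Free.of_basis b, Module.Finite.of_basis b⟩
  have h1 := finrank_of_good f hgood (hV.primeIdealOf ⟨y, hyV⟩)
  rw [hV.fromSpec_primeIdealOf ⟨y, hyV⟩] at h1
  rw [h1, Module.finrank_eq_card_basis b, Fintype.card_fin]

theorem isCover_pi (A : RelSpec.QCAlg X) (d : ℕ)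
    (hA : FlatMod.IsFinLocFreeOfRank d A.toModule) : FinCov.IsCover A.π d := by
  refine isCover_of_local_bases A.π d (fun y => ?_)
  obtain ⟨V, -, hyV, hV, e, he⟩ :=
    Groth.Agent.Lib.Helper17.FinCovTrace.exists_affine_isBasis hA ⊤ y trivial
  refine ⟨V, hV, hyV, ?_⟩
  letI := alg A.π V
  let b₀ : Module.Basis (Fin d) Γ(X, V) Γ(A.toModule, V) := NormAlg.basisOfBijective e he.self
  haveI : IsIso A.gammaMap := Groth.Agent.S8255.result A
  let g : Γ(A.spec, A.π ⁻¹ᵁ V) ≃+* A.presheaf.obj (op V) :=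
    (asIso (A.gammaMap.app (op V))).commRingCatIsoToRingEquiv
  have hcomp : ∀ r : Γ(X, V), g ((A.π.app V).hom r) = (A.str.app (op V)).hom r := by
    intro r
    have h0 := NatTrans.congr_app A.π_c_gammaMap (op V)
    rw [NatTrans.comp_app] at h0
    exact congr_arg (fun ψ => ψ.hom r) h0
  let L : Γ(A.spec, A.π ⁻¹ᵁ V) ≃ₗ[Γ(X, V)] Γ(A.toModule, V) :=
    { toFun := fun a => g a
      invFun := fun a => g.symm a
      map_add' := fun a b => map_add g a b
      map_smul' := fun r a => by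
        show g ((A.π.app V).hom r * a) = (A.str.app (op V)).hom r * g a
        rw [map_mul, hcomp]
      left_inv := fun a => g.symm_apply_apply a
      right_inv := fun a => g.apply_symm_apply a }
  exact ⟨b₀.map L.symm⟩

end H3.FEtRank3
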