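import Mathlib
import Groth.Prelude
import Groth.Agent.Lib.Helper3.AffCoeq
import Groth.Agent.Lib.Helper3.EqDescent
import Groth.Agent.Lib.Helper3.FEtRank3

/-!
# Helper3: the coequalizer of two morphisms of finite étale `S`-schemes is finite étale.
-/

set_option autoImplicit false
universe u
open CategoryTheory CategoryTheory.Limits AlgebraicGeometry TopologicalSpace Opposite

namespace H3.FEtCoeq

open H3.AffCoeq H3.EqAlg

section rank

theorem app_finrank {X Y : Scheme.{u}} (π : X ⟶ Y) [IsFinite π] [Flat π] {V : Y.Opens}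
    (hV : IsAffineOpen V) (p : PrimeSpectrum Γ(Y, V)) :
    (π.app V).hom.finrank p = π.finrank (hV.fromSpec p) := by
  have hπV : IsAffineOpen (π ⁻¹ᵁ V) := hV.preimage π
  have hfin : (π.app V).hom.Finite := π.finite_app V hV
  have hflat : (π.app V).hom.Flat := by
    have := π.flat_appLE hV hπV le_rfl
    rwa [← Scheme.Hom.app_eq_appLE] at this
  have hpb : IsPullback (Spec.map (π.app V)) hπV.fromSpec hV.fromSpec π := by
    refine IsOpenImmersion.isPullback _ _ _ _ ?_ ?_
    · have := hV.SpecMap_appLE_fromSpec π hπV le_rfl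
      rw [← Scheme.Hom.app_eq_appLE] at this
      exact this.symm
    · rw [hV.opensRange_fromSpec, hπV.opensRange_fromSpec]
  have h1 := Scheme.Hom.finrank_of_isPullback hπV.fromSpec (Spec.map (π.app V)) π
    hV.fromSpec hpb.flip p
  rw [Scheme.Hom.finrank_SpecMap_eq_finrank hfin hflat] at h1
  exact h1

theorem exists_affine_const {S Y Z : Scheme.{u}} (pY : Y ⟶ S) (pZ : Z ⟶ S) [IsFinite pY]
    [Etale pY] [IsFinite pZ] [Etale pZ] (x : S) :
    ∃ (V : S.Opens) (n m : ℕ), IsAffineOpen V ∧ x ∈ V ∧ (∀ v ∈ V, pZ.finrank v = n) ∧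
      (∀ v ∈ V, pY.finrank v = m) := by
  have h1 : IsOpen {v : S | pZ.finrank v = pZ.finrank x} :=
    (Scheme.Hom.isLocallyConstant_finrank pZ).isOpen_fiber _
  have h2 : IsOpen {v : S | pY.finrank v = pY.finrank x} :=
    (Scheme.Hom.isLocallyConstant_finrank pY).isOpen_fiber _
  let W : S.Opens := ⟨_, h1.inter h2⟩
  have hxW : x ∈ W := ⟨rfl, rfl⟩
  obtain ⟨V, hV, hxV, hVW⟩ := Opens.isBasis_iff_nbhd.mp S.isBasis_affineOpens hxW
  exact ⟨V, pZ.finrank x, pY.finrank x, hV, hxV, fun v hv => (hVW hv).1, fun v hv => (hVW hv).2⟩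

end rank

section main

variable {S Y Z : Scheme.{u}} (pY : Y ⟶ S) (pZ : Z ⟶ S) [IsFinite pY] [Etale pY] [IsFinite pZ]
  [Etale pZ] (f g : Y ⟶ Z) (hf : f ≫ pZ = pY) (hg : g ≫ pZ = pY)

theorem fromSpec_mem {V : S.Opens} (hV : IsAffineOpen V) (p : PrimeSpectrum Γ(S, V)) :
    hV.fromSpec p ∈ V := by
  have h0 : hV.fromSpec p ∈ hV.fromSpec.opensRange := ⟨p, rfl⟩
  rwa [hV.opensRange_fromSpec] at h0

set_option maxHeartbeats 800000 in
theorem str_finite_etale {V : S.Opens} (hV : IsAffineOpen V) {n m : ℕ}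
    (hn : ∀ v ∈ V, pZ.finrank v = n) (hm : ∀ v ∈ V, pY.finrank v = m) :
    ((E pY pZ f g hf hg).str.app (op V)).hom.Finite ∧
      ((E pY pZ f g hf hg).str.app (op V)).hom.Etale := by
  have hBe : (pZ.app V).hom.Etale := by
    have := pZ.etale_appLE hV (hV.preimage pZ) le_rfl
    rwa [← Scheme.Hom.app_eq_appLE] at this
  have hCe : (pY.app V).hom.Etale := by
    have := pY.etale_appLE hV (hV.preimage pY) le_rfl
    rwa [← Scheme.Hom.app_eq_appLE] at this
  exact H3.EqDescent.ringHom_finite_etale (fB := (pZ.app V).hom) (fC := (pY.app V).hom)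
    (φ := ((aHom pY pZ f hf).hom.app (op V)).hom) (ψ := ((aHom pY pZ g hg).hom.app (op V)).hom)
    (RingHom.ext fun r => hom_str (aHom pY pZ f hf) V r)
    (RingHom.ext fun r => hom_str (aHom pY pZ g hg) V r)
    (pZ.finite_app V hV) hBe (pY.finite_app V hV) hCe (n := n) (m := m)
    (fun p => (app_finrank pZ hV p).trans (hn _ (fromSpec_mem hV p)))
    (fun p => (app_finrank pY hV p).trans (hm _ (fromSpec_mem hV p)))
    (ι := ((inc pY pZ f g hf hg).app (op V)).hom)
    (incl_injective (aHom pY pZ f hf) (aHom pY pZ g hg) V)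
    (fun b => mem_range_incl (aHom pY pZ f hf) (aHom pY pZ g hg) b)
    (s := ((E pY pZ f g hf hg).str.app (op V)).hom)
    (RingHom.ext fun r => rfl)

set_option maxHeartbeats 800000 in
theorem q_app_finite_etale {V : S.Opens} (hV : IsAffineOpen V) {n m : ℕ}
    (hn : ∀ v ∈ V, pZ.finrank v = n) (hm : ∀ v ∈ V, pY.finrank v = m) :
    ((q pY pZ f g hf hg).app V).hom.Finite ∧ ((q pY pZ f g hf hg).app V).hom.Etale := by
  obtain ⟨h1, h2⟩ := str_finite_etale pY pZ f g hf hg hV hn hm
  haveI : IsIso (E pY pZ f g hf hg).gammaMap := Groth.Agent.S8255.result _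
  let gq : Γ((E pY pZ f g hf hg).spec, (E pY pZ f g hf hg).π ⁻¹ᵁ V) ≃+*
      (E pY pZ f g hf hg).presheaf.obj (op V) :=
    (asIso ((E pY pZ f g hf hg).gammaMap.app (op V))).commRingCatIsoToRingEquiv
  have hcomp : ∀ r : Γ(S, V), gq (((E pY pZ f g hf hg).π.app V).hom r) =
      ((E pY pZ f g hf hg).str.app (op V)).hom r := by
    intro r
    have h0 := NatTrans.congr_app (E pY pZ f g hf hg).π_c_gammaMap (op V)
    rw [NatTrans.comp_app] at h0
    exact congr_arg (fun ψ => ψ.hom r) h0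
  have h3 : ((q pY pZ f g hf hg).app V).hom =
      gq.symm.toRingHom.comp ((E pY pZ f g hf hg).str.app (op V)).hom := by
    ext r
    apply gq.injective
    show gq (((E pY pZ f g hf hg).π.app V).hom r) =
      gq (gq.symm (((E pY pZ f g hf hg).str.app (op V)).hom r))
    rw [gq.apply_symm_apply, hcomp]
  rw [h3]
  exact ⟨RingHom.finite_respectsIso.1 _ gq.symm h1, RingHom.Etale.respectsIso.1 _ gq.symm h2⟩

set_option maxHeartbeats 800000 in
theorem isFinite_etale_q : IsFinite (q pY pZ f g hf hg) ∧ Etale (q pY pZ f g hf hg) := by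
  choose V n m hVaff hxV hn hm using exists_affine_const pY pZ
  have hcov : ⨆ x, V x = ⊤ := by
    rw [eq_top_iff]; intro y _; exact Opens.mem_iSup.mpr ⟨y, hxV y⟩
  have key := fun x => q_app_finite_etale pY pZ f g hf hg (hVaff x) (hn x) (hm x)
  haveI : ∀ y, IsAffine ((q pY pZ f g hf hg) ⁻¹ᵁ V y).toScheme :=
    fun y => (hVaff y).preimage (q pY pZ f g hf hg)
  haveI : ∀ y, IsAffine (V y).toScheme := fun y => hVaff y
  refine ⟨?_, ?_⟩
  · refine IsZariskiLocalAtTarget.of_iSup_eq_top (P := @IsFinite) V hcov (fun y => ?_)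
    rw [HasAffineProperty.iff_of_isAffine (P := @IsFinite)]
    exact ⟨inferInstance, (H3.FEtRank2.restrict_appTop_iff (q pY pZ f g hf hg) @RingHom.Finite
      RingHom.finite_respectsIso (V y)).mpr (key y).1⟩
  · refine IsZariskiLocalAtTarget.of_iSup_eq_top (P := @Etale) V hcov (fun y => ?_)
    rw [HasRingHomProperty.iff_of_isAffine (P := @Etale)]
    exact (H3.FEtRank2.restrict_appTop_iff (q pY pZ f g hf hg) @RingHom.Etale
      RingHom.Etale.respectsIso (V y)).mpr (key y).2

end main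

end H3.FEtCoeq
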