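import Mathlib
import Groth.Prelude
import Groth.Agent.Lib.Helper3.FEtCoeq
import Groth.Agent.Lib.Helper3.FEtSplit

/-!
# Helper3: the category of finite étale covers of a scheme has finite limits and finite colimits.
-/

set_option autoImplicit false
universe u
open CategoryTheory CategoryTheory.Limits AlgebraicGeometry TopologicalSpace Opposite Pi1

namespace H3.FEtColim

open H3.AffCoeq H3.FEtCoeq

instance instPostcomp : MorphismProperty.HasOfPostcompProperty FEt.prop.{u} FEt.prop.{u} where
  of_postcomp {A B C} f g hg hfg := by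
    haveI : IsFinite g := hg.1
    haveI : Etale g := hg.2
    haveI : IsFinite (f ≫ g) := hfg.1
    haveI : Etale (f ≫ g) := hfg.2
    exact ⟨MorphismProperty.of_postcomp (W := @IsFinite) (W' := @IsSeparated) f g
        inferInstance inferInstance,
      MorphismProperty.of_postcomp (W := @Etale) (W' := @Etale) f g inferInstance inferInstance⟩

theorem hasFiniteLimits (X : Scheme.{u}) : HasFiniteLimits (FEt.Cat X) :=
  MorphismProperty.Over.hasFiniteLimits _ X

variable {X : Scheme.{u}}

instance instFin (Y : FEt.Cat X) : IsFinite Y.hom := Y.prop.1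
instance instEt (Y : FEt.Cat X) : Etale Y.hom := Y.prop.2

section coeq

variable {Y Z : FEt.Cat X} (f g : Y ⟶ Z)

/-- the coequalizer object -/
noncomputable def coeqObj : FEt.Cat X :=
  MorphismProperty.Over.mk ⊤
    (q Y.hom Z.hom f.left g.left (MorphismProperty.Over.w f) (MorphismProperty.Over.w g))
    (isFinite_etale_q Y.hom Z.hom f.left g.left (MorphismProperty.Over.w f)
      (MorphismProperty.Over.w g))

/-- the projection to the coequalizer -/
noncomputable def coeqπ : Z ⟶ coeqObj f g :=
  MorphismProperty.Over.homMk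
    (proj Y.hom Z.hom f.left g.left (MorphismProperty.Over.w f) (MorphismProperty.Over.w g))
    (proj_q Y.hom Z.hom f.left g.left (MorphismProperty.Over.w f) (MorphismProperty.Over.w g))
    trivial

theorem coeq_condition : f ≫ coeqπ f g = g ≫ coeqπ f g :=
  MorphismProperty.Over.Hom.ext
    (f_proj Y.hom Z.hom f.left g.left (MorphismProperty.Over.w f) (MorphismProperty.Over.w g))

theorem exists_desc' (W : FEt.Cat X) (k : Z ⟶ W) (hk : f ≫ k = g ≫ k) :
    ∃ d : coeqObj f g ⟶ W, coeqπ f g ≫ d = k := by
  have hk' : f.left ≫ k.left = g.left ≫ k.left := congrArg (fun φ => φ.left) hk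
  obtain ⟨d, hd, hdk⟩ := exists_desc Y.hom Z.hom f.left g.left (MorphismProperty.Over.w f)
    (MorphismProperty.Over.w g) W.hom k.left (MorphismProperty.Over.w k) hk'
  exact ⟨MorphismProperty.Over.homMk d hd trivial, MorphismProperty.Over.Hom.ext hdk⟩

theorem desc_unique' (W : FEt.Cat X) (d d' : coeqObj f g ⟶ W)
    (h : coeqπ f g ≫ d = coeqπ f g ≫ d') : d = d' :=
  MorphismProperty.Over.Hom.ext
    (desc_unique Y.hom Z.hom f.left g.left (MorphismProperty.Over.w f)
      (MorphismProperty.Over.w g) W.hom d.left d'.left (MorphismProperty.Over.w d)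
      (MorphismProperty.Over.w d') (congrArg (fun φ => φ.left) h))

/-- the coequalizer cofork is a colimit -/
noncomputable def isColimitCofork :
    IsColimit (Cofork.ofπ (coeqπ f g) (coeq_condition f g)) :=
  Cofork.IsColimit.mk _
    (fun s => (exists_desc' f g s.pt s.π s.condition).choose)
    (fun s => (exists_desc' f g s.pt s.π s.condition).choose_spec)
    (fun s m hm => desc_unique' f g s.pt _ _
      (hm.trans (exists_desc' f g s.pt s.π s.condition).choose_spec.symm))

end coeq

theorem hasCoequalizers (X : Scheme.{u}) : HasCoequalizers (FEt.Cat X) :=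
  haveI : ∀ {Y Z : FEt.Cat X} {f g : Y ⟶ Z}, HasColimit (parallelPair f g) :=
    fun {Y Z f g} => HasColimit.mk ⟨_, isColimitCofork f g⟩
  hasCoequalizers_of_hasColimit_parallelPair _

section coprod

variable {n : ℕ} (F : Fin n → FEt.Cat X)

/-- the underlying morphism of the coproduct -/
noncomputable abbrev sigmaHom : (∐ fun i => (F i).left) ⟶ X :=
  Sigma.desc (fun i => ((F i).hom : (F i).left ⟶ X))

/-- the coproduct object -/
noncomputable def sigmaObj : FEt.Cat X :=
  MorphismProperty.Over.mk ⊤ (sigmaHom F)
    ⟨H3.FEtSplit.isFinite_sigmaDesc n (fun i => (F i).left) X (fun i => (F i).hom)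
        (fun i => instFin (F i)),
      IsZariskiLocalAtSource.sigmaDesc (P := @Etale) (fun i => instEt (F i))⟩

/-- the inclusions into the coproduct -/
noncomputable def sigmaι (i : Fin n) : F i ⟶ sigmaObj F :=
  MorphismProperty.Over.homMk (Sigma.ι (fun i => (F i).left) i)
    (Sigma.ι_desc (fun i => ((F i).hom : (F i).left ⟶ X)) i) trivial

/-- the coproduct cofan -/
noncomputable def sigmaCofan : Cofan F := Cofan.mk (sigmaObj F) (sigmaι F)

/-- the coproduct cofan is a colimit -/
noncomputable def isColimitSigma : IsColimit (sigmaCofan F) :=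
  Cofan.IsColimit.mk _
    (fun s => MorphismProperty.Over.homMk
      (Sigma.desc (fun i => ((s.inj i).left : (F i).left ⟶ s.pt.left)))
      (by
        apply Sigma.hom_ext
        intro i
        show Sigma.ι (fun i => (F i).left) i ≫
          (Sigma.desc (fun i => ((s.inj i).left : (F i).left ⟶ s.pt.left)) ≫ s.pt.hom) =
          Sigma.ι (fun i => (F i).left) i ≫ sigmaHom F
        rw [← Category.assoc, Sigma.ι_desc, Sigma.ι_desc]
        exact MorphismProperty.Over.w (s.inj i)) trivial)
    (fun s i => MorphismProperty.Over.Hom.ext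
      (Sigma.ι_desc (fun i => ((s.inj i).left : (F i).left ⟶ s.pt.left)) i))
    (fun s m hm => MorphismProperty.Over.Hom.ext (by
      apply Sigma.hom_ext
      intro i
      refine Eq.trans ?_ (Sigma.ι_desc (fun i => ((s.inj i).left : (F i).left ⟶ s.pt.left)) i).symm
      exact congrArg (fun φ => φ.left) (hm i)))

end coprod

theorem hasFiniteCoproducts (X : Scheme.{u}) : HasFiniteCoproducts (FEt.Cat X) :=
  ⟨fun n => ⟨fun K => by
    haveI : HasColimit (Discrete.functor (K.obj ∘ Discrete.mk)) :=
      HasColimit.mk ⟨_, isColimitSigma (K.obj ∘ Discrete.mk)⟩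
    exact hasColimit_of_iso Discrete.natIsoFunctor⟩⟩

theorem hasFiniteColimits (X : Scheme.{u}) : HasFiniteColimits (FEt.Cat X) := by
  haveI := hasFiniteCoproducts X
  haveI := hasCoequalizers X
  exact hasFiniteColimits_of_hasCoequalizers_and_finite_coproducts

end H3.FEtColim
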