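import Mathlib
import Groth.Prelude
import Groth.Agent.Lib.Helper3.AffCoeq
import Groth.Agent.Lib.Helper3.FEtRank2

/-!
# Helper3: a cofork of affine `S`-schemes which is, locally on `S`, an equalizer on sections is a
coequalizer among affine `S`-schemes.
-/

set_option autoImplicit false
universe u
open CategoryTheory CategoryTheory.Limits AlgebraicGeometry TopologicalSpace Opposite

namespace H3.AffCoeqLocal

open Groth.Agent.Lib.Helper6.AffAlgHom H3.EqAlg H3.AffCoeq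

theorem bijective_respectsIso :
    RingHom.RespectsIso (fun {R S : Type u} [CommRing R] [CommRing S] (f : R →+* S) =>
      Function.Bijective f) :=
  ⟨fun _ e hf => e.bijective.comp hf, fun _ e hf => hf.comp e.bijective⟩

theorem bijective_app_of_appLE {A B : Scheme.{u}} (a : A ⟶ B) (U : B.Opens) (V : A.Opens)
    (hV : V = a ⁻¹ᵁ U) (e : V ≤ a ⁻¹ᵁ U) (hb : Function.Bijective (a.appLE U V e).hom) :
    Function.Bijective (a.app U).hom := by
  subst hV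
  rwa [Scheme.Hom.appLE_eq_app] at hb

variable {S Y Z Q' : Scheme.{u}} (pY : Y ⟶ S) (pZ : Z ⟶ S) (pQ : Q' ⟶ S) [IsAffineHom pY]
  [IsAffineHom pZ] [IsAffineHom pQ] (f g : Y ⟶ Z) (hf : f ≫ pZ = pY) (hg : g ≫ pZ = pY)
  (p : Z ⟶ Q') (hp : p ≫ pQ = pZ) (hc : f ≫ p = g ≫ p)

/-- the local equalizer condition over an open `U` -/
def IsLocEq (U : S.Opens) : Prop :=
  Function.Injective ((AffAlg.algHom pQ pZ p hp).app (op U)).hom ∧
    ∀ z : Γ(Z, pZ ⁻¹ᵁ U), z ∈ Set.range ((AffAlg.algHom pQ pZ p hp).app (op U)).hom ↔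
      ((AffAlg.algHom pZ pY f hf).app (op U)).hom z =
        ((AffAlg.algHom pZ pY g hg).app (op U)).hom z

set_option maxHeartbeats 1000000 in
include hc in
theorem isIso_desc
    (hloc : ∀ s : S, ∃ U : S.Opens, IsAffineOpen U ∧ s ∈ U ∧ IsLocEq pY pZ pQ f g hf hg p hp U)
    (d₀ : Q pY pZ f g hf hg ⟶ Q') (hd₀ : d₀ ≫ pQ = q pY pZ f g hf hg)
    (hpd : proj pY pZ f g hf hg ≫ d₀ = p) : IsIso d₀ := by
  choose U hUaff hsU hU using hloc
  have hcov : ⨆ s, pQ ⁻¹ᵁ U s = ⊤ := by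
    rw [eq_top_iff]; intro y _; exact Opens.mem_iSup.mpr ⟨pQ y, hsU (pQ y)⟩
  have hcomp : AffAlg.algHom pQ (q pY pZ f g hf hg) d₀ hd₀ ≫
      (gam pY pZ f g hf hg ≫ inc pY pZ f g hf hg) = AffAlg.algHom pQ pZ p hp := by
    have w₃ : (proj pY pZ f g hf hg ≫ d₀) ≫ pQ = pZ := by rw [Category.assoc, hd₀, proj_q]
    rw [← algHom_proj, ← algHom_comp pQ (q pY pZ f g hf hg) pZ d₀ hd₀
      (proj pY pZ f g hf hg) (proj_q pY pZ f g hf hg) w₃]
    exact algHom_congr pQ pZ hpd w₃ hp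
  have key : ∀ s, Function.Bijective (d₀.app (pQ ⁻¹ᵁ U s)).hom := by
    intro s
    obtain ⟨hinj, hrange⟩ := hU s
    have hpre : (q pY pZ f g hf hg) ⁻¹ᵁ U s = d₀ ⁻¹ᵁ (pQ ⁻¹ᵁ U s) := by
      rw [← Scheme.Hom.comp_preimage, hd₀]
    refine bijective_app_of_appLE d₀ (pQ ⁻¹ᵁ U s) ((q pY pZ f g hf hg) ⁻¹ᵁ U s) hpre
      (le_of_eq hpre) ?_
    rw [← algHom_app_appLE pQ (q pY pZ f g hf hg) d₀ hd₀ (U s) (le_of_eq hpre)]
    have hc1 := NatTrans.congr_app hcomp (op (U s))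
    haveI hgm : IsIso (E pY pZ f g hf hg).gammaMap := Groth.Agent.S8255.result _
    haveI : IsIso ((gam pY pZ f g hf hg).app (op (U s))) := by
      show IsIso ((E pY pZ f g hf hg).gammaMap.app (op (U s)))
      infer_instance
    -- θ = A(d₀) ≫ gam
    have hθinj : Function.Injective
        (((AffAlg.algHom pQ (q pY pZ f g hf hg) d₀ hd₀).app (op (U s))).hom) := by
      intro x y hxy
      apply hinj
      rw [← hc1]
      show ((inc pY pZ f g hf hg).app (op (U s))).hom (((gam pY pZ f g hf hg).app (op (U s))).hom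
        (((AffAlg.algHom pQ (q pY pZ f g hf hg) d₀ hd₀).app (op (U s))).hom x)) = _
      rw [hxy]
      rfl
    refine ⟨hθinj, ?_⟩
    intro w
    -- e := gam w ∈ 𝓔(U); inc e ∈ eqLocus = range A(p)
    have hmem := (mem_range_incl (aHom pY pZ f hf) (aHom pY pZ g hg)
      (((inc pY pZ f g hf hg).app (op (U s))).hom
        (((gam pY pZ f g hf hg).app (op (U s))).hom w))).mp ⟨_, rfl⟩
    obtain ⟨z, hz⟩ := (hrange _).mpr hmem
    refine ⟨z, ?_⟩
    have h2 : ((inc pY pZ f g hf hg).app (op (U s))).hom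
        (((gam pY pZ f g hf hg).app (op (U s))).hom
          (((AffAlg.algHom pQ (q pY pZ f g hf hg) d₀ hd₀).app (op (U s))).hom z)) =
        ((inc pY pZ f g hf hg).app (op (U s))).hom
          (((gam pY pZ f g hf hg).app (op (U s))).hom w) := by
      rw [← hz, ← hc1]
      rfl
    have h3 := incl_injective (aHom pY pZ f hf) (aHom pY pZ g hg) (U s) h2
    exact (ConcreteCategory.bijective_of_isIso ((gam pY pZ f g hf hg).app (op (U s)))).1 h3
  refine IsZariskiLocalAtTarget.of_iSup_eq_top (P := MorphismProperty.isomorphisms Scheme)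
    (fun s => pQ ⁻¹ᵁ U s) hcov (fun s => ?_)
  haveI : IsAffine (pQ ⁻¹ᵁ U s).toScheme := (hUaff s).preimage pQ
  have haff : IsAffineOpen (d₀ ⁻¹ᵁ (pQ ⁻¹ᵁ U s)) := by
    rw [← Scheme.Hom.comp_preimage, hd₀]
    exact (hUaff s).preimage _
  haveI : IsAffine (d₀ ⁻¹ᵁ (pQ ⁻¹ᵁ U s)).toScheme := haff
  rw [HasAffineProperty.iff_of_isAffine (P := MorphismProperty.isomorphisms Scheme)]
  refine ⟨inferInstance, ?_⟩
  have hb := (H3.FEtRank2.restrict_appTop_iff d₀ (fun f => Function.Bijective f)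
    bijective_respectsIso (pQ ⁻¹ᵁ U s)).mpr (key s)
  exact (ConcreteCategory.isIso_iff_bijective _).mpr hb

include hc in
theorem exists_desc_of_local
    (hloc : ∀ s : S, ∃ U : S.Opens, IsAffineOpen U ∧ s ∈ U ∧ IsLocEq pY pZ pQ f g hf hg p hp U)
    {W : Scheme.{u}} (pW : W ⟶ S) [IsAffineHom pW] (k : Z ⟶ W) (hk : k ≫ pW = pZ)
    (hfg : f ≫ k = g ≫ k) : ∃ d : Q' ⟶ W, d ≫ pW = pQ ∧ p ≫ d = k := by
  obtain ⟨d₀, hd₀, hpd⟩ := exists_desc pY pZ f g hf hg pQ p hp hc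
  haveI := isIso_desc pY pZ pQ f g hf hg p hp hc hloc d₀ hd₀ hpd
  obtain ⟨dW, hdW, hpW⟩ := exists_desc pY pZ f g hf hg pW k hk hfg
  refine ⟨inv d₀ ≫ dW, ?_, ?_⟩
  · rw [Category.assoc, hdW, IsIso.inv_comp_eq, hd₀]
  · rw [← hpd, Category.assoc, IsIso.hom_inv_id_assoc, hpW]

include hc in
theorem desc_unique_of_local
    (hloc : ∀ s : S, ∃ U : S.Opens, IsAffineOpen U ∧ s ∈ U ∧ IsLocEq pY pZ pQ f g hf hg p hp U)
    {W : Scheme.{u}} (pW : W ⟶ S) [IsAffineHom pW] (d d' : Q' ⟶ W) (hd : d ≫ pW = pQ)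
    (hd' : d' ≫ pW = pQ) (h : p ≫ d = p ≫ d') : d = d' := by
  obtain ⟨d₀, hd₀, hpd⟩ := exists_desc pY pZ f g hf hg pQ p hp hc
  haveI := isIso_desc pY pZ pQ f g hf hg p hp hc hloc d₀ hd₀ hpd
  have h1 := desc_unique pY pZ f g hf hg pW (d₀ ≫ d) (d₀ ≫ d')
    (by rw [Category.assoc, hd, hd₀]) (by rw [Category.assoc, hd', hd₀])
    (by rw [← Category.assoc, ← Category.assoc, hpd, h])
  exact (cancel_epi d₀).mp h1

end H3.AffCoeqLocal
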