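import Mathlib
import Groth.Agent.Lib.Helper3.EqSplit

/-!
# Helper3: in the split case the difference `φ - ψ : (ι₁ → T) → (ι₂ → T)` has a generalized
inverse (`d ρ d = d`).
-/

set_option autoImplicit false
universe u v w
open scoped BigOperators

namespace H3.EqGI

open H3.EqSplit

variable {T : Type u} [CommRing T] {ι₁ : Type v} {ι₂ : Type w} [Fintype ι₁] [DecidableEq ι₁]
  [Fintype ι₂] [DecidableEq ι₂]
variable (φ ψ : (ι₁ → T) →ₐ[T] (ι₂ → T))

theorem eps_mul_apply_fst (c : ι₂ → ι₁ × ι₁) (x : ι₁ → T) (i : ι₂) :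
    eps φ ψ c * φ x i = eps φ ψ c * x (c i).1 := by
  rw [apply_eq_sum, Finset.mul_sum]
  have h2 : ∀ k, eps φ ψ c * (x k * em φ i k) =
      if k = (c i).1 then eps φ ψ c * x k else 0 := by
    intro k
    rw [mul_left_comm, eps_mul_em]
    split_ifs <;> simp [mul_comm]
  simp only [h2]
  rw [Finset.sum_ite_eq']
  simp

theorem eps_mul_apply_snd (c : ι₂ → ι₁ × ι₁) (x : ι₁ → T) (i : ι₂) :
    eps φ ψ c * ψ x i = eps φ ψ c * x (c i).2 := by
  rw [apply_eq_sum, Finset.mul_sum]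
  have h2 : ∀ k, eps φ ψ c * (x k * em ψ i k) =
      if k = (c i).2 then eps φ ψ c * x k else 0 := by
    intro k
    rw [mul_left_comm, eps_mul_em']
    split_ifs <;> simp [mul_comm]
  simp only [h2]
  rw [Finset.sum_ite_eq']
  simp

/-- the difference map -/
noncomputable def dmap : (ι₁ → T) →ₗ[T] (ι₂ → T) := φ.toLinearMap - ψ.toLinearMap

theorem dmap_apply (x : ι₁ → T) (i : ι₂) : dmap φ ψ x i = φ x i - ψ x i := rfl

theorem exists_lam (c : ι₂ → ι₁ × ι₁) {j j' : ι₁} (h : Relation.EqvGen (rel c) j j') :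
    ∃ lam : (ι₂ → T) →ₗ[T] T, ∀ x : ι₁ → T,
      eps φ ψ c * (x j - x j') = eps φ ψ c * lam (dmap φ ψ x) := by
  induction h with
  | rel j j' hr =>
    obtain ⟨i, rfl, rfl⟩ := hr
    refine ⟨LinearMap.proj i, fun x => ?_⟩
    show eps φ ψ c * (x (c i).1 - x (c i).2) = eps φ ψ c * (φ x i - ψ x i)
    rw [mul_sub, mul_sub, eps_mul_apply_fst, eps_mul_apply_snd]
  | refl j => exact ⟨0, fun x => by simp⟩
  | symm j j' _ ih =>
    obtain ⟨lam, hl⟩ := ih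
    refine ⟨-lam, fun x => ?_⟩
    have h1 : x j' - x j = -(x j - x j') := by ring
    rw [h1, mul_neg, hl x, LinearMap.neg_apply, mul_neg]
  | trans j j' j'' _ _ ih1 ih2 =>
    obtain ⟨l1, h1⟩ := ih1
    obtain ⟨l2, h2⟩ := ih2
    refine ⟨l1 + l2, fun x => ?_⟩
    have h3 : x j - x j'' = (x j - x j') + (x j' - x j'') := by ring
    rw [h3, mul_add, h1 x, h2 x, LinearMap.add_apply, mul_add]

theorem exists_lam' (c : ι₂ → ι₁ × ι₁) (j : ι₁) :
    ∃ lam : (ι₂ → T) →ₗ[T] T, ∀ x : ι₁ → T,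
      eps φ ψ c * (x j - x (Quot.out (Quot.mk (rel c) j : Qc c))) =
        eps φ ψ c * lam (dmap φ ψ x) :=
  exists_lam φ ψ c (Quot.eqvGen_exact (Quot.out_eq _).symm)

/-- the functionals computing `x j - x (rep [j])` from `d x` on the piece `c` -/
noncomputable def lam (c : ι₂ → ι₁ × ι₁) (j : ι₁) : (ι₂ → T) →ₗ[T] T :=
  (exists_lam' φ ψ c j).choose

theorem lam_spec (c : ι₂ → ι₁ × ι₁) (j : ι₁) (x : ι₁ → T) :
    eps φ ψ c * (x j - x (Quot.out (Quot.mk (rel c) j : Qc c))) =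
      eps φ ψ c * lam φ ψ c j (dmap φ ψ x) :=
  (exists_lam' φ ψ c j).choose_spec x

/-- the generalized inverse of `dmap` -/
noncomputable def rho : (ι₂ → T) →ₗ[T] (ι₁ → T) :=
  LinearMap.pi (fun j => ∑ c : ι₂ → ι₁ × ι₁, eps φ ψ c • lam φ ψ c j)

theorem rho_apply (y : ι₂ → T) (j : ι₁) :
    rho φ ψ y j = ∑ c : ι₂ → ι₁ × ι₁, eps φ ψ c * lam φ ψ c j y := by
  simp [rho, LinearMap.sum_apply]

/-- the projection onto the equalizer -/
noncomputable def sig (x : ι₁ → T) : ι₁ → T :=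
  fun j => ∑ c : ι₂ → ι₁ × ι₁, eps φ ψ c * x (Quot.out (Quot.mk (rel c) j : Qc c))

theorem mem_of_form (s : ∀ c : ι₂ → ι₁ × ι₁, Qc c → T) :
    φ (fun j => ∑ c : ι₂ → ι₁ × ι₁, eps φ ψ c * s c (Quot.mk _ j)) =
      ψ (fun j => ∑ c : ι₂ → ι₁ × ι₁, eps φ ψ c * s c (Quot.mk _ j)) := by
  have key : ∀ (χ : (ι₁ → T) →ₐ[T] (ι₂ → T)) (sel : ι₁ × ι₁ → ι₁)
      (_ : ∀ (c : ι₂ → ι₁ × ι₁) (i : ι₂) (k : ι₁),
        eps φ ψ c * em χ i k = if k = sel (c i) then eps φ ψ c else 0) (i : ι₂),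
      χ (fun j => ∑ c : ι₂ → ι₁ × ι₁, eps φ ψ c * s c (Quot.mk _ j)) i =
        ∑ c : ι₂ → ι₁ × ι₁, eps φ ψ c * s c (Quot.mk _ (sel (c i))) := by
    intro χ sel hsel i
    rw [apply_eq_sum]
    simp only [Finset.sum_mul]
    rw [Finset.sum_comm]
    refine Finset.sum_congr rfl (fun c _ => ?_)
    have h2 : ∀ k, eps φ ψ c * s c (Quot.mk _ k) * em χ i k =
        if k = sel (c i) then eps φ ψ c * s c (Quot.mk _ k) else 0 := by
      intro k
      rw [mul_right_comm, hsel]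
      split_ifs <;> simp
    simp only [h2]
    rw [Finset.sum_ite_eq']
    simp
  funext i
  rw [key φ Prod.fst (fun c i k => eps_mul_em φ ψ c i k) i,
    key ψ Prod.snd (fun c i k => eps_mul_em' φ ψ c i k) i]
  refine Finset.sum_congr rfl (fun c _ => ?_)
  have : (Quot.mk (rel c) (c i).1 : Qc c) = Quot.mk (rel c) (c i).2 :=
    Quot.sound ⟨i, rfl, rfl⟩
  rw [this]

theorem dmap_sig (x : ι₁ → T) : dmap φ ψ (sig φ ψ x) = 0 := by
  have h := mem_of_form φ ψ (fun c q => x (Quot.out q))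
  funext i
  rw [dmap_apply]
  show φ (sig φ ψ x) i - ψ (sig φ ψ x) i = 0
  have h' : φ (sig φ ψ x) = ψ (sig φ ψ x) := h
  rw [h', sub_self]

theorem rho_dmap (x : ι₁ → T) : rho φ ψ (dmap φ ψ x) = x - sig φ ψ x := by
  funext j
  rw [rho_apply]
  show _ = x j - sig φ ψ x j
  have h1 : x j = ∑ c : ι₂ → ι₁ × ι₁, eps φ ψ c * x j := by
    rw [← Finset.sum_mul, sum_eps, one_mul]
  conv_rhs => rw [h1]
  unfold sig
  rw [← Finset.sum_sub_distrib]
  refine Finset.sum_congr rfl (fun c _ => ?_)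
  rw [← lam_spec, mul_sub]

/-- **generalized inverse**: `d ρ d = d`. -/
theorem dmap_rho_dmap (x : ι₁ → T) : dmap φ ψ (rho φ ψ (dmap φ ψ x)) = dmap φ ψ x := by
  rw [rho_dmap, map_sub, dmap_sig, sub_zero]

end H3.EqGI
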