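import Mathlib
import Groth.Agent.Lib.Helper3.EqGI
import Groth.Agent.Lib.Helper3.EqDescent

/-!
# Helper3: for two algebra maps `φ ψ : B → C` between finite étale algebras of constant rank, the
cokernel of `φ - ψ` is projective; hence `φ - ψ` has a generalized inverse.
-/

set_option autoImplicit false
universe u
open scoped TensorProduct

namespace H3.EqProj

theorem flat_tensor_quotient_of_GI {R T B C : Type*} [CommRing R] [CommRing T] [Algebra R T]
    [AddCommGroup B] [Module R B] [AddCommGroup C] [Module R C]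
    (d : B →ₗ[R] C) (ρT : T ⊗[R] C →ₗ[T] T ⊗[R] B)
    (h : ∀ z, d.baseChange T (ρT (d.baseChange T z)) = d.baseChange T z)
    [Module.Flat T (T ⊗[R] C)] :
    Module.Flat T (T ⊗[R] (C ⧸ LinearMap.range d)) := by
  let π : T ⊗[R] C →ₗ[T] T ⊗[R] (C ⧸ LinearMap.range d) :=
    (LinearMap.range d).mkQ.baseChange T
  let eT : T ⊗[R] C →ₗ[T] T ⊗[R] C := LinearMap.id - (d.baseChange T) ∘ₗ ρT
  let g : C →ₗ[R] T ⊗[R] C := (eT.restrictScalars R) ∘ₗ (TensorProduct.mk R T C 1)
  have hg : LinearMap.range d ≤ LinearMap.ker g := by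
    rintro _ ⟨b, rfl⟩
    rw [LinearMap.mem_ker]
    show (1 : T) ⊗ₜ[R] d b - d.baseChange T (ρT ((1 : T) ⊗ₜ[R] d b)) = 0
    have h1 : (1 : T) ⊗ₜ[R] d b = d.baseChange T ((1 : T) ⊗ₜ[R] b) :=
      (LinearMap.baseChange_tmul _ _ _).symm
    rw [h1, h, sub_self]
  let s : T ⊗[R] (C ⧸ LinearMap.range d) →ₗ[T] T ⊗[R] C :=
    LinearMap.liftBaseChange T ((LinearMap.range d).liftQ g hg)
  have hπd : ∀ z, π (d.baseChange T z) = 0 := by
    intro z
    have h1 : π ∘ₗ d.baseChange T = 0 := by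
      show (LinearMap.range d).mkQ.baseChange T ∘ₗ d.baseChange T = 0
      rw [← LinearMap.baseChange_comp]
      have h2 : (LinearMap.range d).mkQ ∘ₗ d = 0 := LinearMap.range_mkQ_comp d
      rw [h2, LinearMap.baseChange_zero]
    exact LinearMap.congr_fun h1 z
  have hs : π ∘ₗ s = LinearMap.id := by
    apply TensorProduct.AlgebraTensorModule.ext
    intro t n
    obtain ⟨c, rfl⟩ := Submodule.mkQ_surjective _ n
    show π (s (t ⊗ₜ[R] (LinearMap.range d).mkQ c)) = t ⊗ₜ[R] (LinearMap.range d).mkQ c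
    have h1 : s (t ⊗ₜ[R] (LinearMap.range d).mkQ c) = t • g c := rfl
    rw [h1, map_smul]
    show t • π ((1 : T) ⊗ₜ[R] c - d.baseChange T (ρT ((1 : T) ⊗ₜ[R] c))) = _
    rw [map_sub, hπd, sub_zero]
    show t • ((1 : T) ⊗ₜ[R] (LinearMap.range d).mkQ c) = _
    rw [TensorProduct.smul_tmul', smul_eq_mul, mul_one]
  exact Module.Flat.of_retract s π hs

theorem exists_GI_of_projective {R B C : Type*} [CommRing R] [AddCommGroup B] [Module R B]
    [AddCommGroup C] [Module R C] [Module.Projective R C] (d : B →ₗ[R] C)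
    [Module.Projective R (C ⧸ LinearMap.range d)] :
    ∃ ρ : C →ₗ[R] B, ∀ b, d (ρ (d b)) = d b := by
  obtain ⟨sN, hsN⟩ := Module.projective_lifting_property (LinearMap.range d).mkQ LinearMap.id
    (Submodule.mkQ_surjective _)
  let pI : C →ₗ[R] C := LinearMap.id - sN ∘ₗ (LinearMap.range d).mkQ
  have hpI : ∀ c, pI c ∈ LinearMap.range d := by
    intro c
    rw [← Submodule.ker_mkQ (LinearMap.range d), LinearMap.mem_ker]
    show (LinearMap.range d).mkQ (c - sN ((LinearMap.range d).mkQ c)) = 0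
    rw [map_sub]
    have h1 : (LinearMap.range d).mkQ (sN ((LinearMap.range d).mkQ c)) =
        (LinearMap.range d).mkQ c := LinearMap.congr_fun hsN _
    rw [h1, sub_self]
  let pI' : C →ₗ[R] LinearMap.range d := pI.codRestrict _ hpI
  obtain ⟨ρ, hρ⟩ := Module.projective_lifting_property d.rangeRestrict pI'
    d.surjective_rangeRestrict
  refine ⟨ρ, fun b => ?_⟩
  have h1 : d (ρ (d b)) = pI (d b) := congrArg Subtype.val (LinearMap.congr_fun hρ (d b))
  rw [h1]
  show d b - sN ((LinearMap.range d).mkQ (d b)) = d b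
  have h2 : (LinearMap.range d).mkQ (d b) = 0 := by
    rw [← LinearMap.mem_ker, Submodule.ker_mkQ]
    exact ⟨b, rfl⟩
  rw [h2, map_zero, sub_zero]

theorem exists_common_split {R B C : Type u} [CommRing R] [CommRing B] [CommRing C]
    [Algebra R B] [Algebra R C] [Module.Finite R B] [Algebra.Etale R B] [Module.Finite R C]
    [Algebra.Etale R C] {n m : ℕ} (hB : Module.rankAtStalk (R := R) B = n)
    (hC : Module.rankAtStalk (R := R) C = m) :
    ∃ (T : Type u) (_ : CommRing T) (_ : Algebra R T) (_ : Module.FaithfullyFlat R T),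
      Algebra.IsFiniteSplit T (T ⊗[R] B) ∧ Algebra.IsFiniteSplit T (T ⊗[R] C) := by
  obtain ⟨T₁, _, _, _, _, _, hT₁⟩ := Algebra.IsFiniteSplit.exists_tensorProduct_of_etale hB
  have hC₁ : Module.rankAtStalk (R := T₁) (T₁ ⊗[R] C) = m := by
    ext p
    rw [Module.rankAtStalk_baseChange, hC]
    rfl
  obtain ⟨T₂, _, _, _, _, _, hT₂⟩ :=
    Algebra.IsFiniteSplit.exists_tensorProduct_of_etale (R := T₁) (S := T₁ ⊗[R] C) hC₁
  algebraize [(algebraMap T₁ T₂).comp (algebraMap R T₁)]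
  haveI : Module.FaithfullyFlat R T₂ := Module.FaithfullyFlat.trans R T₁ T₂
  haveI hsB : Algebra.IsFiniteSplit T₂ (T₂ ⊗[R] B) :=
    Algebra.IsFiniteSplit.of_algEquiv (Algebra.TensorProduct.cancelBaseChange R T₁ T₂ T₂ B)
  haveI hsC : Algebra.IsFiniteSplit T₂ (T₂ ⊗[R] C) :=
    Algebra.IsFiniteSplit.of_algEquiv (Algebra.TensorProduct.cancelBaseChange R T₁ T₂ T₂ C)
  exact ⟨T₂, inferInstance, inferInstance, inferInstance, hsB, hsC⟩

set_option maxHeartbeats 1000000 in
theorem projective_coker {R B C : Type u} [CommRing R] [CommRing B] [CommRing C]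
    [Algebra R B] [Algebra R C] [Module.Finite R B] [Algebra.Etale R B] [Module.Finite R C]
    [Algebra.Etale R C] {n m : ℕ} (hB : Module.rankAtStalk (R := R) B = n)
    (hC : Module.rankAtStalk (R := R) C = m) (φ ψ : B →ₐ[R] C) :
    Module.Projective R (C ⧸ LinearMap.range (φ.toLinearMap - ψ.toLinearMap)) := by
  obtain ⟨T, _, _, _, hsB, hsC⟩ := exists_common_split hB hC
  obtain ⟨n', ⟨eB⟩⟩ := Algebra.IsFiniteSplit.nonempty_algEquiv_fun T (T ⊗[R] B)
  obtain ⟨m', ⟨eC⟩⟩ := Algebra.IsFiniteSplit.nonempty_algEquiv_fun T (T ⊗[R] C)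
  obtain ⟨φT, hφT⟩ : ∃ φT : T ⊗[R] B →ₐ[T] T ⊗[R] C,
      φT = Algebra.TensorProduct.map (AlgHom.id T T) φ := ⟨_, rfl⟩
  obtain ⟨ψT, hψT⟩ : ∃ ψT : T ⊗[R] B →ₐ[T] T ⊗[R] C,
      ψT = Algebra.TensorProduct.map (AlgHom.id T T) ψ := ⟨_, rfl⟩
  obtain ⟨φ'', hφ''⟩ : ∃ φ'' : (Fin n' → T) →ₐ[T] (Fin m' → T),
      φ'' = eC.toAlgHom.comp (φT.comp eB.symm.toAlgHom) := ⟨_, rfl⟩
  obtain ⟨ψ'', hψ''⟩ : ∃ ψ'' : (Fin n' → T) →ₐ[T] (Fin m' → T),
      ψ'' = eC.toAlgHom.comp (ψT.comp eB.symm.toAlgHom) := ⟨_, rfl⟩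
  obtain ⟨d, hd0⟩ : ∃ d : B →ₗ[R] C, d = φ.toLinearMap - ψ.toLinearMap := ⟨_, rfl⟩
  rw [← hd0]
  have hbc : ∀ (χ : B →ₐ[R] C) (z : T ⊗[R] B), χ.toLinearMap.baseChange T z =
      Algebra.TensorProduct.map (AlgHom.id T T) χ z := by
    intro χ z
    induction z using TensorProduct.induction_on with
    | zero => simp
    | tmul t b => simp
    | add x y hx hy => rw [map_add, map_add, hx, hy]
  have hd : ∀ z, d.baseChange T z = eC.symm (H3.EqGI.dmap φ'' ψ'' (eB z)) := by
    intro z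
    apply eC.injective
    rw [eC.apply_symm_apply, hd0, LinearMap.baseChange_sub, LinearMap.sub_apply, hbc, hbc,
      ← hφT, ← hψT, map_sub]
    show eC (φT z) - eC (ψT z) = φ'' (eB z) - ψ'' (eB z)
    rw [hφ'', hψ'']
    show _ = eC (φT (eB.symm (eB z))) - eC (ψT (eB.symm (eB z)))
    rw [eB.symm_apply_apply]
  let ρT : T ⊗[R] C →ₗ[T] T ⊗[R] B :=
    eB.symm.toLinearMap ∘ₗ (H3.EqGI.rho φ'' ψ'') ∘ₗ eC.toLinearMap
  have hGI : ∀ z, d.baseChange T (ρT (d.baseChange T z)) = d.baseChange T z := by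
    intro z
    rw [hd z]
    show d.baseChange T (eB.symm (H3.EqGI.rho φ'' ψ''
      (eC (eC.symm (H3.EqGI.dmap φ'' ψ'' (eB z)))))) = _
    rw [eC.apply_symm_apply, hd, eB.apply_symm_apply, H3.EqGI.dmap_rho_dmap]
  haveI : Module.Flat T (T ⊗[R] C) := inferInstance
  haveI := flat_tensor_quotient_of_GI d ρT hGI
  haveI : Module.Flat R (C ⧸ LinearMap.range d) := Module.Flat.of_flat_tensorProduct R _ T
  haveI : Module.FinitePresentation R C := Module.FinitePresentation.of_finite_of_finitePresentation R C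
  haveI : Module.FinitePresentation R (C ⧸ LinearMap.range d) := by
    refine Module.finitePresentation_of_surjective (LinearMap.range d).mkQ
      (Submodule.mkQ_surjective _) ?_
    rw [Submodule.ker_mkQ, LinearMap.range_eq_map]
    exact Module.Finite.fg_top.map d
  exact Module.Flat.projective_of_finitePresentation

/-- **Generalized inverse** of `φ - ψ` for finite étale algebras of constant rank. -/
theorem exists_GI {R B C : Type u} [CommRing R] [CommRing B] [CommRing C]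
    [Algebra R B] [Algebra R C] [Module.Finite R B] [Algebra.Etale R B] [Module.Finite R C]
    [Algebra.Etale R C] {n m : ℕ} (hB : Module.rankAtStalk (R := R) B = n)
    (hC : Module.rankAtStalk (R := R) C = m) (φ ψ : B →ₐ[R] C) :
    ∃ ρ : C →ₗ[R] B, ∀ b, φ (ρ (φ b - ψ b)) - ψ (ρ (φ b - ψ b)) = φ b - ψ b := by
  haveI := projective_coker hB hC φ ψ
  haveI : Module.Projective R C := by
    haveI : Module.FinitePresentation R C :=
      Module.FinitePresentation.of_finite_of_finitePresentation R C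
    exact Module.Flat.projective_of_finitePresentation
  obtain ⟨ρ, hρ⟩ := exists_GI_of_projective (φ.toLinearMap - ψ.toLinearMap)
  exact ⟨ρ, fun b => hρ b⟩

end H3.EqProj
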