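import Mathlib

/-!
# Helper3: a fork of algebras with a generalized inverse stays an equalizer after base change.
-/

set_option autoImplicit false
universe u
open CategoryTheory CategoryTheory.Limits

namespace H3.ForkBC

/-- instance-free base-change square of rings: `B' = R' ⊗[R] B`. -/
structure BCSq {R R' B B' : Type u} [CommRing R] [CommRing R'] [CommRing B] [CommRing B']
    (g : R →+* R') (fB : R →+* B) (fB' : R' →+* B') (β : B →+* B') : Prop where
  comm : ∀ a, β (fB a) = fB' (g a)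
  ind : ∀ (P : B' → Prop), P 0 → (∀ x y, P x → P y → P (x + y)) →
    (∀ (r' : R') (y : B'), P y → P (fB' r' * y)) → (∀ b : B, P (β b)) → ∀ y, P y
  lift : ∀ {D' : Type u} [CommRing D'] (δ' : R' →+* D') (l : B →+ D'),
    (∀ a b, l (fB a * b) = δ' (g a) * l b) →
    ∃ l' : B' →+ D', (∀ r' y, l' (fB' r' * y) = δ' r' * l' y) ∧ ∀ b, l' (β b) = l b

theorem BCSq.of_isPushout {R R' B B' : CommRingCat.{u}} {ψ : R ⟶ R'} {φ : R ⟶ B}
    {φ' : R' ⟶ B'} {ψ' : B ⟶ B'} (h : IsPushout ψ φ φ' ψ') :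
    BCSq ψ.hom φ.hom φ'.hom ψ'.hom := by
  algebraize [ψ.hom, φ.hom, φ'.hom, ψ'.hom, φ'.hom.comp ψ.hom]
  have : IsScalarTower R B B' := .of_algebraMap_eq' <| congr($(h.1.1).hom)
  have hp : Algebra.IsPushout R R' B B' := CommRingCat.isPushout_iff_isPushout.mp h
  have ibc : IsBaseChange R' (IsScalarTower.toAlgHom R B B').toLinearMap := hp.out
  refine ⟨fun a => ?_, ?_, ?_⟩
  · exact (congr($(h.1.1).hom a)).symm
  · intro P h0 hadd hsmul hgen y
    refine ibc.inductionOn y P h0 (fun b => hgen b) (fun r' n hn => ?_) hadd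
    have h1 : r' • n = φ'.hom r' * n := Algebra.smul_def r' n
    rw [h1]
    exact hsmul r' n hn
  · intro D' _ δ' l hl
    letI : Algebra R' D' := δ'.toAlgebra
    letI : Algebra R D' := (δ'.comp ψ.hom).toAlgebra
    haveI : IsScalarTower R R' D' := .of_algebraMap_eq' rfl
    let lL : B →ₗ[R] D' :=
      { toFun := l
        map_add' := l.map_add
        map_smul' := fun a b => by
          show l (a • b) = a • l b
          rw [Algebra.smul_def, Algebra.smul_def]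
          exact hl a b }
    refine ⟨(ibc.lift lL).toAddMonoidHom, fun r' y => ?_, fun b => ibc.lift_eq lL b⟩
    show ibc.lift lL (φ'.hom r' * y) = δ' r' * ibc.lift lL y
    have h1 : φ'.hom r' * y = r' • y := (Algebra.smul_def r' y).symm
    rw [h1, map_smul, Algebra.smul_def]
    rfl

set_option maxHeartbeats 1000000 in
theorem fork_bc {R R' E B C E' B' C' : Type u} [CommRing R] [CommRing R'] [CommRing E]
    [CommRing B] [CommRing C] [CommRing E'] [CommRing B'] [CommRing C']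
    (g : R →+* R') (fE : R →+* E) (fB : R →+* B) (fC : R →+* C)
    (fE' : R' →+* E') (fB' : R' →+* B') (fC' : R' →+* C')
    (ι : E →+* B) (φ ψ : B →+* C) (ι' : E' →+* B') (φ' ψ' : B' →+* C')
    (ε : E →+* E') (β : B →+* B') (γ : C →+* C')
    (hιf : ∀ a, ι (fE a) = fB a) (hφf : ∀ a, φ (fB a) = fC a) (hψf : ∀ a, ψ (fB a) = fC a)
    (hιf' : ∀ a, ι' (fE' a) = fB' a) (hφf' : ∀ a, φ' (fB' a) = fC' a)
    (hψf' : ∀ a, ψ' (fB' a) = fC' a)
    (hβι : ∀ e, β (ι e) = ι' (ε e)) (hγφ : ∀ b, γ (φ b) = φ' (β b))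
    (hγψ : ∀ b, γ (ψ b) = ψ' (β b))
    (sqE : BCSq g fE fE' ε) (sqB : BCSq g fB fB' β) (sqC : BCSq g fC fC' γ)
    (hι : Function.Injective ι) (hrange : ∀ b, b ∈ Set.range ι ↔ φ b = ψ b)
    (hρ : ∃ ρ : C →+ B, (∀ a c, ρ (fC a * c) = fB a * ρ c) ∧
      ∀ b, φ (ρ (φ b - ψ b)) - ψ (ρ (φ b - ψ b)) = φ b - ψ b)
    (hφψ' : ∀ e', φ' (ι' e') = ψ' (ι' e')) :
    Function.Injective ι' ∧ ∀ y, y ∈ Set.range ι' ↔ φ' y = ψ' y := by
  obtain ⟨ρ, hρl, hGI⟩ := hρ
  have hmem : ∀ b, b - ρ (φ b - ψ b) ∈ Set.range ι := fun b => (hrange _).mpr (by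
    have h1 : φ (b - ρ (φ b - ψ b)) = φ b - φ (ρ (φ b - ψ b)) := map_sub φ _ _
    have h2 : ψ (b - ρ (φ b - ψ b)) = ψ b - ψ (ρ (φ b - ψ b)) := map_sub ψ _ _
    rw [h1, h2]
    linear_combination -(hGI b))
  choose r0 hr0 using hmem
  have hr0ι : ∀ e, r0 (ι e) = e := by
    intro e
    apply hι
    rw [hr0, (hrange (ι e)).mp ⟨e, rfl⟩, sub_self, map_zero, sub_zero]
  have hr0lin : ∀ a b, r0 (fB a * b) = fE a * r0 b := by
    intro a b
    apply hι
    have e1 : φ (fB a * b) - ψ (fB a * b) = fC a * (φ b - ψ b) := by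
      rw [map_mul, map_mul, hφf, hψf, mul_sub]
    rw [hr0, e1, hρl, map_mul ι, hιf, hr0]
    ring
  let r : B →+ E :=
    { toFun := r0
      map_zero' := hι (by rw [hr0]; simp)
      map_add' := fun x y => hι (by
        rw [map_add, hr0, hr0, hr0]
        simp only [map_add, map_sub]
        abel) }
  obtain ⟨ρ', hρ'l, hρ'β⟩ := sqC.lift fB' (β.toAddMonoidHom.comp ρ) (fun a c => by
    show β (ρ (fC a * c)) = fB' (g a) * β (ρ c)
    rw [hρl, map_mul, sqB.comm])
  obtain ⟨r', hr'l, hr'β⟩ := sqB.lift fE' (ε.toAddMonoidHom.comp r) (fun a b => by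
    show ε (r0 (fB a * b)) = fE' (g a) * ε (r0 b)
    rw [hr0lin, map_mul, sqE.comm])
  have c1 : ∀ y, ι' (r' y) = y - ρ' (φ' y - ψ' y) := by
    intro y
    refine sqB.ind (fun y => ι' (r' y) = y - ρ' (φ' y - ψ' y)) ?_ ?_ ?_ ?_ y
    · simp
    · intro x y hx hy
      simp only [map_add, hx, hy, map_sub]
      abel
    · intro a y hy
      have e1 : φ' (fB' a * y) - ψ' (fB' a * y) = fC' a * (φ' y - ψ' y) := by
        rw [map_mul, map_mul, hφf', hψf', mul_sub]
      rw [hr'l, map_mul ι', hιf', hy, e1, hρ'l]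
      ring
    · intro b
      rw [hr'β]
      show ι' (ε (r0 b)) = β b - ρ' (φ' (β b) - ψ' (β b))
      rw [← hβι, hr0, ← hγφ, ← hγψ, ← map_sub γ, hρ'β]
      show β (b - ρ (φ b - ψ b)) = β b - β (ρ (φ b - ψ b))
      rw [map_sub]
  have c2 : ∀ e', r' (ι' e') = e' := by
    intro e'
    refine sqE.ind (fun e' => r' (ι' e') = e') ?_ ?_ ?_ ?_ e'
    · simp
    · intro x y hx hy
      rw [map_add, map_add, hx, hy]
    · intro a e' he
      rw [map_mul, hιf', hr'l, he]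
    · intro e
      rw [← hβι, hr'β]
      show ε (r0 (ι e)) = ε e
      rw [hr0ι]
  refine ⟨Function.LeftInverse.injective c2, fun y => ⟨?_, fun hy => ⟨r' y, ?_⟩⟩⟩
  · rintro ⟨e', rfl⟩
    exact hφψ' e'
  · rw [c1, hy, sub_self, map_zero, sub_zero]

end H3.ForkBC
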