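import Mathlib
import Groth.Prelude
import Groth.Agent.Lib.Helper3.AffCoeqLocal
import Groth.Agent.Lib.Helper3.FEtCoeq
import Groth.Agent.Lib.Helper3.EqProj
import Groth.Agent.Lib.Helper3.ForkBC

/-!
# Helper3: the coequalizer of finite étale `S`-schemes commutes with arbitrary base change
(local equalizer condition for the pulled back cofork).
-/

set_option autoImplicit false
universe u
open CategoryTheory CategoryTheory.Limits AlgebraicGeometry TopologicalSpace Opposite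

namespace H3.FEtCoeqBC

open Groth.Agent.Lib.Helper6.AffAlgHom H3.EqAlg H3.AffCoeq H3.FEtCoeq H3.ForkBC

theorem appLE_congr_hom {A B : Scheme.{u}} {m m' : A ⟶ B} (hm : m = m') (U : B.Opens)
    (V : A.Opens) (e1 : V ≤ m ⁻¹ᵁ U) (e2 : V ≤ m' ⁻¹ᵁ U) : m.appLE U V e1 = m'.appLE U V e2 := by
  subst hm; rfl

theorem appLE_comp_eq {A M B : Scheme.{u}} (m : A ⟶ M) (n : M ⟶ B) (k : A ⟶ B)
    (h : m ≫ n = k) (U : B.Opens) (V : M.Opens) (W : A.Opens) (e₁ : V ≤ n ⁻¹ᵁ U)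
    (e₂ : W ≤ m ⁻¹ᵁ V) (e₃ : W ≤ k ⁻¹ᵁ U) :
    n.appLE U V e₁ ≫ m.appLE V W e₂ = k.appLE U W e₃ := by
  rw [Scheme.Hom.appLE_comp_appLE]
  exact appLE_congr_hom h U W _ e₃

theorem appLE_comp_congr {A M₁ M₂ B : Scheme.{u}} (m₁ : A ⟶ M₁) (n₁ : M₁ ⟶ B) (m₂ : A ⟶ M₂)
    (n₂ : M₂ ⟶ B) (h : m₁ ≫ n₁ = m₂ ≫ n₂) (U : B.Opens) (V₁ : M₁.Opens) (V₂ : M₂.Opens)
    (W : A.Opens) (e₁ : V₁ ≤ n₁ ⁻¹ᵁ U) (e₁' : W ≤ m₁ ⁻¹ᵁ V₁) (e₂ : V₂ ≤ n₂ ⁻¹ᵁ U)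
    (e₂' : W ≤ m₂ ⁻¹ᵁ V₂) :
    n₁.appLE U V₁ e₁ ≫ m₁.appLE V₁ W e₁' = n₂.appLE U V₂ e₂ ≫ m₂.appLE V₂ W e₂' := by
  rw [Scheme.Hom.appLE_comp_appLE, Scheme.Hom.appLE_comp_appLE]
  exact appLE_congr_hom h U W _ _

/-- ring-hom form of the generalized inverse -/
theorem exists_GI_ringHom {R B C : Type u} [CommRing R] [CommRing B] [CommRing C]
    (fB : R →+* B) (fC : R →+* C) (φ ψ : B →+* C) (hφ : ∀ a, φ (fB a) = fC a)
    (hψ : ∀ a, ψ (fB a) = fC a) (hBf : fB.Finite) (hBe : fB.Etale) (hCf : fC.Finite)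
    (hCe : fC.Etale) {n m : ℕ} (hn : ∀ p, fB.finrank p = n) (hm : ∀ p, fC.finrank p = m) :
    ∃ ρ : C →+ B, (∀ a c, ρ (fC a * c) = fB a * ρ c) ∧
      ∀ b, φ (ρ (φ b - ψ b)) - ψ (ρ (φ b - ψ b)) = φ b - ψ b := by
  letI := fB.toAlgebra
  letI := fC.toAlgebra
  haveI : Module.Finite R B := hBf
  haveI : Module.Finite R C := hCf
  haveI : Algebra.Etale R B := hBe
  haveI : Algebra.Etale R C := hCe
  have hB : Module.rankAtStalk (R := R) B = n := by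
    ext p
    exact hn p
  have hC : Module.rankAtStalk (R := R) C = m := by
    ext p
    exact hm p
  let φ' : B →ₐ[R] C := { φ with commutes' := hφ }
  let ψ' : B →ₐ[R] C := { ψ with commutes' := hψ }
  obtain ⟨ρ, hρ⟩ := H3.EqProj.exists_GI hB hC φ' ψ'
  refine ⟨ρ.toAddMonoidHom, fun a c => ?_, fun b => hρ b⟩
  show ρ (fC a * c) = fB a * ρ c
  have h1 : fC a * c = a • c := (Algebra.smul_def a c).symm
  rw [h1, map_smul, Algebra.smul_def]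
  rfl

section main

variable {S S' Ys Zs : Scheme.{u}} (pY : Ys ⟶ S) (pZ : Zs ⟶ S) [IsFinite pY] [Etale pY]
  [IsFinite pZ] [Etale pZ] (fa fb : Ys ⟶ Zs) (hfa : fa ≫ pZ = pY) (hfb : fb ≫ pZ = pY)
  (t : S' ⟶ S)

instance : IsAffineHom (pullback.snd pY t) := MorphismProperty.pullback_snd _ _ inferInstance
instance : IsAffineHom (pullback.snd pZ t) := MorphismProperty.pullback_snd _ _ inferInstance
instance : IsAffineHom (pullback.snd (q pY pZ fa fb hfa hfb) t) :=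
  MorphismProperty.pullback_snd _ _ inferInstance

variable (a' b' : pullback pY t ⟶ pullback pZ t)
  (ha'1 : a' ≫ pullback.fst pZ t = pullback.fst pY t ≫ fa)
  (ha'2 : a' ≫ pullback.snd pZ t = pullback.snd pY t)
  (hb'1 : b' ≫ pullback.fst pZ t = pullback.fst pY t ≫ fb)
  (hb'2 : b' ≫ pullback.snd pZ t = pullback.snd pY t)
  (p' : pullback pZ t ⟶ pullback (q pY pZ fa fb hfa hfb) t)
  (hp'1 : p' ≫ pullback.fst (q pY pZ fa fb hfa hfb) t =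
    pullback.fst pZ t ≫ proj pY pZ fa fb hfa hfb)
  (hp'2 : p' ≫ pullback.snd (q pY pZ fa fb hfa hfb) t = pullback.snd pZ t)
  (hc' : a' ≫ p' = b' ≫ p')

theorem bcsq {W : Scheme.{u}} (pW : W ⟶ S) [IsAffineHom pW] {U : S.Opens} (hU : IsAffineOpen U)
    {U' : S'.Opens} (hU' : IsAffineOpen U') (hle : U' ≤ t ⁻¹ᵁ U)
    (e : pullback.snd pW t ⁻¹ᵁ U' ≤ pullback.fst pW t ⁻¹ᵁ (pW ⁻¹ᵁ U)) :
    BCSq (t.appLE U U' hle).hom (pW.appLE U (pW ⁻¹ᵁ U) le_rfl).hom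
      ((pullback.snd pW t).appLE U' (pullback.snd pW t ⁻¹ᵁ U') le_rfl).hom
      ((pullback.fst pW t).appLE (pW ⁻¹ᵁ U) (pullback.snd pW t ⁻¹ᵁ U') e).hom := by
  have H : IsPullback (pullback.fst pW t) (pullback.snd pW t) pW t := IsPullback.of_hasPullback _ _
  have hUY : pullback.snd pW t ⁻¹ᵁ U' =
      pullback.fst pW t ⁻¹ᵁ (pW ⁻¹ᵁ U) ⊓ pullback.snd pW t ⁻¹ᵁ U' := (inf_eq_right.mpr e).symm
  haveI := isIso_pushoutSection_of_isAffineOpen H hle (le_refl (pW ⁻¹ᵁ U)) hUY hU hU'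
    (hU.preimage pW)
  have hpo := (isIso_pushoutSection_iff H hle (le_refl (pW ⁻¹ᵁ U)) hUY).mp inferInstance
  exact BCSq.of_isPushout hpo.flip

theorem fork_over {U : S.Opens} (hU : IsAffineOpen U)
    (eproj : pZ ⁻¹ᵁ U ≤ proj pY pZ fa fb hfa hfb ⁻¹ᵁ (q pY pZ fa fb hfa hfb ⁻¹ᵁ U))
    (efa : pY ⁻¹ᵁ U ≤ fa ⁻¹ᵁ (pZ ⁻¹ᵁ U)) (efb : pY ⁻¹ᵁ U ≤ fb ⁻¹ᵁ (pZ ⁻¹ᵁ U)) :
    Function.Injective ((proj pY pZ fa fb hfa hfb).appLE (q pY pZ fa fb hfa hfb ⁻¹ᵁ U)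
      (pZ ⁻¹ᵁ U) eproj).hom ∧
    ∀ b : Γ(Zs, pZ ⁻¹ᵁ U), b ∈ Set.range ((proj pY pZ fa fb hfa hfb).appLE
        (q pY pZ fa fb hfa hfb ⁻¹ᵁ U) (pZ ⁻¹ᵁ U) eproj).hom ↔
      (fa.appLE (pZ ⁻¹ᵁ U) (pY ⁻¹ᵁ U) efa).hom b = (fb.appLE (pZ ⁻¹ᵁ U) (pY ⁻¹ᵁ U) efb).hom b := by
  have hA := algHom_app_appLE (q pY pZ fa fb hfa hfb) pZ (proj pY pZ fa fb hfa hfb)
    (proj_q pY pZ fa fb hfa hfb) U eproj
  have hP := NatTrans.congr_app (algHom_proj pY pZ fa fb hfa hfb) (op U)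
  have hfa' := algHom_app_appLE pZ pY fa hfa U efa
  have hfb' := algHom_app_appLE pZ pY fb hfb U efb
  rw [← hA, hP, ← hfa', ← hfb']
  haveI hgm : IsIso (E pY pZ fa fb hfa hfb).gammaMap := Groth.Agent.S8255.result _
  haveI : IsIso ((gam pY pZ fa fb hfa hfb).app (op U)) := by
    show IsIso ((E pY pZ fa fb hfa hfb).gammaMap.app (op U))
    infer_instance
  have hgb := ConcreteCategory.bijective_of_isIso ((gam pY pZ fa fb hfa hfb).app (op U))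
  constructor
  · intro x y hxy
    apply hgb.1
    exact incl_injective (aHom pY pZ fa hfa) (aHom pY pZ fb hfb) U hxy
  · intro b
    constructor
    · rintro ⟨e, rfl⟩
      exact (mem_range_incl (aHom pY pZ fa hfa) (aHom pY pZ fb hfb) _).mp ⟨_, rfl⟩
    · intro hb
      obtain ⟨z, hz⟩ := (mem_range_incl (aHom pY pZ fa hfa) (aHom pY pZ fb hfb) b).mpr hb
      obtain ⟨w, hw⟩ := hgb.2 z
      refine ⟨w, ?_⟩
      rw [← hz, ← hw]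
      rfl

set_option maxHeartbeats 2000000 in
include ha'1 hb'1 hp'1 hc' in
theorem isLocEq_pullback (s' : S') : ∃ U' : S'.Opens, IsAffineOpen U' ∧ s' ∈ U' ∧
    H3.AffCoeqLocal.IsLocEq (pullback.snd pY t) (pullback.snd pZ t)
      (pullback.snd (q pY pZ fa fb hfa hfb) t) a' b' ha'2 hb'2 p' hp'2 U' := by
  obtain ⟨U, n, m, hU, hsU, hn, hm⟩ := exists_affine_const pY pZ (t s')
  obtain ⟨U', hU'aff, hs'U', hle⟩ := Opens.isBasis_iff_nbhd.mp S'.isBasis_affineOpens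
    (show s' ∈ t ⁻¹ᵁ U from hsU)
  refine ⟨U', hU'aff, hs'U', ?_⟩
  have hpre : ∀ {W : Scheme.{u}} (pW : W ⟶ S),
      pullback.snd pW t ⁻¹ᵁ U' ≤ pullback.fst pW t ⁻¹ᵁ (pW ⁻¹ᵁ U) := by
    intro W pW
    rw [← Scheme.Hom.comp_preimage, pullback.condition, Scheme.Hom.comp_preimage]
    exact (pullback.snd pW t).preimage_mono hle
  have eproj : pZ ⁻¹ᵁ U ≤ proj pY pZ fa fb hfa hfb ⁻¹ᵁ (q pY pZ fa fb hfa hfb ⁻¹ᵁ U) := by
    rw [← Scheme.Hom.comp_preimage, proj_q]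
  have efa : pY ⁻¹ᵁ U ≤ fa ⁻¹ᵁ (pZ ⁻¹ᵁ U) := by rw [← Scheme.Hom.comp_preimage, hfa]
  have efb : pY ⁻¹ᵁ U ≤ fb ⁻¹ᵁ (pZ ⁻¹ᵁ U) := by rw [← Scheme.Hom.comp_preimage, hfb]
  have ep' : pullback.snd pZ t ⁻¹ᵁ U' ≤
      p' ⁻¹ᵁ (pullback.snd (q pY pZ fa fb hfa hfb) t ⁻¹ᵁ U') := by
    rw [← Scheme.Hom.comp_preimage, hp'2]
  have ea' : pullback.snd pY t ⁻¹ᵁ U' ≤ a' ⁻¹ᵁ (pullback.snd pZ t ⁻¹ᵁ U') := by
    rw [← Scheme.Hom.comp_preimage, ha'2]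
  have eb' : pullback.snd pY t ⁻¹ᵁ U' ≤ b' ⁻¹ᵁ (pullback.snd pZ t ⁻¹ᵁ U') := by
    rw [← Scheme.Hom.comp_preimage, hb'2]
  obtain ⟨hι, hrange⟩ := fork_over pY pZ fa fb hfa hfb hU eproj efa efb
  have hBf : (pZ.appLE U (pZ ⁻¹ᵁ U) le_rfl).hom.Finite := by
    rw [Scheme.Hom.appLE_eq_app]; exact pZ.finite_app U hU
  have hCf : (pY.appLE U (pY ⁻¹ᵁ U) le_rfl).hom.Finite := by
    rw [Scheme.Hom.appLE_eq_app]; exact pY.finite_app U hU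
  have hBn : ∀ p, (pZ.appLE U (pZ ⁻¹ᵁ U) le_rfl).hom.finrank p = n := by
    rw [Scheme.Hom.appLE_eq_app]
    exact fun p => (app_finrank pZ hU p).trans (hn _ (fromSpec_mem hU p))
  have hCm : ∀ p, (pY.appLE U (pY ⁻¹ᵁ U) le_rfl).hom.finrank p = m := by
    rw [Scheme.Hom.appLE_eq_app]
    exact fun p => (app_finrank pY hU p).trans (hm _ (fromSpec_mem hU p))
  have hφf : ∀ a, (fa.appLE (pZ ⁻¹ᵁ U) (pY ⁻¹ᵁ U) efa).hom
      ((pZ.appLE U (pZ ⁻¹ᵁ U) le_rfl).hom a) = (pY.appLE U (pY ⁻¹ᵁ U) le_rfl).hom a :=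
    fun a => congrArg (fun ψ => ψ.hom a) (appLE_comp_eq fa pZ pY hfa U _ _ le_rfl efa le_rfl)
  have hψf : ∀ a, (fb.appLE (pZ ⁻¹ᵁ U) (pY ⁻¹ᵁ U) efb).hom
      ((pZ.appLE U (pZ ⁻¹ᵁ U) le_rfl).hom a) = (pY.appLE U (pY ⁻¹ᵁ U) le_rfl).hom a :=
    fun a => congrArg (fun ψ => ψ.hom a) (appLE_comp_eq fb pZ pY hfb U _ _ le_rfl efb le_rfl)
  have hρ := exists_GI_ringHom (pZ.appLE U (pZ ⁻¹ᵁ U) le_rfl).hom
    (pY.appLE U (pY ⁻¹ᵁ U) le_rfl).hom (fa.appLE (pZ ⁻¹ᵁ U) (pY ⁻¹ᵁ U) efa).hom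
    (fb.appLE (pZ ⁻¹ᵁ U) (pY ⁻¹ᵁ U) efb).hom hφf hψf hBf
    (pZ.etale_appLE hU (hU.preimage pZ) le_rfl) hCf
    (pY.etale_appLE hU (hU.preimage pY) le_rfl) hBn hCm
  have key := fork_bc (g := (t.appLE U U' hle).hom)
    (fE := ((q pY pZ fa fb hfa hfb).appLE U _ le_rfl).hom)
    (fB := (pZ.appLE U (pZ ⁻¹ᵁ U) le_rfl).hom)
    (fC := (pY.appLE U (pY ⁻¹ᵁ U) le_rfl).hom)
    (fE' := ((pullback.snd (q pY pZ fa fb hfa hfb) t).appLE U' _ le_rfl).hom)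
    (fB' := ((pullback.snd pZ t).appLE U' _ le_rfl).hom)
    (fC' := ((pullback.snd pY t).appLE U' _ le_rfl).hom)
    (ι := ((proj pY pZ fa fb hfa hfb).appLE (q pY pZ fa fb hfa hfb ⁻¹ᵁ U) (pZ ⁻¹ᵁ U) eproj).hom)
    (φ := (fa.appLE (pZ ⁻¹ᵁ U) (pY ⁻¹ᵁ U) efa).hom)
    (ψ := (fb.appLE (pZ ⁻¹ᵁ U) (pY ⁻¹ᵁ U) efb).hom)
    (ι' := (p'.appLE (pullback.snd (q pY pZ fa fb hfa hfb) t ⁻¹ᵁ U')
      (pullback.snd pZ t ⁻¹ᵁ U') ep').hom)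
    (φ' := (a'.appLE (pullback.snd pZ t ⁻¹ᵁ U') (pullback.snd pY t ⁻¹ᵁ U') ea').hom)
    (ψ' := (b'.appLE (pullback.snd pZ t ⁻¹ᵁ U') (pullback.snd pY t ⁻¹ᵁ U') eb').hom)
    (ε := ((pullback.fst (q pY pZ fa fb hfa hfb) t).appLE _ _ (hpre _)).hom)
    (β := ((pullback.fst pZ t).appLE _ _ (hpre pZ)).hom)
    (γ := ((pullback.fst pY t).appLE _ _ (hpre pY)).hom)
    (fun a => congrArg (fun ψ => ψ.hom a) (appLE_comp_eq (proj pY pZ fa fb hfa hfb)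
      (q pY pZ fa fb hfa hfb) pZ (proj_q pY pZ fa fb hfa hfb) U _ _ le_rfl eproj le_rfl))
    hφf hψf
    (fun a => congrArg (fun ψ => ψ.hom a) (appLE_comp_eq p'
      (pullback.snd (q pY pZ fa fb hfa hfb) t) (pullback.snd pZ t) hp'2 U' _ _ le_rfl ep' le_rfl))
    (fun a => congrArg (fun ψ => ψ.hom a) (appLE_comp_eq a'
      (pullback.snd pZ t) (pullback.snd pY t) ha'2 U' _ _ le_rfl ea' le_rfl))
    (fun a => congrArg (fun ψ => ψ.hom a) (appLE_comp_eq b'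
      (pullback.snd pZ t) (pullback.snd pY t) hb'2 U' _ _ le_rfl eb' le_rfl))
    (fun e => congrArg (fun ψ => ψ.hom e) (appLE_comp_congr (pullback.fst pZ t)
      (proj pY pZ fa fb hfa hfb) p' (pullback.fst (q pY pZ fa fb hfa hfb) t) hp'1.symm
      _ _ _ _ eproj (hpre pZ) (hpre _) ep'))
    (fun b => congrArg (fun ψ => ψ.hom b) (appLE_comp_congr (pullback.fst pY t) fa a'
      (pullback.fst pZ t) ha'1.symm _ _ _ _ efa (hpre pY) (hpre pZ) ea'))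
    (fun b => congrArg (fun ψ => ψ.hom b) (appLE_comp_congr (pullback.fst pY t) fb b'
      (pullback.fst pZ t) hb'1.symm _ _ _ _ efb (hpre pY) (hpre pZ) eb'))
    (bcsq t (q pY pZ fa fb hfa hfb) hU hU'aff hle (hpre _))
    (bcsq t pZ hU hU'aff hle (hpre pZ))
    (bcsq t pY hU hU'aff hle (hpre pY))
    hι hrange hρ
    (fun e' => congrArg (fun ψ => ψ.hom e') (appLE_comp_congr a' p' b' p' hc'
      _ _ _ _ ep' ea' ep' eb'))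
  unfold H3.AffCoeqLocal.IsLocEq
  rw [algHom_app_appLE (pullback.snd (q pY pZ fa fb hfa hfb) t) (pullback.snd pZ t) p' hp'2 U' ep',
    algHom_app_appLE (pullback.snd pZ t) (pullback.snd pY t) a' ha'2 U' ea',
    algHom_app_appLE (pullback.snd pZ t) (pullback.snd pY t) b' hb'2 U' eb']
  exact key

end main

end H3.FEtCoeqBC
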