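import Mathlib

/-!
# Transport of gradings along ring isomorphisms and the induced isomorphisms of `Proj`
-/

set_option autoImplicit false
universe u
open CategoryTheory CategoryTheory.Limits AlgebraicGeometry TopologicalSpace Opposite
open scoped HomogeneousIdeal

namespace Groth.Agent.Lib.Helper3.GrTransport

section transport

variable {A B : Type u} [CommRing A] [CommRing B] {τ : Type u} [SetLike τ B]
  [AddSubgroupClass τ B]

/-- the grading transported along a ring isomorphism -/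
def tr (e : A ≃+* B) (ℬ : ℕ → τ) (d : ℕ) : AddSubgroup A where
  carrier := {a | e a ∈ ℬ d}
  add_mem' := fun {a b} ha hb => by
    change e (a + b) ∈ ℬ d
    rw [map_add]
    exact add_mem ha hb
  zero_mem' := by
    change e 0 ∈ ℬ d
    rw [map_zero]
    exact zero_mem _
  neg_mem' := fun {a} ha => by
    change e (-a) ∈ ℬ d
    rw [map_neg]
    exact neg_mem ha

theorem mem_tr {e : A ≃+* B} {ℬ : ℕ → τ} {d : ℕ} {a : A} : a ∈ tr e ℬ d ↔ e a ∈ ℬ d := Iff.rfl

variable (e : A ≃+* B) (ℬ : ℕ → τ) [GradedRing ℬ]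

/-- transport back of homogeneous elements -/
def back (d : ℕ) : ℬ d →+ tr e ℬ d where
  toFun b := ⟨e.symm b, by rw [mem_tr, RingEquiv.apply_symm_apply]; exact b.2⟩
  map_zero' := Subtype.ext (map_zero e.symm)
  map_add' x y := Subtype.ext (map_add e.symm _ _)

/-- the decomposition map of the transported grading -/
noncomputable def dec : A →+ DirectSum ℕ (fun d => tr e ℬ d) :=
  (DirectSum.map (back e ℬ)).comp
    ((DirectSum.decomposeAddEquiv ℬ).toAddMonoidHom.comp e.toAddMonoidHom)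

theorem e_coe_map (z : DirectSum ℕ (fun d => ℬ d)) :
    e (DirectSum.coeAddMonoidHom (tr e ℬ) (DirectSum.map (back e ℬ) z)) =
      DirectSum.coeAddMonoidHom ℬ z := by
  have key : (e.toAddMonoidHom.comp (DirectSum.coeAddMonoidHom (tr e ℬ))).comp
      (DirectSum.map (back e ℬ)) = DirectSum.coeAddMonoidHom ℬ := by
    apply DirectSum.addHom_ext
    intro i x
    simp only [AddMonoidHom.comp_apply, DirectSum.map_of, DirectSum.coeAddMonoidHom_of]
    exact e.apply_symm_apply x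
  exact DFunLike.congr_fun key z

theorem coe_dec (a : A) : DirectSum.coeAddMonoidHom (tr e ℬ) (dec e ℬ a) = a := by
  apply e.injective
  change e (DirectSum.coeAddMonoidHom (tr e ℬ) (DirectSum.map (back e ℬ)
    (DirectSum.decompose ℬ (e a)))) = e a
  rw [e_coe_map]
  exact DirectSum.Decomposition.left_inv (e a)

theorem dec_coe (z : DirectSum ℕ (fun d => tr e ℬ d)) :
    dec e ℬ (DirectSum.coeAddMonoidHom (tr e ℬ) z) = z := by
  have key : (dec e ℬ).comp (DirectSum.coeAddMonoidHom (tr e ℬ)) = AddMonoidHom.id _ := by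
    apply DirectSum.addHom_ext
    intro i x
    simp only [AddMonoidHom.comp_apply, DirectSum.coeAddMonoidHom_of, AddMonoidHom.id_apply]
    change DirectSum.map (back e ℬ) (DirectSum.decompose ℬ (e (x : A))) = _
    rw [DirectSum.decompose_of_mem ℬ (mem_tr.mp x.2), DirectSum.map_of]
    congr 1
    exact Subtype.ext (e.symm_apply_apply _)
  exact DFunLike.congr_fun key z

/-- the transported grading is a graded ring -/
noncomputable def gradedRing : GradedRing (tr e ℬ) where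
  one_mem := by
    change e 1 ∈ ℬ 0
    rw [map_one]
    exact SetLike.GradedOne.one_mem
  mul_mem := by
    intro i j a b ha hb
    change e (a * b) ∈ ℬ (i + j)
    rw [map_mul]
    exact SetLike.mul_mem_graded ha hb
  decompose' := dec e ℬ
  left_inv := coe_dec e ℬ
  right_inv := dec_coe e ℬ

end transport

section projIso

variable {A B : Type u} [CommRing A] [CommRing B] {σ τ : Type u} [SetLike σ A]
  [AddSubgroupClass σ A] [SetLike τ B] [AddSubgroupClass τ B]
  {𝒜 : ℕ → σ} {ℬ : ℕ → τ} [GradedRing 𝒜] [GradedRing ℬ]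

theorem map_congr {f f' : 𝒜 →+*ᵍ ℬ} (e : f = f') (hf : ℬ₊ ≤ 𝒜₊.map f) (hf' : ℬ₊ ≤ 𝒜₊.map f') :
    Proj.map f hf = Proj.map f' hf' := by
  subst e
  rfl

/-- a degree preserving ring isomorphism as a graded ring homomorphism -/
def fwd (e : A ≃+* B) (he : ∀ d a, a ∈ 𝒜 d ↔ e a ∈ ℬ d) : 𝒜 →+*ᵍ ℬ where
  toRingHom := e.toRingHom
  map_mem := fun {d a} ha => (he d a).mp ha

/-- the inverse of a degree preserving ring isomorphism as a graded ring homomorphism -/
def bwd (e : A ≃+* B) (he : ∀ d a, a ∈ 𝒜 d ↔ e a ∈ ℬ d) : ℬ →+*ᵍ 𝒜 where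
  toRingHom := e.symm.toRingHom
  map_mem := fun {d b} hb => (he d (e.symm b)).mpr (by
    change e (e.symm b) ∈ ℬ d
    rw [RingEquiv.apply_symm_apply]; exact hb)

theorem fwd_apply (e : A ≃+* B) (he : ∀ d a, a ∈ 𝒜 d ↔ e a ∈ ℬ d) (a : A) :
    fwd e he a = e a := rfl

theorem bwd_apply (e : A ≃+* B) (he : ∀ d a, a ∈ 𝒜 d ↔ e a ∈ ℬ d) (b : B) :
    bwd e he b = e.symm b := rfl

/-- surjective graded homomorphisms with degreewise surjectivity satisfy the irrelevant ideal
condition -/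
theorem irrelevant_le_of_surj (f : 𝒜 →+*ᵍ ℬ)
    (hsurj : ∀ (d : ℕ) (b : B), b ∈ ℬ d → ∃ a ∈ 𝒜 d, f a = b) : ℬ₊ ≤ 𝒜₊.map f := by
  rw [HomogeneousIdeal.irrelevant_le]
  intro i hi b hb
  change b ∈ Ideal.map f (𝒜₊).toIdeal
  obtain ⟨a, ha, rfl⟩ := hsurj i b hb
  exact Ideal.mem_map_of_mem _ (HomogeneousIdeal.mem_irrelevant_of_mem _ hi ha)

theorem fwd_irr (e : A ≃+* B) (he : ∀ d a, a ∈ 𝒜 d ↔ e a ∈ ℬ d) :
    ℬ₊ ≤ 𝒜₊.map (fwd e he) :=
  irrelevant_le_of_surj _ (fun d b hb =>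
    ⟨e.symm b, (bwd e he).map_mem hb, e.apply_symm_apply b⟩)

theorem bwd_irr (e : A ≃+* B) (he : ∀ d a, a ∈ 𝒜 d ↔ e a ∈ ℬ d) :
    𝒜₊ ≤ ℬ₊.map (bwd e he) :=
  irrelevant_le_of_surj _ (fun d a ha =>
    ⟨e a, (fwd e he).map_mem ha, e.symm_apply_apply a⟩)

/-- the isomorphism of `Proj`s induced by a degree preserving ring isomorphism -/
noncomputable def projIso (e : A ≃+* B) (he : ∀ d a, a ∈ 𝒜 d ↔ e a ∈ ℬ d) :
    Proj 𝒜 ≅ Proj ℬ where
  hom := Proj.map (bwd e he) (bwd_irr e he)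
  inv := Proj.map (fwd e he) (fwd_irr e he)
  hom_inv_id := by
    rw [← Proj.map_comp, ← Proj.map_id]
    refine map_congr ?_ _ _
    exact GradedRingHom.ext (fun a => e.symm_apply_apply a)
  inv_hom_id := by
    rw [← Proj.map_comp, ← Proj.map_id]
    refine map_congr ?_ _ _
    exact GradedRingHom.ext (fun b => e.apply_symm_apply b)

theorem projIso_hom (e : A ≃+* B) (he : ∀ d a, a ∈ 𝒜 d ↔ e a ∈ ℬ d) :
    (projIso e he).hom = Proj.map (bwd e he) (bwd_irr e he) := rfl

theorem projIso_inv (e : A ≃+* B) (he : ∀ d a, a ∈ 𝒜 d ↔ e a ∈ ℬ d) :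
    (projIso e he).inv = Proj.map (fwd e he) (fwd_irr e he) := rfl

/-- the degree zero part of a graded ring homomorphism -/
def zeroHom (f : 𝒜 →+*ᵍ ℬ) : 𝒜 0 →+* ℬ 0 where
  toFun x := ⟨f (x : A), f.2 x.2⟩
  map_one' := Subtype.ext (f.toRingHom.map_one)
  map_mul' x y := Subtype.ext (f.toRingHom.map_mul _ _)
  map_zero' := Subtype.ext (f.toRingHom.map_zero)
  map_add' x y := Subtype.ext (f.toRingHom.map_add _ _)

set_option backward.isDefEq.respectTransparency false in
@[reassoc]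
theorem map_toSpecZero (f : 𝒜 →+*ᵍ ℬ) (hf : ℬ₊ ≤ 𝒜₊.map f) :
    Proj.map f hf ≫ Proj.toSpecZero 𝒜 =
      Proj.toSpecZero ℬ ≫ Spec.map (CommRingCat.ofHom (zeroHom f)) := by
  refine (Proj.mapAffineOpenCover f hf).openCover.hom_ext _ _ (fun s => ?_)
  simp only [Scheme.AffineOpenCover.openCover_f, Proj.mapAffineOpenCover_f,
    Proj.awayι_comp_map_assoc f hf s.1.2 _ s.2.2]
  rw [Proj.awayι_toSpecZero,
    Proj.awayι_toSpecZero_assoc, ← Spec.map_comp, ← Spec.map_comp]
  congr 1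
  ext c
  simp [zeroHom, HomogeneousLocalization.fromZeroRingHom, HomogeneousLocalization.Away.map,
    HomogeneousLocalization.map_mk]

end projIso

end Groth.Agent.Lib.Helper3.GrTransport
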