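import Groth.Agent.Lib.Helper3.RelSpec
import Groth.Agent.Lib.Helper3.GrTransport
import Groth.Prelude.Def_RelProj

/-!
# Quasi-coherent graded algebras from graded functors on the affine site
-/

set_option autoImplicit false
universe u
open CategoryTheory CategoryTheory.Limits AlgebraicGeometry TopologicalSpace Opposite
open AlgebraicGeometry.Scheme AlgebraicGeometry.Scheme.AffineZariskiSite
open scoped HomogeneousIdeal

namespace Groth.Agent.Lib.Helper3.AffGr

open Groth.Agent.Lib.Helper3.RelSpec Groth.Agent.Lib.Helper3.GrTransport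

variable {S : Scheme.{u}} {F : S.AffineZariskiSiteᵒᵖ ⥤ CommRingCat.{u}}
  {α : (toOpensFunctor S).op ⋙ S.presheaf ⟶ F} (H : α.Coequifibered)

/-- the quasi-coherent algebra attached to a functor on the affine site -/
noncomputable def qcAlg : _root_.RelSpec.QCAlg S :=
  haveI := isAffineHom_proj H
  _root_.RelSpec.QCAlg.directImage (proj H)

/-- the identification of sections over affine opens -/
noncomputable def eps (U : S.AffineZariskiSite) :
    (qcAlg H).presheaf.obj (op U.1) ≃+* F.obj (op U) :=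
  (asIso (psi H U)).commRingCatIsoToRingEquiv

theorem eps_apply (U : S.AffineZariskiSite) (x : (qcAlg H).presheaf.obj (op U.1)) :
    eps H U x = (psi H U).hom x := rfl

theorem eps_res {U V : S.AffineZariskiSite} (i : V ⟶ U)
    (x : (qcAlg H).presheaf.obj (op U.1)) :
    eps H V (((qcAlg H).presheaf.map (homOfLE (toOpens_mono i.le)).op).hom x) =
      (F.map i.op).hom (eps H U x) := by
  have h := psi_naturality H i ((Opens.map (proj H).base).map (homOfLE (toOpens_mono i.le)))
  exact congrArg (fun φ => φ.hom x) h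

theorem eps_str (U : S.AffineZariskiSite) (r : Γ(S, U.1)) :
    eps H U (((qcAlg H).str.app (op U.1)).hom r) = (α.app (op U)).hom r := by
  have h := proj_app_psi H U
  exact congrArg (fun φ => φ.hom r) h

variable (𝒢 : ∀ U : S.AffineZariskiSite, ℕ → AddSubgroup (F.obj (op U)))
  [∀ U, GradedRing (𝒢 U)]
  (hmap : ∀ (U V : S.AffineZariskiSite) (i : V ⟶ U) (d : ℕ) (x : F.obj (op U)),
    x ∈ 𝒢 U d → (F.map i.op).hom x ∈ 𝒢 V d)
  (hstr : ∀ (U : S.AffineZariskiSite) (r : Γ(S, U.1)), (α.app (op U)).hom r ∈ 𝒢 U 0)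

/-- the transported grading -/
noncomputable abbrev grd (U : S.AffineZariskiSite) : ℕ → AddSubgroup ((qcAlg H).presheaf.obj (op U.1)) :=
  tr (eps H U) (𝒢 U)

noncomputable instance (U : S.AffineZariskiSite) : GradedRing (grd H 𝒢 U) :=
  gradedRing (eps H U) (𝒢 U)

include hmap in
theorem res_mem_of_basic {U V : S.AffineZariskiSite} (i : V ⟶ U) {d : ℕ}
    {x : (qcAlg H).presheaf.obj (op U.1)} (hx : x ∈ grd H 𝒢 U d) :
    ((qcAlg H).presheaf.map (homOfLE (toOpens_mono i.le)).op).hom x ∈ grd H 𝒢 V d := by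
  change eps H V _ ∈ 𝒢 V d
  rw [eps_res]
  exact hmap U V i d _ hx

/-- restriction to a basic open as a graded ring homomorphism -/
noncomputable def resG {U V : S.AffineZariskiSite} (i : V ⟶ U) : grd H 𝒢 U →+*ᵍ grd H 𝒢 V where
  toRingHom := ((qcAlg H).presheaf.map (homOfLE (toOpens_mono i.le)).op).hom
  map_mem := fun hx => res_mem_of_basic H 𝒢 hmap i hx

include hmap in
theorem res_mem_of_le (U V : S.AffineZariskiSite) (i : V.1 ≤ U.1)
    {d : ℕ} {x : (qcAlg H).presheaf.obj (op U.1)} (hx : x ∈ grd H 𝒢 U d) :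
    ((qcAlg H).presheaf.map (homOfLE i).op).hom x ∈ grd H 𝒢 V d := by
  classical
  set y := ((qcAlg H).presheaf.map (homOfLE i).op).hom x with hy
  -- the restriction to opens basic in both `U` and `V`
  have hW : ∀ (W : S.AffineZariskiSite) (hWU : W ≤ U) (hWV : W ≤ V),
      ((qcAlg H).presheaf.map (homOfLE (toOpens_mono hWV)).op).hom y ∈ grd H 𝒢 W d := by
    intro W hWU hWV
    have e : ((qcAlg H).presheaf.map (homOfLE (toOpens_mono hWV)).op).hom y =
        ((qcAlg H).presheaf.map (homOfLE (toOpens_mono hWU)).op).hom x := by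
      rw [hy, ← CommRingCat.comp_apply, ← Functor.map_comp]
      rfl
    rw [e]
    exact res_mem_of_basic H 𝒢 hmap (homOfLE hWU) hx
  have key : ∀ e, e ≠ d → (DirectSum.decompose (grd H 𝒢 V) y e :
      (qcAlg H).presheaf.obj (op V.1)) = 0 := by
    intro e hed
    choose a b hab hv using fun v : V.1 =>
      exists_basicOpen_le_affine_inter U.2 V.2 v.1 ⟨i v.2, v.2⟩
    refine TopCat.Sheaf.eq_of_locally_eq' (rspec H).sheaf
      (fun v : V.1 => proj H ⁻¹ᵁ (S.basicOpen (b v))) (proj H ⁻¹ᵁ V.1)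
      (fun v => homOfLE ((proj H).preimage_mono (S.basicOpen_le (b v)))) ?_ _ _ (fun v => ?_)
    · intro z hz
      have hz' : (proj H) z ∈ V.1 := hz
      refine Opens.mem_iSup.mpr ⟨⟨(proj H) z, hz'⟩, ?_⟩
      change (proj H) z ∈ S.basicOpen (b ⟨(proj H) z, hz'⟩)
      rw [← hab]
      exact hv ⟨(proj H) z, hz'⟩
    · let W : S.AffineZariskiSite := V.basicOpen (b v)
      have hWV : W ≤ V := AffineZariskiSite.basicOpen_le _ _
      have hWU : W ≤ U := ⟨a v, hab v⟩
      have h1 : resG H 𝒢 hmap (homOfLE hWV)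
          ((DirectSum.decompose (grd H 𝒢 V) y e : (qcAlg H).presheaf.obj (op V.1))) =
          (DirectSum.decompose (grd H 𝒢 W) (resG H 𝒢 hmap (homOfLE hWV) y) e :
            (qcAlg H).presheaf.obj (op W.1)) :=
        GradedRingHom.map_directSumDecompose (grd H 𝒢 V) (grd H 𝒢 W)
          (resG H 𝒢 hmap (homOfLE hWV))
      have h2 : (DirectSum.decompose (grd H 𝒢 W) (resG H 𝒢 hmap (homOfLE hWV) y) e :
          (qcAlg H).presheaf.obj (op W.1)) = 0 :=
        DirectSum.decompose_of_mem_ne _ (hW W hWU hWV) (Ne.symm hed)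
      change ((qcAlg H).presheaf.map (homOfLE (toOpens_mono hWV)).op).hom _ =
        ((qcAlg H).presheaf.map (homOfLE (toOpens_mono hWV)).op).hom 0
      rw [map_zero]
      exact h1.trans h2
  change y ∈ grd H 𝒢 V d
  rw [← DirectSum.sum_support_decompose (grd H 𝒢 V) y]
  refine sum_mem (fun e _ => ?_)
  by_cases hed : e = d
  · subst hed
    exact SetLike.coe_mem _
  · rw [key e hed]
    exact zero_mem _

/-- the quasi-coherent graded algebra attached to a graded functor on the affine site -/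
noncomputable def qcGrAlg : RelProj.QCGrAlg S where
  toQCAlg := qcAlg H
  deg U hU d := grd H 𝒢 ⟨U, hU⟩ d
  graded U hU := gradedRing (eps H ⟨U, hU⟩) (𝒢 ⟨U, hU⟩)
  map_mem := by
    intro U V hU hV i d x hx
    exact res_mem_of_le H 𝒢 hmap ⟨U, hU⟩ ⟨V, hV⟩ i hx
  str_mem := by
    intro U hU r
    change eps H ⟨U, hU⟩ _ ∈ 𝒢 ⟨U, hU⟩ 0
    rw [eps_str]
    exact hstr ⟨U, hU⟩ r

theorem mem_deg_iff (U : S.AffineZariskiSite) (d : ℕ)
    (x : (qcAlg H).presheaf.obj (op U.1)) :
    x ∈ (qcGrAlg H 𝒢 hmap hstr).deg U.1 U.2 d ↔ eps H U x ∈ 𝒢 U d := Iff.rfl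

end Groth.Agent.Lib.Helper3.AffGr
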