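import Mathlib
import Groth.Agent.Lib.Helper3.AffGr
import Groth.Agent.Lib.Helper6.AffAlgHom
import Groth.Agent.S8255
import Groth.Prelude.Def_RelSpec
import Groth.Prelude.Def_AffAlg

/-!
# Filtered colimits of quasi-coherent algebras and limits of relative spectra
-/

set_option autoImplicit false
universe u
open CategoryTheory CategoryTheory.Limits AlgebraicGeometry TopologicalSpace Opposite
open AlgebraicGeometry.Scheme AlgebraicGeometry.Scheme.AffineZariskiSite

namespace Groth.Agent.Lib.H3.QCColim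

open RelSpec RelSpec.QCAlg
open Groth.Agent.Lib.Helper3.RelSpec (psi psi_naturality proj_app_psi proj rspec appLE_of_eq
  appLE_top_top)
open Groth.Agent.Lib.Helper6.AffAlgHom (algHom_app_appLE algOf_bijective)

section AlgHom

variable {X Y Z S : Scheme.{u}}

theorem algHom_congr (f : X ⟶ S) (g : Y ⟶ S) {h h' : Y ⟶ X} (e : h = h') (w : h ≫ f = g)
    (w' : h' ≫ f = g) : AffAlg.algHom f g h w = AffAlg.algHom f g h' w' := by
  subst e; rfl

theorem algHom_comp (f : X ⟶ S) (g : Y ⟶ S) (g' : Z ⟶ S) (h : Y ⟶ X) (w : h ≫ f = g)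
    (h' : Z ⟶ Y) (w' : h' ≫ g = g') (w'' : (h' ≫ h) ≫ f = g') :
    AffAlg.algHom f g' (h' ≫ h) w'' = AffAlg.algHom f g h w ≫ AffAlg.algHom g g' h' w' := by
  subst w w'
  ext U : 2
  rw [NatTrans.comp_app, algHom_app_appLE f _ (h' ≫ h) w'' U le_rfl,
    algHom_app_appLE f _ h rfl U le_rfl, algHom_app_appLE _ _ h' rfl U le_rfl,
    Scheme.Hom.appLE_comp_appLE]

end AlgHom

variable {S : Scheme.{u}}

theorem algHom_specMap_gammaAff {A B : QCAlg S} (φ : A ⟶ B) (U : S.Opens) (hU : IsAffineOpen U) :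
    (AffAlg.algHom A.π B.π (specMap φ) (specMap_π φ)).app (op U) ≫ B.gammaAff U hU =
      A.gammaAff U hU ≫ φ.hom.app (op U) := by
  have e0 : B.π ⁻¹ᵁ U ≤ specMap φ ⁻¹ᵁ A.π ⁻¹ᵁ U := by
    rw [← Scheme.Hom.comp_preimage, specMap_π]
  rw [algHom_app_appLE A.π B.π (specMap φ) (specMap_π φ) U e0]
  unfold gammaAff
  rw [← Category.assoc, Scheme.Hom.appLE_comp_appLE, appLE_of_eq (ι_specMap U hU φ),
    ← Scheme.Hom.appLE_comp_appLE (Spec.map (φ.hom.app (op U))) (A.ι U hU) (A.π ⁻¹ᵁ U) ⊤ ⊤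
      (A.top_le_preimage U hU) le_top,
    appLE_top_top, Category.assoc, Category.assoc, Scheme.ΓSpecIso_naturality]

/-- compatibility of `gammaMap` with `specMap` -/
theorem algHom_specMap_gammaMap {A B : QCAlg S} (φ : A ⟶ B) :
    AffAlg.algHom A.π B.π (specMap φ) (specMap_π φ) ≫ B.gammaMap = A.gammaMap ≫ φ.hom := by
  apply (Functor.IsCoverDense.restrictHomEquivHom (G := toOpensFunctor S)
    (K := Opens.grothendieckTopology S) (ℱ := AffAlg.alg A.π)
    (ℱ' := (⟨B.presheaf, B.isSheaf⟩ : TopCat.Sheaf CommRingCat.{u} S.carrier))).symm.injective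
  ext V : 2
  change (AffAlg.algHom A.π B.π (specMap φ) (specMap_π φ)).app (op V.unop.1) ≫
      B.gammaMap.app (op V.unop.1) =
    A.gammaMap.app (op V.unop.1) ≫ φ.hom.app (op V.unop.1)
  rw [A.gammaMap_app V.unop.1 V.unop.2, B.gammaMap_app V.unop.1 V.unop.2]
  exact algHom_specMap_gammaAff φ V.unop.1 V.unop.2

theorem algHom_comp_specMap {A B : QCAlg S} [IsIso A.gammaMap] [IsIso B.gammaMap] (φ : A ⟶ B)
    {T : Scheme.{u}} (h : T ⟶ S) (w' : T ⟶ B.spec) (hw' : w' ≫ B.π = h)
    (hw'' : (w' ≫ specMap φ) ≫ A.π = h) :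
    AffAlg.algHom A.π h (w' ≫ specMap φ) hw'' =
      A.gammaMap ≫ φ.hom ≫ inv B.gammaMap ≫ AffAlg.algHom B.π h w' hw' := by
  rw [algHom_comp A.π B.π h (specMap φ) (specMap_π _) w' hw' hw'',
    ← Category.assoc A.gammaMap, ← algHom_specMap_gammaMap, Category.assoc,
    IsIso.hom_inv_id_assoc]

theorem exists_hom_of_algMap (B : QCAlg S) {T : Scheme.{u}} (h : T ⟶ S)
    (ω : B.presheaf ⟶ AffAlg.alg h) (hω : B.str ≫ ω = h.c) :
    ∃ (w : T ⟶ B.spec) (hw : w ≫ B.π = h), AffAlg.algHom B.π h w hw = B.gammaMap ≫ ω := by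
  obtain ⟨⟨w, hw⟩, e⟩ := (algOf_bijective B.π h).2
    ⟨B.gammaMap ≫ ω, by rw [← Category.assoc, B.π_c_gammaMap, hω]⟩
  exact ⟨w, hw, congrArg Subtype.val e⟩

theorem hom_ext_of_algHom (B : QCAlg S) {T : Scheme.{u}} (h : T ⟶ S) (w w' : T ⟶ B.spec)
    (hw : w ≫ B.π = h) (hw' : w' ≫ B.π = h)
    (e : AffAlg.algHom B.π h w hw = AffAlg.algHom B.π h w' hw') : w = w' := by
  have := (algOf_bijective B.π h).1
    (a₁ := (⟨w, hw⟩ : {k : T ⟶ B.spec // k ≫ B.π = h}))
    (a₂ := (⟨w', hw'⟩ : {k : T ⟶ B.spec // k ≫ B.π = h})) (Subtype.ext e)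
  exact congrArg Subtype.val this

section Ext

/-- restriction of a presheaf to the affine site -/
abbrev R (ℱ : TopCat.Presheaf CommRingCat.{u} S.carrier) :
    S.AffineZariskiSiteᵒᵖ ⥤ CommRingCat.{u} := (toOpensFunctor S).op ⋙ ℱ

variable (ℱ : TopCat.Presheaf CommRingCat.{u} S.carrier)
  {𝒢 : TopCat.Presheaf CommRingCat.{u} S.carrier} (h𝒢 : 𝒢.IsSheaf)

/-- extension of maps from the affine site -/
noncomputable def extn : (R ℱ ⟶ R 𝒢) ≃ (ℱ ⟶ 𝒢) :=
  Functor.IsCoverDense.restrictHomEquivHom (G := toOpensFunctor S)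
    (K := Opens.grothendieckTopology S) (ℱ := ℱ)
    (ℱ' := (⟨𝒢, h𝒢⟩ : TopCat.Sheaf CommRingCat.{u} S.carrier))

theorem whisker_extn (τ : R ℱ ⟶ R 𝒢) :
    (toOpensFunctor S).op.whiskerLeft (extn ℱ h𝒢 τ) = τ :=
  (extn ℱ h𝒢).symm_apply_apply τ

variable {ℱ}

include h𝒢 in
theorem whisker_injective {ω ω' : ℱ ⟶ 𝒢}
    (e : (toOpensFunctor S).op.whiskerLeft ω = (toOpensFunctor S).op.whiskerLeft ω') : ω = ω' :=
  (extn ℱ h𝒢).symm.injective e

end Ext

section Colim

variable {J : Type u} [SmallCategory J] [IsFiltered J] (A : J ⥤ QCAlg S)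

/-- the diagram of structure maps on the affine site -/
noncomputable def K : J ⥤ Under (R S.presheaf) where
  obj j := Under.mk ((toOpensFunctor S).op.whiskerLeft (A.obj j).str)
  map {j j'} φ := Under.homMk ((toOpensFunctor S).op.whiskerLeft (A.map φ).hom) (by
    show (toOpensFunctor S).op.whiskerLeft (A.obj j).str ≫
      (toOpensFunctor S).op.whiskerLeft (A.map φ).hom =
      (toOpensFunctor S).op.whiskerLeft (A.obj j').str
    rw [← Functor.whiskerLeft_comp, (A.map φ).comm])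
  map_id j := by
    apply Under.UnderMorphism.ext
    show (toOpensFunctor S).op.whiskerLeft (A.map (𝟙 j)).hom = 𝟙 _
    rw [A.map_id]; rfl
  map_comp φ ψ := by
    apply Under.UnderMorphism.ext
    show (toOpensFunctor S).op.whiskerLeft (A.map (φ ≫ ψ)).hom = _ ≫ _
    rw [A.map_comp]; rfl

instance : IsConnected J := IsFiltered.isConnected J

/-- the colimit on the affine site -/
noncomputable def P : Under (R S.presheaf) := colimit (K A)

/-- its structure map -/
noncomputable def α : R S.presheaf ⟶ (P A).right := (P A).hom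

theorem H : (α A).Coequifibered :=
  ObjectProperty.prop_colimit (fun f : Under (R S.presheaf) => f.hom.Coequifibered) (K A)
    (fun j => (A.obj j).coequifibered)

/-- the colimit quasi-coherent algebra -/
noncomputable def B : QCAlg S := Groth.Agent.Lib.Helper3.AffGr.qcAlg (H A)

/-- identification of `B` on the affine site -/
noncomputable def θ : R (B A).presheaf ≅ (P A).right :=
  NatIso.ofComponents (fun U =>
      (show Γ(rspec (H A), proj (H A) ⁻¹ᵁ U.unop.1) ≅ (P A).right.obj (op U.unop) from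
        asIso (psi (H A) U.unop)))
    (fun {U V} i => psi_naturality (H A) i.unop
      ((Opens.map (proj (H A)).base).map (homOfLE (toOpens_mono i.unop.le))))

theorem whisker_str_theta :
    (toOpensFunctor S).op.whiskerLeft (B A).str ≫ (θ A).hom = α A := by
  ext U : 2
  exact proj_app_psi (H A) U.unop

/-- the cocone on the affine site -/
noncomputable def cG : Cocone (K A ⋙ Under.forget (R S.presheaf)) :=
  (Under.forget (R S.presheaf)).mapCocone (colimit.cocone (K A))

/-- it is a colimit -/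
noncomputable def hG : IsColimit (cG A) :=
  isColimitOfPreserves (Under.forget (R S.presheaf)) (colimit.isColimit (K A))

/-- the legs on the affine site -/
noncomputable def leg (j : J) : R (A.obj j).presheaf ⟶ (P A).right := (colimit.ι (K A) j).right

theorem cG_ι (j : J) : (cG A).ι.app j = leg A j := rfl

theorem str_leg (j : J) :
    (toOpensFunctor S).op.whiskerLeft (A.obj j).str ≫ leg A j = α A :=
  Under.w (colimit.ι (K A) j)

theorem leg_w {j j' : J} (φ : j ⟶ j') :
    (toOpensFunctor S).op.whiskerLeft (A.map φ).hom ≫ leg A j' = leg A j :=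
  congrArg CommaMorphism.right (colimit.w (K A) φ)

/-- the coprojections, as maps of presheaves -/
noncomputable def kHom (j : J) : (A.obj j).presheaf ⟶ (B A).presheaf :=
  extn (A.obj j).presheaf (B A).isSheaf (leg A j ≫ (θ A).inv)

theorem whisker_kHom (j : J) :
    (toOpensFunctor S).op.whiskerLeft (kHom A j) = leg A j ≫ (θ A).inv :=
  whisker_extn _ _ _

/-- universal property of `B` with respect to sheaves of rings -/
theorem UPB {𝒢 : TopCat.Presheaf CommRingCat.{u} S.carrier} (h𝒢 : 𝒢.IsSheaf)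
    (ω : ∀ j, (A.obj j).presheaf ⟶ 𝒢)
    (hω : ∀ (j j' : J) (φ : j ⟶ j'), (A.map φ).hom ≫ ω j' = ω j) :
    ∃! Ω : (B A).presheaf ⟶ 𝒢, ∀ j, kHom A j ≫ Ω = ω j := by
  let s : Cocone (K A ⋙ Under.forget (R S.presheaf)) :=
    { pt := R 𝒢
      ι :=
        { app := fun j => (toOpensFunctor S).op.whiskerLeft (ω j)
          naturality := fun j j' φ => by
            refine Eq.trans ?_ (Category.comp_id _).symm
            show (toOpensFunctor S).op.whiskerLeft (A.map φ).hom ≫
              (toOpensFunctor S).op.whiskerLeft (ω j') = _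
            rw [← Functor.whiskerLeft_comp, hω] } }
  have hτ : ∀ j, leg A j ≫ (hG A).desc s = (toOpensFunctor S).op.whiskerLeft (ω j) :=
    fun j => (hG A).fac s j
  refine ⟨extn _ h𝒢 ((θ A).hom ≫ (hG A).desc s), fun j => ?_, fun Ω' hΩ' => ?_⟩
  · apply whisker_injective h𝒢
    rw [Functor.whiskerLeft_comp, whisker_extn, whisker_kHom, Category.assoc,
      Iso.inv_hom_id_assoc, hτ]
  · apply whisker_injective h𝒢
    rw [whisker_extn]
    have h1 : (θ A).inv ≫ (toOpensFunctor S).op.whiskerLeft Ω' = (hG A).desc s := by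
      apply (hG A).hom_ext
      intro j
      show leg A j ≫ (θ A).inv ≫ (toOpensFunctor S).op.whiskerLeft Ω' =
        leg A j ≫ (hG A).desc s
      rw [hτ, ← hΩ' j, Functor.whiskerLeft_comp, whisker_kHom, Category.assoc]
    rw [← h1, Iso.hom_inv_id_assoc]

/-- the coprojections -/
noncomputable def kq (j : J) : A.obj j ⟶ B A :=
  ⟨kHom A j, by
    apply whisker_injective (B A).isSheaf
    rw [Functor.whiskerLeft_comp, whisker_kHom, ← Category.assoc, str_leg,
      ← whisker_str_theta, Category.assoc, Iso.hom_inv_id, Category.comp_id]⟩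

theorem kq_w {j j' : J} (φ : j ⟶ j') : A.map φ ≫ kq A j' = kq A j := by
  apply QCAlg.hom_ext
  show (A.map φ).hom ≫ kHom A j' = kHom A j
  apply whisker_injective (B A).isSheaf
  rw [Functor.whiskerLeft_comp, whisker_kHom, whisker_kHom, ← Category.assoc, leg_w]

/-- the colimit cocone -/
noncomputable def cinf : Cocone A where
  pt := B A
  ι :=
    { app := kq A
      naturality := fun j j' φ => by
        refine Eq.trans ?_ (Category.comp_id _).symm
        exact kq_w A φ }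

/-- it is a colimit -/
noncomputable def isColimitCinf : IsColimit (cinf A) :=
  IsColimit.ofExistsUnique (fun s => by
    obtain ⟨Ω, hΩ, huniq⟩ := UPB A s.pt.isSheaf (fun j => (s.ι.app j).hom)
      (fun j j' φ => congrArg QCAlg.Hom.hom (s.w φ))
    obtain ⟨j0⟩ := (IsFiltered.nonempty : Nonempty J)
    have hstr : (B A).str ≫ Ω = s.pt.str := by
      rw [← (kq A j0).comm, Category.assoc]
      show _ ≫ kHom A j0 ≫ Ω = _
      rw [hΩ j0]
      exact (s.ι.app j0).comm
    exact ⟨⟨Ω, hstr⟩, fun j => QCAlg.hom_ext (hΩ j), fun d hd =>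
      QCAlg.hom_ext (huniq d.hom (fun j => congrArg QCAlg.Hom.hom (hd j)))⟩)

/-- universal property of any colimit with respect to sheaves of rings -/
theorem UP (c : Cocone A) (hc : IsColimit c)
    {𝒢 : TopCat.Presheaf CommRingCat.{u} S.carrier} (h𝒢 : 𝒢.IsSheaf)
    (ω : ∀ j, (A.obj j).presheaf ⟶ 𝒢)
    (hω : ∀ (j j' : J) (φ : j ⟶ j'), (A.map φ).hom ≫ ω j' = ω j) :
    ∃! Ω : c.pt.presheaf ⟶ 𝒢, ∀ j, (c.ι.app j).hom ≫ Ω = ω j := by
  let e : c.pt ≅ B A := hc.coconePointUniqueUpToIso (isColimitCinf A)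
  have he1 : ∀ j, c.ι.app j ≫ e.hom = kq A j :=
    fun j => hc.comp_coconePointUniqueUpToIso_hom (isColimitCinf A) j
  have he2 : ∀ j, kq A j ≫ e.inv = c.ι.app j :=
    fun j => hc.comp_coconePointUniqueUpToIso_inv (isColimitCinf A) j
  obtain ⟨Ω, hΩ, huniq⟩ := UPB A h𝒢 ω hω
  refine ⟨e.hom.hom ≫ Ω, fun j => ?_, fun Ω' hΩ' => ?_⟩
  · have h2 : (c.ι.app j).hom ≫ e.hom.hom = kHom A j := congrArg QCAlg.Hom.hom (he1 j)
    calc (c.ι.app j).hom ≫ e.hom.hom ≫ Ω = ((c.ι.app j).hom ≫ e.hom.hom) ≫ Ω :=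
          (Category.assoc _ _ _).symm
      _ = kHom A j ≫ Ω := by rw [h2]
      _ = ω j := hΩ j
  · have h1 : e.inv.hom ≫ Ω' = Ω := huniq _ (fun j => by
      have h2 : kHom A j ≫ e.inv.hom = (c.ι.app j).hom := congrArg QCAlg.Hom.hom (he2 j)
      calc kHom A j ≫ e.inv.hom ≫ Ω' = (kHom A j ≫ e.inv.hom) ≫ Ω' :=
            (Category.assoc _ _ _).symm
        _ = (c.ι.app j).hom ≫ Ω' := by rw [h2]
        _ = ω j := hΩ' j)
    have h3 : e.hom.hom ≫ e.inv.hom = 𝟙 _ := congrArg QCAlg.Hom.hom e.hom_inv_id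
    rw [← h1, ← Category.assoc, h3, Category.id_comp]

/-- the relative spectrum of a filtered colimit is the limit of the relative spectra -/
theorem main (c : Cocone A) (hc : IsColimit c)
    (T : Scheme.{u}) (v : ∀ j : J, T ⟶ (A.obj j).spec)
    (hv : ∀ (j j' : J) (φ : j ⟶ j'), v j' ≫ specMap (A.map φ) = v j) :
    ∃! w : T ⟶ c.pt.spec, ∀ j : J, w ≫ specMap (c.ι.app j) = v j := by
  obtain ⟨j0⟩ := (IsFiltered.nonempty : Nonempty J)
  obtain ⟨h, hh0⟩ : ∃ h : T ⟶ S, h = v j0 ≫ (A.obj j0).π := ⟨_, rfl⟩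
  have hh : ∀ j, v j ≫ (A.obj j).π = h := by
    intro j
    have e1 : v j ≫ (A.obj j).π =
        v (IsFiltered.max j j0) ≫ (A.obj (IsFiltered.max j j0)).π := by
      rw [← hv j _ (IsFiltered.leftToMax j j0), Category.assoc, specMap_π]
    have e2 : v j0 ≫ (A.obj j0).π =
        v (IsFiltered.max j j0) ≫ (A.obj (IsFiltered.max j j0)).π := by
      rw [← hv j0 _ (IsFiltered.rightToMax j j0), Category.assoc, specMap_π]
    rw [e1, hh0, e2]
  haveI : ∀ j, IsIso (A.obj j).gammaMap := fun j => Groth.Agent.S8255.result _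
  haveI : IsIso c.pt.gammaMap := Groth.Agent.S8255.result _
  let ω : ∀ j, (A.obj j).presheaf ⟶ AffAlg.alg h := fun j =>
    inv (A.obj j).gammaMap ≫ AffAlg.algHom (A.obj j).π h (v j) (hh j)
  have hω : ∀ (j j' : J) (φ : j ⟶ j'), (A.map φ).hom ≫ ω j' = ω j := by
    intro j j' φ
    have e1 : AffAlg.algHom (A.obj j).π h (v j) (hh j) =
        AffAlg.algHom (A.obj j).π (A.obj j').π (specMap (A.map φ)) (specMap_π _) ≫
          AffAlg.algHom (A.obj j').π h (v j') (hh j') := by
      rw [← algHom_comp (A.obj j).π (A.obj j').π h (specMap (A.map φ)) (specMap_π _) (v j')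
        (hh j') (by rw [Category.assoc, specMap_π, hh])]
      exact algHom_congr _ _ (hv j j' φ).symm _ _
    have e2 := algHom_specMap_gammaMap (A.map φ)
    have e3 : inv (A.obj j).gammaMap ≫
        AffAlg.algHom (A.obj j).π (A.obj j').π (specMap (A.map φ)) (specMap_π _) =
        (A.map φ).hom ≫ inv (A.obj j').gammaMap := by
      rw [IsIso.inv_comp_eq, ← Category.assoc, IsIso.eq_comp_inv]
      exact e2
    show (A.map φ).hom ≫ inv (A.obj j').gammaMap ≫ _ = inv (A.obj j).gammaMap ≫ _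
    rw [e1, ← Category.assoc, ← Category.assoc, e3]
  have h𝒢 : (AffAlg.alg h).IsSheaf :=
    TopCat.Sheaf.pushforward_sheaf_of_sheaf _ T.sheaf.property
  obtain ⟨Ω, hΩ, hΩu⟩ := UP A c hc h𝒢 ω hω
  have hstr : ∀ j, (A.obj j).str ≫ ω j = h.c := by
    intro j
    show (A.obj j).str ≫ inv (A.obj j).gammaMap ≫ _ = _
    rw [← (A.obj j).π_c_gammaMap, Category.assoc, IsIso.hom_inv_id_assoc]
    exact AffAlg.algHom_comm _ _ _ _
  have hΩstr : c.pt.str ≫ Ω = h.c := by
    have hc0 : (A.obj j0).str ≫ (c.ι.app j0).hom = c.pt.str := (c.ι.app j0).comm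
    rw [← hc0, Category.assoc, hΩ j0, hstr]
  obtain ⟨w, hw, hwΩ⟩ := exists_hom_of_algMap c.pt h Ω hΩstr
  have key : ∀ (w' : T ⟶ c.pt.spec) (hw' : w' ≫ c.pt.π = h) (j : J)
      (hw'' : (w' ≫ specMap (c.ι.app j)) ≫ (A.obj j).π = h),
      AffAlg.algHom (A.obj j).π h (w' ≫ specMap (c.ι.app j)) hw'' =
        (A.obj j).gammaMap ≫ (c.ι.app j).hom ≫ inv c.pt.gammaMap ≫
          AffAlg.algHom c.pt.π h w' hw' := by
    intro w' hw' j hw''
    exact algHom_comp_specMap (A := A.obj j) (B := c.pt) (c.ι.app j) h w' hw' hw''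
  refine ⟨w, fun j => ?_, fun w' hw'j => ?_⟩
  · have hwj : (w ≫ specMap (c.ι.app j)) ≫ (A.obj j).π = h := by
      rw [Category.assoc, specMap_π, hw]
    apply hom_ext_of_algHom (A.obj j) h _ _ hwj (hh j)
    rw [key w hw j hwj, hwΩ, IsIso.inv_hom_id_assoc, hΩ j]
    show (A.obj j).gammaMap ≫ inv (A.obj j).gammaMap ≫ _ = _
    rw [IsIso.hom_inv_id_assoc]
  · have hw' : w' ≫ c.pt.π = h := by
      rw [← hh j0, ← hw'j j0, Category.assoc, specMap_π]
    apply hom_ext_of_algHom c.pt h _ _ hw' hw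
    rw [hwΩ]
    have h1 : inv c.pt.gammaMap ≫ AffAlg.algHom c.pt.π h w' hw' = Ω := hΩu _ (fun j => by
      have hwj : (w' ≫ specMap (c.ι.app j)) ≫ (A.obj j).π = h := by
        rw [Category.assoc, specMap_π, hw']
      have k := key w' hw' j hwj
      rw [algHom_congr (A.obj j).π h (hw'j j) hwj (hh j)] at k
      show _ = inv (A.obj j).gammaMap ≫ _
      rw [k, IsIso.inv_hom_id_assoc])
    rw [← h1, IsIso.hom_inv_id_assoc]

end Colim

end Groth.Agent.Lib.H3.QCColim
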