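import Groth.Agent.Lib.Helper3.FEtFF2
import Groth.Agent.Lib.Helper3.QCColim
import Groth.Agent.Lib.Helper6.AffAlgHom
import Groth.Prelude.Def_FEt
import Groth.Prelude.Def_AffAlg

set_option autoImplicit false
universe u
open CategoryTheory CategoryTheory.Limits AlgebraicGeometry TopologicalSpace Opposite

namespace Groth.Agent.Lib.H3.FEtFF

open Groth.Agent.Lib.Helper6.AffAlgHom Groth.Agent.Lib.H3.QCColim

variable {X S : Scheme.{u}}

/-- (D): `O_T ⟶ a_* O_{T_X}` is an isomorphism (after pushing forward to `S`). -/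
theorem isIso_algHom_fst (f : X ⟶ S) (hf : ∀ U : S.Opens, Function.Bijective (f.app U))
    (T : FEt.Cat S) :
    IsIso (AffAlg.algHom T.hom (pullback.fst T.hom f ≫ T.hom) (pullback.fst T.hom f) rfl) := by
  haveI : IsFinite T.hom := T.prop.1
  haveI : Etale T.hom := T.prop.2
  have H : IsPullback (pullback.snd T.hom f) (pullback.fst T.hom f) f T.hom :=
    (IsPullback.of_hasPullback T.hom f).flip
  let ℱ : TopCat.Sheaf CommRingCat.{u} S.carrier :=
    ⟨AffAlg.alg T.hom, TopCat.Sheaf.pushforward_sheaf_of_sheaf _ T.left.sheaf.property⟩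
  let 𝒢 : TopCat.Sheaf CommRingCat.{u} S.carrier :=
    ⟨AffAlg.alg (pullback.fst T.hom f ≫ T.hom),
      TopCat.Sheaf.pushforward_sheaf_of_sheaf _ (pullback T.hom f).sheaf.property⟩
  let α : ℱ ⟶ 𝒢 := ObjectProperty.homMk
    (AffAlg.algHom T.hom (pullback.fst T.hom f ≫ T.hom) (pullback.fst T.hom f) rfl)
  let ι : Type u := {U : S.Opens // IsAffineOpen U ∧ ∃ (κ : Type u) (_ : Fintype κ)
    (e : κ → Γ(T.left, T.hom ⁻¹ᵁ U)), IsBasisVia (T.hom.app U).hom e}
  let B : ι → S.Opens := fun i => i.1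
  have hB : Opens.IsBasis (Set.range B) := by
    rw [Opens.isBasis_iff_nbhd]
    intro V x hx
    obtain ⟨U, hU, hxU, hUV, hb⟩ := exists_basis_nbhd T.hom V x hx
    exact ⟨U, ⟨⟨U, hU, hb⟩, rfl⟩, hxU, hUV⟩
  have hiso : IsIso α := by
    refine TopCat.Sheaf.isIso_iff_isIso_basis (B := B) hB (fun i => ?_)
    obtain ⟨U, hU, κ, hκ, e, he⟩ := i
    have h1 : (AffAlg.algHom T.hom (pullback.fst T.hom f ≫ T.hom) (pullback.fst T.hom f) rfl).app
        (op U) = (pullback.fst T.hom f).appLE (T.hom ⁻¹ᵁ U)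
          ((pullback.fst T.hom f) ⁻¹ᵁ T.hom ⁻¹ᵁ U) le_rfl :=
      algHom_app_appLE T.hom (pullback.fst T.hom f ≫ T.hom) (pullback.fst T.hom f) rfl U le_rfl
    have h2 : Function.Bijective ((pullback.fst T.hom f).app (T.hom ⁻¹ᵁ U)).hom :=
      app_bijective_of_isBasisVia H (fun U => hf U) U hU e he
    show IsIso ((AffAlg.algHom T.hom (pullback.fst T.hom f ≫ T.hom)
      (pullback.fst T.hom f) rfl).app (op U))
    rw [h1, Scheme.Hom.appLE_eq_app]
    exact (ConcreteCategory.isIso_iff_bijective _).mpr h2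
  haveI := hiso
  exact (TopCat.Sheaf.forget CommRingCat.{u} S.carrier).map_isIso α

theorem restrict_map_left_fst (f : X ⟶ S) {T T' : FEt.Cat S} (φ : T ⟶ T') :
    ((FEt.restrict f).map φ).left ≫ pullback.fst T'.hom f = pullback.fst T.hom f ≫ φ.left := by
  show pullback.lift _ _ _ ≫ pullback.fst _ _ = _
  exact pullback.lift_fst _ _ _

theorem restrict_map_left_snd (f : X ⟶ S) {T T' : FEt.Cat S} (φ : T ⟶ T') :
    ((FEt.restrict f).map φ).left ≫ pullback.snd T'.hom f = pullback.snd T.hom f := by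
  show pullback.lift _ _ _ ≫ pullback.snd _ _ = _
  exact pullback.lift_snd _ _ _

/-- (E) -/
theorem full_faithful (f : X ⟶ S) (hf : ∀ U : S.Opens, Function.Bijective (f.app U)) :
    (FEt.restrict f).Full ∧ (FEt.restrict f).Faithful := by
  have key : ∀ (T T' : FEt.Cat S) (φ₀ : T.left ⟶ T'.left) (w : φ₀ ≫ T'.hom = T.hom)
      (w'' : (pullback.fst T.hom f ≫ φ₀) ≫ T'.hom = pullback.fst T.hom f ≫ T.hom),
      AffAlg.algHom T'.hom (pullback.fst T.hom f ≫ T.hom) (pullback.fst T.hom f ≫ φ₀) w'' =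
        AffAlg.algHom T'.hom T.hom φ₀ w ≫
          AffAlg.algHom T.hom (pullback.fst T.hom f ≫ T.hom) (pullback.fst T.hom f) rfl :=
    fun T T' φ₀ w w'' => algHom_comp T'.hom T.hom (pullback.fst T.hom f ≫ T.hom) φ₀ w
      (pullback.fst T.hom f) rfl w''
  constructor
  · constructor
    intro T T' ψ
    haveI : IsFinite T'.hom := T'.prop.1
    haveI hα := isIso_algHom_fst f hf T
    set a := pullback.fst T.hom f with ha
    set α := AffAlg.algHom T.hom (a ≫ T.hom) a rfl with hαdef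
    obtain ⟨ψl, hψl⟩ : ∃ ψl : pullback T.hom f ⟶ pullback T'.hom f, ψl = ψ.left := ⟨_, rfl⟩
    have hψ : ψl ≫ pullback.snd T'.hom f = pullback.snd T.hom f := by
      subst hψl; exact MorphismProperty.Over.w ψ
    let m : pullback T.hom f ⟶ T'.left := ψl ≫ pullback.fst T'.hom f
    have hm : m ≫ T'.hom = a ≫ T.hom := by
      show (ψl ≫ pullback.fst T'.hom f) ≫ T'.hom = a ≫ T.hom
      rw [Category.assoc, pullback.condition, ← Category.assoc, hψ, ← pullback.condition]
    let ω : AffAlg.alg T'.hom ⟶ AffAlg.alg T.hom :=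
      AffAlg.algHom T'.hom (a ≫ T.hom) m hm ≫ inv α
    have hω : T'.hom.c ≫ ω = T.hom.c := by
      show T'.hom.c ≫ AffAlg.algHom T'.hom (a ≫ T.hom) m hm ≫ inv α = T.hom.c
      rw [← Category.assoc, AffAlg.algHom_comm, IsIso.comp_inv_eq]
      exact (AffAlg.algHom_comm T.hom (a ≫ T.hom) a rfl).symm
    obtain ⟨⟨φ₀, hφ₀⟩, hφ⟩ := (algOf_bijective T'.hom T.hom).2 ⟨ω, hω⟩
    have hφ' : AffAlg.algHom T'.hom T.hom φ₀ hφ₀ = ω := congrArg Subtype.val hφ
    have hw'' : (a ≫ φ₀) ≫ T'.hom = a ≫ T.hom := by rw [Category.assoc, hφ₀]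
    have h1 : AffAlg.algHom T'.hom (a ≫ T.hom) (a ≫ φ₀) hw'' =
        AffAlg.algHom T'.hom (a ≫ T.hom) m hm := by
      rw [key T T' φ₀ hφ₀ hw'', hφ']
      show (AffAlg.algHom T'.hom (a ≫ T.hom) m hm ≫ inv α) ≫ α = _
      rw [Category.assoc, IsIso.inv_hom_id, Category.comp_id]
    have h2 : a ≫ φ₀ = m := by
      have := (algOf_bijective T'.hom (a ≫ T.hom)).1
        (a₁ := ⟨a ≫ φ₀, hw''⟩) (a₂ := ⟨m, hm⟩) (Subtype.ext h1)
      exact congrArg Subtype.val this
    refine ⟨MorphismProperty.Over.homMk φ₀ hφ₀ trivial, ?_⟩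
    apply MorphismProperty.Over.Hom.ext
    apply pullback.hom_ext
    · refine (restrict_map_left_fst f _).trans ?_
      subst hψl
      exact h2
    · refine (restrict_map_left_snd f _).trans ?_
      subst hψl
      exact hψ.symm
  · constructor
    intro T T' φ φ' h
    haveI : IsFinite T'.hom := T'.prop.1
    haveI hα := isIso_algHom_fst f hf T
    set a := pullback.fst T.hom f with ha
    have hw : φ.left ≫ T'.hom = T.hom := MorphismProperty.Over.w φ
    have hw' : φ'.left ≫ T'.hom = T.hom := MorphismProperty.Over.w φ'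
    have h1 : a ≫ φ.left = a ≫ φ'.left := by
      rw [← restrict_map_left_fst f φ, ← restrict_map_left_fst f φ', h]
    have hw1 : (a ≫ φ.left) ≫ T'.hom = a ≫ T.hom := by rw [Category.assoc, hw]
    have hw2 : (a ≫ φ'.left) ≫ T'.hom = a ≫ T.hom := by rw [Category.assoc, hw']
    have h2 : AffAlg.algHom T'.hom (a ≫ T.hom) (a ≫ φ.left) hw1 =
        AffAlg.algHom T'.hom (a ≫ T.hom) (a ≫ φ'.left) hw2 :=
      algHom_congr T'.hom (a ≫ T.hom) h1 hw1 hw2
    rw [key T T' φ.left hw hw1, key T T' φ'.left hw' hw2] at h2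
    have h3 : AffAlg.algHom T'.hom T.hom φ.left hw = AffAlg.algHom T'.hom T.hom φ'.left hw' :=
      (cancel_mono _).mp h2
    have h4 := (algOf_bijective T'.hom T.hom).1
        (a₁ := ⟨φ.left, hw⟩) (a₂ := ⟨φ'.left, hw'⟩) (Subtype.ext h3)
    apply MorphismProperty.Over.Hom.ext
    exact congrArg Subtype.val h4

end Groth.Agent.Lib.H3.FEtFF
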