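import Mathlib
import Groth.Prelude
import Groth.Agent.Lib.Helper3.FEtCoeqBC
import Groth.Agent.Lib.Helper3.FEtColim
import Groth.Agent.Lib.Helper3.FEtFF3

/-!
# The base change functor on finite étale covers is exact
-/

set_option autoImplicit false
universe u
open CategoryTheory CategoryTheory.Limits AlgebraicGeometry TopologicalSpace Opposite Pi1

namespace H3.FEtRestrictExact

open H3.AffCoeq H3.FEtCoeq H3.FEtColim H3.FEtCoeqBC H3.AffCoeqLocal
open Groth.Agent.Lib.H3.FEtFF (restrict_map_left_fst restrict_map_left_snd)

variable {X Y : Scheme.{u}} (f : X ⟶ Y)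

section coeq

variable {Y₁ Z₁ : FEt.Cat Y} (a b : Y₁ ⟶ Z₁)

theorem map_condition :
    (FEt.restrict f).map a ≫ (FEt.restrict f).map (coeqπ a b) =
      (FEt.restrict f).map b ≫ (FEt.restrict f).map (coeqπ a b) := by
  rw [← Functor.map_comp, ← Functor.map_comp, coeq_condition]

theorem map_condition_left :
    ((FEt.restrict f).map a).left ≫ ((FEt.restrict f).map (coeqπ a b)).left =
      ((FEt.restrict f).map b).left ≫ ((FEt.restrict f).map (coeqπ a b)).left :=
  congrArg (fun φ => φ.left) (map_condition f a b)

theorem hloc (s' : X) : ∃ U' : X.Opens, IsAffineOpen U' ∧ s' ∈ U' ∧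
    IsLocEq (pullback.snd Y₁.hom f) (pullback.snd Z₁.hom f)
      (pullback.snd (q Y₁.hom Z₁.hom a.left b.left (MorphismProperty.Over.w a)
        (MorphismProperty.Over.w b)) f)
      ((FEt.restrict f).map a).left ((FEt.restrict f).map b).left
      (restrict_map_left_snd f a) (restrict_map_left_snd f b)
      ((FEt.restrict f).map (coeqπ a b)).left (restrict_map_left_snd f (coeqπ a b)) U' :=
  isLocEq_pullback Y₁.hom Z₁.hom a.left b.left (MorphismProperty.Over.w a)
    (MorphismProperty.Over.w b) f _ _ (restrict_map_left_fst f a) (restrict_map_left_snd f a)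
    (restrict_map_left_fst f b) (restrict_map_left_snd f b) _
    (restrict_map_left_fst f (coeqπ a b)) (restrict_map_left_snd f (coeqπ a b))
    (map_condition_left f a b) s'

theorem exists_desc_restrict (W : FEt.Cat X) (k : (FEt.restrict f).obj Z₁ ⟶ W)
    (hk : (FEt.restrict f).map a ≫ k = (FEt.restrict f).map b ≫ k) :
    ∃ d : (FEt.restrict f).obj (coeqObj a b) ⟶ W, (FEt.restrict f).map (coeqπ a b) ≫ d = k := by
  have hk' : ((FEt.restrict f).map a).left ≫ k.left = ((FEt.restrict f).map b).left ≫ k.left :=
    congrArg (fun φ => φ.left) hk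
  obtain ⟨d, hd, hdk⟩ := exists_desc_of_local (pullback.snd Y₁.hom f) (pullback.snd Z₁.hom f)
    (pullback.snd (q Y₁.hom Z₁.hom a.left b.left (MorphismProperty.Over.w a)
        (MorphismProperty.Over.w b)) f)
    ((FEt.restrict f).map a).left ((FEt.restrict f).map b).left
    (restrict_map_left_snd f a) (restrict_map_left_snd f b)
    ((FEt.restrict f).map (coeqπ a b)).left (restrict_map_left_snd f (coeqπ a b))
    (map_condition_left f a b) (hloc f a b) W.hom k.left (MorphismProperty.Over.w k) hk'
  exact ⟨MorphismProperty.Over.homMk d hd trivial, MorphismProperty.Over.Hom.ext hdk⟩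

theorem desc_unique_restrict (W : FEt.Cat X) (d d' : (FEt.restrict f).obj (coeqObj a b) ⟶ W)
    (h : (FEt.restrict f).map (coeqπ a b) ≫ d = (FEt.restrict f).map (coeqπ a b) ≫ d') :
    d = d' :=
  MorphismProperty.Over.Hom.ext
    (desc_unique_of_local (pullback.snd Y₁.hom f) (pullback.snd Z₁.hom f)
      (pullback.snd (q Y₁.hom Z₁.hom a.left b.left (MorphismProperty.Over.w a)
          (MorphismProperty.Over.w b)) f)
      ((FEt.restrict f).map a).left ((FEt.restrict f).map b).left
      (restrict_map_left_snd f a) (restrict_map_left_snd f b)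
      ((FEt.restrict f).map (coeqπ a b)).left (restrict_map_left_snd f (coeqπ a b))
      (map_condition_left f a b) (hloc f a b) W.hom d.left d'.left (MorphismProperty.Over.w d)
      (MorphismProperty.Over.w d') (congrArg (fun φ => φ.left) h))

/-- the image of the coequalizer cofork is a colimit -/
noncomputable def isColimitRestrictCofork :
    IsColimit (Cofork.ofπ ((FEt.restrict f).map (coeqπ a b)) (map_condition f a b)) :=
  Cofork.IsColimit.mk _
    (fun s => (exists_desc_restrict f a b s.pt s.π s.condition).choose)
    (fun s => (exists_desc_restrict f a b s.pt s.π s.condition).choose_spec)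
    (fun s m hm => desc_unique_restrict f a b s.pt _ _
      (hm.trans (exists_desc_restrict f a b s.pt s.π s.condition).choose_spec.symm))

instance preservesCoeq : PreservesColimit (parallelPair a b) (FEt.restrict f) :=
  preservesColimit_of_preserves_colimit_cocone (isColimitCofork a b)
    ((isColimitMapCoconeCoforkEquiv (FEt.restrict f) (coeq_condition a b)).symm
      (isColimitRestrictCofork f a b))

end coeq

instance preservesCoequalizers : PreservesColimitsOfShape WalkingParallelPair (FEt.restrict f) :=
  ⟨fun {K} => preservesColimit_of_iso_diagram (FEt.restrict f) (diagramIsoParallelPair K).symm⟩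

section coprod

variable {n : ℕ} (F : Fin n → FEt.Cat Y)

/-- Scheme-level: the pulled back cofan is a colimit -/
theorem nonempty_isColimit_left :
    Nonempty (IsColimit (Cofan.mk (pullback (sigmaHom F) f)
      (fun i => (((FEt.restrict f).map (sigmaι F i)).left :
        pullback (F i).hom f ⟶ pullback (sigmaHom F) f)))) := by
  have hau : IsUniversalColimit (Cofan.mk (∐ fun i => (F i).left)
      (Sigma.ι (fun i => (F i).left))) :=
    FinitaryPreExtensive.isUniversal_finiteCoproducts (coproductIsCoproduct _)
  refine IsUniversalColimit.nonempty_isColimit_of_isPullback_left hau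
    (fun i => ((F i).hom : (F i).left ⟶ Y)) (sigmaHom F) f
    (fun i => pullback.snd (F i).hom f) (fun i => pullback.fst (F i).hom f)
    (fun i => (IsPullback.of_hasPullback _ _).flip)
    (IsPullback.of_hasPullback (sigmaHom F) f).flip _ (Iso.refl _) ?_ ?_ ?_
  · intro i
    exact Sigma.ι_desc (fun i => ((F i).hom : (F i).left ⟶ Y)) i
  · intro i
    show ((FEt.restrict f).map (sigmaι F i)).left ≫ 𝟙 _ ≫ pullback.snd (sigmaHom F) f = _
    rw [Category.id_comp]
    exact restrict_map_left_snd f (sigmaι F i)
  · intro i
    show ((FEt.restrict f).map (sigmaι F i)).left ≫ 𝟙 _ ≫ pullback.fst (sigmaHom F) f = _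
    rw [Category.id_comp]
    exact restrict_map_left_fst f (sigmaι F i)

/-- the image of the coproduct cofan is a colimit in `FEt.Cat X` -/
noncomputable def isColimitRestrictSigma :
    IsColimit (Cofan.mk ((FEt.restrict f).obj (sigmaObj F))
      (fun i => (FEt.restrict f).map (sigmaι F i))) :=
  have hc := (nonempty_isColimit_left f F).some
  Cofan.IsColimit.mk _
    (fun s => MorphismProperty.Over.homMk
      (Cofan.IsColimit.desc hc (fun i => ((s.inj i).left : pullback (F i).hom f ⟶ s.pt.left)))
      (by
        refine Cofan.IsColimit.hom_ext hc _ _ (fun i => ?_)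
        show ((FEt.restrict f).map (sigmaι F i)).left ≫
          (Cofan.IsColimit.desc hc (fun i => ((s.inj i).left : pullback (F i).hom f ⟶ s.pt.left))
            ≫ s.pt.hom) =
          ((FEt.restrict f).map (sigmaι F i)).left ≫ pullback.snd (sigmaHom F) f
        rw [← Category.assoc]
        have h1 : ((FEt.restrict f).map (sigmaι F i)).left ≫
            Cofan.IsColimit.desc hc
              (fun i => ((s.inj i).left : pullback (F i).hom f ⟶ s.pt.left)) = (s.inj i).left :=
          Cofan.IsColimit.fac hc _ i
        rw [h1]
        exact (MorphismProperty.Over.w (s.inj i)).trans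
          (restrict_map_left_snd f (sigmaι F i)).symm) trivial)
    (fun s i => MorphismProperty.Over.Hom.ext (Cofan.IsColimit.fac hc _ i))
    (fun s m hm => MorphismProperty.Over.Hom.ext (by
      refine Cofan.IsColimit.hom_ext hc _ _ (fun i => ?_)
      refine Eq.trans ?_ (Cofan.IsColimit.fac hc
        (fun i => ((s.inj i).left : pullback (F i).hom f ⟶ s.pt.left)) i).symm
      exact congrArg (fun φ => φ.left) (hm i)))

instance preservesSigma : PreservesColimit (Discrete.functor F) (FEt.restrict f) :=
  preservesColimit_of_preserves_colimit_cocone (isColimitSigma F)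
    ((isColimitMapCoconeCofanMkEquiv (FEt.restrict f) F (sigmaι F)).symm
      (isColimitRestrictSigma f F))

end coprod

instance preservesFiniteCoproducts : PreservesFiniteCoproducts (FEt.restrict f) :=
  ⟨fun n => ⟨fun {K} => preservesColimit_of_iso_diagram (FEt.restrict f)
    (Discrete.natIsoFunctor (F := K)).symm⟩⟩

theorem preservesFiniteColimits : PreservesFiniteColimits (FEt.restrict f) :=
  haveI := hasCoequalizers Y
  haveI := hasFiniteCoproducts Y
  preservesFiniteColimits_of_preservesCoequalizers_and_finiteCoproducts (FEt.restrict f)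

theorem preservesFiniteLimits : PreservesFiniteLimits (FEt.restrict f) := by
  unfold FEt.restrict
  infer_instance

end H3.FEtRestrictExact
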