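import Mathlib
import Groth.Prelude
import Groth.Agent.Lib.Helper3.FEtColim

/-!
# (G3) for finite étale covers: monomorphisms are inclusions of direct summands
-/

set_option autoImplicit false
universe u
open CategoryTheory CategoryTheory.Limits AlgebraicGeometry TopologicalSpace Opposite Pi1

namespace H3.FEtG3

open H3.FEtColim

variable {X : Scheme.{u}}

theorem prop_left {A B : FEt.Cat X} (φ : A ⟶ B) : FEt.prop φ.left :=
  MorphismProperty.of_postcomp (W := FEt.prop.{u}) (W' := FEt.prop.{u}) φ.left B.hom B.prop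
    (by rw [MorphismProperty.Over.w φ]; exact A.prop)

theorem isFinite_left {A B : FEt.Cat X} (φ : A ⟶ B) : IsFinite φ.left := (prop_left φ).1
theorem etale_left {A B : FEt.Cat X} (φ : A ⟶ B) : Etale φ.left := (prop_left φ).2

/-- the kernel pair object -/
noncomputable def kp {A B : FEt.Cat X} (i : A ⟶ B) : FEt.Cat X :=
  haveI := isFinite_left i
  haveI := etale_left i
  MorphismProperty.Over.mk ⊤ (pullback.fst i.left i.left ≫ A.hom) ⟨inferInstance, inferInstance⟩

theorem kp_w {A B : FEt.Cat X} (i : A ⟶ B) :
    pullback.snd i.left i.left ≫ A.hom = pullback.fst i.left i.left ≫ A.hom := by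
  rw [← MorphismProperty.Over.w i, ← Category.assoc, ← Category.assoc, pullback.condition]

/-- first projection of the kernel pair -/
noncomputable def kp₁ {A B : FEt.Cat X} (i : A ⟶ B) : kp i ⟶ A :=
  MorphismProperty.Over.homMk (pullback.fst i.left i.left) rfl trivial

/-- second projection of the kernel pair -/
noncomputable def kp₂ {A B : FEt.Cat X} (i : A ⟶ B) : kp i ⟶ A :=
  MorphismProperty.Over.homMk (pullback.snd i.left i.left) (kp_w i) trivial

theorem mono_left {A B : FEt.Cat X} (i : A ⟶ B) [Mono i] : Mono i.left := by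
  have h : kp₁ i ≫ i = kp₂ i ≫ i := MorphismProperty.Over.Hom.ext pullback.condition
  have h' := (cancel_mono i).mp h
  have h'' : pullback.fst i.left i.left = pullback.snd i.left i.left :=
    congrArg (fun φ => φ.left) h'
  exact (mono_iff_fst_eq_snd (limit.isLimit (cospan i.left i.left))).mpr h''

theorem isOpenImmersion_left {A B : FEt.Cat X} (i : A ⟶ B) [Mono i] : IsOpenImmersion i.left := by
  haveI := etale_left i
  haveI := mono_left i
  exact IsOpenImmersion.of_flat_of_mono i.left

/-- the complement of the image -/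
noncomputable def cU {A B : FEt.Cat X} (i : A ⟶ B) : B.left.Opens :=
  ⟨(Set.range i.left)ᶜ, by
    haveI := isFinite_left i
    exact (i.left.isClosedMap.isClosed_range).isOpen_compl⟩

theorem isClosedImmersion_cU {A B : FEt.Cat X} (i : A ⟶ B) [Mono i] :
    IsClosedImmersion (cU i).ι := by
  haveI := isOpenImmersion_left i
  apply IsClosedImmersion.of_isPreimmersion
  rw [Scheme.Opens.range_ι]
  exact i.left.isOpenEmbedding.isOpen_range.isClosed_compl

/-- the complement object -/
noncomputable def cObj {A B : FEt.Cat X} (i : A ⟶ B) [Mono i] : FEt.Cat X :=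
  haveI := isClosedImmersion_cU i
  MorphismProperty.Over.mk ⊤ ((cU i).ι ≫ B.hom) ⟨inferInstance, inferInstance⟩

/-- the complement inclusion -/
noncomputable def cι {A B : FEt.Cat X} (i : A ⟶ B) [Mono i] : cObj i ⟶ B :=
  MorphismProperty.Over.homMk (cU i).ι rfl trivial

theorem nonempty_isColimit_left {A B : FEt.Cat X} (i : A ⟶ B) [Mono i] :
    Nonempty (IsColimit (BinaryCofan.mk i.left (cU i).ι)) := by
  haveI := isOpenImmersion_left i
  refine nonempty_isColimit_binaryCofanMk_of_isCompl i.left (cU i).ι ?_
  rw [isCompl_iff]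
  constructor
  · rw [disjoint_iff]
    ext x
    simp only [Opens.coe_inf, Scheme.Hom.coe_opensRange, Opens.coe_bot, Set.mem_inter_iff,
      Set.mem_empty_iff_false, iff_false, not_and]
    intro h1 h2
    rw [Scheme.Opens.range_ι] at h2
    exact h2 h1
  · rw [codisjoint_iff]
    ext x
    simp only [Opens.coe_sup, Scheme.Hom.coe_opensRange, Opens.coe_top, Set.mem_union,
      Set.mem_univ, iff_true]
    rw [Scheme.Opens.range_ι]
    exact Classical.em _


theorem mono_direct_summand {A B : FEt.Cat X} (i : A ⟶ B) [Mono i] :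
    ∃ (Z : FEt.Cat X) (u : Z ⟶ B), Nonempty (IsColimit (BinaryCofan.mk i u)) := by
  obtain ⟨hc⟩ := nonempty_isColimit_left i
  have hdesc : ∀ {T : FEt.Cat X} (f : A ⟶ T) (g : cObj i ⟶ T),
      ∃ l : B ⟶ T, i ≫ l = f ∧ cι i ≫ l = g := by
    intro T f g
    obtain ⟨l, hl1, hl2⟩ := BinaryCofan.IsColimit.desc' hc f.left g.left
    have hl1' : i.left ≫ l = f.left := hl1
    have hl2' : (cU i).ι ≫ l = g.left := hl2
    have hw : l ≫ T.hom = B.hom := by
      refine BinaryCofan.IsColimit.hom_ext hc ?_ ?_
      · show i.left ≫ l ≫ T.hom = i.left ≫ B.hom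
        rw [← Category.assoc, hl1', MorphismProperty.Over.w f, MorphismProperty.Over.w i]
      · show (cU i).ι ≫ l ≫ T.hom = (cU i).ι ≫ B.hom
        rw [← Category.assoc, hl2']
        exact MorphismProperty.Over.w g
    exact ⟨MorphismProperty.Over.homMk l hw trivial, MorphismProperty.Over.Hom.ext hl1',
      MorphismProperty.Over.Hom.ext hl2'⟩
  refine ⟨cObj i, cι i, ⟨BinaryCofan.IsColimit.mk _ (fun {T} f g => (hdesc f g).choose)
    (fun {T} f g => (hdesc f g).choose_spec.1) (fun {T} f g => (hdesc f g).choose_spec.2) ?_⟩⟩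
  intro T f g m hm1 hm2
  apply MorphismProperty.Over.Hom.ext
  refine BinaryCofan.IsColimit.hom_ext hc ?_ ?_
  · show i.left ≫ m.left = i.left ≫ (hdesc f g).choose.left
    have h1 : i.left ≫ m.left = f.left := congrArg (fun φ => φ.left) hm1
    have h2 : i.left ≫ (hdesc f g).choose.left = f.left :=
      congrArg (fun φ => φ.left) (hdesc f g).choose_spec.1
    rw [h1, h2]
  · show (cU i).ι ≫ m.left = (cU i).ι ≫ (hdesc f g).choose.left
    have h1 : (cU i).ι ≫ m.left = g.left := congrArg (fun φ => φ.left) hm2
    have h2 : (cU i).ι ≫ (hdesc f g).choose.left = g.left :=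
      congrArg (fun φ => φ.left) (hdesc f g).choose_spec.2
    rw [h1, h2]


theorem hasQuot (X : Scheme.{u}) (G : Type u) [Group G] [Finite G] :
    HasColimitsOfShape (SingleObj G) (FEt.Cat X) := by
  haveI := hasFiniteColimits X
  obtain ⟨G', hg, hf, ⟨e⟩⟩ := Finite.exists_type_univ_nonempty_mulEquiv G
  exact Limits.hasColimitsOfShape_of_equivalence e.toSingleObjEquiv.symm

theorem preGalois (X : Scheme.{u}) : PreGaloisCategory (FEt.Cat X) :=
  haveI := hasFiniteLimits X
  haveI := hasFiniteCoproducts X
  { hasTerminal := inferInstance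
    hasPullbacks := inferInstance
    hasFiniteCoproducts := inferInstance
    hasQuotientsByFiniteGroups := fun G _ _ => hasQuot X G
    monoInducesIsoOnDirectSummand := fun i _ => mono_direct_summand i }

end H3.FEtG3
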