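import Mathlib
import Groth.Prelude
import Groth.Agent.Lib.Helper3.FEtColim
import Groth.Agent.Lib.Helper3.FEtFib

/-!
# Finite étale covers of the spectrum of a separably closed field

The fibre functor `FEt.Cat (Spec Ω) ⥤ FintypeCat` is an equivalence.
-/

set_option autoImplicit false
universe u
open CategoryTheory CategoryTheory.Limits AlgebraicGeometry TopologicalSpace Opposite Pi1

namespace H3.FEtGalPt

open H3.FEtColim H3.FEtFib H3.FEtSplit

/-- the terminal object -/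
noncomputable def tObj (S : Scheme.{u}) : FEt.Cat S :=
  MorphismProperty.Over.mk ⊤ (𝟙 S) ⟨inferInstance, inferInstance⟩

variable {Ω : Type u} [Field Ω]

instance connected_pt : ConnectedSpace ↥(Spec (CommRingCat.of Ω)) :=
  inferInstanceAs (ConnectedSpace (PrimeSpectrum Ω))

section sep

variable [IsSepClosed Ω]

theorem exists_splitData_pt (W : FEt.Cat (Spec (CommRingCat.of Ω))) :
    Nonempty (SplitData (tObj (Spec (CommRingCat.of Ω))) W) := by
  obtain ⟨P, hPc, hP⟩ := exists_connected_splits (𝟙 (Spec (CommRingCat.of Ω))) [W]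
  obtain ⟨D⟩ := hP W (List.mem_singleton_self _)
  obtain ⟨p₀⟩ : Nonempty P.left := hPc.toNonempty
  obtain ⟨p⟩ := nonempty_fiberObj_of_point (𝟙 (Spec (CommRingCat.of Ω))) P p₀
  exact ⟨D.precomp (MorphismProperty.Over.homMk p.1 p.2 trivial :
    tObj (Spec (CommRingCat.of Ω)) ⟶ P)⟩

theorem isIso_desc_pt {W : FEt.Cat (Spec (CommRingCat.of Ω))}
    (D : SplitData (tObj (Spec (CommRingCat.of Ω))) W) :
    IsIso (Sigma.desc (f := fun _ : Fin D.n => Spec (CommRingCat.of Ω)) D.t) :=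
  isIso_sigmaDesc_of_sections W.hom D.n D.hrk D.t D.ht D.hd

theorem exists_eq_t {W : FEt.Cat (Spec (CommRingCat.of Ω))}
    (D : SplitData (tObj (Spec (CommRingCat.of Ω))) W)
    (s : FEt.fiberObj (𝟙 (Spec (CommRingCat.of Ω))) W) : ∃ j, s.1 = D.t j := by
  obtain ⟨j, hj⟩ := (ev_bijective (𝟙 (Spec (CommRingCat.of Ω))) D
    ⟨𝟙 (Spec (CommRingCat.of Ω)), Category.comp_id _⟩).2 s
  refine ⟨j, ?_⟩
  rw [← hj]
  exact Category.id_comp _

theorem exists_sections_pt (W : FEt.Cat (Spec (CommRingCat.of Ω))) :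
    ∃ (n : ℕ) (t : Fin n → (Spec (CommRingCat.of Ω) ⟶ W.left)),
      (∀ j, t j ≫ W.hom = 𝟙 _) ∧
      IsIso (Sigma.desc (f := fun _ : Fin n => Spec (CommRingCat.of Ω)) t) ∧
      ∀ s : FEt.fiberObj (𝟙 (Spec (CommRingCat.of Ω))) W, ∃ j, s.1 = t j := by
  obtain ⟨D⟩ := exists_splitData_pt W
  exact ⟨D.n, D.t, D.ht, isIso_desc_pt D, exists_eq_t D⟩

instance faithful_pt : (FEt.fiber (𝟙 (Spec (CommRingCat.of Ω)))).Faithful :=
  ⟨fun {W Z} φ ψ h => by
    obtain ⟨n, t, ht, hiso, -⟩ := exists_sections_pt W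
    apply MorphismProperty.Over.Hom.ext
    rw [← cancel_epi (Sigma.desc (f := fun _ : Fin n => Spec (CommRingCat.of Ω)) t)]
    apply Sigma.hom_ext
    intro j
    rw [← Category.assoc, ← Category.assoc, Sigma.ι_desc]
    have := congrArg (fun m => (m ⟨t j, ht j⟩).1) h
    exact this⟩

instance full_pt : (FEt.fiber (𝟙 (Spec (CommRingCat.of Ω)))).Full :=
  ⟨fun {W Z} τ => by
    obtain ⟨n, t, ht, hiso, hsurj⟩ := exists_sections_pt W
    obtain ⟨l, hl⟩ : ∃ l : W.left ⟶ Z.left,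
        l = inv (Sigma.desc (f := fun _ : Fin n => Spec (CommRingCat.of Ω)) t) ≫
          Sigma.desc (fun j => (τ ⟨t j, ht j⟩).1) := ⟨_, rfl⟩
    have hl' : ∀ j, t j ≫ l = (τ ⟨t j, ht j⟩).1 := by
      intro j
      rw [hl, ← Category.assoc]
      have h1 : t j ≫ inv (Sigma.desc (f := fun _ : Fin n => Spec (CommRingCat.of Ω)) t) =
          Sigma.ι (fun _ : Fin n => Spec (CommRingCat.of Ω)) j := by
        rw [IsIso.comp_inv_eq, Sigma.ι_desc]
      rw [h1, Sigma.ι_desc]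
    have hw : l ≫ Z.hom = W.hom := by
      rw [← cancel_epi (Sigma.desc (f := fun _ : Fin n => Spec (CommRingCat.of Ω)) t)]
      apply Sigma.hom_ext
      intro j
      rw [← Category.assoc, ← Category.assoc, Sigma.ι_desc, ← Category.assoc, hl' j]
      rw [Sigma.ι_desc]
      exact (τ ⟨t j, ht j⟩).2.trans (ht j).symm
    refine ⟨MorphismProperty.Over.homMk l hw trivial, ?_⟩
    apply ConcreteCategory.hom_ext
    intro s
    obtain ⟨j, hj⟩ := hsurj s
    obtain ⟨s1, s2⟩ := s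
    simp only at hj
    subst hj
    apply Subtype.ext
    exact hl' j⟩

section copies

omit [IsSepClosed Ω] in
theorem exists_factor_sigma {n : ℕ} (g : Fin n → Scheme.{u})
    (s : Spec (CommRingCat.of Ω) ⟶ ∐ g) :
    ∃ (i : Fin n) (s' : Spec (CommRingCat.of Ω) ⟶ g i), s' ≫ Sigma.ι g i = s := by
  obtain ⟨pt⟩ := nonempty_pt (Ω := Ω)
  haveI := subsingleton_pt (Ω := Ω)
  obtain ⟨i, y, hy⟩ := (sigmaOpenCover g).exists_eq (s pt)
  obtain ⟨i', hi'⟩ : ∃ i' : Fin n, i' = i := ⟨i, rfl⟩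
  subst hi'
  have hy' : Sigma.ι g i' y = s pt := hy
  have hsub : Set.range s ⊆ Set.range (Sigma.ι g i') := by
    rintro _ ⟨pt', rfl⟩
    rw [Subsingleton.elim pt' pt]
    exact ⟨y, hy'⟩
  exact ⟨i', IsOpenImmersion.lift (Sigma.ι g i') s hsub, IsOpenImmersion.lift_fac _ _ _⟩

variable (Ω) (n : ℕ)

/-- `n` copies of the point -/
noncomputable def copies : FEt.Cat (Spec (CommRingCat.of Ω)) :=
  MorphismProperty.Over.mk ⊤
    (Sigma.desc (fun _ : Fin n => 𝟙 (Spec (CommRingCat.of Ω))))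
    ⟨H3.FEtSplit.isFinite_sigmaDesc n (fun _ => Spec (CommRingCat.of Ω)) _
        (fun _ => 𝟙 (Spec (CommRingCat.of Ω))) (fun _ => inferInstance),
      IsZariskiLocalAtSource.sigmaDesc (P := @Etale) (fun _ => inferInstance)⟩

theorem copies_hom : (copies Ω n).hom =
    Sigma.desc (fun _ : Fin n => 𝟙 (Spec (CommRingCat.of Ω))) := rfl

/-- the canonical sections -/
noncomputable def copiesSec (j : Fin n) :
    FEt.fiberObj (𝟙 (Spec (CommRingCat.of Ω))) (copies Ω n) :=
  ⟨Sigma.ι (fun _ : Fin n => Spec (CommRingCat.of Ω)) j,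
    Sigma.ι_desc (fun _ : Fin n => 𝟙 (Spec (CommRingCat.of Ω))) j⟩

theorem copiesSec_val (j : Fin n) : (copiesSec Ω n j).1 =
    Sigma.ι (fun _ : Fin n => Spec (CommRingCat.of Ω)) j := rfl

theorem copiesSec_bijective : Function.Bijective (copiesSec Ω n) := by
  obtain ⟨pt⟩ := nonempty_pt (Ω := Ω)
  constructor
  · intro i j hij
    have h1 : (copiesSec Ω n i).1 = (copiesSec Ω n j).1 := congrArg Subtype.val hij
    rw [copiesSec_val, copiesSec_val] at h1
    have h2 : Sigma.ι (fun _ : Fin n => Spec (CommRingCat.of Ω)) i pt =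
        Sigma.ι (fun _ : Fin n => Spec (CommRingCat.of Ω)) j pt := by rw [h1]
    have h3 := (sigmaι_eq_iff _ _ _ _ _).mp h2
    exact (Sigma.mk.inj_iff.mp h3).1
  · intro s
    obtain ⟨i, s', hs'⟩ := exists_factor_sigma (fun _ : Fin n => Spec (CommRingCat.of Ω)) s.1
    have h1 : s' = 𝟙 _ := by
      have h : (s' ≫ Sigma.ι (fun _ : Fin n => Spec (CommRingCat.of Ω)) i) ≫
          Sigma.desc (fun _ : Fin n => 𝟙 (Spec (CommRingCat.of Ω))) = 𝟙 _ := by
        rw [hs']; exact s.2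
      rw [Category.assoc, Sigma.ι_desc, Category.comp_id] at h
      exact h
    rw [h1, Category.id_comp] at hs'
    exact ⟨i, Subtype.ext hs'⟩

end copies

end sep

section fibFin

variable {X : Scheme.{u}} [IsSepClosed Ω]

/-- the fibre functor with values in finite types -/
noncomputable abbrev fibFin (ξ : Spec (CommRingCat.of Ω) ⟶ X) : FEt.Cat X ⥤ FintypeCat.{u} :=
  ObjectProperty.lift _ (FEt.fiber ξ) (fun Y => finite_fiberObj ξ Y)

instance essSurj_pt : (fibFin (𝟙 (Spec (CommRingCat.of Ω)))).EssSurj :=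
  ⟨fun T => ⟨copies Ω (Nat.card T), ⟨FintypeCat.equivEquivIso
    ((Equiv.ofBijective _ (copiesSec_bijective Ω (Nat.card T))).symm.trans
      (Finite.equivFin T).symm)⟩⟩⟩

instance isEquivalence_pt : (fibFin (𝟙 (Spec (CommRingCat.of Ω)))).IsEquivalence := {}

end fibFin

end H3.FEtGalPt
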