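import Mathlib
import Groth.Prelude
import Groth.Agent.Lib.Helper3.FEtGalPt
import Groth.Agent.Lib.Helper3.FEtG3
import Groth.Agent.Lib.Helper3.FEtRestrictExact

/-!
# The fibre functor on finite étale covers of a connected scheme is a fibre functor
-/

set_option autoImplicit false
universe u
open CategoryTheory CategoryTheory.Limits AlgebraicGeometry TopologicalSpace Opposite Pi1

namespace H3.FEtGalois

open H3.FEtColim H3.FEtFib H3.FEtSplit H3.FEtGalPt
open Groth.Agent.Lib.H3.FEtFF (restrict_map_left_fst restrict_map_left_snd)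

variable {X : Scheme.{u}} {Ω : Type u} [Field Ω] [IsSepClosed Ω]
  (ξ : Spec (CommRingCat.of Ω) ⟶ X)

omit [IsSepClosed Ω] in
theorem fibEquiv_aux (Y : FEt.Cat X)
    (s : FEt.fiberObj (𝟙 (Spec (CommRingCat.of Ω))) ((FEt.restrict ξ).obj Y)) :
    s.1 ≫ pullback.snd Y.hom ξ = 𝟙 _ := s.2

/-- sections of the pullback correspond to lifts -/
noncomputable def fibEquiv (Y : FEt.Cat X) : FEt.fiberObj ξ Y ≃
    FEt.fiberObj (𝟙 (Spec (CommRingCat.of Ω))) ((FEt.restrict ξ).obj Y) where
  toFun s := ⟨pullback.lift s.1 (𝟙 _) (by rw [s.2, Category.id_comp]), pullback.lift_snd _ _ _⟩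
  invFun s := ⟨s.1 ≫ pullback.fst Y.hom ξ,
    (Category.assoc _ _ _).trans ((congrArg (fun m => s.1 ≫ m) pullback.condition).trans
      ((Category.assoc _ _ _).symm.trans ((congrArg (fun m => m ≫ ξ) (fibEquiv_aux ξ Y s)).trans
        (Category.id_comp ξ))))⟩
  left_inv s := Subtype.ext (pullback.lift_fst _ _ _)
  right_inv s := Subtype.ext (by
    apply pullback.hom_ext
    · exact pullback.lift_fst _ _ _
    · exact (pullback.lift_snd _ _ _).trans (fibEquiv_aux ξ Y s).symm)

/-- the fibre functor factors through the base change to the geometric point -/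
noncomputable def natIso : fibFin ξ ≅ FEt.restrict ξ ⋙ fibFin (𝟙 (Spec (CommRingCat.of Ω))) :=
  NatIso.ofComponents (fun Y => FintypeCat.equivEquivIso (fibEquiv ξ Y)) (by
    intro Y Z φ
    apply FintypeCat.hom_ext
    intro s
    obtain ⟨s1, s2⟩ := s
    apply Subtype.ext
    have hw : s1 ≫ Y.hom = 𝟙 _ ≫ ξ := by rw [s2, Category.id_comp]
    obtain ⟨L, hL⟩ : ∃ L : Spec (CommRingCat.of Ω) ⟶ pullback Y.hom ξ,
        L = pullback.lift s1 (𝟙 _) hw := ⟨_, rfl⟩
    have hL1 : L ≫ pullback.fst Y.hom ξ = s1 := by rw [hL]; exact pullback.lift_fst _ _ _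
    have hL2 : L ≫ pullback.snd Y.hom ξ = 𝟙 _ := by rw [hL]; exact pullback.lift_snd _ _ _
    have hw' : (s1 ≫ φ.left) ≫ Z.hom = 𝟙 _ ≫ ξ := by
      rw [Category.assoc, MorphismProperty.Over.w φ, hw]
    show pullback.lift (s1 ≫ φ.left) (𝟙 _) hw' = pullback.lift s1 (𝟙 _) hw ≫
      ((FEt.restrict ξ).map φ).left
    rw [← hL]
    apply pullback.hom_ext
    · refine (pullback.lift_fst _ _ _).trans (Eq.symm ?_)
      exact (Category.assoc L _ _).trans
        ((congrArg (fun m => L ≫ m) (restrict_map_left_fst ξ φ)).trans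
          ((Category.assoc L _ _).symm.trans (congrArg (fun m => m ≫ φ.left) hL1)))
    · refine (pullback.lift_snd _ _ _).trans (Eq.symm ?_)
      exact (Category.assoc L _ _).trans
        ((congrArg (fun m => L ≫ m) (restrict_map_left_snd ξ φ)).trans hL2))

theorem preservesFiniteLimits_fibFin : PreservesFiniteLimits (fibFin ξ) :=
  haveI := H3.FEtRestrictExact.preservesFiniteLimits ξ
  haveI : PreservesFiniteLimits (FEt.restrict ξ ⋙ fibFin (𝟙 (Spec (CommRingCat.of Ω)))) :=
    comp_preservesFiniteLimits _ _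
  preservesFiniteLimits_of_natIso (natIso ξ).symm

theorem preservesFiniteColimits_fibFin : PreservesFiniteColimits (fibFin ξ) :=
  haveI := H3.FEtRestrictExact.preservesFiniteColimits ξ
  haveI : PreservesFiniteColimits (FEt.restrict ξ ⋙ fibFin (𝟙 (Spec (CommRingCat.of Ω)))) :=
    comp_preservesFiniteColimits _ _
  preservesFiniteColimits_of_natIso (natIso ξ).symm


omit [IsSepClosed Ω] in
theorem isIso_of_isIso_left {A B : FEt.Cat X} (φ : A ⟶ B) (h : IsIso φ.left) : IsIso φ :=
  ⟨MorphismProperty.Over.homMk (inv φ.left) (by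
      rw [IsIso.inv_comp_eq]; exact (MorphismProperty.Over.w φ).symm) trivial,
    MorphismProperty.Over.Hom.ext (IsIso.hom_inv_id _),
    MorphismProperty.Over.Hom.ext (IsIso.inv_hom_id _)⟩

/-- a morphism of covers viewed as a cover of its target -/
noncomputable def overTarget {A B : FEt.Cat X} (φ : A ⟶ B) : FEt.Cat B.left :=
  MorphismProperty.Over.mk ⊤ φ.left (H3.FEtG3.prop_left φ)

theorem bijective_of_bijective [ConnectedSpace X] {Ω' : Type u} [Field Ω'] [IsSepClosed Ω']
    (ξ' : Spec (CommRingCat.of Ω') ⟶ X) {A B : FEt.Cat X} (φ : A ⟶ B)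
    (h : Function.Bijective ((FEt.fiber ξ).map φ)) :
    Function.Bijective ((FEt.fiber ξ').map φ) := by
  obtain ⟨e⟩ := nonempty_iso ξ ξ'
  have hA : Function.Bijective (e.hom.app A) := (isIso_iff_bijective _).mp inferInstance
  have hB : Function.Bijective (e.hom.app B) := (isIso_iff_bijective _).mp inferInstance
  have hnat : ∀ a, e.hom.app B ((FEt.fiber ξ).map φ a) = (FEt.fiber ξ').map φ (e.hom.app A a) :=
    fun a => ConcreteCategory.congr_hom (e.hom.naturality φ) a
  constructor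
  · intro a a' haa
    obtain ⟨a₀, rfl⟩ := hA.2 a
    obtain ⟨a₀', rfl⟩ := hA.2 a'
    rw [← hnat, ← hnat] at haa
    rw [h.1 (hB.1 haa)]
  · intro b
    obtain ⟨b₀, rfl⟩ := hB.2 b
    obtain ⟨a₀, rfl⟩ := h.2 b₀
    exact ⟨e.hom.app A a₀, (hnat a₀).symm⟩

omit [IsSepClosed Ω] in
theorem existsUnique_lift {A B : FEt.Cat X} (φ : A ⟶ B) (η : Spec (CommRingCat.of Ω) ⟶ B.left)
    (hbij : Function.Bijective ((FEt.fiber (η ≫ B.hom)).map φ)) :
    ∃! t : Spec (CommRingCat.of Ω) ⟶ A.left, t ≫ φ.left = η := by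
  obtain ⟨a, ha⟩ := hbij.2 (⟨η, rfl⟩ : FEt.fiberObj (η ≫ B.hom) B)
  refine ⟨a.1, congrArg Subtype.val ha, ?_⟩
  intro t ht
  have e1 : t ≫ A.hom = η ≫ B.hom := by
    rw [← MorphismProperty.Over.w φ, ← Category.assoc, ht]
  have h2 : (FEt.fiber (η ≫ B.hom)).map φ (⟨t, e1⟩ : FEt.fiberObj (η ≫ B.hom) A) =
      (FEt.fiber (η ≫ B.hom)).map φ a := by
    rw [ha]
    exact Subtype.ext ht
  exact congrArg Subtype.val (hbij.1 h2)

theorem isIso_of_bijective [ConnectedSpace X] {A B : FEt.Cat X} (φ : A ⟶ B)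
    (h : Function.Bijective ((FEt.fiber ξ).map φ)) : IsIso φ := by
  apply isIso_of_isIso_left
  haveI : IsFinite φ.left := H3.FEtG3.isFinite_left φ
  haveI : Etale φ.left := H3.FEtG3.etale_left φ
  haveI : Flat φ.left := inferInstance
  rw [Scheme.Hom.isIso_iff_finrank_eq]
  funext b
  obtain ⟨Ω', hF, hS, η, hη⟩ := exists_geomPoint b
  obtain ⟨pt⟩ := nonempty_pt (Ω := Ω')
  have hbij := bijective_of_bijective ξ (η ≫ B.hom) φ h
  have hcard := natCard_fiberObj η (overTarget φ) pt
  rw [hη pt] at hcard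
  show φ.left.finrank b = 1
  rw [← (show (overTarget φ).hom.finrank b = φ.left.finrank b from rfl), ← hcard]
  obtain ⟨t, ht, hu⟩ := existsUnique_lift φ η hbij
  rw [Nat.card_eq_one_iff_unique]
  exact ⟨⟨fun s s' => Subtype.ext ((hu s.1 s.2).trans (hu s'.1 s'.2).symm)⟩, ⟨⟨t, ht⟩⟩⟩


theorem reflectsIsos [ConnectedSpace X] : (fibFin ξ).ReflectsIsomorphisms :=
  ⟨fun {A B} φ hφ => by
    apply isIso_of_bijective ξ φ
    have h : IsIso (FintypeCat.incl.map ((fibFin ξ).map φ)) := inferInstance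
    exact (isIso_iff_bijective _).mp h⟩

theorem fiberFunctor [ConnectedSpace X] :
    @PreGaloisCategory.FiberFunctor _ _ (H3.FEtG3.preGalois X) (fibFin ξ) :=
  letI := H3.FEtG3.preGalois X
  haveI := preservesFiniteLimits_fibFin ξ
  haveI := preservesFiniteColimits_fibFin ξ
  { preservesTerminalObjects := inferInstance
    preservesPullbacks := inferInstance
    preservesFiniteCoproducts := inferInstance
    preservesEpis := inferInstance
    preservesQuotientsByFiniteGroups := fun G _ _ => by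
      obtain ⟨G', hg, hf, ⟨e⟩⟩ := Finite.exists_type_univ_nonempty_mulEquiv G
      exact Limits.preservesColimitsOfShape_of_equiv e.toSingleObjEquiv.symm _
    reflectsIsos := reflectsIsos ξ }

theorem main [ConnectedSpace X] :
    ∃ (_ : PreGaloisCategory (FEt.Cat X)) (F : FEt.Cat X ⥤ FintypeCat.{u}),
      PreGaloisCategory.FiberFunctor F ∧ Nonempty (F ⋙ FintypeCat.incl ≅ FEt.fiber ξ) :=
  ⟨H3.FEtG3.preGalois X, fibFin ξ, fiberFunctor ξ, ⟨ObjectProperty.liftCompιIso _ _ _⟩⟩

end H3.FEtGalois
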