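import Mathlib
import Groth.Prelude.Def_FEt
import Groth.Agent.Lib.Helper3.FEtFF3
import Groth.Agent.Lib.Helper3.FEtFib

/-!
# Helper3: restriction of finite étale covers along a closed immersion inducing bijections on
connected components is fully faithful (graph argument).
-/

set_option autoImplicit false
universe u
open CategoryTheory CategoryTheory.Limits AlgebraicGeometry

namespace H3.FEtCC
open H3.FEtSplit H3.FEtFib Groth.Agent.Lib.H3.FEtFF

section Top

theorem clopen_eq_univ_of_surj {A B : Type*} [TopologicalSpace A] [TopologicalSpace B]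
    (p : A → B) (hp : Continuous p)
    (hsurj : Function.Surjective hp.connectedComponentsMap) (C : Set B) (hC : IsClopen C)
    (hsub : Set.range p ⊆ C) : C = Set.univ := by
  ext y
  simp only [Set.mem_univ, iff_true]
  obtain ⟨c, hc⟩ := hsurj (y : ConnectedComponents B)
  obtain ⟨a, rfl⟩ := ConnectedComponents.surjective_coe c
  have h1 : ((p a : B) : ConnectedComponents B) = (y : ConnectedComponents B) := hc
  have h2 : y ∈ connectedComponent (p a) := ConnectedComponents.coe_eq_coe'.mp h1.symm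
  exact hC.connectedComponent_subset (hsub ⟨a, rfl⟩) h2

theorem finite_connectedComponents_of_noetherianSpace (α : Type*) [TopologicalSpace α]
    [TopologicalSpace.NoetherianSpace α] : Finite (ConnectedComponents α) := by
  haveI : Finite (irreducibleComponents α) :=
    (TopologicalSpace.NoetherianSpace.finite_irreducibleComponents).to_subtype
  have hne : ∀ Z : irreducibleComponents α, (Z : Set α).Nonempty := fun Z => Z.2.1.nonempty
  let f : irreducibleComponents α → ConnectedComponents α :=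
    fun Z => ConnectedComponents.mk (hne Z).some
  refine Finite.of_surjective f ?_
  intro c
  obtain ⟨x, rfl⟩ := ConnectedComponents.surjective_coe c
  refine ⟨⟨irreducibleComponent x, irreducibleComponent_mem_irreducibleComponents x⟩, ?_⟩
  show ConnectedComponents.mk _ = ConnectedComponents.mk x
  rw [ConnectedComponents.coe_eq_coe']
  have hz := (hne ⟨irreducibleComponent x, irreducibleComponent_mem_irreducibleComponents x⟩).some_mem
  exact (isIrreducible_irreducibleComponent (x := x)).isPreirreducible.isPreconnected.subset_connectedComponent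
    mem_irreducibleComponent hz

theorem exists_clopen_of_injective {A B : Type*} [TopologicalSpace A] [TopologicalSpace B]
    [Finite (ConnectedComponents B)] (p : A → B) (hp : Continuous p)
    (hinj : Function.Injective hp.connectedComponentsMap) (G : Set A) (hG : IsClopen G) :
    ∃ Γ : Set B, IsClopen Γ ∧ p ⁻¹' Γ = G := by
  have hclosed : ∀ T : Set (ConnectedComponents B),
      IsClosed ((ConnectedComponents.mk : B → ConnectedComponents B) ⁻¹' T) := by
    intro T
    have : (ConnectedComponents.mk : B → ConnectedComponents B) ⁻¹' T =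
        ⋃ c ∈ T, (ConnectedComponents.mk : B → ConnectedComponents B) ⁻¹' {c} := by
      ext b; simp
    rw [this]
    refine Set.Finite.isClosed_biUnion (Set.toFinite T) (fun c _ => ?_)
    obtain ⟨x, rfl⟩ := ConnectedComponents.surjective_coe c
    rw [connectedComponents_preimage_singleton]
    exact isClosed_connectedComponent
  obtain ⟨S, hS⟩ : ∃ S : Set (ConnectedComponents B),
      S = hp.connectedComponentsMap '' ((ConnectedComponents.mk : A → ConnectedComponents A) '' G) :=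
    ⟨_, rfl⟩
  refine ⟨(ConnectedComponents.mk : B → ConnectedComponents B) ⁻¹' S, ⟨hclosed S, ?_⟩, ?_⟩
  · rw [← isClosed_compl_iff, ← Set.preimage_compl]; exact hclosed Sᶜ
  · ext a
    constructor
    · intro ha
      have ha' : (ConnectedComponents.mk (p a) : ConnectedComponents B) ∈ S := ha
      rw [hS] at ha'
      obtain ⟨c, ⟨a', ha'G, rfl⟩, hc⟩ := ha'
      have h1 : hp.connectedComponentsMap (ConnectedComponents.mk a') =
          hp.connectedComponentsMap (ConnectedComponents.mk a) := hc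
      have h2 := hinj h1
      have h3 : a ∈ connectedComponent a' := ConnectedComponents.coe_eq_coe'.mp h2.symm
      exact hG.connectedComponent_subset ha'G h3
    · intro ha
      show (ConnectedComponents.mk (p a) : ConnectedComponents B) ∈ S
      rw [hS]
      exact ⟨_, ⟨a, ha, rfl⟩, rfl⟩

end Top

/-- Two morphisms into a finite étale `X`-scheme which agree after composing with a morphism that
is surjective on connected components are equal. -/
theorem eq_of_comp_eq_of_surj {Y' Y Z X : Scheme.{u}} (f : Z ⟶ X) [IsFinite f] [Etale f]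
    (p : Y' ⟶ Y) (hsurj : Function.Surjective p.continuous.connectedComponentsMap)
    (a b : Y ⟶ Z) (hab : a ≫ f = b ≫ f) (h : p ≫ a = p ≫ b) : a = b := by
  haveI : IsSeparated f := inferInstance
  obtain ⟨m, hm⟩ : ∃ m : Y ⟶ pullback f f, m = pullback.lift a b hab := ⟨_, rfl⟩
  have hm1 : m ≫ pullback.fst f f = a := by rw [hm, pullback.lift_fst]
  have hm2 : m ≫ pullback.snd f f = b := by rw [hm, pullback.lift_snd]
  have hclopen : IsClopen (m ⁻¹' Set.range (pullback.diagonal f)) :=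
    ⟨(pullback.diagonal f).isClosedEmbedding.isClosed_range.preimage m.continuous,
      (pullback.diagonal f).isOpenEmbedding.isOpen_range.preimage m.continuous⟩
  have hζ : p ≫ m = (p ≫ a) ≫ pullback.diagonal f := by
    apply pullback.hom_ext
    · rw [Category.assoc, hm1, Category.assoc, pullback.diagonal_fst, Category.comp_id]
    · rw [Category.assoc, hm2, Category.assoc, pullback.diagonal_snd, Category.comp_id, h]
  have hrange : Set.range p ⊆ m ⁻¹' Set.range (pullback.diagonal f) := by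
    rintro _ ⟨y', rfl⟩
    show m (p y') ∈ Set.range (pullback.diagonal f)
    rw [← Scheme.Hom.comp_apply, hζ, Scheme.Hom.comp_apply]
    exact ⟨_, rfl⟩
  have huniv := clopen_eq_univ_of_surj p p.continuous hsurj _ hclopen hrange
  have hsub : Set.range m ⊆ Set.range (pullback.diagonal f) := by
    rintro _ ⟨x, rfl⟩
    have : x ∈ m ⁻¹' Set.range (pullback.diagonal f) := by rw [huniv]; trivial
    exact this
  have hfac := IsOpenImmersion.lift_fac (pullback.diagonal f) m hsub
  have e1 : IsOpenImmersion.lift (pullback.diagonal f) m hsub = a := by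
    have h := congrArg (· ≫ pullback.fst f f) hfac
    simp only [Category.assoc, pullback.diagonal_fst, Category.comp_id] at h
    rw [h, hm1]
  have e2 : IsOpenImmersion.lift (pullback.diagonal f) m hsub = b := by
    have h := congrArg (· ≫ pullback.snd f f) hfac
    simp only [Category.assoc, pullback.diagonal_snd, Category.comp_id] at h
    rw [h, hm2]
  rw [← e1, e2]

variable {X X₀ : Scheme.{u}}

theorem faithful (i : X₀ ⟶ X)
    (h : ∀ Y : FEt.Cat X,
      Function.Surjective (pullback.fst Y.hom i).continuous.connectedComponentsMap) :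
    (FEt.restrict i).Faithful := by
  constructor
  intro Y Z φ ψ hφψ
  have hw : φ.left ≫ Z.hom = Y.hom := MorphismProperty.Over.w φ
  have hw' : ψ.left ≫ Z.hom = Y.hom := MorphismProperty.Over.w ψ
  have h1 : pullback.fst Y.hom i ≫ φ.left = pullback.fst Y.hom i ≫ ψ.left := by
    rw [← restrict_map_left_fst i φ, ← restrict_map_left_fst i ψ, hφψ]
  apply MorphismProperty.Over.Hom.ext
  exact eq_of_comp_eq_of_surj (Y := Y.left) (Z := Z.left) (X := X) Z.hom (pullback.fst Y.hom i)
    (h Y) φ.left ψ.left (hw.trans hw'.symm) h1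

/-- The core of fullness, on underlying schemes. -/
theorem full_core [IsNoetherian X] (i : X₀ ⟶ X)
    (h : ∀ Y : FEt.Cat X,
      Function.Bijective (pullback.fst Y.hom i).continuous.connectedComponentsMap)
    (Y Z : FEt.Cat X) (ψl : pullback Y.hom i ⟶ pullback Z.hom i)
    (hψ : ψl ≫ pullback.snd Z.hom i = pullback.snd Y.hom i) :
    ∃ φ₀ : Y.left ⟶ Z.left, φ₀ ≫ Z.hom = Y.hom ∧
      pullback.fst Y.hom i ≫ φ₀ = ψl ≫ pullback.fst Z.hom i := by
  haveI : Flat Y.hom := inferInstance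
  haveI : Flat Z.hom := inferInstance
  -- notation
  obtain ⟨pY, hpY⟩ : ∃ pY : pullback Y.hom i ⟶ Y.left, pY = pullback.fst Y.hom i := ⟨_, rfl⟩
  obtain ⟨qY, hqY⟩ : ∃ qY : pullback Y.hom i ⟶ X₀, qY = pullback.snd Y.hom i := ⟨_, rfl⟩
  have hcY : pY ≫ Y.hom = qY ≫ i := by rw [hpY, hqY]; exact pullback.condition
  obtain ⟨pZ, hpZ⟩ : ∃ pZ : pullback Z.hom i ⟶ Z.left, pZ = pullback.fst Z.hom i := ⟨_, rfl⟩
  obtain ⟨qZ, hqZ⟩ : ∃ qZ : pullback Z.hom i ⟶ X₀, qZ = pullback.snd Z.hom i := ⟨_, rfl⟩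
  have hcZ : pZ ≫ Z.hom = qZ ≫ i := by rw [hpZ, hqZ]; exact pullback.condition
  have hψ' : ψl ≫ qZ = qY := by rw [hqZ, hqY]; exact hψ
  -- the product cover
  obtain ⟨r, hr⟩ : ∃ r : pullback Z.hom Y.hom ⟶ Y.left, r = pullback.snd Z.hom Y.hom := ⟨_, rfl⟩
  haveI : IsFinite r := hr ▸ inferInstance
  haveI : Etale r := hr ▸ inferInstance
  obtain ⟨wh, hwh⟩ : ∃ wh : pullback Z.hom Y.hom ⟶ X, wh = r ≫ Y.hom := ⟨_, rfl⟩
  haveI : IsFinite wh := hwh ▸ inferInstance
  haveI : Etale wh := hwh ▸ inferInstance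
  let W : FEt.Cat X := MorphismProperty.Over.mk ⊤ wh ⟨inferInstance, inferInstance⟩
  have hW : Function.Bijective (pullback.fst wh i).continuous.connectedComponentsMap := h W
  obtain ⟨pW, hpW⟩ : ∃ pW : pullback wh i ⟶ pullback Z.hom Y.hom, pW = pullback.fst wh i :=
    ⟨_, rfl⟩
  obtain ⟨qW, hqW⟩ : ∃ qW : pullback wh i ⟶ X₀, qW = pullback.snd wh i := ⟨_, rfl⟩
  have hcW : pW ≫ wh = qW ≫ i := by rw [hpW, hqW]; exact pullback.condition
  rw [← hpW] at hW
  -- the graph
  have hγw : (ψl ≫ pZ) ≫ Z.hom = pY ≫ Y.hom := by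
    rw [Category.assoc, hcZ, ← Category.assoc, hψ', hcY]
  obtain ⟨γ, hγ⟩ : ∃ γ : pullback Y.hom i ⟶ pullback Z.hom Y.hom,
      γ = pullback.lift (ψl ≫ pZ) pY hγw := ⟨_, rfl⟩
  have hγ1 : γ ≫ pullback.fst Z.hom Y.hom = ψl ≫ pZ := by rw [hγ, pullback.lift_fst]
  have hγ2 : γ ≫ r = pY := by rw [hγ, hr, pullback.lift_snd]
  have hγ₀w : γ ≫ wh = qY ≫ i := by rw [hwh, ← Category.assoc, hγ2, hcY]
  obtain ⟨γ₀, hγ₀⟩ : ∃ γ₀ : pullback Y.hom i ⟶ pullback wh i,
      γ₀ = pullback.lift γ qY hγ₀w := ⟨_, rfl⟩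
  have hγ₀1 : γ₀ ≫ pW = γ := by rw [hγ₀, hpW, pullback.lift_fst]
  have hγ₀2 : γ₀ ≫ qW = qY := by rw [hγ₀, hqW, pullback.lift_snd]
  -- the projection `W₀ ⟶ Y₀`
  have hr₀w : (pW ≫ r) ≫ Y.hom = qW ≫ i := by rw [Category.assoc, ← hwh, hcW]
  obtain ⟨r₀, hr₀⟩ : ∃ r₀ : pullback wh i ⟶ pullback Y.hom i,
      r₀ = pullback.lift (pW ≫ r) qW hr₀w := ⟨_, rfl⟩
  have hr₀1 : r₀ ≫ pY = pW ≫ r := by rw [hr₀, hpY, pullback.lift_fst]
  have hr₀2 : r₀ ≫ qY = qW := by rw [hr₀, hqY, pullback.lift_snd]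
  have hsec : γ₀ ≫ r₀ = 𝟙 _ := by
    rw [hpY, hqY] at *
    apply pullback.hom_ext
    · rw [Category.assoc, hr₀1, ← Category.assoc, hγ₀1, hγ2, Category.id_comp]
    · rw [Category.assoc, hr₀2, hγ₀2, Category.id_comp]
  haveI : Etale qW := hqW ▸ inferInstance
  haveI : Etale qY := hqY ▸ inferInstance
  haveI : Etale r₀ := by
    have h1 : Etale (r₀ ≫ qY) := by rw [hr₀2]; infer_instance
    exact MorphismProperty.of_postcomp (W := @Etale) (W' := @Etale) r₀ qY inferInstance h1
  haveI hγ₀open : IsOpenImmersion γ₀ := isOpenImmersion_of_section r₀ γ₀ hsec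
  haveI : IsSeparated r₀ := by
    haveI : IsSeparated qW := by
      have : IsFinite qW := hqW ▸ inferInstance
      infer_instance
    have h1 : IsSeparated (r₀ ≫ qY) := by rw [hr₀2]; infer_instance
    exact MorphismProperty.of_postcomp (W := @IsSeparated) (W' := ⊤) r₀ qY trivial h1
  haveI hγ₀closed : IsClosedImmersion γ₀ := by
    have h1 : IsClosedImmersion (γ₀ ≫ r₀) := by rw [hsec]; infer_instance
    exact MorphismProperty.of_postcomp (W := @IsClosedImmersion) (W' := @IsSeparated) γ₀ r₀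
      inferInstance h1
  have hG : IsClopen (Set.range γ₀) :=
    ⟨γ₀.isClosedEmbedding.isClosed_range, γ₀.isOpenEmbedding.isOpen_range⟩
  -- Noetherianity of `W`
  haveI : IsLocallyNoetherian (pullback Z.hom Y.hom) :=
    LocallyOfFiniteType.isLocallyNoetherian wh
  haveI : CompactSpace ↥(pullback Z.hom Y.hom) := QuasiCompact.compactSpace_of_compactSpace wh
  haveI : IsNoetherian (pullback Z.hom Y.hom) := {}
  haveI : Finite (_root_.ConnectedComponents ↥(pullback Z.hom Y.hom)) :=
    finite_connectedComponents_of_noetherianSpace _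
  obtain ⟨Γ, hΓ, hΓpre⟩ := exists_clopen_of_injective pW pW.continuous hW.1 _ hG
  -- the clopen subscheme
  let U : (pullback Z.hom Y.hom).Opens := ⟨Γ, hΓ.isOpen⟩
  haveI : IsClosedImmersion U.ι := IsClosedImmersion.of_isPreimmersion _ (by
    rw [Scheme.Opens.range_ι]; exact hΓ.isClosed)
  obtain ⟨ρ, hρ⟩ : ∃ ρ : U.toScheme ⟶ Y.left, ρ = U.ι ≫ r := ⟨_, rfl⟩
  haveI : IsFinite ρ := hρ ▸ inferInstance
  haveI : Etale ρ := hρ ▸ inferInstance
  haveI : Flat ρ := inferInstance
  haveI : LocallyOfFinitePresentation ρ := inferInstance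
  -- `γ` factors through `U`
  have hγsub : Set.range γ ⊆ Set.range U.ι := by
    rw [Scheme.Opens.range_ι]
    rintro _ ⟨y, rfl⟩
    have h1 : γ₀ y ∈ pW ⁻¹' Γ := by rw [hΓpre]; exact ⟨y, rfl⟩
    have h2 : pW (γ₀ y) = γ y := by rw [← Scheme.Hom.comp_apply, hγ₀1]
    rw [← h2]
    exact h1
  obtain ⟨γU, hγU⟩ : ∃ γU : pullback Y.hom i ⟶ U.toScheme, γU ≫ U.ι = γ :=
    ⟨_, IsOpenImmersion.lift_fac U.ι γ hγsub⟩
  have hγUρ : γU ≫ ρ = pY := by rw [hρ, ← Category.assoc, hγU, hγ2]
  -- rank one on the image of `Y₀`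
  have hrank : ∀ y₀ : ↥(pullback Y.hom i), ρ.finrank (pY y₀) = 1 := by
    intro y₀
    obtain ⟨Ω, _, _, ybar, hybar⟩ := exists_geomPoint y₀
    obtain ⟨s⟩ := nonempty_pt (Ω := Ω)
    haveI := subsingleton_pt (Ω := Ω)
    have hcnt := Helper15.FinEtCount.natCard_lifts_eq_finrank ρ Ω (ybar ≫ pY) s
    rw [Scheme.Hom.comp_apply, hybar s] at hcnt
    rw [← hcnt, Nat.card_eq_one_iff_unique]
    refine ⟨⟨fun z z' => ?_⟩, ⟨⟨ybar ≫ γU, by rw [Category.assoc, hγUρ]⟩⟩⟩
    have key : ∀ z : {z : Spec (CommRingCat.of Ω) ⟶ U.toScheme // z ≫ ρ = ybar ≫ pY},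
        z.1 ≫ U.ι = ybar ≫ γ := by
      intro z
      obtain ⟨w, hw⟩ : ∃ w : Spec (CommRingCat.of Ω) ⟶ pullback Z.hom Y.hom, w = z.1 ≫ U.ι :=
        ⟨_, rfl⟩
      have hwr : w ≫ r = ybar ≫ pY := by rw [hw, Category.assoc, ← hρ]; exact z.2
      have hwΓ : w s ∈ Γ := by
        rw [hw, Scheme.Hom.comp_apply]
        have : U.ι (z.1 s) ∈ Set.range U.ι := ⟨_, rfl⟩
        rw [Scheme.Opens.range_ι] at this
        exact this
      have hw₀w : w ≫ wh = (ybar ≫ qY) ≫ i := by
        rw [hwh, ← Category.assoc, hwr, Category.assoc, hcY, Category.assoc]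
      obtain ⟨w₀, hw₀⟩ : ∃ w₀ : Spec (CommRingCat.of Ω) ⟶ pullback wh i,
          w₀ = pullback.lift w (ybar ≫ qY) hw₀w := ⟨_, rfl⟩
      have hw₀1 : w₀ ≫ pW = w := by rw [hw₀, hpW, pullback.lift_fst]
      have hw₀2 : w₀ ≫ qW = ybar ≫ qY := by rw [hw₀, hqW, pullback.lift_snd]
      have hmem : w₀ s ∈ Set.range γ₀ := by
        rw [← hΓpre]
        show pW (w₀ s) ∈ Γ
        rw [← Scheme.Hom.comp_apply, hw₀1]
        exact hwΓ
      have hsub : Set.range w₀ ⊆ Set.range γ₀ := by
        rintro _ ⟨t, rfl⟩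
        rwa [Subsingleton.elim t s]
      obtain ⟨v, hv⟩ : ∃ v : Spec (CommRingCat.of Ω) ⟶ pullback Y.hom i, v ≫ γ₀ = w₀ :=
        ⟨_, IsOpenImmersion.lift_fac γ₀ w₀ hsub⟩
      have hv' : v = ybar := by
        have h1 : v = w₀ ≫ r₀ := by rw [← hv, Category.assoc, hsec, Category.comp_id]
        rw [h1]
        rw [hpY, hqY] at *
        apply pullback.hom_ext
        · rw [Category.assoc, hr₀1, ← Category.assoc, hw₀1, hwr]
        · rw [Category.assoc, hr₀2, hw₀2]
      rw [← hw, ← hw₀1, ← hv, hv', Category.assoc, hγ₀1]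
    apply Subtype.ext
    rw [← cancel_mono U.ι, key z, key z']
  -- rank one everywhere
  have hC : IsClopen {y : ↥Y.left | ρ.finrank y = 1} :=
    (Scheme.Hom.isLocallyConstant_finrank ρ).isClopen_fiber 1
  have hYsurj : Function.Surjective pY.continuous.connectedComponentsMap := by
    rw [hpY]; exact (h Y).2
  have huniv := clopen_eq_univ_of_surj pY pY.continuous hYsurj _ hC (by
    rintro _ ⟨y₀, rfl⟩
    exact hrank y₀)
  haveI : IsIso ρ := by
    rw [Scheme.Hom.isIso_iff_finrank_eq]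
    funext y
    have : y ∈ {y : ↥Y.left | ρ.finrank y = 1} := by rw [huniv]; trivial
    exact this
  refine ⟨inv ρ ≫ U.ι ≫ pullback.fst Z.hom Y.hom, ?_, ?_⟩
  · rw [Category.assoc, Category.assoc, pullback.condition, ← hr, ← Category.assoc U.ι, ← hρ,
      IsIso.inv_hom_id_assoc]
  · have h1 : pY ≫ inv ρ = γU := by rw [← hγUρ, Category.assoc, IsIso.hom_inv_id, Category.comp_id]
    rw [← hpY, ← hpZ, ← Category.assoc, h1, ← Category.assoc, hγU, hγ1]

theorem main [IsNoetherian X] (i : X₀ ⟶ X) [IsClosedImmersion i]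
    (h : ∀ Y : FEt.Cat X,
      Function.Bijective (pullback.fst Y.hom i).continuous.connectedComponentsMap) :
    (FEt.restrict i).Full ∧ (FEt.restrict i).Faithful := by
  refine ⟨⟨?_⟩, faithful i (fun Y => (h Y).2)⟩
  intro Y Z ψ
  obtain ⟨ψl, hψl⟩ : ∃ ψl : pullback Y.hom i ⟶ pullback Z.hom i, ψl = ψ.left := ⟨_, rfl⟩
  have hψ : ψl ≫ pullback.snd Z.hom i = pullback.snd Y.hom i := by
    subst hψl; exact MorphismProperty.Over.w ψ
  obtain ⟨φ₀, hφ₀, hφ₀'⟩ := full_core i h Y Z ψl hψ
  refine ⟨MorphismProperty.Over.homMk φ₀ hφ₀ trivial, ?_⟩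
  apply MorphismProperty.Over.Hom.ext
  apply pullback.hom_ext
  · refine (restrict_map_left_fst i _).trans ?_
    subst hψl
    exact hφ₀'
  · refine (restrict_map_left_snd i _).trans ?_
    subst hψl
    exact hψ.symm

end H3.FEtCC
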