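import Mathlib.RingTheory.Henselian
import Mathlib.RingTheory.Jacobson.Ideal
import Mathlib.RingTheory.Ideal.Operations
import Mathlib.Algebra.Polynomial.Identities
import Mathlib.Tactic.LinearCombination
import Mathlib.Tactic.Ring
import Mathlib.Tactic.Positivity

/-!
# Henselian pairs: dependence on the ideal only through its radical
-/

namespace Groth.Agent.Lib.Helper3

open Polynomial

/-- A unit modulo an ideal contained in the Jacobson radical is a unit. -/
theorem isUnit_of_isUnit_mk {B : Type*} [CommRing B] {N : Ideal B} (hN : N ≤ Ideal.jacobson ⊥)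
    {x : B} (hx : IsUnit (Ideal.Quotient.mk N x)) : IsUnit x := by
  have := isLocalHom_of_le_jacobson_bot N hN
  exact IsUnit.of_map (Ideal.Quotient.mk N) x hx

/-- Shrinking the ideal of a henselian pair keeps it henselian. -/
theorem henselianRing_of_le {B : Type*} [CommRing B] {N K : Ideal B} (hN : HenselianRing B N)
    (hKN : K ≤ N) : HenselianRing B K where
  jac := hKN.trans hN.jac
  is_henselian := by
    intro f hf a₀ h₁ h₂
    have hK : K ≤ Ideal.jacobson ⊥ := hKN.trans hN.jac
    have hu : IsUnit (f.derivative.eval a₀) := isUnit_of_isUnit_mk hK h₂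
    obtain ⟨a, ha, haN⟩ := hN.is_henselian f hf a₀ (hKN h₁) (hu.map _)
    refine ⟨a, ha, ?_⟩
    obtain ⟨k, hk⟩ := f.binomExpansion a₀ (a - a₀)
    rw [add_sub_cancel, ha] at hk
    have hu' : IsUnit (f.derivative.eval a₀ + k * (a - a₀)) := by
      apply isUnit_of_isUnit_mk hN.jac
      have : Ideal.Quotient.mk N (f.derivative.eval a₀ + k * (a - a₀)) =
          Ideal.Quotient.mk N (f.derivative.eval a₀) := by
        rw [Ideal.Quotient.eq, add_sub_cancel_left]
        exact N.mul_mem_left _ haN
      rw [this]
      exact hu.map _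
    obtain ⟨w, hw⟩ := hu'.exists_right_inv
    have : a - a₀ = - (f.eval a₀) * w := by
      have e1 : (a - a₀) * (f.derivative.eval a₀ + k * (a - a₀)) = - f.eval a₀ := by
        linear_combination -hk
      calc a - a₀ = (a - a₀) * ((f.derivative.eval a₀ + k * (a - a₀)) * w) := by rw [hw, mul_one]
        _ = _ := by rw [← mul_assoc, e1]
    rw [this]
    exact K.mul_mem_right _ (K.neg_mem h₁)

/-- A henselian pair stays henselian when the ideal is replaced by its radical. -/
theorem henselianRing_radical {B : Type*} [CommRing B] {K : Ideal B} (hK : HenselianRing B K) :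
    HenselianRing B K.radical where
  jac := (Ideal.isRadical_jacobson (I := (⊥ : Ideal B))).radical_le_iff.mpr hK.jac
  is_henselian := by
    intro f hf a₀ h₁ h₂
    have hR : K.radical ≤ Ideal.jacobson ⊥ :=
      (Ideal.isRadical_jacobson (I := (⊥ : Ideal B))).radical_le_iff.mpr hK.jac
    -- Newton iteration
    have key : ∀ n : ℕ, ∃ a : B, a - a₀ ∈ K.radical ∧ ∃ c : B, f.eval a = c * f.eval a₀ ^ (2 ^ n) := by
      intro n
      induction n with
      | zero => exact ⟨a₀, by simp, 1, by simp⟩
      | succ n ih =>
        obtain ⟨a, haR, c, hc⟩ := ih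
        have hfa : f.eval a ∈ K.radical := by
          rw [hc]
          exact Ideal.mul_mem_left _ _ (Ideal.pow_mem_of_mem _ h₁ _ (by positivity))
        have hu : IsUnit (f.derivative.eval a) := by
          apply isUnit_of_isUnit_mk hR
          have : Ideal.Quotient.mk K.radical (f.derivative.eval a) =
              Ideal.Quotient.mk K.radical (f.derivative.eval a₀) := by
            rw [Ideal.Quotient.eq]
            obtain ⟨z, hz⟩ := f.derivative.evalSubFactor a a₀
            rw [hz]
            exact Ideal.mul_mem_left _ _ haR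
          rw [this]
          exact h₂
        obtain ⟨v, hv⟩ := hu.exists_right_inv
        obtain ⟨k, hk⟩ := f.binomExpansion a (-(f.eval a * v))
        refine ⟨a + -(f.eval a * v), ?_, k * v ^ 2 * c ^ 2, ?_⟩
        · have : a + -(f.eval a * v) - a₀ = (a - a₀) - f.eval a * v := by ring
          rw [this]
          exact Ideal.sub_mem _ haR (Ideal.mul_mem_right _ _ hfa)
        · rw [hk]
          have : f.eval a + f.derivative.eval a * -(f.eval a * v) = 0 := by
            linear_combination (- f.eval a) * hv
          rw [this, hc, pow_succ 2 n, pow_mul]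
          ring
    obtain ⟨m, hm⟩ := h₁
    obtain ⟨a, haR, c, hc⟩ := key m
    have hfaK : f.eval a ∈ K := by
      rw [hc]
      refine Ideal.mul_mem_left _ _ ?_
      have : m ≤ 2 ^ m := Nat.lt_two_pow_self.le
      obtain ⟨d, hd⟩ := Nat.exists_eq_add_of_le this
      rw [hd, pow_add]
      exact Ideal.mul_mem_right _ _ hm
    have hu : IsUnit (f.derivative.eval a) := by
      apply isUnit_of_isUnit_mk hR
      have : Ideal.Quotient.mk K.radical (f.derivative.eval a) =
          Ideal.Quotient.mk K.radical (f.derivative.eval a₀) := by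
        rw [Ideal.Quotient.eq]
        obtain ⟨z, hz⟩ := f.derivative.evalSubFactor a a₀
        rw [hz]
        exact Ideal.mul_mem_left _ _ haR
      rw [this]
      exact h₂
    obtain ⟨a₁, ha₁, ha₁K⟩ := hK.is_henselian f hf a hfaK (hu.map _)
    refine ⟨a₁, ha₁, ?_⟩
    have : a₁ - a₀ = (a₁ - a) + (a - a₀) := by ring
    rw [this]
    exact Ideal.add_mem _ (Ideal.le_radical ha₁K) haR

/-- Henselianity of a pair only depends on the radical of the ideal. -/
theorem henselianRing_of_le_radical {B : Type*} [CommRing B] {K K' : Ideal B}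
    (hK : HenselianRing B K) (h : K' ≤ K.radical) : HenselianRing B K' :=
  henselianRing_of_le (henselianRing_radical hK) h

end Groth.Agent.Lib.Helper3
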