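import Groth.Agent.Lib.Helper3.AmpleFieldB

/-!
# Descent of the existence of an ample invertible module along a field extension: main theorem
-/

set_option autoImplicit false
set_option linter.style.haveILetI false
universe u
open CategoryTheory CategoryTheory.Limits AlgebraicGeometry TopologicalSpace Opposite

namespace Groth.Agent.Lib.Helper3.AmpleField

open Groth.Agent.Lib.Helper26.FGSubLim Groth.Agent.Lib.Helper12.PbDiag

section Main

variable (k : Type u) [Field k] (X : Scheme.{u}) [X.Over (Spec (CommRingCat.of k))]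
  (K : Type u) [Field K] [Algebra k K]

set_option maxHeartbeats 1000000 in
/-- if `X_K` carries an ample invertible module then so does `X` -/
theorem exists_ample_of_ample_bc (L' : (Curv2.bc k X K).Modules) (hL' : CohB1.IsAmple L') :
    ∃ L : X.Modules, CohB1.IsAmple L := by
  haveI : CompactSpace ↥(Curv2.bc k X K) := hL'.2.1
  haveI : (Curv2.bc k X K).IsSeparated := RelAmpleLib.isSeparated_of_isAmple hL'
  haveI : CompactSpace X := compactSpace_of_bc k X K
  haveI hsep : IsSeparated (X ↘ Spec (CommRingCat.of k)) := isSeparated_of_bc k X K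
  haveI : QuasiSeparatedSpace X :=
    quasiSeparatedSpace_of_quasiSeparated (X ↘ Spec (CommRingCat.of k))
  -- the diagram
  obtain ⟨h₀, hh₀⟩ : ∃ h₀ : X ⟶ (specDiag k K).obj (i₀ k K),
      h₀ = (X ↘ Spec (CommRingCat.of k)) ≫ (e₄ k K).hom := ⟨_, rfl⟩
  have hZ : IsPullback (Curv2.bcFst k X K) (Curv2.bcSnd k X K) h₀
      ((specCone k K).π.app (i₀ k K)) := by
    refine IsPullback.of_iso (IsPullback.of_hasPullback (X ↘ Spec (CommRingCat.of k))
      (Spec.map (CommRingCat.ofHom (algebraMap k K))))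
      (Iso.refl _) (Iso.refl _) (Iso.refl _) (e₄ k K) ?_ ?_ ?_ ?_
    · simp
    · simp
    · rw [hh₀]; exact (Category.id_comp _).symm
    · rw [Iso.refl_hom, Category.id_comp]; exact specMap_comp_e₄ k K
  haveI : ∀ j : Over (i₀ k K),
      CompactSpace ((pbDiagram (specDiag k K) (i₀ k K) h₀).obj j) :=
    fun j => compactSpace_pbDiagram_obj' (specDiag k K) (i₀ k K) h₀ j
  haveI : ∀ j : Over (i₀ k K),
      QuasiSeparatedSpace ((pbDiagram (specDiag k K) (i₀ k K) h₀).obj j) :=
    fun j => quasiSeparatedSpace_pbDiagram_obj' (specDiag k K) (i₀ k K) h₀ j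
  obtain ⟨j₁, -, L₁, hL₁, ⟨e₁⟩⟩ := InvSpread.exists_stage_invertible
    (pbDiagram (specDiag k K) (i₀ k K) h₀)
    (pbCone (specCone k K) (Curv2.bcFst k X K) (Curv2.bcSnd k X K) hZ)
    (isLimitPbCone (specCone k K) (isLimitSpecCone k K) _ _ hZ) (Over.mk (𝟙 (i₀ k K))) L' hL'.1
  haveI haff : ∀ (i j : Over (i₀ k K)) (f : i ⟶ j),
      IsAffineHom ((pbDiagram (specDiag k K) (i₀ k K) h₀).map f) := fun _ _ f => inferInstance
  obtain ⟨j₂, φ₂, hA₂⟩ := Groth.Agent.S9223.result
    (pbDiagram (specDiag k K) (i₀ k K) h₀)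
    (pbCone (specCone k K) (Curv2.bcFst k X K) (Curv2.bcSnd k X K) hZ)
    (isLimitPbCone (specCone k K) (isLimitSpecCone k K) _ _ hZ) j₁ L₁ hL₁
    (InvAmple.isAmple_of_iso e₁.symm hL')
  -- the finite extension and the norm
  haveI : CompactSpace ↥(pullback h₀ (Spec.map ((ringDiag k K).map j₂.hom.unop))) :=
    compactSpace_pbDiagram_obj' (specDiag k K) (i₀ k K) h₀ j₂
  exact exists_ample_of_fgStage k K h₀ j₂.left.unop j₂.hom.unop _ hA₂

end Main

end Groth.Agent.Lib.Helper3.AmpleField
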