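import Groth.Agent.S6267

/-!
# Flatness in short exact sequences (no Tor)

For `0 → M' → M → M'' → 0` exact with `M''` flat:
* `M'` flat ⇒ `M` flat (`flat_of_exact`);
* `M` flat ⇒ `M'` flat (`flat_of_exact_left`).

Ring-level consequences for quotients by principal ideals generated by nonzerodivisors:
`A/(a)`, `A/(b)` flat over `R` ⇒ `A/(ab)` flat; `A/(ab)`, `A/(b)` flat ⇒ `A/(a)` flat.
-/

set_option autoImplicit false
universe u

namespace Groth.Agent.Lib.Helper3

open scoped TensorProduct
open Function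

section modules

variable {R : Type u} [CommRing R] {M' M M'' : Type u} [AddCommGroup M'] [Module R M']
  [AddCommGroup M] [Module R M] [AddCommGroup M''] [Module R M'']

theorem flat_quotient_range_of_exact (f : M' →ₗ[R] M) (g : M →ₗ[R] M'') (hfg : Exact f g)
    (hg : Surjective g) [Module.Flat R M''] : Module.Flat R (M ⧸ LinearMap.range f) := by
  rw [← LinearMap.exact_iff.mp hfg]
  exact Module.Flat.of_linearEquiv (g.quotKerEquivOfSurjective hg)

/-- Extensions of flat modules are flat. -/
theorem flat_of_exact (f : M' →ₗ[R] M) (g : M →ₗ[R] M'') (hf : Injective f) (hfg : Exact f g)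
    (hg : Surjective g) [Module.Flat R M'] [Module.Flat R M''] : Module.Flat R M := by
  have hq := flat_quotient_range_of_exact f g hfg hg
  rw [Module.Flat.iff_lTensor_preserves_injective_linearMap]
  intro N N' _ _ _ _ L hL
  rw [injective_iff_map_eq_zero]
  intro x hx
  have h1 : (L.lTensor M'') (g.rTensor N x) = 0 := by
    rw [← LinearMap.comp_apply, LinearMap.lTensor_comp_rTensor, ← LinearMap.rTensor_comp_lTensor,
      LinearMap.comp_apply, hx, map_zero]
  have h2 : g.rTensor N x = 0 :=
    (injective_iff_map_eq_zero _).mp (Module.Flat.lTensor_preserves_injective_linearMap L hL) _ h1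
  obtain ⟨y, rfl⟩ := (rTensor_exact N hfg hg x).mp h2
  have h3 : (f.rTensor N') (L.lTensor M' y) = 0 := by
    rw [← LinearMap.comp_apply, LinearMap.rTensor_comp_lTensor, ← LinearMap.lTensor_comp_rTensor,
      LinearMap.comp_apply, hx]
  have h4 : L.lTensor M' y = 0 :=
    (injective_iff_map_eq_zero _).mp
      (Groth.Agent.S6267.rTensor_injective_of_flat_quotient f hf N') _ h3
  have h5 : y = 0 :=
    (injective_iff_map_eq_zero _).mp (Module.Flat.lTensor_preserves_injective_linearMap L hL) _ h4
  rw [h5, map_zero]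

/-- A submodule of a flat module with flat quotient is flat. -/
theorem flat_of_exact_left (f : M' →ₗ[R] M) (g : M →ₗ[R] M'') (hf : Injective f) (hfg : Exact f g)
    (hg : Surjective g) [Module.Flat R M] [Module.Flat R M''] : Module.Flat R M' := by
  have hq := flat_quotient_range_of_exact f g hfg hg
  rw [Module.Flat.iff_lTensor_preserves_injective_linearMap]
  intro N N' _ _ _ _ L hL
  rw [injective_iff_map_eq_zero]
  intro y hy
  have h1 : (L.lTensor M) (f.rTensor N y) = 0 := by
    rw [← LinearMap.comp_apply, LinearMap.lTensor_comp_rTensor, ← LinearMap.rTensor_comp_lTensor,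
      LinearMap.comp_apply, hy, map_zero]
  have h2 : f.rTensor N y = 0 :=
    (injective_iff_map_eq_zero _).mp (Module.Flat.lTensor_preserves_injective_linearMap L hL) _ h1
  exact (injective_iff_map_eq_zero _).mp
    (Groth.Agent.S6267.rTensor_injective_of_flat_quotient f hf N) _ h2

end modules

section rings

variable {R A : Type u} [CommRing R] [CommRing A] [Algebra R A]

/-- multiplication by `b` as an `R`-linear map `A/(a) → A/(ab)`. -/
noncomputable def quotMul (a b : A) : (A ⧸ Ideal.span {a}) →ₗ[R] (A ⧸ Ideal.span {a * b}) :=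
  ((Ideal.span {a}).mapQ (Ideal.span {a * b}) (LinearMap.mulLeft A b) (by
    intro x hx
    obtain ⟨c, rfl⟩ := Ideal.mem_span_singleton'.mp hx
    rw [Submodule.mem_comap, LinearMap.mulLeft_apply]
    exact Ideal.mem_span_singleton'.mpr ⟨c, by ring⟩)).restrictScalars R

theorem quotMul_mk (a b x : A) :
    quotMul (R := R) a b (Ideal.Quotient.mk _ x) = Ideal.Quotient.mk _ (b * x) := rfl

/-- the projection `A/(ab) → A/(b)` as an `R`-linear map. -/
noncomputable def quotProj (a b : A) : (A ⧸ Ideal.span {a * b}) →ₗ[R] (A ⧸ Ideal.span {b}) :=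
  ((Ideal.span {a * b}).mapQ (Ideal.span {b}) LinearMap.id (by
    intro x hx
    obtain ⟨c, rfl⟩ := Ideal.mem_span_singleton'.mp hx
    rw [Submodule.mem_comap, LinearMap.id_apply]
    exact Ideal.mem_span_singleton'.mpr ⟨c * a, by ring⟩)).restrictScalars R

theorem quotProj_mk (a b x : A) :
    quotProj (R := R) a b (Ideal.Quotient.mk _ x) = Ideal.Quotient.mk _ x := rfl

theorem quotMul_injective (a b : A) (hb : b ∈ nonZeroDivisors A) :
    Injective (quotMul (R := R) a b) := by
  rw [injective_iff_map_eq_zero]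
  intro x hx
  obtain ⟨x, rfl⟩ := Ideal.Quotient.mk_surjective x
  rw [quotMul_mk, Ideal.Quotient.eq_zero_iff_mem, Ideal.mem_span_singleton'] at hx
  obtain ⟨c, hc⟩ := hx
  rw [Ideal.Quotient.eq_zero_iff_mem, Ideal.mem_span_singleton']
  refine ⟨c, ?_⟩
  have : (c * a - x) * b = 0 := by rw [sub_mul, mul_assoc, hc]; ring
  exact sub_eq_zero.mp (hb.2 _ this)

theorem quotProj_surjective (a b : A) : Surjective (quotProj (R := R) a b) := by
  intro y
  obtain ⟨y, rfl⟩ := Ideal.Quotient.mk_surjective y
  exact ⟨Ideal.Quotient.mk _ y, rfl⟩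

theorem quot_exact (a b : A) : Exact (quotMul (R := R) a b) (quotProj (R := R) a b) := by
  intro y
  obtain ⟨y, rfl⟩ := Ideal.Quotient.mk_surjective y
  rw [quotProj_mk, Ideal.Quotient.eq_zero_iff_mem, Ideal.mem_span_singleton']
  constructor
  · rintro ⟨c, rfl⟩
    exact ⟨Ideal.Quotient.mk _ c, by rw [quotMul_mk, mul_comm b c]⟩
  · rintro ⟨x, hx⟩
    obtain ⟨x, rfl⟩ := Ideal.Quotient.mk_surjective x
    rw [quotMul_mk, Ideal.Quotient.eq, Ideal.mem_span_singleton'] at hx
    obtain ⟨c, hc⟩ := hx
    refine ⟨x - c * a, ?_⟩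
    rw [sub_mul, mul_assoc, hc]
    ring

/-- `A/(a)` and `A/(b)` flat over `R`, `b` a nonzerodivisor ⇒ `A/(ab)` flat over `R`. -/
theorem flat_quotient_mul (a b : A) (hb : b ∈ nonZeroDivisors A)
    [Module.Flat R (A ⧸ Ideal.span {a})] [Module.Flat R (A ⧸ Ideal.span {b})] :
    Module.Flat R (A ⧸ Ideal.span {a * b}) :=
  flat_of_exact (quotMul a b) (quotProj a b) (quotMul_injective a b hb) (quot_exact a b)
    (quotProj_surjective a b)

/-- `A/(ab)` and `A/(b)` flat over `R`, `b` a nonzerodivisor ⇒ `A/(a)` flat over `R`. -/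
theorem flat_quotient_of_mul (a b : A) (hb : b ∈ nonZeroDivisors A)
    [Module.Flat R (A ⧸ Ideal.span {a * b})] [Module.Flat R (A ⧸ Ideal.span {b})] :
    Module.Flat R (A ⧸ Ideal.span {a}) :=
  flat_of_exact_left (quotMul a b) (quotProj a b) (quotMul_injective a b hb) (quot_exact a b)
    (quotProj_surjective a b)

end rings

section ringHom

variable {R A : Type u} [CommRing R] [CommRing A]

theorem ringHom_flat_quotient_iff (φ : R →+* A) (I : Ideal A) :
    ((Ideal.Quotient.mk I).comp φ).Flat ↔
      (letI := φ.toAlgebra; Module.Flat R (A ⧸ I)) := by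
  let _ := φ.toAlgebra
  rw [← RingHom.flat_algebraMap_iff]
  rfl

/-- Ring-hom form of `flat_quotient_mul`. -/
theorem ringHom_flat_quotient_mul (φ : R →+* A) (a b : A) (hb : b ∈ nonZeroDivisors A)
    (h1 : ((Ideal.Quotient.mk (Ideal.span {a})).comp φ).Flat)
    (h2 : ((Ideal.Quotient.mk (Ideal.span {b})).comp φ).Flat) :
    ((Ideal.Quotient.mk (Ideal.span {a * b})).comp φ).Flat := by
  let _ := φ.toAlgebra
  rw [ringHom_flat_quotient_iff] at h1 h2 ⊢
  exact flat_quotient_mul a b hb

/-- Ring-hom form of `flat_quotient_of_mul`. -/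
theorem ringHom_flat_quotient_of_mul (φ : R →+* A) (a b : A) (hb : b ∈ nonZeroDivisors A)
    (h1 : ((Ideal.Quotient.mk (Ideal.span {a * b})).comp φ).Flat)
    (h2 : ((Ideal.Quotient.mk (Ideal.span {b})).comp φ).Flat) :
    ((Ideal.Quotient.mk (Ideal.span {a})).comp φ).Flat := by
  let _ := φ.toAlgebra
  rw [ringHom_flat_quotient_iff] at h1 h2 ⊢
  exact flat_quotient_of_mul a b hb

end ringHom

end Groth.Agent.Lib.Helper3
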