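import Groth.Prelude.Def_BlowUp2
import Groth.Agent.Lib.Helper3.FlatSES
import Mathlib.AlgebraicGeometry.Morphisms.Flat
import Mathlib.AlgebraicGeometry.Morphisms.ClosedImmersion
import Mathlib.AlgebraicGeometry.IdealSheaf.Subscheme

/-!
# Relative effective Cartier divisors: chart-level tools

* `principal_basicOpen`: principal-by-nonzerodivisor passes to basic opens;
* `exists_affine_principal_le`: an effective Cartier ideal is principal on arbitrarily small affine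
  neighbourhoods;
* `exists_affine_principal_pair`: two effective Cartier ideals are simultaneously principal on small
  affine neighbourhoods;
* `flat_quotient_appLE_of_flat_subschemeι_comp`, `flat_subschemeι_comp_of_forall`: flatness of the
  closed subscheme over the base in terms of the quotient rings on affine charts.
-/

set_option autoImplicit false
universe u
open CategoryTheory CategoryTheory.Limits AlgebraicGeometry TopologicalSpace

namespace Groth.Agent.Lib.Helper3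

variable {X : Scheme.{u}}

/-- If `𝓘(U) = (a)` with `a` a nonzerodivisor, the same holds on every basic open of `U`. -/
theorem principal_basicOpen (𝓘 : X.IdealSheafData) (U : X.affineOpens) (a : Γ(X, U.1))
    (ha : a ∈ nonZeroDivisors Γ(X, U.1)) (hI : 𝓘.ideal U = Ideal.span {a}) (s : Γ(X, U.1)) :
    algebraMap Γ(X, U.1) Γ(X, X.basicOpen s) a ∈ nonZeroDivisors Γ(X, X.basicOpen s) ∧
      𝓘.ideal (X.affineBasicOpen s) =
        Ideal.span {algebraMap Γ(X, U.1) Γ(X, X.basicOpen s) a} := by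
  have hloc := U.2.isLocalization_basicOpen s
  constructor
  · exact IsLocalization.map_nonZeroDivisors_le (Submonoid.powers s) Γ(X, X.basicOpen s)
      (Submonoid.mem_map_of_mem _ ha)
  · rw [← 𝓘.map_ideal_basicOpen U s, hI, Ideal.map_span, Set.image_singleton]
    rfl

/-- An effective Cartier ideal is principal on arbitrarily small affine neighbourhoods. -/
theorem exists_affine_principal_le (𝓘 : X.IdealSheafData) (h : BlowUp.IsEffCartierIdeal 𝓘)
    (x : X) (O : X.Opens) (hxO : x ∈ O) :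
    ∃ U : X.affineOpens, x ∈ U.1 ∧ U.1 ≤ O ∧
      ∃ a : Γ(X, U.1), a ∈ nonZeroDivisors Γ(X, U.1) ∧ 𝓘.ideal U = Ideal.span {a} := by
  obtain ⟨U, hxU, a, ha, hI⟩ := h x
  obtain ⟨s, hsO, hxs⟩ := U.2.exists_basicOpen_le (V := O) ⟨x, hxO⟩ hxU
  obtain ⟨h1, h2⟩ := principal_basicOpen 𝓘 U a ha hI s
  exact ⟨X.affineBasicOpen s, hxs, hsO, _, h1, h2⟩

/-- Two effective Cartier ideals are simultaneously principal on small affine neighbourhoods. -/
theorem exists_affine_principal_pair (𝓘 𝓙 : X.IdealSheafData) (h𝓘 : BlowUp.IsEffCartierIdeal 𝓘)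
    (h𝓙 : BlowUp.IsEffCartierIdeal 𝓙) (x : X) (O : X.Opens) (hxO : x ∈ O) :
    ∃ U : X.affineOpens, x ∈ U.1 ∧ U.1 ≤ O ∧
      (∃ a : Γ(X, U.1), a ∈ nonZeroDivisors Γ(X, U.1) ∧ 𝓘.ideal U = Ideal.span {a}) ∧
      (∃ b : Γ(X, U.1), b ∈ nonZeroDivisors Γ(X, U.1) ∧ 𝓙.ideal U = Ideal.span {b}) := by
  obtain ⟨U₁, hxU₁, hU₁O, a, ha, hIa⟩ := exists_affine_principal_le 𝓘 h𝓘 x O hxO
  obtain ⟨U₂, hxU₂, b, hb, hJb⟩ := h𝓙 x
  obtain ⟨s, t, hst, hxs⟩ := exists_basicOpen_le_affine_inter U₁.2 U₂.2 x ⟨hxU₁, hxU₂⟩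
  obtain ⟨h1, h2⟩ := principal_basicOpen 𝓘 U₁ a ha hIa s
  obtain ⟨h3, h4⟩ := principal_basicOpen 𝓙 U₂ b hb hJb t
  have heq : X.affineBasicOpen s = X.affineBasicOpen t := Subtype.ext hst
  refine ⟨X.affineBasicOpen s, hxs, (X.basicOpen_le s).trans hU₁O, ⟨_, h1, h2⟩, ?_⟩
  rw [heq]
  exact ⟨_, h3, h4⟩

section flat

variable {S : Scheme.{u}} (f : X ⟶ S) (𝓘 : X.IdealSheafData)

theorem subschemeι_comp_appLE (V : S.Opens) (U : X.affineOpens) (e : U.1 ≤ f ⁻¹ᵁ V)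
    (e' : 𝓘.subschemeι ⁻¹ᵁ U.1 ≤ (𝓘.subschemeι ≫ f) ⁻¹ᵁ V) :
    ((𝓘.subschemeι ≫ f).appLE V (𝓘.subschemeι ⁻¹ᵁ U.1) e').hom =
      ((𝓘.subschemeObjIso U).inv.hom).comp
        ((Ideal.Quotient.mk (𝓘.ideal U)).comp (f.appLE V U.1 e).hom) := by
  have h1 : (𝓘.subschemeι ≫ f).appLE V (𝓘.subschemeι ⁻¹ᵁ U.1) e' =
      f.appLE V U.1 e ≫ 𝓘.subschemeι.appLE U.1 (𝓘.subschemeι ⁻¹ᵁ U.1) le_rfl :=
    (Scheme.Hom.appLE_comp_appLE _ _ _ _ _ _ _).symm
  rw [h1, Scheme.Hom.appLE_eq_app, 𝓘.subschemeι_app U]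
  rfl

theorem preimage_le_comp (V : S.Opens) (U : X.Opens) (e : U ≤ f ⁻¹ᵁ V) :
    𝓘.subschemeι ⁻¹ᵁ U ≤ (𝓘.subschemeι ≫ f) ⁻¹ᵁ V := by
  intro d hd
  exact e hd

/-- If the closed subscheme of `𝓘` is flat over `S`, the quotients `Γ(X,U)/𝓘(U)` are flat over
`Γ(S,V)` on all affine charts. -/
theorem flat_quotient_appLE_of_flat_subschemeι_comp [Flat (𝓘.subschemeι ≫ f)]
    (V : S.affineOpens) (U : X.affineOpens) (e : U.1 ≤ f ⁻¹ᵁ V.1) :
    ((Ideal.Quotient.mk (𝓘.ideal U)).comp (f.appLE V.1 U.1 e).hom).Flat := by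
  have hW : IsAffineOpen (𝓘.subschemeι ⁻¹ᵁ U.1) := U.2.preimage 𝓘.subschemeι
  have e' := preimage_le_comp f 𝓘 V.1 U.1 e
  have h1 : ((𝓘.subschemeι ≫ f).appLE V.1 (𝓘.subschemeι ⁻¹ᵁ U.1) e').hom.Flat :=
    HasRingHomProperty.appLE (P := @Flat) _ inferInstance V ⟨_, hW⟩ e'
  rw [subschemeι_comp_appLE f 𝓘 V.1 U e e'] at h1
  exact (RingHom.Flat.comp_iff_of_bijective_left
    (ConcreteCategory.bijective_of_isIso (𝓘.subschemeObjIso U).inv)).mp h1

/-- Local criterion for flatness of the closed subscheme of `𝓘` over `S` via affine charts. -/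
theorem flat_subschemeι_comp_of_forall
    (H : ∀ d : 𝓘.subscheme, ∃ (V : S.affineOpens) (U : X.affineOpens) (_ : 𝓘.subschemeι d ∈ U.1)
      (e : U.1 ≤ f ⁻¹ᵁ V.1), ((Ideal.Quotient.mk (𝓘.ideal U)).comp (f.appLE V.1 U.1 e).hom).Flat) :
    Flat (𝓘.subschemeι ≫ f) := by
  have hQ : RingHom.StableUnderCompositionWithLocalizationAwaySource RingHom.Flat :=
    fun R S T _ _ _ _ r _ g hg => (RingHom.Flat.holdsForLocalizationAway S r).comp hg
  rw [HasRingHomProperty.iff_exists_appLE (P := @Flat) hQ]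
  intro d
  obtain ⟨V, U, hdU, e, hflat⟩ := H d
  have hW : IsAffineOpen (𝓘.subschemeι ⁻¹ᵁ U.1) := U.2.preimage 𝓘.subschemeι
  have e' := preimage_le_comp f 𝓘 V.1 U.1 e
  refine ⟨V, ⟨_, hW⟩, hdU, e', ?_⟩
  rw [subschemeι_comp_appLE f 𝓘 V.1 U e e']
  exact (RingHom.Flat.comp_iff_of_bijective_left
    (ConcreteCategory.bijective_of_isIso (𝓘.subschemeObjIso U).inv)).mpr hflat

end flat

end Groth.Agent.Lib.Helper3
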