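import Groth.Agent.Lib.Helper3.InvCoh

/-!
# An invertible module is trivial on an affine neighbourhood of finitely many closed points
-/

set_option autoImplicit false
set_option linter.unusedSectionVars false
universe u
open CategoryTheory CategoryTheory.Limits AlgebraicGeometry TopologicalSpace Opposite
open Scheme.Modules

namespace Groth.Agent.Lib.Helper3.TrivFin

open QCSec InvGen

variable {X : Scheme.{u}}

theorem isUnit_rres_of_le_basicOpen {U V : X.Opens} (f : Γ(X, U)) (hVU : V ≤ U)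
    (h : V ≤ X.basicOpen f) : IsUnit (rres X hVU f) := by
  have h1 := RingedSpace.isUnit_res_basicOpen X.toRingedSpace f
  have h2 : rres X hVU f = rres X h (rres X (X.basicOpen_le f) f) := (rres_rres _ _ _).symm
  rw [h2]
  exact h1.map _

/-- a sum of functions, exactly one of which does not vanish at `x`, does not vanish at `x` -/
theorem mem_basicOpen_sum {V : X.Opens} {ι : Type*} [Fintype ι] [DecidableEq ι] (c : ι → Γ(X, V))
    (x : X) (i₀ : ι) (h1 : x ∈ X.basicOpen (c i₀))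
    (h2 : ∀ i, i ≠ i₀ → x ∉ X.basicOpen (c i)) : x ∈ X.basicOpen (∑ i, c i) := by
  have hxV : x ∈ V := X.basicOpen_le _ h1
  rw [Scheme.mem_basicOpen _ _ _ hxV] at h1 ⊢
  rw [← Finset.add_sum_erase Finset.univ c (Finset.mem_univ i₀), map_add]
  have h3 : X.presheaf.germ V x hxV (∑ i ∈ Finset.univ.erase i₀, c i) ∈
      IsLocalRing.maximalIdeal (X.presheaf.stalk x) := by
    rw [map_sum]
    refine Ideal.sum_mem _ fun i hi => ?_
    have hne : i ≠ i₀ := (Finset.mem_erase.mp hi).1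
    have := h2 i hne
    rw [Scheme.mem_basicOpen _ _ _ hxV] at this
    exact this
  by_contra hnu
  have h4 : X.presheaf.germ V x hxV (c i₀) + X.presheaf.germ V x hxV
      (∑ i ∈ Finset.univ.erase i₀, c i) ∈ IsLocalRing.maximalIdeal (X.presheaf.stalk x) := hnu
  have h5 := Ideal.sub_mem _ h4 h3
  rw [add_sub_cancel_right] at h5
  exact h5 h1

/-- a sum of functions does not vanish only where one of them does not vanish -/
theorem basicOpen_sum_le {V : X.Opens} {ι : Type*} [Fintype ι] (c : ι → Γ(X, V)) :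
    X.basicOpen (∑ i, c i) ≤ ⨆ i, X.basicOpen (c i) := by
  intro x hx
  have hxV : x ∈ V := X.basicOpen_le _ hx
  rw [Scheme.mem_basicOpen _ _ _ hxV] at hx
  by_contra hcon
  apply (show X.presheaf.germ V x hxV (∑ i, c i) ∈
      IsLocalRing.maximalIdeal (X.presheaf.stalk x) from ?_) hx
  rw [map_sum]
  refine Ideal.sum_mem _ fun i _ => ?_
  intro hu
  apply hcon
  exact Opens.mem_iSup.mpr ⟨i, (Scheme.mem_basicOpen _ _ _ hxV).mpr hu⟩

theorem res_sum (M : X.Modules) {A B : X.Opens} (h : A ≤ B) {ι : Type*} (T : Finset ι)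
    (g : ι → Γ(M, B)) : res M h (∑ i ∈ T, g i) = ∑ i ∈ T, res M h (g i) :=
  _root_.map_sum _ g T

theorem exists_affine_isGen_fintype {L : X.Modules} (hL : PicF.IsInvertible L) {ι : Type*}
    [Fintype ι] (pt : ι → X) (hinj : Function.Injective pt)
    (hcl : ∀ i, IsClosed ({pt i} : Set X))
    {U₀ : X.Opens} (hU₀ : IsAffineOpen U₀) (hU : ∀ i, pt i ∈ U₀) :
    ∃ (U : X.Opens) (e : Γ(L, U)), IsAffineOpen U ∧ (∀ i, pt i ∈ U) ∧ IsGen L U e := by
  classical
  haveI : L.IsQuasicoherent := InvCoh.isQuasicoherent_of_isInvertible hL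
  -- separating functions
  have hsep : ∀ i, ∃ r : Γ(X, U₀), pt i ∈ X.basicOpen r ∧
      ∀ j, j ≠ i → pt j ∉ X.basicOpen r := by
    intro i
    have hC : IsClosed (⋃ j : {j : ι // j ≠ i}, ({pt j.1} : Set X)) :=
      isClosed_iUnion_of_finite (fun j => hcl j.1)
    let V : X.Opens := ⟨_, hC.isOpen_compl⟩
    have hiV : pt i ∈ V := by
      intro hmem
      obtain ⟨j, hj⟩ := Set.mem_iUnion.mp hmem
      exact j.2 (hinj (Set.mem_singleton_iff.mp hj)).symm
    obtain ⟨r, hrV, hir⟩ := hU₀.exists_basicOpen_le ⟨pt i, hiV⟩ (hU i)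
    refine ⟨r, hir, fun j hj hjr => ?_⟩
    exact hrV hjr (Set.mem_iUnion.mpr ⟨⟨j, hj⟩, rfl⟩)
  choose r hr1 hr2 using hsep
  -- local generators
  have hloc : ∀ i, ∃ (h : Γ(X, U₀)) (a : Γ(L, X.basicOpen h)) (N : ℕ) (σ : Γ(L, U₀)),
      pt i ∈ X.basicOpen h ∧ IsGen L (X.basicOpen h) a ∧
      res L (X.basicOpen_le h) σ = (rres X (X.basicOpen_le h) h) ^ N • a := by
    intro i
    obtain ⟨W, e, hW, hxW, hWU, hg⟩ := exists_affine_isGen_le hL (pt i) U₀ (hU i)
    obtain ⟨h, hle, hx⟩ := hU₀.exists_basicOpen_le ⟨pt i, hxW⟩ (hU i)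
    obtain ⟨N, σ, hσ⟩ :=
      (isLocSec_of_isQuasicoherent L hU₀ h _ rfl (X.basicOpen_le h)).surj (res L hle e)
    exact ⟨h, res L hle e, N, σ, hx, hg.mono hle, hσ⟩
  choose h a N σ hx hg hσ using hloc
  -- the section
  let s : Γ(L, U₀) := ∑ i, r i • σ i
  have hb : ∀ i j, ∃ b : Γ(X, X.basicOpen (h i)),
      b • a i = res L (X.basicOpen_le (h i)) (σ j) :=
    fun i j => (hg i).self.exists_coord _
  choose b hb using hb
  let c : ∀ i, Γ(X, X.basicOpen (h i)) :=
    fun i => ∑ j, rres X (X.basicOpen_le (h i)) (r j) * b i j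
  have hs : ∀ i, res L (X.basicOpen_le (h i)) s = c i • a i := by
    intro i
    change res L _ (∑ j, r j • σ j) = (∑ j, _) • a i
    rw [res_sum, Finset.sum_smul]
    refine Finset.sum_congr rfl fun j _ => ?_
    rw [res_smul, mul_smul, hb]
  have hbii : ∀ i, IsUnit (b i i) := by
    intro i
    have h1 : b i i = (rres X (X.basicOpen_le (h i)) (h i)) ^ N i :=
      (hg i).self.smul_inj ((hb i i).trans (hσ i))
    rw [h1]
    exact (isUnit_rres_of_le_basicOpen (h i) (X.basicOpen_le _) le_rfl).pow _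
  have hpt : ∀ i, pt i ∈ X.basicOpen (c i) := by
    intro i
    refine mem_basicOpen_sum (fun j => rres X (X.basicOpen_le (h i)) (r j) * b i j) (pt i) i ?_ ?_
    · rw [Scheme.basicOpen_mul, Scheme.basicOpen_res, Scheme.basicOpen_of_isUnit _ (hbii i)]
      exact ⟨⟨hx i, hr1 i⟩, hx i⟩
    · intro j hj hmem
      rw [Scheme.basicOpen_mul, Scheme.basicOpen_res] at hmem
      exact hr2 j i hj.symm hmem.1.2
  have hG : ∀ i, IsGen L (X.basicOpen (c i))
      (res L ((X.basicOpen_le (c i)).trans (X.basicOpen_le (h i))) s) := by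
    intro i
    have h1 : res L ((X.basicOpen_le (c i)).trans (X.basicOpen_le (h i))) s =
        rres X (X.basicOpen_le (c i)) (c i) • res L (X.basicOpen_le (c i)) (a i) := by
      rw [← res_res L (X.basicOpen_le (c i)) (X.basicOpen_le (h i)), hs, res_smul]
    rw [h1]
    exact ((hg i).mono (X.basicOpen_le (c i))).smul_unit
      (isUnit_rres_of_le_basicOpen (c i) _ le_rfl)
  have hk : ∀ i, ∃ k : Γ(X, U₀), X.basicOpen k ≤ X.basicOpen (c i) ∧ pt i ∈ X.basicOpen k :=
    fun i => hU₀.exists_basicOpen_le ⟨pt i, hpt i⟩ (hU i)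
  choose k hk1 hk2 using hk
  let f : Γ(X, U₀) := ∑ i, r i * k i
  refine ⟨X.basicOpen f, res L (X.basicOpen_le f) s, hU₀.basicOpen f, ?_, ?_⟩
  · intro i
    refine mem_basicOpen_sum (fun j => r j * k j) (pt i) i ?_ ?_
    · rw [Scheme.basicOpen_mul]
      exact ⟨hr1 i, hk2 i⟩
    · intro j hj hmem
      rw [Scheme.basicOpen_mul] at hmem
      exact hr2 j i hj.symm hmem.1
  · apply isGen_of_local
    intro z hz
    obtain ⟨i, hi⟩ := Opens.mem_iSup.mp (basicOpen_sum_le (fun j => r j * k j) hz)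
    rw [Scheme.basicOpen_mul] at hi
    have hzG : z ∈ X.basicOpen (c i) := hk1 i hi.2
    refine ⟨X.basicOpen f ⊓ X.basicOpen (c i), inf_le_left, ⟨hz, hzG⟩, ?_⟩
    have := (hG i).mono (inf_le_right : X.basicOpen f ⊓ X.basicOpen (c i) ≤ X.basicOpen (c i))
    rw [res_res] at this ⊢
    exact this

/-- an invertible module is trivial on an affine open neighbourhood of finitely many closed
points lying in a common affine open -/
theorem exists_affine_trivial {L : X.Modules} (hL : PicF.IsInvertible L) (T : Finset X)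
    (hT : ∀ x ∈ T, IsClosed ({x} : Set X))
    (hU : ∃ U : X.Opens, IsAffineOpen U ∧ ∀ x ∈ T, x ∈ U) :
    ∃ U : X.Opens, IsAffineOpen U ∧ (∀ x ∈ T, x ∈ U) ∧
      Nonempty (L.restrict U.ι ≅ Coh.structureModule (↑U : Scheme.{u})) := by
  obtain ⟨U₀, hU₀, hTU⟩ := hU
  obtain ⟨U, e, hUa, hptU, hg⟩ := exists_affine_isGen_fintype hL
    (ι := {x : X // x ∈ T}) (fun x => x.1) Subtype.val_injective (fun x => hT x.1 x.2) hU₀
    (fun x => hTU x.1 x.2)
  haveI := isIso_homOfSec hg
  exact ⟨U, hUa, fun x hx => hptU ⟨x, hx⟩, ⟨(asIso (homOfSec L U e)).symm⟩⟩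

end Groth.Agent.Lib.Helper3.TrivFin
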