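import Groth.Agent.Lib.Helper3.PbBasic
import Groth.Agent.Lib.Helper3.FreeSec
import Groth.Agent.Lib.Helper3.InvRestrict

/-!
# The counit `f^* f_* F ⟶ F` and global generation over the preimages of opens
-/

set_option autoImplicit false
universe u
open CategoryTheory CategoryTheory.Limits AlgebraicGeometry TopologicalSpace Opposite
open Scheme.Modules

namespace Groth.Agent.Lib.Helper3.CounitGG

open QCSec InvGen FreeSec PbBasic InvRestrict

variable {X Y : Scheme.{u}}

/-- the sections `σ i` of `M` over `W` span `M` locally on `W` -/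
def IsLocSpannedOn (M : X.Modules) (W : X.Opens) {I : Type u} (σ : I → Γ(M, W)) : Prop :=
  ∀ (W' : X.Opens) (hW' : W' ≤ W) (s : Γ(M, W')) (x : X), x ∈ W' →
    ∃ (W'' : X.Opens) (h : W'' ≤ W'), x ∈ W'' ∧
      res M h s ∈ Submodule.span Γ(X, W'') (Set.range (fun i => res M (h.trans hW') (σ i)))

theorem isLocSpannedOn_of_restrict (M : X.Modules) (W : X.Opens) {I : Type u}
    (σ' : I → Γ(M.restrict W.ι, ⊤)) (h : IsLocSpannedBy (M.restrict W.ι) σ') :
    IsLocSpannedOn M W (fun i => res M (le_of_eq W.ι_image_top.symm)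
      (show Γ(M, W.ι ''ᵁ ⊤) from σ' i)) := by
  intro W' hW' s x hx
  have hWe : W.ι ''ᵁ (W.ι ⁻¹ᵁ W') = W' := ι_image_preimage_of_le hW'
  obtain ⟨V'', hV'', hxV'', hspan⟩ := h (W.ι ⁻¹ᵁ W')
    (show Γ(M.restrict W.ι, W.ι ⁻¹ᵁ W') from res M (le_of_eq hWe) s) ⟨x, hW' hx⟩ hx
  have hle : W.ι ''ᵁ V'' ≤ W' := (W.ι.image_mono hV'').trans (le_of_eq hWe)
  refine ⟨W.ι ''ᵁ V'', hle, ⟨⟨x, hW' hx⟩, hxV'', rfl⟩, ?_⟩
  -- transport the span
  have key : ∀ m : Γ(M.restrict W.ι, V''),
      m ∈ Submodule.span Γ((W : Scheme.{u}), V'')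
        (Set.range (fun i => res (M.restrict W.ι) (le_top : V'' ≤ ⊤) (σ' i))) →
      (show Γ(M, W.ι ''ᵁ V'') from m) ∈ Submodule.span Γ(X, W.ι ''ᵁ V'')
        (Set.range (fun i => res M (hle.trans hW') (res M (le_of_eq W.ι_image_top.symm)
          (show Γ(M, W.ι ''ᵁ ⊤) from σ' i)))) := by
    intro m hm
    induction hm using Submodule.span_induction with
    | mem m hm =>
      obtain ⟨i, rfl⟩ := hm
      apply Submodule.subset_span
      refine ⟨i, ?_⟩
      exact (res_res M _ _ _).trans rfl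
    | zero => exact Submodule.zero_mem _
    | add a b _ _ ha hb => exact Submodule.add_mem _ ha hb
    | smul r a _ ha =>
      rw [restrict_smul']
      exact Submodule.smul_mem _ _ ha
  have h2 := key _ hspan
  have h3 : (show Γ(M, W.ι ''ᵁ V'') from res (M.restrict W.ι) hV''
      (show Γ(M.restrict W.ι, W.ι ⁻¹ᵁ W') from res M (le_of_eq hWe) s)) = res M hle s := by
    rw [res_restrict]
    exact res_res M _ _ s
  rw [h3] at h2
  exact h2

theorem exists_isLocSpannedOn_of_isGloballyGenerated_restrict {M : X.Modules} {W : X.Opens}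
    (h : Curv2.IsGloballyGenerated (M.restrict W.ι)) :
    ∃ (I : Type u) (σ : I → Γ(M, W)), IsLocSpannedOn M W σ := by
  obtain ⟨I, σ', hσ'⟩ := exists_isLocSpannedBy_of_isGloballyGenerated h
  exact ⟨I, _, isLocSpannedOn_of_restrict M W σ' hσ'⟩

/-- right triangle identity on sections -/
theorem counit_pull (f : X ⟶ Y) (F : X.Modules) (V : Y.Opens) (σ : Γ(F, f ⁻¹ᵁ V)) :
    ((pullbackPushforwardAdjunction f).counit.app F).app (f ⁻¹ᵁ V)
      (pull f ((pushforward f).obj F) V (show Γ((pushforward f).obj F, V) from σ)) = σ := by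
  have h := (pullbackPushforwardAdjunction f).right_triangle_components F
  have h2 := congrArg (fun ψ => (Scheme.Modules.Hom.app ψ V)
    (show Γ((pushforward f).obj F, V) from σ)) h
  exact h2

theorem epi_counit_of_isLocSpannedOn (f : X ⟶ Y) (F : X.Modules)
    (h : ∀ x : X, ∃ V : Y.Opens, f x ∈ V ∧
      ∃ (I : Type u) (σ : I → Γ(F, f ⁻¹ᵁ V)), IsLocSpannedOn F (f ⁻¹ᵁ V) σ) :
    Epi ((pullbackPushforwardAdjunction f).counit.app F) := by
  apply QCExact.epi_of_locally_surjective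
  intro W s x hx
  obtain ⟨V, hxV, I, σ, hσ⟩ := h x
  have hW₁ : W ⊓ f ⁻¹ᵁ V ≤ f ⁻¹ᵁ V := inf_le_right
  obtain ⟨W'', hW'', hxW'', hspan⟩ := hσ (W ⊓ f ⁻¹ᵁ V) hW₁ (res F inf_le_left s) x ⟨hx, hxV⟩
  refine ⟨W'', hW''.trans inf_le_left, hxW'', ?_⟩
  set c := (pullbackPushforwardAdjunction f).counit.app F with hc
  have hle : Submodule.span Γ(X, W'') (Set.range (fun i => res F (hW''.trans hW₁) (σ i))) ≤
      LinearMap.range (GlobGen.appLin c W'') := by
    rw [Submodule.span_le]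
    rintro _ ⟨i, rfl⟩
    refine ⟨res _ (hW''.trans hW₁) (pull f ((pushforward f).obj F) V
      (show Γ((pushforward f).obj F, V) from σ i)), ?_⟩
    change c.app W'' _ = _
    rw [QCExact.app_res', hc, counit_pull]
    rfl
  obtain ⟨t, ht⟩ := hle hspan
  exact ⟨t, ht.trans (res_res F hW'' inf_le_left s)⟩

theorem epi_counit_of_isGloballyGenerated_restrict (f : X ⟶ Y) (F : X.Modules)
    (h : ∀ x : X, ∃ V : Y.Opens, f x ∈ V ∧ Curv2.IsGloballyGenerated (F.restrict (f ⁻¹ᵁ V).ι)) :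
    Epi ((pullbackPushforwardAdjunction f).counit.app F) := by
  apply epi_counit_of_isLocSpannedOn
  intro x
  obtain ⟨V, hxV, hgg⟩ := h x
  exact ⟨V, hxV, exists_isLocSpannedOn_of_isGloballyGenerated_restrict hgg⟩

end Groth.Agent.Lib.Helper3.CounitGG
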