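import Mathlib
import Groth.Prelude.Def_LambdaRing
import Groth.Agent.Lib.Helper6.LambdaBasic

/-!
# Adams operations on λ-rings with positive structure (helper3)

* `adams_add`, `adams_zero`, `adams_neg`, `adams_sub` : additivity of `ψ^j` (no splitting needed).
* `adams_line` : `ψ^j u = u^j` for a line element.
* `map_adams` : `ψ^j` commutes with extensions.
* `exists_split`, `exists_split₂` : splitting of one/two positive elements in a common extension.
* `adams_mul`, `adams_one`, `adamsHom` : with the splitting property `ψ^j` is a ring hom.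
* `adams_adams` : `ψ^i ψ^j = ψ^(i j)`.
* `lamSeries_sum_lines`, `aug_sum_lines`.
-/

set_option autoImplicit false
open LambdaRing PowerSeries
open Groth.Agent.Lib.Helper6.LambdaBasic

namespace Groth.Agent.Lib.Helper3.LambdaAdams

universe u
variable {K : Type u} [CommRing K] [LambdaOps K]

lemma invOfUnit_one_eq {φ ψ : PowerSeries K} (hc : constantCoeff φ = 1) (h : φ * ψ = 1) :
    φ.invOfUnit 1 = ψ := by
  have h1 : invOfUnit φ 1 * φ = 1 := invOfUnit_mul φ 1 (by rw [hc, Units.val_one])
  calc invOfUnit φ 1 = invOfUnit φ 1 * (φ * ψ) := by rw [h, mul_one]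
    _ = (invOfUnit φ 1 * φ) * ψ := by ring
    _ = ψ := by rw [h1, one_mul]

/-- `λ_{-t}(x)`. -/
noncomputable def negLam (x : K) : PowerSeries K := rescale (-1 : K) (lamSeries x)

lemma coeff_negLam (x : K) (k : ℕ) : coeff k (negLam x) = (-1) ^ k * LambdaOps.lam k x := by
  rw [negLam, coeff_rescale, lamSeries, coeff_mk]

lemma constantCoeff_negLam (x : K) : constantCoeff (negLam x) = 1 := by
  rw [← coeff_zero_eq_constantCoeff_apply, coeff_negLam, pow_zero, one_mul, LambdaOps.lam_zero]

lemma negLam_add (x y : K) : negLam (x + y) = negLam x * negLam y := by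
  rw [negLam, lamSeries_add, map_mul]; rfl

lemma negLam_mul_inv (x : K) : negLam x * (negLam x).invOfUnit 1 = 1 :=
  mul_invOfUnit _ 1 (by rw [constantCoeff_negLam, Units.val_one])

lemma adamsSeries_eq (P : PosStructure K) (x : K) :
    adamsSeries P x =
      C (P.aug x : K) - X * derivative K (negLam x) * (negLam x).invOfUnit 1 := rfl

lemma adamsSeries_add (P : PosStructure K) (x y : K) :
    adamsSeries P (x + y) = adamsSeries P x + adamsSeries P y := by
  rw [adamsSeries_eq, adamsSeries_eq, adamsSeries_eq, negLam_add]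
  have hinv : (negLam x * negLam y).invOfUnit 1 =
      (negLam x).invOfUnit 1 * (negLam y).invOfUnit 1 := by
    apply invOfUnit_one_eq
    · rw [map_mul, constantCoeff_negLam, constantCoeff_negLam, mul_one]
    · calc negLam x * negLam y * ((negLam x).invOfUnit 1 * (negLam y).invOfUnit 1)
          = (negLam x * (negLam x).invOfUnit 1) * (negLam y * (negLam y).invOfUnit 1) := by ring
        _ = 1 := by rw [negLam_mul_inv, negLam_mul_inv, mul_one]
  have haug : ((P.aug (x + y) : ℤ) : K) = (P.aug x : K) + (P.aug y : K) := by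
    rw [map_add, Int.cast_add]
  rw [hinv, Derivation.leibniz, haug, map_add]
  simp only [smul_eq_mul]
  have hx := negLam_mul_inv x
  have hy := negLam_mul_inv y
  linear_combination (-(X * derivative K (negLam y) * (negLam y).invOfUnit 1)) * hx +
    (-(X * derivative K (negLam x) * (negLam x).invOfUnit 1)) * hy

lemma adams_add (P : PosStructure K) (j : ℕ) (x y : K) :
    adams P j (x + y) = adams P j x + adams P j y := by
  unfold adams; rw [adamsSeries_add, map_add]

lemma adams_zero (P : PosStructure K) (j : ℕ) : adams P j 0 = 0 := by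
  have h := adams_add P j 0 0
  rw [add_zero] at h
  have h' : adams P j 0 + adams P j 0 = adams P j 0 + 0 := by rw [add_zero]; exact h.symm
  exact add_left_cancel h'

lemma adams_neg (P : PosStructure K) (j : ℕ) (x : K) : adams P j (-x) = -adams P j x := by
  have h := adams_add P j x (-x)
  rw [add_neg_cancel, adams_zero] at h
  exact eq_neg_of_add_eq_zero_right h.symm

lemma adams_sub (P : PosStructure K) (j : ℕ) (x y : K) :
    adams P j (x - y) = adams P j x - adams P j y := by
  rw [sub_eq_add_neg, adams_add, adams_neg, ← sub_eq_add_neg]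

lemma adams_line (P : PosStructure K) (u : K) (hu : P.IsLine u) (j : ℕ) :
    adams P j u = u ^ j := by
  have hlam : negLam u = 1 - C u * X := by
    ext k
    rw [coeff_negLam]
    rcases k with _ | _ | k
    · simp [LambdaOps.lam_zero]
    · simp [LambdaOps.lam_one]
    · rw [P.lam_eq_zero u hu.1 (k + 2) (by rw [hu.2]; push_cast; omega)]
      simp [coeff_one, coeff_X]
  have hψ : (1 - C u * X) * mk (fun k => u ^ k) = 1 := by
    ext k
    rw [sub_mul, one_mul, mul_assoc, map_sub, coeff_C_mul, coeff_mk]
    rcases k with _ | k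
    · rw [coeff_zero_X_mul]; simp
    · rw [coeff_succ_X_mul, coeff_mk, coeff_one, if_neg (Nat.succ_ne_zero k), pow_succ]; ring
  have hinv : (1 - C u * X : PowerSeries K).invOfUnit 1 = mk (fun k => u ^ k) := by
    apply invOfUnit_one_eq _ hψ
    rw [← hlam, constantCoeff_negLam]
  have hder : derivative K (1 - C u * X : PowerSeries K) = -C u := by
    rw [map_sub, Derivation.map_one_eq_zero, zero_sub, Derivation.leibniz, derivative_X,
      derivative_C]
    simp
  unfold adams
  rw [adamsSeries_eq, hlam, hinv, hder, hu.2]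
  rcases j with _ | j
  · simp
  · have h1 : X * -(C u) * mk (fun k => u ^ k) = -(X * (C u * mk fun k => u ^ k)) := by ring
    rw [map_sub, h1, map_neg, coeff_succ_X_mul, coeff_C_mul, coeff_mk, Int.cast_one, map_one,
      coeff_one, if_neg (Nat.succ_ne_zero j), pow_succ]
    ring

lemma adams_one (P : PosStructure K) (j : ℕ) : adams P j 1 = 1 := by
  rw [adams_line P 1 (one_isLine P) j, one_pow]

lemma adams_sum_lines (P : PosStructure K) (j : ℕ) (s : Multiset K)
    (hs : ∀ u ∈ s, P.IsLine u) : adams P j s.sum = (s.map (· ^ j)).sum := by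
  induction s using Multiset.induction_on with
  | empty => simp [adams_zero]
  | cons a s ih =>
    rw [Multiset.sum_cons, adams_add, Multiset.map_cons, Multiset.sum_cons,
      adams_line P a (hs a (Multiset.mem_cons_self a s)) j,
      ih (fun u hu => hs u (Multiset.mem_cons_of_mem hu))]

lemma aug_sum_lines (P : PosStructure K) (s : Multiset K)
    (hs : ∀ u ∈ s, P.IsLine u) : P.aug s.sum = (Multiset.card s : ℤ) := by
  induction s using Multiset.induction_on with
  | empty => simp
  | cons a s ih =>
    rw [Multiset.sum_cons, map_add, (hs a (Multiset.mem_cons_self a s)).2,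
      ih (fun u hu => hs u (Multiset.mem_cons_of_mem hu)), Multiset.card_cons]
    push_cast; ring

lemma lamSeries_sum_lines (P : PosStructure K) (s : Multiset K)
    (hs : ∀ u ∈ s, P.IsLine u) :
    lamSeries s.sum = (s.map (fun u => (1 + C u * X : PowerSeries K))).prod := by
  induction s using Multiset.induction_on with
  | empty => simp [lamSeries_zero]
  | cons a s ih =>
    rw [Multiset.sum_cons, lamSeries_add, Multiset.map_cons, Multiset.prod_cons,
      lamSeries_line P (hs a (Multiset.mem_cons_self a s)),
      ih (fun u hu => hs u (Multiset.mem_cons_of_mem hu))]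

lemma adams_sum_mul_line (P : PosStructure K) (j : ℕ) (s : Multiset K)
    (hs : ∀ u ∈ s, P.IsLine u) (v : K) (hv : P.IsLine v) :
    adams P j (s.sum * v) = adams P j s.sum * v ^ j := by
  induction s using Multiset.induction_on with
  | empty => simp [adams_zero]
  | cons a s ih =>
    have ha := hs a (Multiset.mem_cons_self a s)
    rw [Multiset.sum_cons, add_mul, adams_add, adams_add,
      ih (fun u hu => hs u (Multiset.mem_cons_of_mem hu)),
      adams_line P (a * v) (isLine_mul P ha hv) j, adams_line P a ha j, mul_pow]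
    ring

lemma adams_sum_mul_sum (P : PosStructure K) (j : ℕ) (s t : Multiset K)
    (hs : ∀ u ∈ s, P.IsLine u) (ht : ∀ u ∈ t, P.IsLine u) :
    adams P j (s.sum * t.sum) = adams P j s.sum * adams P j t.sum := by
  induction t using Multiset.induction_on with
  | empty => simp [adams_zero]
  | cons v t ih =>
    have hv := ht v (Multiset.mem_cons_self v t)
    rw [Multiset.sum_cons, mul_add, adams_add, adams_add,
      ih (fun u hu => ht u (Multiset.mem_cons_of_mem hu)),
      adams_sum_mul_line P j s hs v hv, adams_line P v hv j]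
    ring

section ext

variable {K' : Type u} [CommRing K'] [LambdaOps K']

lemma map_negLam {f : K →+* K'} (hf : IsLambdaHom f) (x : K) :
    PowerSeries.map f (negLam x) = negLam (f x) := by
  ext k
  rw [coeff_map, coeff_negLam, coeff_negLam, map_mul, map_pow, map_neg, map_one, hf]

lemma map_derivative (f : K →+* K') (φ : PowerSeries K) :
    PowerSeries.map f (derivative K φ) = derivative K' (PowerSeries.map f φ) := by
  ext k
  rw [coeff_map, coeff_derivative, coeff_derivative, coeff_map, map_mul, map_add, map_natCast,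
    map_one]

lemma map_invOfUnit_one (f : K →+* K') {φ : PowerSeries K} (hc : constantCoeff φ = 1) :
    PowerSeries.map f (φ.invOfUnit 1) = (PowerSeries.map f φ).invOfUnit 1 := by
  symm
  apply invOfUnit_one_eq
  · rw [← coeff_zero_eq_constantCoeff_apply, coeff_map, coeff_zero_eq_constantCoeff_apply, hc,
      map_one]
  · rw [← map_mul, mul_invOfUnit φ 1 (by rw [hc, Units.val_one]), map_one]

lemma map_adamsSeries {P : PosStructure K} {P' : PosStructure K'} {f : K →+* K'}
    (hext : IsExtension P P' f) (x : K) :
    PowerSeries.map f (adamsSeries P x) = adamsSeries P' (f x) := by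
  rw [adamsSeries_eq, adamsSeries_eq, map_sub, map_mul, map_mul, map_X, map_C, map_derivative,
    map_invOfUnit_one f (constantCoeff_negLam x), map_negLam hext.isLambdaHom, hext.aug_comp,
    map_intCast]

lemma map_adams {P : PosStructure K} {P' : PosStructure K'} {f : K →+* K'}
    (hext : IsExtension P P' f) (j : ℕ) (x : K) :
    f (adams P j x) = adams P' j (f x) := by
  unfold adams
  rw [← map_adamsSeries hext, coeff_map]

lemma isLine_map {P : PosStructure K} {P' : PosStructure K'} {f : K →+* K'}
    (hext : IsExtension P P' f) {u : K} (hu : P.IsLine u) : P'.IsLine (f u) :=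
  ⟨hext.pos_subset u hu.1, by rw [hext.aug_comp, hu.2]⟩

lemma isExtension_comp {K'' : Type u} [CommRing K''] [LambdaOps K'']
    {P : PosStructure K} {P' : PosStructure K'} {P'' : PosStructure K''}
    {f : K →+* K'} {g : K' →+* K''} (hf : IsExtension P P' f) (hg : IsExtension P' P'' g) :
    IsExtension P P'' (g.comp f) where
  isLambdaHom i x := by
    rw [RingHom.comp_apply, RingHom.comp_apply, hf.isLambdaHom, hg.isLambdaHom]
  injective := hg.injective.comp hf.injective
  aug_comp x := by rw [RingHom.comp_apply, hg.aug_comp, hf.aug_comp]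
  pos_subset e he := hg.pos_subset _ (hf.pos_subset e he)

end ext

lemma exists_split {P : PosStructure K} (hK : HasSplitting K P) (e : K) (he : e ∈ P.pos) :
    ∃ (L : PosLambdaRing.{u}) (f : K →+* L.carrier), IsExtension P L.posStr f ∧
      HasSplitting L.carrier L.posStr ∧
      ∃ s : Multiset L.carrier, (∀ u ∈ s, L.posStr.IsLine u) ∧ s.sum = f e := by
  obtain ⟨C, hKC, hC⟩ := hK
  obtain ⟨L', hL', f, hf, s, hs, hsum⟩ := hC ⟨K, P⟩ hKC e he
  exact ⟨L', f, hf, ⟨C, hL', hC⟩, s, hs, hsum⟩

lemma exists_split₂ {P : PosStructure K} (hK : HasSplitting K P) (x y : K) (hx : x ∈ P.pos)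
    (hy : y ∈ P.pos) :
    ∃ (L : PosLambdaRing.{u}) (f : K →+* L.carrier), IsExtension P L.posStr f ∧
      ∃ s t : Multiset L.carrier, (∀ u ∈ s, L.posStr.IsLine u) ∧ (∀ u ∈ t, L.posStr.IsLine u) ∧
        s.sum = f x ∧ t.sum = f y := by
  obtain ⟨L₁, f₁, hf₁, hL₁, s₁, hs₁, hsum₁⟩ := exists_split hK x hx
  obtain ⟨L₂, f₂, hf₂, -, t, ht, hsum₂⟩ := exists_split hL₁ (f₁ y) (hf₁.pos_subset y hy)
  refine ⟨L₂, f₂.comp f₁, isExtension_comp hf₁ hf₂, s₁.map f₂, t, ?_, ht, ?_, hsum₂⟩
  · intro u hu
    obtain ⟨v, hv, rfl⟩ := Multiset.mem_map.mp hu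
    exact isLine_map hf₂ (hs₁ v hv)
  · rw [← map_multiset_sum, hsum₁, RingHom.comp_apply]

lemma adams_mul_pos {P : PosStructure K} (hK : HasSplitting K P) (j : ℕ) (x y : K)
    (hx : x ∈ P.pos) (hy : y ∈ P.pos) :
    adams P j (x * y) = adams P j x * adams P j y := by
  obtain ⟨L, f, hf, s, t, hs, ht, hsx, hty⟩ := exists_split₂ hK x y hx hy
  apply hf.injective
  rw [map_adams hf, map_mul, map_mul, map_adams hf, map_adams hf, ← hsx, ← hty]
  exact adams_sum_mul_sum L.posStr j s t hs ht

lemma adams_mul {P : PosStructure K} (hK : HasSplitting K P) (j : ℕ) (x y : K) :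
    adams P j (x * y) = adams P j x * adams P j y := by
  obtain ⟨e, e', he, he', rfl⟩ := P.exists_sub x
  obtain ⟨g, g', hg, hg', rfl⟩ := P.exists_sub y
  have h1 : (e - e') * (g - g') = e * g - e * g' - e' * g + e' * g' := by ring
  rw [h1, adams_add, adams_sub, adams_sub, adams_sub, adams_sub, adams_mul_pos hK j e g he hg,
    adams_mul_pos hK j e g' he hg', adams_mul_pos hK j e' g he' hg,
    adams_mul_pos hK j e' g' he' hg']
  ring

/-- With the splitting property, `ψ^j` is a ring homomorphism. -/
noncomputable def adamsHom {P : PosStructure K} (hK : HasSplitting K P) (j : ℕ) : K →+* K where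
  toFun := adams P j
  map_one' := adams_one P j
  map_mul' := adams_mul hK j
  map_zero' := adams_zero P j
  map_add' := adams_add P j

lemma adams_adams_pos {P : PosStructure K} (hK : HasSplitting K P) (i j : ℕ) (e : K)
    (he : e ∈ P.pos) : adams P i (adams P j e) = adams P (i * j) e := by
  obtain ⟨L, f, hf, -, s, hs, hsum⟩ := exists_split hK e he
  apply hf.injective
  rw [map_adams hf, map_adams hf, map_adams hf, ← hsum, adams_sum_lines L.posStr j s hs,
    adams_sum_lines L.posStr (i * j) s hs]
  have hs' : ∀ u ∈ s.map (· ^ j), L.posStr.IsLine u := by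
    intro u hu
    obtain ⟨v, hv, rfl⟩ := Multiset.mem_map.mp hu
    exact isLine_pow L.posStr (hs v hv) j
  rw [adams_sum_lines L.posStr i _ hs', Multiset.map_map]
  congr 1
  apply Multiset.map_congr rfl
  intro u _
  simp only [Function.comp_apply]
  rw [← pow_mul, mul_comm j i]

lemma adams_adams {P : PosStructure K} (hK : HasSplitting K P) (i j : ℕ) (x : K) :
    adams P i (adams P j x) = adams P (i * j) x := by
  obtain ⟨e, e', he, he', rfl⟩ := P.exists_sub x
  rw [adams_sub, adams_sub, adams_sub, adams_adams_pos hK i j e he, adams_adams_pos hK i j e' he']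

end Groth.Agent.Lib.Helper3.LambdaAdams
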