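import Mathlib.Topology.Sheaves.Functors
import Mathlib.Topology.Sheaves.Stalks
import Mathlib.Topology.Sheaves.SheafOfFunctions
import Mathlib.Topology.Sheaves.SheafCondition.Sites
import Mathlib.CategoryTheory.Adjunction.Whiskering
import Mathlib.CategoryTheory.Adjunction.FullyFaithful
import Mathlib.CategoryTheory.Adjunction.Opposites
import Mathlib.CategoryTheory.Adjunction.Triple
import Mathlib.CategoryTheory.Adjunction.Restrict
import Mathlib.CategoryTheory.Functor.ReflectsIso.Basic

/-! Restriction of sheaves to an open subspace: the adjoint triple `j_! ⊣ j^* ⊣ j_*`,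
full faithfulness of `j_*` and `j_!`, and the essential image of `j_!` for sheaves of sets. -/

set_option autoImplicit false
set_option linter.unusedVariables false
universe u v w
open CategoryTheory TopologicalSpace Opposite Topology

namespace Groth.Agent.Lib.Helper3.OpenEmbSheaf

variable {X : TopCat.{u}} (U : Opens X)

/-- The inclusion of an open subspace. -/
abbrev j : TopCat.of U ⟶ X := TopCat.ofHom ⟨_, continuous_subtype_val⟩

lemma hj : IsOpenEmbedding (j U) := U.isOpenEmbedding

/-- The image functor on opens. -/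
abbrev Fj : Opens (TopCat.of U) ⥤ Opens X := (hj U).isOpenMap.functor

/-- `j(-) ⊣ j⁻¹` on opens. -/
abbrev adjO : Fj U ⊣ Opens.map (j U) := (hj U).isOpenMap.adjunction

lemma map_Fj (V : Opens (TopCat.of U)) : (Opens.map (j U)).obj ((Fj U).obj V) = V :=
  Opens.ext (Set.preimage_image_eq _ (hj U).injective)

lemma Fj_le (V : Opens (TopCat.of U)) : (Fj U).obj V ≤ U := by
  rintro _ ⟨z, _, rfl⟩
  exact z.2

lemma Fj_map {W : Opens X} (hW : W ≤ U) : (Fj U).obj ((Opens.map (j U)).obj W) = W := by
  apply Opens.ext
  ext x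
  constructor
  · rintro ⟨z, hz, rfl⟩
    exact hz
  · intro hx
    exact ⟨⟨x, hW hx⟩, hx, rfl⟩

instance isIso_counit_op : IsIso (adjO U).op.counit := by
  have : ∀ V, IsIso ((adjO U).op.counit.app V) := fun V =>
    ⟨⟨(homOfLE (le_of_eq (map_Fj U V.unop))).op,
      Subsingleton.elim _ _, Subsingleton.elim _ _⟩⟩
  exact NatIso.isIso_of_isIso_app _

variable (C : Type v) [Category.{w} C]

/-- On presheaves, restriction to an open is left adjoint to pushforward. -/
def adjP : (Functor.whiskeringLeft _ _ C).obj (Fj U).op ⊣ TopCat.Presheaf.pushforward C (j U) :=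
  (adjO U).op.whiskerLeft C

instance isIso_counit_adjP : IsIso (adjP U C).counit := by
  have : ∀ P : (TopCat.of U).Presheaf C, IsIso ((adjP U C).counit.app P) := by
    intro P
    have : ∀ V, IsIso (((adjP U C).counit.app P).app V) := by
      intro V
      rw [adjP, Adjunction.whiskerLeft_counit_app_app]
      infer_instance
    exact NatIso.isIso_of_isIso_app _
  exact NatIso.isIso_of_isIso_app _

/-- Pushforward of presheaves along an open embedding is fully faithful. -/
noncomputable def ffPresheaf : (TopCat.Presheaf.pushforward C (j U)).FullyFaithful :=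
  (adjP U C).fullyFaithfulROfIsIsoCounit

/-- Pushforward of sheaves along an open embedding is fully faithful. -/
noncomputable def ffSheaf : (TopCat.Sheaf.pushforward C (j U)).FullyFaithful where
  preimage {F G} γ := ObjectProperty.homMk ((ffPresheaf U C).preimage γ.hom)
  map_preimage {F G} γ := Sheaf.hom_ext ((ffPresheaf U C).map_preimage γ.hom)
  preimage_map {F G} α := Sheaf.hom_ext ((ffPresheaf U C).preimage_map α.hom)

/-- On sheaves, restriction to an open is left adjoint to pushforward. -/
noncomputable def adjS : U.sheafRestrict (C := C) ⊣ TopCat.Sheaf.pushforward C (j U) :=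
  (adjP U C).restrictFullyFaithful (fullyFaithfulSheafToPresheaf _ _)
    (fullyFaithfulSheafToPresheaf _ _) (Iso.refl _) (Iso.refl _)

/-- Any left adjoint of restriction to an open is fully faithful. -/
noncomputable def ffLeft (L : (TopCat.of U).Sheaf C ⥤ X.Sheaf C)
    (adj : L ⊣ U.sheafRestrict (C := C)) : L.FullyFaithful :=
  (Adjunction.Triple.mk adj (adjS U C)).fullyFaithfulEquiv.symm (ffSheaf U C)

section Sets

/-- A sheaf of sets whose stalks off `U` are empty has no sections over opens not inside `U`. -/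
theorem isEmpty_sections (G : X.Sheaf (Type u))
    (h : ∀ x : X, x ∉ U → IsEmpty (G.presheaf.stalk x)) (W : Opens X) (hW : ¬ W ≤ U) :
    IsEmpty (G.1.obj (op W)) := by
  obtain ⟨x, hxW, hxU⟩ := SetLike.not_le_iff_exists.1 hW
  exact ⟨fun s => (h x hxU).false (G.presheaf.germ W x hxW s)⟩

/-- The test sheaf: functions to `Bool` defined off `U`. -/
def testSheaf : X.Sheaf (Type u) :=
  TopCat.sheafToTypes X (fun y => (y ∉ U → ULift.{u} Bool))

lemma subsingleton_testSheaf (W : Opens X) (hW : W ≤ U) :
    Subsingleton ((testSheaf U).1.obj (op W)) := by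
  refine ⟨fun f g => ?_⟩
  change ∀ y : W, (y.1 ∉ U → ULift.{u} Bool) at f g
  funext y hy
  exact absurd (hW y.2) hy

/-- The constant maps to the test sheaf. -/
def constHom (G : X.Sheaf (Type u)) (b : Bool) : G ⟶ testSheaf U :=
  ObjectProperty.homMk
    { app := fun W => ↾(fun _ => (fun _ _ => ⟨b⟩ : ∀ y : W.unop, (y.1 ∉ U → ULift.{u} Bool)))
      naturality := by intros; rfl }

lemma subsingleton_hom (F : (TopCat.of U).Sheaf (Type u)) :
    Subsingleton (F ⟶ U.sheafRestrict.obj (testSheaf U)) := by
  refine ⟨fun a b => Sheaf.hom_ext ?_⟩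
  apply NatTrans.ext
  funext V
  have : Subsingleton ((U.sheafRestrict.obj (testSheaf U)).1.obj V) :=
    subsingleton_testSheaf U ((Fj U).obj V.unop) (Fj_le U V.unop)
  exact ConcreteCategory.hom_ext _ _ (fun f => Subsingleton.elim _ _)

/-- A left adjoint of restriction to `U` produces sheaves with empty stalks off `U`. -/
theorem isEmpty_stalk_L (L : (TopCat.of U).Sheaf (Type u) ⥤ X.Sheaf (Type u))
    (adj : L ⊣ U.sheafRestrict (C := Type u)) (F : (TopCat.of U).Sheaf (Type u))
    (x : X) (hx : x ∉ U) : IsEmpty ((L.obj F).presheaf.stalk x) := by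
  refine ⟨fun t => ?_⟩
  obtain ⟨W, hxW, s, -⟩ := (L.obj F).presheaf.exists_germ_eq t
  have := subsingleton_hom U F
  have h12 : constHom U (L.obj F) true = constHom U (L.obj F) false :=
    (adj.homEquiv F (testSheaf U)).injective (Subsingleton.elim _ _)
  have h3 := congrArg (fun φ : L.obj F ⟶ testSheaf U =>
    (φ.hom.app (op W) s : ∀ y : W, (y.1 ∉ U → ULift.{u} Bool)) ⟨x, hxW⟩ hx) h12
  have h4 : (ULift.up true : ULift.{u} Bool) = ULift.up false := h3
  exact absurd (congrArg ULift.down h4) (by decide)

/-- The counit of `L ⊣ j^*` is an isomorphism at sheaves with empty stalks off `U`. -/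
theorem isIso_counit_app (L : (TopCat.of U).Sheaf (Type u) ⥤ X.Sheaf (Type u))
    (adj : L ⊣ U.sheafRestrict (C := Type u)) [L.Full] [L.Faithful] (G : X.Sheaf (Type u))
    (h : ∀ x : X, x ∉ U → IsEmpty (G.presheaf.stalk x)) : IsIso (adj.counit.app G) := by
  have hu : IsIso adj.unit := Adjunction.unit_isIso_of_L_fully_faithful adj
  have hu' : IsIso (adj.unit.app (U.sheafRestrict.obj G)) :=
    @NatIso.isIso_app_of_isIso _ _ _ _ _ _ adj.unit hu _
  have hR : IsIso (U.sheafRestrict.map (adj.counit.app G)) :=
    @isIso_of_hom_comp_eq_id _ _ _ _ (adj.unit.app (U.sheafRestrict.obj G)) hu' _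
      (adj.right_triangle_components G)
  have hRhom : IsIso ((U.sheafRestrict.map (adj.counit.app G)).hom) :=
    (sheafToPresheaf _ _).map_isIso (U.sheafRestrict.map (adj.counit.app G))
  have happ : ∀ W : Opens X, IsIso ((adj.counit.app G).hom.app (op W)) := by
    intro W
    by_cases hW : W ≤ U
    · obtain ⟨V, rfl⟩ : ∃ V, W = (Fj U).obj V := ⟨_, (Fj_map U hW).symm⟩
      exact (inferInstance :
        IsIso ((U.sheafRestrict.map (adj.counit.app G)).hom.app (op V)))
    · have h1 : IsEmpty (G.1.obj (op W)) := isEmpty_sections U G h W hW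
      have h2 : IsEmpty ((L.obj (U.sheafRestrict.obj G)).1.obj (op W)) :=
        isEmpty_sections U _ (fun x hx => isEmpty_stalk_L U L adj _ x hx) W hW
      rw [isIso_iff_bijective]
      exact ⟨fun a => h2.elim a, fun b => h1.elim b⟩
  have happ' : ∀ W : (Opens X)ᵒᵖ, IsIso ((adj.counit.app G).hom.app W) := fun W => happ W.unop
  have hhom : IsIso (adj.counit.app G).hom := NatIso.isIso_of_isIso_app _
  have : IsIso ((sheafToPresheaf _ _).map (adj.counit.app G)) := hhom
  exact (fullyFaithfulSheafToPresheaf _ _).isIso_of_isIso_map (adj.counit.app G)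

/-- Main theorem: `j_!` is fully faithful with essential image the sheaves with empty stalks
off `U`. -/
theorem main (L : (TopCat.of U).Sheaf (Type u) ⥤ X.Sheaf (Type u))
    (adj : L ⊣ U.sheafRestrict (C := Type u)) :
    L.Full ∧ L.Faithful ∧
    ∀ G : X.Sheaf (Type u), L.essImage G ↔ ∀ x : X, x ∉ U → IsEmpty (G.presheaf.stalk x) := by
  have ff : L.FullyFaithful := ffLeft U (Type u) L adj
  have hfull := ff.full
  have hfaith := ff.faithful
  refine ⟨hfull, hfaith, fun G => ⟨?_, fun h => ?_⟩⟩
  · rintro ⟨F, ⟨e⟩⟩ x hx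
    have hE := isEmpty_stalk_L U L adj F x hx
    let e' := (TopCat.Presheaf.stalkFunctor (Type u) x).mapIso ((sheafToPresheaf _ _).mapIso e)
    exact ⟨fun t => hE.false (e'.inv t)⟩
  · have := isIso_counit_app U L adj G h
    exact adj.mem_essImage_of_counit_isIso G

end Sets

end Groth.Agent.Lib.Helper3.OpenEmbSheaf
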