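import Mathlib
import Groth.Prelude.Def_FEt
import Groth.Agent.Lib.Helper3.FEtFib

/-!
# Helper3: free actions of finite groups on finite étale covers

A finite group acting freely on a nonempty finite étale cover of constant degree `n` has at most
`n` elements, with equality iff the cover is a torsor (`∐_G Y ≅ Y ×_X Y`).
-/

set_option autoImplicit false
universe u
open CategoryTheory CategoryTheory.Limits AlgebraicGeometry

namespace H3.FEtFree
open H3.FEtSplit H3.FEtFib

theorem core {X Y : Scheme.{u}} (f : Y ⟶ X) [IsFinite f] [Etale f] [Nonempty Y] (n : ℕ)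
    (hrk : ∀ x, f.finrank x = n) (G : Type u) [Finite G] (a : G → (Y ⟶ Y))
    (ha : ∀ g, a g ≫ f = f) (hd : ∀ g h, g ≠ h → Distinct (a g) (a h))
    (w : ∀ g, 𝟙 Y ≫ f = a g ≫ f) :
    Nat.card G ≤ n ∧ (Nat.card G = n ↔
      IsIso (Sigma.desc (fun g : G => pullback.lift (𝟙 Y) (a g) (w g)) :
        (∐ fun _ : G => Y) ⟶ pullback f f)) := by
  haveI : Flat f := inferInstance
  obtain ⟨y₀⟩ : Nonempty Y := inferInstance
  obtain ⟨Ω, _, _, ybar, hybar⟩ := exists_geomPoint y₀
  obtain ⟨s⟩ := nonempty_pt (Ω := Ω)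
  haveI := subsingleton_pt (Ω := Ω)
  obtain ⟨ξ, hξ⟩ : ∃ ξ : Spec (CommRingCat.of Ω) ⟶ X, ξ = ybar ≫ f := ⟨_, rfl⟩
  have hcard : Nat.card {z : Spec (CommRingCat.of Ω) ⟶ Y // z ≫ f = ξ} = n := by
    rw [Helper15.FinEtCount.natCard_lifts_eq_finrank f Ω ξ s, hrk]
  have hn1 : 1 ≤ n := by
    have h1 := Scheme.Hom.one_le_finrank_map f y₀
    rwa [hrk] at h1
  haveI hfin : Finite {z : Spec (CommRingCat.of Ω) ⟶ Y // z ≫ f = ξ} :=
    Nat.finite_of_card_ne_zero (by rw [hcard]; omega)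
  let orb : G → {z : Spec (CommRingCat.of Ω) ⟶ Y // z ≫ f = ξ} :=
    fun g => ⟨ybar ≫ a g, by rw [Category.assoc, ha, hξ]⟩
  have hinj : Function.Injective orb := by
    intro g h heq
    by_contra hne
    exact hd g h hne _ ybar ⟨s⟩ (congrArg Subtype.val heq)
  have hle : Nat.card G ≤ n := by
    rw [← hcard]
    exact Nat.card_le_card_of_injective orb hinj
  refine ⟨hle, ?_, ?_⟩
  · intro hGn
    let e : Fin n ≃ G := (Finite.equivFinOfCardEq hGn).symm
    have hrk' : ∀ y, (pullback.fst f f).finrank y = n := fun y => by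
      rw [Scheme.Hom.finrank_pullback_fst, hrk]
    have hiso := isIso_sigmaDesc_of_sections (pullback.fst f f) n hrk'
      (fun i => pullback.lift (𝟙 Y) (a (e i)) (w (e i)))
      (fun i => pullback.lift_fst _ _ _)
      (fun i j hij T ζ hT heq => hd (e i) (e j) (e.injective.ne hij) T ζ hT (by
        have h := congrArg (· ≫ pullback.snd f f) heq
        simpa only [Category.assoc, pullback.lift_snd] using h))
    have key : (Sigma.reindex e (fun _ : G => Y)).hom ≫
        (Sigma.desc (fun g : G => pullback.lift (𝟙 Y) (a g) (w g)) :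
          (∐ fun _ : G => Y) ⟶ pullback f f) =
        Sigma.desc (f := fun _ : Fin n => Y)
          (fun i => pullback.lift (𝟙 Y) (a (e i)) (w (e i))) := by
      refine Sigma.hom_ext _ _ (fun i => ?_)
      rw [← Category.assoc, Sigma.ι_reindex_hom, Sigma.ι_desc]
      exact (Sigma.ι_desc (f := fun _ : Fin n => Y)
        (fun i => pullback.lift (𝟙 Y) (a (e i)) (w (e i))) i).symm
    haveI : IsIso ((Sigma.reindex e (fun _ : G => Y)).hom ≫
        (Sigma.desc (fun g : G => pullback.lift (𝟙 Y) (a g) (w g)) :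
          (∐ fun _ : G => Y) ⟶ pullback f f)) := by
      rw [key]; exact hiso
    exact IsIso.of_isIso_comp_left (Sigma.reindex e (fun _ : G => Y)).hom _
  · intro hiso
    refine le_antisymm hle ?_
    rw [← hcard]
    refine Nat.card_le_card_of_surjective orb ?_
    intro z
    obtain ⟨D, hD⟩ : ∃ D : (∐ fun _ : G => Y) ⟶ pullback f f,
        D = Sigma.desc (fun g : G => pullback.lift (𝟙 Y) (a g) (w g)) := ⟨_, rfl⟩
    haveI : IsIso D := hD ▸ hiso
    obtain ⟨p, hp⟩ : ∃ p : Spec (CommRingCat.of Ω) ⟶ pullback f f,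
        p = pullback.lift ybar z.1 (by rw [z.2, hξ]) := ⟨_, rfl⟩
    have hp1 : p ≫ pullback.fst f f = ybar := by rw [hp, pullback.lift_fst]
    have hp2 : p ≫ pullback.snd f f = z.1 := by rw [hp, pullback.lift_snd]
    obtain ⟨q, hq⟩ : ∃ q : Spec (CommRingCat.of Ω) ⟶ ∐ fun _ : G => Y, q = p ≫ inv D := ⟨_, rfl⟩
    have hqD : q ≫ D = p := by rw [hq, Category.assoc, IsIso.inv_hom_id, Category.comp_id]
    obtain ⟨g, y, hy⟩ := (sigmaOpenCover (fun _ : G => Y)).exists_eq (q s)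
    have hy' : (Sigma.ι (fun _ : G => Y) g) y = q s := hy
    have hsub : Set.range q ⊆ Set.range (Sigma.ι (fun _ : G => Y) g) := by
      rintro _ ⟨t, rfl⟩
      rw [Subsingleton.elim t s]
      exact ⟨y, hy'⟩
    obtain ⟨v, hv⟩ : ∃ v : Spec (CommRingCat.of Ω) ⟶ Y, v ≫ Sigma.ι (fun _ : G => Y) g = q :=
      ⟨_, IsOpenImmersion.lift_fac (Sigma.ι (fun _ : G => Y) g) q hsub⟩
    have hvD : v ≫ pullback.lift (𝟙 Y) (a g) (w g) = p := by
      rw [← hqD, ← hv, Category.assoc, hD, Sigma.ι_desc]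
    have hv1 : v = ybar := by
      have h := congrArg (· ≫ pullback.fst f f) hvD
      simp only [Category.assoc, pullback.lift_fst, Category.comp_id] at h
      rw [h, hp1]
    have hv2 : v ≫ a g = z.1 := by
      have h := congrArg (· ≫ pullback.snd f f) hvD
      simp only [Category.assoc, pullback.lift_snd] at h
      rw [h, hp2]
    refine ⟨g, Subtype.ext ?_⟩
    show ybar ≫ a g = z.1
    rw [← hv1, hv2]

variable {X : Scheme.{u}}

theorem main (Y : FEt.Cat X) [Nonempty ↥Y.left] (n : ℕ)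
    (hn : ∀ (Ω : Type u) [Field Ω] [IsSepClosed Ω] (ξ : Spec (CommRingCat.of Ω) ⟶ X),
      Nat.card (FEt.fiberObj ξ Y) = n)
    (G : Type u) [Group G] [Finite G] (ρ : G →* Aut Y)
    (hfree : ∀ g : G, g ≠ 1 → ∀ (K : Type u) [Field K] (y : Spec (CommRingCat.of K) ⟶ Y.left),
      y ≫ (ρ g).hom.left ≠ y) :
    Nat.card G ≤ n ∧
      (Nat.card G = n ↔ IsIso (Limits.Sigma.desc fun g : G =>
        pullback.lift (𝟙 Y.left) (ρ g).hom.left
          ((Category.id_comp Y.hom).trans (Over.w (ρ g).hom.hom).symm) :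
            (∐ fun _ : G => Y.left) ⟶ pullback Y.hom Y.hom)) := by
  have hrk : ∀ x : X, Scheme.Hom.finrank (X := Y.left) (S := X) Y.hom x = n := by
    intro x
    obtain ⟨Ω, _, _, ξ, hξ⟩ := exists_geomPoint x
    obtain ⟨s⟩ := nonempty_pt (Ω := Ω)
    have h := natCard_fiberObj ξ Y s
    rw [hn Ω ξ, hξ s] at h
    exact h.symm
  have ha : ∀ g : G, (ρ g).hom.left ≫ Y.hom = Y.hom := fun g => Over.w (ρ g).hom.hom
  refine core (X := X) (Y := Y.left) Y.hom n hrk G (fun g => (ρ g).hom.left) ha ?_ _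
  intro g h hgh T ζ hT heq
  obtain ⟨t⟩ := hT
  obtain ⟨Ω, _, _, ξ, -⟩ := exists_geomPoint t
  have hne : h⁻¹ * g ≠ 1 := fun hh => hgh (inv_mul_eq_one.mp hh).symm
  have e2 : (ρ (h⁻¹ * g)).hom.left = (ρ g).hom.left ≫ (ρ h).inv.left := by
    rw [map_mul, map_inv]; rfl
  have e3 : (ρ h).hom.left ≫ (ρ h).inv.left = 𝟙 Y.left :=
    congrArg (fun m : Y ⟶ Y => m.left) (ρ h).hom_inv_id
  apply hfree (h⁻¹ * g) hne Ω (ξ ≫ ζ)
  rw [e2, Category.assoc, ← Category.assoc ζ, heq, Category.assoc, e3, Category.comp_id]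

end H3.FEtFree
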