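import Groth.Agent.Lib.Helper3.GrGen
import Mathlib.AlgebraicGeometry.ProjectiveSpectrum.Functor

set_option autoImplicit false
set_option linter.unusedSectionVars false
universe u
open CategoryTheory CategoryTheory.Limits AlgebraicGeometry TopologicalSpace Opposite
open Scheme.Modules

namespace Groth.Agent.Lib.Helper3.ProjMapFn

open QCSec TwistBasic GrTildeQC ProjFrac GrTildeHom

variable {R A B : Type u} [CommRing R] [CommRing A] [Algebra R A] {𝒜 : ℕ → Submodule R A}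
  [GradedAlgebra 𝒜] [CommRing B] [Algebra R B] {ℬ : ℕ → Submodule R B} [GradedAlgebra ℬ]
  (φ : 𝒜 →+*ᵍ ℬ) (hφ : HomogeneousIdeal.irrelevant ℬ ≤ (HomogeneousIdeal.irrelevant 𝒜).map φ)

theorem fval_app (U : (Proj 𝒜).Opens) (c : Γ(Proj 𝒜, U)) (y : ↥(Proj.map φ hφ ⁻¹ᵁ U)) :
    fval ((Proj.map φ hφ).app U c) y =
      Localization.localRingHom _ _ φ.toRingHom rfl
        (fval c ⟨(Proj.map φ hφ).base y.1, y.2⟩) := by
  exact HomogeneousLocalization.val_localRingHom ..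

theorem localRingHom_mk {A B : Type*} [CommRing A] [CommRing B] (I : Ideal A) [I.IsPrime]
    (J : Ideal B) [J.IsPrime] (f : A →+* B) (hIJ : I = J.comap f) (a b : A)
    (hb : b ∈ I.primeCompl) (hb' : f b ∈ J.primeCompl) :
    Localization.localRingHom I J f hIJ (Localization.mk a ⟨b, hb⟩) =
      Localization.mk (f a) ⟨f b, hb'⟩ := by
  rw [Localization.mk_eq_mk', Localization.localRingHom_mk', Localization.mk_eq_mk']

theorem good_map {U : (Proj 𝒜).Opens} {a b : A} (h : Good U a b) :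
    Good (Proj.map φ hφ ⁻¹ᵁ U) (φ a) (φ b) := by
  obtain ⟨⟨j, ha, hb⟩, nv⟩ := h
  exact ⟨⟨j, φ.map_mem ha, φ.map_mem hb⟩, fun y => nv ⟨(Proj.map φ hφ).base y.1, y.2⟩⟩

theorem app_fn {U : (Proj 𝒜).Opens} {a b : A} (h : Good U a b) :
    (Proj.map φ hφ).app U (fn U a b) = fn (Proj.map φ hφ ⁻¹ᵁ U) (φ a) (φ b) := by
  apply fval_ext
  intro y
  rw [fval_app, fval_fn h, fval_fn (good_map φ hφ h)]
  exact localRingHom_mk _ _ _ _ _ _ _ _

/-- functions `a / g^k` on `D₊(g)` vanish iff a power of `g` kills `a` -/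
theorem fn_eq_zero_iff {g : A} (hg : g ∈ 𝒜 1) {k : ℕ} {a : A} (ha : a ∈ 𝒜 k) :
    fn (Proj.basicOpen 𝒜 g) a (g ^ k) = 0 ↔ ∃ N : ℕ, g ^ N * a = 0 := by
  have hG : ∀ {k' : ℕ} {a' : A}, a' ∈ 𝒜 k' → Good (Proj.basicOpen 𝒜 g) a' (g ^ k') :=
    fun ha' => good_of_mem ha' (pow_mem_of_mem_one hg _) (fun x => notMem_pow x.2 _)
  constructor
  · intro h0
    have ha' : a ∈ 𝒜 (k • 1) := by simpa using ha
    have h1 : (Proj.awayToSection 𝒜 g).hom (HomogeneousLocalization.Away.mk 𝒜 hg k a ha') =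
        fn (Proj.basicOpen 𝒜 g) a (g ^ k) := by
      apply fval_ext
      intro x
      rw [fval_fn (hG ha)]
      exact fval_mk_away hg k a ha' x _
    have hinj : Function.Injective (Proj.awayToSection 𝒜 g).hom := by
      have h2 : Proj.awayToSection 𝒜 g ≫ (Proj.basicOpenIsoAway 𝒜 g hg Nat.one_pos).inv =
          𝟙 _ := by
        have := (Proj.basicOpenIsoAway 𝒜 g hg Nat.one_pos).hom_inv_id
        rwa [Proj.basicOpenIsoAway_hom] at this
      have e1 : ∀ w, (Proj.basicOpenIsoAway 𝒜 g hg Nat.one_pos).inv.hom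
          ((Proj.awayToSection 𝒜 g).hom w) = w := fun w => congrArg (fun ψ => ψ.hom w) h2
      intro z z' hz
      have := congrArg (Proj.basicOpenIsoAway 𝒜 g hg Nat.one_pos).inv.hom hz
      rwa [e1, e1] at this
    rw [← h1, ← map_zero (Proj.awayToSection 𝒜 g).hom] at h0
    have h3 := congrArg HomogeneousLocalization.val (hinj h0)
    rw [HomogeneousLocalization.Away.val_mk, HomogeneousLocalization.val_zero,
      Localization.mk_eq_mk', IsLocalization.mk'_eq_zero_iff] at h3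
    obtain ⟨⟨_, N, rfl⟩, hN⟩ := h3
    exact ⟨N, hN⟩
  · rintro ⟨N, hN⟩
    have e : fn (Proj.basicOpen 𝒜 g) a (g ^ k) =
        fn (Proj.basicOpen 𝒜 g) (g ^ N * a) (g ^ (N + k)) :=
      fn_eq (hG ha) (hG (SetLike.mul_mem_graded (pow_mem_of_mem_one hg N) ha)) (by ring)
    rw [e, hN]
    exact fn_zero (hG (k' := N + k) (zero_mem _))

section ClosedImm

variable {ι : Type u} {f : ι → A} (hf : ∀ i, f i ∈ 𝒜 1)
  (hcov : ∀ x : Proj 𝒜, ∃ i, x ∈ Proj.basicOpen 𝒜 (f i))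
  (hsurj : ∀ (n : ℕ) (b : B), b ∈ ℬ n → ∃ a ∈ 𝒜 n, φ a = b)

include hf hsurj in
theorem app_surjective (i : ι) :
    Function.Surjective ((Proj.map φ hφ).app (Proj.basicOpen 𝒜 (f i))) := by
  intro c'
  have hg : φ (f i) ∈ ℬ 1 := φ.map_mem (hf i)
  obtain ⟨k, b, hb, hc'⟩ := GrGen.exists_fn_eq hg
    (show Γ(Proj ℬ, Proj.basicOpen ℬ (φ (f i))) from c')
  obtain ⟨a, ha, rfl⟩ := hsurj k b hb
  refine ⟨fn (Proj.basicOpen 𝒜 (f i)) a (f i ^ k), ?_⟩
  rw [app_fn φ hφ (good_q hf i le_rfl ha), map_pow]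
  exact hc'.symm

include hf hcov hsurj in
/-- a surjective graded homomorphism induces a closed immersion of `Proj`s -/
theorem isClosedImmersion_map : IsClosedImmersion (Proj.map φ hφ) := by
  let Ua : ι → (Proj 𝒜).affineOpens := fun i =>
    ⟨Proj.basicOpen 𝒜 (f i), Proj.isAffineOpen_basicOpen 𝒜 (f i) (hf i) Nat.one_pos⟩
  have hU : ⨆ i, ((Ua i : (Proj 𝒜).affineOpens) : (Proj 𝒜).Opens) = ⊤ := by
    rw [eq_top_iff]
    intro x _
    obtain ⟨i, hi⟩ := hcov x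
    exact Opens.mem_iSup.mpr ⟨i, hi⟩
  rw [HasAffineProperty.iff_of_iSup_eq_top (P := @IsClosedImmersion) Ua hU]
  intro i
  refine ⟨?_, ?_⟩
  · exact Proj.isAffineOpen_basicOpen ℬ (φ (f i)) (φ.map_mem (hf i)) Nat.one_pos
  · have key : ∀ W : (Proj 𝒜).Opens, W = Proj.basicOpen 𝒜 (f i) →
        Function.Surjective ((Proj.map φ hφ).app W) := by
      rintro W rfl
      exact app_surjective φ hφ hf hsurj i
    have h2 := morphismRestrict_appTop (Proj.map φ hφ) (Ua i).1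
    intro z
    obtain ⟨w, hw⟩ := (ConcreteCategory.bijective_of_isIso ((Proj ℬ).presheaf.map
      (eqToHom (image_morphismRestrict_preimage (Proj.map φ hφ) (Ua i).1 ⊤)).op)).2 z
    obtain ⟨v, hv⟩ := key _ (Scheme.Opens.ι_image_top _) w
    refine ⟨v, ?_⟩
    rw [h2]
    exact (congrArg _ hv).trans hw

end ClosedImm

end Groth.Agent.Lib.Helper3.ProjMapFn
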