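import Groth.Agent.Lib.Helper3.GrTildeQC

/-!
# Fraction functions `a / b` on opens of `Proj`
-/

set_option autoImplicit false
set_option linter.unusedSectionVars false
universe u
open CategoryTheory CategoryTheory.Limits AlgebraicGeometry TopologicalSpace Opposite
open Scheme.Modules

namespace Groth.Agent.Lib.Helper3.ProjFrac

open QCSec TwistBasic GrTildeQC

variable {R A : Type u} [CommRing R] [CommRing A] [Algebra R A] {𝒜 : ℕ → Submodule R A}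
  [GradedAlgebra 𝒜]

variable (𝒜) in
/-- `a` and `b` are homogeneous of the same degree -/
def SameDeg (a b : A) : Prop := ∃ j : ℕ, a ∈ 𝒜 j ∧ b ∈ 𝒜 j

theorem SameDeg.mul {a b a' b' : A} (h : SameDeg 𝒜 a b) (h' : SameDeg 𝒜 a' b') :
    SameDeg 𝒜 (a * a') (b * b') := by
  obtain ⟨j, ha, hb⟩ := h
  obtain ⟨j', ha', hb'⟩ := h'
  exact ⟨j + j', SetLike.mul_mem_graded ha ha', SetLike.mul_mem_graded hb hb'⟩

theorem SameDeg.pow {a b : A} (h : SameDeg 𝒜 a b) (n : ℕ) : SameDeg 𝒜 (a ^ n) (b ^ n) := by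
  obtain ⟨j, ha, hb⟩ := h
  exact ⟨n • j, SetLike.pow_mem_graded n ha, SetLike.pow_mem_graded n hb⟩

theorem SameDeg.symm {a b : A} (h : SameDeg 𝒜 a b) : SameDeg 𝒜 b a := by
  obtain ⟨j, ha, hb⟩ := h
  exact ⟨j, hb, ha⟩

theorem sameDeg_of_mem {a b : A} {j : ℕ} (ha : a ∈ 𝒜 j) (hb : b ∈ 𝒜 j) : SameDeg 𝒜 a b :=
  ⟨j, ha, hb⟩

theorem sameDeg_one : SameDeg 𝒜 (1 : A) 1 :=
  ⟨0, SetLike.GradedOne.one_mem, SetLike.GradedOne.one_mem⟩

theorem pow_mem_of_mem_one {f : A} (hf : f ∈ 𝒜 1) (j : ℕ) : f ^ j ∈ 𝒜 j := by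
  have := SetLike.pow_mem_graded j hf
  rwa [smul_eq_mul, mul_one] at this

theorem notMem_mul {x : ProjectiveSpectrum 𝒜} {a b : A} (ha : a ∉ x.asHomogeneousIdeal)
    (hb : b ∉ x.asHomogeneousIdeal) : a * b ∉ x.asHomogeneousIdeal :=
  fun h => (x.isPrime.mem_or_mem h).elim ha hb

theorem notMem_pow {x : ProjectiveSpectrum 𝒜} {a : A} (ha : a ∉ x.asHomogeneousIdeal) (n : ℕ) :
    a ^ n ∉ x.asHomogeneousIdeal :=
  fun h => ha (x.isPrime.mem_of_pow_mem n h)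

/-- the function `a / b` on `U` -/
noncomputable def fr (U : (Proj 𝒜).Opens) (a b : A) (hab : SameDeg 𝒜 a b)
    (hb : ∀ x : U, b ∉ x.1.asHomogeneousIdeal) : Γ(Proj 𝒜, U) :=
  mkFun U (fun x => Localization.mk a ⟨b, hb x⟩) (by
    obtain ⟨j, ha, hbj⟩ := hab
    exact isLocFrac_frac (⟨a, ha⟩ : 𝒜 j) (⟨b, hbj⟩ : 𝒜 j) hb 0 (by simp))

theorem fval_fr (U : (Proj 𝒜).Opens) (a b : A) (hab : SameDeg 𝒜 a b)
    (hb : ∀ x : U, b ∉ x.1.asHomogeneousIdeal) (x : U) :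
    fval (fr U a b hab hb) x = Localization.mk a ⟨b, hb x⟩ :=
  fval_mkFun _ _ _ x

theorem rres_fr {U V : (Proj 𝒜).Opens} (h : V ≤ U) (a b : A) (hab : SameDeg 𝒜 a b)
    (hb : ∀ x : U, b ∉ x.1.asHomogeneousIdeal) :
    rres (Proj 𝒜) h (fr U a b hab hb) = fr V a b hab (fun x => hb ⟨x.1, h x.2⟩) := by
  apply fval_ext
  intro x
  rw [fval_res, fval_fr, fval_fr]

theorem fr_mul (U : (Proj 𝒜).Opens) (a b a' b' : A) (hab : SameDeg 𝒜 a b)
    (hab' : SameDeg 𝒜 a' b') (hb : ∀ x : U, b ∉ x.1.asHomogeneousIdeal)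
    (hb' : ∀ x : U, b' ∉ x.1.asHomogeneousIdeal) :
    fr U a b hab hb * fr U a' b' hab' hb' =
      fr U (a * a') (b * b') (hab.mul hab') (fun x => notMem_mul (hb x) (hb' x)) := by
  apply fval_ext
  intro x
  rw [fval_mul, fval_fr, fval_fr, fval_fr, Localization.mk_mul]
  rfl

theorem fr_eq_of_mul_eq (U : (Proj 𝒜).Opens) (a b a' b' : A) (hab : SameDeg 𝒜 a b)
    (hab' : SameDeg 𝒜 a' b') (hb : ∀ x : U, b ∉ x.1.asHomogeneousIdeal)
    (hb' : ∀ x : U, b' ∉ x.1.asHomogeneousIdeal) (h : a * b' = a' * b) :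
    fr U a b hab hb = fr U a' b' hab' hb' := by
  apply fval_ext
  intro x
  rw [fval_fr, fval_fr, Localization.mk_eq_mk_iff]
  apply Localization.r_of_eq
  show b' * a = b * a'
  rw [mul_comm b' a, h, mul_comm]

theorem fr_self (U : (Proj 𝒜).Opens) (a : A) (ha : SameDeg 𝒜 a a)
    (hb : ∀ x : U, a ∉ x.1.asHomogeneousIdeal) : fr U a a ha hb = 1 := by
  apply fval_ext
  intro x
  rw [fval_fr, fval_one]
  exact Localization.mk_self (⟨a, hb x⟩ : x.1.asHomogeneousIdeal.toIdeal.primeCompl)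

theorem fr_pow (U : (Proj 𝒜).Opens) (a b : A) (hab : SameDeg 𝒜 a b)
    (hb : ∀ x : U, b ∉ x.1.asHomogeneousIdeal) (n : ℕ) :
    fr U a b hab hb ^ n = fr U (a ^ n) (b ^ n) (hab.pow n) (fun x => notMem_pow (hb x) n) := by
  apply fval_ext
  intro x
  rw [fval_pow, fval_fr, fval_fr, Localization.mk_pow]
  rfl

theorem fr_add (U : (Proj 𝒜).Opens) (a a' b : A) (hab : SameDeg 𝒜 a b)
    (hab' : SameDeg 𝒜 a' b) (hab'' : SameDeg 𝒜 (a + a') b)
    (hb : ∀ x : U, b ∉ x.1.asHomogeneousIdeal) :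
    fr U a b hab hb + fr U a' b hab' hb = fr U (a + a') b hab'' hb := by
  apply fval_ext
  intro x
  rw [fval_add, fval_fr, fval_fr, fval_fr, Localization.add_mk_self]

theorem fr_zero (U : (Proj 𝒜).Opens) (b : A) (hab : SameDeg 𝒜 0 b)
    (hb : ∀ x : U, b ∉ x.1.asHomogeneousIdeal) : fr U 0 b hab hb = 0 := by
  apply fval_ext
  intro x
  rw [fval_fr, fval_zero, Localization.mk_zero]

theorem isUnit_fr (U : (Proj 𝒜).Opens) (a b : A) (hab : SameDeg 𝒜 a b)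
    (ha : ∀ x : U, a ∉ x.1.asHomogeneousIdeal)
    (hb : ∀ x : U, b ∉ x.1.asHomogeneousIdeal) : IsUnit (fr U a b hab hb) := by
  apply IsUnit.of_mul_eq_one (fr U b a hab.symm ha)
  rw [fr_mul]
  apply fval_ext
  intro x
  rw [fval_fr, fval_one]
  have h : (⟨b * a, notMem_mul (hb x) (ha x)⟩ : x.1.asHomogeneousIdeal.toIdeal.primeCompl) =
      ⟨a * b, notMem_mul (ha x) (hb x)⟩ := Subtype.ext (mul_comm b a)
  rw [h]
  exact Localization.mk_self (⟨a * b, notMem_mul (ha x) (hb x)⟩ :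
    x.1.asHomogeneousIdeal.toIdeal.primeCompl)

theorem basicOpen_fr (U : (Proj 𝒜).Opens) (a b : A) (hab : SameDeg 𝒜 a b)
    (hb : ∀ x : U, b ∉ x.1.asHomogeneousIdeal) :
    (Proj 𝒜).basicOpen (fr U a b hab hb) = U ⊓ Proj.basicOpen 𝒜 a := by
  apply le_antisymm
  · intro x hx
    have hxU : x ∈ U := (Proj 𝒜).basicOpen_le _ hx
    have hu : IsUnit (rres (Proj 𝒜) ((Proj 𝒜).basicOpen_le (fr U a b hab hb))
        (fr U a b hab hb)) :=
      RingedSpace.isUnit_res_basicOpen (Proj 𝒜).toRingedSpace (fr U a b hab hb)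
    obtain ⟨c, hc⟩ := hu.exists_right_inv
    have h1 : fval (rres (Proj 𝒜) ((Proj 𝒜).basicOpen_le (fr U a b hab hb))
        (fr U a b hab hb) * c) ⟨x, hx⟩ = 1 := by
      rw [hc]; exact fval_one _
    rw [fval_mul, fval_res, fval_fr] at h1
    have hu2 : IsUnit (Localization.mk a ⟨b, hb ⟨x, hxU⟩⟩ : Twist.Loc 𝒜 x) :=
      IsUnit.of_mul_eq_one _ h1
    have e1 : (Localization.mk a ⟨b, hb ⟨x, hxU⟩⟩ : Twist.Loc 𝒜 x) =
        algebraMap A (Twist.Loc 𝒜 x) a * Localization.mk 1 ⟨b, hb ⟨x, hxU⟩⟩ := by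
      rw [← Localization.mk_one_eq_algebraMap, Localization.mk_mul, mul_one, one_mul]
    rw [e1] at hu2
    have hu3 := isUnit_of_mul_isUnit_left hu2
    have : x.asHomogeneousIdeal.toIdeal.IsPrime := x.isPrime
    have hax : a ∈ x.asHomogeneousIdeal.toIdeal.primeCompl :=
      (IsLocalization.AtPrime.isUnit_to_map_iff (Twist.Loc 𝒜 x)
        x.asHomogeneousIdeal.toIdeal a).mp hu3
    exact ⟨hxU, hax⟩
  · have hWU : U ⊓ Proj.basicOpen 𝒜 a ≤ U := inf_le_left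
    have hunit : IsUnit (rres (Proj 𝒜) hWU (fr U a b hab hb)) := by
      rw [rres_fr]
      exact isUnit_fr (U ⊓ Proj.basicOpen 𝒜 a) a b hab
        (fun x : (U ⊓ Proj.basicOpen 𝒜 a : (Proj 𝒜).Opens) => x.2.2) _
    have h3 : (Proj 𝒜).basicOpen (rres (Proj 𝒜) hWU (fr U a b hab hb)) =
        U ⊓ Proj.basicOpen 𝒜 a := (Proj 𝒜).basicOpen_of_isUnit hunit
    have h4 : (Proj 𝒜).basicOpen (rres (Proj 𝒜) hWU (fr U a b hab hb)) =
        (U ⊓ Proj.basicOpen 𝒜 a) ⊓ (Proj 𝒜).basicOpen (fr U a b hab hb) :=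
      Scheme.basicOpen_res (Proj 𝒜) (fr U a b hab hb) (homOfLE hWU).op
    rw [← h3, h4]
    exact inf_le_right

/-! ### proof-free version -/

/-- `a / b` is a legitimate degree-zero fraction on `U` -/
def Good (U : (Proj 𝒜).Opens) (a b : A) : Prop :=
  SameDeg 𝒜 a b ∧ ∀ x : U, b ∉ x.1.asHomogeneousIdeal

theorem Good.mono {U V : (Proj 𝒜).Opens} (hVU : V ≤ U) {a b : A} (h : Good U a b) :
    Good V a b :=
  ⟨h.1, fun x => h.2 ⟨x.1, hVU x.2⟩⟩

theorem Good.mul {U : (Proj 𝒜).Opens} {a b a' b' : A} (h : Good U a b) (h' : Good U a' b') :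
    Good U (a * a') (b * b') :=
  ⟨h.1.mul h'.1, fun x => notMem_mul (h.2 x) (h'.2 x)⟩

theorem Good.pow {U : (Proj 𝒜).Opens} {a b : A} (h : Good U a b) (n : ℕ) :
    Good U (a ^ n) (b ^ n) :=
  ⟨h.1.pow n, fun x => notMem_pow (h.2 x) n⟩

theorem good_of_mem {U : (Proj 𝒜).Opens} {a b : A} {j : ℕ} (ha : a ∈ 𝒜 j) (hb : b ∈ 𝒜 j)
    (nv : ∀ x : U, b ∉ x.1.asHomogeneousIdeal) : Good U a b :=
  ⟨⟨j, ha, hb⟩, nv⟩

open Classical in
/-- the function `a / b` on `U` (zero if this is not a legitimate fraction) -/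
noncomputable def fn (U : (Proj 𝒜).Opens) (a b : A) : Γ(Proj 𝒜, U) :=
  if h : Good U a b then fr U a b h.1 h.2 else 0

theorem fn_eq_fr {U : (Proj 𝒜).Opens} {a b : A} (h : Good U a b) :
    fn U a b = fr U a b h.1 h.2 := dif_pos h

theorem fval_fn {U : (Proj 𝒜).Opens} {a b : A} (h : Good U a b) (x : U) :
    fval (fn U a b) x = Localization.mk a ⟨b, h.2 x⟩ := by
  rw [fn_eq_fr h, fval_fr]

theorem rres_fn {U V : (Proj 𝒜).Opens} (hVU : V ≤ U) {a b : A} (h : Good U a b) :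
    rres (Proj 𝒜) hVU (fn U a b) = fn V a b := by
  rw [fn_eq_fr h, fn_eq_fr (h.mono hVU), rres_fr]

theorem fn_mul {U : (Proj 𝒜).Opens} {a b a' b' : A} (h : Good U a b) (h' : Good U a' b') :
    fn U a b * fn U a' b' = fn U (a * a') (b * b') := by
  rw [fn_eq_fr h, fn_eq_fr h', fn_eq_fr (h.mul h'), fr_mul]

theorem fn_eq {U : (Proj 𝒜).Opens} {a b a' b' : A} (h : Good U a b) (h' : Good U a' b')
    (heq : a * b' = a' * b) : fn U a b = fn U a' b' := by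
  rw [fn_eq_fr h, fn_eq_fr h']
  exact fr_eq_of_mul_eq U a b a' b' _ _ _ _ heq

theorem fn_self {U : (Proj 𝒜).Opens} {a : A} (h : Good U a a) : fn U a a = 1 := by
  rw [fn_eq_fr h, fr_self]

theorem fn_pow {U : (Proj 𝒜).Opens} {a b : A} (h : Good U a b) (n : ℕ) :
    fn U a b ^ n = fn U (a ^ n) (b ^ n) := by
  rw [fn_eq_fr h, fn_eq_fr (h.pow n), fr_pow]

theorem fn_add {U : (Proj 𝒜).Opens} {a a' b : A} (h : Good U a b) (h' : Good U a' b)
    (h'' : Good U (a + a') b) : fn U a b + fn U a' b = fn U (a + a') b := by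
  rw [fn_eq_fr h, fn_eq_fr h', fn_eq_fr h'', fr_add]

theorem fn_zero {U : (Proj 𝒜).Opens} {b : A} (h : Good U 0 b) : fn U 0 b = 0 := by
  rw [fn_eq_fr h, fr_zero]

theorem basicOpen_fn {U : (Proj 𝒜).Opens} {a b : A} (h : Good U a b) :
    (Proj 𝒜).basicOpen (fn U a b) = U ⊓ Proj.basicOpen 𝒜 a := by
  rw [fn_eq_fr h, basicOpen_fr]

theorem isUnit_fn {U : (Proj 𝒜).Opens} {a b : A} (h : Good U a b) (h' : Good U b a) :
    IsUnit (fn U a b) := by
  rw [fn_eq_fr h]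
  exact isUnit_fr U a b h.1 h'.2 h.2

/-- every function on `U` is locally a fraction -/
theorem exists_eq_fn {U : (Proj 𝒜).Opens} (c : Γ(Proj 𝒜, U)) (x : U) :
    ∃ (V : (Proj 𝒜).Opens) (_ : x.1 ∈ V) (hVU : V ≤ U) (a b : A), Good V a b ∧
      rres (Proj 𝒜) hVU c = fn V a b := by
  obtain ⟨V, hxV, hVU, i, j, a, s, hs, hdeg, hv⟩ := isLocFrac_fval c x
  rcases hdeg with hd | h0
  · have hij : i = j := by simpa using hd
    subst hij
    have hg : Good V a.1 s.1 := good_of_mem a.2 s.2 hs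
    refine ⟨V, hxV, hVU, a.1, s.1, hg, ?_⟩
    apply fval_ext
    intro y
    rw [fval_res, fval_fn hg]
    exact hv y
  · have hg : Good V 0 s.1 := good_of_mem (zero_mem _) s.2 hs
    refine ⟨V, hxV, hVU, 0, s.1, hg, ?_⟩
    apply fval_ext
    intro y
    rw [fval_res, fval_fn hg]
    have := hv y
    rw [h0] at this
    exact this

end Groth.Agent.Lib.Helper3.ProjFrac
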