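import Mathlib.RingTheory.GradedAlgebra.Homogeneous.Maps
import Mathlib.RingTheory.Ideal.Quotient.Operations

/-!
# The quotient of a graded algebra by a homogeneous ideal
-/

set_option autoImplicit false
set_option linter.unusedSectionVars false
set_option warn.classDefReducibility false
universe u

namespace Groth.Agent.Lib.Helper3.GrQuot

open DirectSum

variable {R A : Type u} [CommRing R] [CommRing A] [Algebra R A] (𝒜 : ℕ → Submodule R A)
  [GradedAlgebra 𝒜] (J : Ideal A)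

/-- graded pieces of the quotient -/
def piece (n : ℕ) : Submodule R (A ⧸ J) := (𝒜 n).map (Ideal.Quotient.mkₐ R J).toLinearMap

theorem mem_piece {n : ℕ} {b : A ⧸ J} :
    b ∈ piece 𝒜 J n ↔ ∃ a ∈ 𝒜 n, Ideal.Quotient.mk J a = b := Iff.rfl

theorem mk_mem_piece {n : ℕ} {a : A} (ha : a ∈ 𝒜 n) : Ideal.Quotient.mk J a ∈ piece 𝒜 J n :=
  ⟨a, ha, rfl⟩

/-- the quotient map on graded pieces -/
def restr (n : ℕ) : 𝒜 n →+ piece 𝒜 J n where
  toFun a := ⟨Ideal.Quotient.mk J a.1, mk_mem_piece 𝒜 J a.2⟩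
  map_zero' := Subtype.ext (map_zero _)
  map_add' _ _ := Subtype.ext (map_add _ _ _)

/-- the decomposition map before passing to the quotient -/
noncomputable def dec₀ : A →+ ⨁ n, piece 𝒜 J n :=
  (DirectSum.map (restr 𝒜 J)).comp (DirectSum.decomposeAddEquiv 𝒜).toAddMonoidHom

theorem dec₀_apply (a : A) (n : ℕ) :
    (dec₀ 𝒜 J a n : A ⧸ J) = Ideal.Quotient.mk J (DirectSum.decompose 𝒜 a n : A) := by
  change ((DirectSum.map (restr 𝒜 J) (DirectSum.decompose 𝒜 a)) n : A ⧸ J) = _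
  rw [DirectSum.map_apply]
  rfl

theorem dec₀_of_mem {n : ℕ} {a : A} (ha : a ∈ 𝒜 n) :
    dec₀ 𝒜 J a = DirectSum.of (fun n => piece 𝒜 J n) n ⟨Ideal.Quotient.mk J a, mk_mem_piece 𝒜 J ha⟩ := by
  change DirectSum.map (restr 𝒜 J) (DirectSum.decompose 𝒜 a) = _
  rw [DirectSum.decompose_of_mem 𝒜 ha, DirectSum.map_of]
  rfl

variable {𝒜 J}

theorem dec₀_eq_zero (hJ : J.IsHomogeneous 𝒜) {a : A} (ha : a ∈ J) : dec₀ 𝒜 J a = 0 := by
  apply DFinsupp.ext
  intro n
  apply Subtype.ext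
  rw [dec₀_apply]
  exact Ideal.Quotient.eq_zero_iff_mem.mpr (hJ n ha)

theorem dec₀_congr (hJ : J.IsHomogeneous 𝒜) {a a' : A}
    (h : Ideal.Quotient.mk J a = Ideal.Quotient.mk J a') : dec₀ 𝒜 J a = dec₀ 𝒜 J a' := by
  have h1 : a - a' ∈ J := Ideal.Quotient.eq.mp h
  have h2 := dec₀_eq_zero hJ h1
  rw [map_sub, sub_eq_zero] at h2
  exact h2

theorem coe_dec₀ (a : A) :
    DirectSum.coeAddMonoidHom (piece 𝒜 J) (dec₀ 𝒜 J a) = Ideal.Quotient.mk J a := by
  have key : (DirectSum.coeAddMonoidHom (piece 𝒜 J)).comp (DirectSum.map (restr 𝒜 J)) =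
      (Ideal.Quotient.mk J : A →+* A ⧸ J).toAddMonoidHom.comp (DirectSum.coeAddMonoidHom 𝒜) := by
    apply DirectSum.addHom_ext
    intro i x
    simp only [AddMonoidHom.comp_apply, DirectSum.map_of, DirectSum.coeAddMonoidHom_of]
    rfl
  have h1 := DFunLike.congr_fun key (DirectSum.decompose 𝒜 a)
  simp only [AddMonoidHom.comp_apply] at h1
  refine h1.trans ?_
  exact congrArg (Ideal.Quotient.mk J) (DirectSum.Decomposition.left_inv a)

theorem dec₀_surjective : Function.Surjective (dec₀ 𝒜 J) := by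
  intro z
  induction z using DirectSum.induction_on with
  | zero => exact ⟨0, map_zero _⟩
  | of n p =>
    obtain ⟨_, a, ha, rfl⟩ := p
    exact ⟨a, dec₀_of_mem 𝒜 J ha⟩
  | add z z' hz hz' =>
    obtain ⟨a, rfl⟩ := hz
    obtain ⟨a', rfl⟩ := hz'
    exact ⟨a + a', map_add _ _ _⟩

variable (𝒜 J)

/-- the graded algebra structure on the quotient by a homogeneous ideal -/
noncomputable def gradedAlgebra (hJ : J.IsHomogeneous 𝒜) : GradedAlgebra (piece 𝒜 J) where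
  one_mem := ⟨1, SetLike.GradedOne.one_mem, map_one (Ideal.Quotient.mk J)⟩
  mul_mem := by
    rintro i j _ _ ⟨a, ha, rfl⟩ ⟨b, hb, rfl⟩
    exact ⟨a * b, SetLike.mul_mem_graded ha hb, map_mul (Ideal.Quotient.mk J) a b⟩
  decompose' b := dec₀ 𝒜 J (Classical.choose (Ideal.Quotient.mk_surjective b))
  left_inv b := by
    rw [coe_dec₀]
    exact Classical.choose_spec (Ideal.Quotient.mk_surjective b)
  right_inv z := by
    obtain ⟨a, rfl⟩ := dec₀_surjective (𝒜 := 𝒜) (J := J) z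
    apply dec₀_congr hJ
    rw [Classical.choose_spec (Ideal.Quotient.mk_surjective _), coe_dec₀]

/-- the quotient map as a graded ring homomorphism -/
def mkHom : 𝒜 →+*ᵍ piece 𝒜 J where
  toRingHom := Ideal.Quotient.mk J
  map_mem := fun hx => mk_mem_piece 𝒜 J hx

theorem mkHom_apply (a : A) : mkHom 𝒜 J a = Ideal.Quotient.mk J a := rfl

theorem mkHom_surjective : Function.Surjective (mkHom 𝒜 J) := Ideal.Quotient.mk_surjective

theorem exists_of_mem_piece {n : ℕ} {b : A ⧸ J} (hb : b ∈ piece 𝒜 J n) :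
    ∃ a ∈ 𝒜 n, mkHom 𝒜 J a = b := hb

theorem irrelevant_le (hJ : J.IsHomogeneous 𝒜) :
    letI := gradedAlgebra 𝒜 J hJ
    HomogeneousIdeal.irrelevant (piece 𝒜 J) ≤ (HomogeneousIdeal.irrelevant 𝒜).map (mkHom 𝒜 J) := by
  letI := gradedAlgebra 𝒜 J hJ
  apply (HomogeneousIdeal.irrelevant_le _).mpr
  rintro i hi _ ⟨a, ha, rfl⟩
  exact Ideal.mem_map_of_mem _ (HomogeneousIdeal.mem_irrelevant_of_mem 𝒜 hi ha)

end Groth.Agent.Lib.Helper3.GrQuot
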