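import Groth.Agent.Lib.Helper3.ProjMapFn
import Groth.Agent.Lib.Helper3.GrQuot
import Mathlib.AlgebraicGeometry.Morphisms.ClosedImmersion

/-!
# Closed subschemes of `Proj` are `Proj` of graded quotients
-/

set_option autoImplicit false
set_option linter.unusedSectionVars false
universe u
open CategoryTheory CategoryTheory.Limits AlgebraicGeometry TopologicalSpace Opposite
open Scheme.Modules

namespace Groth.Agent.Lib.Helper3.ProjClosed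

open QCSec TwistBasic GrTildeQC ProjFrac GrTildeHom ProjMapFn

/-- elements of an ideal sheaf on a basic open come from the ideal after multiplying by a power -/
theorem exists_pow_mul_mem {X : Scheme.{u}} (ℐ : X.IdealSheafData) {U W : X.affineOpens}
    (hWU : W ≤ U) (g : Γ(X, U)) (hW : W.1 = X.basicOpen g) (x : Γ(X, U))
    (hx : rres X hWU x ∈ ℐ.ideal W) : ∃ N : ℕ, g ^ N * x ∈ ℐ.ideal U := by
  letI alg : Algebra Γ(X, U) Γ(X, W) := (X.presheaf.map (homOfLE hWU).op).hom.toAlgebra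
  haveI loc : IsLocalization.Away g Γ(X, W) :=
    U.2.isLocalization_of_eq_basicOpen g (homOfLE hWU) hW
  have hx' : algebraMap Γ(X, U) Γ(X, W) x ∈ Ideal.map (algebraMap Γ(X, U) Γ(X, W)) (ℐ.ideal U) := by
    have := ℐ.map_ideal hWU
    rw [← this] at hx
    exact hx
  obtain ⟨⟨a, m⟩, h⟩ :=
    (IsLocalization.mem_map_algebraMap_iff (Submonoid.powers g) Γ(X, W)).mp hx'
  obtain ⟨n, hn⟩ := m.2
  have hn' : g ^ n = m.1 := hn
  have h0 : algebraMap Γ(X, U) Γ(X, W) (x * g ^ n - a.1) = 0 := by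
    rw [map_sub, map_mul, sub_eq_zero, hn']
    exact h
  obtain ⟨⟨_, k, rfl⟩, hk⟩ :=
    (IsLocalization.map_eq_zero_iff (Submonoid.powers g) Γ(X, W) _).mp h0
  refine ⟨k + n, ?_⟩
  have e : g ^ (k + n) * x = g ^ k * (x * g ^ n - a.1) + g ^ k * a.1 := by ring
  rw [e, hk, zero_add]
  exact Ideal.mul_mem_left _ _ a.2

variable {R A : Type u} [CommRing R] [CommRing A] [Algebra R A] {𝒜 : ℕ → Submodule R A}
  [GradedAlgebra 𝒜] {ι : Type u} {f : ι → A} (hf : ∀ i, f i ∈ 𝒜 1)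
  (ℐ : (Proj 𝒜).IdealSheafData)

local notation "𝒰" k:max => Proj.basicOpen 𝒜 (f k)

/-- the affine opens `D₊(f i)` -/
def Ua (i : ι) : (Proj 𝒜).affineOpens :=
  ⟨Proj.basicOpen 𝒜 (f i), Proj.isAffineOpen_basicOpen 𝒜 (f i) (hf i) Nat.one_pos⟩

/-- the affine opens `D₊(f j) ⊓ D₊(f i)` -/
def Ua2 (j i : ι) : (Proj 𝒜).affineOpens :=
  ⟨Proj.basicOpen 𝒜 (f j) ⊓ Proj.basicOpen 𝒜 (f i), by
    rw [← Proj.basicOpen_mul]
    exact Proj.isAffineOpen_basicOpen 𝒜 (f j * f i) (SetLike.mul_mem_graded (hf j) (hf i))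
      (by norm_num)⟩

/-- all homogeneous components dehomogenize into the ideal sheaf -/
def InJ (a : A) : Prop :=
  ∀ (n : ℕ) (i : ι), fn (𝒰 i) (DirectSum.decompose 𝒜 a n : A) (f i ^ n) ∈ ℐ.ideal (Ua hf i)

theorem inJ_zero : InJ hf ℐ 0 := by
  intro n i
  rw [DirectSum.decompose_zero, DirectSum.zero_apply, ZeroMemClass.coe_zero,
    fn_zero (good_q hf i le_rfl (zero_mem _))]
  exact zero_mem _

theorem inJ_add {a b : A} (ha : InJ hf ℐ a) (hb : InJ hf ℐ b) : InJ hf ℐ (a + b) := by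
  intro n i
  rw [DirectSum.decompose_add, DirectSum.add_apply, AddMemClass.coe_add,
    ← fn_add (good_q hf i le_rfl (SetLike.coe_mem _)) (good_q hf i le_rfl (SetLike.coe_mem _))
      (good_q hf i le_rfl (add_mem (SetLike.coe_mem _) (SetLike.coe_mem _)))]
  exact add_mem (ha n i) (hb n i)

theorem inJ_of_mem {n : ℕ} {a : A} (ha : a ∈ 𝒜 n) :
    InJ hf ℐ a ↔ ∀ i, fn (𝒰 i) a (f i ^ n) ∈ ℐ.ideal (Ua hf i) := by
  constructor
  · intro h i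
    have := h n i
    rwa [DirectSum.decompose_of_mem_same 𝒜 ha] at this
  · intro h m i
    by_cases hmn : n = m
    · subst hmn
      rw [DirectSum.decompose_of_mem_same 𝒜 ha]
      exact h i
    · rw [DirectSum.decompose_of_mem_ne 𝒜 ha hmn, fn_zero (good_q hf i le_rfl (zero_mem _))]
      exact zero_mem _

theorem inJ_mul_of_mem {d : ℕ} {c : A} (hc : c ∈ 𝒜 d) {a : A} (ha : InJ hf ℐ a) :
    InJ hf ℐ (c * a) := by
  intro n i
  by_cases hdn : d ≤ n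
  · rw [DirectSum.coe_decompose_mul_of_left_mem_of_le 𝒜 hc hdn]
    have e : f i ^ n = f i ^ d * f i ^ (n - d) := by rw [← pow_add, Nat.add_sub_cancel' hdn]
    rw [e, ← fn_mul (good_q hf i le_rfl hc) (good_q hf i le_rfl (SetLike.coe_mem _))]
    exact Ideal.mul_mem_left _ _ (ha (n - d) i)
  · rw [DirectSum.coe_decompose_mul_of_left_mem_of_not_le 𝒜 hc hdn,
      fn_zero (good_q hf i le_rfl (zero_mem _))]
    exact zero_mem _

theorem inJ_mul (c : A) {a : A} (ha : InJ hf ℐ a) : InJ hf ℐ (c * a) := by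
  induction c using DirectSum.Decomposition.inductionOn 𝒜 with
  | zero => rw [zero_mul]; exact inJ_zero hf ℐ
  | homogeneous m => exact inJ_mul_of_mem hf ℐ m.2 ha
  | add m m' hm hm' => rw [add_mul]; exact inJ_add hf ℐ hm hm'

/-- the homogeneous ideal of a closed subscheme of `Proj` -/
def J : Ideal A where
  carrier := {a | InJ hf ℐ a}
  zero_mem' := inJ_zero hf ℐ
  add_mem' := fun ha hb => inJ_add hf ℐ ha hb
  smul_mem' := fun c _ ha => inJ_mul hf ℐ c ha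

theorem mem_J {a : A} : a ∈ J hf ℐ ↔ InJ hf ℐ a := Iff.rfl

theorem J_homogeneous : (J hf ℐ).IsHomogeneous 𝒜 := by
  intro m a ha
  rw [mem_J, inJ_of_mem hf ℐ (SetLike.coe_mem _)]
  intro i
  exact ha m i

/-- the key extension step -/
theorem exists_pow_mem (i j : ι) {k : ℕ} {a : A} (ha : a ∈ 𝒜 k)
    (hc : fn (𝒰 i) a (f i ^ k) ∈ ℐ.ideal (Ua hf i)) :
    ∃ N₀, ∀ N, N₀ ≤ N → fn (𝒰 j) (f i ^ N * a) (f j ^ (N + k)) ∈ ℐ.ideal (Ua hf j) := by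
  have hWj : Ua2 hf j i ≤ Ua hf j := by
    change 𝒰 j ⊓ 𝒰 i ≤ 𝒰 j
    exact inf_le_left
  have hWi : Ua2 hf j i ≤ Ua hf i := by
    change 𝒰 j ⊓ 𝒰 i ≤ 𝒰 i
    exact inf_le_right
  have gG : Good (𝒰 j) (f i) (f j) := good_of_mem (hf i) (hf j) (fun x => x.2)
  have hW : (Ua2 hf j i).1 = (Proj 𝒜).basicOpen (fn (𝒰 j) (f i) (f j)) := (basicOpen_fn gG).symm
  have gx : Good (𝒰 j) a (f j ^ k) := good_q hf j le_rfl ha
  have hWj' : 𝒰 j ⊓ 𝒰 i ≤ 𝒰 j := inf_le_left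
  have hWi' : 𝒰 j ⊓ 𝒰 i ≤ 𝒰 i := inf_le_right
  have hx : rres (Proj 𝒜) hWj' (fn (𝒰 j) a (f j ^ k)) ∈ ℐ.ideal (Ua2 hf j i) := by
    have h1 : rres (Proj 𝒜) hWi' (fn (𝒰 i) a (f i ^ k)) ∈ ℐ.ideal (Ua2 hf j i) :=
      ℐ.ideal_le_comap_ideal hWi hc
    rw [rres_fn _ (good_q hf i le_rfl ha)] at h1
    rw [rres_fn _ gx]
    have g1 : Good (𝒰 j ⊓ 𝒰 i) (f i ^ k) (f j ^ k) :=
      good_q hf j inf_le_left (pow_mem_of_mem_one (hf i) k)
    have g2 : Good (𝒰 j ⊓ 𝒰 i) a (f i ^ k) := good_q hf i inf_le_right ha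
    have g3 : Good (𝒰 j ⊓ 𝒰 i) a (f j ^ k) := good_q hf j inf_le_left ha
    have e : fn (𝒰 j ⊓ 𝒰 i) a (f j ^ k) =
        fn (𝒰 j ⊓ 𝒰 i) (f i ^ k) (f j ^ k) * fn (𝒰 j ⊓ 𝒰 i) a (f i ^ k) := by
      rw [fn_mul g1 g2]
      exact fn_eq g3 (g1.mul g2) (by ring)
    rw [e]
    exact Ideal.mul_mem_left _ _ h1
  obtain ⟨N₀, hN₀⟩ := exists_pow_mul_mem ℐ hWj (fn (𝒰 j) (f i) (f j)) hW _ hx
  refine ⟨N₀, fun N hN => ?_⟩
  have e : fn (𝒰 j) (f i ^ N * a) (f j ^ (N + k)) =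
      fn (𝒰 j) (f i) (f j) ^ (N - N₀) *
        (fn (𝒰 j) (f i) (f j) ^ N₀ * fn (𝒰 j) a (f j ^ k)) := by
    rw [← mul_assoc, ← pow_add, Nat.sub_add_cancel hN, fn_pow gG, fn_mul (gG.pow N) gx, pow_add]
  rw [e]
  exact Ideal.mul_mem_left _ _ hN₀

section Main

variable {B : Type u} [CommRing B] [Algebra R B] {ℬ : ℕ → Submodule R B} [GradedAlgebra ℬ]
  (φ : 𝒜 →+*ᵍ ℬ) (hφ : HomogeneousIdeal.irrelevant ℬ ≤ (HomogeneousIdeal.irrelevant 𝒜).map φ)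
  (hcov : ∀ x : Proj 𝒜, ∃ i, x ∈ Proj.basicOpen 𝒜 (f i))
  (hsurj : ∀ (n : ℕ) (b : B), b ∈ ℬ n → ∃ a ∈ 𝒜 n, φ a = b)
  (hker : ∀ a : A, φ a = 0 ↔ InJ hf ℐ a)

include hcov hsurj hker in
theorem ker_map_eq [Finite ι] : (Proj.map φ hφ).ker = ℐ := by
  haveI := isClosedImmersion_map φ hφ hf hcov hsurj
  have hU : ⨆ i, ((Ua hf i : (Proj 𝒜).affineOpens) : (Proj 𝒜).Opens) = ⊤ := by
    rw [eq_top_iff]
    intro x _
    obtain ⟨i, hi⟩ := hcov x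
    exact Opens.mem_iSup.mpr ⟨i, hi⟩
  apply Scheme.IdealSheafData.ext_of_iSup_eq_top (Ua hf) hU
  intro i
  rw [Scheme.Hom.ker_apply]
  ext c
  rw [RingHom.mem_ker]
  obtain ⟨k, a, ha, rfl⟩ := GrGen.exists_fn_eq (hf i) (show Γ(Proj 𝒜, 𝒰 i) from c)
  have h1 : (Proj.map φ hφ).app (𝒰 i) (fn (𝒰 i) a (f i ^ k)) =
      fn (Proj.basicOpen ℬ (φ (f i))) (φ a) (φ (f i) ^ k) := by
    rw [app_fn φ hφ (good_q hf i le_rfl ha), map_pow]
    rfl
  refine Iff.trans (Eq.congr_left h1) ?_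
  refine Iff.trans (fn_eq_zero_iff (Graded.map_mem φ (hf i)) (Graded.map_mem φ ha)) ?_
  constructor
  · rintro ⟨N, hN⟩
    have e0 : φ (f i) ^ N * φ a = φ (f i ^ N * a) := by rw [map_mul, map_pow]
    rw [e0, hker] at hN
    have h2 := (inJ_of_mem hf ℐ
      (SetLike.mul_mem_graded (pow_mem_of_mem_one (hf i) N) ha)).mp hN i
    have e : fn (𝒰 i) (f i ^ N * a) (f i ^ (N + k)) = fn (𝒰 i) a (f i ^ k) :=
      fn_eq (good_q hf i le_rfl (SetLike.mul_mem_graded (pow_mem_of_mem_one (hf i) N) ha))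
        (good_q hf i le_rfl ha) (by ring)
    rw [e] at h2
    exact h2
  · intro hc
    have h2 : ∀ j, ∃ N₀, ∀ N, N₀ ≤ N →
        fn (𝒰 j) (f i ^ N * a) (f j ^ (N + k)) ∈ ℐ.ideal (Ua hf j) :=
      fun j => exists_pow_mem hf ℐ i j ha hc
    choose N₀ hN₀ using h2
    obtain ⟨N, hN⟩ := Finite.exists_le N₀
    refine ⟨N, ?_⟩
    have e0 : φ (f i) ^ N * φ a = φ (f i ^ N * a) := by rw [map_mul, map_pow]
    rw [e0, hker,
      inJ_of_mem hf ℐ (SetLike.mul_mem_graded (pow_mem_of_mem_one (hf i) N) ha)]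
    exact fun j => hN₀ j N (hN j)

end Main

include hf in
/-- a closed subscheme of `Proj 𝒜` (irrelevant ideal generated by finitely many elements of degree
one) is `Proj` of a graded quotient -/
theorem exists_proj_quotient [Finite ι]
    (hcov : ∀ x : Proj 𝒜, ∃ i, x ∈ Proj.basicOpen 𝒜 (f i))
    {Z : Scheme.{u}} (i : Z ⟶ Proj 𝒜) [IsClosedImmersion i] :
    ∃ (B : Type u) (_ : CommRing B) (_ : Algebra R B) (ℬ : ℕ → Submodule R B)
      (_ : GradedAlgebra ℬ) (φ : 𝒜 →+*ᵍ ℬ) (_ : Function.Surjective φ)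
      (hφ : HomogeneousIdeal.irrelevant ℬ ≤ (HomogeneousIdeal.irrelevant 𝒜).map φ)
      (e : Z ≅ Proj ℬ), e.hom ≫ Proj.map φ hφ = i := by
  have hJ := J_homogeneous hf i.ker
  letI := GrQuot.gradedAlgebra 𝒜 (J hf i.ker) hJ
  have hsurj : ∀ (n : ℕ) (b : A ⧸ J hf i.ker), b ∈ GrQuot.piece 𝒜 (J hf i.ker) n →
      ∃ a ∈ 𝒜 n, GrQuot.mkHom 𝒜 (J hf i.ker) a = b :=
    fun n b hb => GrQuot.exists_of_mem_piece 𝒜 (J hf i.ker) hb
  have hker : ∀ a : A, GrQuot.mkHom 𝒜 (J hf i.ker) a = 0 ↔ InJ hf i.ker a :=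
    fun a => Ideal.Quotient.eq_zero_iff_mem
  have hk : (Proj.map (GrQuot.mkHom 𝒜 (J hf i.ker))
      (GrQuot.irrelevant_le 𝒜 (J hf i.ker) hJ)).ker = i.ker :=
    ker_map_eq hf i.ker _ _ hcov hsurj hker
  haveI : IsClosedImmersion (Proj.map (GrQuot.mkHom 𝒜 (J hf i.ker))
      (GrQuot.irrelevant_le 𝒜 (J hf i.ker) hJ)) :=
    isClosedImmersion_map _ _ hf hcov hsurj
  haveI := IsClosedImmersion.isIso_lift (Proj.map (GrQuot.mkHom 𝒜 (J hf i.ker))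
      (GrQuot.irrelevant_le 𝒜 (J hf i.ker) hJ)) i hk
  exact ⟨A ⧸ J hf i.ker, inferInstance, inferInstance, GrQuot.piece 𝒜 (J hf i.ker),
    GrQuot.gradedAlgebra 𝒜 (J hf i.ker) hJ, GrQuot.mkHom 𝒜 (J hf i.ker),
    GrQuot.mkHom_surjective _ _, GrQuot.irrelevant_le 𝒜 (J hf i.ker) hJ,
    asIso (IsClosedImmersion.lift _ i hk.le), IsClosedImmersion.lift_fac _ _ _⟩

include hf in
/-- a closed subscheme of `Proj 𝒜` is `Proj ℬ` as soon as `ℬ` is a graded quotient of `𝒜` by the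
homogeneous ideal of the subscheme -/
theorem exists_iso_of_ker [Finite ι]
    (hcov : ∀ x : Proj 𝒜, ∃ i, x ∈ Proj.basicOpen 𝒜 (f i))
    {B : Type u} [CommRing B] [Algebra R B] {ℬ : ℕ → Submodule R B} [GradedAlgebra ℬ]
    (φ : 𝒜 →+*ᵍ ℬ) (hφ : HomogeneousIdeal.irrelevant ℬ ≤ (HomogeneousIdeal.irrelevant 𝒜).map φ)
    (hsurj : ∀ (n : ℕ) (b : B), b ∈ ℬ n → ∃ a ∈ 𝒜 n, φ a = b)
    {Z : Scheme.{u}} (i : Z ⟶ Proj 𝒜) [IsClosedImmersion i]
    (hker : ∀ a : A, φ a = 0 ↔ InJ hf i.ker a) :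
    ∃ e : Z ≅ Proj ℬ, e.hom ≫ Proj.map φ hφ = i := by
  have hk : (Proj.map φ hφ).ker = i.ker := ker_map_eq hf i.ker φ hφ hcov hsurj hker
  haveI : IsClosedImmersion (Proj.map φ hφ) := isClosedImmersion_map φ hφ hf hcov hsurj
  haveI := IsClosedImmersion.isIso_lift (Proj.map φ hφ) i hk
  exact ⟨asIso (IsClosedImmersion.lift _ i hk.le), IsClosedImmersion.lift_fac _ _ _⟩

end Groth.Agent.Lib.Helper3.ProjClosed
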