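import Groth.Agent.Lib.Helper3.RelSpec
import Groth.Agent.Lib.Helper3.QCSec

/-!
# The relative spectrum of a quasi-coherent `𝒪_S`-algebra
-/

set_option autoImplicit false
universe u
open CategoryTheory CategoryTheory.Limits AlgebraicGeometry TopologicalSpace Opposite
open AlgebraicGeometry.Scheme AlgebraicGeometry.Scheme.AffineZariskiSite

namespace Groth.Agent.Lib.Helper3.RelSpec

variable {S : Scheme.{u}} (B : Sheaf (Opens.grothendieckTopology S) CommRingCat.{u})
  (φ : S.sheaf ⟶ B)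

/-- `B` as an `𝒪_S`-module. -/
noncomputable abbrev Bmod : S.Modules :=
  (SheafOfModules.restrictScalars
    ((sheafCompose (Opens.grothendieckTopology S) (forget₂ CommRingCat.{u} RingCat.{u})).map φ)).obj
    (SheafOfModules.unit
      ((sheafCompose (Opens.grothendieckTopology S) (forget₂ CommRingCat.{u} RingCat.{u})).obj B))

/-- sections of `Bmod` are sections of `B` -/
def toB (U : S.Opens) (m : Γ(Bmod B φ, U)) : B.obj.obj (op U) := m

/-- sections of `B` are sections of `Bmod` -/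
def ofB (U : S.Opens) (b : B.obj.obj (op U)) : Γ(Bmod B φ, U) := b

theorem toB_smul (U : S.Opens) (r : Γ(S, U)) (m : Γ(Bmod B φ, U)) :
    toB B φ U (r • m) = φ.hom.app (op U) r * toB B φ U m := rfl

theorem toB_res {U V : S.Opens} (h : V ≤ U) (m : Γ(Bmod B φ, U)) :
    toB B φ V (QCSec.res (Bmod B φ) h m) = B.obj.map (homOfLE h).op (toB B φ U m) := rfl

theorem toB_zero (U : S.Opens) : toB B φ U 0 = 0 := rfl

/-- Restriction of `B` to the affine site. -/
noncomputable abbrev Faff : S.AffineZariskiSiteᵒᵖ ⥤ CommRingCat.{u} :=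
  (toOpensFunctor S).op ⋙ B.obj

/-- Restriction of `φ` to the affine site. -/
noncomputable abbrev αaff : (toOpensFunctor S).op ⋙ S.presheaf ⟶ Faff B :=
  Functor.whiskerLeft (toOpensFunctor S).op φ.hom

theorem loc_core_abs {R R' A A' : Type*} [CommRing R] [CommRing R'] [CommRing A] [CommRing A']
    (φU : R →+* A) (φV : R' →+* A') (ρS : R →+* R') (ρ : A →+* A') (r : R)
    (hnat : ∀ a, ρ (φU a) = φV (ρS a)) (hunit : IsUnit (ρS r))
    (hsurj : ∀ z : A', ∃ (n : ℕ) (s : A), ρ s = φV (ρS r ^ n) * z)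
    (hinj : ∀ s : A, ρ s = 0 → ∃ n : ℕ, φU (r ^ n) * s = 0) :
    (∀ n : ℕ, IsUnit (ρ (φU r ^ n))) ∧
    (∀ z : A', ∃ (b : A) (n : ℕ), z * ρ (φU r ^ n) = ρ b) ∧
    (∀ a b : A, ρ a = ρ b → ∃ n : ℕ, φU r ^ n * a = φU r ^ n * b) := by
  refine ⟨?_, ?_, ?_⟩
  · intro n
    rw [map_pow, hnat]
    exact (hunit.map φV).pow n
  · intro z
    obtain ⟨n, s, hs⟩ := hsurj z
    refine ⟨s, n, ?_⟩
    rw [map_pow, hnat, hs, map_pow, mul_comm]
  · intro a b hab
    have h2 : ρ (a - b) = 0 := by rw [map_sub, hab, sub_self]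
    obtain ⟨n, hn⟩ := hinj _ h2
    refine ⟨n, ?_⟩
    rw [map_pow, mul_sub, sub_eq_zero] at hn
    exact hn

theorem loc_core [(Bmod B φ).IsQuasicoherent] {U : S.Opens} (hU : IsAffineOpen U) (r : Γ(S, U)) :
    (∀ n : ℕ, IsUnit ((B.obj.map (homOfLE (S.basicOpen_le r)).op).hom
      (φ.hom.app (op U) r ^ n))) ∧
    (∀ z : B.obj.obj (op (S.basicOpen r)), ∃ (b : B.obj.obj (op U)) (n : ℕ),
      z * (B.obj.map (homOfLE (S.basicOpen_le r)).op).hom (φ.hom.app (op U) r ^ n) =
        (B.obj.map (homOfLE (S.basicOpen_le r)).op).hom b) ∧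
    (∀ a b : B.obj.obj (op U), (B.obj.map (homOfLE (S.basicOpen_le r)).op).hom a =
      (B.obj.map (homOfLE (S.basicOpen_le r)).op).hom b →
      ∃ n : ℕ, φ.hom.app (op U) r ^ n * a = φ.hom.app (op U) r ^ n * b) := by
  have hloc := QCSec.isLocSec_of_isQuasicoherent (Bmod B φ) hU r (S.basicOpen r) rfl
    (S.basicOpen_le r)
  refine loc_core_abs (R := Γ(S, U)) (R' := Γ(S, S.basicOpen r)) (A := B.obj.obj (op U))
    (A' := B.obj.obj (op (S.basicOpen r))) (φ.hom.app (op U)).hom
    (φ.hom.app (op (S.basicOpen r))).hom (S.presheaf.map (homOfLE (S.basicOpen_le r)).op).hom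
    (B.obj.map (homOfLE (S.basicOpen_le r)).op).hom r ?_ ?_ ?_ ?_
  · intro a
    exact (congr($(φ.hom.naturality (homOfLE (S.basicOpen_le r)).op) a)).symm
  · exact RingedSpace.isUnit_res_basicOpen _ r
  · intro z
    obtain ⟨n, s, hs⟩ := hloc.surj (ofB B φ _ z)
    exact ⟨n, toB B φ _ s, congrArg (toB B φ _) hs⟩
  · intro s hs
    exact hloc.inj (ofB B φ _ s) hs

set_option backward.isDefEq.respectTransparency false in
theorem isLocalization_away [(Bmod B φ).IsQuasicoherent] (U : S.AffineZariskiSite)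
    (r : Γ(S, U.1)) :
    letI := ((Faff B).map (homOfLE (U.basicOpen_le r)).op).hom.toAlgebra
    IsLocalization.Away ((αaff B φ).app (op U) r) ((Faff B).obj (op (U.basicOpen r))) := by
  letI := ((Faff B).map (homOfLE (U.basicOpen_le r)).op).hom.toAlgebra
  obtain ⟨h1, h2, h3⟩ := loc_core B φ U.2 r
  refine (isLocalization_iff _ _).mpr ⟨?_, ?_, ?_⟩
  · rintro ⟨_, n, rfl⟩
    exact h1 n
  · intro z
    obtain ⟨b, n, hb⟩ := h2 z
    exact ⟨⟨b, ⟨_, n, rfl⟩⟩, hb⟩
  · intro a b hab
    obtain ⟨n, hn⟩ := h3 a b hab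
    exact ⟨⟨_, n, rfl⟩, hn⟩

theorem coequifibered [(Bmod B φ).IsQuasicoherent] : (αaff B φ).Coequifibered :=
  coequifibered_iff_forall_isLocalizationAway.mpr (fun U r => isLocalization_away B φ U r)

set_option backward.isDefEq.respectTransparency false in
/-- Existence of the relative spectrum of a quasi-coherent algebra. -/
theorem exists_relSpec [(Bmod B φ).IsQuasicoherent] :
    ∃ (X : Scheme.{u}) (f : X ⟶ S) (_ : IsAffineHom f)
      (e : B ≅ (TopCat.Sheaf.pushforward CommRingCat.{u} f.base).obj X.sheaf),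
      (φ ≫ e.hom).hom = f.c := by
  have H : (αaff B φ).Coequifibered := coequifibered B φ
  let P := (TopCat.Sheaf.pushforward CommRingCat.{u} (proj H).base).obj (rspec H).sheaf
  let i0 : (toOpensFunctor S).op ⋙ P.obj ≅ (toOpensFunctor S).op ⋙ B.obj :=
    NatIso.ofComponents (fun U => asIso (psi H U.unop)) (by
      intro U V j
      exact psi_naturality H j.unop _)
  let e : B ≅ P := Functor.IsCoverDense.sheafIso (G := toOpensFunctor S) i0.symm
  refine ⟨rspec H, proj H, isAffineHom_proj H, e, ?_⟩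
  apply (Functor.IsCoverDense.restrictHomEquivHom (G := toOpensFunctor S) (ℱ' := P)).symm.injective
  apply NatTrans.ext
  funext U
  have h1 : (Functor.IsCoverDense.sheafHom (G := toOpensFunctor S) (ℱ' := P) i0.symm.hom).app
      ((toOpensFunctor S).op.obj U) = i0.symm.hom.app U :=
    congrArg (fun t => t.app U) (Functor.IsCoverDense.sheafHom_restrict_eq i0.symm.hom)
  change φ.hom.app _ ≫ (Functor.IsCoverDense.sheafHom (G := toOpensFunctor S) (ℱ' := P)
    i0.symm.hom).app ((toOpensFunctor S).op.obj U) = (proj H).app U.unop.1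
  rw [h1]
  change φ.hom.app _ ≫ inv (psi H U.unop) = _
  rw [IsIso.comp_inv_eq]
  exact (proj_app_psi H U.unop).symm

end Groth.Agent.Lib.Helper3.RelSpec
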