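import Groth.Agent.Lib.Helper3.PEmb2
import Groth.Agent.Lib.Helper3.ProjClosed
import Groth.Agent.Lib.Helper3.GrTransport
import Groth.Agent.Lib.Helper3.RelSpecQC
import Mathlib.RingTheory.MvPolynomial.Localization

/-!
# The homogeneous ideal of `Z ⟶ Proj R[x]` and its functoriality
-/

set_option autoImplicit false
set_option linter.unusedSectionVars false
universe u
open CategoryTheory CategoryTheory.Limits AlgebraicGeometry TopologicalSpace Opposite
open Scheme.Modules
open scoped HomogeneousIdeal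

namespace Groth.Agent.Lib.Helper3.PEmb3

open QCSec TwistBasic GrTildeQC ProjFrac GrTildeHom ToProj ProjGlue ProjOfSec GrScale VAChart VACore
  VAConv ProjHet PEmb1 PEmb2 ProjClosed

variable (n : ℕ)

section One

variable {R : Type u} [CommRing R] {Z : Scheme.{u}} (q : Z ⟶ Spec (CommRingCat.of R))
  (r : Z ⟶ CohB1.ProjSpace n (ULift.{u} ℤ))

/-- the degree one generators of the polynomial ring -/
noncomputable abbrev fX (R : Type u) [CommRing R] : κ.{u} n → MvPolynomial (Fin (n + 1)) R :=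
  fun k => MvPolynomial.X k.down

theorem hfX (R : Type u) [CommRing R] : ∀ k, fX n R k ∈ CohB1.polyGrading n R 1 :=
  fun k => hXR n k.down

theorem hcovX (R : Type u) [CommRing R] (x : Proj (CohB1.polyGrading n R)) :
    ∃ k : κ.{u} n, x ∈ Proj.basicOpen (CohB1.polyGrading n R) (fX n R k) := by
  obtain ⟨j, hj⟩ := exists_mem_basicOpen_X R n x
  exact ⟨⟨j⟩, hj⟩

/-- the homogeneous ideal of `Z` in the polynomial ring -/
noncomputable def JZ : Ideal (MvPolynomial (Fin (n + 1)) R) :=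
  ProjClosed.J (hfX n R) (iZ n q r).ker

theorem JZ_homogeneous : (JZ n q r).IsHomogeneous (CohB1.polyGrading n R) :=
  J_homogeneous _ _

noncomputable instance instGA :
    GradedAlgebra (GrQuot.piece (CohB1.polyGrading n R) (JZ n q r)) :=
  GrQuot.gradedAlgebra _ _ (JZ_homogeneous n q r)

theorem rres_eq_zero_iff_of_eq {U V : Z.Opens} (h : V = U) (e : V ≤ U) (x : Γ(Z, U)) :
    rres Z e x = 0 ↔ x = 0 := by
  subst h
  rw [rres_self]

theorem mem_JZ_iff [QuasiCompact (iZ n q r)] {m : ℕ} {b : MvPolynomial (Fin (n + 1)) R}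
    (hb : b ∈ CohB1.polyGrading n R m) : b ∈ JZ n q r ↔ ∀ k, psi n q r k b = 0 := by
  unfold JZ
  rw [mem_J, inJ_of_mem _ _ hb]
  refine forall_congr' (fun k => ?_)
  rw [Scheme.Hom.ker_apply]
  change (iZ n q r).app (Proj.basicOpen (CohB1.polyGrading n R) (fX n R k))
    (fn (Proj.basicOpen (CohB1.polyGrading n R) (fX n R k)) b (fX n R k ^ m)) = 0 ↔ _
  rw [← iZ_appLE_fn n q r k hb, appLE_eq_rres]
  exact (rres_eq_zero_iff_of_eq (iZ_preimage n q r k).symm _ _).symm

theorem mem_JZ_iff' [QuasiCompact (iZ n q r)] (b : MvPolynomial (Fin (n + 1)) R) :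
    b ∈ JZ n q r ↔ ∀ m k, psi n q r k
      (DirectSum.decompose (CohB1.polyGrading n R) b m : MvPolynomial (Fin (n + 1)) R) = 0 := by
  constructor
  · intro hb m
    exact (mem_JZ_iff n q r (SetLike.coe_mem _)).mp (JZ_homogeneous n q r m hb)
  · intro h
    classical
    rw [← DirectSum.sum_support_decompose (CohB1.polyGrading n R) b]
    exact sum_mem (fun m _ => (mem_JZ_iff n q r (SetLike.coe_mem _)).mpr (h m))

theorem isAffineOpen_Zo [IsClosedImmersion (iZ n q r)] (k : κ.{u} n) : IsAffineOpen (Zo n r k) := by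
  rw [← iZ_preimage n q r k]
  exact (Proj.isAffineOpen_basicOpen _ _ (hXR n k.down) Nat.one_pos).preimage (iZ n q r)

/-- `Z` is the `Proj` of the quotient by its homogeneous ideal -/
theorem exists_eZ [IsClosedImmersion (iZ n q r)] :
    ∃ e : Z ≅ Proj (GrQuot.piece (CohB1.polyGrading n R) (JZ n q r)),
      e.hom ≫ Proj.map (GrQuot.mkHom (CohB1.polyGrading n R) (JZ n q r))
        (GrQuot.irrelevant_le _ _ (JZ_homogeneous n q r)) = iZ n q r :=
  exists_iso_of_ker (hfX n R) (hcovX n R) (GrQuot.mkHom (CohB1.polyGrading n R) (JZ n q r))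
    (GrQuot.irrelevant_le _ _ (JZ_homogeneous n q r))
    (fun _ _ hb => GrQuot.exists_of_mem_piece _ _ hb) (iZ n q r)
    (fun _ => Ideal.Quotient.eq_zero_iff_mem)

/-- the isomorphism of `Z` with the `Proj` of the quotient -/
noncomputable def eZ [IsClosedImmersion (iZ n q r)] :
    Z ≅ Proj (GrQuot.piece (CohB1.polyGrading n R) (JZ n q r)) :=
  (exists_eZ n q r).choose

theorem eZ_hom [IsClosedImmersion (iZ n q r)] :
    (eZ n q r).hom ≫ Proj.map (GrQuot.mkHom (CohB1.polyGrading n R) (JZ n q r))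
      (GrQuot.irrelevant_le _ _ (JZ_homogeneous n q r)) = iZ n q r :=
  (exists_eZ n q r).choose_spec

end One

section Two

variable {R R' : Type u} [CommRing R] [CommRing R'] (θ : R →+* R') {Z Z' : Scheme.{u}}
  (q : Z ⟶ Spec (CommRingCat.of R)) (r : Z ⟶ CohB1.ProjSpace n (ULift.{u} ℤ))
  (q' : Z' ⟶ Spec (CommRingCat.of R')) (r' : Z' ⟶ CohB1.ProjSpace n (ULift.{u} ℤ))
  (h : Z' ⟶ Z) (hr : h ≫ r = r') (hq : h ≫ q = q' ≫ Spec.map (CommRingCat.ofHom θ))

include hr in
theorem Zo_eq (k : κ.{u} n) : Zo n r' k = h ⁻¹ᵁ Zo n r k := by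
  subst hr
  rfl

include hr in
theorem uu_comp (j k : κ.{u} n) :
    uu n r' j k = h.appLE (Zo n r k) (Zo n r' k) (Zo_eq n r r' h hr k).le (uu n r j k) := by
  subst hr
  unfold uu
  exact (congrArg (fun φ : Γ(CohB1.ProjSpace n (ULift.{u} ℤ), Dk n (idx n) k) ⟶
      Γ(Z', Zo n (h ≫ r) k) => φ.hom (fn (Dk n (idx n) k)
        (MvPolynomial.X j.down : MvPolynomial (Fin (n + 1)) (ULift.{u} ℤ)) (MvPolynomial.X k.down)))
    (Scheme.Hom.appLE_comp_appLE h r (Dk n (idx n) k) (Zo n r k) (Zo n (h ≫ r) k) le_rfl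
      (le_of_eq rfl))).symm

include hr hq in
theorem sc_comp (k : κ.{u} n) (c : R) :
    sc n q' r' k (θ c) = h.appLE (Zo n r k) (Zo n r' k) (Zo_eq n r r' h hr k).le (sc n q r k c) := by
  rw [sc_apply, sc_apply, appLE_rres h le_top, appLE_eq_rres]
  have h3 := Scheme.ΓSpecIso_inv_naturality (CommRingCat.ofHom θ)
  have h4 : ((Spec.map (CommRingCat.ofHom θ)).appTop)
      ((Scheme.ΓSpecIso (CommRingCat.of R)).inv c) =
      (Scheme.ΓSpecIso (CommRingCat.of R')).inv (θ c) :=
    (congrArg (fun φ => φ.hom c) h3).symm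
  have h5 : h.app ⊤ (q.appTop ((Scheme.ΓSpecIso (CommRingCat.of R)).inv c)) =
      q'.appTop ((Scheme.ΓSpecIso (CommRingCat.of R')).inv (θ c)) := by
    rw [← h4]
    have h6 := congrArg (fun t => t.appTop) hq
    simp only [Scheme.Hom.comp_appTop] at h6
    exact congrArg (fun φ => φ.hom ((Scheme.ΓSpecIso (CommRingCat.of R)).inv c)) h6
  rw [h5]
  rfl

include hr hq in
theorem psi_comp (k : κ.{u} n) (b : MvPolynomial (Fin (n + 1)) R) :
    psi n q' r' k (MvPolynomial.map θ b) =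
      h.appLE (Zo n r k) (Zo n r' k) (Zo_eq n r r' h hr k).le (psi n q r k b) := by
  have : (psi n q' r' k).comp (MvPolynomial.map θ) =
      (h.appLE (Zo n r k) (Zo n r' k) (Zo_eq n r r' h hr k).le).hom.comp (psi n q r k) := by
    apply MvPolynomial.ringHom_ext
    · intro c
      rw [RingHom.comp_apply, RingHom.comp_apply, MvPolynomial.map_C, psi_C, psi_C]
      exact sc_comp n θ q r q' r' h hr hq k c
    · intro j
      rw [RingHom.comp_apply, RingHom.comp_apply, MvPolynomial.map_X, psi_X, psi_X]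
      exact uu_comp n r r' h hr ⟨j⟩ k
  exact congrArg (fun φ => φ b) this

include hr hq in
theorem map_mem_JZ [QuasiCompact (iZ n q r)] [QuasiCompact (iZ n q' r')]
    {b : MvPolynomial (Fin (n + 1)) R} (hb : b ∈ JZ n q r) :
    MvPolynomial.map θ b ∈ JZ n q' r' := by
  rw [mem_JZ_iff'] at hb ⊢
  intro m k
  have h1 : (DirectSum.decompose (CohB1.polyGrading n R') (MvPolynomial.map θ b) m :
      MvPolynomial (Fin (n + 1)) R') =
      MvPolynomial.map θ (DirectSum.decompose (CohB1.polyGrading n R) b m :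
        MvPolynomial (Fin (n + 1)) R) :=
    (GradedRingHom.map_directSumDecompose (CohB1.polyGrading n R) (CohB1.polyGrading n R')
      (mapG n θ)).symm
  rw [h1, psi_comp n θ q r q' r' h hr hq, hb m k, map_zero]

/-- the induced graded homomorphism of the quotients -/
noncomputable def quotHom [QuasiCompact (iZ n q r)] [QuasiCompact (iZ n q' r')] :
    GrQuot.piece (CohB1.polyGrading n R) (JZ n q r) →+*ᵍ
      GrQuot.piece (CohB1.polyGrading n R') (JZ n q' r') where
  toRingHom := Ideal.quotientMap (JZ n q' r') (MvPolynomial.map θ)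
    (fun _ hb => map_mem_JZ n θ q r q' r' h hr hq hb)
  map_mem := by
    intro d x hx
    obtain ⟨a, ha, rfl⟩ := GrQuot.exists_of_mem_piece _ _ hx
    exact GrQuot.mk_mem_piece _ _ ((mapG n θ).map_mem ha)

theorem quotHom_mk [QuasiCompact (iZ n q r)] [QuasiCompact (iZ n q' r')]
    (a : MvPolynomial (Fin (n + 1)) R) :
    quotHom n θ q r q' r' h hr hq (Ideal.Quotient.mk (JZ n q r) a) =
      Ideal.Quotient.mk (JZ n q' r') (MvPolynomial.map θ a) := rfl

theorem irr_quot [QuasiCompact (iZ n q r)] [QuasiCompact (iZ n q' r')] :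
    (GrQuot.piece (CohB1.polyGrading n R') (JZ n q' r'))₊ ≤
      ((GrQuot.piece (CohB1.polyGrading n R) (JZ n q r))₊).map
        (quotHom n θ q r q' r' h hr hq) := by
  rw [HomogeneousIdeal.irrelevant_le]
  intro i hi x hx
  change x ∈ Ideal.map (quotHom n θ q r q' r' h hr hq)
    ((GrQuot.piece (CohB1.polyGrading n R) (JZ n q r))₊).toIdeal
  obtain ⟨b, hb, rfl⟩ := GrQuot.exists_of_mem_piece _ _ hx
  have hb' : b.IsHomogeneous i := hb
  rw [GrQuot.mkHom_apply, ← MvPolynomial.support_sum_monomial_coeff b, map_sum]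
  refine sum_mem (fun μ hμ => ?_)
  have hdeg : μ.degree = i := by
    by_contra hne
    exact (MvPolynomial.mem_support_iff.mp hμ) (hb'.coeff_eq_zero hne)
  have e : Ideal.Quotient.mk (JZ n q' r') (MvPolynomial.monomial μ (MvPolynomial.coeff μ b)) =
      Ideal.Quotient.mk (JZ n q' r') (MvPolynomial.C (MvPolynomial.coeff μ b)) *
        quotHom n θ q r q' r' h hr hq
          (Ideal.Quotient.mk (JZ n q r) (MvPolynomial.monomial μ (1 : R))) := by
    rw [quotHom_mk, ← map_mul, MvPolynomial.map_monomial, map_one,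
      MvPolynomial.C_mul_monomial, mul_one]
  rw [e]
  refine Ideal.mul_mem_left _ _ (Ideal.mem_map_of_mem _ ?_)
  exact HomogeneousIdeal.mem_irrelevant_of_mem _ hi
    (GrQuot.mk_mem_piece _ _ (MvPolynomial.isHomogeneous_monomial (1 : R) hdeg))

include hr hq in
theorem iZ_comp :
    h ≫ iZ n q r = iZ n q' r' ≫ Proj.map (mapG n θ) (irr_mapG n θ) := by
  have e1 : ∀ k : κ.{u} n, Zo n r' k ≤ (h ≫ iZ n q r) ⁻¹ᵁ
      Proj.basicOpen (CohB1.polyGrading n R) (fX n R k) := by
    intro k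
    rw [Scheme.Hom.comp_preimage, iZ_preimage, Zo_eq n r r' h hr k]
  have e2 : ∀ k : κ.{u} n, Zo n r' k ≤ iZ n q' r' ⁻¹ᵁ
      Proj.basicOpen (CohB1.polyGrading n R') (mapG n θ (fX n R k)) := by
    intro k
    rw [mapG_apply, MvPolynomial.map_X]
    exact le_preimage n q' r' k
  refine hom_ext_of_deh (𝒜 := CohB1.polyGrading n R) _ _ (fX n R) (hfX n R) (Zo n r')
    (data n q' r').cov e1 (fun k => e2 k) (fun k b => ?_)
  have h1 := Scheme.Hom.appLE_comp_appLE h (iZ n q r)
    (Proj.basicOpen (CohB1.polyGrading n R) (fX n R k)) (Zo n r k) (Zo n r' k)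
    (le_preimage n q r k) (Zo_eq n r r' h hr k).le
  have h2 := congrArg (fun φ => φ.hom (deh (hfX n R k) b)) h1
  refine h2.symm.trans ?_
  change h.appLE (Zo n r k) (Zo n r' k) (Zo_eq n r r' h hr k).le
    ((iZ n q r).appLE (Proj.basicOpen (CohB1.polyGrading n R) (fX n R k)) (Zo n r k)
      (le_preimage n q r k) (deh (hfX n R k) b)) = _
  rw [iZ_appLE_deh, ← psi_comp n θ q r q' r' h hr hq]
  refine Eq.trans ?_ (comp_map_appLE_deh (mapG n θ) (irr_mapG n θ) (iZ n q' r') (hfX n R k)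
    (Zo n r' k) (e2 k) (e2 k) b).symm
  refine Eq.trans ?_ (appLE_deh_congr n (iZ n q' r') (Zo n r' k)
    (by rw [mapG_apply, MvPolynomial.map_X]) _ (hXR n k.down) (e2 k) (le_preimage n q' r' k) _).symm
  rw [iZ_appLE_deh, mapG_apply]

include hr hq in
theorem eZ_comp [IsClosedImmersion (iZ n q r)] [IsClosedImmersion (iZ n q' r')] :
    h ≫ (eZ n q r).hom = (eZ n q' r').hom ≫
      Proj.map (quotHom n θ q r q' r' h hr hq) (irr_quot n θ q r q' r' h hr hq) := by
  haveI : IsClosedImmersion (Proj.map (GrQuot.mkHom (CohB1.polyGrading n R) (JZ n q r))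
      (GrQuot.irrelevant_le _ _ (JZ_homogeneous n q r))) :=
    ProjMapFn.isClosedImmersion_map _ _ (hfX n R) (hcovX n R)
      (fun _ _ hb => GrQuot.exists_of_mem_piece _ _ hb)
  have hR : ((eZ n q' r').hom ≫
      Proj.map (quotHom n θ q r q' r' h hr hq) (irr_quot n θ q r q' r' h hr hq)) ≫
      Proj.map (GrQuot.mkHom (CohB1.polyGrading n R) (JZ n q r))
        (GrQuot.irrelevant_le _ _ (JZ_homogeneous n q r)) =
      ((eZ n q' r').hom ≫ Proj.map (GrQuot.mkHom (CohB1.polyGrading n R') (JZ n q' r'))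
        (GrQuot.irrelevant_le _ _ (JZ_homogeneous n q' r'))) ≫
        Proj.map (mapG n θ) (irr_mapG n θ) := by
    rw [Category.assoc, Category.assoc, ← Proj.map_comp, ← Proj.map_comp]
    congr 1
  rw [← cancel_mono (Proj.map (GrQuot.mkHom (CohB1.polyGrading n R) (JZ n q r))
      (GrQuot.irrelevant_le _ _ (JZ_homogeneous n q r))), Category.assoc, eZ_hom,
    iZ_comp n θ q r q' r' h hr hq, hR, eZ_hom]

end Two

section Loc

variable {R R' : Type u} [CommRing R] [CommRing R'] (θ : R →+* R') {Z Z' : Scheme.{u}}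
  (q : Z ⟶ Spec (CommRingCat.of R)) (r : Z ⟶ CohB1.ProjSpace n (ULift.{u} ℤ))
  (q' : Z' ⟶ Spec (CommRingCat.of R')) (r' : Z' ⟶ CohB1.ProjSpace n (ULift.{u} ℤ))
  (h : Z' ⟶ Z) (hr : h ≫ r = r') (hq : h ≫ q = q' ≫ Spec.map (CommRingCat.ofHom θ))
  (s : R) [IsOpenImmersion h]
  (hrange : h.opensRange = Z.basicOpen (q.appTop ((Scheme.ΓSpecIso (CommRingCat.of R)).inv s)))

theorem rres_eq_zero_of_eq {U V V' : Z.Opens} (hV : V = V') (e : V ≤ U) (e' : V' ≤ U)
    (x : Γ(Z, U)) (h0 : rres Z e x = 0) : rres Z e' x = 0 := by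
  subst hV
  exact h0

include hr hrange in
theorem exists_pow_mul_eq_zero [IsClosedImmersion (iZ n q r)]
    (k : κ.{u} n) (x : Γ(Z, Zo n r k))
    (hx : h.appLE (Zo n r k) (Zo n r' k) (Zo_eq n r r' h hr k).le x = 0) :
    ∃ N : ℕ, sc n q r k s ^ N * x = 0 := by
  have hqc : IsCompact (Zo n r k : Set Z) := (isAffineOpen_Zo n q r k).isCompact
  refine exists_pow_mul_eq_zero_of_res_basicOpen_eq_zero_of_isCompact Z hqc x (sc n q r k s) ?_
  have himg : h ''ᵁ (Zo n r' k) = Z.basicOpen (sc n q r k s) := by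
    rw [Zo_eq n r r' h hr k, Scheme.Hom.image_preimage_eq_opensRange_inf, hrange, sc_apply,
      inf_comm]
    exact (Scheme.basicOpen_res Z _ (homOfLE le_top).op).symm
  have h1 := congrArg (fun φ => φ.hom x)
    (Scheme.Hom.appLE_appIso_inv h (Zo_eq n r r' h hr k).le)
  have h2 : (h.appIso (Zo n r' k)).inv.hom (h.appLE (Zo n r k) (Zo n r' k)
      (Zo_eq n r r' h hr k).le x) = 0 := by
    rw [hx, map_zero]
  have h3 : rres Z ((h.image_mono (Zo_eq n r r' h hr k).le).trans
      (h.image_preimage_eq_opensRange_inf (Zo n r k) ▸ inf_le_right)) x = 0 :=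
    h1.symm.trans h2
  exact rres_eq_zero_of_eq himg _ (Z.basicOpen_le _) x h3

include hr hq hrange in
theorem exists_pow_mul_mem_of_mem [IsClosedImmersion (iZ n q r)]
    [IsClosedImmersion (iZ n q' r')] {m : ℕ}
    {b : MvPolynomial (Fin (n + 1)) R} (hb : b ∈ CohB1.polyGrading n R m)
    (hJ : MvPolynomial.map θ b ∈ JZ n q' r') :
    ∃ N : ℕ, MvPolynomial.C (s ^ N) * b ∈ JZ n q r := by
  have hb' : MvPolynomial.map θ b ∈ CohB1.polyGrading n R' m := (mapG n θ).map_mem hb
  have h1 : ∀ k, ∃ N : ℕ, sc n q r k s ^ N * psi n q r k b = 0 := by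
    intro k
    refine exists_pow_mul_eq_zero n q r r' h hr s hrange k _ ?_
    rw [← psi_comp n θ q r q' r' h hr hq]
    exact (mem_JZ_iff n q' r' hb').mp hJ k
  choose N hN using h1
  refine ⟨∑ k, N k, ?_⟩
  have hC : MvPolynomial.C (s ^ ∑ k, N k) * b ∈ CohB1.polyGrading n R m := by
    have := SetLike.mul_mem_graded (A := CohB1.polyGrading n R)
      (MvPolynomial.isHomogeneous_C (Fin (n + 1)) (s ^ ∑ k, N k)) hb
    rwa [zero_add] at this
  rw [mem_JZ_iff n q r hC]
  intro k
  have hle : N k ≤ ∑ k, N k := Finset.single_le_sum (fun _ _ => Nat.zero_le _) (Finset.mem_univ k)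
  rw [map_mul, psi_C, map_pow, ← Nat.sub_add_cancel hle, pow_add, mul_assoc, hN k, mul_zero]

include hr hq hrange in
theorem exists_pow_mul_mem [IsClosedImmersion (iZ n q r)]
    [IsClosedImmersion (iZ n q' r')]
    (b : MvPolynomial (Fin (n + 1)) R) (hJ : MvPolynomial.map θ b ∈ JZ n q' r') :
    ∃ N : ℕ, MvPolynomial.C (s ^ N) * b ∈ JZ n q r := by
  classical
  rw [← DirectSum.sum_support_decompose (CohB1.polyGrading n R) b]
  refine Finset.sum_induction _ (fun x => ∃ N : ℕ, MvPolynomial.C (s ^ N) * x ∈ JZ n q r)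
    ?_ ⟨0, by rw [mul_zero]; exact zero_mem _⟩ ?_
  · rintro a a' ⟨N, hN⟩ ⟨N', hN'⟩
    refine ⟨N + N', ?_⟩
    have e : MvPolynomial.C (s ^ (N + N')) * (a + a') =
        MvPolynomial.C (s ^ N') * (MvPolynomial.C (s ^ N) * a) +
          MvPolynomial.C (s ^ N) * (MvPolynomial.C (s ^ N') * a') := by
      rw [pow_add, map_mul]
      ring
    rw [e]
    exact add_mem (Ideal.mul_mem_left _ _ hN) (Ideal.mul_mem_left _ _ hN')
  · intro m _
    refine exists_pow_mul_mem_of_mem n θ q r q' r' h hr hq s hrange (SetLike.coe_mem _) ?_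
    have h1 : MvPolynomial.map θ (DirectSum.decompose (CohB1.polyGrading n R) b m :
        MvPolynomial (Fin (n + 1)) R) =
        (DirectSum.decompose (CohB1.polyGrading n R') (MvPolynomial.map θ b) m :
          MvPolynomial (Fin (n + 1)) R') :=
      GradedRingHom.map_directSumDecompose (CohB1.polyGrading n R) (CohB1.polyGrading n R')
        (mapG n θ)
    rw [h1]
    exact JZ_homogeneous n q' r' m hJ

theorem exists_map_eq (hloc : letI := θ.toAlgebra; IsLocalization.Away s R')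
    (b' : MvPolynomial (Fin (n + 1)) R') :
    ∃ (N : ℕ) (p : MvPolynomial (Fin (n + 1)) R),
      MvPolynomial.map θ p = MvPolynomial.C (θ s ^ N) * b' := by
  letI := θ.toAlgebra
  letI := MvPolynomial.algebraMvPolynomial (σ := Fin (n + 1)) (R := R) (S := R')
  haveI : IsLocalization.Away s R' := hloc
  haveI : IsLocalization ((Submonoid.powers s).map (MvPolynomial.C (σ := Fin (n + 1))))
      (MvPolynomial (Fin (n + 1)) R') := MvPolynomial.isLocalization (Submonoid.powers s) R'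
  obtain ⟨⟨p, ⟨_, ⟨_, ⟨N, rfl⟩, rfl⟩⟩⟩, hp⟩ :=
    IsLocalization.surj ((Submonoid.powers s).map (MvPolynomial.C (σ := Fin (n + 1)))) b'
  refine ⟨N, p, ?_⟩
  have e1 : algebraMap (MvPolynomial (Fin (n + 1)) R) (MvPolynomial (Fin (n + 1)) R') =
      MvPolynomial.map θ := rfl
  rw [e1] at hp
  simp only [MvPolynomial.map_C, map_pow] at hp
  rw [← hp, mul_comm, map_pow]

include hr hq hrange in
/-- the quotient over the localization is the localization of the quotient -/
theorem loc_quot [IsClosedImmersion (iZ n q r)] [IsClosedImmersion (iZ n q' r')]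
    (hloc : letI := θ.toAlgebra; IsLocalization.Away s R') :
    (∀ N : ℕ, IsUnit (quotHom n θ q r q' r' h hr hq
      (Ideal.Quotient.mk (JZ n q r) (MvPolynomial.C s) ^ N))) ∧
    (∀ z : MvPolynomial (Fin (n + 1)) R' ⧸ JZ n q' r',
      ∃ (b : MvPolynomial (Fin (n + 1)) R ⧸ JZ n q r) (N : ℕ),
        z * quotHom n θ q r q' r' h hr hq
          (Ideal.Quotient.mk (JZ n q r) (MvPolynomial.C s) ^ N) =
        quotHom n θ q r q' r' h hr hq b) ∧
    (∀ a b : MvPolynomial (Fin (n + 1)) R ⧸ JZ n q r,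
      quotHom n θ q r q' r' h hr hq a = quotHom n θ q r q' r' h hr hq b →
      ∃ N : ℕ, Ideal.Quotient.mk (JZ n q r) (MvPolynomial.C s) ^ N * a =
        Ideal.Quotient.mk (JZ n q r) (MvPolynomial.C s) ^ N * b) := by
  have hunit : IsUnit (θ s) := by
    letI := θ.toAlgebra
    haveI : IsLocalization.Away s R' := hloc
    exact IsLocalization.Away.algebraMap_isUnit s
  refine RelSpec.loc_core_abs
    (φU := (Ideal.Quotient.mk (JZ n q r)).comp MvPolynomial.C)
    (φV := (Ideal.Quotient.mk (JZ n q' r')).comp MvPolynomial.C) (ρS := θ)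
    (ρ := (quotHom n θ q r q' r' h hr hq).toRingHom) s ?_ hunit ?_ ?_
  · intro a
    change quotHom n θ q r q' r' h hr hq (Ideal.Quotient.mk _ (MvPolynomial.C a)) = _
    rw [quotHom_mk, MvPolynomial.map_C]
    rfl
  · intro z
    obtain ⟨b', rfl⟩ := Ideal.Quotient.mk_surjective z
    obtain ⟨N, p, hp⟩ := exists_map_eq n θ s hloc b'
    refine ⟨N, Ideal.Quotient.mk _ p, ?_⟩
    change quotHom n θ q r q' r' h hr hq (Ideal.Quotient.mk _ p) = _
    rw [quotHom_mk, hp, map_mul]
    rfl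
  · intro a ha
    obtain ⟨b, rfl⟩ := Ideal.Quotient.mk_surjective a
    have hJ : MvPolynomial.map θ b ∈ JZ n q' r' := by
      rw [← Ideal.Quotient.eq_zero_iff_mem, ← quotHom_mk n θ q r q' r' h hr hq]
      exact ha
    obtain ⟨N, hN⟩ := exists_pow_mul_mem n θ q r q' r' h hr hq s hrange b hJ
    refine ⟨N, ?_⟩
    change Ideal.Quotient.mk _ (MvPolynomial.C (s ^ N)) * Ideal.Quotient.mk _ b = 0
    rw [← map_mul]
    exact Ideal.Quotient.eq_zero_iff_mem.mpr hN

end Loc

end Groth.Agent.Lib.Helper3.PEmb3
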