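import Groth.Agent.Lib.Helper3.PEmb2

/-!
# `Proj R[x₀,…,xₙ] ≅ ℙⁿ_ℤ × Spec R`
-/

set_option autoImplicit false
set_option linter.unusedSectionVars false
universe u
open CategoryTheory CategoryTheory.Limits AlgebraicGeometry TopologicalSpace Opposite
open Scheme.Modules
open scoped HomogeneousIdeal

namespace Groth.Agent.Lib.Helper3.PIso

open QCSec TwistBasic GrTildeQC ProjFrac GrTildeHom ToProj ProjGlue ProjOfSec GrScale VAChart VACore
  VAConv ProjHet PEmb1 PEmb2

variable (n : ℕ) {R : Type u} [CommRing R] {Y : Scheme.{u}}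

theorem appLE_congr_hom {Y W : Scheme.{u}} {t t' : Y ⟶ W} (ht : t = t') (U : W.Opens) (V : Y.Opens)
    (e : V ≤ t ⁻¹ᵁ U) (e' : V ≤ t' ⁻¹ᵁ U) (z : Γ(W, U)) :
    t.appLE U V e z = t'.appLE U V e' z := by
  subst ht
  rfl

/-- sections of a morphism into `Proj R[x]` on dehomogenized elements -/
theorem appLE_deh_eq_psi (t : Y ⟶ Proj (CohB1.polyGrading n R))
    (q : Y ⟶ Spec (CommRingCat.of R)) (r : Y ⟶ CohB1.ProjSpace n (ULift.{u} ℤ))
    (hq : t ≫ CohB1.ProjSpace.toSpec n R = q) (hr : t ≫ gmap n R = r) (k : κ.{u} n)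
    (e : Zo n r k ≤ t ⁻¹ᵁ Proj.basicOpen (CohB1.polyGrading n R) (MvPolynomial.X k.down))
    (b : MvPolynomial (Fin (n + 1)) R) :
    t.appLE (Proj.basicOpen (CohB1.polyGrading n R) (MvPolynomial.X k.down)) (Zo n r k) e
      (deh (hXR n k.down) b) = psi n q r k b := by
  subst hq hr
  have key : (t.appLE (Proj.basicOpen (CohB1.polyGrading n R) (MvPolynomial.X k.down))
      (Zo n (t ≫ gmap n R) k) e).hom.comp (deh (hXR n k.down)) =
      psi n (t ≫ CohB1.ProjSpace.toSpec n R) (t ≫ gmap n R) k := by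
    apply MvPolynomial.ringHom_ext
    · intro c
      rw [psi_C, sc_apply]
      have hc : (MvPolynomial.C c : MvPolynomial (Fin (n + 1)) R) ∈ CohB1.polyGrading n R 0 :=
        MvPolynomial.isHomogeneous_C _ c
      change t.appLE (Proj.basicOpen (CohB1.polyGrading n R) (MvPolynomial.X k.down))
        (Zo n (t ≫ gmap n R) k) e (deh (hXR n k.down) (MvPolynomial.C c)) = _
      rw [deh_of_mem (hXR n k.down) hc, pow_zero]
      have h0 := toSpec_appLE_fn (𝒜 := CohB1.polyGrading n R) (hXR n k.down) Nat.one_pos c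
      have h1 := Scheme.Hom.appLE_comp_appLE t (CohB1.ProjSpace.toSpec n R) ⊤
        (Proj.basicOpen (CohB1.polyGrading n R) (MvPolynomial.X k.down))
        (Zo n (t ≫ gmap n R) k) le_top e
      have h2 := congrArg
        (fun φ => φ.hom ((Scheme.ΓSpecIso (CommRingCat.of R)).inv c)) h1
      refine Eq.trans ?_ h2
      change _ = t.appLE (Proj.basicOpen (CohB1.polyGrading n R) (MvPolynomial.X k.down))
        (Zo n (t ≫ gmap n R) k) e
        ((CohB1.ProjSpace.toSpec n R).appLE ⊤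
          (Proj.basicOpen (CohB1.polyGrading n R) (MvPolynomial.X k.down)) le_top
          ((Scheme.ΓSpecIso (CommRingCat.of R)).inv c))
      congr 1
      exact h0.symm
    · intro j
      rw [psi_X]
      change t.appLE (Proj.basicOpen (CohB1.polyGrading n R) (MvPolynomial.X k.down))
        (Zo n (t ≫ gmap n R) k) e (deh (hXR n k.down) (MvPolynomial.X j)) = _
      have e1 : Zo n (t ≫ gmap n R) k ≤ (t ≫ gmap n R) ⁻¹ᵁ Dk n (idx n) k := le_rfl
      have e2 : Zo n (t ≫ gmap n R) k ≤ t ⁻¹ᵁ Proj.basicOpen (CohB1.polyGrading n R)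
          (mapG n (θ₀ R) (MvPolynomial.X k.down)) := by
        rw [mapG_apply, MvPolynomial.map_X]
        exact e
      have h1 := comp_map_appLE_deh (mapG n (θ₀ R)) (irr_mapG n (θ₀ R)) t (hXZ n k.down)
        (Zo n (t ≫ gmap n R) k) e1 e2 (MvPolynomial.X j)
      have h2 := appLE_deh_congr n t (Zo n (t ≫ gmap n R) k)
        (g := mapG n (θ₀ R) (MvPolynomial.X k.down)) (g' := MvPolynomial.X k.down)
        (by rw [mapG_apply, MvPolynomial.map_X]) ((mapG n (θ₀ R)).map_mem (hXZ n k.down))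
        (hXR n k.down) e2 e (mapG n (θ₀ R) (MvPolynomial.X j))
      have h3 : mapG n (θ₀ R) (MvPolynomial.X j) = (MvPolynomial.X j : MvPolynomial _ R) := by
        rw [mapG_apply, MvPolynomial.map_X]
      rw [← h3]
      refine h2.symm.trans (h1.symm.trans ?_)
      have h4 : deh (hXZ n k.down) (MvPolynomial.X j) = fn (Dk n (idx n) k)
          (MvPolynomial.X j : MvPolynomial (Fin (n + 1)) (ULift.{u} ℤ)) (MvPolynomial.X k.down) := by
        rw [deh_of_mem (hXZ n k.down) (hXZ n j), pow_one]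
      unfold uu
      exact congrArg (fun z => (t ≫ gmap n R).appLE (Dk n (idx n) k) (Zo n (t ≫ gmap n R) k)
        le_rfl z) h4
  exact congrArg (fun φ => φ b) key

/-- `gmap` and `toSpec` are jointly monic -/
theorem hom_ext_gmap_toSpec (h h' : Y ⟶ Proj (CohB1.polyGrading n R))
    (hr : h ≫ gmap n R = h' ≫ gmap n R)
    (hq : h ≫ CohB1.ProjSpace.toSpec n R = h' ≫ CohB1.ProjSpace.toSpec n R) : h = h' := by
  have e : ∀ k : κ.{u} n, Zo n (h ≫ gmap n R) k ≤
      h ⁻¹ᵁ Proj.basicOpen (CohB1.polyGrading n R) (MvPolynomial.X k.down) := by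
    intro k
    have : Zo n (h ≫ gmap n R) k = h ⁻¹ᵁ gmap n R ⁻¹ᵁ Dk n (idx n) k := rfl
    rw [this, gmap_preimage]
  have e' : ∀ k : κ.{u} n, Zo n (h ≫ gmap n R) k ≤
      h' ⁻¹ᵁ Proj.basicOpen (CohB1.polyGrading n R) (MvPolynomial.X k.down) := by
    intro k
    have : Zo n (h ≫ gmap n R) k = h' ⁻¹ᵁ gmap n R ⁻¹ᵁ Dk n (idx n) k := by
      change (h ≫ gmap n R) ⁻¹ᵁ Dk n (idx n) k = _
      rw [hr]
      rfl
    rw [this, gmap_preimage]
  refine hom_ext_of_deh (𝒜 := CohB1.polyGrading n R) h h'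
    (fun k : κ.{u} n => MvPolynomial.X k.down) (fun k => hXR n k.down)
    (Zo n (h ≫ gmap n R)) (fun y => ?_) e e' (fun k b => ?_)
  · obtain ⟨j, hj⟩ := exists_mem_basicOpen_X (ULift.{u} ℤ) n ((h ≫ gmap n R) y)
    exact ⟨⟨j⟩, hj⟩
  · exact (appLE_deh_eq_psi n h _ _ rfl rfl k (e k) b).trans
      (appLE_deh_eq_psi n h' _ _ hq.symm hr.symm k (e' k) b).symm

/-- `Proj R[x] ≅ ℙⁿ_ℤ × Spec R` -/
theorem isIso_lift {P : Scheme.{u}} (a : P ⟶ CohB1.ProjSpace n (ULift.{u} ℤ))
    (b : P ⟶ Spec (CommRingCat.of R))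
    (hP : IsPullback a b (CohB1.ProjSpace.toSpec n (ULift.{u} ℤ))
      (specULiftZIsTerminal.from (Spec (CommRingCat.of R)))) :
    IsIso (hP.lift (gmap n R) (CohB1.ProjSpace.toSpec n R)
      (specULiftZIsTerminal.hom_ext _ _)) := by
  set c := hP.lift (gmap n R) (CohB1.ProjSpace.toSpec n R) (specULiftZIsTerminal.hom_ext _ _)
    with hc
  have hc1 : c ≫ a = gmap n R := hP.lift_fst _ _ _
  have hc2 : c ≫ b = CohB1.ProjSpace.toSpec n R := hP.lift_snd _ _ _
  refine ⟨iZ n b a, ?_, ?_⟩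
  · apply hom_ext_gmap_toSpec
    · rw [Category.assoc, iZ_gmap, hc1, Category.id_comp]
    · rw [Category.assoc, iZ_toSpec, hc2, Category.id_comp]
  · apply hP.hom_ext
    · rw [Category.assoc, hc1, iZ_gmap, Category.id_comp]
    · rw [Category.assoc, hc2, iZ_toSpec, Category.id_comp]

end Groth.Agent.Lib.Helper3.PIso
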