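import Mathlib.Topology.LocallyFinsupp.Pushforward
import Mathlib.Algebra.BigOperators.Finprod

/-!
# Composition of pushforwards of locally finitely supported functions
-/

namespace Groth.Agent.Lib.Helper3

open Set Function

/-- A Fubini statement for the double `finsum` appearing in the composite of two pushforwards. -/
theorem finsum_fiber_comp {X Y Z R : Type*} [CommSemiring R] (f : X → Y) (g : Y → Z) (c : X → R)
    (w₁ : X → R) (w₂ : Y → R) (z : Z) (hfin : ((fun x => g (f x)) ⁻¹' {z} ∩ support c).Finite) :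
    ∑ᶠ y ∈ g ⁻¹' {z}, (∑ᶠ x ∈ f ⁻¹' {y}, c x * w₁ x) * w₂ y =
      ∑ᶠ x ∈ (fun x => g (f x)) ⁻¹' {z}, c x * (w₁ x * w₂ (f x)) := by
  classical
  set S : Finset X := hfin.toFinset with hS
  have hSmem : ∀ x, x ∈ S ↔ g (f x) = z ∧ c x ≠ 0 := by
    intro x
    simp [hS]
  -- RHS
  have hR : ∑ᶠ x ∈ (fun x => g (f x)) ⁻¹' {z}, c x * (w₁ x * w₂ (f x)) =
      ∑ x ∈ S, c x * (w₁ x * w₂ (f x)) := by
    apply finsum_mem_eq_sum_of_inter_support_eq
    ext x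
    simp only [mem_inter_iff, mem_preimage, mem_singleton_iff, mem_support, Finset.mem_coe, hSmem]
    constructor
    · rintro ⟨h1, h2⟩
      exact ⟨⟨h1, fun h0 => h2 (by rw [h0, zero_mul])⟩, h2⟩
    · rintro ⟨⟨h1, _⟩, h2⟩
      exact ⟨h1, h2⟩
  -- inner sums
  have hI : ∀ y, g y = z → ∑ᶠ x ∈ f ⁻¹' {y}, c x * w₁ x = ∑ x ∈ S with f x = y, c x * w₁ x := by
    intro y hy
    apply finsum_mem_eq_sum_of_inter_support_eq
    ext x
    simp only [mem_inter_iff, mem_preimage, mem_singleton_iff, mem_support, Finset.coe_filter,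
      mem_ofPred_eq, hSmem]
    constructor
    · rintro ⟨h1, h2⟩
      exact ⟨⟨⟨by rw [h1, hy], fun h0 => h2 (by rw [h0, zero_mul])⟩, h1⟩, h2⟩
    · rintro ⟨⟨_, h1⟩, h2⟩
      exact ⟨h1, h2⟩
  -- outer sum
  have hL : ∑ᶠ y ∈ g ⁻¹' {z}, (∑ᶠ x ∈ f ⁻¹' {y}, c x * w₁ x) * w₂ y =
      ∑ y ∈ S.image f, (∑ᶠ x ∈ f ⁻¹' {y}, c x * w₁ x) * w₂ y := by
    apply finsum_mem_eq_sum_of_inter_support_eq
    ext y
    simp only [mem_inter_iff, mem_preimage, mem_singleton_iff, mem_support, Finset.coe_image,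
      mem_image, Finset.mem_coe]
    constructor
    · rintro ⟨h1, h2⟩
      refine ⟨?_, h2⟩
      have h2' : (∑ᶠ x ∈ f ⁻¹' {y}, c x * w₁ x) * w₂ y ≠ 0 := h2
      rw [hI y h1] at h2'
      have h3 : ∑ x ∈ S with f x = y, c x * w₁ x ≠ 0 := fun h0 => h2' (by rw [h0, zero_mul])
      obtain ⟨x, hx, _⟩ := Finset.exists_ne_zero_of_sum_ne_zero h3
      rw [Finset.mem_filter] at hx
      exact ⟨x, hx.1, hx.2⟩
    · rintro ⟨⟨x, hx, rfl⟩, h2⟩
      exact ⟨((hSmem x).mp hx).1, h2⟩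
  rw [hR, hL]
  have hL2 : ∑ y ∈ S.image f, (∑ᶠ x ∈ f ⁻¹' {y}, c x * w₁ x) * w₂ y =
      ∑ y ∈ S.image f, ∑ x ∈ S with f x = y, c x * (w₁ x * w₂ (f x)) := by
    refine Finset.sum_congr rfl fun y hy => ?_
    obtain ⟨x₀, hx₀, rfl⟩ := Finset.mem_image.mp hy
    rw [hI _ ((hSmem x₀).mp hx₀).1, Finset.sum_mul]
    refine Finset.sum_congr rfl fun x hx => ?_
    rw [(Finset.mem_filter.mp hx).2, mul_assoc]
  rw [hL2]
  exact Finset.sum_fiberwise_of_maps_to (fun x hx => Finset.mem_image_of_mem f hx) _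

end Groth.Agent.Lib.Helper3
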