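import Groth.Prelude.Def_Cyc
import Groth.Agent.Lib.Helper3.LocFinsuppMap

/-!
# Proper pushforward of cycles: weights are multiplicative
-/

set_option autoImplicit false
universe u
open CategoryTheory AlgebraicGeometry
open Cyc

namespace Groth.Agent.Lib.Helper3

theorem finrank_comp_toAlgebra {K A B : Type*} [Field K] [Field A] [Field B] (φ : K →+* A) (ψ : A →+* B) :
    (let _ := (ψ.comp φ).toAlgebra; Module.finrank K B) =
      (let _ := φ.toAlgebra; Module.finrank K A) * (let _ := ψ.toAlgebra; Module.finrank A B) := by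
  let _ := φ.toAlgebra
  let _ := ψ.toAlgebra
  let _ := (ψ.comp φ).toAlgebra
  have : IsScalarTower K A B := IsScalarTower.of_algebraMap_eq (fun x => rfl)
  exact (Module.finrank_mul_finrank K A B).symm

theorem residueDegree_comp {X Y Z : Scheme.{u}} (f : X ⟶ Y) (g : Y ⟶ Z) (x : X) :
    (f ≫ g).residueDegree x = g.residueDegree (f x) * f.residueDegree x := by
  have h := finrank_comp_toAlgebra (g.residueFieldMap (f x)).hom (f.residueFieldMap x).hom
  have e : ((f ≫ g).residueFieldMap x).hom =
      (f.residueFieldMap x).hom.comp (g.residueFieldMap (f x)).hom := by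
    rw [Scheme.residueFieldMap_comp]; rfl
  unfold Scheme.Hom.residueDegree
  rw [← h]
  exact congrArg (fun φ : Z.residueField (g (f x)) →+* X.residueField x =>
    (let _ := φ.toAlgebra; Module.finrank (Z.residueField (g (f x))) (X.residueField x))) e

theorem mapCoeff_comp {X Y Z : Scheme.{u}} (f : X ⟶ Y) (g : Y ⟶ Z) (δX : X → ℤ) (δY : Y → ℤ)
    (δZ : Z → ℤ) (hf : Cyc.DeltaCompat f δX δY) (hg : Cyc.DeltaCompat g δY δZ) (x : X) :
    AlgebraicCycle.mapCoeff (f ≫ g) δX δZ x =
      AlgebraicCycle.mapCoeff f δX δY x * AlgebraicCycle.mapCoeff g δY δZ (f x) := by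
  obtain ⟨n₁, -, h₁⟩ := hf x
  obtain ⟨n₂, -, h₂⟩ := hg (f x)
  unfold AlgebraicCycle.mapCoeff
  have e : (f ≫ g).base x = g.base (f.base x) := rfl
  rw [e]
  by_cases hc : δX x = δZ (g (f x))
  · have h0 : n₁ = 0 ∧ n₂ = 0 := by omega
    have c1 : δX x = δY (f x) := by omega
    have c2 : δY (f x) = δZ (g (f x)) := by omega
    rw [if_pos hc, if_pos c1, if_pos c2, residueDegree_comp, mul_comm]
  · rw [if_neg hc]
    by_cases c1 : δX x = δY (f x)
    · have c2 : ¬ δY (f x) = δZ (g (f x)) := by omega
      rw [if_neg c2, mul_zero]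
    · rw [if_neg c1, zero_mul]

theorem residueField_finite_of_trdeg_zero {X Y : Scheme.{u}} (f : X ⟶ Y) [LocallyOfFiniteType f] (x : X)
    (h : (letI := (f.residueFieldMap x).hom.toAlgebra
      Algebra.trdeg (Y.residueField (f x)) (X.residueField x)) = 0) :
    (f.residueFieldMap x).hom.Finite := by
  algebraize [(f.stalkMap x).hom]
  have : IsLocalHom (algebraMap (Y.presheaf.stalk (f x)) (X.presheaf.stalk x)) :=
    inferInstanceAs <| IsLocalHom (f.stalkMap x).hom
  have hA : (f.residueFieldMap x).hom.toAlgebra =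
      (inferInstance : Algebra (IsLocalRing.ResidueField <| Y.presheaf.stalk (f x))
        (IsLocalRing.ResidueField <| X.presheaf.stalk x)) := by
    refine Algebra.algebra_ext _ _ fun a ↦ ?_
    obtain ⟨a, rfl⟩ := IsLocalRing.residue_surjective a
    rfl
  have h' : Algebra.trdeg (IsLocalRing.ResidueField <| Y.presheaf.stalk (f x))
      (IsLocalRing.ResidueField <| X.presheaf.stalk x) = 0 := by
    rw [← h]
    congr 1
  have halg : Algebra.IsAlgebraic (IsLocalRing.ResidueField <| Y.presheaf.stalk (f x))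
      (IsLocalRing.ResidueField <| X.presheaf.stalk x) := trdeg_eq_zero_iff.mp h'
  have h1 : Algebra.EssFiniteType (Y.presheaf.stalk (f x)) (X.presheaf.stalk x) := by
    rw [← RingHom.essFiniteType_algebraMap, RingHom.algebraMap_toAlgebra]
    exact LocallyOfFiniteType.stalkMap f x
  have h2 : Algebra.EssFiniteType (Y.presheaf.stalk (f x))
      (IsLocalRing.ResidueField <| X.presheaf.stalk x) :=
    inferInstanceAs (Algebra.EssFiniteType (Y.presheaf.stalk (f x))
      (X.presheaf.stalk x ⧸ IsLocalRing.maximalIdeal (X.presheaf.stalk x)))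
  have h3 : Algebra.EssFiniteType (IsLocalRing.ResidueField <| Y.presheaf.stalk (f x))
      (IsLocalRing.ResidueField <| X.presheaf.stalk x) :=
    Algebra.EssFiniteType.of_comp (Y.presheaf.stalk (f x)) _ _
  have h4 : Module.Finite (IsLocalRing.ResidueField <| Y.presheaf.stalk (f x))
      (IsLocalRing.ResidueField <| X.presheaf.stalk x) :=
    Algebra.finite_of_essFiniteType_of_isAlgebraic
  unfold RingHom.Finite
  rw [hA]
  exact h4

end Groth.Agent.Lib.Helper3
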