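import Groth.Agent.Lib.Helper3.QCExtend
import Groth.Prelude.Def_RelSpec

/-!
# Quasi-coherent algebras (`RelSpec.QCAlg`) as quasi-coherent modules; generating submodules
-/

set_option autoImplicit false
universe u
open CategoryTheory CategoryTheory.Limits AlgebraicGeometry TopologicalSpace Opposite
open Scheme.Modules

namespace Groth.Agent.Lib.Helper3.QCAlgGen

open QCSec QCExtend

variable {X : Scheme.{u}} (B : _root_.RelSpec.QCAlg X)

/-- sections of `B.toModule` are sections of `B` -/
def ofS (O : X.Opens) (s : Γ(B.toModule, O)) : B.presheaf.obj (op O) := s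

/-- sections of `B` are sections of `B.toModule` -/
def toS (O : X.Opens) (b : B.presheaf.obj (op O)) : Γ(B.toModule, O) := b

theorem ofS_toS (O : X.Opens) (b : B.presheaf.obj (op O)) : ofS B O (toS B O b) = b := rfl
theorem toS_ofS (O : X.Opens) (s : Γ(B.toModule, O)) : toS B O (ofS B O s) = s := rfl

theorem ofS_res {A O : X.Opens} (h : A ≤ O) (s : Γ(B.toModule, O)) :
    ofS B A (res B.toModule h s) = (B.presheaf.map (homOfLE h).op).hom (ofS B O s) := rfl

theorem ofS_smul (O : X.Opens) (r : Γ(X, O)) (s : Γ(B.toModule, O)) :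
    ofS B O (r • s) = (B.str.app (op O)).hom r * ofS B O s := rfl

theorem ofS_zero (O : X.Opens) : ofS B O 0 = 0 := rfl

theorem ofS_add (O : X.Opens) (s t : Γ(B.toModule, O)) :
    ofS B O (s + t) = ofS B O s + ofS B O t := rfl

theorem str_res {A O : X.Opens} (h : A ≤ O) (r : Γ(X, O)) :
    (B.str.app (op A)).hom (rres X h r) =
      (B.presheaf.map (homOfLE h).op).hom ((B.str.app (op O)).hom r) := by
  have := B.str.naturality (homOfLE h).op
  exact (congrArg (fun ψ => ψ.hom r) this)

theorem isLocSec_toModule {U : X.Opens} (hU : IsAffineOpen U) (g : Γ(X, U)) (W : X.Opens)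
    (hW : W = X.basicOpen g) (hWU : W ≤ U) : IsLocSec B.toModule U W hWU g := by
  subst hW
  letI := (B.presheaf.map (homOfLE (X.basicOpen_le g)).op).hom.toAlgebra
  haveI hloc : IsLocalization.Away ((B.str.app (op U)).hom g)
      (B.presheaf.obj (op (X.basicOpen g))) := B.isQC U hU g
  constructor
  · intro t
    obtain ⟨n, a, ha⟩ := IsLocalization.Away.surj ((B.str.app (op U)).hom g) (ofS B _ t)
    refine ⟨n, toS B U a, ?_⟩
    have h : ofS B _ (res B.toModule hWU (toS B U a)) =
        ofS B _ ((rres X hWU g) ^ n • t) := by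
      rw [ofS_res, ofS_toS, ofS_smul, map_pow, str_res]
      exact ha.symm.trans (mul_comm _ _)
    exact h
  · intro s hs
    have h0 : algebraMap (B.presheaf.obj (op U)) (B.presheaf.obj (op (X.basicOpen g)))
        (ofS B U s) = algebraMap (B.presheaf.obj (op U))
          (B.presheaf.obj (op (X.basicOpen g))) 0 := by
      rw [map_zero]
      exact congrArg (ofS B _) hs
    obtain ⟨n, hn⟩ := IsLocalization.Away.exists_of_eq ((B.str.app (op U)).hom g) h0
    refine ⟨n, ?_⟩
    have h : ofS B U (g ^ n • s) = ofS B U 0 := by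
      rw [ofS_smul, map_pow, hn, mul_zero, ofS_zero]
    exact h

/-- A quasi-coherent algebra is quasi-coherent as a module. -/
theorem isQuasicoherent_toModule :
    SheafOfModules.IsQuasicoherent (R := X.ringCatSheaf) B.toModule := by
  apply QCProps.isQuasicoherent_of_charts
  intro x
  obtain ⟨U, hU, hxU⟩ := QCProps.exists_affine_nbhd x
  refine ⟨U, hU, hxU, ?_⟩
  apply QCSec.isQuasicoherent_chart_of_isLocSec
  intro g
  exact isLocSec_toModule B hU g _ (hU.fromSpec_image_basicOpen g) _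

section Gen

variable {E : X.Modules} (j : E ⟶ B.toModule)

/-- the image of a section of `E` in `B` -/
noncomputable def jmap (O : X.Opens) (e : Γ(E, O)) : B.presheaf.obj (op O) := ofS B O (j.app O e)

theorem jmap_res {A O : X.Opens} (h : A ≤ O) (e : Γ(E, O)) :
    jmap B j A (res E h e) = (B.presheaf.map (homOfLE h).op).hom (jmap B j O e) := by
  unfold jmap
  rw [QCExact.app_res', ofS_res]

theorem jmap_smul (O : X.Opens) (r : Γ(X, O)) (e : Γ(E, O)) :
    jmap B j O (r • e) = (B.str.app (op O)).hom r * jmap B j O e := by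
  unfold jmap
  rw [Scheme.Modules.Hom.app_smul, ofS_smul]

/-- The subring of `B(O)` generated by the functions on `O` and the sections of `E`. -/
noncomputable def genSubring (O : X.Opens) : Subring (B.presheaf.obj (op O)) :=
  Subring.closure (Set.range (B.str.app (op O)).hom ∪ Set.range (jmap B j O))

theorem str_mem (O : X.Opens) (r : Γ(X, O)) : (B.str.app (op O)).hom r ∈ genSubring B j O :=
  Subring.subset_closure (Or.inl ⟨r, rfl⟩)

theorem jmap_mem (O : X.Opens) (e : Γ(E, O)) : jmap B j O e ∈ genSubring B j O :=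
  Subring.subset_closure (Or.inr ⟨e, rfl⟩)

theorem res_mem {A O : X.Opens} (h : A ≤ O) (y : B.presheaf.obj (op O))
    (hy : y ∈ genSubring B j O) :
    (B.presheaf.map (homOfLE h).op).hom y ∈ genSubring B j A := by
  unfold genSubring at hy
  induction hy using Subring.closure_induction with
  | mem x hx =>
    rcases hx with ⟨r, rfl⟩ | ⟨e, rfl⟩
    · rw [← str_res]; exact str_mem B j A _
    · rw [← jmap_res]; exact jmap_mem B j A _
  | zero => rw [map_zero]; exact zero_mem _
  | one => rw [map_one]; exact one_mem _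
  | add x y _ _ hx hy => rw [map_add]; exact add_mem hx hy
  | neg x _ hx => rw [map_neg]; exact neg_mem hx
  | mul x y _ _ hx hy => rw [map_mul]; exact mul_mem hx hy

/-- restriction `B(U) → B(D(f))` -/
noncomputable abbrev rho {U : X.Opens} (f : Γ(X, U)) :
    B.presheaf.obj (op U) →+* B.presheaf.obj (op (X.basicOpen f)) :=
  (B.presheaf.map (homOfLE (X.basicOpen_le f)).op).hom

theorem genSubring_basicOpen_eq_top {U : X.Opens} (hU : IsAffineOpen U) (g : Γ(X, U))
    (h : genSubring B j U = ⊤) : genSubring B j (X.basicOpen g) = ⊤ := by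
  letI := (B.presheaf.map (homOfLE (X.basicOpen_le g)).op).hom.toAlgebra
  haveI hloc : IsLocalization.Away ((B.str.app (op U)).hom g)
      (B.presheaf.obj (op (X.basicOpen g))) := B.isQC U hU g
  rw [eq_top_iff]
  rintro z -
  obtain ⟨n, a, ha⟩ := IsLocalization.Away.surj ((B.str.app (op U)).hom g) z
  have hu : IsUnit (rres X (X.basicOpen_le g) g) := RingedSpace.isUnit_res_basicOpen _ g
  obtain ⟨v, hv⟩ := hu
  have h1 : rho B g a ∈ genSubring B j (X.basicOpen g) :=
    res_mem B j _ a (by rw [h]; exact Subring.mem_top a)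
  have h2 : (B.str.app (op (X.basicOpen g))).hom (↑v⁻¹ : Γ(X, X.basicOpen g)) ∈
      genSubring B j (X.basicOpen g) := str_mem B j _ _
  have h3 : rho B g ((B.str.app (op U)).hom g) *
      (B.str.app (op (X.basicOpen g))).hom (↑v⁻¹ : Γ(X, X.basicOpen g)) = 1 := by
    rw [← str_res, ← hv, ← map_mul, Units.mul_inv, map_one]
  have h4 : z = rho B g a *
      ((B.str.app (op (X.basicOpen g))).hom (↑v⁻¹ : Γ(X, X.basicOpen g))) ^ n := by
    have ha' : z * (rho B g ((B.str.app (op U)).hom g)) ^ n = rho B g a := ha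
    rw [← ha', mul_assoc, ← mul_pow, h3, one_pow, mul_one]
  rw [h4]
  exact mul_mem h1 (pow_mem h2 n)

theorem exists_pow_mul_mem [E.IsQuasicoherent] {U : X.Opens} (hU : IsAffineOpen U) (f : Γ(X, U))
    (y : B.presheaf.obj (op (X.basicOpen f))) (hy : y ∈ genSubring B j (X.basicOpen f)) :
    ∃ (a : B.presheaf.obj (op U)) (N : ℕ), a ∈ genSubring B j U ∧
      rho B f a = (rho B f ((B.str.app (op U)).hom f)) ^ N * y := by
  unfold genSubring at hy
  induction hy using Subring.closure_induction with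
  | mem x hx =>
    rcases hx with ⟨r', rfl⟩ | ⟨e, rfl⟩
    · haveI := hU.isLocalization_basicOpen f
      obtain ⟨n, r, hr⟩ := IsLocalization.Away.surj f r'
      refine ⟨(B.str.app (op U)).hom r, n, str_mem B j U r, ?_⟩
      have hr' : rres X (X.basicOpen_le f) r = r' * (rres X (X.basicOpen_le f) f) ^ n :=
        hr.symm
      rw [← str_res, hr', map_mul, map_pow, str_res, mul_comm]
    · obtain ⟨n, e', he'⟩ :=
        (isLocSec_of_isQuasicoherent E hU f (X.basicOpen f) rfl (X.basicOpen_le f)).surj e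
      refine ⟨jmap B j U e', n, jmap_mem B j U e', ?_⟩
      rw [← jmap_res, he', jmap_smul, map_pow, str_res]
  | zero => exact ⟨0, 0, zero_mem _, by simp⟩
  | one => exact ⟨1, 0, one_mem _, by simp⟩
  | add x y _ _ hx hy =>
    obtain ⟨a₁, N₁, ha₁, e₁⟩ := hx
    obtain ⟨a₂, N₂, ha₂, e₂⟩ := hy
    refine ⟨(B.str.app (op U)).hom f ^ N₂ * a₁ + (B.str.app (op U)).hom f ^ N₁ * a₂, N₁ + N₂,
      add_mem (mul_mem (pow_mem (str_mem B j U f) _) ha₁)
        (mul_mem (pow_mem (str_mem B j U f) _) ha₂), ?_⟩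
    rw [map_add, map_mul, map_mul, map_pow, map_pow, e₁, e₂]
    ring
  | neg x _ hx =>
    obtain ⟨a, N, ha, e⟩ := hx
    exact ⟨-a, N, neg_mem ha, by rw [map_neg, e, mul_neg]⟩
  | mul x y _ _ hx hy =>
    obtain ⟨a₁, N₁, ha₁, e₁⟩ := hx
    obtain ⟨a₂, N₂, ha₂, e₂⟩ := hy
    refine ⟨a₁ * a₂, N₁ + N₂, mul_mem ha₁ ha₂, ?_⟩
    rw [map_mul, e₁, e₂]
    ring

/-- Generation of `B(U)` by `E(U)` can be checked locally on the affine open `U`. -/
theorem genSubring_eq_top_of_local [E.IsQuasicoherent] {U : X.Opens} (hU : IsAffineOpen U)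
    (h : ∀ x ∈ U, ∃ f : Γ(X, U), x ∈ X.basicOpen f ∧ genSubring B j (X.basicOpen f) = ⊤) :
    genSubring B j U = ⊤ := by
  rw [eq_top_iff]
  rintro b -
  let I : Ideal Γ(X, U) :=
    { carrier := {r | (B.str.app (op U)).hom r * b ∈ genSubring B j U}
      add_mem' := fun {r s} hr hs => by
        show (B.str.app (op U)).hom (r + s) * b ∈ genSubring B j U
        rw [map_add, add_mul]; exact add_mem hr hs
      zero_mem' := by
        show (B.str.app (op U)).hom 0 * b ∈ genSubring B j U
        rw [map_zero, zero_mul]; exact zero_mem _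
      smul_mem' := fun c r hr => by
        show (B.str.app (op U)).hom (c • r) * b ∈ genSubring B j U
        rw [smul_eq_mul, map_mul, mul_assoc]; exact mul_mem (str_mem B j U c) hr }
  have hI : ∀ x ∈ U, ∃ f : Γ(X, U), f ∈ I ∧ x ∈ X.basicOpen f := by
    intro x hx
    obtain ⟨f, hxf, hf⟩ := h x hx
    letI := (B.presheaf.map (homOfLE (X.basicOpen_le f)).op).hom.toAlgebra
    haveI hloc : IsLocalization.Away ((B.str.app (op U)).hom f)
        (B.presheaf.obj (op (X.basicOpen f))) := B.isQC U hU f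
    obtain ⟨a, N, ha, e⟩ := exists_pow_mul_mem B j hU f (rho B f b)
      (by rw [hf]; exact Subring.mem_top _)
    have e' : algebraMap (B.presheaf.obj (op U)) (B.presheaf.obj (op (X.basicOpen f))) a =
        algebraMap (B.presheaf.obj (op U)) (B.presheaf.obj (op (X.basicOpen f)))
          (((B.str.app (op U)).hom f) ^ N * b) := by
      rw [map_mul, map_pow]; exact e
    obtain ⟨M, hM⟩ := IsLocalization.Away.exists_of_eq ((B.str.app (op U)).hom f) e'
    have hmem : f ^ (M + N + 1) ∈ I := by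
      show (B.str.app (op U)).hom (f ^ (M + N + 1)) * b ∈ genSubring B j U
      have : (B.str.app (op U)).hom (f ^ (M + N + 1)) * b =
          (B.str.app (op U)).hom f * ((B.str.app (op U)).hom f ^ M * a) := by
        rw [hM, map_pow]; ring
      rw [this]
      exact mul_mem (str_mem B j U f) (mul_mem (pow_mem (str_mem B j U f) M) ha)
    refine ⟨f ^ (M + N + 1), hmem, ?_⟩
    rw [X.basicOpen_pow f (Nat.succ_pos _)]
    exact hxf
  have hcov : U ≤ ⨆ f : (I : Set Γ(X, U)), X.basicOpen f.1 := by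
    intro x hx
    obtain ⟨f, hfI, hxf⟩ := hI x hx
    exact Opens.mem_iSup.mpr ⟨⟨f, hfI⟩, hxf⟩
  have hspan := hU.self_le_iSup_basicOpen_iff.mp hcov
  rw [Ideal.span_eq] at hspan
  have h1 : (1 : Γ(X, U)) ∈ I := by rw [hspan]; exact Submodule.mem_top
  have h1' : (B.str.app (op U)).hom 1 * b ∈ genSubring B j U := h1
  rwa [map_one, one_mul] at h1'

end Gen

section Through

/-- Every section of a quasi-coherent module over an affine open of a quasi-compact
quasi-separated scheme lies in a quasi-coherent submodule of finite type. -/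
theorem exists_sub_through_section [CompactSpace X] [QuasiSeparatedSpace X] (F : X.Modules)
    [F.IsQuasicoherent] {V : X.Opens} (hV : IsAffineOpen V) (s : Γ(F, V)) :
    ∃ (G : X.Modules) (i : G ⟶ F), Mono i ∧ G.IsQuasicoherent ∧ G.IsFiniteType ∧
      ∃ g : Γ(G, V), i.app V g = s := by
  let s' : PUnit.{u+1} → Γ(F, V) := fun _ => s
  let σ := QCExtend.sigmaMap F V s'
  haveI : (QCExtend.freeMod (V : Scheme.{u}) PUnit.{u+1}).IsQuasicoherent :=
    QCExtend.isQuasicoherent_freeMod _ _
  haveI : (QCExtend.freeMod (V : Scheme.{u}) PUnit.{u+1}).IsFiniteType :=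
    QCExtend.isFiniteType_freeMod _ _
  haveI : (F.restrict V.ι).IsQuasicoherent := Scheme.Modules.isQuasicoherent_restrictFunctor V.ι F
  haveI hF'q : (Abelian.image σ).IsQuasicoherent := QCLim.isQuasicoherent_image σ
  have hF'ft : (Abelian.image σ).IsFiniteType :=
    QCProps.isFiniteType_of_epi (Abelian.factorThruImage σ)
  obtain ⟨G, i, e, hi, hGq, hGft, heq⟩ := QCExtend.exists_finiteType_extension V hV.isCompact F
    (Abelian.image σ) hF'ft (Abelian.image.ι σ)
  refine ⟨G, i, hi, hGq, hGft, ?_⟩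
  let e₀ : Γ(QCExtend.freeMod (V : Scheme.{u}) PUnit.{u+1}, ⊤) :=
    (SheafOfModules.freeSection PUnit.unit).val (op ⊤)
  let f₀ : Γ(Abelian.image σ, ⊤) := (Abelian.factorThruImage σ).app ⊤ e₀
  let g₀ : Γ(G, V.ι ''ᵁ ⊤) := e.inv.app ⊤ f₀
  have hle : V ≤ V.ι ''ᵁ ⊤ := le_of_eq V.ι_image_top.symm
  have h1 : σ.app ⊤ e₀ = res F (V.ι_image_le ⊤) s :=
    QCExtend.sigmaMap_app_freeSection F V s' PUnit.unit ⊤
  have h2 : (Abelian.image.ι σ).app ⊤ f₀ = σ.app ⊤ e₀ :=
    congrArg (fun φ => φ.app ⊤ e₀) (Abelian.image.fac σ)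
  have h3 : (Abelian.image.ι σ) = e.inv ≫ (Scheme.Modules.restrictFunctor V.ι).map i := by
    rw [← heq, Iso.inv_hom_id_assoc]
  have h4 : i.app (V.ι ''ᵁ ⊤) g₀ = res F (V.ι_image_le ⊤) s := by
    rw [← h1, ← h2, h3]; rfl
  refine ⟨res G hle g₀, ?_⟩
  have h5 : i.app V (res G hle g₀) = res F hle (i.app (V.ι ''ᵁ ⊤) g₀) :=
    QCExact.app_res' i hle g₀
  have h6 : res F hle (res F (V.ι_image_le ⊤) s) = s := QCTilde.mod_res_res_self F _ _ s
  exact (h5.trans (by rw [h4])).trans h6

end Through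

section Sum

theorem sum_app {M N : X.Modules} {J : Type*} (t : Finset J) (φ : J → (M ⟶ N)) (O : X.Opens)
    (x : Γ(M, O)) : (∑ k ∈ t, φ k).app O x = ∑ k ∈ t, (φ k).app O x := by
  classical
  induction t using Finset.induction_on with
  | empty => simp only [Finset.sum_empty]; rfl
  | insert a t ha ih =>
    rw [Finset.sum_insert ha, Finset.sum_insert ha, ← ih]
    rfl

/-- The sum of finitely many quasi-coherent submodules of finite type (indexed by `Fin n`). -/
theorem exists_sum_fin {n : ℕ} (F : X.Modules) [F.IsQuasicoherent]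
    (G : Fin n → X.Modules) (m : ∀ k, G k ⟶ F) (hq : ∀ k, (G k).IsQuasicoherent)
    (hft : ∀ k, (G k).IsFiniteType) :
    ∃ (E : X.Modules) (j : E ⟶ F) (p : ∀ k, G k ⟶ E), Mono j ∧ E.IsQuasicoherent ∧
      E.IsFiniteType ∧ ∀ k, p k ≫ j = m k := by
  classical
  haveI := hq
  haveI := hft
  haveI : HasFiniteBiproducts X.Modules := HasFiniteBiproducts.of_hasFiniteProducts
  haveI hbq : (⨁ G : X.Modules).IsQuasicoherent := by
    have h : (∐ G : X.Modules).IsQuasicoherent :=
      QCLim.isQuasicoherent_finite_colimit (Discrete.functor G) (fun k => hq k.as)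
    exact (SheafOfModules.isQuasicoherent X.ringCatSheaf).prop_of_iso
      (biproduct.isoCoproduct G).symm h
  let d : (⨁ G : X.Modules) ⟶ F := biproduct.desc m
  haveI hEq : (Abelian.image d).IsQuasicoherent := QCLim.isQuasicoherent_image d
  let p₀ : (⨁ G : X.Modules) ⟶ Abelian.image d := Abelian.factorThruImage d
  have hp₀ : p₀ ≫ Abelian.image.ι d = d := Abelian.image.fac d
  refine ⟨Abelian.image d, Abelian.image.ι d, fun k => biproduct.ι G k ≫ p₀, inferInstance, hEq,
    ?_, fun k => ?_⟩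
  · rw [QCProps.isFiniteType_iff_finite_sections]
    intro O hO
    haveI : ∀ k, Module.Finite Γ(X, O) Γ(G k, O) := fun k => QCProps.finite_sections (G k) hO
    let L : (∀ k, Γ(G k, O)) →ₗ[Γ(X, O)] Γ(Abelian.image d, O) :=
      ∑ k, (QCProps.appₗ (biproduct.ι G k ≫ p₀) O).comp (LinearMap.proj k)
    refine Module.Finite.of_surjective L ?_
    intro e
    obtain ⟨t, rfl⟩ := (QCExact.epi_iff_surjective_on_affines p₀).mp inferInstance O hO e
    refine ⟨fun k => (biproduct.π G k).app O t, ?_⟩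
    have h0 : (∑ k, biproduct.π G k ≫ biproduct.ι G k) = 𝟙 (⨁ G) := biproduct.total
    have h1 : ∑ k, (biproduct.π G k ≫ biproduct.ι G k).app O t = t :=
      (sum_app Finset.univ (fun k => biproduct.π G k ≫ biproduct.ι G k) O t).symm.trans
        (congrArg (fun φ : ((⨁ G : X.Modules) ⟶ ⨁ G) => φ.app O t) h0)
    conv_rhs => rw [← h1]
    rw [map_sum]
    simp only [L, LinearMap.sum_apply, LinearMap.comp_apply, LinearMap.proj_apply,
      QCProps.appₗ_apply]
    rfl
  · rw [Category.assoc, hp₀]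
    exact biproduct.ι_desc m k

/-- The sum of finitely many quasi-coherent submodules of finite type. -/
theorem exists_sum {J : Type*} [Finite J] (F : X.Modules) [F.IsQuasicoherent]
    (G : J → X.Modules) (m : ∀ k, G k ⟶ F) (hq : ∀ k, (G k).IsQuasicoherent)
    (hft : ∀ k, (G k).IsFiniteType) :
    ∃ (E : X.Modules) (j : E ⟶ F), Mono j ∧ E.IsQuasicoherent ∧
      E.IsFiniteType ∧ ∀ k, ∃ p : G k ⟶ E, p ≫ j = m k := by
  obtain ⟨n, ⟨e⟩⟩ := Finite.exists_equiv_fin J
  obtain ⟨E, j, p, hj, hEq, hEft, hp⟩ := exists_sum_fin F (fun i => G (e.symm i))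
    (fun i => m (e.symm i)) (fun i => hq _) (fun i => hft _)
  refine ⟨E, j, hj, hEq, hEft, fun k => ?_⟩
  have h := hp (e k)
  have hk : e.symm (e k) = k := e.symm_apply_apply k
  revert h
  generalize p (e k) = q
  revert q
  rw [hk]
  intro q hq'
  exact ⟨q, hq'⟩

end Sum

section Main

/-- **EGA I 9.6.5**: a quasi-coherent algebra of finite type on a quasi-compact quasi-separated
scheme is generated by a quasi-coherent submodule of finite type. -/
theorem exists_generating_sub [CompactSpace X] [QuasiSeparatedSpace X]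
    (hB : ∀ U : X.affineOpens, (B.str.app (op (U : X.Opens))).hom.FiniteType) :
    ∃ (E : X.Modules) (j : E ⟶ B.toModule), Mono j ∧ E.IsQuasicoherent ∧ E.IsFiniteType ∧
      ∀ U : X.Opens, IsAffineOpen U → genSubring B j U = ⊤ := by
  classical
  haveI := isQuasicoherent_toModule B
  obtain ⟨ι, hι, V, hVa, -, hcov⟩ := exists_finite_affine_cover (⊤ : X.Opens)
    (by simpa using (isCompact_univ : IsCompact (Set.univ : Set X)))
  have hfg : ∀ i, ∃ T : Finset (B.presheaf.obj (op (V i))),
      Subring.closure (Set.range (B.str.app (op (V i))).hom ∪ (T : Set _)) = ⊤ := by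
    intro i
    letI := (B.str.app (op (V i))).hom.toAlgebra
    have h := hB ⟨V i, hVa i⟩
    obtain ⟨T, hT⟩ := (h : Algebra.FiniteType Γ(X, V i) (B.presheaf.obj (op (V i)))).out
    refine ⟨T, ?_⟩
    have h1 := Algebra.adjoin_eq_ring_closure (R := Γ(X, V i))
      (T : Set (B.presheaf.obj (op (V i))))
    rw [hT, Algebra.top_toSubring] at h1
    exact h1.symm
  choose T hT using hfg
  have key : ∀ k : (Σ i : ι, {t // t ∈ T i}), ∃ (G : X.Modules) (m : G ⟶ B.toModule), Mono m ∧
      G.IsQuasicoherent ∧ G.IsFiniteType ∧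
      ∃ g : Γ(G, V k.1), m.app (V k.1) g = toS B (V k.1) k.2.1 :=
    fun k => exists_sub_through_section B.toModule (hVa k.1) _
  choose G m hm hq hft g hg using key
  obtain ⟨E, j, hj, hEq, hEft, hp⟩ := exists_sum B.toModule G m hq hft
  haveI := hEq
  refine ⟨E, j, hj, hEq, hEft, ?_⟩
  have hVi : ∀ i, genSubring B j (V i) = ⊤ := by
    intro i
    rw [eq_top_iff, ← hT i]
    apply Subring.closure_mono
    rintro x (hx | hx)
    · exact Or.inl hx
    · obtain ⟨p, hp⟩ := hp ⟨i, ⟨x, hx⟩⟩
      refine Or.inr ⟨p.app (V i) (g ⟨i, ⟨x, hx⟩⟩), ?_⟩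
      show ofS B (V i) (j.app (V i) (p.app (V i) (g ⟨i, ⟨x, hx⟩⟩))) = x
      have : j.app (V i) (p.app (V i) (g ⟨i, ⟨x, hx⟩⟩)) =
          (p ≫ j).app (V i) (g ⟨i, ⟨x, hx⟩⟩) := rfl
      rw [this, hp, hg]
      rfl
  intro U hU
  apply genSubring_eq_top_of_local B j hU
  intro x hxU
  obtain ⟨i, hxi⟩ := Opens.mem_iSup.mp (hcov (show x ∈ (⊤ : X.Opens) from trivial))
  obtain ⟨f, g', hfg, hxf⟩ := exists_basicOpen_le_affine_inter hU (hVa i) x ⟨hxU, hxi⟩
  refine ⟨f, hxf, ?_⟩
  rw [hfg]
  exact genSubring_basicOpen_eq_top B j (hVa i) g' (hVi i)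

end Main

end Groth.Agent.Lib.Helper3.QCAlgGen
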