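import Groth.Agent.Lib.Helper3.ModGlue
import Groth.Agent.Lib.Helper3.QCAlgGen
import Groth.Prelude.Def_RelProj

/-!
# The degree `n` projection of a quasi-coherent graded algebra, as a morphism of modules
-/

set_option autoImplicit false
set_option linter.unusedSectionVars false
universe u
open CategoryTheory CategoryTheory.Limits AlgebraicGeometry TopologicalSpace Opposite
open Scheme.Modules

namespace Groth.Agent.Lib.Helper3.GrProj

open QCSec InvGen HomMk QCAlgGen

section glue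

variable {X : Scheme.{u}}

/-- a compatible family of linear maps on sections over a basis of opens glues to a morphism -/
theorem exists_hom_of_basis {M N : X.Modules} (Small : X.Opens → Prop)
    (hcov : ∀ (W : X.Opens) (x : X), x ∈ W → ∃ V : X.Opens, Small V ∧ x ∈ V ∧ V ≤ W)
    (D : ∀ V : X.Opens, Small V → Γ(M, V) → Γ(N, V))
    (hadd : ∀ V hV s s', D V hV (s + s') = D V hV s + D V hV s')
    (hsmul : ∀ V hV (a : Γ(X, V)) s, D V hV (a • s) = a • D V hV s)
    (hres : ∀ {V V' : X.Opens} (h : V' ≤ V) (hV : Small V) (hV' : Small V') (s : Γ(M, V)),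
      res N h (D V hV s) = D V' hV' (res M h s)) :
    ∃ φ : M ⟶ N, ∀ V (hV : Small V) (s : Γ(M, V)), φ.app V s = D V hV s := by
  have key : ∀ (U : X.Opens) (s : Γ(M, U)), ∃ b : Γ(N, U),
      ∀ (V : X.Opens) (hV : Small V) (hVU : V ≤ U), res N hVU b = D V hV (res M hVU s) := by
    intro U s
    let J := {V : X.Opens // Small V ∧ V ≤ U}
    obtain ⟨b, hb⟩ := sec_glue N (fun j : J => j.1) U (fun j => j.2.2)
      (by
        intro x hx
        obtain ⟨V, hV, hxV, hVU⟩ := hcov U x hx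
        exact Opens.mem_iSup.mpr ⟨⟨V, hV, hVU⟩, hxV⟩)
      (fun j => D j.1 j.2.1 (res M j.2.2 s))
      (by
        intro i j
        have h0 : res N (inf_le_left : i.1 ⊓ j.1 ≤ i.1) (D i.1 i.2.1 (res M i.2.2 s)) -
            res N (inf_le_right : i.1 ⊓ j.1 ≤ j.1) (D j.1 j.2.1 (res M j.2.2 s)) = 0 := by
          refine ModBasis.eq_zero_of_locally_zero N _ _ (fun x hx => ?_)
          obtain ⟨V, hV, hxV, hVW⟩ := hcov (i.1 ⊓ j.1) x hx
          refine ⟨V, hVW, hxV, ?_⟩
          rw [res_sub, res_res, res_res, hres _ i.2.1 hV, hres _ j.2.1 hV, res_res, res_res,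
            sub_self]
        exact sub_eq_zero.mp h0)
    exact ⟨b, fun V hV hVU => hb ⟨V, hV, hVU⟩⟩
  choose Φ hΦ using key
  have huniq : ∀ (U : X.Opens) (s : Γ(M, U)) (b : Γ(N, U)),
      (∀ (V : X.Opens) (hV : Small V) (hVU : V ≤ U), res N hVU b = D V hV (res M hVU s)) →
        b = Φ U s := by
    intro U s b hb
    have h0 : b - Φ U s = 0 := by
      refine ModBasis.eq_zero_of_locally_zero N U _ (fun x hx => ?_)
      obtain ⟨V, hV, hxV, hVU⟩ := hcov U x hx
      refine ⟨V, hVU, hxV, ?_⟩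
      rw [res_sub, hb _ hV, hΦ U s _ hV, sub_self]
    exact sub_eq_zero.mp h0
  refine ⟨homMk Φ ?_ ?_ ?_, ?_⟩
  · intro U s s'
    refine (huniq U (s + s') _ (fun V hV hVU => ?_)).symm
    rw [QCExact.res_add, hΦ U s V hV hVU, hΦ U s' V hV hVU, QCExact.res_add, hadd]
  · intro U a s
    refine (huniq U (a • s) _ (fun V hV hVU => ?_)).symm
    rw [res_smul, hΦ U s V hV hVU, res_smul, hsmul]
  · intro U U' h s
    refine huniq U' (res M h s) _ (fun V hV hVU => ?_)
    rw [res_res, hΦ U s V hV (hVU.trans h), res_res]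
  · intro V hV s
    rw [homMk_app]
    have := hΦ V s V hV le_rfl
    rw [res_self, res_self] at this
    exact this

end glue

section proj

variable {Y : Scheme.{u}} (𝒮 : RelProj.QCGrAlg Y)

/-- the projection onto the degree `n` component, as an endomorphism of the `O_Y`-module `𝒮` -/
theorem exists_proj (n : ℕ) : ∃ π : 𝒮.toQCAlg.toModule ⟶ 𝒮.toQCAlg.toModule,
    ∀ (U : Y.Opens) (hU : IsAffineOpen U) (s : Γ(𝒮.toQCAlg.toModule, U)),
      ofS 𝒮.toQCAlg U (π.app U s) =
        (DirectSum.decompose (𝒮.deg U hU) (ofS 𝒮.toQCAlg U s) n : 𝒮.presheaf.obj (op U)) := by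
  classical
  obtain ⟨π, hπ⟩ := exists_hom_of_basis (M := 𝒮.toQCAlg.toModule) (N := 𝒮.toQCAlg.toModule)
    (fun V => IsAffineOpen V)
    (fun W x hx => by
      obtain ⟨V, hV, hxV, hVW⟩ := Opens.isBasis_iff_nbhd.mp Y.isBasis_affineOpens hx
      exact ⟨V, hV, hxV, hVW⟩)
    (fun V hV s => toS 𝒮.toQCAlg V (GradedRing.proj (𝒮.deg V hV) n (ofS 𝒮.toQCAlg V s)))
    (fun V hV s s' => by
      show toS 𝒮.toQCAlg V (GradedRing.proj (𝒮.deg V hV) n (ofS 𝒮.toQCAlg V s + ofS 𝒮.toQCAlg V s')) = _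
      rw [map_add]
      rfl)
    (fun V hV a s => by
      show toS 𝒮.toQCAlg V (GradedRing.proj (𝒮.deg V hV) n
        ((𝒮.str.app (op V)).hom a * ofS 𝒮.toQCAlg V s)) =
        toS 𝒮.toQCAlg V ((𝒮.str.app (op V)).hom a *
          GradedRing.proj (𝒮.deg V hV) n (ofS 𝒮.toQCAlg V s))
      rw [GradedRing.proj_apply, GradedRing.proj_apply,
        DirectSum.coe_decompose_mul_of_left_mem_zero (𝒮.deg V hV) (𝒮.str_mem V hV a)])
    (fun {V V'} h hV hV' s => by
      show toS 𝒮.toQCAlg V' ((𝒮.presheaf.map (homOfLE h).op).hom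
        (GradedRing.proj (𝒮.deg V hV) n (ofS 𝒮.toQCAlg V s))) =
        toS 𝒮.toQCAlg V' (GradedRing.proj (𝒮.deg V' hV') n
          ((𝒮.presheaf.map (homOfLE h).op).hom (ofS 𝒮.toQCAlg V s)))
      rw [GradedRing.proj_apply, GradedRing.proj_apply, ← 𝒮.res_apply hV hV' h,
        ← 𝒮.res_apply hV hV' h, GradedRingHom.map_directSumDecompose])
  refine ⟨π, fun U hU s => ?_⟩
  rw [hπ U hU s]
  rfl

end proj

end Groth.Agent.Lib.Helper3.GrProj
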