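import Groth.Agent.Lib.Helper3.QCExtend

/-!
# Quasi-coherent submodules of finite type containing finitely many given sections
(a form of EGA I 9.4.9 on a quasi-compact quasi-separated scheme)
-/

set_option autoImplicit false
universe u
open CategoryTheory CategoryTheory.Limits AlgebraicGeometry TopologicalSpace Opposite
open Scheme.Modules

namespace Groth.Agent.Lib.Helper3.QCSubSec

open QCSec QCExtend

variable {X : Scheme.{u}}

/-- a section of `K` over `O` is, locally over `O ∩ V`, a combination of finitely many sections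
of `K` over the affine open `V` -/
theorem exists_cover_span_sec (K : X.Modules) [K.IsQuasicoherent] {O V : X.Opens}
    (hcomp : IsCompact ((O : Set X) ∩ V)) (hV : IsAffineOpen V) (t : Γ(K, O)) :
    ∃ T : Finset Γ(K, V), ∀ x ∈ O ⊓ V, ∃ (f : Γ(X, V)) (hf : X.basicOpen f ≤ O),
      x ∈ X.basicOpen f ∧ res K hf t ∈ Submodule.span Γ(X, X.basicOpen f)
        (res K (X.basicOpen_le f) '' (T : Set Γ(K, V))) := by
  classical
  have key : ∀ x ∈ (O : Set X) ∩ V, ∃ (f : Γ(X, V)) (hf : X.basicOpen f ≤ O) (s : Γ(K, V)),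
      x ∈ X.basicOpen f ∧ res K hf t ∈ Submodule.span Γ(X, X.basicOpen f)
        {res K (X.basicOpen_le f) s} := by
    rintro x ⟨hxO, hxV⟩
    obtain ⟨f, hfle, hxf⟩ := hV.exists_basicOpen_le (V := O) ⟨x, hxO⟩ hxV
    have hloc := isLocSec_of_isQuasicoherent K hV f (X.basicOpen f) rfl (X.basicOpen_le f)
    obtain ⟨n, s, hs⟩ := hloc.surj (res K hfle t)
    refine ⟨f, hfle, s, hxf, ?_⟩
    have hu : IsUnit (rres X (X.basicOpen_le f) f) := RingedSpace.isUnit_res_basicOpen _ f
    obtain ⟨v, hv⟩ := hu.pow n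
    have h2 : res K hfle t = (↑v⁻¹ : Γ(X, X.basicOpen f)) •
        (rres X (X.basicOpen_le f) f ^ n • res K hfle t) := by
      rw [← hv, smul_smul, Units.inv_mul, one_smul]
    rw [h2, ← hs]
    exact Submodule.smul_mem _ _ (Submodule.subset_span rfl)
  choose! f hf s hxf hT using key
  obtain ⟨c, hc⟩ := hcomp.elim_nhds_subcover' (fun x _ => (X.basicOpen (f x) : Set X))
    (fun x hx => (X.basicOpen (f x)).2.mem_nhds (hxf x hx))
  refine ⟨c.image (fun x => s x.1), ?_⟩
  intro x hx
  obtain ⟨y, hy, hxy⟩ := Set.mem_iUnion₂.mp (hc (show x ∈ (O : Set X) ∩ V from hx))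
  refine ⟨f y.1, hf y.1 y.2, hxy, ?_⟩
  refine Submodule.span_mono ?_ (hT y.1 y.2)
  rintro _ rfl
  exact ⟨s y.1, Finset.mem_coe.mpr (Finset.mem_image_of_mem _ hy), rfl⟩

section Kernel

variable (K : X.Modules) (V : X.Opens) {I : Type u} (s : I → Γ(K, V))

theorem mem_span_of_eq {O E D : X.Opens} (hED : E = D) (hEO : E ≤ O) (hDO : D ≤ O) (hEV : E ≤ V)
    (hDV : D ≤ V) (t : Γ(K, O))
    (h : res K hDO t ∈ Submodule.span Γ(X, D) (Set.range fun i => res K hDV (s i))) :
    res K hEO t ∈ Submodule.span Γ(X, E) (Set.range fun i => res K hEV (s i)) := by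
  subst hED
  exact h

/-- A section of `K` over `O` which over `O ∩ V` is locally a combination of the `s i` lies in the
kernel of `theta`. -/
theorem mem_range_kernel_ι (O : X.Opens) (t : Γ(K, O))
    (h : ∀ x ∈ O ⊓ V, ∃ (f : Γ(X, V)) (hf : X.basicOpen f ≤ O), x ∈ X.basicOpen f ∧
      res K hf t ∈ Submodule.span Γ(X, X.basicOpen f)
        (Set.range fun i => res K (X.basicOpen_le f) (s i))) :
    t ∈ Set.range ((kernel.ι (theta K V s)).app O) := by
  let S : ShortComplex X.Modules :=
    ShortComplex.mk (kernel.ι (theta K V s)) (theta K V s) (kernel.condition _)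
  have hS : S.Exact := ShortComplex.exact_kernel (theta K V s)
  haveI : Mono S.f := inferInstanceAs (Mono (kernel.ι (theta K V s)))
  refine QCExact.exact_sections S hS O t ?_
  change (theta K V s).app O t = 0
  rw [theta_app]
  apply π_app_eq_zero_of_locally_mem_span
  intro y hy
  have hxO : V.ι y ∈ O := hy
  have hxV : V.ι y ∈ V := y.2
  obtain ⟨f, hf, hxf, hspan⟩ := h (V.ι y) ⟨hxO, hxV⟩
  have hE : V.ι ''ᵁ (V.ι ⁻¹ᵁ X.basicOpen f) = X.basicOpen f := by
    rw [Scheme.Hom.image_preimage_eq_opensRange_inf, Scheme.Opens.opensRange_ι]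
    exact inf_eq_right.mpr (X.basicOpen_le f)
  refine ⟨V.ι ⁻¹ᵁ X.basicOpen f, Scheme.Hom.preimage_mono V.ι hf, hxf, ?_⟩
  rw [res_res]
  exact mem_span_of_eq K V s hE _ hf (V.ι_image_le _) (X.basicOpen_le f) t hspan

end Kernel

/-- The inductive step: shrink `K`, keeping finitely many given sections, so that it becomes of
finite type over `W ∪ V`. -/
theorem exists_step_sec [QuasiSeparatedSpace X] (K : X.Modules) [K.IsQuasicoherent]
    {W V : X.Opens} (hW : IsCompact (W : Set X)) (hV : IsAffineOpen V) (hK : LocFin K W)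
    {J : Type u} [Finite J] (O : J → X.Opens) (hO : ∀ j, IsCompact (O j : Set X))
    (t : ∀ j, Γ(K, O j)) :
    ∃ (K' : X.Modules) (m : K' ⟶ K), Mono m ∧ K'.IsQuasicoherent ∧ LocFin K' (W ⊔ V) ∧
      ∀ j, t j ∈ Set.range (m.app (O j)) := by
  classical
  haveI := Fintype.ofFinite J
  haveI : CompactSpace (V : Scheme.{u}) := isCompact_iff_compactSpace.mp hV.isCompact
  haveI : QuasiCompact V.ι := inferInstance
  have hWV : IsCompact ((W : Set X) ∩ V) :=
    QuasiSeparatedSpace.inter_isCompact _ _ W.2 hW V.2 hV.isCompact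
  obtain ⟨T₀, hT₀⟩ := exists_cover_span K hWV hV hK
  have hTj := fun j => exists_cover_span_sec K
    (QuasiSeparatedSpace.inter_isCompact _ _ (O j).2 (hO j) V.2 hV.isCompact) hV (t j)
  choose T₁ hT₁ using hTj
  let T : Finset Γ(K, V) := T₀ ∪ Finset.univ.biUnion T₁
  let s : {x // x ∈ T} → Γ(K, V) := fun t => t.1
  have hT₀s : (T₀ : Set Γ(K, V)) ⊆ Set.range s := fun z hz =>
    ⟨⟨z, Finset.mem_union_left _ hz⟩, rfl⟩
  have hT₁s : ∀ j, (T₁ j : Set Γ(K, V)) ⊆ Set.range s := fun j z hz =>
    ⟨⟨z, Finset.mem_union_right _ (Finset.mem_biUnion.mpr ⟨j, Finset.mem_univ j, hz⟩)⟩, rfl⟩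
  haveI : (freeMod (V : Scheme.{u}) {x // x ∈ T}).IsQuasicoherent := isQuasicoherent_freeMod _ _
  haveI : (K.restrict V.ι).IsQuasicoherent := Scheme.Modules.isQuasicoherent_restrictFunctor V.ι K
  haveI hC : (cokernel (sigmaMap K V s)).IsQuasicoherent := QCProps.isQuasicoherent_cokernel _
  haveI hPC : ((pushforward V.ι).obj (cokernel (sigmaMap K V s))).IsQuasicoherent :=
    QCSec.isQuasicoherent_pushforward V.ι _
  haveI hK' : (kernel (theta K V s)).IsQuasicoherent := QCProps.isQuasicoherent_kernel _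
  have hsurj : ∀ O' : X.Opens, O' ⊓ V ≤ W →
      Function.Surjective ((kernel.ι (theta K V s)).app O') :=
    fun O' hOW => kernel_ι_app_surjective K V s hV W T₀ hT₀s hT₀ O' hOW
  refine ⟨kernel (theta K V s), kernel.ι (theta K V s), inferInstance, hK', ?_, ?_⟩
  · apply LocFin.sup
    · intro x hxW
      obtain ⟨O₁, hO₁, hxO₁, hfin⟩ := hK x hxW
      obtain ⟨g, hgle, hxg⟩ := hO₁.exists_basicOpen_le (V := O₁ ⊓ W) ⟨x, hxO₁, hxW⟩ hxO₁
      have hfin' := finite_res K hO₁ g rfl (X.basicOpen_le g) hfin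
      refine ⟨X.basicOpen g, hO₁.basicOpen g, hxg, ?_⟩
      have hinj := QCExact.injective_sections (kernel.ι (theta K V s)) (X.basicOpen g)
      have hsur := hsurj (X.basicOpen g) (inf_le_left.trans (hgle.trans inf_le_right))
      let e := LinearEquiv.ofBijective (QCProps.appₗ (kernel.ι (theta K V s)) (X.basicOpen g))
        ⟨hinj, hsur⟩
      exact Module.Finite.equiv e.symm
    · haveI : Finite {x // x ∈ T} := inferInstance
      exact locFin_of_restrict (kernel (theta K V s)) V
        (Scheme.Modules.isQuasicoherent_restrictFunctor V.ι _)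
        (isFiniteType_restrict_kernel K V s)
  · intro j
    apply mem_range_kernel_ι K V s (O j) (t j)
    intro x hx
    obtain ⟨f, hf, hxf, hspan⟩ := hT₁ j x hx
    refine ⟨f, hf, hxf, ?_⟩
    refine Submodule.span_mono ?_ hspan
    rintro _ ⟨z, hz, rfl⟩
    obtain ⟨i, rfl⟩ := hT₁s j hz
    exact ⟨i, rfl⟩

/-- On a quasi-compact quasi-separated scheme, finitely many sections (over quasi-compact opens)
of a quasi-coherent module lie in a quasi-coherent submodule of finite type. -/
theorem exists_finiteType_sub_sections [CompactSpace X] [QuasiSeparatedSpace X] (H : X.Modules)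
    [H.IsQuasicoherent] {J : Type u} [Finite J] (O : J → X.Opens)
    (hO : ∀ j, IsCompact (O j : Set X)) (t : ∀ j, Γ(H, O j)) :
    ∃ (K : X.Modules) (m : K ⟶ H), Mono m ∧ K.IsQuasicoherent ∧ K.IsFiniteType ∧
      ∀ j, t j ∈ Set.range (m.app (O j)) := by
  classical
  obtain ⟨ι, hι, V, hVa, -, hcov⟩ :=
    exists_finite_affine_cover (⊤ : X.Opens)
      (by simpa using (isCompact_univ : IsCompact (Set.univ : Set X)))
  have := Fintype.ofFinite ι
  have hcompS : ∀ S : Finset ι, IsCompact ((S.sup V : X.Opens) : Set X) := by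
    intro S
    induction S using Finset.induction_on with
    | empty => rw [Finset.sup_empty]; simp
    | insert a S _ ih =>
      rw [Finset.sup_insert, Opens.coe_sup]
      exact (hVa a).isCompact.union ih
  have key : ∀ S : Finset ι, ∃ (K : X.Modules) (m : K ⟶ H), Mono m ∧ K.IsQuasicoherent ∧
      LocFin K (S.sup V) ∧ ∀ j, t j ∈ Set.range (m.app (O j)) := by
    intro S
    induction S using Finset.induction_on with
    | empty =>
      refine ⟨H, 𝟙 H, inferInstance, inferInstance, ?_, fun j => ⟨t j, rfl⟩⟩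
      intro x hx
      rw [Finset.sup_empty] at hx
      exact absurd hx (by simp)
    | insert a S _ ih =>
      obtain ⟨K, m, hm, hKq, hfin, hmem⟩ := ih
      haveI := hKq
      haveI := hm
      choose t' ht' using hmem
      obtain ⟨K', m', hm', hK'q, hfin', hmem'⟩ :=
        exists_step_sec K (hcompS S) (hVa a) hfin O hO t'
      haveI := hm'
      refine ⟨K', m' ≫ m, mono_comp m' m, hK'q, ?_, ?_⟩
      · refine hfin'.mono (le_of_eq ?_)
        rw [Finset.sup_insert, sup_comm]
      · intro j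
        obtain ⟨t'', ht''⟩ := hmem' j
        refine ⟨t'', ?_⟩
        rw [← ht' j, ← ht'']
        rfl
  obtain ⟨K, m, hm, hKq, hfin, hmem⟩ := key Finset.univ
  haveI := hKq
  refine ⟨K, m, hm, hKq, ?_, hmem⟩
  apply isFiniteType_of_locFin
  refine hfin.mono (hcov.trans ?_)
  rw [Finset.sup_univ_eq_iSup]

end Groth.Agent.Lib.Helper3.QCSubSec
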