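import Groth.Agent.Lib.Helper3.RelProjLoc

set_option autoImplicit false
universe u
open CategoryTheory CategoryTheory.Limits AlgebraicGeometry TopologicalSpace Opposite
open scoped HomogeneousIdeal

namespace Groth.Agent.Lib.Helper3.RelProjFT

open HomogeneousLocalization

section algebra

variable {A R : Type u} [CommRing A] [CommRing R] (𝒜 : ℕ → AddSubgroup A) [GradedRing 𝒜]
  (φ : R →+* A) (hφ0 : ∀ r, φ r ∈ 𝒜 0)
  (hgen : Subring.closure ((𝒜 0 : Set A) ∪ (𝒜 1 : Set A)) = ⊤)
  (T : Finset A) (hT1 : (↑T : Set A) ⊆ (𝒜 1 : Set A))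
  (hT : ∀ x ∈ 𝒜 1, ∃ c : A → R, x = ∑ t ∈ T, φ (c t) * t)

include hφ0 hgen hT in
theorem adjoin_eq_top : Algebra.adjoin (𝒜 0) (T : Set A) = ⊤ := by
  rw [eq_top_iff]
  rintro x -
  have hx : x ∈ Subring.closure ((𝒜 0 : Set A) ∪ (𝒜 1 : Set A)) := by rw [hgen]; trivial
  induction hx using Subring.closure_induction with
  | mem x hx =>
    rcases hx with hx | hx
    · exact Subalgebra.algebraMap_mem _ (⟨x, hx⟩ : 𝒜 0)
    · obtain ⟨c, rfl⟩ := hT x hx
      refine Subalgebra.sum_mem _ (fun t ht => ?_)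
      exact Subalgebra.mul_mem _
        (Subalgebra.algebraMap_mem _ (⟨φ (c t), hφ0 _⟩ : 𝒜 0)) (Algebra.subset_adjoin ht)
  | zero => exact zero_mem _
  | one => exact one_mem _
  | add x y _ _ hx hy => exact add_mem hx hy
  | neg x _ hx => exact neg_mem hx
  | mul x y _ _ hx hy => exact mul_mem hx hy

include hφ0 hgen hT hT1 in
theorem irrelevant_le_span : (HomogeneousIdeal.irrelevant 𝒜).toIdeal ≤ Ideal.span (T : Set A) := by
  intro x hx
  have hx0 : GradedRing.projZeroRingHom 𝒜 x = 0 := by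
    rw [GradedRing.projZeroRingHom_apply, ← GradedRing.proj_apply]
    exact (HomogeneousIdeal.mem_irrelevant_iff _ _).mp hx
  have key : ∀ y : A, y - GradedRing.projZeroRingHom 𝒜 y ∈ Ideal.span (T : Set A) := by
    intro y
    have hy : y ∈ Algebra.adjoin (𝒜 0) (T : Set A) := by
      rw [adjoin_eq_top 𝒜 φ hφ0 hgen T hT]; trivial
    induction hy using Algebra.adjoin_induction with
    | mem y hy =>
      have : GradedRing.projZeroRingHom 𝒜 y = 0 := by
        rw [GradedRing.projZeroRingHom_apply,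
          DirectSum.decompose_of_mem_ne 𝒜 (hT1 hy) one_ne_zero]
      rw [this, sub_zero]
      exact Ideal.subset_span hy
    | algebraMap c =>
      have : GradedRing.projZeroRingHom 𝒜 (algebraMap (𝒜 0) A c) = algebraMap (𝒜 0) A c := by
        rw [GradedRing.projZeroRingHom_apply]
        exact DirectSum.decompose_of_mem_same 𝒜 c.2
      rw [this, sub_self]
      exact zero_mem _
    | add y z _ _ hy hz =>
      rw [map_add]
      have e : y + z - (GradedRing.projZeroRingHom 𝒜 y + GradedRing.projZeroRingHom 𝒜 z) =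
        (y - GradedRing.projZeroRingHom 𝒜 y) + (z - GradedRing.projZeroRingHom 𝒜 z) := by ring
      rw [e]
      exact add_mem hy hz
    | mul y z _ _ hy hz =>
      rw [map_mul]
      have e : y * z - GradedRing.projZeroRingHom 𝒜 y * GradedRing.projZeroRingHom 𝒜 z =
        (y - GradedRing.projZeroRingHom 𝒜 y) * z +
          GradedRing.projZeroRingHom 𝒜 y * (z - GradedRing.projZeroRingHom 𝒜 z) := by ring
      rw [e]
      exact add_mem (Ideal.mul_mem_right _ _ hy) (Ideal.mul_mem_left _ _ hz)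
  have := key x
  rwa [hx0, sub_zero] at this

include hφ0 hgen hT hT1 in
/-- The degree zero localization at `t ∈ T` is of finite type over `R`. -/
theorem away_finiteType (φ₀ : R →+* 𝒜 0) (hφ₀ : ∀ r, (φ₀ r : A) = φ r) {t : A} (ht : t ∈ T) :
    ((algebraMap (𝒜 0) (Away 𝒜 t)).comp φ₀).FiniteType := by
  classical
  have ht1 : t ∈ 𝒜 1 := hT1 ht
  haveI : Algebra.FiniteType (𝒜 0) A := ⟨⟨T, adjoin_eq_top 𝒜 φ hφ0 hgen T hT⟩⟩
  obtain ⟨G, hG⟩ := (Away.finiteType (𝒜 := 𝒜) t 1 ht1).out
  let gen : A → Away 𝒜 t := fun a =>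
    if h : a ∈ 𝒜 1 then Away.mk 𝒜 ht1 1 a (by simpa using h) else 0
  have hgenval : ∀ a ∈ T, (gen a).val = Localization.mk a (⟨t ^ 1, 1, rfl⟩ : Submonoid.powers t) := by
    intro a ha
    have h1 : a ∈ 𝒜 1 := hT1 ha
    simp only [gen, dif_pos h1]
    rfl
  letI := ((algebraMap (𝒜 0) (Away 𝒜 t)).comp φ₀).toAlgebra
  change Algebra.FiniteType R (Away 𝒜 t)
  refine ⟨⟨G ∪ T.image gen, ?_⟩⟩
  rw [eq_top_iff]
  rintro z -
  have hz : z ∈ Algebra.adjoin (𝒜 0) (G : Set (Away 𝒜 t)) := by rw [hG]; trivial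
  induction hz using Algebra.adjoin_induction with
  | mem z hz =>
    exact Algebra.subset_adjoin (by rw [Finset.coe_union]; exact Or.inl hz)
  | algebraMap c =>
    obtain ⟨r, hr⟩ := hT ((c : A) * t) (by simpa using SetLike.mul_mem_graded c.2 ht1)
    have hid : algebraMap (𝒜 0) (Away 𝒜 t) c =
        ∑ t' ∈ T, algebraMap R (Away 𝒜 t) (r t') * gen t' := by
      apply val_injective
      have hu : IsUnit (algebraMap A (Localization.Away t) t) :=
        IsLocalization.Away.algebraMap_isUnit t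
      apply hu.mul_left_injective
      change (algebraMap (𝒜 0) (Away 𝒜 t) c).val * algebraMap A (Localization.Away t) t =
        (∑ t' ∈ T, algebraMap R (Away 𝒜 t) (r t') * gen t').val * algebraMap A (Localization.Away t) t
      have h1 : (algebraMap (𝒜 0) (Away 𝒜 t) c).val = algebraMap A (Localization.Away t) c := by
        change Localization.mk (c : A) 1 = _
        exact Localization.mk_one_eq_algebraMap _
      have h2 : (∑ t' ∈ T, algebraMap R (Away 𝒜 t) (r t') * gen t').val =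
          ∑ t' ∈ T, (algebraMap R (Away 𝒜 t) (r t') * gen t').val := by
        change algebraMap (Away 𝒜 t) (Localization.Away t) _ = _
        rw [map_sum]
        rfl
      rw [h1, h2, Finset.sum_mul, ← map_mul, hr, map_sum]
      refine Finset.sum_congr rfl (fun t' ht' => ?_)
      rw [val_mul, hgenval t' ht', map_mul]
      have h3 : (algebraMap R (Away 𝒜 t) (r t')).val = algebraMap A (Localization.Away t) (φ (r t')) := by
        change Localization.mk ((φ₀ (r t') : 𝒜 0) : A) 1 = _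
        rw [hφ₀]
        exact Localization.mk_one_eq_algebraMap _
      rw [h3, mul_assoc]
      congr 1
      rw [Localization.mk_eq_mk'_apply]
      simp
    rw [hid]
    refine Subalgebra.sum_mem _ (fun t' ht' => ?_)
    refine Subalgebra.mul_mem _ (Subalgebra.algebraMap_mem _ _) (Algebra.subset_adjoin ?_)
    rw [Finset.coe_union]
    exact Or.inr (Finset.mem_coe.mpr (Finset.mem_image_of_mem gen ht'))
  | add y z _ _ hy hz => exact add_mem hy hz
  | mul y z _ _ hy hz => exact mul_mem hy hz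

end algebra

variable {Y P : Scheme.{u}} {𝒮 : RelProj.QCGrAlg Y} {p : P ⟶ Y}
  {chart : ∀ (U : Y.Opens) (hU : IsAffineOpen U),
    ((p ⁻¹ᵁ U : P.Opens) : Scheme.{u}) ≅ Proj (𝒮.deg U hU)}

theorem finiteType_of_isGenDegOne (hp : RelProj.IsRelProj 𝒮 p chart)
    (hgen : 𝒮.IsGenDegOne) (hft : 𝒮.IsFTDeg 1) : LocallyOfFiniteType p ∧ QuasiCompact p := by
  have key : ∀ (U : Y.Opens) (hU : IsAffineOpen U),
      LocallyOfFiniteType (p ∣_ U) ∧ QuasiCompact (p ∣_ U) := by
    intro U hU
    obtain ⟨T, hT1, hT⟩ := hft U hU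
    have hadj := adjoin_eq_top (𝒮.deg U hU) (𝒮.str.app (op U)).hom (𝒮.str_mem U hU) (hgen U hU) T hT
    haveI : Algebra.FiniteType (𝒮.deg U hU 0) (𝒮.presheaf.obj (op U)) := ⟨⟨T, hadj⟩⟩
    have hspan := irrelevant_le_span (𝒮.deg U hU) (𝒮.str.app (op U)).hom (𝒮.str_mem U hU)
      (hgen U hU) T hT1 hT
    have hspan' : (HomogeneousIdeal.irrelevant (𝒮.deg U hU)).toIdeal ≤
        Ideal.span (Set.range fun t : T => (t : 𝒮.presheaf.obj (op U))) := by
      rwa [Subtype.range_coe_subtype, Finset.setOfPred_mem]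
    have hlft : LocallyOfFiniteType (Proj.toSpecZero (𝒮.deg U hU) ≫ Spec.map (𝒮.strZero U hU)) := by
      let 𝒰 := (Proj.affineOpenCoverOfIrrelevantLESpan (𝒮.deg U hU)
        (fun t : T => (t : 𝒮.presheaf.obj (op U))) (m := fun _ => 1) (fun t => hT1 t.2)
        (fun _ => Nat.one_pos) hspan').openCover
      refine IsZariskiLocalAtSource.of_openCover (P := @LocallyOfFiniteType) 𝒰 (fun (t : {x // x ∈ T}) => ?_)
      change LocallyOfFiniteType (Proj.awayι (𝒮.deg U hU) (t : 𝒮.presheaf.obj (op U)) (hT1 t.2)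
        Nat.one_pos ≫ Proj.toSpecZero (𝒮.deg U hU) ≫ Spec.map (𝒮.strZero U hU))
      rw [Proj.awayι_toSpecZero_assoc, ← Spec.map_comp,
        HasRingHomProperty.Spec_iff (P := @LocallyOfFiniteType)]
      exact away_finiteType (𝒮.deg U hU) (𝒮.str.app (op U)).hom (𝒮.str_mem U hU) (hgen U hU) T
        hT1 hT (𝒮.strZero U hU).hom (fun r => rfl) t.2
    rw [RelProjLoc.restrict_eq hp U hU]
    refine ⟨?_, inferInstance⟩
    rw [← Category.assoc (Proj.toSpecZero _)]
    infer_instance
  exact ⟨RelProjLoc.of_affine_restrict (Q := @LocallyOfFiniteType) p (fun U hU => (key U hU).1),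
    RelProjLoc.of_affine_restrict (Q := @QuasiCompact) p (fun U hU => (key U hU).2)⟩

end Groth.Agent.Lib.Helper3.RelProjFT
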