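import Groth.Agent.Lib.Helper3.RelProjMap
import Groth.Agent.Lib.Helper3.RelProjFT
import Groth.Agent.Lib.Helper3.GrTransport
import Groth.Agent.Lib.Helper3.QProj

/-!
# Projective morphisms (relative `Proj` of algebras generated in degree one) are proper
-/

set_option autoImplicit false
universe u
open CategoryTheory CategoryTheory.Limits AlgebraicGeometry TopologicalSpace Opposite
open scoped HomogeneousIdeal

namespace Groth.Agent.Lib.Helper3.ProjProper

open HomogeneousLocalization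

section general

variable {A B : Type u} [CommRing A] [CommRing B] {σ τ : Type u} [SetLike σ A]
  [AddSubgroupClass σ A] [SetLike τ B] [AddSubgroupClass τ B]
  {𝒜 : ℕ → σ} {ℬ : ℕ → τ} [GradedRing 𝒜] [GradedRing ℬ]

theorem irrelevant_le_of_surj_pos (f : 𝒜 →+*ᵍ ℬ)
    (hsurj : ∀ (d : ℕ), 0 < d → ∀ b : B, b ∈ ℬ d → ∃ a ∈ 𝒜 d, f a = b) : ℬ₊ ≤ 𝒜₊.map f := by
  rw [HomogeneousIdeal.irrelevant_le]
  intro i hi b hb
  change b ∈ Ideal.map f (𝒜₊).toIdeal
  obtain ⟨a, ha, rfl⟩ := hsurj i hi b hb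
  exact Ideal.mem_map_of_mem _ (HomogeneousIdeal.mem_irrelevant_of_mem _ hi ha)

theorem away_map_surjective_of_pos (f : 𝒜 →+*ᵍ ℬ)
    (hsurj : ∀ (d : ℕ), 0 < d → ∀ b : B, b ∈ ℬ d → ∃ a ∈ 𝒜 d, f a = b) {d : ℕ} (hd : 0 < d)
    {s : A} (hs : s ∈ 𝒜 d) : Function.Surjective (Away.map f s) := by
  intro z
  obtain ⟨n, b, hb, rfl⟩ := Away.mk_surjective ℬ (f.2 hs) z
  have hb' : b * f s ∈ ℬ ((n + 1) • d) := by
    have := SetLike.mul_mem_graded hb (f.2 hs)
    rwa [show n • d + d = (n + 1) • d by rw [add_smul, one_smul]] at this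
  obtain ⟨a, ha, hab⟩ := hsurj ((n + 1) • d) (by positivity) _ hb'
  refine ⟨Away.mk 𝒜 hs (n + 1) a ha, ?_⟩
  rw [Away.map_mk]
  apply HomogeneousLocalization.val_injective
  rw [Away.val_mk, Away.val_mk, Localization.mk_eq_mk_iff, Localization.r_iff_exists]
  refine ⟨1, ?_⟩
  simp only [OneMemClass.coe_one, one_mul]
  rw [hab, pow_succ]
  change f s ^ n * (b * f s) = f s ^ n * f s * b
  ring

theorem isClosedImmersion_map_of_pos (f : 𝒜 →+*ᵍ ℬ) (hf : ℬ₊ ≤ 𝒜₊.map f)
    (hsurj : ∀ (d : ℕ), 0 < d → ∀ b : B, b ∈ ℬ d → ∃ a ∈ 𝒜 d, f a = b) :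
    IsClosedImmersion (Proj.map f hf) := by
  refine RelProjMap.of_cover_isPullback (P := @IsClosedImmersion)
    (Proj.affineOpenCover 𝒜).openCover
    (fun (s : (Σ i : ℕ+, 𝒜 i)) => Spec (.of (Away ℬ (f (s.2 : A)))))
    (fun (s : (Σ i : ℕ+, 𝒜 i)) => Proj.awayι ℬ (f (s.2 : A)) (f.2 s.2.2) s.1.2)
    (fun (s : (Σ i : ℕ+, 𝒜 i)) => Spec.map (CommRingCat.ofHom (Away.map f (s.2 : A))))
    (fun (s : (Σ i : ℕ+, 𝒜 i)) => ?_) (fun (s : (Σ i : ℕ+, 𝒜 i)) => ?_)
  · refine (IsOpenImmersion.isPullback _ _ _ _ (Proj.awayι_comp_map f hf s.1.2 _ s.2.2) ?_).flip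
    change Proj.map f hf ⁻¹ᵁ (Proj.awayι 𝒜 (s.2 : A) s.2.2 s.1.2).opensRange = _
    rw [Proj.opensRange_awayι, Proj.opensRange_awayι]
    rfl
  · exact IsClosedImmersion.spec_of_surjective _
      (away_map_surjective_of_pos f hsurj s.1.2 s.2.2)

end general

section algebra

variable {A R : Type u} [CommRing A] [CommRing R] (𝒜 : ℕ → AddSubgroup A) [GradedRing 𝒜]
  (φ : R →+* A) (hφ0 : ∀ r, φ r ∈ 𝒜 0)
  (hgen : Subring.closure ((𝒜 0 : Set A) ∪ (𝒜 1 : Set A)) = ⊤)
  (T : Finset A) (hT1 : (↑T : Set A) ⊆ (𝒜 1 : Set A))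
  (hT : ∀ x ∈ 𝒜 1, ∃ c : A → R, x = ∑ t ∈ T, φ (c t) * t)

include hgen in
/-- elements of positive degree lie in the subring generated by the scalars and degree one -/
theorem mem_closure_of_pos {d : ℕ} (hd : 0 < d) {x : A} (hx : x ∈ 𝒜 d) :
    x ∈ Subring.closure (Set.range φ ∪ (𝒜 1 : Set A)) := by
  classical
  set C := Subring.closure (Set.range φ ∪ (𝒜 1 : Set A)) with hC
  have h1 : ∀ y ∈ 𝒜 1, y ∈ C := fun y hy => Subring.subset_closure (Or.inr hy)
  have key : ∀ y : A, ∀ e : ℕ, 0 < e → ∀ a ∈ 𝒜 0,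
      a * (DirectSum.decompose 𝒜 y e : A) ∈ C := by
    intro y
    have hy : y ∈ Subring.closure ((𝒜 0 : Set A) ∪ (𝒜 1 : Set A)) := by rw [hgen]; trivial
    induction hy using Subring.closure_induction with
    | mem y hy =>
      intro e he a ha
      rcases hy with hy | hy
      · rw [DirectSum.decompose_of_mem_ne 𝒜 hy he.ne, mul_zero]
        exact zero_mem _
      · by_cases h1e : 1 = e
        · subst h1e
          rw [DirectSum.decompose_of_mem_same 𝒜 hy]
          apply h1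
          have := SetLike.mul_mem_graded ha hy
          rwa [zero_add] at this
        · rw [DirectSum.decompose_of_mem_ne 𝒜 hy h1e, mul_zero]
          exact zero_mem _
    | zero =>
      intro e he a ha
      rw [DirectSum.decompose_zero, DirectSum.zero_apply, ZeroMemClass.coe_zero, mul_zero]
      exact zero_mem _
    | one =>
      intro e he a ha
      rw [DirectSum.decompose_of_mem_ne 𝒜 (SetLike.GradedOne.one_mem) he.ne, mul_zero]
      exact zero_mem _
    | add y z _ _ hy hz =>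
      intro e he a ha
      rw [DirectSum.decompose_add, DirectSum.add_apply, AddMemClass.coe_add, mul_add]
      exact add_mem (hy e he a ha) (hz e he a ha)
    | neg y _ hy =>
      intro e he a ha
      rw [← GradedRing.proj_apply, map_neg, GradedRing.proj_apply, mul_neg]
      exact neg_mem (hy e he a ha)
    | mul y z _ _ hy hz =>
      intro e he a ha
      rw [DirectSum.decompose_mul, DirectSum.coe_mul_apply, Finset.mul_sum]
      refine sum_mem (fun ij hij => ?_)
      have hije : ij.1 + ij.2 = e := (Finset.mem_filter.mp hij).2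
      rcases Nat.eq_zero_or_pos ij.1 with h0 | hpos
      · -- `ij.1 = 0`, so `ij.2 = e > 0`
        have h2 : 0 < ij.2 := by omega
        have ha' : a * (DirectSum.decompose 𝒜 y ij.1 : A) ∈ 𝒜 0 := by
          have := SetLike.mul_mem_graded ha (SetLike.coe_mem (DirectSum.decompose 𝒜 y ij.1))
          rw [h0, zero_add] at this
          rw [h0]
          exact this
        rw [← mul_assoc]
        exact hz ij.2 h2 _ ha'
      · rcases Nat.eq_zero_or_pos ij.2 with h0 | hpos2
        · have ha' : a * (DirectSum.decompose 𝒜 z ij.2 : A) ∈ 𝒜 0 := by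
            have := SetLike.mul_mem_graded ha (SetLike.coe_mem (DirectSum.decompose 𝒜 z ij.2))
            rw [h0, zero_add] at this
            rw [h0]
            exact this
          have e1 : a * ((DirectSum.decompose 𝒜 y ij.1 : A) * (DirectSum.decompose 𝒜 z ij.2 : A)) =
              (a * (DirectSum.decompose 𝒜 z ij.2 : A)) * (DirectSum.decompose 𝒜 y ij.1 : A) := by
            ring
          rw [e1]
          exact hy ij.1 hpos _ ha'
        · have e1 : a * ((DirectSum.decompose 𝒜 y ij.1 : A) * (DirectSum.decompose 𝒜 z ij.2 : A)) =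
              (a * (DirectSum.decompose 𝒜 y ij.1 : A)) *
                (1 * (DirectSum.decompose 𝒜 z ij.2 : A)) := by ring
          rw [e1]
          exact mul_mem (hy ij.1 hpos a ha) (hz ij.2 hpos2 1 SetLike.GradedOne.one_mem)
  have := key x d hd 1 SetLike.GradedOne.one_mem
  rwa [DirectSum.decompose_of_mem_same 𝒜 hx, one_mul] at this

/-- an enumeration of `T`, padded by zero -/
noncomputable def tt : Fin (T.card + 1) → A :=
  Fin.snoc (α := fun _ => A) (fun j : Fin T.card => ((T.equivFin.symm j : T) : A)) 0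

theorem tt_castSucc (j : Fin T.card) : tt T (Fin.castSucc j) = ((T.equivFin.symm j : T) : A) := by
  unfold tt
  rw [Fin.snoc_castSucc]

theorem tt_last : tt T (Fin.last T.card) = 0 := by
  unfold tt
  rw [Fin.snoc_last]

include hT1 in
theorem tt_mem (j : Fin (T.card + 1)) : tt T j ∈ 𝒜 1 := by
  refine Fin.lastCases ?_ (fun j => ?_) j
  · rw [tt_last]
    exact zero_mem _
  · rw [tt_castSucc]
    exact hT1 (T.equivFin.symm j).2

/-- the graded homomorphism from the polynomial ring -/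
noncomputable def polyHom : CohB1.polyGrading T.card R →+*ᵍ 𝒜 where
  toRingHom := MvPolynomial.eval₂Hom φ (tt T)
  map_mem := by
    intro d P hP
    have hP' : P.IsHomogeneous d := hP
    change MvPolynomial.eval₂ φ (tt T) P ∈ 𝒜 d
    rw [MvPolynomial.eval₂_eq]
    refine sum_mem (fun μ hμ => ?_)
    have hdeg : μ.degree = d := by
      by_contra h
      exact (MvPolynomial.mem_support_iff.mp hμ) (hP'.coeff_eq_zero h)
    have h1 := SetLike.prod_pow_mem_graded 𝒜 (fun _ : Fin (T.card + 1) => 1) (tt T)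
      (F := μ.support) (fun k => μ k) (fun k _ => tt_mem 𝒜 T hT1 k)
    have h2 := SetLike.mul_mem_graded (hφ0 (MvPolynomial.coeff μ P)) h1
    have e : 0 + ∑ k ∈ μ.support, μ k • 1 = d := by
      rw [zero_add, ← hdeg, Finsupp.degree_apply]
      simp
    rwa [e] at h2

theorem polyHom_apply (P : MvPolynomial (Fin (T.card + 1)) R) :
    polyHom 𝒜 φ hφ0 T hT1 P = MvPolynomial.eval₂Hom φ (tt T) P := rfl

include hgen hT in
theorem polyHom_surj_pos (d : ℕ) (hd : 0 < d) (x : A) (hx : x ∈ 𝒜 d) :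
    ∃ P ∈ CohB1.polyGrading T.card R d, polyHom 𝒜 φ hφ0 T hT1 P = x := by
  classical
  have hx' := mem_closure_of_pos 𝒜 φ hgen hd hx
  have hle : Subring.closure (Set.range φ ∪ (𝒜 1 : Set A)) ≤
      (MvPolynomial.eval₂Hom φ (tt T)).range := by
    rw [Subring.closure_le]
    rintro y (⟨r, rfl⟩ | hy)
    · exact ⟨MvPolynomial.C r, by simp⟩
    · obtain ⟨c, rfl⟩ := hT y hy
      refine sum_mem (fun t ht => mul_mem ⟨MvPolynomial.C (c t), by simp⟩ ?_)
      refine ⟨MvPolynomial.X (Fin.castSucc (T.equivFin ⟨t, ht⟩)), ?_⟩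
      rw [MvPolynomial.coe_eval₂Hom, MvPolynomial.eval₂_X, tt_castSucc, Equiv.symm_apply_apply]
  obtain ⟨P, hP⟩ := hle hx'
  refine ⟨DirectSum.decompose (CohB1.polyGrading T.card R) P d, SetLike.coe_mem _, ?_⟩
  have h1 := GradedRingHom.map_directSumDecompose (CohB1.polyGrading T.card R) 𝒜
    (polyHom 𝒜 φ hφ0 T hT1) (x := P) (i := d)
  rw [h1, polyHom_apply, hP, DirectSum.decompose_of_mem_same 𝒜 hx]

end algebra

section scheme

variable {Y P : Scheme.{u}} {𝒮 : RelProj.QCGrAlg Y} {p : P ⟶ Y}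
  {chart : ∀ (U : Y.Opens) (hU : IsAffineOpen U),
    ((p ⁻¹ᵁ U : P.Opens) : Scheme.{u}) ≅ Proj (𝒮.deg U hU)}

/-- the relative `Proj` of an algebra generated in degree one with degree one part of finite type
is proper -/
theorem isProper_of_isGenDegOne (hp : RelProj.IsRelProj 𝒮 p chart)
    (hgen : 𝒮.IsGenDegOne) (hft : 𝒮.IsFTDeg 1) : IsProper p := by
  refine RelProjLoc.of_affine_restrict (Q := @IsProper) p (fun U hU => ?_)
  obtain ⟨T, hT1, hT⟩ := hft U hU
  rw [RelProjLoc.restrict_eq hp U hU]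
  let f := polyHom (𝒮.deg U hU) (𝒮.str.app (op U)).hom (𝒮.str_mem U hU) T hT1
  have hsurj := polyHom_surj_pos (𝒮.deg U hU) (𝒮.str.app (op U)).hom (𝒮.str_mem U hU)
    (hgen U hU) T hT1 hT
  have hirr := irrelevant_le_of_surj_pos f hsurj
  haveI : IsClosedImmersion (Proj.map f hirr) := isClosedImmersion_map_of_pos f hirr hsurj
  have tri : Proj.toSpecZero (𝒮.deg U hU) ≫ Spec.map (𝒮.strZero U hU) =
      Proj.map f hirr ≫ Proj.toSpecZero (CohB1.polyGrading T.card Γ(Y, U)) ≫
        Spec.map (CommRingCat.ofHom (algebraMap Γ(Y, U) (CohB1.polyGrading T.card Γ(Y, U) 0))) := by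
    rw [GrTransport.map_toSpecZero_assoc, ← Spec.map_comp]
    congr 2
    refine CommRingCat.hom_ext (RingHom.ext fun r => Subtype.ext ?_)
    change ((𝒮.str.app (op U)).hom r) =
      MvPolynomial.eval₂Hom (𝒮.str.app (op U)).hom (tt T) (MvPolynomial.C r)
    simp
  haveI : IsProper (Proj.toSpecZero (CohB1.polyGrading T.card Γ(Y, U)) ≫
      Spec.map (CommRingCat.ofHom (algebraMap Γ(Y, U) (CohB1.polyGrading T.card Γ(Y, U) 0)))) :=
    QProj.isProper_toSpec Γ(Y, U) T.card
  rw [reassoc_of% tri]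
  have h1 : IsProper ((Proj.toSpecZero (CohB1.polyGrading T.card Γ(Y, U)) ≫
      Spec.map (CommRingCat.ofHom (algebraMap Γ(Y, U) (CohB1.polyGrading T.card Γ(Y, U) 0)))) ≫
      hU.isoSpec.inv) := inferInstance
  rw [Category.assoc] at h1
  haveI := h1
  infer_instance

end scheme

end Groth.Agent.Lib.Helper3.ProjProper
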