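import Groth.Agent.Lib.Helper3.RelProjLoc

set_option autoImplicit false
universe u
open CategoryTheory CategoryTheory.Limits AlgebraicGeometry TopologicalSpace Opposite
open scoped HomogeneousIdeal

namespace Groth.Agent.Lib.Helper3.RelProjMap

open HomogeneousLocalization

/-- A local-at-target property holds if it holds for the base changes to an open cover. -/
theorem of_cover_isPullback {P : MorphismProperty Scheme.{u}} [IsZariskiLocalAtTarget P]
    {X Y : Scheme.{u}} {f : X ⟶ Y} (𝒰 : Y.OpenCover) (X' : 𝒰.I₀ → Scheme.{u})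
    (iX : ∀ i, X' i ⟶ X) (f' : ∀ i, X' i ⟶ 𝒰.X i)
    (hpb : ∀ i, IsPullback (iX i) (f' i) f (𝒰.f i)) (H : ∀ i, P (f' i)) : P f := by
  refine IsZariskiLocalAtTarget.of_openCover 𝒰 (fun (i : 𝒰.I₀) => ?_)
  change P (pullback.snd f (𝒰.f i))
  have e : (hpb i).isoPullback.hom ≫ pullback.snd f (𝒰.f i) = f' i :=
    (hpb i).isoPullback_hom_snd
  have := H i
  rw [← e, P.cancel_left_of_respectsIso] at this
  exact this

section algebra

variable {A B : Type u} [CommRing A] [CommRing B] {𝒜 : ℕ → AddSubgroup A}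
  {ℬ : ℕ → AddSubgroup B} [GradedRing 𝒜] [GradedRing ℬ]

/-- the degree zero part of a graded ring homomorphism -/
def zeroHom (f : 𝒜 →+*ᵍ ℬ) : 𝒜 0 →+* ℬ 0 where
  toFun x := ⟨f (x : A), f.2 x.2⟩
  map_one' := Subtype.ext (f.toRingHom.map_one)
  map_mul' x y := Subtype.ext (f.toRingHom.map_mul _ _)
  map_zero' := Subtype.ext (f.toRingHom.map_zero)
  map_add' x y := Subtype.ext (f.toRingHom.map_add _ _)

set_option backward.isDefEq.respectTransparency false in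
@[reassoc]
theorem map_toSpecZero (f : 𝒜 →+*ᵍ ℬ) (hf : ℬ₊ ≤ 𝒜₊.map f) :
    Proj.map f hf ≫ Proj.toSpecZero 𝒜 =
      Proj.toSpecZero ℬ ≫ Spec.map (CommRingCat.ofHom (zeroHom f)) := by
  refine (Proj.mapAffineOpenCover f hf).openCover.hom_ext _ _ (fun s => ?_)
  simp only [Scheme.AffineOpenCover.openCover_f, Proj.mapAffineOpenCover_f,
    Proj.awayι_comp_map_assoc f hf s.1.2 _ s.2.2]
  rw [Proj.awayι_toSpecZero,
    Proj.awayι_toSpecZero_assoc, ← Spec.map_comp, ← Spec.map_comp]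
  congr 1
  ext c
  simp [zeroHom, fromZeroRingHom, Away.map, HomogeneousLocalization.map_mk]

theorem away_map_surjective (f : 𝒜 →+*ᵍ ℬ) (hsurj : Function.Surjective f) {d : ℕ} {s : A}
    (hs : s ∈ 𝒜 d) : Function.Surjective (Away.map f s) := by
  intro z
  obtain ⟨n, b, hb, rfl⟩ := Away.mk_surjective ℬ (f.2 hs) z
  obtain ⟨a, rfl⟩ := hsurj b
  refine ⟨Away.mk 𝒜 hs n (DirectSum.decompose 𝒜 a (n • d)) (SetLike.coe_mem _), ?_⟩
  rw [Away.map_mk]
  congr 1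
  rw [GradedRingHom.map_directSumDecompose, DirectSum.decompose_of_mem_same _ hb]

theorem isClosedImmersion_map (f : 𝒜 →+*ᵍ ℬ) (hf : ℬ₊ ≤ 𝒜₊.map f)
    (hsurj : Function.Surjective f) : IsClosedImmersion (Proj.map f hf) := by
  refine of_cover_isPullback (P := @IsClosedImmersion) (Proj.affineOpenCover 𝒜).openCover
    (fun (s : (Σ i : ℕ+, 𝒜 i)) => Spec (.of (Away ℬ (f (s.2 : A)))))
    (fun (s : (Σ i : ℕ+, 𝒜 i)) => Proj.awayι ℬ (f (s.2 : A)) (f.2 s.2.2) s.1.2)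
    (fun (s : (Σ i : ℕ+, 𝒜 i)) => Spec.map (CommRingCat.ofHom (Away.map f (s.2 : A))))
    (fun (s : (Σ i : ℕ+, 𝒜 i)) => ?_) (fun (s : (Σ i : ℕ+, 𝒜 i)) => ?_)
  · refine (IsOpenImmersion.isPullback _ _ _ _ (Proj.awayι_comp_map f hf s.1.2 _ s.2.2) ?_).flip
    change Proj.map f hf ⁻¹ᵁ (Proj.awayι 𝒜 (s.2 : A) s.2.2 s.1.2).opensRange = _
    rw [Proj.opensRange_awayι, Proj.opensRange_awayι]
    rfl
  · exact IsClosedImmersion.spec_of_surjective _ (away_map_surjective f hsurj s.2.2)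

theorem away_map_bijective (f : 𝒜 →+*ᵍ ℬ)
    (hbij : ∀ n, 0 < n → Set.BijOn f (𝒜 n) (ℬ n)) {d : ℕ} (hd : 0 < d) {s : A}
    (hs : s ∈ 𝒜 d) : Function.Bijective (Away.map f s) := by
  constructor
  · rw [injective_iff_map_eq_zero]
    intro z hz
    obtain ⟨n, a, ha, rfl⟩ := Away.mk_surjective 𝒜 hs z
    rw [Away.map_mk] at hz
    have h1 := congrArg HomogeneousLocalization.val hz
    rw [Away.val_mk, val_zero, Localization.mk_eq_mk', IsLocalization.mk'_eq_zero_iff] at h1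
    obtain ⟨⟨_, N, rfl⟩, hN⟩ := h1
    have hN' : f s ^ N * f a = 0 := hN
    have hmem : s ^ (N + 1) * a ∈ 𝒜 ((N + 1) • d + n • d) :=
      SetLike.mul_mem_graded (SetLike.pow_mem_graded _ hs) ha
    have hpos : 0 < (N + 1) • d + n • d := by
      have : 0 < (N + 1) • d := by
        rw [smul_eq_mul]; exact Nat.mul_pos (Nat.succ_pos N) hd
      omega
    have hzero : f (s ^ (N + 1) * a) = f 0 := by
      have e : f (s ^ (N + 1) * a) = f s * (f s ^ N * f a) := by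
        rw [map_mul, map_pow]; ring
      rw [e, hN', mul_zero, map_zero]
    have := (hbij _ hpos).injOn hmem (zero_mem _) hzero
    apply HomogeneousLocalization.val_injective
    rw [Away.val_mk, val_zero, Localization.mk_eq_mk', IsLocalization.mk'_eq_zero_iff]
    exact ⟨⟨s ^ (N + 1), N + 1, rfl⟩, this⟩
  · intro z
    obtain ⟨n, b, hb, rfl⟩ := Away.mk_surjective ℬ (f.2 hs) z
    have hmem : b * f s ∈ ℬ ((n + 1) • d) := by
      have := SetLike.mul_mem_graded hb (f.2 hs)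
      rwa [show n • d + d = (n + 1) • d from (Nat.succ_mul n d).symm] at this
    have hpos : 0 < (n + 1) • d := by
      rw [smul_eq_mul]; exact Nat.mul_pos (Nat.succ_pos n) hd
    obtain ⟨a, ha, hfa⟩ := (hbij _ hpos).surjOn hmem
    refine ⟨Away.mk 𝒜 hs (n + 1) a ha, ?_⟩
    rw [Away.map_mk]
    apply HomogeneousLocalization.val_injective
    rw [Away.val_mk, Away.val_mk, Localization.mk_eq_mk_iff, Localization.r_iff_exists]
    refine ⟨1, ?_⟩
    simp only [OneMemClass.coe_one, one_mul]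
    rw [hfa]
    change f s ^ n * (b * f s) = f s ^ (n + 1) * b
    ring

theorem isIso_map (f : 𝒜 →+*ᵍ ℬ) (hf : ℬ₊ ≤ 𝒜₊.map f)
    (hbij : ∀ n, 0 < n → Set.BijOn f (𝒜 n) (ℬ n)) : IsIso (Proj.map f hf) := by
  rw [← MorphismProperty.isomorphisms.iff]
  refine of_cover_isPullback (P := MorphismProperty.isomorphisms Scheme.{u})
    (Proj.affineOpenCover 𝒜).openCover
    (fun (s : (Σ i : ℕ+, 𝒜 i)) => Spec (.of (Away ℬ (f (s.2 : A)))))
    (fun (s : (Σ i : ℕ+, 𝒜 i)) => Proj.awayι ℬ (f (s.2 : A)) (f.2 s.2.2) s.1.2)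
    (fun (s : (Σ i : ℕ+, 𝒜 i)) => Spec.map (CommRingCat.ofHom (Away.map f (s.2 : A))))
    (fun (s : (Σ i : ℕ+, 𝒜 i)) => ?_) (fun (s : (Σ i : ℕ+, 𝒜 i)) => ?_)
  · refine (IsOpenImmersion.isPullback _ _ _ _ (Proj.awayι_comp_map f hf s.1.2 _ s.2.2) ?_).flip
    change Proj.map f hf ⁻¹ᵁ (Proj.awayι 𝒜 (s.2 : A) s.2.2 s.1.2).opensRange = _
    rw [Proj.opensRange_awayι, Proj.opensRange_awayι]
    rfl
  · rw [MorphismProperty.isomorphisms.iff]
    haveI : IsIso (CommRingCat.ofHom (Away.map f (s.2 : A))) :=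
      (ConcreteCategory.isIso_iff_bijective _).mpr (away_map_bijective f hbij s.1.2 s.2.2)
    change IsIso (Spec.map (CommRingCat.ofHom (Away.map f (s.2 : A))))
    infer_instance

end algebra

variable {Y PA PB : Scheme.{u}} {𝒜 ℬ : RelProj.QCGrAlg Y} {φ : 𝒜.toQCAlg ⟶ ℬ.toQCAlg}
  {hφ : RelProj.IsGradedHom φ}
  {hirr : ∀ (U : Y.Opens) (hU : IsAffineOpen U),
    (ℬ.deg U hU)₊ ≤ ((𝒜.deg U hU)₊).map (RelProj.gradedHomAt φ hφ U hU)}
  {pA : PA ⟶ Y} {pB : PB ⟶ Y}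
  {chartA : ∀ (U : Y.Opens) (hU : IsAffineOpen U),
    ((pA ⁻¹ᵁ U : PA.Opens) : Scheme.{u}) ≅ Proj (𝒜.deg U hU)}
  {chartB : ∀ (U : Y.Opens) (hU : IsAffineOpen U),
    ((pB ⁻¹ᵁ U : PB.Opens) : Scheme.{u}) ≅ Proj (ℬ.deg U hU)}

theorem strZero_comp (U : Y.Opens) (hU : IsAffineOpen U) :
    𝒜.strZero U hU ≫ CommRingCat.ofHom (zeroHom (RelProj.gradedHomAt φ hφ U hU)) =
      ℬ.strZero U hU := by
  ext r
  exact congrArg (fun ψ : Y.presheaf ⟶ ℬ.presheaf => (ψ.app (op U)).hom r) φ.comm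

/-- A morphism of relative Proj's induced by a graded homomorphism is a morphism over the base. -/
theorem comp_eq (hA : RelProj.IsRelProj 𝒜 pA chartA) (hB : RelProj.IsRelProj ℬ pB chartB)
    (h : PB ⟶ PA) (hh : RelProj.IsRelProjMap φ hφ hirr chartA chartB h) : h ≫ pA = pB := by
  let 𝒰 : PB.OpenCover := PB.openCoverOfIsOpenCover
    (fun U : Y.affineOpens => pB ⁻¹ᵁ (U : Y.Opens))
    (pB.iSup_preimage_eq_top (iSup_affineOpens_eq_top Y))
  refine 𝒰.hom_ext _ _ (fun U => ?_)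
  change (pB ⁻¹ᵁ U.1).ι ≫ h ≫ pA = (pB ⁻¹ᵁ U.1).ι ≫ pB
  rw [← Category.assoc, hh U.1 U.2]
  simp only [Category.assoc]
  rw [← hA.chart_over U.1 U.2, Iso.inv_hom_id_assoc, ← hB.chart_over U.1 U.2,
    map_toSpecZero_assoc, ← Spec.map_comp_assoc, strZero_comp]

theorem of_forall_map {P : MorphismProperty Scheme.{u}} [IsZariskiLocalAtTarget P]
    (hA : RelProj.IsRelProj 𝒜 pA chartA) (hB : RelProj.IsRelProj ℬ pB chartB)
    (h : PB ⟶ PA) (hh : RelProj.IsRelProjMap φ hφ hirr chartA chartB h)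
    (H : ∀ (U : Y.Opens) (hU : IsAffineOpen U),
      P (Proj.map (RelProj.gradedHomAt φ hφ U hU) (hirr U hU))) : P h := by
  have hcomp := comp_eq hA hB h hh
  let 𝒰 : PA.OpenCover := PA.openCoverOfIsOpenCover
    (fun U : Y.affineOpens => pA ⁻¹ᵁ (U : Y.Opens))
    (pA.iSup_preimage_eq_top (iSup_affineOpens_eq_top Y))
  refine of_cover_isPullback 𝒰 (fun U => (pB ⁻¹ᵁ U.1).toScheme) (fun U => (pB ⁻¹ᵁ U.1).ι)
    (fun U => (chartB U.1 U.2).hom ≫ Proj.map _ (hirr U.1 U.2) ≫ (chartA U.1 U.2).inv)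
    (fun U => ?_) (fun U => ?_)
  · refine (IsOpenImmersion.isPullback _ _ _ _ ?_ ?_).flip
    · rw [hh U.1 U.2]
      simp only [Category.assoc]
      rfl
    · change h ⁻¹ᵁ (pA ⁻¹ᵁ U.1).ι.opensRange = (pB ⁻¹ᵁ U.1).ι.opensRange
      rw [Scheme.Opens.opensRange_ι, Scheme.Opens.opensRange_ι, ← Scheme.Hom.comp_preimage, hcomp]
  · rw [P.cancel_left_of_respectsIso, P.cancel_right_of_respectsIso]
    exact H U.1 U.2

end Groth.Agent.Lib.Helper3.RelProjMap
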