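import Groth.Prelude.Def_RelProj4
import Groth.Agent.Lib.Helper3.RelProjMap
import Groth.Agent.Lib.Helper3.ProjProper

/-!
# Morphisms of relative `Proj` induced by (TN)-surjective / (TN)-bijective homomorphisms
-/

set_option autoImplicit false
universe u
open CategoryTheory CategoryTheory.Limits AlgebraicGeometry TopologicalSpace Opposite
open scoped HomogeneousIdeal

namespace Groth.Agent.Lib.Helper3.ProjQMap

open HomogeneousLocalization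

section algebra

variable {A B : Type u} [CommRing A] [CommRing B] {𝒜 : ℕ → AddSubgroup A}
  {ℬ : ℕ → AddSubgroup B} [GradedRing 𝒜] [GradedRing ℬ] (ψ : 𝒜 →+*ᵍ ℬ)

theorem exists_pos_notMem (y : Proj ℬ) :
    ∃ d, 0 < d ∧ ∃ b ∈ ℬ d, b ∉ y.asHomogeneousIdeal := by
  by_contra hcon
  push_neg at hcon
  apply y.not_irrelevant_le
  rw [HomogeneousIdeal.irrelevant_le]
  intro i hi b hb
  exact hcon i hi b hb

theorem exists_map_notMem (n : ℕ) (hsurj : ∀ k, n ≤ k → ∀ y ∈ ℬ k, ∃ x ∈ 𝒜 k, ψ x = y)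
    (y : Proj ℬ) : ∃ d, 0 < d ∧ ∃ f ∈ 𝒜 d, ψ f ∉ y.asHomogeneousIdeal := by
  obtain ⟨d, hd, b, hb, hby⟩ := exists_pos_notMem y
  have hmem : b ^ (n + 1) ∈ ℬ ((n + 1) • d) := SetLike.pow_mem_graded _ hb
  have hle : n ≤ (n + 1) • d := by
    rw [smul_eq_mul]
    nlinarith
  obtain ⟨a, ha, hab⟩ := hsurj _ hle _ hmem
  refine ⟨(n + 1) • d, by rw [smul_eq_mul]; positivity, a, ha, ?_⟩
  rw [hab]
  intro hmem'
  exact hby (y.isPrime.mem_of_pow_mem _ hmem')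

theorem away_map_surjective_of_tn (n : ℕ)
    (hsurj : ∀ k, n ≤ k → ∀ y ∈ ℬ k, ∃ x ∈ 𝒜 k, ψ x = y) {d : ℕ} (hd : 0 < d)
    {s : A} (hs : s ∈ 𝒜 d) : Function.Surjective (Away.map ψ s) := by
  intro z
  obtain ⟨m, b, hb, rfl⟩ := Away.mk_surjective ℬ (ψ.2 hs) z
  have hb' : b * ψ s ^ n ∈ ℬ ((m + n) • d) := by
    have := SetLike.mul_mem_graded hb (SetLike.pow_mem_graded n (ψ.2 hs))
    rwa [show m • d + n • d = (m + n) • d by rw [add_smul]] at this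
  have hle : n ≤ (m + n) • d := by
    rw [smul_eq_mul]
    nlinarith
  obtain ⟨a, ha, hab⟩ := hsurj _ hle _ hb'
  refine ⟨Away.mk 𝒜 hs (m + n) a ha, ?_⟩
  rw [Away.map_mk]
  apply HomogeneousLocalization.val_injective
  rw [Away.val_mk, Away.val_mk, Localization.mk_eq_mk_iff, Localization.r_iff_exists]
  refine ⟨1, ?_⟩
  simp only [OneMemClass.coe_one, one_mul]
  rw [hab, pow_add]
  change ψ s ^ m * (b * ψ s ^ n) = ψ s ^ m * ψ s ^ n * b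
  ring

theorem away_map_injective_of_tn (n : ℕ)
    (hinj : ∀ k, n ≤ k → ∀ x ∈ 𝒜 k, ψ x = 0 → x = 0) {d : ℕ} (hd : 0 < d)
    {s : A} (hs : s ∈ 𝒜 d) : Function.Injective (Away.map ψ s) := by
  rw [injective_iff_map_eq_zero]
  intro z hz
  obtain ⟨m, a, ha, rfl⟩ := Away.mk_surjective 𝒜 hs z
  rw [Away.map_mk] at hz
  have h1 := congrArg HomogeneousLocalization.val hz
  rw [Away.val_mk, val_zero, Localization.mk_eq_mk', IsLocalization.mk'_eq_zero_iff] at h1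
  obtain ⟨⟨_, N, rfl⟩, hN⟩ := h1
  have hN' : ψ s ^ N * ψ a = 0 := hN
  have hmem : s ^ (N + n) * a ∈ 𝒜 ((N + n) • d + m • d) :=
    SetLike.mul_mem_graded (SetLike.pow_mem_graded _ hs) ha
  have hle : n ≤ (N + n) • d + m • d := by
    rw [smul_eq_mul, smul_eq_mul]
    nlinarith
  have hzero : ψ (s ^ (N + n) * a) = 0 := by
    have e : ψ (s ^ (N + n) * a) = ψ s ^ n * (ψ s ^ N * ψ a) := by
      rw [map_mul, map_pow, pow_add]; ring
    rw [e, hN', mul_zero]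
  have := hinj _ hle _ hmem hzero
  apply HomogeneousLocalization.val_injective
  rw [Away.val_mk, val_zero, Localization.mk_eq_mk', IsLocalization.mk'_eq_zero_iff]
  exact ⟨⟨s ^ (N + n), N + n, rfl⟩, this⟩

theorem map_isLocalizationElem {e d : ℕ} {a f : A} (ha : a ∈ 𝒜 e) (hf : f ∈ 𝒜 d) :
    Away.map ψ a (Away.isLocalizationElem ha hf) =
      Away.isLocalizationElem (ψ.2 ha) (ψ.2 hf) := by
  unfold Away.isLocalizationElem
  rw [Away.map_mk]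
  apply HomogeneousLocalization.val_injective
  rw [Away.val_mk, Away.val_mk, map_pow]
  rfl

theorem preimage_eq {e d : ℕ} (he : 0 < e) (hd : 0 < d) {a f : A} (ha : a ∈ 𝒜 e)
    (hf : f ∈ 𝒜 d) :
    (Spec.map (CommRingCat.ofHom (Away.map ψ a)) ≫ Proj.awayι 𝒜 a ha he) ⁻¹ᵁ Proj.basicOpen 𝒜 f =
      (Proj.awayι ℬ (ψ a) (ψ.2 ha) he) ⁻¹ᵁ Proj.basicOpen ℬ (ψ f) := by
  have h1 : Proj.awayι 𝒜 a ha he ⁻¹ᵁ Proj.basicOpen 𝒜 f =
      PrimeSpectrum.basicOpen (Away.isLocalizationElem ha hf) :=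
    Proj.awayι_preimage_basicOpen 𝒜 ha he hf hd
  have h2 : Proj.awayι ℬ (ψ a) (ψ.2 ha) he ⁻¹ᵁ Proj.basicOpen ℬ (ψ f) =
      PrimeSpectrum.basicOpen (Away.isLocalizationElem (ψ.2 ha) (ψ.2 hf)) :=
    Proj.awayι_preimage_basicOpen ℬ (ψ.2 ha) he (ψ.2 hf) hd
  have h3 : Spec.map (CommRingCat.ofHom (Away.map ψ a)) ⁻¹ᵁ
      (Proj.awayι 𝒜 a ha he ⁻¹ᵁ Proj.basicOpen 𝒜 f) =
      Proj.awayι ℬ (ψ a) (ψ.2 ha) he ⁻¹ᵁ Proj.basicOpen ℬ (ψ f) := by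
    rw [h1, h2, ← map_isLocalizationElem]
    ext z
    rfl
  exact h3

end algebra

section scheme

variable {Y PA PB : Scheme.{u}} {𝒜 ℬ : RelProj.QCGrAlg Y} (φ : 𝒜.toQCAlg ⟶ ℬ.toQCAlg)
  (hφ : RelProj.IsGradedHom φ)
  {pA : PA ⟶ Y} {pB : PB ⟶ Y}
  {chartA : ∀ (U : Y.Opens) (hU : IsAffineOpen U),
    ((pA ⁻¹ᵁ U : PA.Opens) : Scheme.{u}) ≅ Proj (𝒜.deg U hU)}
  {chartB : ∀ (U : Y.Opens) (hU : IsAffineOpen U),
    ((pB ⁻¹ᵁ U : PB.Opens) : Scheme.{u}) ≅ Proj (ℬ.deg U hU)}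

/-- the graded homomorphism over an affine open -/
noncomputable abbrev ψU (U : Y.Opens) (hU : IsAffineOpen U) : 𝒜.deg U hU →+*ᵍ ℬ.deg U hU :=
  (RelProj.QGrHom.ofHom φ hφ).gradedAt U hU U hU le_rfl

theorem ψU_apply (U : Y.Opens) (hU : IsAffineOpen U) (x : 𝒜.presheaf.obj (op U)) :
    ψU φ hφ U hU x = (φ.hom.app (op U)).hom x := by
  change (ℬ.presheaf.map (homOfLE (le_refl U)).op).hom ((φ.hom.app (op U)).hom x) = _
  have : (homOfLE (le_refl U)).op = 𝟙 (op U) := rfl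
  rw [this, ℬ.presheaf.map_id]
  rfl

theorem opensRange_emb {𝒮 : RelProj.QCGrAlg Y} {P : Scheme.{u}} (p : P ⟶ Y)
    (chart : ∀ (U : Y.Opens) (hU : IsAffineOpen U),
      ((p ⁻¹ᵁ U : P.Opens) : Scheme.{u}) ≅ Proj (𝒮.deg U hU))
    (U : Y.Opens) (hU : IsAffineOpen U) : (RelProj.emb p chart U hU).opensRange = p ⁻¹ᵁ U := by
  unfold RelProj.emb
  rw [Scheme.Hom.opensRange_comp_of_isIso, Scheme.Opens.opensRange_ι]

theorem emb_comp {𝒮 : RelProj.QCGrAlg Y} {P : Scheme.{u}} {p : P ⟶ Y}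
    {chart : ∀ (U : Y.Opens) (hU : IsAffineOpen U),
      ((p ⁻¹ᵁ U : P.Opens) : Scheme.{u}) ≅ Proj (𝒮.deg U hU)}
    (hp : RelProj.IsRelProj 𝒮 p chart) (U : Y.Opens) (hU : IsAffineOpen U) :
    RelProj.emb p chart U hU ≫ p =
      Proj.toSpecZero (𝒮.deg U hU) ≫ Spec.map (𝒮.strZero U hU) ≫ hU.fromSpec := by
  unfold RelProj.emb
  rw [Category.assoc, ← hp.chart_over U hU, Iso.inv_hom_id_assoc]

/-- the chart equations of `IsProjQMap` over the pairs `(U, U)` -/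
def Eqs (pA : PA ⟶ Y) (pB : PB ⟶ Y)
    (chartA : ∀ (U : Y.Opens) (hU : IsAffineOpen U),
      ((pA ⁻¹ᵁ U : PA.Opens) : Scheme.{u}) ≅ Proj (𝒜.deg U hU))
    (chartB : ∀ (U : Y.Opens) (hU : IsAffineOpen U),
      ((pB ⁻¹ᵁ U : PB.Opens) : Scheme.{u}) ≅ Proj (ℬ.deg U hU)) (h : PB ⟶ PA) : Prop :=
  ∀ (U : Y.Opens) (hU : IsAffineOpen U) (d : ℕ) (hd : 0 < d) (f : 𝒜.presheaf.obj (op U))
    (hf : f ∈ 𝒜.deg U hU d),
    (Proj.awayι (ℬ.deg U hU) (ψU φ hφ U hU f) ((ψU φ hφ U hU).2 hf) hd ≫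
      RelProj.emb pB chartB U hU) ≫ h =
    Spec.map (CommRingCat.ofHom (Away.map (ψU φ hφ U hU) f)) ≫
      Proj.awayι (𝒜.deg U hU) f hf hd ≫ RelProj.emb pA chartA U hU

theorem eqs_of_isProjQMap (h : PB ⟶ PA)
    (hh : RelProj.IsProjQMap (RelProj.QGrHom.ofHom φ hφ) pA chartA pB chartB h) :
    Eqs φ hφ pA pB chartA chartB h :=
  fun U hU d hd f hf => hh.2 U hU U hU le_rfl d hd f hf

/-- every point of `Proj ℬ(U)` lies in some `D₊(ψ f)` -/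
def Cov : Prop :=
  ∀ (U : Y.Opens) (hU : IsAffineOpen U) (y : Proj (ℬ.deg U hU)),
    ∃ d, 0 < d ∧ ∃ f ∈ 𝒜.deg U hU d, ψU φ hφ U hU f ∉ y.asHomogeneousIdeal

theorem cov_of_tn (n : ℕ) (hTN : ∀ k, n ≤ k → ∀ (U : Y.Opens) (hU : IsAffineOpen U),
    ∀ y ∈ ℬ.deg U hU k, ∃ x ∈ 𝒜.deg U hU k, (φ.hom.app (op U)).hom x = y) : Cov φ hφ := by
  intro U hU y
  exact exists_map_notMem (ψU φ hφ U hU) n
    (fun k hk b hb => by
      obtain ⟨x, hx, hxb⟩ := hTN k hk U hU b hb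
      exact ⟨x, hx, (ψU_apply φ hφ U hU x).trans hxb⟩) y

theorem exists_affine_mem (y : Y) : ∃ U : Y.Opens, IsAffineOpen U ∧ y ∈ U := by
  obtain ⟨_, ⟨U, hU, rfl⟩, hyU, -⟩ :=
    Y.isBasis_affineOpens.exists_subset_of_mem_open (Set.mem_univ y) isOpen_univ
  exact ⟨U, hU, hyU⟩

theorem exists_emb_eq {𝒮 : RelProj.QCGrAlg Y} {P : Scheme.{u}} (p : P ⟶ Y)
    (chart : ∀ (U : Y.Opens) (hU : IsAffineOpen U),
      ((p ⁻¹ᵁ U : P.Opens) : Scheme.{u}) ≅ Proj (𝒮.deg U hU))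
    (U : Y.Opens) (hU : IsAffineOpen U) (x : P) (hx : p x ∈ U) :
    ∃ y : Proj (𝒮.deg U hU), RelProj.emb p chart U hU y = x := by
  have : x ∈ (RelProj.emb p chart U hU).opensRange := by
    rw [opensRange_emb]
    exact hx
  exact this

theorem exists_awayι_eq {A : Type u} [CommRing A] {𝒜 : ℕ → AddSubgroup A} [GradedRing 𝒜]
    {d : ℕ} (hd : 0 < d) {f : A} (hf : f ∈ 𝒜 d) (y : Proj 𝒜)
    (hy : f ∉ y.asHomogeneousIdeal) :
    ∃ z, Proj.awayι 𝒜 f hf hd z = y := by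
  have : y ∈ (Proj.awayι 𝒜 f hf hd).opensRange := by
    rw [Proj.opensRange_awayι]
    exact hy
  exact this

theorem domQ_eq_top (hcov : Cov φ hφ) :
    RelProj.domQ (RelProj.QGrHom.ofHom φ hφ) pB chartB = ⊤ := by
  refine top_le_iff.mp (fun x _ => ?_)
  obtain ⟨U, hU, hxU⟩ := exists_affine_mem (pB x)
  obtain ⟨y, rfl⟩ := exists_emb_eq pB chartB U hU x hxU
  obtain ⟨d, hd, f, hf, hfy⟩ := hcov U hU y
  have hy : y ∈ RelCone.domOpen (ψU φ hφ U hU) :=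
    (RelCone.mem_domOpen _ _).mpr ⟨f, HomogeneousIdeal.mem_irrelevant_of_mem _ hd hf, hfy⟩
  unfold RelProj.domQ
  refine Opens.mem_iSup.mpr ⟨⟨(⟨U, hU⟩, ⟨U, hU⟩), le_rfl⟩, ?_⟩
  exact ⟨y, hy, rfl⟩

theorem away_map_fromZero {A B : Type u} [CommRing A] [CommRing B] {𝒜 : ℕ → AddSubgroup A}
    {ℬ : ℕ → AddSubgroup B} [GradedRing 𝒜] [GradedRing ℬ] (ψ : 𝒜 →+*ᵍ ℬ) (f : A) (c : 𝒜 0) :
    Away.map ψ f (fromZeroRingHom 𝒜 (Submonoid.powers f) c) =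
      fromZeroRingHom ℬ (Submonoid.powers (ψ f)) (RelProjMap.zeroHom ψ c) := by
  simp [RelProjMap.zeroHom, fromZeroRingHom, Away.map, HomogeneousLocalization.map_mk]
  rfl

theorem strZero_comp (U : Y.Opens) (hU : IsAffineOpen U) :
    𝒜.strZero U hU ≫ CommRingCat.ofHom (RelProjMap.zeroHom (ψU φ hφ U hU)) =
      ℬ.strZero U hU := by
  ext r
  change (ψU φ hφ U hU) ((𝒜.str.app (op U)).hom r) = (ℬ.str.app (op U)).hom r
  rw [ψU_apply]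
  exact congrArg (fun θ : Y.presheaf ⟶ ℬ.presheaf => (θ.app (op U)).hom r) φ.comm

theorem comp_eq_aux (hA : RelProj.IsRelProj 𝒜 pA chartA) (hB : RelProj.IsRelProj ℬ pB chartB)
    (h : PB ⟶ PA) (heq : Eqs φ hφ pA pB chartA chartB h)
    (U : Y.Opens) (hU : IsAffineOpen U) (d : ℕ) (hd : 0 < d) (f : 𝒜.presheaf.obj (op U))
    (hf : f ∈ 𝒜.deg U hU d) :
    (Proj.awayι (ℬ.deg U hU) (ψU φ hφ U hU f) ((ψU φ hφ U hU).2 hf) hd ≫
      RelProj.emb pB chartB U hU) ≫ h ≫ pA =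
    (Proj.awayι (ℬ.deg U hU) (ψU φ hφ U hU f) ((ψU φ hφ U hU).2 hf) hd ≫
      RelProj.emb pB chartB U hU) ≫ pB := by
  rw [← Category.assoc, heq U hU d hd f hf]
  simp only [Category.assoc]
  rw [emb_comp hA, emb_comp hB, Proj.awayι_toSpecZero_assoc, Proj.awayι_toSpecZero_assoc,
    ← Spec.map_comp_assoc, ← Spec.map_comp_assoc, ← Spec.map_comp_assoc]
  congr 2
  rw [← strZero_comp φ hφ U hU]
  ext r
  exact congrArg HomogeneousLocalization.val (away_map_fromZero (ψU φ hφ U hU) f _)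

/-- the standard cover of `PB` by the charts `D₊(ψ f)` -/
noncomputable def coverB (hcov : Cov φ hφ) : PB.OpenCover :=
  Scheme.Cover.mkOfCovers
    (Σ (U : Y.affineOpens) (d : ℕ+), 𝒜.deg U.1 U.2 d)
    (fun i => Spec (.of (Away (ℬ.deg i.1.1 i.1.2) (ψU φ hφ i.1.1 i.1.2 (i.2.2 : _)))))
    (fun i => Proj.awayι (ℬ.deg i.1.1 i.1.2) (ψU φ hφ i.1.1 i.1.2 (i.2.2 : _))
      ((ψU φ hφ i.1.1 i.1.2).2 i.2.2.2) i.2.1.2 ≫ RelProj.emb pB chartB i.1.1 i.1.2)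
    (fun x => by
      obtain ⟨U, hU, hxU⟩ := exists_affine_mem (pB x)
      obtain ⟨y, rfl⟩ := exists_emb_eq pB chartB U hU x hxU
      obtain ⟨d, hd, f, hf, hfy⟩ := hcov U hU y
      obtain ⟨z, rfl⟩ := exists_awayι_eq hd ((ψU φ hφ U hU).2 hf) y hfy
      exact ⟨⟨⟨U, hU⟩, ⟨d, hd⟩, ⟨f, hf⟩⟩, z, Scheme.Hom.comp_apply _ _ _⟩)
    (fun i => inferInstance)

/-- a morphism satisfying the chart equations lies over the base -/
theorem comp_eq (hA : RelProj.IsRelProj 𝒜 pA chartA) (hB : RelProj.IsRelProj ℬ pB chartB)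
    (h : PB ⟶ PA) (heq : Eqs φ hφ pA pB chartA chartB h) (hcov : Cov φ hφ) :
    h ≫ pA = pB := by
  refine (coverB (pB := pB) (chartB := chartB) φ hφ hcov).hom_ext _ _ (fun i => ?_)
  exact comp_eq_aux φ hφ hA hB h heq i.1.1 i.1.2 i.2.1.1 i.2.1.2 i.2.2.1 i.2.2.2

theorem preimage_range (hA : RelProj.IsRelProj 𝒜 pA chartA) (hB : RelProj.IsRelProj ℬ pB chartB)
    (h : PB ⟶ PA) (heq : Eqs φ hφ pA pB chartA chartB h) (hcov : Cov φ hφ)
    (U : Y.Opens) (hU : IsAffineOpen U) (d : ℕ) (hd : 0 < d) (f : 𝒜.presheaf.obj (op U))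
    (hf : f ∈ 𝒜.deg U hU d) :
    h ⁻¹ᵁ (Proj.awayι (𝒜.deg U hU) f hf hd ≫ RelProj.emb pA chartA U hU).opensRange =
      (Proj.awayι (ℬ.deg U hU) (ψU φ hφ U hU f) ((ψU φ hφ U hU).2 hf) hd ≫
        RelProj.emb pB chartB U hU).opensRange := by
  have hcomp := comp_eq φ hφ hA hB h heq hcov
  apply le_antisymm
  · intro x hx
    obtain ⟨w, hw⟩ := hx
    have hw' : RelProj.emb pA chartA U hU (Proj.awayι (𝒜.deg U hU) f hf hd w) = h x := by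
      rw [← hw]; exact (Scheme.Hom.comp_apply _ _ _).symm
    have hxU : pB x ∈ U := by
      rw [← hcomp, Scheme.Hom.comp_apply, ← hw']
      have : RelProj.emb pA chartA U hU (Proj.awayι (𝒜.deg U hU) f hf hd w) ∈
          (RelProj.emb pA chartA U hU).opensRange := ⟨_, rfl⟩
      rw [opensRange_emb] at this
      exact this
    obtain ⟨y, rfl⟩ := exists_emb_eq pB chartB U hU x hxU
    obtain ⟨e, he, a, ha, hay⟩ := hcov U hU y
    obtain ⟨z, rfl⟩ := exists_awayι_eq he ((ψU φ hφ U hU).2 ha) y hay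
    have h1 := congrArg (fun g : _ ⟶ PA => g z) (heq U hU e he a ha)
    simp only [Scheme.Hom.comp_apply] at h1
    have hw'' := hw'.trans h1
    have h2 := (RelProj.emb pA chartA U hU).isOpenEmbedding.injective hw''
    have h3 : Proj.awayι (𝒜.deg U hU) a ha he
        (Spec.map (CommRingCat.ofHom (Away.map (ψU φ hφ U hU) a)) z) ∈
        Proj.basicOpen (𝒜.deg U hU) f := by
      rw [← h2, ← Proj.opensRange_awayι (𝒜.deg U hU) f hf hd]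
      exact ⟨_, rfl⟩
    have h4 : z ∈ (Spec.map (CommRingCat.ofHom (Away.map (ψU φ hφ U hU) a)) ≫
        Proj.awayι (𝒜.deg U hU) a ha he) ⁻¹ᵁ Proj.basicOpen (𝒜.deg U hU) f := by
      change (Spec.map (CommRingCat.ofHom (Away.map (ψU φ hφ U hU) a)) ≫
        Proj.awayι (𝒜.deg U hU) a ha he) z ∈ Proj.basicOpen (𝒜.deg U hU) f
      rw [Scheme.Hom.comp_apply]
      exact h3
    rw [preimage_eq (ψU φ hφ U hU) he hd ha hf] at h4
    have h5 : Proj.awayι (ℬ.deg U hU) (ψU φ hφ U hU a) ((ψU φ hφ U hU).2 ha) he z ∈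
        Proj.basicOpen (ℬ.deg U hU) (ψU φ hφ U hU f) := h4
    have h6 : Proj.awayι (ℬ.deg U hU) (ψU φ hφ U hU a) ((ψU φ hφ U hU).2 ha) he z ∈
        (Proj.awayι (ℬ.deg U hU) (ψU φ hφ U hU f) ((ψU φ hφ U hU).2 hf) hd).opensRange :=
      (Proj.opensRange_awayι (ℬ.deg U hU) _ ((ψU φ hφ U hU).2 hf) hd).ge h5
    obtain ⟨z', hz'⟩ := h6
    refine ⟨z', ?_⟩
    rw [Scheme.Hom.comp_apply]
    exact congrArg _ hz'
  · rintro _ ⟨z, rfl⟩
    have h1 := congrArg (fun g : _ ⟶ PA => g z) (heq U hU d hd f hf)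
    simp only [Scheme.Hom.comp_apply] at h1
    rw [Scheme.Hom.mem_preimage, Scheme.Hom.comp_apply]
    refine ⟨Spec.map (CommRingCat.ofHom (Away.map (ψU φ hφ U hU) f)) z, ?_⟩
    rw [Scheme.Hom.comp_apply]
    exact h1.symm

/-- the standard cover of `PA` by the charts `D₊(f)` -/
noncomputable def coverA : PA.OpenCover :=
  Scheme.Cover.mkOfCovers
    (Σ (U : Y.affineOpens) (d : ℕ+), 𝒜.deg U.1 U.2 d)
    (fun i => Spec (.of (Away (𝒜.deg i.1.1 i.1.2) i.2.2.1)))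
    (fun i => Proj.awayι (𝒜.deg i.1.1 i.1.2) i.2.2.1 i.2.2.2 i.2.1.2 ≫
      RelProj.emb pA chartA i.1.1 i.1.2)
    (fun x => by
      obtain ⟨U, hU, hxU⟩ := exists_affine_mem (pA x)
      obtain ⟨y, rfl⟩ := exists_emb_eq pA chartA U hU x hxU
      obtain ⟨d, hd, f, hf, hfy⟩ := exists_pos_notMem y
      obtain ⟨z, rfl⟩ := exists_awayι_eq hd hf y hfy
      exact ⟨⟨⟨U, hU⟩, ⟨d, hd⟩, ⟨f, hf⟩⟩, z, Scheme.Hom.comp_apply _ _ _⟩)
    (fun i => inferInstance)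

theorem of_eqs {P : MorphismProperty Scheme.{u}} [IsZariskiLocalAtTarget P]
    (hA : RelProj.IsRelProj 𝒜 pA chartA) (hB : RelProj.IsRelProj ℬ pB chartB)
    (h : PB ⟶ PA) (heq : Eqs φ hφ pA pB chartA chartB h) (hcov : Cov φ hφ)
    (H : ∀ (U : Y.Opens) (hU : IsAffineOpen U) (d : ℕ) (_ : 0 < d) (f : 𝒜.presheaf.obj (op U))
      (_ : f ∈ 𝒜.deg U hU d),
      P (Spec.map (CommRingCat.ofHom (Away.map (ψU φ hφ U hU) f)))) : P h := by
  refine RelProjMap.of_cover_isPullback (coverA (pA := pA) (chartA := chartA))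
    (fun i => Spec (.of (Away (ℬ.deg i.1.1 i.1.2) (ψU φ hφ i.1.1 i.1.2 (i.2.2 : _)))))
    (fun i => Proj.awayι (ℬ.deg i.1.1 i.1.2) (ψU φ hφ i.1.1 i.1.2 (i.2.2 : _))
      ((ψU φ hφ i.1.1 i.1.2).2 i.2.2.2) i.2.1.2 ≫ RelProj.emb pB chartB i.1.1 i.1.2)
    (fun i => Spec.map (CommRingCat.ofHom (Away.map (ψU φ hφ i.1.1 i.1.2) (i.2.2 : _))))
    (fun i => ?_) (fun i => ?_)
  · refine (IsOpenImmersion.isPullback _ _ _ _ ?_ ?_).flip
    · exact heq i.1.1 i.1.2 i.2.1.1 i.2.1.2 i.2.2.1 i.2.2.2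
    · exact preimage_range φ hφ hA hB h heq hcov i.1.1 i.1.2 i.2.1.1 i.2.1.2 i.2.2.1 i.2.2.2
  · exact H i.1.1 i.1.2 i.2.1.1 i.2.1.2 i.2.2.1 i.2.2.2

theorem isClosedImmersion_of_tn (hA : RelProj.IsRelProj 𝒜 pA chartA)
    (hB : RelProj.IsRelProj ℬ pB chartB) (n : ℕ)
    (hTN : ∀ k, n ≤ k → ∀ (U : Y.Opens) (hU : IsAffineOpen U),
      ∀ y ∈ ℬ.deg U hU k, ∃ x ∈ 𝒜.deg U hU k, (φ.hom.app (op U)).hom x = y)
    (h : PB ⟶ PA)
    (hh : RelProj.IsProjQMap (RelProj.QGrHom.ofHom φ hφ) pA chartA pB chartB h) :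
    IsClosedImmersion h := by
  refine of_eqs (P := @IsClosedImmersion) φ hφ hA hB h (eqs_of_isProjQMap φ hφ h hh)
    (cov_of_tn φ hφ n hTN) (fun U hU d hd f hf => ?_)
  refine IsClosedImmersion.spec_of_surjective _
    (away_map_surjective_of_tn (ψU φ hφ U hU) n (fun k hk b hb => ?_) hd hf)
  obtain ⟨x, hx, hxb⟩ := hTN k hk U hU b hb
  exact ⟨x, hx, (ψU_apply φ hφ U hU x).trans hxb⟩

theorem isIso_of_tn (hA : RelProj.IsRelProj 𝒜 pA chartA)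
    (hB : RelProj.IsRelProj ℬ pB chartB) (n : ℕ)
    (hTN : ∀ k, n ≤ k → ∀ (U : Y.Opens) (hU : IsAffineOpen U),
      (∀ x ∈ 𝒜.deg U hU k, (φ.hom.app (op U)).hom x = 0 → x = 0) ∧
        ∀ y ∈ ℬ.deg U hU k, ∃ x ∈ 𝒜.deg U hU k, (φ.hom.app (op U)).hom x = y)
    (h : PB ⟶ PA)
    (hh : RelProj.IsProjQMap (RelProj.QGrHom.ofHom φ hφ) pA chartA pB chartB h) :
    IsIso h := by
  rw [← MorphismProperty.isomorphisms.iff]
  refine of_eqs (P := MorphismProperty.isomorphisms Scheme.{u}) φ hφ hA hB h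
    (eqs_of_isProjQMap φ hφ h hh)
    (cov_of_tn φ hφ n (fun k hk U hU => (hTN k hk U hU).2)) (fun U hU d hd f hf => ?_)
  rw [MorphismProperty.isomorphisms.iff]
  have hbij : Function.Bijective (Away.map (ψU φ hφ U hU) f) := by
    refine ⟨away_map_injective_of_tn (ψU φ hφ U hU) n (fun k hk x hx hx0 => ?_) hd hf,
      away_map_surjective_of_tn (ψU φ hφ U hU) n (fun k hk b hb => ?_) hd hf⟩
    · exact (hTN k hk U hU).1 x hx ((ψU_apply φ hφ U hU x).symm.trans hx0)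
    · obtain ⟨x, hx, hxb⟩ := (hTN k hk U hU).2 b hb
      exact ⟨x, hx, (ψU_apply φ hφ U hU x).trans hxb⟩
  haveI : IsIso (CommRingCat.ofHom (Away.map (ψU φ hφ U hU) f)) :=
    (ConcreteCategory.isIso_iff_bijective _).mpr hbij
  change IsIso (Spec.map (CommRingCat.ofHom (Away.map (ψU φ hφ U hU) f)))
  infer_instance

end scheme

end Groth.Agent.Lib.Helper3.ProjQMap
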