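import Groth.Agent.Lib.Helper3.RelTwistAlpha
import Groth.Agent.Lib.Helper3.TwistAmple

/-!
# The section of `O_P(d)` over `p⁻¹V` defined by `f ∈ 𝒮(V)_d`, and its non-vanishing locus
-/

set_option autoImplicit false
set_option linter.unusedSectionVars false
universe u
open CategoryTheory CategoryTheory.Limits AlgebraicGeometry TopologicalSpace Opposite
open Scheme.Modules
open scoped HomogeneousIdeal

namespace Groth.Agent.Lib.Helper3.RelTwistLocGen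

open QCSec InvGen GrModQC RelProjBasic

variable {Y P : Scheme.{u}} {𝒮 : RelProj.QCGrAlg Y} {p : P ⟶ Y}
  {chart : ∀ (U : Y.Opens) (hU : IsAffineOpen U),
    ((p ⁻¹ᵁ U : P.Opens) : Scheme.{u}) ≅ Proj (𝒮.deg U hU)}
  {d : ℕ} {L : P.Modules}
  {lam : ∀ (U : Y.Opens) (hU : IsAffineOpen U),
    L ⟶ (Scheme.Modules.pushforward (RelProj.emb p chart U hU)).obj
      (GrTwist.twist (𝒮.deg U hU) (d : ℤ))}
  (hL : RelProj.IsRelTwist 𝒮 p chart (d : ℤ) L lam)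
  (V : Y.Opens) (hV : IsAffineOpen V) (f : 𝒮.presheaf.obj (op V)) (hf : f ∈ 𝒮.deg V hV d)

theorem one_notMem {A σ : Type u} [CommRing A] [SetLike σ A] [AddSubgroupClass σ A]
    {𝒜 : ℕ → σ} [GradedRing 𝒜] (x : ProjectiveSpectrum 𝒜) : (1 : A) ∉ x.asHomogeneousIdeal :=
  fun h => x.isPrime.ne_top ((Ideal.eq_top_iff_one _).mpr h)

/-- the fraction `f / 1` over an open of the chart -/
noncomputable def fr (W : P.Opens) :
    Γ(GrTwist.twist (𝒮.deg V hV) (d : ℤ), RelProj.emb p chart V hV ⁻¹ᵁ W) :=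
  frac (RelProj.emb p chart V hV ⁻¹ᵁ W) ⟨f, hf⟩ ⟨1, SetLike.GradedOne.one_mem⟩
    (fun x => one_notMem x.1) (d : ℤ) (by simp)

include hL in
/-- the section of `O_P(d)` over `p⁻¹V` defined by `f` -/
theorem exists_sec : ∃ a : Γ(L, p ⁻¹ᵁ V), (lam V hV).app (p ⁻¹ᵁ V) a = fr V hV f hf (p ⁻¹ᵁ V) :=
  (hL.bijective V hV (p ⁻¹ᵁ V) le_rfl).2 _

variable (a : Γ(L, p ⁻¹ᵁ V)) (ha : (lam V hV).app (p ⁻¹ᵁ V) a = fr V hV f hf (p ⁻¹ᵁ V))

include ha in
theorem app_res (W : P.Opens) (hW : W ≤ p ⁻¹ᵁ V) :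
    (lam V hV).app W (res L hW a) = fr V hV f hf W := by
  rw [QCExact.app_res', ha]
  exact res_frac ((RelProj.emb p chart V hV).preimage_mono hW) _ _ _ _ _

include hL ha in
/-- `f` generates `O_P(d)` over (the image of) `D₊(f)` -/
theorem isGen_res (W : P.Opens)
    (hW : W ≤ RelProj.emb p chart V hV ''ᵁ Proj.basicOpen (𝒮.deg V hV) f) :
    IsGen L W (res L (hW.trans (by
      rw [← ProjQMap.opensRange_emb p chart V hV]
      exact (RelProj.emb p chart V hV).image_le_opensRange _)) a) := by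
  have hle : W ≤ (RelProj.emb p chart V hV).opensRange :=
    hW.trans ((RelProj.emb p chart V hV).image_le_opensRange _)
  have hle' : W ≤ p ⁻¹ᵁ V := by rwa [ProjQMap.opensRange_emb] at hle
  apply GrTwistGen.isGen_of_pushforward (RelProj.emb p chart V hV) _ (lam V hV) W hle
    (fun W' hW' => hL.bijective V hV W' (hW'.trans hle'))
  rw [app_res V hV f hf a ha W hle']
  refine GrTwistGen.isGen_frac _ _ _ (fun x => ?_) (fun x => one_notMem x.1) _ _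
  obtain ⟨z, hz, hzx⟩ := hW x.2
  have : z = x.1 := (RelProj.emb p chart V hV).isOpenEmbedding.injective hzx
  rw [← this]
  exact hz

include hL ha in
/-- conversely, `f` generates `O_P(d)` only over `D₊(f)` -/
theorem le_of_isGen (hgen : 𝒮.IsGenDegOne) (W : P.Opens) (hW : W ≤ p ⁻¹ᵁ V)
    (hg : IsGen L W (res L hW a)) :
    W ≤ RelProj.emb p chart V hV ''ᵁ Proj.basicOpen (𝒮.deg V hV) f := by
  intro x hx
  obtain ⟨y, rfl⟩ := ProjQMap.exists_emb_eq p chart V hV x (hW hx)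
  refine ⟨y, ?_, rfl⟩
  obtain ⟨g, hg1, hgy⟩ := GrTwistGen.exists_deg_one_notMem (hgen V hV) y
  let V' : (Proj (𝒮.deg V hV)).Opens :=
    RelProj.emb p chart V hV ⁻¹ᵁ W ⊓ Proj.basicOpen (𝒮.deg V hV) g
  have hyV' : y ∈ V' := ⟨hx, hgy⟩
  let V₁ : P.Opens := RelProj.emb p chart V hV ''ᵁ V'
  have hpre : RelProj.emb p chart V hV ⁻¹ᵁ V₁ = V' :=
    (RelProj.emb p chart V hV).preimage_image_eq V'
  have hV₁W : V₁ ≤ W := by
    rintro _ ⟨z, hz, rfl⟩
    exact hz.1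
  have hgenV : IsGenAt L V₁ (res L (hV₁W.trans hW) a) := by
    have := hg V₁ hV₁W
    rwa [res_res] at this
  have hgd : g ^ d ∈ 𝒮.deg V hV d := by
    have := SetLike.pow_mem_graded d hg1
    rwa [smul_eq_mul, mul_one] at this
  obtain ⟨c, hc⟩ := RelTwistAlpha.exists_coord_pushforward (RelProj.emb p chart V hV) _ (lam V hV) V₁
    (hL.bijective V hV V₁ (hV₁W.trans hW)).2 _ hgenV
    (frac (RelProj.emb p chart V hV ⁻¹ᵁ V₁) ⟨g ^ d, hgd⟩
      ⟨1, SetLike.GradedOne.one_mem⟩ (fun x => one_notMem x.1) (d : ℤ) (by simp))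
  have hyV : y ∈ RelProj.emb p chart V hV ⁻¹ᵁ V₁ := by rw [hpre]; exact hyV'
  have h1 := congrArg (fun t => GrModQC.val t ⟨y, hyV⟩) hc
  simp only at h1
  rw [GrModQC.val_smul, app_res V hV f hf a ha V₁ (hV₁W.trans hW)] at h1
  exact RelTwistAlpha.notMem_of_coord hg1 y hgy _ h1

include hL ha in
/-- the non-vanishing locus, on the open subscheme `p⁻¹V`, of the section defined by `f` -/
theorem genLocus_homOfSec (hgen : 𝒮.IsGenDegOne) :
    CohB1.genLocus (L.restrict (p ⁻¹ᵁ V).ι) (homOfSec L (p ⁻¹ᵁ V) a) =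
      (p ⁻¹ᵁ V).ι ⁻¹ᵁ (RelProj.emb p chart V hV ''ᵁ Proj.basicOpen (𝒮.deg V hV) f) := by
  have key : ∀ W' : ((p ⁻¹ᵁ V : P.Opens) : Scheme.{u}).Opens,
      W' ≤ CohB1.genLocus (L.restrict (p ⁻¹ᵁ V).ι) (homOfSec L (p ⁻¹ᵁ V) a) ↔
        IsGen L ((p ⁻¹ᵁ V).ι ''ᵁ W') (res L ((p ⁻¹ᵁ V).ι_image_le W') a) := by
    intro W'
    rw [le_genLocus_iff, InvRestrict.isGen_restrict_iff, sec_homOfSec]
  apply le_antisymm
  · intro x hx
    have h1 := le_of_isGen hL V hV f hf a ha hgen _ _ ((key _).mp le_rfl)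
    exact h1 ⟨x, hx, rfl⟩
  · rw [key]
    have hle : (p ⁻¹ᵁ V).ι ''ᵁ ((p ⁻¹ᵁ V).ι ⁻¹ᵁ
        (RelProj.emb p chart V hV ''ᵁ Proj.basicOpen (𝒮.deg V hV) f)) ≤
        RelProj.emb p chart V hV ''ᵁ Proj.basicOpen (𝒮.deg V hV) f :=
      (p ⁻¹ᵁ V).ι.image_preimage_le _
    exact isGen_res hL V hV f hf a ha _ hle

end Groth.Agent.Lib.Helper3.RelTwistLocGen
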