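import Groth.Agent.Lib.Helper3.SymGen
import Groth.Agent.Lib.Helper3.RelTwistLocGen
import Groth.Agent.Lib.Helper3.CounitGG

/-!
# Projective bundles: the graded symmetric algebra is generated in degree one, and the
sections of `O(1)` coming from `E` generate it
-/

set_option autoImplicit false
set_option linter.unusedSectionVars false
universe u
open CategoryTheory CategoryTheory.Limits AlgebraicGeometry TopologicalSpace Opposite
open Scheme.Modules
open scoped HomogeneousIdeal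

namespace Groth.Agent.Lib.Helper3.SymGenProj

open QCSec InvGen GrModQC RelProjBasic SymGen CounitGG RelTwistLocGen

variable {Y : Scheme.{u}} {E : Y.Modules} [E.IsQuasicoherent] {𝒮 : RelProj.QCGrAlg Y}
  {j : E ⟶ 𝒮.toModule} (hj : RelProj.IsGrSymAlg E 𝒮 j)

include hj in
theorem isGenDegOne : 𝒮.IsGenDegOne := by
  intro U hU
  rw [eq_top_iff, ← G_eq_top 𝒮.toQCAlg j hj.1 hU]
  apply Subring.closure_mono
  rintro x (⟨r, rfl⟩ | ⟨e, rfl⟩)
  · exact Or.inl (𝒮.str_mem U hU r)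
  · exact Or.inr (hj.2 U hU e)

include hj in
/-- the `D₊(j e)` cover `Proj 𝒮(U)` -/
theorem exists_jj_notMem {U : Y.Opens} (hU : IsAffineOpen U)
    (y : ProjectiveSpectrum (𝒮.deg U hU)) :
    ∃ e : Γ(E, U), jj 𝒮.toQCAlg j U e ∉ y.asHomogeneousIdeal := by
  by_contra hcon
  simp only [not_exists, not_not] at hcon
  have key : ∀ x : 𝒮.presheaf.obj (op U), x ∈ G 𝒮.toQCAlg j U →
      ∃ a : Γ(Y, U), x - st 𝒮.toQCAlg U a ∈ y.asHomogeneousIdeal.toIdeal := by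
    intro x hx
    induction hx using Subring.closure_induction with
    | mem x hx =>
      rcases hx with ⟨r, rfl⟩ | ⟨e, rfl⟩
      · exact ⟨r, by rw [sub_self]; exact zero_mem _⟩
      · exact ⟨0, by rw [map_zero, sub_zero]; exact hcon e⟩
    | zero => exact ⟨0, by rw [map_zero, sub_zero]; exact zero_mem _⟩
    | one => exact ⟨1, by rw [map_one, sub_self]; exact zero_mem _⟩
    | add x1 x2 _ _ h1 h2 =>
      obtain ⟨a1, h1⟩ := h1
      obtain ⟨a2, h2⟩ := h2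
      refine ⟨a1 + a2, ?_⟩
      have : x1 + x2 - st 𝒮.toQCAlg U (a1 + a2) =
          (x1 - st 𝒮.toQCAlg U a1) + (x2 - st 𝒮.toQCAlg U a2) := by
        rw [map_add]; ring
      rw [this]
      exact add_mem h1 h2
    | neg x1 _ h1 =>
      obtain ⟨a1, h1⟩ := h1
      refine ⟨-a1, ?_⟩
      have : -x1 - st 𝒮.toQCAlg U (-a1) = -(x1 - st 𝒮.toQCAlg U a1) := by
        rw [map_neg]; ring
      rw [this]
      exact neg_mem h1
    | mul x1 x2 _ _ h1 h2 =>
      obtain ⟨a1, h1⟩ := h1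
      obtain ⟨a2, h2⟩ := h2
      refine ⟨a1 * a2, ?_⟩
      have : x1 * x2 - st 𝒮.toQCAlg U (a1 * a2) =
          x1 * (x2 - st 𝒮.toQCAlg U a2) + st 𝒮.toQCAlg U a2 * (x1 - st 𝒮.toQCAlg U a1) := by
        rw [map_mul]; ring
      rw [this]
      exact add_mem (Ideal.mul_mem_left _ _ h2) (Ideal.mul_mem_left _ _ h1)
  obtain ⟨f, hf1, hfy⟩ := GrTwistGen.exists_deg_one_notMem (isGenDegOne hj U hU) y
  obtain ⟨a, ha⟩ := key f (by rw [G_eq_top 𝒮.toQCAlg j hj.1 hU]; trivial)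
  have h1 := y.asHomogeneousIdeal.isHomogeneous 1 ha
  rw [DirectSum.decompose_sub, DirectSum.sub_apply, AddSubgroupClass.coe_sub,
    DirectSum.decompose_of_mem_same _ hf1,
    DirectSum.decompose_of_mem_ne _ (𝒮.str_mem U hU a) (by norm_num : (0 : ℕ) ≠ 1),
    sub_zero] at h1
  exact hfy h1


omit [E.IsQuasicoherent] in
/-- a family of sections is locally spanning as soon as around every point one of them generates -/
theorem isLocSpannedOn_of_isGen_cover {X : Scheme.{u}} (M : X.Modules) (W : X.Opens) {I : Type u}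
    (σ : I → Γ(M, W))
    (h : ∀ x ∈ W, ∃ (i : I) (W₁ : X.Opens) (hW₁ : W₁ ≤ W), x ∈ W₁ ∧ IsGen M W₁ (res M hW₁ (σ i))) :
    IsLocSpannedOn M W σ := by
  intro W' hW' s x hx
  obtain ⟨i, W₁, hW₁, hxW₁, hgen⟩ := h x (hW' hx)
  refine ⟨W' ⊓ W₁, inf_le_left, ⟨hx, hxW₁⟩, ?_⟩
  have hg := hgen (W' ⊓ W₁) inf_le_right
  rw [res_res] at hg
  obtain ⟨a, ha⟩ := hg.2 (res M inf_le_left s)
  rw [← ha]
  exact Submodule.smul_mem _ _ (Submodule.subset_span ⟨i, rfl⟩)

variable {P : Scheme.{u}} {p : P ⟶ Y}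
  {chart : ∀ (U : Y.Opens) (hU : IsAffineOpen U),
    ((p ⁻¹ᵁ U : P.Opens) : Scheme.{u}) ≅ Proj (𝒮.deg U hU)}
  {O1 : P.Modules}
  {lam : ∀ (U : Y.Opens) (hU : IsAffineOpen U),
    O1 ⟶ (Scheme.Modules.pushforward (RelProj.emb p chart U hU)).obj
      (GrTwist.twist (𝒮.deg U hU) ((1 : ℕ) : ℤ))}
  (hO1 : RelProj.IsRelTwist 𝒮 p chart ((1 : ℕ) : ℤ) O1 lam)

include hj hO1 in
/-- the sections of `O(1)` defined by the sections of `E` over an affine open `V` span `O(1)`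
over `p⁻¹V` -/
theorem isLocSpannedOn_sec (V : Y.Opens) (hV : IsAffineOpen V)
    (σ : Γ(E, V) → Γ(O1, p ⁻¹ᵁ V))
    (hσ : ∀ e : Γ(E, V), (lam V hV).app (p ⁻¹ᵁ V) (σ e) =
      fr V hV (jj 𝒮.toQCAlg j V e) (hj.2 V hV e) (p ⁻¹ᵁ V)) :
    IsLocSpannedOn O1 (p ⁻¹ᵁ V) σ := by
  apply isLocSpannedOn_of_isGen_cover
  intro x hx
  obtain ⟨y, rfl⟩ := ProjQMap.exists_emb_eq p chart V hV x hx
  obtain ⟨e, he⟩ := exists_jj_notMem hj hV y
  refine ⟨e, RelProj.emb p chart V hV ''ᵁ Proj.basicOpen (𝒮.deg V hV) (jj 𝒮.toQCAlg j V e), ?_,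
    ⟨y, he, rfl⟩, ?_⟩
  · rw [← ProjQMap.opensRange_emb p chart V hV]
    exact (RelProj.emb p chart V hV).image_le_opensRange _
  · exact isGen_res hO1 V hV _ (hj.2 V hV e) (σ e) (hσ e) _ le_rfl

end Groth.Agent.Lib.Helper3.SymGenProj
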