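import Groth.Agent.Lib.Helper3.SymBiprod
import Groth.Agent.Lib.Helper3.SymGenProj
import Groth.Agent.Lib.Helper3.RelProjMap
import Groth.Agent.Lib.Helper3.ProjQMap
import Groth.Agent.Lib.Helper3.QCLim

/-!
# `P(E) ⨿ P(F) ⟶ P(E ⊕ F)` is a closed immersion
-/

set_option autoImplicit false
set_option linter.unusedSectionVars false
universe u
open CategoryTheory CategoryTheory.Limits AlgebraicGeometry TopologicalSpace Opposite
open Scheme.Modules
open scoped HomogeneousIdeal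

namespace Groth.Agent.Lib.Helper3.CoprodClosed

open QCSec SymGen SymBiprod

/-- the morphism from a disjoint union induced by two closed immersions with disjoint images is a
closed immersion -/
theorem isClosedImmersion_coprod_desc {X Y Z : Scheme.{u}} (f : X ⟶ Z) (g : Y ⟶ Z)
    [IsClosedImmersion f] [IsClosedImmersion g]
    (hdisj : ∀ (x : X) (y : Y), f x ≠ g y) : IsClosedImmersion (coprod.desc f g) := by
  haveI : SurjectiveOnStalks (coprod.desc f g) := by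
    rw [IsZariskiLocalAtSource.iff_of_openCover (P := @SurjectiveOnStalks)
      (coprodOpenCover.{u, 0} X Y)]
    rintro (⟨⟩ | ⟨⟩)
    · change SurjectiveOnStalks (coprod.inl ≫ coprod.desc f g)
      rw [coprod.inl_desc]
      infer_instance
    · change SurjectiveOnStalks (coprod.inr ≫ coprod.desc f g)
      rw [coprod.inr_desc]
      infer_instance
  refine ⟨?_⟩
  have hinj : Function.Injective (Sum.elim (f : X → Z) (g : Y → Z)) := by
    rintro (x | y) (x' | y') h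
    · exact congrArg Sum.inl (f.isClosedEmbedding.injective h)
    · exact absurd h (hdisj x y')
    · exact absurd h.symm (hdisj x' y)
    · exact congrArg Sum.inr (g.isClosedEmbedding.injective h)
  have h2 : Topology.IsClosedEmbedding (Sum.elim (f : X → Z) (g : Y → Z)) :=
    f.isClosedEmbedding.sumElim g.isClosedEmbedding hinj
  have h1 : ∀ w : X ⊕ Y, (coprod.desc f g) (coprodMk X Y w) = Sum.elim (f : X → Z) (g : Y → Z) w := by
    rintro (x | y)
    · rw [coprodMk_inl, ← Scheme.Hom.comp_apply, coprod.inl_desc]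
      rfl
    · rw [coprodMk_inr, ← Scheme.Hom.comp_apply, coprod.inr_desc]
      rfl
  have h3 : ((coprod.desc f g : X ⨿ Y ⟶ Z) : ↥(X ⨿ Y) → Z) =
      Sum.elim (f : X → Z) (g : Y → Z) ∘ (coprodMk X Y).symm := by
    funext z
    obtain ⟨w, rfl⟩ := (coprodMk X Y).surjective z
    rw [h1, Function.comp_apply, Homeomorph.symm_apply_apply]
  rw [h3]
  exact h2.comp (coprodMk X Y).symm.isClosedEmbedding

section bundles

variable {Y PE PF P : Scheme.{u}} {E F : Y.Modules} [E.IsQuasicoherent] [F.IsQuasicoherent]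
  {𝒮E 𝒮F 𝒮 : RelProj.QCGrAlg Y}
  {jE : E ⟶ 𝒮E.toModule} (hjE : RelProj.IsGrSymAlg E 𝒮E jE)
  {jF : F ⟶ 𝒮F.toModule} (hjF : RelProj.IsGrSymAlg F 𝒮F jF)
  {j : E ⊞ F ⟶ 𝒮.toModule} (hj : RelProj.IsGrSymAlg (E ⊞ F) 𝒮 j)
  {πE : 𝒮.toQCAlg ⟶ 𝒮E.toQCAlg} (hπE : RelProj.IsGradedHom πE)
  (hjπE : j ≫ RelSpec.QCAlg.Hom.toModuleMap πE = biprod.fst ≫ jE)
  {πF : 𝒮.toQCAlg ⟶ 𝒮F.toQCAlg} (hπF : RelProj.IsGradedHom πF)
  (hjπF : j ≫ RelSpec.QCAlg.Hom.toModuleMap πF = biprod.snd ≫ jF)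

include hjπE in
theorem πE_j (U : Y.Opens) (m : Γ(E ⊞ F, U)) :
    (πE.hom.app (op U)).hom (j.app U m) = jE.app U ((biprod.fst : E ⊞ F ⟶ E).app U m) := by
  have := congr($(hjπE).app U m)
  exact this

include hjπF in
theorem πF_j (U : Y.Opens) (m : Γ(E ⊞ F, U)) :
    (πF.hom.app (op U)).hom (j.app U m) = jF.app U ((biprod.snd : E ⊞ F ⟶ F).app U m) := by
  have := congr($(hjπF).app U m)
  exact this

/-- a homomorphism from a quasi-coherent algebra to a symmetric algebra hitting the generators is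
surjective over affine opens -/
theorem surjective_of_hits {A : RelSpec.QCAlg Y} {M : Y.Modules} [M.IsQuasicoherent]
    {𝒯 : RelProj.QCGrAlg Y} {k : M ⟶ 𝒯.toModule} (hk : RelProj.IsGrSymAlg M 𝒯 k)
    (π : A ⟶ 𝒯.toQCAlg) {U : Y.Opens} (hU : IsAffineOpen U)
    (h : ∀ e : Γ(M, U), ∃ a : A.presheaf.obj (op U), (π.hom.app (op U)).hom a = k.app U e) :
    Function.Surjective (π.hom.app (op U)).hom := by
  intro x
  have hx : x ∈ G 𝒯.toQCAlg k U := by rw [G_eq_top 𝒯.toQCAlg k hk.1 hU]; trivial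
  have hle : G 𝒯.toQCAlg k U ≤ (π.hom.app (op U)).hom.range := by
    apply Subring.closure_le.mpr
    rintro _ (⟨r, rfl⟩ | ⟨e, rfl⟩)
    · exact ⟨(A.str.app (op U)).hom r, ψ_str π U r⟩
    · obtain ⟨a, ha⟩ := h e
      exact ⟨a, ha⟩
  exact hle hx

include hjE hjπE in
theorem πE_surjective {U : Y.Opens} (hU : IsAffineOpen U) :
    Function.Surjective (πE.hom.app (op U)).hom := by
  apply surjective_of_hits hjE πE hU
  intro e
  refine ⟨j.app U ((biprod.inl : E ⟶ E ⊞ F).app U e), ?_⟩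
  rw [πE_j hjπE, fst_inl]

include hjF hjπF in
theorem πF_surjective {U : Y.Opens} (hU : IsAffineOpen U) :
    Function.Surjective (πF.hom.app (op U)).hom := by
  apply surjective_of_hits hjF πF hU
  intro e
  refine ⟨j.app U ((biprod.inr : F ⟶ E ⊞ F).app U e), ?_⟩
  rw [πF_j hjπF, snd_inr]

variable (hirrE : ∀ (U : Y.Opens) (hU : IsAffineOpen U),
      (𝒮E.deg U hU)₊ ≤ ((𝒮.deg U hU)₊).map (RelProj.gradedHomAt πE hπE U hU))
  (hirrF : ∀ (U : Y.Opens) (hU : IsAffineOpen U),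
      (𝒮F.deg U hU)₊ ≤ ((𝒮.deg U hU)₊).map (RelProj.gradedHomAt πF hπF U hU))
  {p : P ⟶ Y} {pE : PE ⟶ Y} {pF : PF ⟶ Y}
  {chart : ∀ (U : Y.Opens) (hU : IsAffineOpen U),
    ((p ⁻¹ᵁ U : P.Opens) : Scheme.{u}) ≅ Proj (𝒮.deg U hU)}
  {chartE : ∀ (U : Y.Opens) (hU : IsAffineOpen U),
    ((pE ⁻¹ᵁ U : PE.Opens) : Scheme.{u}) ≅ Proj (𝒮E.deg U hU)}
  {chartF : ∀ (U : Y.Opens) (hU : IsAffineOpen U),
    ((pF ⁻¹ᵁ U : PF.Opens) : Scheme.{u}) ≅ Proj (𝒮F.deg U hU)}
  (hP : RelProj.IsRelProj 𝒮 p chart) (hPE : RelProj.IsRelProj 𝒮E pE chartE)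
  (hPF : RelProj.IsRelProj 𝒮F pF chartF)
  {hE' : PE ⟶ P} (hhE : RelProj.IsRelProjMap πE hπE hirrE chart chartE hE')
  {hF' : PF ⟶ P} (hhF : RelProj.IsRelProjMap πF hπF hirrF chart chartF hF')

/-- a morphism of relative Proj's on charts -/
theorem emb_comp {𝒜 ℬ : RelProj.QCGrAlg Y} {φ : 𝒜.toQCAlg ⟶ ℬ.toQCAlg}
    {hφ : RelProj.IsGradedHom φ}
    {hirr : ∀ (U : Y.Opens) (hU : IsAffineOpen U),
      (ℬ.deg U hU)₊ ≤ ((𝒜.deg U hU)₊).map (RelProj.gradedHomAt φ hφ U hU)}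
    {PA PB : Scheme.{u}} {pA : PA ⟶ Y} {pB : PB ⟶ Y}
    {chartA : ∀ (U : Y.Opens) (hU : IsAffineOpen U),
      ((pA ⁻¹ᵁ U : PA.Opens) : Scheme.{u}) ≅ Proj (𝒜.deg U hU)}
    {chartB : ∀ (U : Y.Opens) (hU : IsAffineOpen U),
      ((pB ⁻¹ᵁ U : PB.Opens) : Scheme.{u}) ≅ Proj (ℬ.deg U hU)}
    {h : PB ⟶ PA} (hh : RelProj.IsRelProjMap φ hφ hirr chartA chartB h)
    (U : Y.Opens) (hU : IsAffineOpen U) :
    RelProj.emb pB chartB U hU ≫ h =
      Proj.map (RelProj.gradedHomAt φ hφ U hU) (hirr U hU) ≫ RelProj.emb pA chartA U hU := by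
  rw [RelProj.emb, RelProj.emb, Category.assoc, hh U hU, Iso.inv_hom_id_assoc]

include hjE hjπE hP hPE hhE in
theorem isClosedImmersion_hE : IsClosedImmersion hE' := by
  apply RelProjMap.of_forall_map (P := @IsClosedImmersion) hP hPE hE' hhE
  intro U hU
  exact RelProjMap.isClosedImmersion_map _ _ (πE_surjective hjE hjπE hU)

include hjF hjπF hP hPF hhF in
theorem isClosedImmersion_hF : IsClosedImmersion hF' := by
  apply RelProjMap.of_forall_map (P := @IsClosedImmersion) hP hPF hF' hhF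
  intro U hU
  exact RelProjMap.isClosedImmersion_map _ _ (πF_surjective hjF hjπF hU)

include hj hjπE hjπF hP hPE hPF hhE hhF in
theorem disjoint (x : PE) (y : PF) : hE' x ≠ hF' y := by
  haveI : SheafOfModules.IsQuasicoherent (R := Y.ringCatSheaf) (E ⊞ F : Y.Modules) :=
    QCLim.isQuasicoherent_biprod E F
  intro hxy
  have hcE := RelProjMap.comp_eq hP hPE hE' hhE
  have hcF := RelProjMap.comp_eq hP hPF hF' hhF
  obtain ⟨U, hU, hxU⟩ := ProjQMap.exists_affine_mem (pE x)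
  have hyU : pF y ∈ U := by
    have h1 : pF y = p (hF' y) := by rw [← hcF]; rfl
    have h2 : pE x = p (hE' x) := by rw [← hcE]; rfl
    rw [h1, ← hxy, ← h2]
    exact hxU
  obtain ⟨x', rfl⟩ := ProjQMap.exists_emb_eq pE chartE U hU x hxU
  obtain ⟨y', rfl⟩ := ProjQMap.exists_emb_eq pF chartF U hU y hyU
  have e1 : hE' ((RelProj.emb pE chartE U hU) x') =
      (RelProj.emb p chart U hU) ((Proj.map (RelProj.gradedHomAt πE hπE U hU) (hirrE U hU)) x') := by
    rw [← Scheme.Hom.comp_apply, ← Scheme.Hom.comp_apply, emb_comp hhE U hU]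
  have e2 : hF' ((RelProj.emb pF chartF U hU) y') =
      (RelProj.emb p chart U hU) ((Proj.map (RelProj.gradedHomAt πF hπF U hU) (hirrF U hU)) y') := by
    rw [← Scheme.Hom.comp_apply, ← Scheme.Hom.comp_apply, emb_comp hhF U hU]
  rw [e1, e2] at hxy
  have hz := (RelProj.emb p chart U hU).isOpenEmbedding.injective hxy
  set z : ProjectiveSpectrum (𝒮.deg U hU) :=
    (Proj.map (RelProj.gradedHomAt πE hπE U hU) (hirrE U hU)) x' with hzdef
  obtain ⟨m, hm⟩ := SymGenProj.exists_jj_notMem hj hU z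
  apply hm
  rw [biprod_decomp U m]
  change j.app U _ ∈ _
  rw [map_add]
  refine add_mem ?_ ?_
  · -- `j (inl e)` is killed by `πF`
    rw [hz]
    change (RelProj.gradedHomAt πF hπF U hU) _ ∈ y'.asHomogeneousIdeal
    change (πF.hom.app (op U)).hom _ ∈ _
    rw [πF_j hjπF, snd_inl, map_zero]
    exact zero_mem _
  · change (RelProj.gradedHomAt πE hπE U hU) _ ∈ x'.asHomogeneousIdeal
    change (πE.hom.app (op U)).hom _ ∈ _
    rw [πE_j hjπE, fst_inr, map_zero]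
    exact zero_mem _

include hjE hjF hj hjπE hjπF hP hPE hPF hhE hhF in
theorem isClosedImmersion_desc : IsClosedImmersion (coprod.desc hE' hF') := by
  haveI := isClosedImmersion_hE hjE hπE hjπE hirrE hP hPE hhE
  haveI := isClosedImmersion_hF hjF hπF hjπF hirrF hP hPF hhF
  exact isClosedImmersion_coprod_desc hE' hF'
    (disjoint hj hπE hjπE hπF hjπF hirrE hirrF hP hPE hPF hhE hhF)

end bundles

end Groth.Agent.Lib.Helper3.CoprodClosed
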