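import Groth.Agent.Lib.Helper3.GrModTN
import Groth.Agent.Lib.Helper3.GrModComap
import Groth.Agent.Lib.Helper3.ModBasis
import Groth.Agent.Lib.Helper3.ProjQMap

/-!
# The module `(ℳ(n))~` on a relative Proj: exactness properties through the charts
-/

set_option autoImplicit false
set_option linter.unusedSectionVars false
universe u
open CategoryTheory CategoryTheory.Limits AlgebraicGeometry TopologicalSpace Opposite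
open Scheme.Modules

namespace Groth.Agent.Lib.Helper3.RelTilde

open GrModSec GrModExact GrModTN

section chart

variable {A σ : Type u} [CommRing A] [SetLike σ A] [AddSubgroupClass σ A] (𝒜 : ℕ → σ) [GradedRing 𝒜]
  {M₁ τ₁ : Type u} [AddCommGroup M₁] [Module A M₁] [SetLike τ₁ M₁] [AddSubgroupClass τ₁ M₁]
  (ℳ₁ : ℕ → τ₁) [SetLike.GradedSMul 𝒜 ℳ₁] [DirectSum.Decomposition ℳ₁]
  {M₂ τ₂ : Type u} [AddCommGroup M₂] [Module A M₂] [SetLike τ₂ M₂] [AddSubgroupClass τ₂ M₂]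
  (ℳ₂ : ℕ → τ₂) [SetLike.GradedSMul 𝒜 ℳ₂] [DirectSum.Decomposition ℳ₂]
  {M₃ τ₃ : Type u} [AddCommGroup M₃] [Module A M₃] [SetLike τ₃ M₃] [AddSubgroupClass τ₃ M₃]
  (ℳ₃ : ℕ → τ₃) [SetLike.GradedSMul 𝒜 ℳ₃] [DirectSum.Decomposition ℳ₃]
  {P : Scheme.{u}} (e : Proj 𝒜 ⟶ P)

theorem exact_on_chart
    (u : M₁ →ₗ[A] M₂) (hu : ∀ (i : ℕ) (m : M₁), m ∈ ℳ₁ i → u m ∈ ℳ₂ i)
    (v : M₂ →ₗ[A] M₃) (hv : ∀ (i : ℕ) (m : M₂), m ∈ ℳ₂ i → v m ∈ ℳ₃ i)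
    (hex : Function.Exact u v) (n : ℤ) {F₁ F₂ F₃ : P.Modules}
    (l₁ : F₁ ⟶ (Scheme.Modules.pushforward e).obj (GrMod.tilde 𝒜 ℳ₁ n))
    (l₂ : F₂ ⟶ (Scheme.Modules.pushforward e).obj (GrMod.tilde 𝒜 ℳ₂ n))
    (l₃ : F₃ ⟶ (Scheme.Modules.pushforward e).obj (GrMod.tilde 𝒜 ℳ₃ n))
    (ut : F₁ ⟶ F₂) (vt : F₂ ⟶ F₃)
    (hut : ut ≫ l₂ = l₁ ≫ (Scheme.Modules.pushforward e).map (GrMod.map 𝒜 u hu n))
    (hvt : vt ≫ l₃ = l₂ ≫ (Scheme.Modules.pushforward e).map (GrMod.map 𝒜 v hv n))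
    (V : P.Opens) {d : ℕ} (hd : 0 < d) (f : A) (hf : f ∈ 𝒜 d)
    (hV : e ⁻¹ᵁ V = Proj.basicOpen 𝒜 f)
    (b₁ : Function.Surjective (l₁.app V)) (b₂ : Function.Injective (l₂.app V))
    (s : Γ(F₂, V)) (hs : vt.app V s = 0) : ∃ t : Γ(F₁, V), ut.app V t = s := by
  have e2 : (GrMod.map 𝒜 v hv n).app (e ⁻¹ᵁ V) (l₂.app V s) = l₃.app V (vt.app V s) :=
    (congrArg (fun φ => φ.app V s) hvt).symm
  rw [hs, map_zero] at e2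
  obtain ⟨t', ht'⟩ :=
    (map_app_exact_of_eq 𝒜 ℳ₁ ℳ₂ ℳ₃ u hu v hv hex n hd f hf (e ⁻¹ᵁ V) hV _).1 e2
  obtain ⟨t, rfl⟩ := b₁ t'
  refine ⟨t, b₂ ?_⟩
  have e1 : l₂.app V (ut.app V t) = (GrMod.map 𝒜 u hu n).app (e ⁻¹ᵁ V) (l₁.app V t) :=
    congrArg (fun φ => φ.app V t) hut
  rw [e1]
  exact ht'

theorem eq_zero_on_chart_of_tn
    (u : M₁ →ₗ[A] M₂) (hu : ∀ (i : ℕ) (m : M₁), m ∈ ℳ₁ i → u m ∈ ℳ₂ i) (n₀ : ℕ)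
    (hinj : ∀ k, n₀ ≤ k → ∀ m ∈ ℳ₁ k, u m = 0 → m = 0) (n : ℤ) {F₁ F₂ : P.Modules}
    (l₁ : F₁ ⟶ (Scheme.Modules.pushforward e).obj (GrMod.tilde 𝒜 ℳ₁ n))
    (l₂ : F₂ ⟶ (Scheme.Modules.pushforward e).obj (GrMod.tilde 𝒜 ℳ₂ n))
    (ut : F₁ ⟶ F₂)
    (hut : ut ≫ l₂ = l₁ ≫ (Scheme.Modules.pushforward e).map (GrMod.map 𝒜 u hu n))
    (V : P.Opens) {d : ℕ} (hd : 0 < d) (f : A) (hf : f ∈ 𝒜 d)
    (hV : e ⁻¹ᵁ V = Proj.basicOpen 𝒜 f)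
    (b₁ : Function.Injective (l₁.app V))
    (t : Γ(F₁, V)) (ht : ut.app V t = 0) : t = 0 := by
  have e1 : l₂.app V (ut.app V t) = (GrMod.map 𝒜 u hu n).app (e ⁻¹ᵁ V) (l₁.app V t) :=
    congrArg (fun φ => φ.app V t) hut
  rw [ht, map_zero] at e1
  have h0 := map_app_eq_zero_of_tn 𝒜 ℳ₁ ℳ₂ u hu n₀ hinj n hd f hf (e ⁻¹ᵁ V) hV _ e1.symm
  apply b₁
  rw [map_zero]
  exact h0

theorem surjective_on_chart_of_tn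
    (u : M₁ →ₗ[A] M₂) (hu : ∀ (i : ℕ) (m : M₁), m ∈ ℳ₁ i → u m ∈ ℳ₂ i) (n₀ : ℕ)
    (hsurj : ∀ k, n₀ ≤ k → ∀ m' ∈ ℳ₂ k, ∃ m ∈ ℳ₁ k, u m = m') (n : ℤ) {F₁ F₂ : P.Modules}
    (l₁ : F₁ ⟶ (Scheme.Modules.pushforward e).obj (GrMod.tilde 𝒜 ℳ₁ n))
    (l₂ : F₂ ⟶ (Scheme.Modules.pushforward e).obj (GrMod.tilde 𝒜 ℳ₂ n))
    (ut : F₁ ⟶ F₂)
    (hut : ut ≫ l₂ = l₁ ≫ (Scheme.Modules.pushforward e).map (GrMod.map 𝒜 u hu n))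
    (V : P.Opens) {d : ℕ} (hd : 0 < d) (f : A) (hf : f ∈ 𝒜 d)
    (hV : e ⁻¹ᵁ V = Proj.basicOpen 𝒜 f)
    (b₁ : Function.Surjective (l₁.app V)) (b₂ : Function.Injective (l₂.app V)) :
    Function.Surjective (ut.app V) := by
  intro s
  obtain ⟨t', ht'⟩ := map_app_surjective_of_tn 𝒜 ℳ₁ ℳ₂ u hu n₀ hsurj n hd f hf (e ⁻¹ᵁ V) hV
    (l₂.app V s)
  obtain ⟨t, rfl⟩ := b₁ t'
  refine ⟨t, b₂ ?_⟩
  have e1 : l₂.app V (ut.app V t) = (GrMod.map 𝒜 u hu n).app (e ⁻¹ᵁ V) (l₁.app V t) :=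
    congrArg (fun φ => φ.app V t) hut
  rw [e1]
  exact ht'

theorem eq_zero_on_chart (n₀ : ℕ) (hTN : ∀ k, n₀ ≤ k → ∀ m ∈ ℳ₁ k, m = 0) (n : ℤ)
    {F₁ : P.Modules} (l₁ : F₁ ⟶ (Scheme.Modules.pushforward e).obj (GrMod.tilde 𝒜 ℳ₁ n))
    (V : P.Opens) {d : ℕ} (hd : 0 < d) (f : A) (hf : f ∈ 𝒜 d)
    (hV : e ⁻¹ᵁ V = Proj.basicOpen 𝒜 f) (b₁ : Function.Injective (l₁.app V))
    (t : Γ(F₁, V)) : t = 0 := by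
  apply b₁
  rw [map_zero]
  exact eq_zero_of_tn 𝒜 ℳ₁ n₀ hTN n hd f hf (e ⁻¹ᵁ V) hV _

end chart

section rel

variable {Y P : Scheme.{u}} {𝒮 : RelProj.QCGrAlg Y} (p : P ⟶ Y)
  (chart : ∀ (U : Y.Opens) (hU : IsAffineOpen U),
    ((p ⁻¹ᵁ U : P.Opens) : Scheme.{u}) ≅ Proj (𝒮.deg U hU))

/-- a basis of `P` adapted to the charts -/
theorem exists_basic (W : P.Opens) (x : P) (hx : x ∈ W) :
    ∃ (U : Y.Opens) (hU : IsAffineOpen U) (d : ℕ) (_ : 0 < d) (f : 𝒮.presheaf.obj (op U))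
      (_ : f ∈ 𝒮.deg U hU d) (V : P.Opens),
      x ∈ V ∧ V ≤ W ∧ V ≤ p ⁻¹ᵁ U ∧
        RelProj.emb p chart U hU ⁻¹ᵁ V = Proj.basicOpen (𝒮.deg U hU) f := by
  obtain ⟨U, hU, hxU⟩ := ProjQMap.exists_affine_mem (p x)
  obtain ⟨y, hy⟩ := ProjQMap.exists_emb_eq p chart U hU x hxU
  have hyW : y ∈ RelProj.emb p chart U hU ⁻¹ᵁ W := by
    change RelProj.emb p chart U hU y ∈ W
    rw [hy]
    exact hx
  obtain ⟨d, hd, f, hf, hyf, hfW⟩ := GrModComap.exists_basicOpen_le (𝒮.deg U hU)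
    (RelProj.emb p chart U hU ⁻¹ᵁ W) y hyW
  refine ⟨U, hU, d, hd, f, hf, RelProj.emb p chart U hU ''ᵁ Proj.basicOpen (𝒮.deg U hU) f,
    ⟨y, hyf, hy⟩, ?_, ?_, ?_⟩
  · rintro _ ⟨z, hz, rfl⟩
    exact hfW hz
  · rintro _ ⟨z, hz, rfl⟩
    have : RelProj.emb p chart U hU z ∈ (RelProj.emb p chart U hU).opensRange := ⟨z, rfl⟩
    rw [ProjQMap.opensRange_emb] at this
    exact this
  · exact Scheme.Hom.preimage_image_eq _ _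

end rel

end Groth.Agent.Lib.Helper3.RelTilde
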