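import Groth.Agent.Lib.Helper3.VAConv

/-!
# Very ampleness data through chart immersions
-/

set_option autoImplicit false
set_option linter.unusedSectionVars false
universe u
open CategoryTheory CategoryTheory.Limits AlgebraicGeometry TopologicalSpace Opposite
open Scheme.Modules

namespace Groth.Agent.Lib.Helper3.VAChart

open QCSec InvGen InvTensor InvTwist InvMonoidal InvCoh InvAmple SecCoord ProjOfSec ProjUniq VACore
  VASegre GlobGen VAMain VAConv ProjFrac ToProj TwistProj ProjPullGen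

section ToSpec

variable {X : Scheme.{u}} {R : Type u} [CommRing R]

/-- the morphism from an open subscheme to an affine scheme given by a ring homomorphism -/
noncomputable def toSpecOfHom (U : X.Opens) (ψ : R →+* Γ(X, U)) :
    U.toScheme ⟶ Spec (CommRingCat.of R) :=
  U.toScheme.toSpecΓ ≫ Spec.map (CommRingCat.ofHom ψ ≫ U.topIso.inv)

theorem toSpecOfHom_appTop (U : X.Opens) (ψ : R →+* Γ(X, U)) :
    (toSpecOfHom U ψ).appTop =
      (Scheme.ΓSpecIso (CommRingCat.of R)).hom ≫ CommRingCat.ofHom ψ ≫ U.topIso.inv := by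
  unfold toSpecOfHom
  rw [Scheme.Hom.comp_appTop, Scheme.toSpecΓ_appTop, Scheme.ΓSpecIso_naturality]

theorem resLE_toSpecOfHom {Y : Scheme.{u}} (g : X ⟶ Y) (D : Y.Opens) (U : X.Opens)
    (e : U ≤ g ⁻¹ᵁ D) (ψ : R →+* Γ(Y, D)) :
    g.resLE D U e ≫ toSpecOfHom D ψ = toSpecOfHom U ((g.appLE D U e).hom.comp ψ) := by
  apply ext_of_isAffine
  rw [Scheme.Hom.comp_appTop, toSpecOfHom_appTop, toSpecOfHom_appTop, Category.assoc,
    Category.assoc]
  congr 1
  have h : D.topIso.inv ≫ (g.resLE D U e).appTop = g.appLE D U e ≫ U.topIso.inv := by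
    rw [Scheme.Hom.appTop, Scheme.Hom.resLE_app_top, Iso.inv_hom_id_assoc]
  rw [h]
  rfl

theorem homOfLE_toSpecOfHom {U U' : X.Opens} (h : U' ≤ U) (ψ : R →+* Γ(X, U)) :
    X.homOfLE h ≫ toSpecOfHom U ψ = toSpecOfHom U' ((rresHom X h).comp ψ) := by
  rw [← Scheme.Hom.resLE_id h, resLE_toSpecOfHom]
  congr 1

theorem toSpecOfHom_specMap {R' : Type u} [CommRing R'] (U : X.Opens) (ψ : R →+* Γ(X, U))
    (θ : R' →+* R) :
    toSpecOfHom U ψ ≫ Spec.map (CommRingCat.ofHom θ) = toSpecOfHom U (ψ.comp θ) := by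
  unfold toSpecOfHom
  rw [Category.assoc, ← Spec.map_comp]
  rfl

theorem ulift_int_hom_ext {B : Type*} [Semiring B] (φ ψ : ULift.{u} ℤ →+* B) : φ = ψ := by
  have h := RingHom.ext_int (φ.comp (ULift.ringEquiv.symm : ℤ ≃+* ULift.{u} ℤ).toRingHom)
    (ψ.comp (ULift.ringEquiv.symm : ℤ ≃+* ULift.{u} ℤ).toRingHom)
  ext ⟨n⟩
  exact congrArg (fun f => f n) h

end ToSpec

section Chart

variable {X S : Scheme.{u}}

/-- affine space over `ℤ` with coordinates indexed by `κ` -/
noncomputable abbrev aff (κ : Type u) : Scheme.{u} :=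
  Spec (CommRingCat.of (MvPolynomial κ (ULift.{u} ℤ)))

noncomputable abbrev affTo (κ : Type u) : aff κ ⟶ Spec (CommRingCat.of (ULift.{u} ℤ)) :=
  specULiftZIsTerminal.from _

/-- the ring map of the chart attached to the section `t k` -/
noncomputable def chartHom (N : X.Modules) {κ : Type u} (t : κ → Γ(N, ⊤)) (k : κ) :
    MvPolynomial κ (ULift.{u} ℤ) →+* Γ(X, locus N (t k)) :=
  MvPolynomial.eval₂Hom
    ((Int.castRingHom _).comp (ULift.ringEquiv : ULift.{u} ℤ ≃+* ℤ).toRingHom)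
    (fun k' => ratio N (t k) (t k'))

theorem eq_chartHom (N : X.Modules) {κ : Type u} (t : κ → Γ(N, ⊤)) (k : κ)
    (ψ : MvPolynomial κ (ULift.{u} ℤ) →+* Γ(X, locus N (t k)))
    (h : ∀ k', ψ (MvPolynomial.X k') = ratio N (t k) (t k')) : ψ = chartHom N t k := by
  apply MvPolynomial.ringHom_ext
  · intro c
    exact congrArg (fun φ => φ c)
      (ulift_int_hom_ext (ψ.comp MvPolynomial.C) ((chartHom N t k).comp MvPolynomial.C))
  · intro k'
    rw [h]
    unfold chartHom
    rw [MvPolynomial.eval₂Hom_X']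

/-- the chart morphism from the locus of `t k` to affine space over `S` -/
noncomputable def chart (f : X ⟶ S) (N : X.Modules) {κ : Type u} (t : κ → Γ(N, ⊤)) (k : κ) :
    (locus N (t k)).toScheme ⟶ pullback (affTo κ) (specULiftZIsTerminal.from S) :=
  pullback.lift (toSpecOfHom (locus N (t k)) (chartHom N t k)) ((locus N (t k)).ι ≫ f)
    (specULiftZIsTerminal.hom_ext _ _)

/-- very ampleness data through charts: finitely many sections some of whose loci cover `X`
and map by an immersion to affine space over `S` -/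
def IsVA' (f : X ⟶ S) (N : X.Modules) : Prop :=
  ∃ (κ : Type u) (_ : Finite κ) (t : κ → Γ(N, ⊤)) (K : Set κ),
    (∀ x : X, ∃ k ∈ K, x ∈ locus N (t k)) ∧ ∀ k ∈ K, IsImmersion (chart f N t k)

theorem eq_chart (f : X ⟶ S) (N : X.Modules) {κ : Type u} (t : κ → Γ(N, ⊤)) (k : κ)
    (h : (locus N (t k)).toScheme ⟶ pullback (affTo κ) (specULiftZIsTerminal.from S))
    (ψ : MvPolynomial κ (ULift.{u} ℤ) →+* Γ(X, locus N (t k)))
    (h1 : h ≫ pullback.fst _ _ = toSpecOfHom (locus N (t k)) ψ)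
    (hψ : ∀ k', ψ (MvPolynomial.X k') = ratio N (t k) (t k'))
    (h2 : h ≫ pullback.snd _ _ = (locus N (t k)).ι ≫ f) : h = chart f N t k := by
  apply pullback.hom_ext
  · rw [h1, eq_chartHom N t k ψ hψ]
    exact (pullback.lift_fst _ _ _).symm
  · rw [h2]
    exact (pullback.lift_snd _ _ _).symm

/-- very ample (chart form) tensor globally generated is very ample (chart form) -/
theorem IsVA'.tensor (f : X ⟶ S) {N P : X.Modules} (hN : PicF.IsInvertible N)
    (hP : PicF.IsInvertible P) (h : IsVA' f N) (hG : IsFGG P) :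
    IsVA' f (CohB1.tensorMod N P) := by
  obtain ⟨κ, _, t, K, hcov, hK⟩ := h
  obtain ⟨J, _, u, hu⟩ := hG
  refine ⟨κ × J, inferInstance, fun p => tm N P ⊤ (t p.1) (u p.2), {p | p.1 ∈ K}, ?_, ?_⟩
  · intro x
    obtain ⟨k, hk, hx⟩ := hcov x
    obtain ⟨j, hj⟩ := hu x
    exact ⟨(k, j), hk, by rw [locus_tm hN hP]; exact ⟨hx, hj⟩⟩
  · rintro ⟨k, j⟩ hk
    have hloc := locus_tm hN hP (t k) (u j)
    have hDa : locus (CohB1.tensorMod N P) (tm N P ⊤ (t k) (u j)) ≤ locus N (t k) :=
      hloc.le.trans inf_le_left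
    have hDb : locus (CohB1.tensorMod N P) (tm N P ⊤ (t k) (u j)) ≤ locus P (u j) :=
      hloc.le.trans inf_le_right
    let θ : MvPolynomial κ (ULift.{u} ℤ) →+* MvPolynomial (κ × J) (ULift.{u} ℤ) :=
      (MvPolynomial.rename (fun k' : κ => (k', j))).toRingHom
    let pr : pullback (affTo (κ × J)) (specULiftZIsTerminal.from S) ⟶
        pullback (affTo κ) (specULiftZIsTerminal.from S) :=
      pullback.lift (pullback.fst _ _ ≫ Spec.map (CommRingCat.ofHom θ)) (pullback.snd _ _)
        (specULiftZIsTerminal.hom_ext _ _)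
    have key : chart f (CohB1.tensorMod N P) (fun p : κ × J => tm N P ⊤ (t p.1) (u p.2)) (k, j) ≫
        pr = X.homOfLE hDa ≫ chart f N t k := by
      apply pullback.hom_ext
      · simp only [Category.assoc]
        rw [pullback.lift_fst]
        unfold chart
        rw [pullback.lift_fst, pullback.lift_fst_assoc, toSpecOfHom_specMap, homOfLE_toSpecOfHom]
        congr 1
        apply MvPolynomial.ringHom_ext
        · intro c
          exact congrArg (fun φ => φ c) (ulift_int_hom_ext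
            (((chartHom (CohB1.tensorMod N P) (fun p : κ × J => tm N P ⊤ (t p.1) (u p.2))
              (k, j)).comp θ).comp MvPolynomial.C)
            (((rresHom X hDa).comp (chartHom N t k)).comp MvPolynomial.C))
        · intro k'
          rw [RingHom.comp_apply, RingHom.comp_apply]
          change chartHom (CohB1.tensorMod N P) (fun p : κ × J => tm N P ⊤ (t p.1) (u p.2)) (k, j)
            (MvPolynomial.rename (fun k' : κ => (k', j)) (MvPolynomial.X k')) = _
          rw [MvPolynomial.rename_X]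
          unfold chartHom
          rw [MvPolynomial.eval₂Hom_X', MvPolynomial.eval₂Hom_X', ratio_tm _ _ _ _ hDa hDb,
            ratio_self, rres_one, mul_one]
          rfl
      · simp only [Category.assoc]
        rw [pullback.lift_snd]
        unfold chart
        rw [pullback.lift_snd, pullback.lift_snd, Scheme.homOfLE_ι_assoc]
    haveI : IsImmersion (chart f N t k) := hK k hk
    haveI : IsImmersion (chart f (CohB1.tensorMod N P)
        (fun p : κ × J => tm N P ⊤ (t p.1) (u p.2)) (k, j) ≫ pr) := by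
      rw [key]
      infer_instance
    exact IsImmersion.of_comp _ pr

end Chart

section Rho

variable {S : Scheme.{u}} (n : ℕ) {κ : Type u} (idx : κ → Fin (n + 1)) (k : κ)

/-- the standard open `D₊(T_{idx k})` of projective space over `ℤ` -/
noncomputable abbrev Dk : (CohB1.ProjSpace n (ULift.{u} ℤ)).Opens :=
  Proj.basicOpen (CohB1.polyGrading n (ULift.{u} ℤ)) (MvPolynomial.X (idx k) : MvPolynomial (Fin (n + 1)) (ULift.{u} ℤ))

/-- the coordinates `T_{idx k'} / T_{idx k}` on `D₊(T_{idx k})` -/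
noncomputable def psiD : MvPolynomial κ (ULift.{u} ℤ) →+* Γ(CohB1.ProjSpace n (ULift.{u} ℤ), Dk n idx k) :=
  MvPolynomial.eval₂Hom
    ((Int.castRingHom _).comp (ULift.ringEquiv : ULift.{u} ℤ ≃+* ℤ).toRingHom)
    (fun k' => fn (Dk n idx k) (MvPolynomial.X (idx k') : MvPolynomial (Fin (n + 1)) (ULift.{u} ℤ))
      (MvPolynomial.X (idx k)))

theorem psiD_X (k' : κ) : psiD n idx k (MvPolynomial.X k') =
    fn (Dk n idx k) (MvPolynomial.X (idx k') : MvPolynomial (Fin (n + 1)) (ULift.{u} ℤ))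
      (MvPolynomial.X (idx k)) := by
  unfold psiD
  rw [MvPolynomial.eval₂Hom_X']

/-- the chart `D₊(T_{idx k}) ×_ℤ S → A^κ ×_ℤ S` of projective space over `S` -/
noncomputable def rho (S : Scheme.{u}) :
    ((pullback.fst (CohB1.ProjSpace.toSpec n (ULift.{u} ℤ)) (specULiftZIsTerminal.from S)) ⁻¹ᵁ
      Dk n idx k).toScheme ⟶ pullback (affTo κ) (specULiftZIsTerminal.from S) :=
  pullback.lift
    ((pullback.fst (CohB1.ProjSpace.toSpec n (ULift.{u} ℤ)) (specULiftZIsTerminal.from S) ∣_ Dk n idx k) ≫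
      toSpecOfHom (Dk n idx k) (psiD n idx k))
    (((pullback.fst (CohB1.ProjSpace.toSpec n (ULift.{u} ℤ)) (specULiftZIsTerminal.from S)) ⁻¹ᵁ
      Dk n idx k).ι ≫ pullback.snd _ _)
    (specULiftZIsTerminal.hom_ext _ _)

theorem resLE_rho {X : Scheme.{u}}
    (i : X ⟶ pullback (CohB1.ProjSpace.toSpec n (ULift.{u} ℤ)) (specULiftZIsTerminal.from S))
    (U : X.Opens)
    (e : U ≤ i ⁻¹ᵁ ((pullback.fst (CohB1.ProjSpace.toSpec n (ULift.{u} ℤ)) (specULiftZIsTerminal.from S)) ⁻¹ᵁ
      Dk n idx k))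
    (e' : U ≤ (i ≫ pullback.fst (CohB1.ProjSpace.toSpec n (ULift.{u} ℤ)) (specULiftZIsTerminal.from S)) ⁻¹ᵁ
      Dk n idx k) :
    i.resLE _ U e ≫ rho n idx k S =
      pullback.lift
        (toSpecOfHom U (((i ≫ pullback.fst (CohB1.ProjSpace.toSpec n (ULift.{u} ℤ))
          (specULiftZIsTerminal.from S)).appLE (Dk n idx k) U e').hom.comp (psiD n idx k)))
        (U.ι ≫ i ≫ pullback.snd _ _) (specULiftZIsTerminal.hom_ext _ _) := by
  apply pullback.hom_ext
  · rw [pullback.lift_fst]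
    unfold rho
    rw [Category.assoc, pullback.lift_fst, ← Scheme.Hom.resLE_eq_morphismRestrict,
      Scheme.Hom.resLE_comp_resLE_assoc, resLE_toSpecOfHom]
  · rw [pullback.lift_snd]
    unfold rho
    rw [Category.assoc, pullback.lift_snd, Scheme.Hom.resLE_comp_ι_assoc]

end Rho

section Closed

theorem isClosedImmersion_toSpecOfHom {X : Scheme.{u}} {R : Type u} [CommRing R] (U : X.Opens)
    (hU : IsAffineOpen U) (ψ : R →+* Γ(X, U)) (hψ : Function.Surjective ψ) :
    IsClosedImmersion (toSpecOfHom U ψ) := by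
  unfold toSpecOfHom
  haveI : IsAffine U.toScheme := hU
  haveI : IsClosedImmersion (Spec.map (CommRingCat.ofHom ψ ≫ U.topIso.inv)) := by
    apply IsClosedImmersion.spec_of_surjective
    exact (ConcreteCategory.bijective_of_isIso U.topIso.inv).2.comp hψ
  infer_instance

theorem psiD_surjective (n : ℕ) {κ : Type u} (idx : κ → Fin (n + 1))
    (hidx : Function.Surjective idx) (k : κ) : Function.Surjective (psiD n idx k) := by
  have hg : (MvPolynomial.X (idx k) : MvPolynomial (Fin (n + 1)) (ULift.{u} ℤ)) ∈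
      CohB1.polyGrading n (ULift.{u} ℤ) 1 := MvPolynomial.isHomogeneous_X _ _
  let g := Function.surjInv hidx
  let σ : MvPolynomial (Fin (n + 1)) (ULift.{u} ℤ) →+* MvPolynomial κ (ULift.{u} ℤ) :=
    (MvPolynomial.rename g).toRingHom
  have h : (psiD n idx k).comp σ = deh (𝒜 := CohB1.polyGrading n (ULift.{u} ℤ)) hg := by
    apply MvPolynomial.ringHom_ext
    · intro c
      exact congrArg (fun φ => φ c) (ulift_int_hom_ext
        (((psiD n idx k).comp σ).comp MvPolynomial.C)
        ((deh (𝒜 := CohB1.polyGrading n (ULift.{u} ℤ)) hg).comp MvPolynomial.C))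
    · intro j
      rw [RingHom.comp_apply]
      change psiD n idx k (MvPolynomial.rename g (MvPolynomial.X j)) = _
      rw [MvPolynomial.rename_X, psiD_X, Function.surjInv_eq hidx]
      have h1 := deh_of_mem (𝒜 := CohB1.polyGrading n (ULift.{u} ℤ)) hg
        (MvPolynomial.isHomogeneous_X (ULift.{u} ℤ) j)
      rw [pow_one] at h1
      exact h1.symm
  intro c
  obtain ⟨b, hb⟩ := deh_surjective (𝒜 := CohB1.polyGrading n (ULift.{u} ℤ)) hg c
  exact ⟨σ b, by rw [← hb, ← h]; rfl⟩

theorem isClosedImmersion_rho (n : ℕ) {κ : Type u} (idx : κ → Fin (n + 1))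
    (hidx : Function.Surjective idx) (k : κ) (S : Scheme.{u}) :
    IsClosedImmersion (rho n idx k S) := by
  haveI : IsClosedImmersion (toSpecOfHom (Dk n idx k) (psiD n idx k)) :=
    isClosedImmersion_toSpecOfHom _
      (Proj.isAffineOpen_basicOpen _ _ (MvPolynomial.isHomogeneous_X _ _) Nat.one_pos) _
      (psiD_surjective n idx hidx k)
  have sq1 := isPullback_morphismRestrict
    (pullback.fst (CohB1.ProjSpace.toSpec n (ULift.{u} ℤ)) (specULiftZIsTerminal.from S))
    (Dk n idx k)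
  have sq2 := IsPullback.of_hasPullback (CohB1.ProjSpace.toSpec n (ULift.{u} ℤ))
    (specULiftZIsTerminal.from S)
  have sq12 := sq1.paste_vert sq2
  have sq3 := IsPullback.of_hasPullback (affTo κ) (specULiftZIsTerminal.from S)
  have hρ2 : rho n idx k S ≫ pullback.snd (affTo κ) (specULiftZIsTerminal.from S) =
      ((pullback.fst (CohB1.ProjSpace.toSpec n (ULift.{u} ℤ)) (specULiftZIsTerminal.from S)) ⁻¹ᵁ
        Dk n idx k).ι ≫ pullback.snd _ _ := pullback.lift_snd _ _ _
  have hρ1 : rho n idx k S ≫ pullback.fst (affTo κ) (specULiftZIsTerminal.from S) =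
      (pullback.fst (CohB1.ProjSpace.toSpec n (ULift.{u} ℤ)) (specULiftZIsTerminal.from S) ∣_
        Dk n idx k) ≫ toSpecOfHom (Dk n idx k) (psiD n idx k) := pullback.lift_fst _ _ _
  have hc : toSpecOfHom (Dk n idx k) (psiD n idx k) ≫ affTo κ =
      (Dk n idx k).ι ≫ CohB1.ProjSpace.toSpec n (ULift.{u} ℤ) :=
    specULiftZIsTerminal.hom_ext _ _
  have big : IsPullback
      (pullback.fst (CohB1.ProjSpace.toSpec n (ULift.{u} ℤ)) (specULiftZIsTerminal.from S) ∣_
        Dk n idx k)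
      (rho n idx k S ≫ pullback.snd (affTo κ) (specULiftZIsTerminal.from S))
      (toSpecOfHom (Dk n idx k) (psiD n idx k) ≫ affTo κ) (specULiftZIsTerminal.from S) := by
    rw [hρ2, hc]
    exact sq12
  have sq := IsPullback.of_bot big hρ1.symm sq3
  exact MorphismProperty.of_isPullback (P := @IsClosedImmersion) sq inferInstance

end Closed

section ToPn

variable {X S : Scheme.{u}}

theorem isImmersion_of_cover' {X Z : Scheme.{u}} (i : X ⟶ Z) {κ : Type*} (W : κ → Z.Opens)
    (U : κ → X.Opens) (hUW : ∀ k, U k = i ⁻¹ᵁ W k)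
    (him : ∀ k, IsImmersion (i.resLE (W k) (U k) (hUW k).le))
    (hcov : ∀ x : X, ∃ k, x ∈ U k) : IsImmersion i := by
  haveI : MorphismProperty.RespectsRight @IsImmersion @IsOpenImmersion :=
    ⟨fun i hi f hf => by
      haveI : IsOpenImmersion i := hi
      haveI : IsImmersion f := hf
      exact (inferInstance : IsImmersion (f ≫ i))⟩
  refine IsZariskiLocalAtTarget.of_range_subset_iSup (P := @IsImmersion) W ?_ (fun k => ?_)
  · rintro _ ⟨x, rfl⟩
    obtain ⟨k, hk⟩ := hcov x
    rw [hUW k] at hk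
    exact Opens.mem_iSup.mpr ⟨k, hk⟩
  · have aux : ∀ (V : X.Opens) (hV : V = i ⁻¹ᵁ W k), IsImmersion (i.resLE (W k) V hV.le) →
        IsImmersion (i ∣_ W k) := by
      rintro V rfl h
      rwa [Scheme.Hom.resLE_eq_morphismRestrict] at h
    exact aux _ (hUW k) (him k)

theorem isRelVeryAmplePn_of_isVA' (f : X ⟶ S) {N : X.Modules} (h : IsVA' f N) :
    RelAmple.IsRelVeryAmplePn f N := by
  classical
  obtain ⟨κ, _, t, K, hcov, hK⟩ := h
  let c := Nat.card κ
  let e : κ ≃ Fin c := Finite.equivFin κ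
  let s : Fin (c + 1) → Γ(N, ⊤) :=
    Fin.snoc (α := fun _ => Γ(N, ⊤)) (fun j : Fin c => t (e.symm j)) 0
  have hs : ∀ k, s (Fin.castSucc (e k)) = t k := fun k => by
    simp only [s, Fin.snoc_castSucc, Equiv.symm_apply_apply]
  have hcov' : ∀ x : X, ∃ i, x ∈ locus N (s i) := fun x => by
    obtain ⟨k, -, hk⟩ := hcov x
    exact ⟨Fin.castSucc (e k), by rw [hs]; exact hk⟩
  obtain ⟨r, hr, τ, hτ⟩ := exists_hom_projSpace (R := ULift.{u} ℤ) c
    (specULiftZIsTerminal.from X) N s hcov'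
  let i : X ⟶ pullback (CohB1.ProjSpace.toSpec c (ULift.{u} ℤ)) (specULiftZIsTerminal.from S) :=
    pullback.lift r f (specULiftZIsTerminal.hom_ext _ _)
  have hi1 : i ≫ pullback.fst (CohB1.ProjSpace.toSpec c (ULift.{u} ℤ))
      (specULiftZIsTerminal.from S) = r := pullback.lift_fst _ _ _
  have hi2 : i ≫ pullback.snd (CohB1.ProjSpace.toSpec c (ULift.{u} ℤ))
      (specULiftZIsTerminal.from S) = f := pullback.lift_snd _ _ _
  refine ⟨c, i, ?_, hi2, ⟨?_⟩⟩
  · let idx : κ → Fin (c + 1) := fun k => Fin.castSucc (e k)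
    have hXv : ∀ j : Fin (c + 1), (MvPolynomial.X j : MvPolynomial (Fin (c + 1)) (ULift.{u} ℤ)) ∈
        CohB1.polyGrading c (ULift.{u} ℤ) 1 := fun j => MvPolynomial.isHomogeneous_X _ j
    have hD : ∀ k : κ, r ⁻¹ᵁ Dk c idx k = locus N (t k) := fun k =>
      preimage_basicOpen_eq_locus r (hasUnitFrac_projSpace _ c) τ (hXv _)
        ((hτ _).trans (hs k))
    have hUW : ∀ k : K, locus N (t k.1) =
        i ⁻¹ᵁ ((pullback.fst (CohB1.ProjSpace.toSpec c (ULift.{u} ℤ))
          (specULiftZIsTerminal.from S)) ⁻¹ᵁ Dk c idx k.1) := by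
      intro k
      rw [← Scheme.Hom.comp_preimage, hi1, hD]
    refine isImmersion_of_cover' i
      (fun k : K => (pullback.fst (CohB1.ProjSpace.toSpec c (ULift.{u} ℤ))
        (specULiftZIsTerminal.from S)) ⁻¹ᵁ Dk c idx k.1)
      (fun k => locus N (t k.1)) hUW (fun k => ?_) (fun x => ?_)
    · haveI : IsImmersion (chart f N t k.1) := hK k.1 k.2
      have e' : locus N (t k.1) ≤ (i ≫ pullback.fst (CohB1.ProjSpace.toSpec c (ULift.{u} ℤ))
          (specULiftZIsTerminal.from S)) ⁻¹ᵁ Dk c idx k.1 := (hUW k).le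
      have key : i.resLE _ _ (hUW k).le ≫ rho c idx k.1 S = chart f N t k.1 := by
        rw [resLE_rho c idx k.1 i _ _ e']
        refine eq_chart f N t k.1 _ _ (pullback.lift_fst _ _ _) ?_
          ((pullback.lift_snd _ _ _).trans (by rw [hi2]))
        intro k'
        rw [RingHom.comp_apply, psiD_X]
        have h3 := appLE_congr_hom hi1 (Dk c idx k.1) (locus N (t k.1)) e' (hD k.1).ge
        refine (congrArg (fun φ => φ.hom (fn (Dk c idx k.1) (MvPolynomial.X (idx k'))
          (MvPolynomial.X (idx k.1)))) h3).trans ?_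
        exact appLE_fn_eq_ratio r τ (hXv _) (hXv _) ((hτ _).trans (hs k.1))
          ((hτ _).trans (hs k')) _
      haveI : IsImmersion (i.resLE _ _ (hUW k).le ≫ rho c idx k.1 S) := by
        rw [key]
        infer_instance
      exact IsImmersion.of_comp _ (rho c idx k.1 S)
    · obtain ⟨k, hk, hx⟩ := hcov x
      exact ⟨⟨k, hk⟩, hx⟩
  · exact τ.symm ≪≫ ((pullbackCongr hi1).app _).symm ≪≫
      ((pullbackComp i (pullback.fst (CohB1.ProjSpace.toSpec c (ULift.{u} ℤ))
        (specULiftZIsTerminal.from S))).app _).symm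

theorem isVA'_of_isRelVeryAmplePn (f : X ⟶ S) {N : X.Modules}
    (h : RelAmple.IsRelVeryAmplePn f N) : IsVA' f N := by
  obtain ⟨n, i₀, hi, hf, ⟨τ₀⟩⟩ := h
  let i : X ⟶ pullback (CohB1.ProjSpace.toSpec n (ULift.{u} ℤ)) (specULiftZIsTerminal.from S) := i₀
  haveI : IsImmersion i := hi
  let r : X ⟶ CohB1.ProjSpace n (ULift.{u} ℤ) :=
    i ≫ pullback.fst (CohB1.ProjSpace.toSpec n (ULift.{u} ℤ)) (specULiftZIsTerminal.from S)
  let τ : (Scheme.Modules.pullback r).obj
      (Twist.twist (CohB1.polyGrading n (ULift.{u} ℤ)) ((1 : ℕ) : ℤ)) ≅ N :=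
    ((pullbackComp i (pullback.fst (CohB1.ProjSpace.toSpec n (ULift.{u} ℤ))
      (specULiftZIsTerminal.from S))).app _).symm ≪≫ τ₀.symm
  let idx : ULift.{u} (Fin (n + 1)) → Fin (n + 1) := ULift.down
  have hXv : ∀ j : Fin (n + 1), (MvPolynomial.X j : MvPolynomial (Fin (n + 1)) (ULift.{u} ℤ)) ∈
      CohB1.polyGrading n (ULift.{u} ℤ) 1 := fun j => MvPolynomial.isHomogeneous_X _ j
  let t : ULift.{u} (Fin (n + 1)) → Γ(N, ⊤) := fun k => τ.hom.app ⊤
    (gpull r (Twist.twist (CohB1.polyGrading n (ULift.{u} ℤ)) ((1 : ℕ) : ℤ))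
      (gsec (⟨MvPolynomial.X k.down, hXv _⟩ : CohB1.polyGrading n (ULift.{u} ℤ) 1)))
  have hD : ∀ k, r ⁻¹ᵁ Dk n idx k = locus N (t k) := fun k =>
    preimage_basicOpen_eq_locus r (hasUnitFrac_projSpace _ n) τ (hXv _) rfl
  refine ⟨ULift.{u} (Fin (n + 1)), inferInstance, t, Set.univ, ?_, ?_⟩
  · intro x
    obtain ⟨j, hj⟩ := exists_mem_basicOpen_X (ULift.{u} ℤ) n (r x)
    exact ⟨⟨j⟩, trivial, by rw [← hD]; exact hj⟩
  · rintro k -
    have hUW : locus N (t k) ≤ i ⁻¹ᵁ ((pullback.fst (CohB1.ProjSpace.toSpec n (ULift.{u} ℤ))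
        (specULiftZIsTerminal.from S)) ⁻¹ᵁ Dk n idx k) := (hD k).ge
    have e' : locus N (t k) ≤ (i ≫ pullback.fst (CohB1.ProjSpace.toSpec n (ULift.{u} ℤ))
        (specULiftZIsTerminal.from S)) ⁻¹ᵁ Dk n idx k := (hD k).ge
    have key : i.resLE _ _ hUW ≫ rho n idx k S = chart f N t k := by
      rw [resLE_rho n idx k i _ hUW e']
      refine eq_chart f N t k _ _ (pullback.lift_fst _ _ _) ?_
        ((pullback.lift_snd _ _ _).trans (congrArg (fun g => (locus N (t k)).ι ≫ g) hf))
      intro k'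
      rw [RingHom.comp_apply, psiD_X]
      exact appLE_fn_eq_ratio r τ (hXv _) (hXv _) rfl rfl _
    rw [← key]
    haveI := isClosedImmersion_rho n idx (fun j => ⟨⟨j⟩, rfl⟩) k S
    infer_instance

end ToPn

end Groth.Agent.Lib.Helper3.VAChart
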