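import Groth.Agent.Lib.Helper3.SymAlgLoc
import Groth.Agent.Lib.Helper3.AffExt
import Groth.Agent.Lib.Helper3.AffGr

/-!
# The symmetric algebra of a quasi-coherent module
-/

set_option autoImplicit false
set_option linter.unusedSectionVars false
universe u
open CategoryTheory CategoryTheory.Limits AlgebraicGeometry TopologicalSpace Opposite
open Scheme.Modules
open AlgebraicGeometry.Scheme AlgebraicGeometry.Scheme.AffineZariskiSite

namespace Groth.Agent.Lib.Helper3.SymSheaf

open QCSec InvGen HomMk SymAlgLoc AffExt AffGr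

variable {S : Scheme.{u}} (E : S.Modules)

/-- the symmetric algebra of the sections over an affine open -/
abbrev SA (U : S.AffineZariskiSite) : Type u := SymmetricAlgebra Γ(S, U.1) Γ(E, U.1)

/-- restriction of functions on the base -/
noncomputable abbrev θ {U V : S.AffineZariskiSite} (j : V ⟶ U) : Γ(S, U.1) →+* Γ(S, V.1) :=
  (S.presheaf.map (homOfLE (toOpens_mono j.le)).op).hom

/-- restriction of sections -/
noncomputable abbrev ρ {U V : S.AffineZariskiSite} (j : V ⟶ U) : Γ(E, U.1) →+ Γ(E, V.1) :=
  (E.presheaf.map (homOfLE (toOpens_mono j.le)).op).hom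

theorem ρ_smul {U V : S.AffineZariskiSite} (j : V ⟶ U) (r : Γ(S, U.1)) (m : Γ(E, U.1)) :
    ρ E j (r • m) = θ j r • ρ E j m :=
  res_smul E (toOpens_mono j.le) r m

/-- the transition maps -/
noncomputable def tUV {U V : S.AffineZariskiSite} (j : V ⟶ U) : SA E U →+* SA E V :=
  symMap (θ j) (ρ E j) (ρ_smul E j)

theorem tUV_ι {U V : S.AffineZariskiSite} (j : V ⟶ U) (m : Γ(E, U.1)) :
    tUV E j (SymmetricAlgebra.ι _ _ m) = SymmetricAlgebra.ι _ _ (ρ E j m) :=
  symMap_ι _ _ _ m

theorem tUV_algebraMap {U V : S.AffineZariskiSite} (j : V ⟶ U) (r : Γ(S, U.1)) :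
    tUV E j (algebraMap _ _ r) = algebraMap _ _ (θ j r) :=
  symMap_algebraMap _ _ _ r

/-- the functor on the affine site -/
noncomputable def F : S.AffineZariskiSiteᵒᵖ ⥤ CommRingCat.{u} where
  obj U := CommRingCat.of (SA E U.unop)
  map {U V} j := CommRingCat.ofHom (tUV E j.unop)
  map_id U := by
    refine CommRingCat.hom_ext ?_
    change tUV E (𝟙 U.unop) = RingHom.id _
    exact symMap_id' _ _ _ (fun r => rres_self _ r) (fun m => res_self E _ m)
  map_comp {U V W} j k := by
    refine CommRingCat.hom_ext ?_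
    change tUV E (k.unop ≫ j.unop) = (tUV E k.unop).comp (tUV E j.unop)
    exact symMap_comp _ _ _ _ _ _ _ _ _
      (fun r => (rres_rres _ _ r).symm) (fun m => (res_res E _ _ m).symm)

/-- the structure map -/
noncomputable def α : (toOpensFunctor S).op ⋙ S.presheaf ⟶ F E where
  app U := CommRingCat.ofHom (algebraMap Γ(S, U.unop.1) (SA E U.unop))
  naturality U V j := by
    refine CommRingCat.hom_ext (RingHom.ext fun c => ?_)
    exact (tUV_algebraMap E j.unop c).symm

theorem α_app (U : S.AffineZariskiSite) (c : Γ(S, U.1)) :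
    ((α E).app (op U)).hom c = algebraMap Γ(S, U.1) (SA E U) c := rfl

theorem F_map {U V : S.AffineZariskiSite} (j : V ⟶ U) (x : SA E U) :
    ((F E).map j.op).hom x = tUV E j x := rfl

variable [E.IsQuasicoherent]

theorem isLocalization_away (U : S.AffineZariskiSite) (s : Γ(S, U.1)) :
    letI := ((F E).map (homOfLE (U.basicOpen_le s)).op).hom.toAlgebra
    IsLocalization.Away ((α E).app (op U) s) ((F E).obj (op (U.basicOpen s))) := by
  have hloc : letI := (θ (homOfLE (U.basicOpen_le s))).toAlgebra
      IsLocalization.Away s Γ(S, (U.basicOpen s).1) :=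
    U.2.isLocalization_of_eq_basicOpen s (homOfLE (toOpens_mono (U.basicOpen_le s))) rfl
  have hls := isLocSec_of_isQuasicoherent E U.2 s (U.basicOpen s).1 rfl
    (toOpens_mono (U.basicOpen_le s))
  exact isLocalization_symMap (θ (homOfLE (U.basicOpen_le s))) (ρ E (homOfLE (U.basicOpen_le s)))
    (ρ_smul E _) s hloc
    (fun t => by
      obtain ⟨n, m, hm⟩ := hls.surj t
      exact ⟨n, m, hm⟩)
    (fun m hm => hls.inj m hm)

theorem coequifibered : (α E).Coequifibered :=
  coequifibered_iff_forall_isLocalizationAway.mpr (fun U s => isLocalization_away E U s)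

/-- the symmetric algebra as a quasi-coherent algebra -/
noncomputable def symAlg : RelSpec.QCAlg S := qcAlg (coequifibered E)

/-- sections over affine opens -/
noncomputable def epsU (U : S.AffineZariskiSite) :
    (symAlg E).presheaf.obj (op U.1) ≃+* SA E U :=
  eps (coequifibered E) U

theorem epsU_res {U V : S.AffineZariskiSite} (i : V ⟶ U)
    (x : (symAlg E).presheaf.obj (op U.1)) :
    epsU E V (((symAlg E).presheaf.map (homOfLE (toOpens_mono i.le)).op).hom x) =
      tUV E i (epsU E U x) :=
  eps_res (coequifibered E) i x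

theorem epsU_str (U : S.AffineZariskiSite) (r : Γ(S, U.1)) :
    epsU E U (((symAlg E).str.app (op U.1)).hom r) = algebraMap _ _ r :=
  eps_str (coequifibered E) U r

theorem epsU_symm_algebraMap (U : S.AffineZariskiSite) (r : Γ(S, U.1)) :
    (epsU E U).symm (algebraMap _ _ r) = ((symAlg E).str.app (op U.1)).hom r := by
  rw [← epsU_str, RingEquiv.symm_apply_apply]

/-- the components of `j` over the affine opens -/
noncomputable def jU (U : S.AffineZariskiSite) :
    Γ(E, U.1) →+ (symAlg E).presheaf.obj (op U.1) :=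
  ((epsU E U).symm.toAddMonoidHom).comp (SymmetricAlgebra.ι Γ(S, U.1) Γ(E, U.1)).toAddMonoidHom

theorem jU_apply (U : S.AffineZariskiSite) (e : Γ(E, U.1)) :
    jU E U e = (epsU E U).symm (SymmetricAlgebra.ι _ _ e) := rfl

theorem exists_j : ∃ j : E ⟶ (symAlg E).toModule,
    ∀ (U : S.AffineZariskiSite) (e : Γ(E, U.1)), j.app U.1 e = jU E U e := by
  refine exists_hom_of_affine (M := E) (N := (symAlg E).toModule) (jU E) ?_ ?_
  · intro U a e
    apply (epsU E U).injective
    change epsU E U (jU E U (a • e)) =
      epsU E U (((symAlg E).str.app (op U.1)).hom a * jU E U e)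
    rw [map_mul, epsU_str, jU_apply, jU_apply, RingEquiv.apply_symm_apply,
      RingEquiv.apply_symm_apply, LinearMap.map_smul, Algebra.smul_def]
  · intro U V i e
    apply (epsU E V).injective
    change epsU E V (((symAlg E).presheaf.map (homOfLE (toOpens_mono i.le)).op).hom (jU E U e)) =
      epsU E V (jU E V (ρ E i e))
    rw [epsU_res, jU_apply, jU_apply, RingEquiv.apply_symm_apply, RingEquiv.apply_symm_apply,
      tUV_ι]

/-- the universal map -/
noncomputable def j : E ⟶ (symAlg E).toModule := (exists_j E).choose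

theorem j_app (U : S.AffineZariskiSite) (e : Γ(E, U.1)) :
    (j E).app U.1 e = (epsU E U).symm (SymmetricAlgebra.ι _ _ e) :=
  (exists_j E).choose_spec U e

section univ

variable (B : RelSpec.QCAlg S) (φ : E ⟶ B.toModule)

/-- the local lift -/
noncomputable def liftU (U : S.AffineZariskiSite) : SA E U →+* B.presheaf.obj (op U.1) :=
  letI : Algebra Γ(S, U.1) (B.presheaf.obj (op U.1)) := (B.str.app (op U.1)).hom.toAlgebra
  (SymmetricAlgebra.lift (R := Γ(S, U.1)) (M := Γ(E, U.1)) (A := B.presheaf.obj (op U.1))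
    { toFun := fun e => φ.app U.1 e
      map_add' := fun e e' => map_add _ e e'
      map_smul' := fun a e => Scheme.Modules.Hom.app_smul φ a e }).toRingHom

theorem liftU_ι (U : S.AffineZariskiSite) (e : Γ(E, U.1)) :
    liftU E B φ U (SymmetricAlgebra.ι _ _ e) = φ.app U.1 e := by
  letI : Algebra Γ(S, U.1) (B.presheaf.obj (op U.1)) := (B.str.app (op U.1)).hom.toAlgebra
  exact SymmetricAlgebra.lift_ι_apply _ e

theorem liftU_algebraMap (U : S.AffineZariskiSite) (a : Γ(S, U.1)) :
    liftU E B φ U (algebraMap _ _ a) = (B.str.app (op U.1)).hom a := by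
  letI : Algebra Γ(S, U.1) (B.presheaf.obj (op U.1)) := (B.str.app (op U.1)).hom.toAlgebra
  exact AlgHom.commutes _ a

theorem liftU_res {U V : S.AffineZariskiSite} (i : V ⟶ U) (x : SA E U) :
    (B.presheaf.map (homOfLE (toOpens_mono i.le)).op).hom (liftU E B φ U x) =
      liftU E B φ V (tUV E i x) := by
  have h : (B.presheaf.map (homOfLE (toOpens_mono i.le)).op).hom.comp (liftU E B φ U) =
      (liftU E B φ V).comp (tUV E i) := by
    apply ringHom_ext
    · intro a
      rw [RingHom.comp_apply, RingHom.comp_apply, liftU_algebraMap, tUV_algebraMap,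
        liftU_algebraMap]
      exact congr($(B.str.naturality (homOfLE (toOpens_mono i.le)).op) a).symm
    · intro e
      rw [RingHom.comp_apply, RingHom.comp_apply, liftU_ι, tUV_ι, liftU_ι]
      exact (QCExact.app_res' φ (toOpens_mono i.le) e).symm
  exact congr($h x)

end univ

theorem isSymAlg : RelSpec.IsSymAlg E (symAlg E) (j E) := by
  intro B φ
  obtain ⟨ψ, hψ⟩ := exists_algHom_of_affine (A := symAlg E) (B := B)
    (fun U => (liftU E B φ U).comp (epsU E U).toRingHom)
    (fun U a => by
      change liftU E B φ U (epsU E U _) = _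
      rw [epsU_str, liftU_algebraMap])
    (fun {U V} i s => by
      change (B.presheaf.map (homOfLE (toOpens_mono i.le)).op).hom (liftU E B φ U (epsU E U s)) =
        liftU E B φ V (epsU E V _)
      rw [liftU_res E B φ i, epsU_res E i])
  refine ⟨ψ, ?_, ?_⟩
  · refine hom_ext_of_affine _ _ (fun U e => ?_)
    change (ψ.hom.app (op U.1)).hom ((j E).app U.1 e) = φ.app U.1 e
    rw [hψ, j_app]
    change liftU E B φ U (epsU E U ((epsU E U).symm _)) = _
    rw [RingEquiv.apply_symm_apply, liftU_ι]
  · intro ψ' hψ'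
    refine algHom_ext_of_affine _ _ (fun U s => ?_)
    rw [hψ]
    have h : (ψ'.hom.app (op U.1)).hom.comp (epsU E U).symm.toRingHom = liftU E B φ U := by
      apply ringHom_ext
      · intro a
        change (ψ'.hom.app (op U.1)).hom ((epsU E U).symm (algebraMap _ _ a)) = _
        rw [epsU_symm_algebraMap, liftU_algebraMap]
        exact congr($(NatTrans.congr_app ψ'.comm (op U.1)) a)
      · intro e
        change (ψ'.hom.app (op U.1)).hom ((epsU E U).symm (SymmetricAlgebra.ι _ _ e)) = _
        rw [← j_app, liftU_ι, ← hψ']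
        rfl
    change _ = liftU E B φ U (epsU E U s)
    rw [← h]
    change _ = (ψ'.hom.app (op U.1)).hom ((epsU E U).symm (epsU E U s))
    rw [RingEquiv.symm_apply_apply]

end Groth.Agent.Lib.Helper3.SymSheaf
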