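import Groth.Agent.S8255
import Groth.Agent.Lib.Helper3.QCAlgGen
import Groth.Agent.Lib.Helper3.SymSheaf
import Groth.Agent.Lib.Helper6.AffAlgHom
import Groth.Agent.Lib.Helper6.AffAlgBasic

/-!
# Affine morphisms of finite type embed into vector bundles
-/

set_option autoImplicit false
set_option linter.unusedSectionVars false
universe u
open CategoryTheory CategoryTheory.Limits AlgebraicGeometry TopologicalSpace Opposite
open Scheme.Modules
open AlgebraicGeometry.Scheme AlgebraicGeometry.Scheme.AffineZariskiSite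

namespace Groth.Agent.Lib.Helper3.AffEmb

open QCSec InvGen HomMk SymAlgLoc AffExt AffGr SymSheaf QCAlgGen

variable {X Y : Scheme.{u}}

/-- a morphism to a relative spectrum from a homomorphism of algebras -/
theorem exists_hom_to_spec (f : X ⟶ Y) [QuasiCompact f] [QuasiSeparated f]
    (A : RelSpec.QCAlg Y) (ψ : A ⟶ RelSpec.QCAlg.directImage f) :
    ∃ (i : X ⟶ A.spec) (w : i ≫ A.π = f),
      AffAlg.algHom A.π f i w = A.gammaMap ≫ ψ.hom := by
  have hω : A.π.c ≫ (A.gammaMap ≫ ψ.hom) = f.c := by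
    rw [← Category.assoc, A.π_c_gammaMap]
    exact ψ.comm
  obtain ⟨⟨i, w⟩, hi⟩ := (Groth.Agent.Lib.Helper6.AffAlgHom.algOf_bijective A.π f).2
    ⟨A.gammaMap ≫ ψ.hom, hω⟩
  exact ⟨i, w, congrArg Subtype.val hi⟩

/-- a morphism over the base between schemes affine over the base whose algebra homomorphism is
surjective over the affine opens is a closed immersion -/
theorem isClosedImmersion_of_surjective {X X' S : Scheme.{u}} (f : X ⟶ S) [IsAffineHom f]
    (f' : X' ⟶ S) [IsAffineHom f'] (h : X' ⟶ X) (w : h ≫ f = f')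
    (hsurj : ∀ U : S.affineOpens,
      Function.Surjective ((AffAlg.algHom f f' h w).app (op U.1)).hom) :
    IsClosedImmersion h := by
  have hcov := Groth.Agent.Lib.Helper6.iSup_preimage_affineOpens_eq_top f
  rw [HasAffineProperty.iff_of_iSup_eq_top (P := @IsClosedImmersion)
    (fun U : S.affineOpens =>
      ⟨f ⁻¹ᵁ U.1, (show IsAffineOpen U.1 from U.2).preimage f⟩) hcov]
  intro U
  refine ⟨?_, ?_⟩
  · have h1 : IsAffineOpen (f' ⁻¹ᵁ U.1) := (show IsAffineOpen U.1 from U.2).preimage f'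
    subst w
    exact h1
  · rw [morphismRestrict_appTop]
    refine @Groth.Agent.Lib.Helper6.surjective_comp_of_isIso _ _ _ _ _
      (Groth.Agent.Lib.Helper6.isIso_presheaf_map_eqToHom _) ?_
    refine Groth.Agent.Lib.Helper6.app_surjective_congr h
      (Scheme.Opens.ι_image_top (f ⁻¹ᵁ U.1)).symm ?_
    obtain ⟨e, he⟩ := Groth.Agent.Lib.Helper6.algHom_app_eq f f' h w U.1
    have hs := hsurj U
    rw [he] at hs
    exact Groth.Agent.Lib.Helper6.surjective_of_comp_iso _ _ hs

theorem finiteType_directImage (f : X ⟶ Y) [IsAffineHom f] [LocallyOfFiniteType f]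
    (U : Y.affineOpens) :
    ((RelSpec.QCAlg.directImage f).str.app (op (U : Y.Opens))).hom.FiniteType := by
  have h := HasRingHomProperty.appLE (P := @LocallyOfFiniteType) f inferInstance U
    ⟨f ⁻¹ᵁ U.1, U.2.preimage f⟩ le_rfl
  have e : f.appLE U.1 (f ⁻¹ᵁ U.1) le_rfl = f.app U.1 := (Scheme.Hom.app_eq_appLE f).symm
  rw [e] at h
  exact h

/-- **EGA II 1.7.5**: a scheme affine and of finite type over a quasi-compact quasi-separated
scheme is a closed subscheme of a vector bundle of finite type -/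
theorem exists_closedImmersion [CompactSpace Y] [QuasiSeparatedSpace Y] (f : X ⟶ Y)
    [IsAffineHom f] [LocallyOfFiniteType f] :
    ∃ (E : Y.Modules) (_ : Coh.IsCoh E) (A : RelSpec.QCAlg Y) (j : E ⟶ A.toModule)
      (_ : RelSpec.IsSymAlg E A j) (i : X ⟶ A.spec), IsClosedImmersion i ∧ i ≫ A.π = f := by
  obtain ⟨E, j₀, -, hEq, hEft, hgen⟩ := exists_generating_sub (RelSpec.QCAlg.directImage f)
    (finiteType_directImage f)
  haveI : E.IsQuasicoherent := hEq
  obtain ⟨ψ, hψ, -⟩ := isSymAlg E (RelSpec.QCAlg.directImage f) j₀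
  obtain ⟨i, w, hi⟩ := exists_hom_to_spec f (symAlg E) ψ
  refine ⟨E, ⟨hEq, hEft⟩, symAlg E, SymSheaf.j E, isSymAlg E, i, ?_, w⟩
  refine isClosedImmersion_of_surjective (symAlg E).π f i w (fun U => ?_)
  rw [hi, NatTrans.comp_app, (symAlg E).gammaMap_app U.1 U.2]
  haveI := Groth.Agent.S8255.isIso_gammaAff (symAlg E) U.1 U.2
  have hsurj : Function.Surjective (ψ.hom.app (op U.1)).hom := by
    rw [← RingHom.range_eq_top, eq_top_iff, ← hgen U.1 U.2]
    apply Subring.closure_le.mpr
    rintro y (⟨r, rfl⟩ | ⟨e, rfl⟩)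
    · exact ⟨((symAlg E).str.app (op U.1)).hom r,
        congr($(NatTrans.congr_app ψ.comm (op U.1)) r)⟩
    · refine ⟨(SymSheaf.j E).app U.1 e, ?_⟩
      have := congr($(hψ).app U.1 e)
      exact this
  exact hsurj.comp (ConcreteCategory.bijective_of_isIso ((symAlg E).gammaAff U.1 U.2)).2

end Groth.Agent.Lib.Helper3.AffEmb
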