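import Groth.Agent.Lib.Helper3.AffExt

/-!
# Extending morphisms from the affine opens, naturality only along basic opens
-/

set_option autoImplicit false
universe u
open CategoryTheory CategoryTheory.Limits AlgebraicGeometry TopologicalSpace Opposite
open Scheme.Modules
open AlgebraicGeometry.Scheme AlgebraicGeometry.Scheme.AffineZariskiSite

namespace Groth.Agent.Lib.Helper3.AffExtBasic

open QCSec InvGen HomMk

variable {S : Scheme.{u}}

/-- a family of additive maps on the affine opens which is natural along the inclusions of basic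
opens is natural along all inclusions of affine opens -/
theorem res_of_basic {M N : S.Modules}
    (D : ∀ (U : S.Opens) (_ : IsAffineOpen U), Γ(M, U) →+ Γ(N, U))
    (hres : ∀ (U : S.Opens) (hU : IsAffineOpen U) (r : Γ(S, U)) (s : Γ(M, U)),
      res N (S.basicOpen_le r) (D U hU s) =
        D (S.basicOpen r) (hU.basicOpen r) (res M (S.basicOpen_le r) s))
    {U V : S.Opens} (hU : IsAffineOpen U) (hV : IsAffineOpen V) (hVU : V ≤ U) (s : Γ(M, U)) :
    res N hVU (D U hU s) = D V hV (res M hVU s) := by
  have hres' : ∀ (U : S.Opens) (hU : IsAffineOpen U) (r : Γ(S, U)) (W : S.Opens)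
      (hW : IsAffineOpen W) (hWeq : W = S.basicOpen r) (hle : W ≤ U) (s : Γ(M, U)),
      res N hle (D U hU s) = D W hW (res M hle s) := by
    intro U hU r W hW hWeq hle s
    subst hWeq
    exact hres U hU r s
  have hloc : ∀ x : {x : S // x ∈ V}, ∃ (f : Γ(S, U)) (g : Γ(S, V)),
      S.basicOpen f = S.basicOpen g ∧ x.1 ∈ S.basicOpen f :=
    fun x => exists_basicOpen_le_affine_inter hU hV x.1 ⟨hVU x.2, x.2⟩
  choose f g hfg hx using hloc
  refine sec_eq_of_locally_eq N (fun x => S.basicOpen (g x)) V (fun x => S.basicOpen_le (g x))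
    (fun x hx' => Opens.mem_iSup.mpr ⟨⟨x, hx'⟩, by rw [← hfg]; exact hx _⟩) _ _ (fun x => ?_)
  rw [res_res, hres V hV (g x), res_res]
  exact hres' U hU (f x) (S.basicOpen (g x)) ((hV.basicOpen (g x))) (hfg x).symm _ s

/-- a family of additive maps on the affine opens, natural along the inclusions of basic opens,
extends to a morphism of modules -/
theorem exists_hom_of_affine_basic {M N : S.Modules}
    (D : ∀ (U : S.Opens) (_ : IsAffineOpen U), Γ(M, U) →+ Γ(N, U))
    (hsmul : ∀ (U : S.Opens) (hU : IsAffineOpen U) (a : Γ(S, U)) (s : Γ(M, U)),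
      D U hU (a • s) = a • D U hU s)
    (hres : ∀ (U : S.Opens) (hU : IsAffineOpen U) (r : Γ(S, U)) (s : Γ(M, U)),
      res N (S.basicOpen_le r) (D U hU s) =
        D (S.basicOpen r) (hU.basicOpen r) (res M (S.basicOpen_le r) s)) :
    ∃ φ : M ⟶ N, ∀ (U : S.Opens) (hU : IsAffineOpen U) (s : Γ(M, U)), φ.app U s = D U hU s := by
  obtain ⟨φ, hφ⟩ := AffExt.exists_hom_of_affine (M := M) (N := N) (fun U => D U.1 U.2)
    (fun U a s => hsmul U.1 U.2 a s)
    (fun {U V} i s => res_of_basic D hres U.2 V.2 (toOpens_mono i.le) s)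
  exact ⟨φ, fun U hU s => hφ ⟨U, hU⟩ s⟩

end Groth.Agent.Lib.Helper3.AffExtBasic
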