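import Groth.Agent.S8255
import Groth.Agent.Lib.Helper6.AffAlgHom

/-!
# The direct-image algebra of a fibre product of schemes affine over the base is the pushout
(EGA II 1.4.6 / 1.5.2)
-/

set_option autoImplicit false
universe u
open CategoryTheory CategoryTheory.Limits AlgebraicGeometry TopologicalSpace Opposite

namespace Groth.Agent.Lib.Helper3.AffPushout

open Groth.Agent.Lib.Helper6

variable {S : Scheme.{u}}

section AH

variable {T T' T'' : Scheme.{u}} (t : T ⟶ S) (t' : T' ⟶ S) (t'' : T'' ⟶ S)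

theorem algHom_comp (h : T' ⟶ T) (w : h ≫ t = t') (k : T'' ⟶ T') (w' : k ≫ t' = t'')
    (w'' : (k ≫ h) ≫ t = t'') :
    AffAlg.algHom t t' h w ≫ AffAlg.algHom t' t'' k w' = AffAlg.algHom t t'' (k ≫ h) w'' := by
  refine NatTrans.ext (funext fun U => ?_)
  obtain ⟨U⟩ := U
  have e₁ : t' ⁻¹ᵁ U ≤ h ⁻¹ᵁ t ⁻¹ᵁ U := by rw [← Scheme.Hom.comp_preimage, w]
  have e₂ : t'' ⁻¹ᵁ U ≤ k ⁻¹ᵁ t' ⁻¹ᵁ U := by rw [← Scheme.Hom.comp_preimage, w']
  have e₃ : t'' ⁻¹ᵁ U ≤ (k ≫ h) ⁻¹ᵁ t ⁻¹ᵁ U := by rw [← Scheme.Hom.comp_preimage, w'']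
  rw [NatTrans.comp_app, AffAlgHom.algHom_app_appLE t t' h w U e₁,
    AffAlgHom.algHom_app_appLE t' t'' k w' U e₂,
    AffAlgHom.algHom_app_appLE t t'' (k ≫ h) w'' U e₃, Scheme.Hom.appLE_comp_appLE]

variable [QuasiCompact t] [QuasiSeparated t] [QuasiCompact t'] [QuasiSeparated t']
  [QuasiCompact t''] [QuasiSeparated t'']

/-- the homomorphism of direct-image algebras induced by a morphism over the base -/
noncomputable def AH (h : T' ⟶ T) (w : h ≫ t = t') :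
    RelSpec.QCAlg.directImage t ⟶ RelSpec.QCAlg.directImage t' :=
  ⟨AffAlg.algHom t t' h w, AffAlg.algHom_comm t t' h w⟩

theorem AH_comp (h : T' ⟶ T) (w : h ≫ t = t') (k : T'' ⟶ T') (w' : k ≫ t' = t'') :
    AH t t' h w ≫ AH t' t'' k w' =
      AH t t'' (k ≫ h) ((Category.assoc k h t).trans ((congrArg (k ≫ ·) w).trans w')) :=
  RelSpec.QCAlg.hom_ext (algHom_comp t t' t'' h w k w'
    ((Category.assoc k h t).trans ((congrArg (k ≫ ·) w).trans w')))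

theorem AH_congr {h h' : T' ⟶ T} (e : h = h') (w : h ≫ t = t') (w' : h' ≫ t = t') :
    AH t t' h w = AH t t' h' w' := by
  subst e
  rfl

end AH

section bij

variable {T₀ T : Scheme.{u}} (t : T₀ ⟶ S) [IsAffineHom t] (τ : T ⟶ S) [QuasiCompact τ]
  [QuasiSeparated τ]

theorem exists_AH_eq (c : RelSpec.QCAlg.directImage t ⟶ RelSpec.QCAlg.directImage τ) :
    ∃ (h : T ⟶ T₀) (w : h ≫ t = τ), AH t τ h w = c := by
  obtain ⟨⟨h, w⟩, e⟩ := (AffAlgHom.algOf_bijective t τ).2 ⟨c.hom, c.comm⟩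
  exact ⟨h, w, RelSpec.QCAlg.hom_ext (congrArg Subtype.val e)⟩

theorem eq_of_AH_eq {h h' : T ⟶ T₀} {w : h ≫ t = τ} {w' : h' ≫ t = τ}
    (e : AH t τ h w = AH t τ h' w') : h = h' := by
  have := (AffAlgHom.algOf_bijective t τ).1
    (show AffAlg.algOf t τ ⟨h, w⟩ = AffAlg.algOf t τ ⟨h', w'⟩ from
      Subtype.ext (congrArg RelSpec.QCAlg.Hom.hom e))
  exact congrArg Subtype.val this

end bij

/-- a quasi-coherent algebra is the direct-image algebra of its relative spectrum -/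
instance isIso_gammaMap (C : RelSpec.QCAlg S) : IsIso C.gammaMap := Groth.Agent.S8255.result C

noncomputable def gammaIso (C : RelSpec.QCAlg S) : RelSpec.QCAlg.directImage C.π ≅ C :=
  { hom := ⟨C.gammaMap, C.π_c_gammaMap⟩
    inv := ⟨(inv C.gammaMap : C.presheaf ⟶ C.π.base _* C.spec.presheaf),
      show C.str ≫ (inv C.gammaMap : C.presheaf ⟶ C.π.base _* C.spec.presheaf) = C.π.c from
        (IsIso.comp_inv_eq C.gammaMap).mpr C.π_c_gammaMap.symm⟩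
    hom_inv_id := RelSpec.QCAlg.hom_ext (IsIso.hom_inv_id C.gammaMap)
    inv_hom_id := RelSpec.QCAlg.hom_ext (IsIso.inv_hom_id C.gammaMap) }

section core

variable {X X' Y Z T : Scheme.{u}} (g : Y ⟶ S) [IsAffineHom g]
  (f : X ⟶ Y) [IsAffineHom f] (f' : X' ⟶ Y) [IsAffineHom f'] (p : Z ⟶ X) (p' : Z ⟶ X')
  [IsAffineHom p] (hZ : IsPullback p p' f f') (w₂ : p' ≫ f' ≫ g = p ≫ f ≫ g)

include hZ in
theorem core (τ : T ⟶ S) [QuasiCompact τ] [QuasiSeparated τ]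
    (c₁ : RelSpec.QCAlg.directImage (f ≫ g) ⟶ RelSpec.QCAlg.directImage τ)
    (c₂ : RelSpec.QCAlg.directImage (f' ≫ g) ⟶ RelSpec.QCAlg.directImage τ)
    (hc : AH g (f ≫ g) f rfl ≫ c₁ = AH g (f' ≫ g) f' rfl ≫ c₂) :
    ∃ d : RelSpec.QCAlg.directImage (p ≫ f ≫ g) ⟶ RelSpec.QCAlg.directImage τ,
      (AH (f ≫ g) (p ≫ f ≫ g) p rfl ≫ d = c₁ ∧ AH (f' ≫ g) (p ≫ f ≫ g) p' w₂ ≫ d = c₂) ∧
      ∀ d', AH (f ≫ g) (p ≫ f ≫ g) p rfl ≫ d' = c₁ →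
        AH (f' ≫ g) (p ≫ f ≫ g) p' w₂ ≫ d' = c₂ → d' = d := by
  obtain ⟨h₁, w₁, rfl⟩ := exists_AH_eq (f ≫ g) τ c₁
  obtain ⟨h₂, w₂', rfl⟩ := exists_AH_eq (f' ≫ g) τ c₂
  rw [AH_comp, AH_comp] at hc
  have hY : h₁ ≫ f = h₂ ≫ f' := eq_of_AH_eq g τ hc
  have hk₁ : hZ.lift h₁ h₂ hY ≫ p = h₁ := hZ.lift_fst h₁ h₂ hY
  have hk₂ : hZ.lift h₁ h₂ hY ≫ p' = h₂ := hZ.lift_snd h₁ h₂ hY
  have wk : hZ.lift h₁ h₂ hY ≫ p ≫ f ≫ g = τ := by
    rw [← Category.assoc, hk₁]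
    exact w₁
  refine ⟨AH (p ≫ f ≫ g) τ (hZ.lift h₁ h₂ hY) wk, ⟨?_, ?_⟩, ?_⟩
  · rw [AH_comp]
    exact AH_congr _ _ hk₁ _ _
  · rw [AH_comp]
    exact AH_congr _ _ hk₂ _ _
  · intro d' h1 h2
    obtain ⟨k', wk', rfl⟩ := exists_AH_eq (p ≫ f ≫ g) τ d'
    rw [AH_comp] at h1 h2
    have e1 : k' ≫ p = h₁ := eq_of_AH_eq (f ≫ g) τ h1
    have e2 : k' ≫ p' = h₂ := eq_of_AH_eq (f' ≫ g) τ h2
    have e3 : k' = hZ.lift h₁ h₂ hY := hZ.hom_ext (e1.trans hk₁.symm) (e2.trans hk₂.symm)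
    exact AH_congr _ _ e3 _ _

include hZ in
/-- **EGA II 1.5.2**, algebra form -/
theorem isPushout :
    IsPushout (AH g (f ≫ g) f rfl) (AH g (f' ≫ g) f' rfl) (AH (f ≫ g) (p ≫ f ≫ g) p rfl)
      (AH (f' ≫ g) (p ≫ f ≫ g) p' w₂) := by
  have hcomm : AH g (f ≫ g) f rfl ≫ AH (f ≫ g) (p ≫ f ≫ g) p rfl =
      AH g (f' ≫ g) f' rfl ≫ AH (f' ≫ g) (p ≫ f ≫ g) p' w₂ := by
    rw [AH_comp, AH_comp]
    exact AH_congr _ _ hZ.w _ _
  have key : ∀ s : PushoutCocone (AH g (f ≫ g) f rfl) (AH g (f' ≫ g) f' rfl),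
      ∃ d : RelSpec.QCAlg.directImage (p ≫ f ≫ g) ⟶ s.pt,
        (AH (f ≫ g) (p ≫ f ≫ g) p rfl ≫ d = s.inl ∧
          AH (f' ≫ g) (p ≫ f ≫ g) p' w₂ ≫ d = s.inr) ∧
        ∀ d', AH (f ≫ g) (p ≫ f ≫ g) p rfl ≫ d' = s.inl →
          AH (f' ≫ g) (p ≫ f ≫ g) p' w₂ ≫ d' = s.inr → d' = d := by
    intro s
    obtain ⟨d, ⟨h1, h2⟩, hu⟩ := core g f f' p p' hZ w₂ s.pt.π
      (s.inl ≫ (gammaIso s.pt).inv) (s.inr ≫ (gammaIso s.pt).inv)
      (by rw [← Category.assoc, ← Category.assoc, s.condition])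
    refine ⟨d ≫ (gammaIso s.pt).hom, ⟨?_, ?_⟩, fun d' h1' h2' => ?_⟩
    · rw [← Category.assoc, h1, Category.assoc, Iso.inv_hom_id, Category.comp_id]
    · rw [← Category.assoc, h2, Category.assoc, Iso.inv_hom_id, Category.comp_id]
    · have := hu (d' ≫ (gammaIso s.pt).inv) (by rw [← Category.assoc, h1'])
        (by rw [← Category.assoc, h2'])
      rw [← this, Category.assoc, Iso.inv_hom_id, Category.comp_id]
  choose desc hfac huniq using key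
  exact ⟨⟨hcomm⟩, ⟨PushoutCocone.IsColimit.mk hcomm desc (fun s => (hfac s).1)
    (fun s => (hfac s).2) (fun s m h1 h2 => huniq s m h1 h2)⟩⟩

end core

end Groth.Agent.Lib.Helper3.AffPushout
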