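import Groth.Agent.Lib.Helper3.RelGlueHom

/-!
# Gluing sections of a module on a scheme over `Y` from chartwise descriptions
-/

set_option autoImplicit false
set_option linter.unusedSectionVars false
universe u
open CategoryTheory CategoryTheory.Limits AlgebraicGeometry TopologicalSpace Opposite
open Scheme.Modules

namespace Groth.Agent.Lib.Helper3.RelGlueSec

open QCSec InvGen

variable {Y P : Scheme.{u}} (p : P ⟶ Y) {L : P.Modules}
  {T : ∀ (U : Y.Opens) (_ : IsAffineOpen U), P.Modules}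
  (lam : ∀ (U : Y.Opens) (hU : IsAffineOpen U), L ⟶ T U hU)
  (hbij : ∀ (U : Y.Opens) (hU : IsAffineOpen U) (V : P.Opens), V ≤ p ⁻¹ᵁ U →
    Function.Bijective ((lam U hU).app V))
  (W : P.Opens) (t : ∀ (U : Y.Opens) (hU : IsAffineOpen U), Γ(T U hU, W))

/-- the local definition of the glued section -/
noncomputable def Dsec (U : Y.Opens) (hU : IsAffineOpen U) (V : P.Opens) (hVW : V ≤ W)
    (hVU : V ≤ p ⁻¹ᵁ U) : Γ(L, V) :=
  (Equiv.ofBijective _ (hbij U hU V hVU)).symm (res (T U hU) hVW (t U hU))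

theorem Dsec_spec (U : Y.Opens) (hU : IsAffineOpen U) (V : P.Opens) (hVW : V ≤ W)
    (hVU : V ≤ p ⁻¹ᵁ U) :
    (lam U hU).app V (Dsec p lam hbij W t U hU V hVW hVU) = res (T U hU) hVW (t U hU) :=
  (Equiv.ofBijective _ (hbij U hU V hVU)).apply_symm_apply _

theorem Dsec_unique (U : Y.Opens) (hU : IsAffineOpen U) (V : P.Opens) (hVW : V ≤ W)
    (hVU : V ≤ p ⁻¹ᵁ U) (e : Γ(L, V)) (he : (lam U hU).app V e = res (T U hU) hVW (t U hU)) :
    e = Dsec p lam hbij W t U hU V hVW hVU :=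
  (hbij U hU V hVU).1 (he.trans (Dsec_spec p lam hbij W t U hU V hVW hVU).symm)

theorem Dsec_res (U : Y.Opens) (hU : IsAffineOpen U) {V V' : P.Opens} (h : V' ≤ V) (hVW : V ≤ W)
    (hVU : V ≤ p ⁻¹ᵁ U) :
    res L h (Dsec p lam hbij W t U hU V hVW hVU) =
      Dsec p lam hbij W t U hU V' (h.trans hVW) (h.trans hVU) := by
  refine Dsec_unique p lam hbij W t U hU V' _ _ _ ?_
  rw [QCExact.app_res', Dsec_spec, res_res]

theorem Dsec_congr (U₁ U₂ : Y.Opens) (h : U₁ = U₂) (hU₁ : IsAffineOpen U₁)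
    (hU₂ : IsAffineOpen U₂) (V : P.Opens) (hVW : V ≤ W) (hV₁ : V ≤ p ⁻¹ᵁ U₁)
    (hV₂ : V ≤ p ⁻¹ᵁ U₂) :
    Dsec p lam hbij W t U₁ hU₁ V hVW hV₁ = Dsec p lam hbij W t U₂ hU₂ V hVW hV₂ := by
  subst h
  rfl

variable (hbasic : ∀ (U : Y.Opens) (hU : IsAffineOpen U) (r : Γ(Y, U)) (V : P.Opens)
    (hVW : V ≤ W) (_ : V ≤ p ⁻¹ᵁ Y.basicOpen r) (e : Γ(L, V)),
    (lam U hU).app V e = res (T U hU) hVW (t U hU) →
      (lam (Y.basicOpen r) (hU.basicOpen r)).app V e =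
        res (T (Y.basicOpen r) (hU.basicOpen r)) hVW (t (Y.basicOpen r) (hU.basicOpen r)))

include hbasic in
theorem Dsec_basicOpen (U : Y.Opens) (hU : IsAffineOpen U) (r : Γ(Y, U)) (V : P.Opens)
    (hVW : V ≤ W) (hV : V ≤ p ⁻¹ᵁ Y.basicOpen r) :
    Dsec p lam hbij W t U hU V hVW (hV.trans (p.preimage_mono (Y.basicOpen_le r))) =
      Dsec p lam hbij W t (Y.basicOpen r) (hU.basicOpen r) V hVW hV :=
  Dsec_unique p lam hbij W t _ _ V hVW hV _
    (hbasic U hU r V hVW hV _ (Dsec_spec p lam hbij W t U hU V hVW _))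

include hbasic in
theorem Dsec_indep (U U' : Y.Opens) (hU : IsAffineOpen U) (hU' : IsAffineOpen U') (V : P.Opens)
    (hVW : V ≤ W) (hV : V ≤ p ⁻¹ᵁ U) (hV' : V ≤ p ⁻¹ᵁ U') :
    Dsec p lam hbij W t U hU V hVW hV = Dsec p lam hbij W t U' hU' V hVW hV' := by
  have h0 : Dsec p lam hbij W t U hU V hVW hV - Dsec p lam hbij W t U' hU' V hVW hV' = 0 := by
    refine ModBasis.eq_zero_of_locally_zero L V _ (fun x hx => ?_)
    obtain ⟨r, r', hrr', hxr⟩ := exists_basicOpen_le_affine_inter hU hU' (p x) ⟨hV hx, hV' hx⟩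
    have hV₁ : V ⊓ p ⁻¹ᵁ Y.basicOpen r ≤ p ⁻¹ᵁ Y.basicOpen r := inf_le_right
    have hV₁' : V ⊓ p ⁻¹ᵁ Y.basicOpen r ≤ p ⁻¹ᵁ Y.basicOpen r' := by
      rw [← hrr']
      exact inf_le_right
    refine ⟨V ⊓ p ⁻¹ᵁ Y.basicOpen r, inf_le_left, ⟨hx, hxr⟩, ?_⟩
    rw [res_sub, Dsec_res, Dsec_res, Dsec_basicOpen p lam hbij W t hbasic U hU r _ _ hV₁,
      Dsec_basicOpen p lam hbij W t hbasic U' hU' r' _ _ hV₁',
      Dsec_congr p lam hbij W t _ _ hrr' (hU.basicOpen r) (hU'.basicOpen r') _ _ hV₁ hV₁',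
      sub_self]
  exact sub_eq_zero.mp h0

include hbij hbasic in
/-- existence of the glued section -/
theorem exists_sec : ∃ e : Γ(L, W), ∀ (U : Y.Opens) (hU : IsAffineOpen U) (V : P.Opens)
    (hVW : V ≤ W), V ≤ p ⁻¹ᵁ U →
      (lam U hU).app V (res L hVW e) = res (T U hU) hVW (t U hU) := by
  let J := {V : P.Opens // RelTildeMap.Small p V ∧ V ≤ W}
  obtain ⟨e, he⟩ := sec_glue L (fun j : J => j.1) W (fun j => j.2.2)
    (by
      intro x hx
      obtain ⟨U, hU, hxU⟩ := ProjQMap.exists_affine_mem (p x)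
      exact Opens.mem_iSup.mpr ⟨⟨W ⊓ p ⁻¹ᵁ U, ⟨U, hU, inf_le_right⟩, inf_le_left⟩, ⟨hx, hxU⟩⟩)
    (fun j => Dsec p lam hbij W t j.2.1.choose j.2.1.choose_spec.1 j.1 j.2.2 j.2.1.choose_spec.2)
    (by
      intro i j
      rw [Dsec_res, Dsec_res]
      exact Dsec_indep p lam hbij W t hbasic _ _ _ _ _ _ _ _)
  refine ⟨e, fun U hU V hVW hVU => ?_⟩
  have h1 := he ⟨V, ⟨U, hU, hVU⟩, hVW⟩
  change res L hVW e = _ at h1
  rw [h1, Dsec_indep p lam hbij W t hbasic _ U _ hU V hVW _ hVU, Dsec_spec]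

include hbij in
/-- uniqueness of the glued section -/
theorem sec_unique (e e' : Γ(L, W))
    (h : ∀ (U : Y.Opens) (hU : IsAffineOpen U) (V : P.Opens) (hVW : V ≤ W), V ≤ p ⁻¹ᵁ U →
      (lam U hU).app V (res L hVW e) = (lam U hU).app V (res L hVW e')) : e = e' := by
  have h0 : e - e' = 0 := by
    refine ModBasis.eq_zero_of_locally_zero L W _ (fun x hx => ?_)
    obtain ⟨U, hU, hxU⟩ := ProjQMap.exists_affine_mem (p x)
    refine ⟨W ⊓ p ⁻¹ᵁ U, inf_le_left, ⟨hx, hxU⟩, ?_⟩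
    rw [res_sub, (hbij U hU _ inf_le_right).1 (h U hU _ inf_le_left inf_le_right), sub_self]
  exact sub_eq_zero.mp h0

end Groth.Agent.Lib.Helper3.RelGlueSec
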