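import Groth.Agent.Lib.Helper3.ModLimSec
import Groth.Agent.Lib.Helper3.RelGlueSec

/-!
# Gluing modules on a scheme over `Y` from modules given over the affine opens of `Y`
-/

set_option autoImplicit false
set_option linter.unusedSectionVars false
universe u
open CategoryTheory CategoryTheory.Limits AlgebraicGeometry TopologicalSpace Opposite
open Scheme.Modules

namespace Groth.Agent.Lib.Helper3.RelGlueMod

open QCSec InvGen

variable {Y P : Scheme.{u}}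

/-- glueing data: modules `T U` on `P` (thought of as living on `p⁻¹U`) for the affine opens `U`
of `Y`, with transition maps to basic opens -/
structure Data (p : P ⟶ Y) where
  T : ∀ (U : Y.Opens), IsAffineOpen U → P.Modules
  ν : ∀ (U : Y.Opens) (hU : IsAffineOpen U) (V : Y.Opens) (hV : IsAffineOpen V) (r : Γ(Y, U)),
    V = Y.basicOpen r → (T U hU ⟶ T V hV)
  supp : ∀ (U : Y.Opens) (hU : IsAffineOpen U) (W : P.Opens),
    Function.Bijective (res (T U hU) (inf_le_left : W ⊓ p ⁻¹ᵁ U ≤ W))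
  bij : ∀ (U : Y.Opens) (hU : IsAffineOpen U) (V : Y.Opens) (hV : IsAffineOpen V) (r : Γ(Y, U))
    (h : V = Y.basicOpen r) (W : P.Opens), W ≤ p ⁻¹ᵁ V →
      Function.Bijective ((ν U hU V hV r h).app W)
  indep : ∀ (U : Y.Opens) (hU : IsAffineOpen U) (V : Y.Opens) (hV : IsAffineOpen V)
    (r : Γ(Y, U)) (h : V = Y.basicOpen r) (r' : Γ(Y, U)) (h' : V = Y.basicOpen r'),
      ν U hU V hV r h = ν U hU V hV r' h'
  cocycle : ∀ (U : Y.Opens) (hU : IsAffineOpen U) (V : Y.Opens) (hV : IsAffineOpen V)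
    (r : Γ(Y, U)) (h : V = Y.basicOpen r) (V' : Y.Opens) (hV' : IsAffineOpen V')
    (ρ : Γ(Y, V)) (h' : V' = Y.basicOpen ρ) (r' : Γ(Y, U)) (h'' : V' = Y.basicOpen r'),
      ν U hU V hV r h ≫ ν V hV V' hV' ρ h' = ν U hU V' hV' r' h''

variable {p : P ⟶ Y} (D : Data p)

/-- the shape of the diagram -/
def shape (Y : Scheme.{u}) : MulticospanShape.{u, u} where
  L := {U : Y.Opens // IsAffineOpen U}
  R := Σ (U : {U : Y.Opens // IsAffineOpen U}) (V : {U : Y.Opens // IsAffineOpen U}),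
    {r : Γ(Y, U.1) // V.1 = Y.basicOpen r}
  fst b := b.1
  snd b := b.2.1

/-- the diagram -/
noncomputable def index : MulticospanIndex (shape Y) P.Modules where
  left U := D.T U.1 U.2
  right b := D.T b.2.1.1 b.2.1.2
  fst b := D.ν b.1.1 b.1.2 b.2.1.1 b.2.1.2 b.2.2.1 b.2.2.2
  snd _ := 𝟙 _

/-- the glued module -/
noncomputable def L : P.Modules := multiequalizer (index D)

/-- the projections -/
noncomputable def lam (U : Y.Opens) (hU : IsAffineOpen U) : L D ⟶ D.T U hU :=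
  Multiequalizer.ι (index D) ⟨U, hU⟩

theorem lam_comp (U : Y.Opens) (hU : IsAffineOpen U) (V : Y.Opens) (hV : IsAffineOpen V)
    (r : Γ(Y, U)) (h : V = Y.basicOpen r) :
    lam D U hU ≫ D.ν U hU V hV r h = lam D V hV :=
  (Multiequalizer.condition (index D) ⟨⟨U, hU⟩, ⟨V, hV⟩, ⟨r, h⟩⟩).trans (Category.comp_id _)

theorem lam_comp_apply (U : Y.Opens) (hU : IsAffineOpen U) (V : Y.Opens) (hV : IsAffineOpen V)
    (r : Γ(Y, U)) (h : V = Y.basicOpen r) (W : P.Opens) (σ : Γ(L D, W)) :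
    (D.ν U hU V hV r h).app W ((lam D U hU).app W σ) = (lam D V hV).app W σ := by
  have h1 : (lam D U hU ≫ D.ν U hU V hV r h).app W σ = (lam D V hV).app W σ := by
    rw [lam_comp]
  exact h1

theorem exists_sec (W : P.Opens) (x : ∀ (U : Y.Opens) (hU : IsAffineOpen U), Γ(D.T U hU, W))
    (hx : ∀ (U : Y.Opens) (hU : IsAffineOpen U) (V : Y.Opens) (hV : IsAffineOpen V)
      (r : Γ(Y, U)) (h : V = Y.basicOpen r), (D.ν U hU V hV r h).app W (x U hU) = x V hV) :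
    ∃ σ : Γ(L D, W), ∀ (U : Y.Opens) (hU : IsAffineOpen U), (lam D U hU).app W σ = x U hU := by
  obtain ⟨σ, hσ⟩ := ModLimSec.exists_section (index D) W (fun i => x i.1 i.2)
    (fun b => hx b.1.1 b.1.2 b.2.1.1 b.2.1.2 b.2.2.1 b.2.2.2)
  exact ⟨σ, fun U hU => hσ ⟨U, hU⟩⟩

theorem sec_ext (W : P.Opens) (σ σ' : Γ(L D, W))
    (h : ∀ (U : Y.Opens) (hU : IsAffineOpen U), (lam D U hU).app W σ = (lam D U hU).app W σ') :
    σ = σ' :=
  ModLimSec.section_ext (index D) W σ σ' (fun i => h i.1 i.2)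

theorem cocycle_apply (U : Y.Opens) (hU : IsAffineOpen U) (V : Y.Opens) (hV : IsAffineOpen V)
    (r : Γ(Y, U)) (h : V = Y.basicOpen r) (V' : Y.Opens) (hV' : IsAffineOpen V')
    (ρ : Γ(Y, V)) (h' : V' = Y.basicOpen ρ) (r' : Γ(Y, U)) (h'' : V' = Y.basicOpen r')
    (W : P.Opens) (s : Γ(D.T U hU, W)) :
    (D.ν V hV V' hV' ρ h').app W ((D.ν U hU V hV r h).app W s) =
      (D.ν U hU V' hV' r' h'').app W s := by
  have h1 : (D.ν U hU V hV r h ≫ D.ν V hV V' hV' ρ h').app W s =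
      (D.ν U hU V' hV' r' h'').app W s := by
    rw [D.cocycle U hU V hV r h V' hV' ρ h' r' h'']
  exact h1

/-- a basic open of a basic open is a basic open -/
theorem exists_basic_of_basic {U : Y.Opens} (hU : IsAffineOpen U) {V : Y.Opens} (r : Γ(Y, U))
    (h : V = Y.basicOpen r) (ρ : Γ(Y, V)) : ∃ r' : Γ(Y, U), Y.basicOpen ρ = Y.basicOpen r' := by
  subst h
  obtain ⟨f', hf'⟩ := hU.basicOpen_basicOpen_is_basicOpen r ρ
  exact ⟨f', hf'.symm⟩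

/-- two sections of `T U'` agree if they agree, locally on the base, after transition to basic
opens -/
theorem eq_of_locally (U' : Y.Opens) (hU' : IsAffineOpen U') (W : P.Opens)
    (a b : Γ(D.T U' hU', W))
    (h : ∀ z : P, z ∈ W ⊓ p ⁻¹ᵁ U' → ∃ (V : Y.Opens) (hV : IsAffineOpen V) (r : Γ(Y, U'))
      (hr : V = Y.basicOpen r), p z ∈ V ∧
        (D.ν U' hU' V hV r hr).app W a = (D.ν U' hU' V hV r hr).app W b) : a = b := by
  apply (D.supp U' hU' W).1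
  have h0 : res (D.T U' hU') (inf_le_left : W ⊓ p ⁻¹ᵁ U' ≤ W) a -
      res (D.T U' hU') (inf_le_left : W ⊓ p ⁻¹ᵁ U' ≤ W) b = 0 := by
    refine ModBasis.eq_zero_of_locally_zero _ _ _ (fun z hz => ?_)
    obtain ⟨V, hV, r, hr, hzV, hab⟩ := h z hz
    refine ⟨(W ⊓ p ⁻¹ᵁ U') ⊓ p ⁻¹ᵁ V, inf_le_left, ⟨hz, hzV⟩, ?_⟩
    rw [res_sub, res_res, res_res, sub_eq_zero]
    apply (D.bij U' hU' V hV r hr _ inf_le_right).1
    rw [QCExact.app_res', QCExact.app_res', hab]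
  exact sub_eq_zero.mp h0

section main

variable (U₀ : Y.Opens) (hU₀ : IsAffineOpen U₀) (W : P.Opens) (t : Γ(D.T U₀ hU₀, W))

/-- `s` is the translate of `t` to the chart over `U'` -/
def Good (U' : Y.Opens) (hU' : IsAffineOpen U') (s : Γ(D.T U' hU', W)) : Prop :=
  ∀ (V : Y.Opens) (hV : IsAffineOpen V) (r₀ : Γ(Y, U₀)) (h₀ : V = Y.basicOpen r₀)
    (r' : Γ(Y, U')) (h' : V = Y.basicOpen r'),
    (D.ν U' hU' V hV r' h').app W s = (D.ν U₀ hU₀ V hV r₀ h₀).app W t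

theorem good_self : Good D U₀ hU₀ W t U₀ hU₀ t := by
  intro V hV r₀ h₀ r' h'
  rw [D.indep U₀ hU₀ V hV r' h' r₀ h₀]

variable {D U₀ hU₀ W t}

theorem Good.unique (hW : W ≤ p ⁻¹ᵁ U₀) {U' : Y.Opens} {hU' : IsAffineOpen U'}
    {s s' : Γ(D.T U' hU', W)} (hs : Good D U₀ hU₀ W t U' hU' s)
    (hs' : Good D U₀ hU₀ W t U' hU' s') : s = s' := by
  apply eq_of_locally D U' hU' W
  intro z hz
  obtain ⟨r₀, r', hrr', hzr⟩ := exists_basicOpen_le_affine_inter hU₀ hU' (p z) ⟨hW hz.1, hz.2⟩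
  refine ⟨Y.basicOpen r', hU'.basicOpen r', r', rfl, hrr' ▸ hzr, ?_⟩
  rw [hs _ _ r₀ hrr'.symm r' rfl, hs' _ _ r₀ hrr'.symm r' rfl]

theorem Good.trans {U' : Y.Opens} {hU' : IsAffineOpen U'}
    {s : Γ(D.T U' hU', W)} (hs : Good D U₀ hU₀ W t U' hU' s) (V' : Y.Opens)
    (hV' : IsAffineOpen V') (r' : Γ(Y, U')) (h' : V' = Y.basicOpen r') :
    Good D U₀ hU₀ W t V' hV' ((D.ν U' hU' V' hV' r' h').app W s) := by
  intro V'' hV'' r₀ h₀ ρ hρ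
  obtain ⟨r₃, hr₃⟩ := exists_basic_of_basic hU' r' h' ρ
  rw [cocycle_apply D U' hU' V' hV' r' h' V'' hV'' ρ hρ r₃ (hρ.trans hr₃) W s]
  exact hs V'' hV'' r₀ h₀ r₃ (hρ.trans hr₃)

variable (D U₀ hU₀ W t)

theorem exists_good (hW : W ≤ p ⁻¹ᵁ U₀) (U' : Y.Opens) (hU' : IsAffineOpen U') :
    ∃ s : Γ(D.T U' hU', W), Good D U₀ hU₀ W t U' hU' s := by
  classical
  let Z := {z : P // z ∈ W ⊓ p ⁻¹ᵁ U'}
  have hloc : ∀ z : Z, ∃ (r₀ : Γ(Y, U₀)) (r' : Γ(Y, U')),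
      Y.basicOpen r₀ = Y.basicOpen r' ∧ p z.1 ∈ Y.basicOpen r₀ :=
    fun z => exists_basicOpen_le_affine_inter hU₀ hU' (p z.1) ⟨hW z.2.1, z.2.2⟩
  choose r₀ r' hrr hz using hloc
  let Wz : Z → P.Opens := fun z => W ⊓ p ⁻¹ᵁ Y.basicOpen (r' z)
  let τ : ∀ z : Z, Γ(D.T (Y.basicOpen (r' z)) (hU'.basicOpen (r' z)), W) := fun z =>
    (D.ν U₀ hU₀ (Y.basicOpen (r' z)) (hU'.basicOpen (r' z)) (r₀ z) (hrr z).symm).app W t
  let σ : ∀ z : Z, Γ(D.T U' hU', Wz z) := fun z =>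
    (Equiv.ofBijective _ (D.bij U' hU' (Y.basicOpen (r' z)) (hU'.basicOpen (r' z)) (r' z) rfl
      (Wz z) inf_le_right)).symm
      (res (D.T (Y.basicOpen (r' z)) (hU'.basicOpen (r' z))) (inf_le_left : Wz z ≤ W) (τ z))
  have hσ : ∀ z : Z, (D.ν U' hU' (Y.basicOpen (r' z)) (hU'.basicOpen (r' z)) (r' z) rfl).app
      (Wz z) (σ z) =
        res (D.T (Y.basicOpen (r' z)) (hU'.basicOpen (r' z))) (inf_le_left : Wz z ≤ W) (τ z) :=
    fun z => (Equiv.ofBijective _ (D.bij U' hU' (Y.basicOpen (r' z)) (hU'.basicOpen (r' z))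
      (r' z) rfl (Wz z) inf_le_right)).apply_symm_apply _
  have key : ∀ (z : Z) (V'' : Y.Opens) (hV'' : IsAffineOpen V'')
      (ρ : Γ(Y, Y.basicOpen (r' z))) (hρ : V'' = Y.basicOpen ρ) (r₃ : Γ(Y, U'))
      (h₃ : V'' = Y.basicOpen r₃) (r₄ : Γ(Y, U₀)) (h₄ : V'' = Y.basicOpen r₄),
      (D.ν U' hU' V'' hV'' r₃ h₃).app (Wz z) (σ z) =
        res (D.T V'' hV'') (inf_le_left : Wz z ≤ W) ((D.ν U₀ hU₀ V'' hV'' r₄ h₄).app W t) := by
    intro z V'' hV'' ρ hρ r₃ h₃ r₄ h₄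
    rw [← cocycle_apply D U' hU' _ (hU'.basicOpen (r' z)) (r' z) rfl V'' hV'' ρ hρ r₃ h₃
      (Wz z) (σ z), hσ z, QCExact.app_res',
      cocycle_apply D U₀ hU₀ _ (hU'.basicOpen (r' z)) (r₀ z) (hrr z).symm V'' hV'' ρ hρ r₄ h₄
        W t]
  have hWz : ∀ z : Z, Wz z ≤ W ⊓ p ⁻¹ᵁ U' := fun z =>
    inf_le_inf_left W (p.preimage_mono (Y.basicOpen_le (r' z)))
  have hcov : W ⊓ p ⁻¹ᵁ U' ≤ ⨆ z, Wz z := fun q hq =>
    Opens.mem_iSup.mpr ⟨⟨q, hq⟩, hq.1, (hrr ⟨q, hq⟩) ▸ hz ⟨q, hq⟩⟩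
  have hcompat : ∀ z z' : Z, res (D.T U' hU') (inf_le_left : Wz z ⊓ Wz z' ≤ Wz z) (σ z) =
      res (D.T U' hU') (inf_le_right : Wz z ⊓ Wz z' ≤ Wz z') (σ z') := by
    intro z z'
    apply eq_of_locally D U' hU' (Wz z ⊓ Wz z')
    intro q hq
    obtain ⟨ρ₁, ρ₂, hρρ, hqρ⟩ := exists_basicOpen_le_affine_inter (hU'.basicOpen (r' z))
      (hU'.basicOpen (r' z')) (p q) ⟨hq.1.1.2, hq.1.2.2⟩
    obtain ⟨r₃, hr₃⟩ := exists_basic_of_basic hU' (r' z) rfl ρ₁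
    obtain ⟨r₄, hr₄⟩ := exists_basic_of_basic hU₀ (r₀ z) (hrr z).symm ρ₁
    refine ⟨Y.basicOpen ρ₁, (hU'.basicOpen (r' z)).basicOpen ρ₁, r₃, hr₃, hqρ, ?_⟩
    rw [QCExact.app_res', QCExact.app_res',
      key z _ ((hU'.basicOpen (r' z)).basicOpen ρ₁) ρ₁ rfl r₃ hr₃ r₄ hr₄,
      key z' _ ((hU'.basicOpen (r' z)).basicOpen ρ₁) ρ₂ hρρ r₃ hr₃ r₄ hr₄, res_res, res_res]
  obtain ⟨s', hs'⟩ := sec_glue (D.T U' hU') Wz (W ⊓ p ⁻¹ᵁ U') hWz hcov σ hcompat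
  obtain ⟨s, hs⟩ := (D.supp U' hU' W).2 s'
  refine ⟨s, ?_⟩
  intro V hV r₀' h₀' r'' h''
  apply eq_of_locally D V hV W
  intro q hq
  have hVU' : V ≤ U' := h'' ▸ Y.basicOpen_le r''
  let z : Z := ⟨q, hq.1, hVU' hq.2⟩
  obtain ⟨ρ₁, ρ₂, hρρ, hqρ⟩ := exists_basicOpen_le_affine_inter hV
    (hU'.basicOpen (r' z)) (p q) ⟨hq.2, (hrr z) ▸ hz z⟩
  obtain ⟨r₃, hr₃⟩ := exists_basic_of_basic hU' r'' h'' ρ₁
  obtain ⟨r₄, hr₄⟩ := exists_basic_of_basic hU₀ r₀' h₀' ρ₁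
  refine ⟨Y.basicOpen ρ₁, hV.basicOpen ρ₁, ρ₁, rfl, hqρ, ?_⟩
  rw [cocycle_apply D U' hU' V hV r'' h'' _ (hV.basicOpen ρ₁) ρ₁ rfl r₃ hr₃ W s,
    cocycle_apply D U₀ hU₀ V hV r₀' h₀' _ (hV.basicOpen ρ₁) ρ₁ rfl r₄ hr₄ W t]
  apply (D.supp _ (hV.basicOpen ρ₁) W).1
  have hle : W ⊓ p ⁻¹ᵁ Y.basicOpen ρ₁ ≤ Wz z :=
    inf_le_inf_left W (p.preimage_mono (hρρ ▸ Y.basicOpen_le ρ₂))
  have h1 : res (D.T U' hU') (inf_le_left : W ⊓ p ⁻¹ᵁ Y.basicOpen ρ₁ ≤ W) s =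
      res (D.T U' hU') hle (σ z) := by
    rw [← hs' z, ← hs, res_res, res_res]
  rw [← QCExact.app_res', h1, QCExact.app_res',
    key z _ (hV.basicOpen ρ₁) ρ₂ hρρ r₃ hr₃ r₄ hr₄, res_res]

/-- the projection to the chart over `U₀` is bijective on sections over opens of `p⁻¹U₀` -/
theorem bijective_lam (hW : W ≤ p ⁻¹ᵁ U₀) : Function.Bijective ((lam D U₀ hU₀).app W) := by
  constructor
  · intro σ σ' hσ
    apply sec_ext D W
    intro U' hU'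
    have hg : ∀ τ : Γ(L D, W), Good D U₀ hU₀ W ((lam D U₀ hU₀).app W τ) U' hU'
        ((lam D U' hU').app W τ) := by
      intro τ V hV r₀ h₀ r' h'
      rw [lam_comp_apply, lam_comp_apply]
    have h1 := hg σ
    have h2 := hg σ'
    rw [← hσ] at h2
    exact Good.unique hW h1 h2
  · intro t
    choose s hs using exists_good D U₀ hU₀ W t hW
    obtain ⟨σ, hσ⟩ := exists_sec D W s (by
      intro U' hU' V hV r h
      exact Good.unique hW ((hs U' hU').trans V hV r h) (hs V hV))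
    refine ⟨σ, ?_⟩
    rw [hσ U₀ hU₀]
    exact Good.unique hW (hs U₀ hU₀) (good_self D U₀ hU₀ W t)

end main

end Groth.Agent.Lib.Helper3.RelGlueMod
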