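import Groth.Agent.Lib.Helper3.GrModQC
import Groth.Agent.Lib.Helper3.RelTilde
import Groth.Agent.Lib.Helper3.QCPush
import Groth.Agent.Lib.Helper3.QCExact

/-!
# Quasi-coherence of the modules `(ℳ(n))~` and `O(n)` on a relative Proj
-/

set_option autoImplicit false
set_option linter.unusedSectionVars false
universe u
open CategoryTheory CategoryTheory.Limits AlgebraicGeometry TopologicalSpace Opposite
open Scheme.Modules

namespace Groth.Agent.Lib.Helper3.RelTildeQC

open QCSec

/-- the localization property transfers along a morphism bijective on the two opens -/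
theorem isLocSec_of_bijective {X : Scheme.{u}} {F F' : X.Modules} (l : F ⟶ F') {V W : X.Opens}
    (hWV : W ≤ V) (g : Γ(X, V)) (bV : Function.Bijective (l.app V))
    (bW : Function.Injective (l.app W)) (h : IsLocSec F' V W hWV g) : IsLocSec F V W hWV g where
  surj t := by
    obtain ⟨n, s', hs'⟩ := h.surj (l.app W t)
    obtain ⟨s, rfl⟩ := bV.2 s'
    refine ⟨n, s, bW ?_⟩
    rw [QCExact.app_res', hs', Scheme.Modules.Hom.app_smul]
  inj s hs := by
    obtain ⟨n, hn⟩ := h.inj (l.app V s) (by rw [← QCExact.app_res', hs, map_zero])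
    refine ⟨n, bV.1 ?_⟩
    rw [Scheme.Modules.Hom.app_smul, hn, map_zero]

section chart

variable {P Q : Scheme.{u}} (e : Q ⟶ P) (T : Q.Modules) [T.IsQuasicoherent]

/-- a module identified, over the opens inside an affine open `V`, with the direct image of a
quasi-coherent module is quasi-coherent on the chart `V` -/
theorem isQuasicoherent_chart {F : P.Modules} (l : F ⟶ (Scheme.Modules.pushforward e).obj T)
    (V : P.Opens) (hV : IsAffineOpen V) (hVe : IsAffineOpen (e ⁻¹ᵁ V))
    (b : ∀ W : P.Opens, W ≤ V → Function.Bijective (l.app W)) :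
    (F.restrict hV.fromSpec).IsQuasicoherent := by
  apply isQuasicoherent_chart_of_isLocSec F hV
  intro g
  have hW : hV.fromSpec ''ᵁ (PrimeSpectrum.basicOpen g) = P.basicOpen g :=
    hV.fromSpec_image_basicOpen g
  refine isLocSec_of_bijective l _ g (b V le_rfl) (b _ (QS.image_le hV _)).1 ?_
  refine isLocSec_pushforward e T _ g (e.preimage_mono (QS.image_le hV _)) ?_
  exact isLocSec_of_isQuasicoherent T hVe (e.app V g) _
    (by rw [hW, Scheme.preimage_basicOpen]) _

end chart

section rel

variable {Y P : Scheme.{u}} {𝒮 : RelProj.QCGrAlg Y} (p : P ⟶ Y)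
  (chart : ∀ (U : Y.Opens) (hU : IsAffineOpen U),
    ((p ⁻¹ᵁ U : P.Opens) : Scheme.{u}) ≅ Proj (𝒮.deg U hU))

/-- a module on a relative Proj identified chartwise with quasi-coherent modules is
quasi-coherent -/
theorem isQuasicoherent_of_charts (T : ∀ (U : Y.Opens) (hU : IsAffineOpen U),
      (Proj (𝒮.deg U hU)).Modules)
    (hT : ∀ (U : Y.Opens) (hU : IsAffineOpen U), (T U hU).IsQuasicoherent) (F : P.Modules)
    (lam : ∀ (U : Y.Opens) (hU : IsAffineOpen U),
      F ⟶ (Scheme.Modules.pushforward (RelProj.emb p chart U hU)).obj (T U hU))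
    (hb : ∀ (U : Y.Opens) (hU : IsAffineOpen U) (W : P.Opens), W ≤ p ⁻¹ᵁ U →
      Function.Bijective ((lam U hU).app W)) :
    SheafOfModules.IsQuasicoherent (R := P.ringCatSheaf) F := by
  apply QCProps.isQuasicoherent_of_charts
  intro x
  obtain ⟨U, hU, d, hd, f, hf, V, hxV, -, hVU, hV⟩ :=
    RelTilde.exists_basic p chart ⊤ x trivial
  have hVe : IsAffineOpen (RelProj.emb p chart U hU ⁻¹ᵁ V) := by
    rw [hV]
    exact Proj.isAffineOpen_basicOpen (𝒮.deg U hU) f hf hd
  have hVaff : IsAffineOpen V := by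
    have e1 : RelProj.emb p chart U hU ''ᵁ (RelProj.emb p chart U hU ⁻¹ᵁ V) = V := by
      rw [Scheme.Hom.image_preimage_eq_opensRange_inf, ProjQMap.opensRange_emb]
      exact inf_eq_right.mpr hVU
    rw [← e1]
    exact hVe.image_of_isOpenImmersion _
  haveI := hT U hU
  exact ⟨V, hVaff, hxV, isQuasicoherent_chart (RelProj.emb p chart U hU) (T U hU) (lam U hU) V
    hVaff hVe (fun W hW => hb U hU W (hW.trans hVU))⟩

end rel

end Groth.Agent.Lib.Helper3.RelTildeQC
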