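import Groth.Agent.Lib.Helper3.TildeComap
import Groth.Agent.Lib.Helper3.RelGlueMod
import Groth.Agent.Lib.Helper3.RelTildeQC
import Groth.Prelude.Def_RelSpec2

/-!
# Glueing data for the module on `X` attached to a quasi-coherent `f_* O_X`-module (`f` affine)
-/

set_option autoImplicit false
set_option linter.unusedSectionVars false
universe u
open CategoryTheory CategoryTheory.Limits AlgebraicGeometry TopologicalSpace Opposite
open Scheme.Modules

namespace Groth.Agent.Lib.Helper3.AffTildeData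

section AT1
open QCSec StructureSheaf InvGen TildeComap

variable {X S : Scheme.{u}} (f : X ⟶ S) [IsAffineHom f]
  (M : AMod (RelSpec.QCAlg.directImage f))

/-- sections of `M` over `U` as a module over `Γ(X, f⁻¹U)` -/
noncomputable def NU (U : S.Opens) : ModuleCat.{u} Γ(X, f ⁻¹ᵁ U) :=
  @ModuleCat.of Γ(X, f ⁻¹ᵁ U) _ (M.val.obj (op U)) _ (M.val.obj (op U)).isModule

/-- the restriction homomorphism of rings -/
noncomputable def phi {U V : S.Opens} (h : V ≤ U) : Γ(X, f ⁻¹ᵁ U) ⟶ Γ(X, f ⁻¹ᵁ V) :=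
  X.presheaf.map (homOfLE (f.preimage_mono h)).op

/-- the restriction map of the module -/
noncomputable def rho {U V : S.Opens} (h : V ≤ U) : NU f M U →ₛₗ[(phi f h).hom] NU f M V where
  toFun m := (M.val.map (homOfLE h).op).hom m
  map_add' a b := map_add _ a b
  map_smul' a m := M.val.map_smul (homOfLE h).op a m

end AT1

section AT2
open QCSec StructureSheaf InvGen TildeComap

variable {X S : Scheme.{u}} (f : X ⟶ S) [IsAffineHom f]
  (M : AMod (RelSpec.QCAlg.directImage f))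

/-- the chart -/
noncomputable def jU (U : S.Opens) (hU : IsAffineOpen U) : Spec Γ(X, f ⁻¹ᵁ U) ⟶ X :=
  (hU.preimage f).fromSpec

instance (U : S.Opens) (hU : IsAffineOpen U) : IsOpenImmersion (jU f U hU) := by
  unfold jU; infer_instance

/-- the chart modules -/
noncomputable def T (U : S.Opens) (hU : IsAffineOpen U) : X.Modules :=
  (pushforward (jU f U hU)).obj (tilde (NU f M U))

theorem map_j {U V : S.Opens} (hU : IsAffineOpen U) (hV : IsAffineOpen V) (h : V ≤ U) :
    Spec.map (phi f h) ≫ jU f U hU = jU f V hV :=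
  (hU.preimage f).map_fromSpec (hV.preimage f) (homOfLE (f.preimage_mono h)).op

theorem j_comap {U V : S.Opens} (hU : IsAffineOpen U) (hV : IsAffineOpen V) (h : V ≤ U)
    (y : PrimeSpectrum Γ(X, f ⁻¹ᵁ V)) :
    (jU f U hU).base (PrimeSpectrum.comap (phi f h).hom y) = (jU f V hV).base y := by
  have := congrArg (fun g : Spec Γ(X, f ⁻¹ᵁ V) ⟶ X => g.base y) (map_j f hU hV h)
  exact this

theorem range_j (U : S.Opens) (hU : IsAffineOpen U) : (jU f U hU).opensRange = f ⁻¹ᵁ U :=
  (hU.preimage f).opensRange_fromSpec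

theorem j_mem (U : S.Opens) (hU : IsAffineOpen U) (y : Spec Γ(X, f ⁻¹ᵁ U)) :
    (jU f U hU).base y ∈ f ⁻¹ᵁ U := by
  have h : (jU f U hU).base y ∈ (jU f U hU).opensRange := ⟨y, rfl⟩
  exact (range_j f U hU).le h

/-- the transition morphisms -/
noncomputable def ν0 {U V : S.Opens} (hU : IsAffineOpen U) (hV : IsAffineOpen V) (h : V ≤ U) :
    T f M U hU ⟶ T f M V hV :=
  (pushforward (jU f U hU)).map (tc (phi f h) (rho f M h)) ≫
    (pushforwardComp (Spec.map (phi f h)) (jU f U hU)).hom.app _ ≫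
    (pushforwardCongr (map_j f hU hV h)).hom.app _

theorem val_ν0 {U V : S.Opens} (hU : IsAffineOpen U) (hV : IsAffineOpen V) (h : V ≤ U)
    (W : X.Opens) (t : Γ(tilde (NU f M U), jU f U hU ⁻¹ᵁ W))
    (y : PrimeSpectrum Γ(X, f ⁻¹ᵁ V)) (hy : (jU f V hV).base y ∈ W)
    (hy' : (jU f U hU).base (PrimeSpectrum.comap (phi f h).hom y) ∈ W) :
    val (N := NU f M V) (W := jU f V hV ⁻¹ᵁ W) ((ν0 f M hU hV h).app W t) ⟨y, hy⟩ =
      Localizations.comapFun (rho f M h) y
        (val (N := NU f M U) (W := jU f U hU ⁻¹ᵁ W) t ⟨_, hy'⟩) := rfl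

/-- the chart modules are supported over their charts -/
theorem supp (U : S.Opens) (hU : IsAffineOpen U) (W : X.Opens) :
    Function.Bijective (res (T f M U hU) (inf_le_left : W ⊓ f ⁻¹ᵁ U ≤ W)) := by
  constructor
  · intro s s' hss
    refine val_ext (N := NU f M U) (W := jU f U hU ⁻¹ᵁ W) (fun y => ?_)
    have hy : y.1 ∈ jU f U hU ⁻¹ᵁ (W ⊓ f ⁻¹ᵁ U) := ⟨y.2, j_mem f U hU y.1⟩
    exact congrArg (fun q => val (N := NU f M U) (W := jU f U hU ⁻¹ᵁ (W ⊓ f ⁻¹ᵁ U)) q ⟨y.1, hy⟩)
      hss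
  · intro s₁
    have hle : jU f U hU ⁻¹ᵁ W ≤ jU f U hU ⁻¹ᵁ (W ⊓ f ⁻¹ᵁ U) :=
      fun y hy => ⟨hy, j_mem f U hU y⟩
    refine ⟨res (tilde (NU f M U)) hle s₁, ?_⟩
    exact val_ext (N := NU f M U) (W := jU f U hU ⁻¹ᵁ (W ⊓ f ⁻¹ᵁ U)) (fun y => rfl)

end AT2

section AT3
open QCSec StructureSheaf InvGen TildeComap

variable {X S : Scheme.{u}} (f : X ⟶ S) [IsAffineHom f]
  (M : AMod (RelSpec.QCAlg.directImage f))

set_option maxHeartbeats 400000 in
/-- the transition morphisms are bijective on sections over opens lying over the basic open -/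
theorem bij (hM : Coh.IsQCoh ((AMod.toOS (RelSpec.QCAlg.directImage f)).obj M))
    {U V : S.Opens} (hU : IsAffineOpen U)
    (hV : IsAffineOpen V) (r : Γ(S, U)) (h : V = S.basicOpen r) (W : X.Opens)
    (hW : W ≤ f ⁻¹ᵁ V) :
    Function.Bijective ((ν0 f M hU hV (h.le.trans (S.basicOpen_le r))).app W) := by
  subst h
  have hle : S.basicOpen r ≤ U := S.basicOpen_le r
  haveI : IsOpenImmersion (Spec.map (phi f hle)) := by
    haveI : IsOpenImmersion (Spec.map (phi f hle) ≫ jU f U hU) := by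
      rw [map_j f hU hV hle]; infer_instance
    exact IsOpenImmersion.of_comp _ (jU f U hU)
  have hembz := j_comap f hU hV hle
  let c : Γ(X, f ⁻¹ᵁ U) := ((RelSpec.QCAlg.directImage f).str.app (op U)).hom r
  letI := ((RelSpec.QCAlg.directImage f).presheaf.map (homOfLE hle).op).hom.toAlgebra
  have hloc : IsLocalization.Away
      (((RelSpec.QCAlg.directImage f).str.app (op U)).hom r)
      ((RelSpec.QCAlg.directImage f).presheaf.obj (op (S.basicOpen r))) :=
    (RelSpec.QCAlg.directImage f).isQC U hU r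
  have hu : IsUnit ((phi f hle).hom c) :=
    IsLocalization.map_units
      (M := Submonoid.powers (((RelSpec.QCAlg.directImage f).str.app (op U)).hom r))
      ((RelSpec.QCAlg.directImage f).presheaf.obj (op (S.basicOpen r)))
      ⟨((RelSpec.QCAlg.directImage f).str.app (op U)).hom r, Submonoid.mem_powers _⟩
  have hsurj : ∀ b : Γ(X, f ⁻¹ᵁ S.basicOpen r), ∃ (k : ℕ) (a : Γ(X, f ⁻¹ᵁ U)),
      b * (phi f hle).hom c ^ k = (phi f hle).hom a := by
    intro b
    obtain ⟨⟨x, s, hs⟩, hxs⟩ := IsLocalization.surj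
      (Submonoid.powers (((RelSpec.QCAlg.directImage f).str.app (op U)).hom r))
      (show (RelSpec.QCAlg.directImage f).presheaf.obj (op (S.basicOpen r)) from b)
    obtain ⟨k, rfl⟩ := (Submonoid.mem_powers_iff _ _).mp hs
    refine ⟨k, x, ?_⟩
    change b * (phi f hle).hom (c ^ k) = (phi f hle).hom x at hxs
    rw [map_pow] at hxs
    exact hxs
  -- the module is the localization
  haveI : ((AMod.toOS (RelSpec.QCAlg.directImage f)).obj M).IsQuasicoherent := hM
  have hlocM := isLocSec_of_isQuasicoherent ((AMod.toOS (RelSpec.QCAlg.directImage f)).obj M)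
    hU r (S.basicOpen r) rfl hle
  have hρ : (phi f hle).hom c =
      ((RelSpec.QCAlg.directImage f).str.app (op (S.basicOpen r))).hom (rres S hle r) := by
    have := congrArg (fun φ => φ.hom r)
      ((RelSpec.QCAlg.directImage f).str.naturality (homOfLE hle).op)
    exact this.symm
  have hsurjM : ∀ x : NU f M (S.basicOpen r), ∃ (k : ℕ) (m : NU f M U),
      (phi f hle).hom c ^ k • x = rho f M hle m := by
    intro x
    obtain ⟨n, s, hs⟩ := hlocM.surj
      (show Γ((AMod.toOS (RelSpec.QCAlg.directImage f)).obj M, S.basicOpen r) from x)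
    have h1 : (rres S hle r ^ n •
        (show Γ((AMod.toOS (RelSpec.QCAlg.directImage f)).obj M, S.basicOpen r) from x) :
          Γ((AMod.toOS (RelSpec.QCAlg.directImage f)).obj M, S.basicOpen r)) =
        (show Γ((AMod.toOS (RelSpec.QCAlg.directImage f)).obj M, S.basicOpen r) from
          (((show Γ(X, f ⁻¹ᵁ S.basicOpen r) from
            ((RelSpec.QCAlg.directImage f).str.app (op (S.basicOpen r))).hom
            (rres S hle r ^ n))) • x : NU f M (S.basicOpen r))) := rfl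
    rw [h1, map_pow] at hs
    refine ⟨n, s, ?_⟩
    rw [hρ]
    exact hs.symm
  have hkerM : ∀ m : NU f M U, rho f M hle m = 0 → ∃ k : ℕ, c ^ k • m = 0 := by
    intro m hm
    obtain ⟨k, hk⟩ := hlocM.inj
      (show Γ((AMod.toOS (RelSpec.QCAlg.directImage f)).obj M, U) from m) hm
    refine ⟨k, ?_⟩
    have h1 : (r ^ k • (show Γ((AMod.toOS (RelSpec.QCAlg.directImage f)).obj M, U) from m) :
        Γ((AMod.toOS (RelSpec.QCAlg.directImage f)).obj M, U)) =
        (show Γ((AMod.toOS (RelSpec.QCAlg.directImage f)).obj M, U) from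
          (((show Γ(X, f ⁻¹ᵁ U) from
            ((RelSpec.QCAlg.directImage f).str.app (op U)).hom (r ^ k))) • m : NU f M U)) := rfl
    rw [h1, map_pow] at hk
    exact hk
  have hW' : ∀ x ∈ jU f U hU ⁻¹ᵁ W,
      ∃ y, PrimeSpectrum.comap (phi f hle).hom y = x := by
    intro x hx
    have h1 : (jU f U hU).base x ∈ (jU f (S.basicOpen r) hV).opensRange := by
      rw [range_j]
      exact hW hx
    obtain ⟨y, hy⟩ := h1
    refine ⟨y, ?_⟩
    apply (jU f U hU).isOpenEmbedding.injective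
    rw [hembz]
    exact hy
  have hb := tc_app_bijective (phi f hle) (rho f M hle) c hu hsurj hsurjM hkerM
    (jU f U hU ⁻¹ᵁ W) hW'
  constructor
  · intro t t' htt
    apply hb.1
    apply val_ext (N := NU f M (S.basicOpen r))
      (W := Spec.map (phi f hle) ⁻¹ᵁ (jU f U hU ⁻¹ᵁ W))
    rintro ⟨z, hz⟩
    have hz' : (jU f (S.basicOpen r) hV).base z ∈ W := by
      rw [← hembz]
      exact hz
    exact congrArg (fun q => val (N := NU f M (S.basicOpen r))
      (W := jU f (S.basicOpen r) hV ⁻¹ᵁ W) q ⟨z, hz'⟩) htt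
  · intro t₂
    have hle' : Spec.map (phi f hle) ⁻¹ᵁ (jU f U hU ⁻¹ᵁ W) ≤
        jU f (S.basicOpen r) hV ⁻¹ᵁ W := by
      intro z hz
      change (jU f (S.basicOpen r) hV).base z ∈ W
      rw [← hembz]
      exact hz
    obtain ⟨t, ht⟩ := hb.2 (res (tilde (NU f M (S.basicOpen r))) hle' t₂)
    refine ⟨t, ?_⟩
    apply val_ext (N := NU f M (S.basicOpen r)) (W := jU f (S.basicOpen r) hV ⁻¹ᵁ W)
    rintro ⟨y, hy⟩
    have hy2 : y ∈ Spec.map (phi f hle) ⁻¹ᵁ (jU f U hU ⁻¹ᵁ W) := by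
      change (jU f U hU).base (PrimeSpectrum.comap (phi f hle).hom y) ∈ W
      rw [hembz]
      exact hy
    exact congrArg (fun q => val (N := NU f M (S.basicOpen r))
      (W := Spec.map (phi f hle) ⁻¹ᵁ (jU f U hU ⁻¹ᵁ W)) q ⟨y, hy2⟩) ht

end AT3

section AT4
open QCSec StructureSheaf InvGen TildeComap

variable {X S : Scheme.{u}} (f : X ⟶ S) [IsAffineHom f]
  (M : AMod (RelSpec.QCAlg.directImage f))

theorem phi_phi_apply {U V V' : S.Opens} (h1 : V ≤ U) (h2 : V' ≤ V) (h3 : V' ≤ U)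
    (a : Γ(X, f ⁻¹ᵁ U)) : (phi f h2).hom ((phi f h1).hom a) = (phi f h3).hom a := by
  unfold phi
  rw [← CommRingCat.comp_apply, ← Functor.map_comp]
  rfl

theorem rho_rho_apply {U V V' : S.Opens} (h1 : V ≤ U) (h2 : V' ≤ V) (h3 : V' ≤ U)
    (m : NU f M U) : rho f M h2 (rho f M h1 m) = rho f M h3 m := by
  have := res_res ((AMod.toOS (RelSpec.QCAlg.directImage f)).obj M) h2 h1
    (show Γ((AMod.toOS (RelSpec.QCAlg.directImage f)).obj M, U) from m)
  exact this

theorem cocycle {U V V' : S.Opens}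
    (hU : IsAffineOpen U) (hV : IsAffineOpen V) (hV' : IsAffineOpen V') (h1 : V ≤ U)
    (h2 : V' ≤ V) (h3 : V' ≤ U) :
    ν0 f M hU hV h1 ≫ ν0 f M hV hV' h2 = ν0 f M hU hV' h3 := by
  apply Scheme.Modules.hom_ext
  intro W
  ext t
  apply val_ext (N := NU f M V') (W := jU f V' hV' ⁻¹ᵁ W)
  rintro ⟨y, hy⟩
  have hy' : (jU f V' hV').base y ∈ W := hy
  have m2 : (jU f U hU).base (PrimeSpectrum.comap (phi f h3).hom y) ∈ W := by
    rw [j_comap f hU hV' h3]
    exact hy'
  have m1 : (jU f U hU).base (PrimeSpectrum.comap (phi f h1).hom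
      (PrimeSpectrum.comap (phi f h2).hom y)) ∈ W := by
    rw [j_comap f hU hV h1, j_comap f hV hV' h2]
    exact hy'
  exact comapFun_comapFun_val (phi f h1) (rho f M h1) (phi f h2) (rho f M h2) (phi f h3)
    (rho f M h3) (fun a => phi_phi_apply f h1 h2 h3 a) (fun m => rho_rho_apply f M h1 h2 h3 m) y
    (W := jU f U hU ⁻¹ᵁ W) t m1 m2

/-- the glueing data -/
noncomputable def data (hM : Coh.IsQCoh ((AMod.toOS (RelSpec.QCAlg.directImage f)).obj M)) :
    RelGlueMod.Data f where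
  T U hU := T f M U hU
  ν _ hU _ hV r h := ν0 f M hU hV (h.le.trans (S.basicOpen_le r))
  supp U hU W := supp f M U hU W
  bij _ hU _ hV r h W hW := bij f M hM hU hV r h W hW
  indep _ _ _ _ _ _ _ _ := rfl
  cocycle _ hU _ hV _ _ _ hV' _ _ _ _ := cocycle f M hU hV hV' _ _ _

end AT4

end Groth.Agent.Lib.Helper3.AffTildeData
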