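import Groth.Agent.Lib.Helper3.AffTildeData

/-!
# Quasi-coherent `f_* O_X`-modules come from quasi-coherent modules on `X` (`f` affine)
-/

set_option autoImplicit false
set_option linter.unusedSectionVars false
universe u
open CategoryTheory CategoryTheory.Limits AlgebraicGeometry TopologicalSpace Opposite
open Scheme.Modules

namespace Groth.Agent.Lib.Helper3.AffTildeData

section AT5
open QCSec StructureSheaf InvGen TildeComap

variable {X S : Scheme.{u}} (f : X ⟶ S) [IsAffineHom f]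
  (M : AMod (RelSpec.QCAlg.directImage f))

/-- constant sections of the chart module -/
noncomputable def toSec (U : S.Opens) (hU : IsAffineOpen U) (W : X.Opens) (n : NU f M U) :
    Γ(T f M U hU, W) :=
  (show Γ(tilde (NU f M U), jU f U hU ⁻¹ᵁ W) from
    (tilde.toOpen (NU f M U) (jU f U hU ⁻¹ᵁ W)).hom n)

theorem val_toSec (U : S.Opens) (hU : IsAffineOpen U) (W : X.Opens) (n : NU f M U)
    (y : (jU f U hU ⁻¹ᵁ W : (Spec Γ(X, f ⁻¹ᵁ U)).Opens)) :
    val (N := NU f M U) (W := jU f U hU ⁻¹ᵁ W) (toSec f M U hU W n) y =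
      LocalizedModule.mk n 1 := rfl

theorem res_toSec (U : S.Opens) (hU : IsAffineOpen U) {W' W : X.Opens} (h : W' ≤ W)
    (n : NU f M U) : res (T f M U hU) h (toSec f M U hU W n) = toSec f M U hU W' n := rfl

theorem toSec_add (U : S.Opens) (hU : IsAffineOpen U) (W : X.Opens) (n n' : NU f M U) :
    toSec f M U hU W (n + n') = toSec f M U hU W n + toSec f M U hU W n' :=
  map_add (tilde.toOpen (NU f M U) (jU f U hU ⁻¹ᵁ W)).hom n n'

theorem ν0_toSec {U V : S.Opens} (hU : IsAffineOpen U) (hV : IsAffineOpen V) (h : V ≤ U)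
    (W : X.Opens) (n : NU f M U) :
    (ν0 f M hU hV h).app W (toSec f M U hU W n) = toSec f M V hV W (rho f M h n) := by
  apply val_ext (N := NU f M V) (W := jU f V hV ⁻¹ᵁ W)
  rintro ⟨y, hy⟩
  have hy' : (jU f U hU).base (PrimeSpectrum.comap (phi f h).hom y) ∈ W := by
    rw [j_comap f hU hV h]
    exact hy
  rw [val_ν0 f M hU hV h W _ y hy hy', val_toSec, val_toSec, Localizations.comapFun_mk]
  congr 1
  exact Subtype.ext (map_one _)

theorem toOpen_bijective_of_eq_top {R : CommRingCat.{u}} (N : ModuleCat.{u} R)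
    (W : (Spec R).Opens) (hW : W = ⊤) : Function.Bijective (tilde.toOpen N W).hom := by
  subst hW
  exact (ConcreteCategory.isIso_iff_bijective (tilde.toOpen N ⊤)).mp inferInstance

theorem toSec_bijective (U : S.Opens) (hU : IsAffineOpen U) :
    Function.Bijective (toSec f M U hU (f ⁻¹ᵁ U)) :=
  toOpen_bijective_of_eq_top (NU f M U) _ (hU.preimage f).fromSpec_preimage_self

theorem app_self_val (U : S.Opens) (hU : IsAffineOpen U) (b : Γ(X, f ⁻¹ᵁ U))
    (y : (jU f U hU ⁻¹ᵁ (f ⁻¹ᵁ U) : (Spec Γ(X, f ⁻¹ᵁ U)).Opens)) :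
    ((jU f U hU).app (f ⁻¹ᵁ U) b).1 y =
      algebraMap Γ(X, f ⁻¹ᵁ U) (Localizations Γ(X, f ⁻¹ᵁ U) y.1) b := by
  have h1 := congrArg (fun g => (g.hom b)) (hU.preimage f).fromSpec_app_self
  have h2 := congrArg (fun c => c.1 y) h1
  exact h2

theorem toSec_smul (U : S.Opens) (hU : IsAffineOpen U) (b : Γ(X, f ⁻¹ᵁ U)) (n : NU f M U) :
    toSec f M U hU (f ⁻¹ᵁ U) (b • n) = b • toSec f M U hU (f ⁻¹ᵁ U) n := by
  refine Eq.trans ?_ (PbTensor.pushforward_smul (jU f U hU) (tilde (NU f M U)) (f ⁻¹ᵁ U) b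
    (toSec f M U hU (f ⁻¹ᵁ U) n)).symm
  refine val_ext (N := NU f M U) (W := jU f U hU ⁻¹ᵁ (f ⁻¹ᵁ U)) (fun y => ?_)
  have e1 : val (N := NU f M U) (W := jU f U hU ⁻¹ᵁ (f ⁻¹ᵁ U))
      (((jU f U hU).app (f ⁻¹ᵁ U) b) •
        (show Γ(tilde (NU f M U), jU f U hU ⁻¹ᵁ (f ⁻¹ᵁ U)) from toSec f M U hU (f ⁻¹ᵁ U) n)) y =
      ((jU f U hU).app (f ⁻¹ᵁ U) b).1 y •
        (LocalizedModule.mk n 1 : Localizations (NU f M U) y.1) := rfl
  refine (val_toSec f M U hU (f ⁻¹ᵁ U) (b • n) y).trans (Eq.trans ?_ e1.symm)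
  rw [app_self_val, IsScalarTower.algebraMap_smul, LocalizedModule.smul'_mk]

end AT5

section AT6
open QCSec StructureSheaf InvGen TildeComap

variable {X S : Scheme.{u}} (f : X ⟶ S) [IsAffineHom f]
  (M : AMod (RelSpec.QCAlg.directImage f))
  (hM : Coh.IsQCoh ((AMod.toOS (RelSpec.QCAlg.directImage f)).obj M))

/-- the glued module -/
noncomputable def LM : X.Modules := RelGlueMod.L (data f M hM)

/-- the chart morphisms -/
noncomputable def lamM (U : S.Opens) (hU : IsAffineOpen U) : LM f M hM ⟶ T f M U hU :=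
  RelGlueMod.lam (data f M hM) U hU

theorem lamM_bijective (U : S.Opens) (hU : IsAffineOpen U) (W : X.Opens) (hW : W ≤ f ⁻¹ᵁ U) :
    Function.Bijective ((lamM f M hM U hU).app W) :=
  RelGlueMod.bijective_lam (data f M hM) U hU W hW

theorem lamM_comp_apply (U : S.Opens) (hU : IsAffineOpen U) (r : Γ(S, U)) (V : S.Opens)
    (hV : IsAffineOpen V) (h : V = S.basicOpen r) (W : X.Opens) (σ : Γ(LM f M hM, W)) :
    (ν0 f M hU hV (h.le.trans (S.basicOpen_le r))).app W ((lamM f M hM U hU).app W σ) =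
      (lamM f M hM V hV).app W σ :=
  RelGlueMod.lam_comp_apply (data f M hM) U hU V hV r h W σ

theorem isQuasicoherent_LM :
    SheafOfModules.IsQuasicoherent (R := X.ringCatSheaf) (LM f M hM) := by
  apply QCProps.isQuasicoherent_of_charts
  intro x
  obtain ⟨U, hU, hxU⟩ := QCProps.exists_affine_nbhd (f.base x)
  have hVe : IsAffineOpen (jU f U hU ⁻¹ᵁ (f ⁻¹ᵁ U)) := by
    rw [show jU f U hU ⁻¹ᵁ (f ⁻¹ᵁ U) = ⊤ from (hU.preimage f).fromSpec_preimage_self]
    exact isAffineOpen_top _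
  exact ⟨f ⁻¹ᵁ U, hU.preimage f, hxU,
    RelTildeQC.isQuasicoherent_chart (jU f U hU) (tilde (NU f M U)) (lamM f M hM U hU)
      (f ⁻¹ᵁ U) (hU.preimage f) hVe (fun W hW => lamM_bijective f M hM U hU W hW)⟩

/-- the identification of the sections of the glued module over `f⁻¹U` with `M(U)` -/
noncomputable def theta (U : S.Opens) (hU : IsAffineOpen U) (s : Γ(LM f M hM, f ⁻¹ᵁ U)) :
    NU f M U :=
  (Equiv.ofBijective _ (toSec_bijective f M U hU)).symm ((lamM f M hM U hU).app (f ⁻¹ᵁ U) s)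

theorem toSec_theta (U : S.Opens) (hU : IsAffineOpen U) (s : Γ(LM f M hM, f ⁻¹ᵁ U)) :
    toSec f M U hU (f ⁻¹ᵁ U) (theta f M hM U hU s) = (lamM f M hM U hU).app (f ⁻¹ᵁ U) s :=
  (Equiv.ofBijective _ (toSec_bijective f M U hU)).apply_symm_apply _

theorem theta_unique (U : S.Opens) (hU : IsAffineOpen U) (s : Γ(LM f M hM, f ⁻¹ᵁ U))
    (n : NU f M U) (h : toSec f M U hU (f ⁻¹ᵁ U) n = (lamM f M hM U hU).app (f ⁻¹ᵁ U) s) :
    theta f M hM U hU s = n :=
  (toSec_bijective f M U hU).1 ((toSec_theta f M hM U hU s).trans h.symm)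

theorem theta_add (U : S.Opens) (hU : IsAffineOpen U) (s s' : Γ(LM f M hM, f ⁻¹ᵁ U)) :
    theta f M hM U hU (s + s') = theta f M hM U hU s + theta f M hM U hU s' := by
  apply theta_unique
  rw [toSec_add, toSec_theta, toSec_theta, map_add]

theorem theta_smul (U : S.Opens) (hU : IsAffineOpen U) (b : Γ(X, f ⁻¹ᵁ U))
    (s : Γ(LM f M hM, f ⁻¹ᵁ U)) :
    theta f M hM U hU (b • s) = b • theta f M hM U hU s := by
  apply theta_unique
  rw [toSec_smul, toSec_theta, Scheme.Modules.Hom.app_smul]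

theorem theta_bijective (U : S.Opens) (hU : IsAffineOpen U) :
    Function.Bijective (theta f M hM U hU) :=
  (Equiv.ofBijective _ (toSec_bijective f M U hU)).symm.bijective.comp
    (lamM_bijective f M hM U hU (f ⁻¹ᵁ U) le_rfl)

theorem theta_res_basic (U : S.Opens) (hU : IsAffineOpen U) (r : Γ(S, U)) (V : S.Opens)
    (hV : IsAffineOpen V) (h : V = S.basicOpen r) (hle : V ≤ U) (s : Γ(LM f M hM, f ⁻¹ᵁ U)) :
    theta f M hM V hV (res (LM f M hM) (f.preimage_mono hle) s) =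
      rho f M hle (theta f M hM U hU s) := by
  apply theta_unique
  rw [← lamM_comp_apply f M hM U hU r V hV h, QCExact.app_res', ← toSec_theta, res_toSec,
    ν0_toSec]

end AT6

section AT7
open QCSec StructureSheaf InvGen TildeComap

variable {X S : Scheme.{u}} (f : X ⟶ S) [IsAffineHom f]
  (M : AMod (RelSpec.QCAlg.directImage f))
  (hM : Coh.IsQCoh ((AMod.toOS (RelSpec.QCAlg.directImage f)).obj M))

theorem theta_res (U : S.Opens) (hU : IsAffineOpen U) (V : S.Opens)
    (hV : IsAffineOpen V) (hle : V ≤ U) (s : Γ(LM f M hM, f ⁻¹ᵁ U)) :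
    theta f M hM V hV (res (LM f M hM) (f.preimage_mono hle) s) =
      rho f M hle (theta f M hM U hU s) := by
  have key : ∀ x : S, x ∈ V → ∃ (W : S.Opens) (hWV : W ≤ V), x ∈ W ∧
      rho f M hWV (theta f M hM V hV (res (LM f M hM) (f.preimage_mono hle) s)) =
        rho f M hWV (rho f M hle (theta f M hM U hU s)) := by
    intro x hx
    obtain ⟨a, a', e, hxa⟩ := exists_basicOpen_le_affine_inter hU hV x ⟨hle hx, hx⟩
    have hWV : S.basicOpen a' ≤ V := S.basicOpen_le a'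
    refine ⟨S.basicOpen a', hWV, e ▸ hxa, ?_⟩
    have hW := hV.basicOpen a'
    rw [← theta_res_basic f M hM V hV a' (S.basicOpen a') hW rfl hWV,
      rho_rho_apply f M hle hWV (hWV.trans hle),
      ← theta_res_basic f M hM U hU a (S.basicOpen a') hW e.symm (hWV.trans hle), res_res]
  choose W hWV hxW hW using key
  exact sec_eq_of_locally_eq ((AMod.toOS (RelSpec.QCAlg.directImage f)).obj M)
    (fun x : {x // x ∈ V} => W x.1 x.2) V (fun x => hWV x.1 x.2)
    (fun x hx => Opens.mem_iSup.mpr ⟨⟨x, hx⟩, hxW x hx⟩) _ _ (fun x => hW x.1 x.2)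

end AT7

section AT8
open QCSec StructureSheaf InvGen TildeComap

variable {X S : Scheme.{u}} (f : X ⟶ S) [IsAffineHom f]
  (M : AMod (RelSpec.QCAlg.directImage f))
  (hM : Coh.IsQCoh ((AMod.toOS (RelSpec.QCAlg.directImage f)).obj M))

/-- the basis of affine opens -/
def Baff (S : Scheme.{u}) : S.affineOpens → Opens S := fun U => U.1

theorem isBasis_Baff (S : Scheme.{u}) : Opens.IsBasis (Set.range (Baff S)) := by
  have : Set.range (Baff S) = S.affineOpens := Subtype.range_coe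
  rw [this]
  exact S.isBasis_affineOpens

/-- source presheaf -/
noncomputable abbrev Fsrc : TopCat.Presheaf AddCommGrpCat.{u} S :=
  ((AMod.dirImg f).obj (LM f M hM)).val.presheaf

/-- target sheaf -/
noncomputable abbrev Ftgt : TopCat.Sheaf AddCommGrpCat.{u} S := ⟨M.val.presheaf, M.isSheaf⟩

/-- `theta` as a morphism of abelian groups -/
noncomputable def thetaHom (i : S.affineOpens) :
    (Fsrc f M hM).obj (op i.1) ⟶ M.val.presheaf.obj (op i.1) :=
  AddCommGrpCat.ofHom (AddMonoidHom.mk' (theta f M hM i.1 i.2) (theta_add f M hM i.1 i.2))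

/-- the morphism on the basis of affine opens -/
noncomputable def alpha : (inducedFunctor (Baff S)).op ⋙ Fsrc f M hM ⟶
    (inducedFunctor (Baff S)).op ⋙ (Ftgt f M).1 where
  app i := thetaHom f M hM i.unop
  naturality i j g := by
    ext s
    exact theta_res f M hM (Baff S i.unop) (i.unop : S.affineOpens).2 (Baff S j.unop)
      (j.unop : S.affineOpens).2 (leOfHom g.unop.hom) s

/-- the morphism of abelian presheaves -/
noncomputable def Theta : Fsrc f M hM ⟶ M.val.presheaf :=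
  TopCat.Sheaf.restrictHomEquivHom (Fsrc f M hM) (Ftgt f M) (isBasis_Baff S) (alpha f M hM)

theorem Theta_app (U : S.Opens) (hU : IsAffineOpen U) (s : Γ(LM f M hM, f ⁻¹ᵁ U)) :
    (Theta f M hM).app (op U) s = theta f M hM U hU s := by
  have h := TopCat.Sheaf.extend_hom_app (Fsrc f M hM) (Ftgt f M) (isBasis_Baff S)
    (alpha f M hM) ⟨U, hU⟩
  exact congrArg (fun g => g.hom s) h

end AT8

section AT9
open QCSec StructureSheaf InvGen TildeComap

variable {X S : Scheme.{u}} (f : X ⟶ S) [IsAffineHom f]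
  (M : AMod (RelSpec.QCAlg.directImage f))
  (hM : Coh.IsQCoh ((AMod.toOS (RelSpec.QCAlg.directImage f)).obj M))

/-- `Theta` on sections -/
noncomputable def ThetaFun (U : S.Opens) (s : Γ(LM f M hM, f ⁻¹ᵁ U)) : NU f M U :=
  (Theta f M hM).app (op U) s

theorem ThetaFun_affine (U : S.Opens) (hU : IsAffineOpen U) (s : Γ(LM f M hM, f ⁻¹ᵁ U)) :
    ThetaFun f M hM U s = theta f M hM U hU s := Theta_app f M hM U hU s

theorem ThetaFun_res {U V : S.Opens} (h : V ≤ U) (s : Γ(LM f M hM, f ⁻¹ᵁ U)) :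
    rho f M h (ThetaFun f M hM U s) =
      ThetaFun f M hM V (res (LM f M hM) (f.preimage_mono h) s) := by
  have := congrArg (fun g => g.hom s) ((Theta f M hM).naturality (homOfLE h).op)
  exact this.symm

theorem ThetaFun_smul (U : S.Opens) (b : Γ(X, f ⁻¹ᵁ U)) (s : Γ(LM f M hM, f ⁻¹ᵁ U)) :
    ThetaFun f M hM U (b • s) = b • ThetaFun f M hM U s := by
  have key : ∀ x : S, x ∈ U → ∃ (V : S.Opens) (hVU : V ≤ U), x ∈ V ∧
      rho f M hVU (ThetaFun f M hM U (b • s)) = rho f M hVU (b • ThetaFun f M hM U s) := by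
    intro x hx
    obtain ⟨_, ⟨V, hV, rfl⟩, hxV, hVU⟩ :=
      S.isBasis_affineOpens.exists_subset_of_mem_open hx U.2
    refine ⟨V, hVU, hxV, ?_⟩
    rw [ThetaFun_res, (rho f M hVU).map_smulₛₗ, ThetaFun_res, res_smul,
      ThetaFun_affine f M hM V hV, ThetaFun_affine f M hM V hV, theta_smul]
    rfl
  choose V hVU hxV hV using key
  exact sec_eq_of_locally_eq ((AMod.toOS (RelSpec.QCAlg.directImage f)).obj M)
    (fun x : {x // x ∈ U} => V x.1 x.2) U (fun x => hVU x.1 x.2)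
    (fun x hx => Opens.mem_iSup.mpr ⟨⟨x, hx⟩, hxV x hx⟩) _ _ (fun x => hV x.1 x.2)

/-- the comparison morphism -/
noncomputable def PhiHom : (AMod.dirImg f).obj (LM f M hM) ⟶ M :=
  ⟨PresheafOfModules.homMk (Theta f M hM) (fun U b s => ThetaFun_smul f M hM U.unop b s)⟩

theorem isIso_PhiHom : IsIso (PhiHom f M hM) := by
  let Fs : TopCat.Sheaf AddCommGrpCat.{u} S :=
    ⟨Fsrc f M hM, ((AMod.dirImg f).obj (LM f M hM)).isSheaf⟩
  let φ : Fs ⟶ Ftgt f M := ⟨Theta f M hM⟩
  have h1 : IsIso φ := TopCat.Sheaf.isIso_iff_isIso_basis (isBasis_Baff S) (fun i => by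
    rw [ConcreteCategory.isIso_iff_bijective]
    have : ⇑(ConcreteCategory.hom (φ.hom.app (op (Baff S i)))) = theta f M hM i.1 i.2 :=
      funext (fun s => Theta_app f M hM i.1 i.2 s)
    rw [this]
    exact theta_bijective f M hM i.1 i.2)
  have h2 : IsIso (Theta f M hM) := by
    exact @Functor.map_isIso _ _ _ _ _ _ (sheafToPresheaf (Opens.grothendieckTopology S)
      AddCommGrpCat.{u}) φ h1
  have h3 : IsIso ((SheafOfModules.forget _ ⋙ PresheafOfModules.toPresheaf _).map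
      (PhiHom f M hM)) := h2
  exact isIso_of_reflects_iso _ (SheafOfModules.forget _ ⋙ PresheafOfModules.toPresheaf _)

include hM in
theorem exists_isQCoh_dirImg_iso :
    ∃ F : X.Modules, Coh.IsQCoh F ∧ Nonempty ((AMod.dirImg f).obj F ≅ M) :=
  ⟨LM f M hM, isQuasicoherent_LM f M hM,
    ⟨@asIso _ _ _ _ (PhiHom f M hM) (isIso_PhiHom f M hM)⟩⟩

end AT9

end Groth.Agent.Lib.Helper3.AffTildeData
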