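import Mathlib
import Groth.Prelude
import Groth.Agent.Lib.Helper3.SeparatedDescent
import Groth.Agent.Lib.Helper3.RelAmpleLib

/-!
# Descent of the existence of an ample invertible module along a field extension: basics
-/

set_option autoImplicit false
universe u
open CategoryTheory CategoryTheory.Limits AlgebraicGeometry TopologicalSpace Opposite

namespace Groth.Agent.Lib.Helper3.AmpleField

section Basic

variable (k : Type u) [Field k] (K : Type u) [Field K] [Algebra k K]

theorem flat_surj_specMap_field :
    Flat (Spec.map (CommRingCat.ofHom (algebraMap k K))) ∧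
      Surjective (Spec.map (CommRingCat.ofHom (algebraMap k K))) := by
  rw [flat_and_surjective_SpecMap_iff]
  exact RingHom.faithfullyFlat_algebraMap_iff.mpr inferInstance

instance flat_specMap_field : Flat (Spec.map (CommRingCat.ofHom (algebraMap k K))) :=
  (flat_surj_specMap_field k K).1

instance surjective_specMap_field :
    Surjective (Spec.map (CommRingCat.ofHom (algebraMap k K))) :=
  (flat_surj_specMap_field k K).2

instance isFinite_specMap_field [Module.Finite k K] :
    IsFinite (Spec.map (CommRingCat.ofHom (algebraMap k K))) := by
  rw [IsFinite.SpecMap_iff]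
  exact RingHom.finite_algebraMap.mpr inferInstance

instance lfp_specMap_field [Module.Finite k K] :
    LocallyOfFinitePresentation (Spec.map (CommRingCat.ofHom (algebraMap k K))) := by
  rw [LocallyOfFinitePresentation.SpecMap_iff]
  have h1 : Algebra.FiniteType k K := inferInstance
  have h2 : Algebra.FinitePresentation k K := Algebra.FinitePresentation.of_finiteType.mp h1
  exact RingHom.finitePresentation_algebraMap.mpr h2

end Basic

section QS

variable (k : Type u) [Field k] (X : Scheme.{u}) [X.Over (Spec (CommRingCat.of k))]
  (K : Type u) [Field K] [Algebra k K]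

/-- if `X_K` is compact then so is `X` -/
theorem compactSpace_of_bc [CompactSpace ↥(Curv2.bc k X K)] : CompactSpace X := by
  constructor
  have h := isCompact_range (Curv2.bcFst k X K).continuous
  have hs : Function.Surjective (Curv2.bcFst k X K) :=
    (inferInstance : Surjective (pullback.fst (X ↘ Spec (CommRingCat.of k))
      (Spec.map (CommRingCat.ofHom (algebraMap k K))))).surj
  rwa [hs.range_eq] at h

/-- if `X_K` is separated then `X` is separated over `k` -/
theorem isSeparated_of_bc [(Curv2.bc k X K).IsSeparated] :
    IsSeparated (X ↘ Spec (CommRingCat.of k)) := by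
  apply MorphismProperty.of_pullback_snd_of_descendsAlong
    (P := @IsSeparated) (Q := @Surjective ⊓ @Flat ⊓ @QuasiCompact)
    (f := X ↘ Spec (CommRingCat.of k))
    (g := Spec.map (CommRingCat.ofHom (algebraMap k K)))
  · exact ⟨⟨inferInstance, inferInstance⟩, inferInstance⟩
  · infer_instance

end QS

end Groth.Agent.Lib.Helper3.AmpleField
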