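import Groth.Agent.Lib.Helper3.FPLimD

/-!
# Descent of finitely presented modules along a cofiltered limit of schemes with affine
transition maps
-/

set_option autoImplicit false
universe u
open CategoryTheory CategoryTheory.Limits AlgebraicGeometry TopologicalSpace Opposite
open Scheme.Modules

namespace Groth.Agent.Lib.Helper3.FPLim

open QCSec QCExtend
open Groth.Agent.Lib.Helper17.UnitBC

section PushSec

variable {X Y : Scheme.{u}} (f : X ⟶ Y) (F : X.Modules)

/-- sections of a pushforward as sections over the preimage -/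
def pushSec (V : Y.Opens) (s : Γ((pushforward f).obj F, V)) : Γ(F, f ⁻¹ᵁ V) := s

theorem pushSec_add (V : Y.Opens) (s t : Γ((pushforward f).obj F, V)) :
    pushSec f F V (s + t) = pushSec f F V s + pushSec f F V t := rfl

theorem pushSec_zero (V : Y.Opens) : pushSec f F V 0 = 0 := rfl

theorem pushSec_smul (V : Y.Opens) (a : Γ(Y, V)) (s : Γ((pushforward f).obj F, V)) :
    pushSec f F V (a • s) = (f.app V).hom a • pushSec f F V s := rfl

theorem map_eq_res (M : X.Modules) {A B : X.Opens} (q : op B ⟶ op A) (s : Γ(M, B)) :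
    M.presheaf.map q s = res M q.unop.le s := by
  have hq : q = (homOfLE q.unop.le).op := Quiver.Hom.unop_inj (Subsingleton.elim _ _)
  exact congrArg (fun q' : op B ⟶ op A => M.presheaf.map q' s) hq

end PushSec

section Main

variable {I : Type u} [SmallCategory I] [IsCofiltered I] (D : I ⥤ Scheme.{u}) (c : Cone D)
  (hc : IsLimit c) [∀ {i j : I} (f : i ⟶ j), IsAffineHom (D.map f)] (i₀ : I)
  [CompactSpace (D.obj i₀)] [QuasiSeparatedSpace (D.obj i₀)] (F : c.pt.Modules)
  [F.IsQuasicoherent] [hF : SheafOfModules.IsFinitePresentation (R := c.pt.ringCatSheaf) F]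

include hc in
set_option maxHeartbeats 1000000 in
/-- **EGA IV 8.5.2 (ii)**: a finitely presented module on a cofiltered limit of schemes with
affine transition maps (one stage being qcqs) comes from a finite level -/
theorem exists_module_finitePresentation_descend :
    ∃ (i : I) (_ : i ⟶ i₀) (Fi : (D.obj i).Modules), Fi.IsQuasicoherent ∧
      SheafOfModules.IsFinitePresentation (R := (D.obj i).ringCatSheaf) Fi ∧
      Nonempty ((Scheme.Modules.pullback (c.π.app i)).obj Fi ≅ F) := by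
  classical
  haveI hπaff : IsAffineHom (c.π.app i₀) := isAffineHom_π_app D c hc i₀
  obtain ⟨ι₀, hι₀, V, hVa, -, hcov⟩ :=
    exists_finite_affine_cover (⊤ : (D.obj i₀).Opens)
      (by simpa using (isCompact_univ : IsCompact (Set.univ : Set (D.obj i₀))))
  have := Fintype.ofFinite ι₀
  have hcov' : ∀ x : D.obj i₀, ∃ k, x ∈ V k :=
    fun x => Opens.mem_iSup.mp (hcov (show x ∈ (⊤ : (D.obj i₀).Opens) from trivial))
  have hWa : ∀ k, IsAffineOpen (c.π.app i₀ ⁻¹ᵁ V k) := fun k => (hVa k).preimage _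
  haveI h𝒢q : ((pushforward (c.π.app i₀)).obj F).IsQuasicoherent :=
    isQuasicoherent_pushforward _ F
  haveI : F.IsFiniteType := inferInstance
  have hMfin : ∀ k, Module.Finite Γ(c.pt, c.π.app i₀ ⁻¹ᵁ V k) Γ(F, c.π.app i₀ ⁻¹ᵁ V k) :=
    fun k => QCProps.finite_sections F (hWa k)
  have hT := fun k => (hMfin k).exists_fin
  choose gT tT htT using hT
  -- Stage 1
  obtain ⟨P₀, b₀, hP₀, hb₀⟩ := exists_fp_hom_hitting ((pushforward (c.π.app i₀)).obj F)
    (κ := Σ k : ι₀, Fin (gT k)) (fun a => V a.1) (fun a => hVa a.1)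
    (fun a => (show Γ((pushforward (c.π.app i₀)).obj F, V a.1) from tT a.1 a.2))
  haveI := hP₀
  haveI : P₀.IsQuasicoherent := inferInstance
  haveI : P₀.IsFiniteType := inferInstance
  have hNfin : ∀ k, Module.Finite Γ(D.obj i₀, V k) Γ(P₀, V k) :=
    fun k => QCProps.finite_sections P₀ (hVa k)
  have hN := fun k => (hNfin k).exists_fin
  choose g n hn using hN
  obtain ⟨x, hxdef⟩ : ∃ x : ∀ k, Fin (g k) → Γ(F, c.π.app i₀ ⁻¹ᵁ V k),
      ∀ k i, x k i = pushSec (c.π.app i₀) F (V k) (b₀.app (V k) (n k i)) := ⟨_, fun _ _ => rfl⟩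
  have hxs : ∀ k, Submodule.span Γ(c.pt, c.π.app i₀ ⁻¹ᵁ V k) (Set.range (x k)) = ⊤ := by
    intro k
    have hp : ∀ p : Γ(P₀, V k), pushSec (c.π.app i₀) F (V k) (b₀.app (V k) p) ∈
        Submodule.span Γ(c.pt, c.π.app i₀ ⁻¹ᵁ V k) (Set.range (x k)) := by
      intro p
      have hpm : p ∈ Submodule.span Γ(D.obj i₀, V k) (Set.range (n k)) := by
        rw [hn k]; trivial
      induction hpm using Submodule.span_induction with
      | mem y hy =>
        obtain ⟨i, rfl⟩ := hy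
        exact Submodule.subset_span ⟨i, hxdef k i⟩
      | zero =>
        rw [_root_.map_zero, pushSec_zero]
        exact Submodule.zero_mem _
      | add y z _ _ hy hz =>
        rw [_root_.map_add, pushSec_add]
        exact Submodule.add_mem _ hy hz
      | smul a y _ hy =>
        rw [Scheme.Modules.Hom.app_smul, pushSec_smul]
        exact Submodule.smul_mem _ _ hy
    rw [eq_top_iff, ← htT k]
    apply Submodule.span_le.mpr
    rintro _ ⟨a, rfl⟩
    obtain ⟨p, hp'⟩ := hb₀ ⟨k, a⟩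
    have h1 : pushSec (c.π.app i₀) F (V k) (b₀.app (V k) p) = tT k a :=
      congrArg (pushSec (c.π.app i₀) F (V k)) hp'
    rw [← h1]
    exact hp p
  -- Stage 2
  have hMfp : ∀ k, Module.FinitePresentation Γ(c.pt, c.π.app i₀ ⁻¹ᵁ V k)
      Γ(F, c.π.app i₀ ⁻¹ᵁ V k) := fun k => QCProps.finitePresentation_sections F (hWa k)
  have hkerfg : ∀ k, ∃ (h : ℕ) (w : Fin h → (Fin (g k) → Γ(c.pt, c.π.app i₀ ⁻¹ᵁ V k))),
      Submodule.span Γ(c.pt, c.π.app i₀ ⁻¹ᵁ V k) (Set.range w) =
        LinearMap.ker (Fintype.linearCombination Γ(c.pt, c.π.app i₀ ⁻¹ᵁ V k) (x k)) := by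
    intro k
    haveI := hMfp k
    have hsurj : Function.Surjective
        (Fintype.linearCombination Γ(c.pt, c.π.app i₀ ⁻¹ᵁ V k) (x k)) :=
      (span_range_eq_top_iff_surjective_fintypeLinearCombination _ _).mp (hxs k)
    exact Submodule.fg_iff_exists_fin_generating_family.mp
      (Module.FinitePresentation.fg_ker _ hsurj)
  choose h w hw using hkerfg
  -- Stage 3
  obtain ⟨j, φ, hjφ⟩ := exists_common_level (D := D) (c := c) (i₀ := i₀) hc
    (Finset.univ : Finset (Σ k : ι₀, Fin (h k) × Fin (g k))) (fun a => V a.1)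
    (fun a => hVa a.1) (fun a => w a.1 a.2.1 a.2.2)
  have hτex : ∀ k (r : Fin (h k)) (i : Fin (g k)),
      ∃ (e : c.π.app i₀ ⁻¹ᵁ V k ≤ c.π.app j ⁻¹ᵁ (D.map φ ⁻¹ᵁ V k))
        (t : Γ(D.obj j, D.map φ ⁻¹ᵁ V k)),
        ((c.π.app j).appLE (D.map φ ⁻¹ᵁ V k) (c.π.app i₀ ⁻¹ᵁ V k) e).hom t = w k r i :=
    fun k r i => hjφ ⟨k, (r, i)⟩ (Finset.mem_univ _)
  choose eτ τ hτ using hτex
  -- Stage 4
  have hW : ∀ k, c.π.app i₀ ⁻¹ᵁ V k = c.π.app j ⁻¹ᵁ (D.map φ ⁻¹ᵁ V k) := fun k => by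
    rw [← Scheme.Hom.comp_preimage, c.w]
  haveI : IsAffineHom (c.π.app j) := isAffineHom_π_app D c hc j
  haveI : CompactSpace (D.obj j) := QuasiCompact.compactSpace_of_compactSpace (D.map φ)
  haveI : QuasiSeparatedSpace (D.obj j) := quasiSeparatedSpace_of_quasiSeparated (D.map φ)
  obtain ⟨b₀', hb₀'⟩ : ∃ b₀' : P₀ ⟶ (pushforward (D.map φ)).obj ((pushforward (c.π.app j)).obj F),
      b₀' = b₀ ≫ (pushforwardCongr (c.w φ).symm).hom.app F ≫
        (pushforwardComp (c.π.app j) (D.map φ)).inv.app F := ⟨_, rfl⟩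
  have hx : ∀ k i, x k i = res F (hW k).le
      (show Γ(F, c.π.app j ⁻¹ᵁ (D.map φ ⁻¹ᵁ V k)) from b₀'.app (V k) (n k i)) := by
    intro k i
    have h1 : (show Γ(F, c.π.app j ⁻¹ᵁ (D.map φ ⁻¹ᵁ V k)) from b₀'.app (V k) (n k i)) =
        res F (hW k).ge (x k i) := by
      rw [hb₀', hxdef k i]
      exact map_eq_res F (eqToHom (hW k).symm).op _
    rw [h1, res_res, res_self]
  obtain ⟨Fj, hFjq, hFjfp, hiso⟩ := exists_descent_of_level_data (πj := c.π.app j)
    (u := D.map φ) (F := F) (P₀ := P₀) (b₀ := b₀') (V := V) hVa hcov'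
    (W := fun k => c.π.app i₀ ⁻¹ᵁ V k) hW g n hn x hx hxs h w hw τ
    (fun k r i => hτ k r i)
  exact ⟨j, φ, Fj, hFjq, hFjfp, hiso⟩

end Main

end Groth.Agent.Lib.Helper3.FPLim
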