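import Mathlib
import Groth.Agent.Lib.Helper3.FPLimE
import Groth.Agent.Lib.Helper3.InvCoh
import Groth.Agent.Lib.Helper3.PbBasic
import Groth.Agent.Lib.Helper17.LocFreeRank
import Groth.Agent.Lib.Helper17.FinLocFreeSec

/-!
# Invertible modules on a cofiltered limit of schemes come from a finite stage
(EGA IV 8.5.2 (ii) + 8.5.5 in rank one)
-/

set_option autoImplicit false
set_option linter.style.haveILetI false
set_option linter.unusedSectionVars false
universe u
open CategoryTheory CategoryTheory.Limits AlgebraicGeometry TopologicalSpace Opposite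

namespace Groth.Agent.Lib.Helper3.InvSpread

open Groth.Agent.Lib.Helper17

variable {X : Scheme.{u}}

theorem isInvertible_of_rank_one {L : X.Modules} (hL : FlatMod.IsFinLocFreeOfRank 1 L) :
    PicF.IsInvertible L := by
  intro x
  obtain ⟨U, hx, ⟨e⟩⟩ := hL x
  exact ⟨U, hx, ⟨e ≪≫ coproductUniqueIso (fun _ : Fin 1 => Coh.structureModule ↑U)⟩⟩

theorem rank_one_of_isInvertible {L : X.Modules} (hL : PicF.IsInvertible L) :
    FlatMod.IsFinLocFreeOfRank 1 L := by
  intro x
  obtain ⟨U, hx, ⟨e⟩⟩ := hL x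
  exact ⟨U, hx, ⟨e ≪≫ (coproductUniqueIso (fun _ : Fin 1 => Coh.structureModule ↑U)).symm⟩⟩

section Stage

variable {I : Type u} [SmallCategory I] [IsCofiltered I] (D : I ⥤ Scheme.{u}) (c : Cone D)
  (hc : IsLimit c) [∀ {i j : I} (f : i ⟶ j), IsAffineHom (D.map f)] (i₀ : I)
  [CompactSpace (D.obj i₀)] [QuasiSeparatedSpace (D.obj i₀)]

include hc in
set_option maxHeartbeats 400000 in
/-- an invertible module on a cofiltered limit of schemes with affine transition maps (one stage
being qcqs) is the pullback of an invertible module on some stage. -/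
theorem exists_stage_invertible (L : c.pt.Modules) (hL : PicF.IsInvertible L) :
    ∃ (j : I) (_ : j ⟶ i₀) (Lj : (D.obj j).Modules), PicF.IsInvertible Lj ∧
      Nonempty ((Scheme.Modules.pullback (c.π.app j)).obj Lj ≅ L) := by
  haveI hqc : L.IsQuasicoherent := Groth.Agent.Lib.Helper3.InvCoh.isQuasicoherent_of_isInvertible hL
  have h1 : FlatMod.IsFinLocFreeOfRank 1 L := rank_one_of_isInvertible hL
  haveI hfp : SheafOfModules.IsFinitePresentation (R := c.pt.ringCatSheaf) L :=
    FinLocFreeSec.isFinitePresentation_of_isFinLocFree L (LocFreeRank.isFinLocFree_of_rank h1)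
  obtain ⟨i, a, Fi, hFq, hFfp, ⟨e⟩⟩ :=
    Groth.Agent.Lib.Helper3.FPLim.exists_module_finitePresentation_descend D c hc i₀ L
  haveI := hFq
  haveI := hFfp
  haveI : CompactSpace (D.obj i) := QuasiCompact.compactSpace_of_compactSpace (D.map a)
  haveI haffD : ∀ (i j : I) (φ : i ⟶ j), IsAffineHom (D.map φ) := fun _ _ φ => inferInstance
  have h2 : FlatMod.IsFinLocFreeOfRank 1 ((Scheme.Modules.pullback (c.π.app i)).obj Fi) :=
    LocFreeRank.isFinLocFreeOfRank_of_iso e.symm 1 h1
  obtain ⟨j, φ, hj⟩ := LocFreeRank.exists_stage_isFinLocFreeOfRank D c hc i Fi 1 h2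
  refine ⟨j, φ ≫ a, (Scheme.Modules.pullback (D.map φ)).obj Fi, isInvertible_of_rank_one hj, ⟨?_⟩⟩
  exact (Scheme.Modules.pullbackComp (c.π.app j) (D.map φ)).app Fi ≪≫
    (Scheme.Modules.pullbackCongr (c.w φ)).app Fi ≪≫ e

end Stage

end Groth.Agent.Lib.Helper3.InvSpread
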