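import Groth.Agent.Lib.Helper3.AmpleFieldA
import Groth.Agent.Lib.Helper26.FGSubLim
import Groth.Agent.Lib.Helper3.InvSpreadA
import Groth.Agent.Lib.Helper12.PbDiag
import Groth.Agent.Lib.Helper3.PbAmple
import Groth.Agent.Lib.Helper3.InvAmple
import Groth.Agent.Lib.Helper3.NormInv
import Groth.Agent.Lib.Helper17.PushFinLocFree
import Groth.Agent.S9223

/-!
# Descent of the existence of an ample invertible module along a field extension
-/

set_option autoImplicit false
set_option linter.style.haveILetI false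
universe u
open CategoryTheory CategoryTheory.Limits AlgebraicGeometry TopologicalSpace Opposite

namespace Groth.Agent.Lib.Helper3.AmpleField

open Groth.Agent.Lib.Helper26.FGSubLim Groth.Agent.Lib.Helper12.PbDiag

section Stage

/-- the final step: from an ample module on a stage to an ample module on `X`, by the norm -/
theorem exists_ample_of_stage {X S₀ S₂ S' : Scheme.{u}} (h₀ : X ⟶ S₀) (t : S₂ ⟶ S₀)
    [CompactSpace ↥(pullback h₀ t)]
    (L₂ : (pullback h₀ t).Modules) (hL₂ : CohB1.IsAmple L₂)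
    (ψ : S' ⟶ S₂) (hψ : IsClosedImmersion ψ)
    (hfin : IsFinite (ψ ≫ t)) (hflat : Flat (ψ ≫ t))
    (hlfp : LocallyOfFinitePresentation (ψ ≫ t)) (hsurj : Surjective (ψ ≫ t)) :
    ∃ L : X.Modules, CohB1.IsAmple L := by
  haveI : IsClosedImmersion (pullback.fst (pullback.snd h₀ t) ψ) :=
    MorphismProperty.pullback_fst (P := @IsClosedImmersion) _ _ hψ
  haveI : CompactSpace ↥(pullback (pullback.snd h₀ t) ψ) :=
    QuasiCompact.compactSpace_of_compactSpace (pullback.fst (pullback.snd h₀ t) ψ)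
  have hL'' := PbAmple.isAmple_pullback_of_isEmbedding (pullback.fst (pullback.snd h₀ t) ψ)
    (pullback.fst (pullback.snd h₀ t) ψ).isClosedEmbedding.isEmbedding hL₂
  have sq : IsPullback (pullback.fst (pullback.snd h₀ t) ψ ≫ pullback.fst h₀ t)
      (pullback.snd (pullback.snd h₀ t) ψ) h₀ (ψ ≫ t) :=
    (IsPullback.of_hasPullback (pullback.snd h₀ t) ψ).paste_horiz
      (IsPullback.of_hasPullback h₀ t)
  haveI : IsFinite (pullback.fst (pullback.snd h₀ t) ψ ≫ pullback.fst h₀ t) :=
    MorphismProperty.of_isPullback (P := @IsFinite) sq.flip hfin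
  haveI : Flat (pullback.fst (pullback.snd h₀ t) ψ ≫ pullback.fst h₀ t) :=
    MorphismProperty.of_isPullback (P := @Flat) sq.flip hflat
  haveI : LocallyOfFinitePresentation
      (pullback.fst (pullback.snd h₀ t) ψ ≫ pullback.fst h₀ t) :=
    MorphismProperty.of_isPullback (P := @LocallyOfFinitePresentation) sq.flip hlfp
  haveI : Surjective (pullback.fst (pullback.snd h₀ t) ψ ≫ pullback.fst h₀ t) :=
    MorphismProperty.of_isPullback (P := @Surjective) sq.flip hsurj
  have hfree := Groth.Agent.Lib.Helper17.PushFinLocFree.isFinLocFree_push_of_finite_flat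
    (pullback.fst (pullback.snd h₀ t) ψ ≫ pullback.fst h₀ t)
  obtain ⟨N, hN, ⟨Dn⟩⟩ := Groth.Agent.Lib.H3.NormInv.exists_normData
    (pullback.fst (pullback.snd h₀ t) ψ ≫ pullback.fst h₀ t)
    (Groth.Agent.Lib.Helper3.RelNorm.exists_isRelBasis_of_isFinLocFree _ hfree) hL''.1
  exact ⟨N, Groth.Agent.Lib.H3.NormInv.isAmple_of_normData _ hN Dn hL''⟩

end Stage

section Bot

variable (k K : Type u) [Field k] [Field K] [Algebra k K]

/-- the bottom index -/
def i₀ : (FGSub k K)ᵒᵖ := op ⟨⊥, Subalgebra.fg_bot⟩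

/-- `⊥ → k` -/
noncomputable def βhom : (⊥ : Subalgebra k K) →+* k :=
  ((Algebra.botEquiv k K : (⊥ : Subalgebra k K) ≃ₐ[k] k) : (⊥ : Subalgebra k K) →+* k)

theorem exists_eq_algebraMap (x : (⊥ : Subalgebra k K)) :
    ∃ r : k, x = algebraMap k (⊥ : Subalgebra k K) r := by
  obtain ⟨r, hr⟩ := Algebra.mem_bot.mp x.2
  exact ⟨r, Subtype.ext hr.symm⟩

theorem βhom_algebraMap (r : k) : βhom k K (algebraMap k (⊥ : Subalgebra k K) r) = r :=
  (Algebra.botEquiv k K).commutes r

theorem algebraMap_βhom (x : (⊥ : Subalgebra k K)) : algebraMap k K (βhom k K x) = (x : K) := by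
  obtain ⟨r, rfl⟩ := exists_eq_algebraMap k K x
  rw [βhom_algebraMap]
  rfl

/-- `Spec k ≅ Spec ⊥` -/
noncomputable def e₄ : Spec (CommRingCat.of k) ≅ Spec (CommRingCat.of (⊥ : Subalgebra k K)) where
  hom := Spec.map (CommRingCat.ofHom (βhom k K))
  inv := Spec.map (CommRingCat.ofHom (algebraMap k (⊥ : Subalgebra k K)))
  hom_inv_id := by
    rw [← Spec.map_comp, ← Spec.map_id]
    congr 1
    ext r
    exact βhom_algebraMap k K r
  inv_hom_id := by
    rw [← Spec.map_comp, ← Spec.map_id]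
    congr 1
    ext x
    obtain ⟨r, rfl⟩ := exists_eq_algebraMap k K x
    exact congrArg Subtype.val
      (congrArg (algebraMap k (⊥ : Subalgebra k K)) (βhom_algebraMap k K r))

theorem specMap_comp_e₄ :
    Spec.map (CommRingCat.ofHom (algebraMap k K)) ≫ (e₄ k K).hom =
      (specCone k K).π.app (i₀ k K) := by
  change _ ≫ Spec.map _ = Spec.map _
  rw [← Spec.map_comp]
  congr 1
  ext x
  exact algebraMap_βhom k K x

theorem stage_comp_eq (A : FGSub k K) (f : (⟨⊥, Subalgebra.fg_bot⟩ : FGSub k K) ⟶ A)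
    (m : Ideal A.1) :
    Spec.map (CommRingCat.ofHom (Ideal.Quotient.mk m)) ≫ Spec.map ((ringDiag k K).map f) =
      Spec.map (CommRingCat.ofHom (algebraMap k (A.1 ⧸ m))) ≫ (e₄ k K).hom := by
  change _ = _ ≫ Spec.map _
  rw [← Spec.map_comp, ← Spec.map_comp]
  congr 1
  ext x
  obtain ⟨r, rfl⟩ := exists_eq_algebraMap k K x
  change Ideal.Quotient.mk m (((ringDiag k K).map f).hom (algebraMap k (⊥ : Subalgebra k K) r)) =
    algebraMap k (A.1 ⧸ m) (βhom k K (algebraMap k (⊥ : Subalgebra k K) r))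
  rw [βhom_algebraMap]
  rfl

theorem exists_finite_quotient (A : FGSub k K) :
    ∃ m : Ideal A.1, m.IsMaximal ∧ Module.Finite k (A.1 ⧸ m) := by
  obtain ⟨m, hm⟩ := Ideal.exists_maximal A.1
  refine ⟨m, hm, ?_⟩
  haveI := hm
  letI : Field (A.1 ⧸ m) := Ideal.Quotient.field m
  haveI : Algebra.FiniteType k A.1 := (Subalgebra.fg_iff_finiteType A.1).mp A.2
  haveI : Algebra.FiniteType k (A.1 ⧸ m) :=
    Algebra.FiniteType.of_surjective (Ideal.Quotient.mkₐ k m) (Ideal.Quotient.mkₐ_surjective k m)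
  exact finite_of_finite_type_of_isJacobsonRing k (A.1 ⧸ m)

set_option maxHeartbeats 1000000 in
/-- from an ample module on the stage of a finitely generated subalgebra to `X` -/
theorem exists_ample_of_fgStage {X : Scheme.{u}}
    (h₀ : X ⟶ Spec ((ringDiag k K).obj ⟨⊥, Subalgebra.fg_bot⟩))
    (A : FGSub k K) (f : (⟨⊥, Subalgebra.fg_bot⟩ : FGSub k K) ⟶ A)
    [CompactSpace ↥(pullback h₀ (Spec.map ((ringDiag k K).map f)))]
    (L₂ : (pullback h₀ (Spec.map ((ringDiag k K).map f))).Modules) (hL₂ : CohB1.IsAmple L₂) :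
    ∃ L : X.Modules, CohB1.IsAmple L := by
  obtain ⟨m, hm, hfin⟩ := exists_finite_quotient k K A
  haveI := hm
  letI : Field (A.1 ⧸ m) := Ideal.Quotient.field m
  haveI := hfin
  have hci : IsClosedImmersion (Spec.map (CommRingCat.ofHom (Ideal.Quotient.mk m))) :=
    IsClosedImmersion.spec_of_surjective _ Ideal.Quotient.mk_surjective
  have hcomp := stage_comp_eq k K A f m
  refine exists_ample_of_stage h₀ (Spec.map ((ringDiag k K).map f)) L₂ hL₂
    (Spec.map (CommRingCat.ofHom (Ideal.Quotient.mk m))) hci ?_ ?_ ?_ ?_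
  · have h : IsFinite (Spec.map (CommRingCat.ofHom (algebraMap k (A.1 ⧸ m))) ≫ (e₄ k K).hom) :=
      inferInstance
    rw [← hcomp] at h
    exact h
  · have h : Flat (Spec.map (CommRingCat.ofHom (algebraMap k (A.1 ⧸ m))) ≫ (e₄ k K).hom) :=
      inferInstance
    rw [← hcomp] at h
    exact h
  · have h : LocallyOfFinitePresentation
        (Spec.map (CommRingCat.ofHom (algebraMap k (A.1 ⧸ m))) ≫ (e₄ k K).hom) :=
      inferInstance
    rw [← hcomp] at h
    exact h
  · have h : Surjective (Spec.map (CommRingCat.ofHom (algebraMap k (A.1 ⧸ m))) ≫ (e₄ k K).hom) :=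
      inferInstance
    rw [← hcomp] at h
    exact h

end Bot

end Groth.Agent.Lib.Helper3.AmpleField
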