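import Groth.Agent.Lib.Helper3.NormAx
import Groth.Agent.Lib.Helper16.Norm.IntNorm
import Groth.Agent.Lib.Helper7.RedLib

/-!
# Ample invertible modules descend along finite surjective morphisms onto normal integral schemes
-/

set_option autoImplicit false
universe u
open CategoryTheory CategoryTheory.Limits AlgebraicGeometry TopologicalSpace Opposite

namespace Groth.Agent.Lib.H3.AmpleNormal

open Groth.Agent.Lib.Helper3

/-- **Stacks 0BD3** -/
theorem exists_isAmple_of_finite_surjective_normal {X Y : Scheme.{u}} (π : X ⟶ Y) [IsFinite π]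
    [Surjective π] [IsIntegral Y] (hY : Pi1.IsNormalScheme Y) (L : X.Modules)
    (hL : CohB1.IsAmple L) : ∃ M : Y.Modules, CohB1.IsAmple M := by
  obtain ⟨ξ, hξ⟩ := π.surjective (genericPoint Y)
  obtain ⟨I, hI⟩ : ∃ I : X.IdealSheafData,
      I = Scheme.IdealSheafData.vanishingIdeal ⟨closure {ξ}, isClosed_closure⟩ := ⟨_, rfl⟩
  have hrange : Set.range I.subschemeι = closure {ξ} := by
    rw [Scheme.IdealSheafData.range_subschemeι, hI]
    exact Scheme.IdealSheafData.coe_support_vanishingIdeal _
  haveI : IsReduced I.subscheme := by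
    rw [hI]
    exact Groth.Agent.Lib.Helper7.isReduced_vanishingIdeal_subscheme _
  haveI : IrreducibleSpace I.subscheme := by
    have hemb := I.subschemeι.isEmbedding
    let e : I.subscheme ≃ₜ ↥(closure ({ξ} : Set X)) :=
      hemb.toHomeomorph.trans (Homeomorph.setCongr hrange)
    haveI : IrreducibleSpace ↥(closure ({ξ} : Set X)) :=
      Subtype.irreducibleSpace isIrreducible_singleton.closure
    exact e.irreducibleSpace_iff.mpr inferInstance
  haveI : IsIntegral I.subscheme := isIntegral_of_irreducibleSpace_of_isReduced I.subscheme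
  haveI : CompactSpace X := hL.2.1
  haveI : CompactSpace I.subscheme := I.subschemeι.isClosedEmbedding.compactSpace
  haveI : Surjective (I.subschemeι ≫ π) := by
    constructor
    intro y
    have hcl : IsClosed (π '' closure {ξ}) := π.isClosedMap _ isClosed_closure
    have hy : y ∈ π '' closure {ξ} := by
      have h1 : genericPoint Y ∈ π '' closure {ξ} := ⟨ξ, subset_closure rfl, hξ⟩
      have h2 : closure {genericPoint Y} ⊆ π '' closure {ξ} :=
        hcl.closure_subset_iff.mpr (Set.singleton_subset_iff.mpr h1)
      apply h2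
      rw [(genericPoint_spec Y).def]
      trivial
    obtain ⟨x, hx, rfl⟩ := hy
    rw [← hrange] at hx
    obtain ⟨z, rfl⟩ := hx
    exact ⟨z, rfl⟩
  have hL' : CohB1.IsAmple ((Scheme.Modules.pullback I.subschemeι).obj L) :=
    PbAmple.isAmple_pullback_of_isEmbedding I.subschemeι I.subschemeι.isEmbedding hL
  obtain ⟨d, hN⟩ := H16INorm.hasNorm (I.subschemeι ≫ π) hY
  exact NormAx.exists_isAmple_of_hasNorm (I.subschemeι ≫ π) d hN _ hL'

end Groth.Agent.Lib.H3.AmpleNormal
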