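import Mathlib
import Groth.Agent.Lib.Helper6.AwayDeg1G

/-!
# Localisation of a graded ring at an element of degree one, general carriers

Ports of helper6's `AwayDeg1.exists_laurent_equiv` and `PConeAway.exists_polynomial_equiv`
to gradings by arbitrary `SetLike` carriers (additive subgroups).
-/

set_option autoImplicit false
universe u
open HomogeneousLocalization

namespace Groth.Agent.Lib.Helper3.AwayDeg1S

open Groth.Agent.Lib.Helper6.AwayDeg1G

section one

variable {A σ : Type u} [CommRing A] [SetLike σ A] [AddSubgroupClass σ A] (𝒜 : ℕ → σ)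
  [GradedRing 𝒜]

/-- Two ring homs out of a graded ring agreeing on homogeneous elements are equal. -/
theorem ringHom_ext_of_homogeneous {S : Type*} [Semiring S] {F G : A →+* S}
    (h : ∀ (n : ℕ) (a : A), a ∈ 𝒜 n → F a = G a) : F = G := by
  ext a
  induction a using DirectSum.Decomposition.inductionOn 𝒜 with
  | zero => rw [map_zero, map_zero]
  | homogeneous m => exact h _ _ m.2
  | add m m' h1 h2 => rw [map_add, map_add, h1, h2]

variable {f : A} (hf : f ∈ 𝒜 1)

include hf in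
/-- `A_(f)[T, T⁻¹] ≃ A_f` for `f` of degree one. -/
theorem exists_laurent_equiv :
    ∃ α : AddMonoidAlgebra (Away 𝒜 f) ℤ ≃+* Localization.Away f,
      ∀ c, α (AddMonoidAlgebra.single 0 c) = algebraMap (Away 𝒜 f) (Localization.Away f) c := by
  classical
  obtain ⟨ψ, hψ⟩ := exists_ringHom_of_graded 𝒜
    (fun n => (AddMonoidAlgebra.singleAddHom ((n : ℕ) : ℤ)).comp (mkHom 𝒜 hf n))
    (by
      show AddMonoidAlgebra.single ((0 : ℕ) : ℤ) (mkHom 𝒜 hf 0 (GradedMonoid.GOne.one (A := fun i => 𝒜 i))) = 1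
      rw [mkHom_one, Nat.cast_zero]
      rfl)
    (by
      intro i j a b
      show AddMonoidAlgebra.single ((i + j : ℕ) : ℤ) (mkHom 𝒜 hf (i + j) (GradedMonoid.GMul.mul (A := fun i => 𝒜 i) a b))
        = AddMonoidAlgebra.single (i : ℤ) (mkHom 𝒜 hf i a) *
          AddMonoidAlgebra.single (j : ℤ) (mkHom 𝒜 hf j b)
      rw [AddMonoidAlgebra.single_mul_single, mkHom_mul, Nat.cast_add])
  have hψ' : ∀ (n : ℕ) (a : A) (ha : a ∈ 𝒜 n),
      ψ a = AddMonoidAlgebra.single (n : ℤ) (mkHom 𝒜 hf n ⟨a, ha⟩) := hψ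
  have hψf : ψ f = AddMonoidAlgebra.single (1 : ℤ) 1 := by
    rw [hψ' 1 f hf, mkHom_self, Nat.cast_one]
  have hψfn : ∀ n : ℕ, ψ (f ^ n) = AddMonoidAlgebra.single (n : ℤ) 1 := by
    intro n
    rw [map_pow, hψf, AddMonoidAlgebra.single_pow, one_pow, nsmul_eq_mul, mul_one]
  have hunitn : ∀ n : ℕ, IsUnit (AddMonoidAlgebra.single (n : ℤ) (1 : Away 𝒜 f)) := by
    intro n
    refine IsUnit.of_mul_eq_one (AddMonoidAlgebra.single (-(n : ℤ)) 1) ?_
    rw [AddMonoidAlgebra.single_mul_single, add_neg_cancel, one_mul]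
    rfl
  have hunit : IsUnit (ψ f) := by
    rw [hψf]
    exact_mod_cast hunitn 1
  let β : Localization.Away f →+* AddMonoidAlgebra (Away 𝒜 f) ℤ :=
    IsLocalization.Away.lift f hunit
  have hβ : ∀ a : A, β (algebraMap A (Localization.Away f) a) = ψ a :=
    fun a => IsLocalization.Away.lift_eq f hunit a
  let fU : (Localization.Away f)ˣ :=
    (IsLocalization.Away.algebraMap_isUnit (S := Localization.Away f) f).unit
  have hfU : (fU : Localization.Away f) = algebraMap A (Localization.Away f) f :=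
    IsUnit.unit_spec _
  let αhom : AddMonoidAlgebra (Away 𝒜 f) ℤ →+* Localization.Away f :=
    AddMonoidAlgebra.liftNCRingHom (algebraMap (Away 𝒜 f) (Localization.Away f))
      ((Units.coeHom _).comp (zpowersHom _ fU)) (fun _ _ => Commute.all _ _)
  have hα : ∀ (n : ℤ) (c : Away 𝒜 f), αhom (AddMonoidAlgebra.single n c) =
      c.val * ((fU ^ n : (Localization.Away f)ˣ) : Localization.Away f) := by
    intro n c
    rw [AddMonoidAlgebra.liftNCRingHom_single]
    rfl
  have hmkspec : ∀ (n : ℕ) (a : A),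
      Localization.mk a (⟨f ^ n, pow_mem (Submonoid.mem_powers f) n⟩ : Submonoid.powers f) *
        algebraMap A (Localization.Away f) (f ^ n) = algebraMap A (Localization.Away f) a := by
    intro n a
    rw [Localization.mk_eq_mk']
    exact IsLocalization.mk'_spec _ a ⟨f ^ n, pow_mem (Submonoid.mem_powers f) n⟩
  have h₁ : αhom.comp β = RingHom.id _ := by
    refine IsLocalization.ringHom_ext (Submonoid.powers f) ?_
    refine ringHom_ext_of_homogeneous 𝒜 fun n a ha => ?_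
    show αhom (β (algebraMap A _ a)) = algebraMap A _ a
    rw [hβ, hψ' n a ha, hα, zpow_natCast, Units.val_pow_eq_pow_val, hfU, ← map_pow, val_mkHom]
    exact hmkspec n a
  have h₂ : β.comp αhom = RingHom.id _ := by
    refine AddMonoidAlgebra.ringHom_ext' ?_ ?_
    · refine RingHom.ext fun c => ?_
      show β (αhom (AddMonoidAlgebra.single 0 c)) = AddMonoidAlgebra.single 0 c
      rw [hα, zpow_zero, Units.val_one, mul_one]
      obtain ⟨n, a, ha, rfl⟩ := Away.mk_surjective 𝒜 hf c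
      have ha' : a ∈ 𝒜 n := by simpa using ha
      have h3 : β (Localization.mk a (⟨f ^ n, pow_mem (Submonoid.mem_powers f) n⟩ : Submonoid.powers f)) *
          AddMonoidAlgebra.single (n : ℤ) 1 =
          AddMonoidAlgebra.single 0 (Away.mk 𝒜 hf n a ha) * AddMonoidAlgebra.single (n : ℤ) 1 := by
        calc β (Localization.mk a (⟨f ^ n, pow_mem (Submonoid.mem_powers f) n⟩ : Submonoid.powers f)) *
              AddMonoidAlgebra.single (n : ℤ) 1
            = β (Localization.mk a (⟨f ^ n, pow_mem (Submonoid.mem_powers f) n⟩ : Submonoid.powers f)) *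
              β (algebraMap A (Localization.Away f) (f ^ n)) := by rw [hβ, hψfn]
          _ = β (algebraMap A (Localization.Away f) a) := by rw [← map_mul, hmkspec]
          _ = AddMonoidAlgebra.single (n : ℤ) (mkHom 𝒜 hf n ⟨a, ha'⟩) := by rw [hβ, hψ' n a ha']
          _ = AddMonoidAlgebra.single 0 (Away.mk 𝒜 hf n a ha) *
              AddMonoidAlgebra.single (n : ℤ) 1 := by
            rw [AddMonoidAlgebra.single_mul_single, zero_add, mul_one]
            rfl
      exact (hunitn n).mul_left_inj.1 h3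
    · refine MonoidHom.ext_mint ?_
      show β (αhom (AddMonoidAlgebra.of _ _ (Multiplicative.ofAdd 1))) =
        AddMonoidAlgebra.of _ _ (Multiplicative.ofAdd 1)
      rw [AddMonoidAlgebra.of_apply]
      show β (αhom (AddMonoidAlgebra.single (1 : ℤ) 1)) = AddMonoidAlgebra.single (1 : ℤ) 1
      rw [hα, zpow_one, hfU, val_one, one_mul, hβ, hψf]
  refine ⟨RingEquiv.ofRingHom αhom β h₁ h₂, fun c => ?_⟩
  show αhom (AddMonoidAlgebra.single 0 c) = _
  rw [hα, zpow_zero, Units.val_one, mul_one]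
  rfl

end one

section poly

variable {A B σ τ : Type u} [CommRing A] [CommRing B] [SetLike σ A] [AddSubgroupClass σ A]
  [SetLike τ B] [AddSubgroupClass τ B] (𝒜 : ℕ → σ) (ℬ : ℕ → τ) [GradedRing 𝒜] [GradedRing ℬ]
  (φ : 𝒜 →+*ᵍ ℬ) (ι₀ : A →+* B) (hφ : ∀ a : A, φ a = ι₀ a) (z : B) (hz : z ∈ ℬ 1)
  (hhat : Function.Bijective (Polynomial.eval₂RingHom ι₀ z)) {f : A} (hf : f ∈ 𝒜 1)

include hφ hz hhat hf in
/-- `A_(f)[T] ≃ B_(f)` for `B = A[z]`, `z` and `f` of degree one. -/
theorem exists_polynomial_equiv :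
    ∃ α : AddMonoidAlgebra (Away 𝒜 f) ℕ ≃+* Away ℬ (φ f),
      ∀ c, α (AddMonoidAlgebra.single 0 c) = Away.map φ f c := by
  classical
  have hg : φ f ∈ ℬ 1 := φ.2 hf
  obtain ⟨DA, hDA⟩ := exists_dehom 𝒜 hf
  obtain ⟨DB, hDB⟩ := exists_dehom ℬ hg
  let e : Polynomial A ≃+* B := RingEquiv.ofBijective (Polynomial.eval₂RingHom ι₀ z) hhat
  have heX : e Polynomial.X = z := Polynomial.eval₂_X _ _
  have heC : ∀ a : A, e (Polynomial.C a) = ι₀ a := fun a => Polynomial.eval₂_C _ _
  let Γ₀ : Polynomial A →+* AddMonoidAlgebra (Away 𝒜 f) ℕ :=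
    Polynomial.eval₂RingHom (AddMonoidAlgebra.singleZeroRingHom.comp DA)
      (AddMonoidAlgebra.single 1 1)
  let Γ : B →+* AddMonoidAlgebra (Away 𝒜 f) ℕ := Γ₀.comp e.symm.toRingHom
  have hΓe : ∀ P, Γ (e P) = Γ₀ P := fun P => by
    show Γ₀ (e.symm (e P)) = _
    rw [RingEquiv.symm_apply_apply]
  have hΓz : Γ z = AddMonoidAlgebra.single 1 1 := by
    rw [← heX, hΓe]
    exact Polynomial.eval₂_X _ _
  have hΓa : ∀ a : A, Γ (ι₀ a) = AddMonoidAlgebra.single 0 (DA a) := fun a => by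
    rw [← heC, hΓe]
    exact Polynomial.eval₂_C _ _
  have hΓg : Γ (φ f) = 1 := by
    rw [hφ, hΓa, hDA 1 f hf, mkHom_self]
    rfl
  have hunit : IsUnit (Γ (φ f)) := by
    rw [hΓg]
    exact isUnit_one
  let Γ' : Localization.Away (φ f) →+* AddMonoidAlgebra (Away 𝒜 f) ℕ :=
    IsLocalization.Away.lift (φ f) hunit
  have hΓ' : ∀ b : B, Γ' (algebraMap B _ b) = Γ b :=
    fun b => IsLocalization.Away.lift_eq (φ f) hunit b
  have hΓ'mk : ∀ (n : ℕ) (b : B), Γ' (Localization.mk b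
      (⟨(φ f) ^ n, pow_mem (Submonoid.mem_powers _) n⟩ : Submonoid.powers (φ f))) = Γ b := by
    intro n b
    have h1 : Localization.mk b
        (⟨(φ f) ^ n, pow_mem (Submonoid.mem_powers _) n⟩ : Submonoid.powers (φ f)) *
        algebraMap B (Localization.Away (φ f)) ((φ f) ^ n) = algebraMap B _ b := by
      rw [Localization.mk_eq_mk']
      exact IsLocalization.mk'_spec _ b ⟨(φ f) ^ n, pow_mem (Submonoid.mem_powers _) n⟩
    have h2 := congrArg Γ' h1
    rw [map_mul, hΓ', hΓ', map_pow, hΓg, one_pow, mul_one] at h2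
    exact h2
  let t : Away ℬ (φ f) := mkHom ℬ hg 1 ⟨z, hz⟩
  let ρ : Away 𝒜 f →+* Away ℬ (φ f) := Away.map φ f
  let αhom : AddMonoidAlgebra (Away 𝒜 f) ℕ →+* Away ℬ (φ f) :=
    AddMonoidAlgebra.liftNCRingHom ρ (powersHom _ t) (fun _ _ => Commute.all _ _)
  have hα : ∀ (n : ℕ) (c : Away 𝒜 f), αhom (AddMonoidAlgebra.single n c) = ρ c * t ^ n := by
    intro n c
    rw [AddMonoidAlgebra.liftNCRingHom_single]
    rfl
  have hρmk : ∀ (n : ℕ) (a : A) (ha : a ∈ 𝒜 n),
      ρ (mkHom 𝒜 hf n ⟨a, ha⟩) = mkHom ℬ hg n ⟨φ a, φ.2 ha⟩ := by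
    intro n a ha
    show Away.map φ f (Away.mk 𝒜 hf n a _) = _
    rw [Away.map_mk]
    rfl
  let β : Away ℬ (φ f) →+* AddMonoidAlgebra (Away 𝒜 f) ℕ :=
    Γ'.comp (algebraMap (Away ℬ (φ f)) (Localization.Away (φ f)))
  have hβmk : ∀ (n : ℕ) (b : B) (hb : b ∈ ℬ n), β (mkHom ℬ hg n ⟨b, hb⟩) = Γ b := by
    intro n b hb
    show Γ' ((mkHom ℬ hg n ⟨b, hb⟩).val) = _
    rw [val_mkHom]
    exact hΓ'mk n b
  have hc1 : ∀ b : B, αhom (Γ b) = DB b := by
    have h0 : (αhom.comp Γ).comp e.toRingHom = DB.comp e.toRingHom := by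
      refine Polynomial.ringHom_ext (fun a => ?_) ?_
      · show αhom (Γ (e (Polynomial.C a))) = DB (e (Polynomial.C a))
        rw [heC]
        have h1 : (αhom.comp Γ).comp ι₀ = DB.comp ι₀ := by
          refine ringHom_ext_of_homogeneous 𝒜 fun n a ha => ?_
          show αhom (Γ (ι₀ a)) = DB (ι₀ a)
          rw [hΓa, hα, pow_zero, mul_one, hDA n a ha, hρmk n a ha, ← hφ,
            hDB n (φ a) (φ.2 ha)]
        exact RingHom.congr_fun h1 a
      · show αhom (Γ (e Polynomial.X)) = DB (e Polynomial.X)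
        rw [heX, hΓz, hα, map_one, one_mul, pow_one, hDB 1 z hz]
    intro b
    have h2 : αhom (Γ (e (e.symm b))) = DB (e (e.symm b)) := RingHom.congr_fun h0 (e.symm b)
    rw [e.apply_symm_apply] at h2
    exact h2
  have h₁ : αhom.comp β = RingHom.id _ := by
    refine RingHom.ext fun y => ?_
    obtain ⟨n, b, hb, rfl⟩ := Away.mk_surjective ℬ hg y
    have hb' : b ∈ ℬ n := by simpa using hb
    show αhom (β (Away.mk ℬ hg n b hb)) = Away.mk ℬ hg n b hb
    rw [← mkHom_eq ℬ hg n b hb hb', hβmk, hc1, hDB n b hb']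
  have h₂ : β.comp αhom = RingHom.id _ := by
    refine AddMonoidAlgebra.ringHom_ext' ?_ ?_
    · refine RingHom.ext fun c => ?_
      show β (αhom (AddMonoidAlgebra.single 0 c)) = AddMonoidAlgebra.single 0 c
      rw [hα, pow_zero, mul_one]
      obtain ⟨n, a, ha, rfl⟩ := Away.mk_surjective 𝒜 hf c
      have ha' : a ∈ 𝒜 n := by simpa using ha
      rw [← mkHom_eq 𝒜 hf n a ha ha', hρmk n a ha', hβmk, hφ, hΓa, hDA n a ha']
    · refine MonoidHom.ext_mnat ?_
      show β (αhom (AddMonoidAlgebra.of _ _ (Multiplicative.ofAdd 1))) =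
        AddMonoidAlgebra.of _ _ (Multiplicative.ofAdd 1)
      rw [AddMonoidAlgebra.of_apply]
      show β (αhom (AddMonoidAlgebra.single (1 : ℕ) 1)) = AddMonoidAlgebra.single (1 : ℕ) 1
      rw [hα, map_one, one_mul, pow_one]
      exact (hβmk 1 z hz).trans hΓz
  refine ⟨RingEquiv.ofRingHom αhom β h₁ h₂, fun c => ?_⟩
  show αhom (AddMonoidAlgebra.single 0 c) = _
  rw [hα, pow_zero, mul_one]

end poly

end Groth.Agent.Lib.Helper3.AwayDeg1S
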