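import Mathlib

/-!
# Dehomogenisation onto `A_(f)` for `f` of degree one, and ring homomorphisms out of `A_(f)`
-/

set_option autoImplicit false
universe u
open HomogeneousLocalization

namespace Groth.Agent.Lib.Helper3.AwayGen

variable {A σ : Type*} [CommRing A] [SetLike σ A] [AddSubgroupClass σ A] {𝒜 : ℕ → σ}
  [GradedRing 𝒜] {f : A} (hf : f ∈ 𝒜 1)

theorem mem_smul_one {m : ℕ} {b : A} (hb : b ∈ 𝒜 m) : b ∈ 𝒜 (m • 1) := by
  rwa [smul_eq_mul, mul_one]

/-- the degree `m` part of dehomogenisation -/
noncomputable def dehFun (m : ℕ) : 𝒜 m →+ Away 𝒜 f where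
  toFun b := Away.mk 𝒜 hf m b (mem_smul_one b.2)
  map_zero' := by
    apply HomogeneousLocalization.val_injective
    rw [Away.val_mk, HomogeneousLocalization.val_zero]
    exact Localization.mk_zero _
  map_add' a b := by
    apply HomogeneousLocalization.val_injective
    rw [HomogeneousLocalization.val_add, Away.val_mk, Away.val_mk, Away.val_mk]
    exact (Localization.add_mk_self _ _ _).symm

/-- dehomogenisation `a ↦ Σ aₘ / f ^ m` -/
noncomputable def deh : A →+* Away 𝒜 f :=
  (DirectSum.toSemiring (dehFun hf)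
    (by
      apply HomogeneousLocalization.val_injective
      change (Away.mk 𝒜 hf 0 (1 : A) _).val = _
      rw [Away.val_mk, HomogeneousLocalization.val_one]
      simp only [pow_zero]
      exact Localization.mk_self 1)
    (by
      intro i j a b
      apply HomogeneousLocalization.val_injective
      change (Away.mk 𝒜 hf (i + j) ((a : A) * (b : A)) _).val =
        ((Away.mk 𝒜 hf i (a : A) _) * (Away.mk 𝒜 hf j (b : A) _)).val
      rw [HomogeneousLocalization.val_mul, Away.val_mk, Away.val_mk, Away.val_mk,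
        Localization.mk_mul]
      congr 1
      ext
      simp [pow_add])).comp
    (DirectSum.decomposeRingEquiv 𝒜).toRingHom

theorem deh_of_mem {m : ℕ} {b : A} (hb : b ∈ 𝒜 m) :
    deh hf b = Away.mk 𝒜 hf m b (mem_smul_one hb) := by
  unfold deh
  rw [RingHom.comp_apply]
  change DirectSum.toSemiring _ _ _ (DirectSum.decompose 𝒜 b) = _
  rw [DirectSum.decompose_of_mem 𝒜 hb, DirectSum.toSemiring_of]
  rfl

theorem deh_surjective : Function.Surjective (deh (𝒜 := 𝒜) hf) := by
  intro c
  obtain ⟨n, a, ha, rfl⟩ := Away.mk_surjective 𝒜 hf c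
  have ha' : a ∈ 𝒜 n := by rwa [smul_eq_mul, mul_one] at ha
  exact ⟨a, deh_of_mem hf ha'⟩

/-- ring homomorphisms out of `A_(f)` are determined by their values on the dehomogenisations of
ring generators of `A` -/
theorem hom_ext {B : Type*} [Semiring B] (χ₁ χ₂ : Away 𝒜 f →+* B) (G : Set A)
    (hG : Subring.closure G = ⊤) (h : ∀ x ∈ G, χ₁ (deh hf x) = χ₂ (deh hf x)) : χ₁ = χ₂ := by
  have h1 : χ₁.comp (deh hf) = χ₂.comp (deh hf) :=
    RingHom.eq_of_eqOn_set_dense hG (fun x hx => h x hx)
  ext z
  obtain ⟨a, rfl⟩ := deh_surjective hf z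
  exact congr($h1 a)

/-- a fraction of degree zero as a fraction of degree one -/
theorem mk_zero_eq {b : A} (hb : b ∈ 𝒜 0) :
    Away.mk 𝒜 hf 0 b (mem_smul_one hb) =
      Away.mk 𝒜 hf 1 (b * f) (mem_smul_one (by simpa using SetLike.mul_mem_graded hb hf)) := by
  apply HomogeneousLocalization.val_injective
  rw [Away.val_mk, Away.val_mk, Localization.mk_eq_mk_iff, Localization.r_iff_exists]
  refine ⟨1, ?_⟩
  simp only [OneMemClass.coe_one, one_mul, pow_zero, pow_one]
  ring

end Groth.Agent.Lib.Helper3.AwayGen
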