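import Groth.Agent.Lib.Helper3.InvAmple

/-!
# Base loci of tensor powers of an invertible module and the stable base locus
-/

set_option autoImplicit false
universe u
open CategoryTheory CategoryTheory.Limits AlgebraicGeometry TopologicalSpace Opposite
open Scheme.Modules

namespace Groth.Agent.Lib.Helper3.BaseLocus

open QCSec InvGen InvTensor InvMonoidal InvAmple

variable {X : Scheme.{u}}

/-- the base locus of `L^m` -/
def Bs (L : X.Modules) (m : ℕ) : Set X :=
  {x | ∀ s : Coh.structureModule X ⟶ CohB1.tensorPow L m, x ∉ CohB1.genLocus (CohB1.tensorPow L m) s}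

/-- the stable base locus -/
def SB (L : X.Modules) : Set X :=
  {x | ∀ m : ℕ, 0 < m → ∀ s : Coh.structureModule X ⟶ CohB1.tensorPow L m,
    x ∉ CohB1.genLocus (CohB1.tensorPow L m) s}

theorem sb_subset_bs (L : X.Modules) {m : ℕ} (hm : 0 < m) : SB L ⊆ Bs L m :=
  fun _ hx s => hx m hm s

theorem mem_sb_iff (L : X.Modules) (x : X) : x ∈ SB L ↔ ∀ m, 0 < m → x ∈ Bs L m :=
  ⟨fun h m hm s => h m hm s, fun h m hm s => h m hm s⟩

theorem isClosed_bs (L : X.Modules) (m : ℕ) : IsClosed (Bs L m) := by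
  rw [← isOpen_compl_iff]
  have : (Bs L m)ᶜ = ⋃ s : Coh.structureModule X ⟶ CohB1.tensorPow L m,
      (CohB1.genLocus (CohB1.tensorPow L m) s : Set X) := by
    ext x
    simp only [Bs, Set.mem_compl_iff, Set.mem_ofPred_eq, not_forall, not_not, Set.mem_iUnion,
      SetLike.mem_coe]
  rw [this]
  exact isOpen_iUnion fun s => (CohB1.genLocus _ s).2

theorem bs_mul_subset_left {L : X.Modules} (hL : PicF.IsInvertible L) (a : ℕ) {k : ℕ}
    (hk : 0 < k) : Bs L (a * k) ⊆ Bs L a := by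
  obtain ⟨k, rfl⟩ : ∃ k', k = k' + 1 := ⟨k - 1, by omega⟩
  intro x hx s hxs
  apply hx (powSec s (k + 1))
  rw [genLocus_powSec hL]
  exact hxs

theorem bs_mul_subset_right {L : X.Modules} (hL : PicF.IsInvertible L) (a : ℕ) {k : ℕ}
    (hk : 0 < k) : Bs L (k * a) ⊆ Bs L a := by
  intro x hx
  apply bs_mul_subset_left hL a hk
  intro s hxs
  apply hx (castSec (Nat.mul_comm a k) s)
  rw [genLocus_castSec]
  exact hxs

/-- In a Noetherian space, some `Bs(L^n₀)` is the stable base locus. -/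
theorem exists_bs_eq_sb [NoetherianSpace X] {L : X.Modules} (hL : PicF.IsInvertible L) :
    ∃ n₀ : ℕ, 0 < n₀ ∧ Bs L n₀ = SB L := by
  let S : Set (Closeds X) := {Z | ∃ m : ℕ, 0 < m ∧ (Z : Set X) = Bs L m}
  have hS : S.Nonempty := ⟨⟨Bs L 1, isClosed_bs L 1⟩, 1, one_pos, rfl⟩
  obtain ⟨Z, ⟨n₀, hn₀, hZ⟩, hmin⟩ := (wellFounded_lt (α := Closeds X)).has_min S hS
  refine ⟨n₀, hn₀, ?_⟩
  apply Set.Subset.antisymm
  · intro x hx
    rw [mem_sb_iff]
    intro m hm
    have h1 : Bs L (n₀ * m) ⊆ Bs L n₀ := bs_mul_subset_left hL n₀ hm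
    have h2 : Bs L (n₀ * m) ⊆ Bs L m := bs_mul_subset_right hL m hn₀
    have h3 : ¬ ((⟨Bs L (n₀ * m), isClosed_bs L _⟩ : Closeds X) < Z) :=
      hmin _ ⟨n₀ * m, Nat.mul_pos hn₀ hm, rfl⟩
    have h4 : Bs L n₀ ⊆ Bs L (n₀ * m) := by
      by_contra hcon
      apply h3
      rw [lt_iff_le_and_ne]
      refine ⟨?_, ?_⟩
      · intro y hy
        change y ∈ (Z : Set X)
        rw [hZ]
        exact h1 hy
      · intro heq
        apply hcon
        rw [← hZ, ← heq]
        exact subset_rfl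
    exact h2 (h4 hx)
  · exact sb_subset_bs L hn₀

/-- the stable base locus is `Bs(L^(k n₀))` for all `k > 0` -/
theorem exists_forall_bs_mul_eq_sb [NoetherianSpace X] {L : X.Modules}
    (hL : PicF.IsInvertible L) :
    ∃ n₀ : ℕ, 0 < n₀ ∧ ∀ k : ℕ, 0 < k → SB L = Bs L (k * n₀) := by
  obtain ⟨n₀, hn₀, h⟩ := exists_bs_eq_sb hL
  refine ⟨n₀, hn₀, fun k hk => ?_⟩
  apply Set.Subset.antisymm
  · exact sb_subset_bs L (Nat.mul_pos hk hn₀)
  · rw [← h]
    exact bs_mul_subset_right hL n₀ hk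

theorem bs_pow (L : X.Modules) (p m : ℕ) :
    Bs (CohB1.tensorPow L p) m = Bs L (p * m) := by
  ext x
  constructor
  · intro hx s hxs
    apply hx (s ≫ (powMul L p m).inv)
    rw [genLocus_comp_iso]
    exact hxs
  · intro hx s hxs
    apply hx (s ≫ (powMul L p m).hom)
    rw [genLocus_comp_iso]
    exact hxs

theorem sb_pow {L : X.Modules} (hL : PicF.IsInvertible L) {p : ℕ} (hp : 0 < p) :
    SB (CohB1.tensorPow L p) = SB L := by
  ext x
  rw [mem_sb_iff, mem_sb_iff]
  constructor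
  · intro h m hm
    have := h m hm
    rw [bs_pow] at this
    exact bs_mul_subset_right hL m hp this
  · intro h m hm
    rw [bs_pow]
    exact h _ (Nat.mul_pos hp hm)

/-- a scheme of finite type over a field is a Noetherian space -/
theorem noetherianSpace_of_proper_over_field {X : Scheme.{u}} {K : Type u} [Field K]
    (f : X ⟶ Spec (CommRingCat.of K)) [LocallyOfFiniteType f] [QuasiCompact f] :
    NoetherianSpace X := by
  haveI : IsLocallyNoetherian X := LocallyOfFiniteType.isLocallyNoetherian f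
  haveI : CompactSpace X := QuasiCompact.compactSpace_of_compactSpace f
  haveI : IsNoetherian X := {}
  infer_instance

end Groth.Agent.Lib.Helper3.BaseLocus
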