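import Groth.Agent.Lib.Helper3.ProjClosed
import Groth.Agent.Lib.Helper3.GrTransport
import Groth.Agent.Lib.Helper3.ToProj

/-!
# The homogeneous ideal of a closed subscheme of `Proj 𝒜`

Independence of the family of charts, functoriality, localization, and the wrapper for gradings by
additive subgroups.
-/

set_option autoImplicit false
set_option linter.unusedSectionVars false
universe u
open CategoryTheory CategoryTheory.Limits AlgebraicGeometry TopologicalSpace Opposite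
open Scheme.Modules
open scoped HomogeneousIdeal

namespace Groth.Agent.Lib.Helper3.CPa

open QCSec TwistBasic GrTildeQC ProjFrac GrTildeHom ProjMapFn ProjClosed ToProj GrTransport

/-! ### graded algebra lemmas -/

section Alg

variable {A A' B B' : Type u} [CommRing A] [CommRing A'] [CommRing B] [CommRing B']
  {σ σ' τ τ' : Type*} [SetLike σ A] [AddSubgroupClass σ A] [SetLike σ' A'] [AddSubgroupClass σ' A']
  [SetLike τ B] [AddSubgroupClass τ B] [SetLike τ' B'] [AddSubgroupClass τ' B']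
  {𝒜 : ℕ → σ} {𝒜' : ℕ → σ'} {ℬ : ℕ → τ} {ℬ' : ℕ → τ'} [GradedRing 𝒜] [GradedRing 𝒜']
  [GradedRing ℬ] [GradedRing ℬ']

theorem map_mem_irrelevant (φ : 𝒜 →+*ᵍ ℬ) {a : A}
    (ha : a ∈ (HomogeneousIdeal.irrelevant 𝒜).toIdeal) :
    φ a ∈ (HomogeneousIdeal.irrelevant ℬ).toIdeal := by
  have h0 : (DirectSum.decompose 𝒜 a 0 : A) = 0 := by
    have := (HomogeneousIdeal.mem_irrelevant_iff 𝒜 a).mp ha
    rwa [GradedRing.proj_apply] at this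
  refine (HomogeneousIdeal.mem_irrelevant_iff ℬ (φ a)).mpr ?_
  rw [GradedRing.proj_apply, ← GradedRingHom.map_directSumDecompose 𝒜 ℬ φ, h0, map_zero]

/-- the irrelevant ideal condition passes to quotients -/
theorem irrelevant_le_of_square (θ : 𝒜 →+*ᵍ 𝒜') (hθ : 𝒜'₊ ≤ 𝒜₊.map θ) (φ : 𝒜 →+*ᵍ ℬ)
    (φ' : 𝒜' →+*ᵍ ℬ') (ψ : ℬ →+*ᵍ ℬ') (hsq : ∀ a, ψ (φ a) = φ' (θ a))
    (hsurj : ∀ (d : ℕ) (b : B'), b ∈ ℬ' d → ∃ a ∈ 𝒜' d, φ' a = b) : ℬ'₊ ≤ ℬ₊.map ψ := by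
  rw [HomogeneousIdeal.irrelevant_le]
  intro i hi b hb
  change b ∈ Ideal.map ψ (ℬ₊).toIdeal
  obtain ⟨a', ha', rfl⟩ := hsurj i b hb
  have h1 : a' ∈ Ideal.map θ (𝒜₊).toIdeal := (HomogeneousIdeal.irrelevant_le _).mp hθ i hi ha'
  have h2 : Ideal.map θ (𝒜₊).toIdeal ≤ Ideal.comap φ' (Ideal.map ψ (ℬ₊).toIdeal) := by
    rw [Ideal.map_le_iff_le_comap]
    intro a ha
    change φ' (θ a) ∈ Ideal.map ψ (ℬ₊).toIdeal
    rw [← hsq]
    exact Ideal.mem_map_of_mem _ (map_mem_irrelevant φ ha)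
  exact h2 h1

end Alg

/-! ### the ideal `K` -/

theorem rres0 {X : Scheme.{u}} {U V : X.Opens} (h : V ≤ U) : rres X h (0 : Γ(X, U)) = 0 :=
  map_zero (X.presheaf.map (homOfLE h).op).hom

theorem rres_eq_zero_of_eq {X : Scheme.{u}} {U V V' : X.Opens} (hV : V = V') (e : V ≤ U)
    (e' : V' ≤ U) (x : Γ(X, U)) (h0 : rres X e x = 0) : rres X e' x = 0 := by
  subst hV
  exact h0

theorem app_eq_zero_of_eq {X Y : Scheme.{u}} {f g : X ⟶ Y} (e : f = g) (U : Y.Opens)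
    (y : Γ(Y, U)) (h0 : f.app U y = 0) : g.app U y = 0 := by
  subst e
  exact h0

section One

variable {R A : Type u} [CommRing R] [CommRing A] [Algebra R A] {𝒜 : ℕ → Submodule R A}
  [GradedAlgebra 𝒜] {Z : Scheme.{u}} (ι : Z ⟶ Proj 𝒜)

variable (𝒜) in
/-- the type of elements of degree one -/
abbrev D1 : Type u := {g : A // g ∈ 𝒜 1}

variable (𝒜) in
/-- the tautological family of all elements of degree one -/
def fall : D1 𝒜 → A := Subtype.val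

variable (𝒜) in
theorem hfall : ∀ g : D1 𝒜, fall 𝒜 g ∈ 𝒜 1 := fun g => g.2

/-- the homogeneous ideal of a morphism to `Proj` -/
def K : Ideal A := ProjClosed.J (hfall 𝒜) ι.ker

theorem K_homogeneous : (K ι).IsHomogeneous 𝒜 := J_homogeneous _ _

theorem mem_K {a : A} : a ∈ K ι ↔ InJ (hfall 𝒜) ι.ker a := Iff.rfl

theorem one_notMem {U : (Proj 𝒜).Opens} (x : U) : (1 : A) ∉ x.1.asHomogeneousIdeal :=
  fun hx => x.1.isPrime.ne_top ((Ideal.eq_top_iff_one _).mpr hx)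

theorem good_zero {U : (Proj 𝒜).Opens} {s : A} (hs : s ∈ 𝒜 0) : Good U s 1 :=
  good_of_mem hs SetLike.GradedOne.one_mem (fun x => one_notMem x)

theorem inJ_iff [QuasiCompact ι] {κ : Type u} {f : κ → A} (hf : ∀ k, f k ∈ 𝒜 1) (a : A) :
    InJ hf ι.ker a ↔ ∀ (n : ℕ) (k : κ), ι.app (Proj.basicOpen 𝒜 (f k))
      (fn (Proj.basicOpen 𝒜 (f k)) (DirectSum.decompose 𝒜 a n : A) (f k ^ n)) = 0 := by
  unfold InJ
  refine forall_congr' (fun n => forall_congr' (fun k => ?_))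
  rw [Scheme.Hom.ker_apply]
  exact RingHom.mem_ker

/-- the homogeneous ideal may be computed on any covering family of charts -/
theorem inJ_all_of_cover [QuasiCompact ι] {κ : Type u} {f : κ → A} (hf : ∀ k, f k ∈ 𝒜 1)
    (hcov : ∀ x : Proj 𝒜, ∃ k, x ∈ Proj.basicOpen 𝒜 (f k)) {a : A} (ha : InJ hf ι.ker a) :
    InJ (hfall 𝒜) ι.ker a := by
  rw [inJ_iff] at ha ⊢
  intro n g
  have hbn : (DirectSum.decompose 𝒜 a n : A) ∈ 𝒜 n := SetLike.coe_mem _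
  refine TopCat.Sheaf.eq_of_locally_eq' Z.sheaf
    (fun k : κ => ι ⁻¹ᵁ (Proj.basicOpen 𝒜 (fall 𝒜 g) ⊓ Proj.basicOpen 𝒜 (f k)))
    (ι ⁻¹ᵁ Proj.basicOpen 𝒜 (fall 𝒜 g))
    (fun k => homOfLE (ι.preimage_mono inf_le_left)) ?_ _ _ (fun k => ?_)
  · intro z hz
    obtain ⟨k, hk⟩ := hcov (ι z)
    exact Opens.mem_iSup.mpr ⟨k, ⟨hz, hk⟩⟩
  · have e : ι ⁻¹ᵁ (Proj.basicOpen 𝒜 (fall 𝒜 g) ⊓ Proj.basicOpen 𝒜 (f k)) ≤
        ι ⁻¹ᵁ Proj.basicOpen 𝒜 (fall 𝒜 g) := ι.preimage_mono inf_le_left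
    have e' : ι ⁻¹ᵁ (Proj.basicOpen 𝒜 (fall 𝒜 g) ⊓ Proj.basicOpen 𝒜 (f k)) ≤
        ι ⁻¹ᵁ Proj.basicOpen 𝒜 (f k) := ι.preimage_mono inf_le_right
    have h1 := appLE_fn_mul_pow ι (hfall 𝒜 g) (hf k) _ e e' hbn
    have h2 : ι.appLE (Proj.basicOpen 𝒜 (fall 𝒜 g)) _ e
        (fn (Proj.basicOpen 𝒜 (fall 𝒜 g)) (DirectSum.decompose 𝒜 a n : A) (fall 𝒜 g ^ n)) = 0 := by
      rw [← h1, appLE_eq_rres, ha n k, rres0, zero_mul]
    exact h2.trans (rres0 e).symm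

theorem mem_K_iff_of_mem [QuasiCompact ι] {κ : Type u} {f : κ → A} (hf : ∀ k, f k ∈ 𝒜 1)
    (hcov : ∀ x : Proj 𝒜, ∃ k, x ∈ Proj.basicOpen 𝒜 (f k)) {m : ℕ} {b : A} (hb : b ∈ 𝒜 m) :
    b ∈ K ι ↔ ∀ k, ι.app (Proj.basicOpen 𝒜 (f k))
      (fn (Proj.basicOpen 𝒜 (f k)) b (f k ^ m)) = 0 := by
  constructor
  · intro hK k
    have h0 : ι.app (Proj.basicOpen 𝒜 (f k))
        (fn (Proj.basicOpen 𝒜 (f k)) (DirectSum.decompose 𝒜 b m : A) (f k ^ m)) = 0 :=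
      (inJ_iff ι (hfall 𝒜) b).mp hK m ⟨f k, hf k⟩
    rw [DirectSum.decompose_of_mem_same 𝒜 hb] at h0
    exact h0
  · intro H
    refine inJ_all_of_cover ι hf hcov ?_
    rw [inJ_of_mem hf _ hb]
    intro k
    rw [Scheme.Hom.ker_apply]
    exact RingHom.mem_ker.mpr (H k)

noncomputable instance instGA : GradedAlgebra (GrQuot.piece 𝒜 (K ι)) :=
  GrQuot.gradedAlgebra _ _ (K_homogeneous ι)

/-- a closed subscheme of `Proj 𝒜` is the `Proj` of the quotient by its homogeneous ideal -/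
theorem exists_eK [IsClosedImmersion ι] {κ : Type u} [Finite κ] {f : κ → A}
    (hf : ∀ k, f k ∈ 𝒜 1) (hcov : ∀ x : Proj 𝒜, ∃ k, x ∈ Proj.basicOpen 𝒜 (f k)) :
    ∃ e : Z ≅ Proj (GrQuot.piece 𝒜 (K ι)),
      e.hom ≫ Proj.map (GrQuot.mkHom 𝒜 (K ι))
        (GrQuot.irrelevant_le _ _ (K_homogeneous ι)) = ι :=
  exists_iso_of_ker hf hcov (GrQuot.mkHom 𝒜 (K ι))
    (GrQuot.irrelevant_le _ _ (K_homogeneous ι))
    (fun _ _ hb => GrQuot.exists_of_mem_piece _ _ hb) ι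
    (fun a => by
      rw [GrQuot.mkHom_apply, Ideal.Quotient.eq_zero_iff_mem]
      exact ⟨fun ha n k => ha n ⟨f k, hf k⟩, inJ_all_of_cover ι hf hcov⟩)

theorem isClosedImmersion_mk {κ : Type u} {f : κ → A}
    (hf : ∀ k, f k ∈ 𝒜 1) (hcov : ∀ x : Proj 𝒜, ∃ k, x ∈ Proj.basicOpen 𝒜 (f k)) :
    IsClosedImmersion (Proj.map (GrQuot.mkHom 𝒜 (K ι))
      (GrQuot.irrelevant_le _ _ (K_homogeneous ι))) :=
  ProjMapFn.isClosedImmersion_map _ _ hf hcov (fun _ _ hb => GrQuot.exists_of_mem_piece _ _ hb)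

end One

/-! ### functoriality -/

section Two

variable {R A A' : Type u} [CommRing R] [CommRing A] [Algebra R A] {𝒜 : ℕ → Submodule R A}
  [GradedAlgebra 𝒜] [CommRing A'] [Algebra R A'] {𝒜' : ℕ → Submodule R A'} [GradedAlgebra 𝒜']
  (θ : 𝒜 →+*ᵍ 𝒜')
  (hθ : HomogeneousIdeal.irrelevant 𝒜' ≤ (HomogeneousIdeal.irrelevant 𝒜).map θ)
  {Z Z' : Scheme.{u}} (ι : Z ⟶ Proj 𝒜) (ι' : Z' ⟶ Proj 𝒜') (h : Z' ⟶ Z)
  (hc : h ≫ ι = ι' ≫ Proj.map θ hθ)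

include hc in
theorem app_map_eq_zero (U : (Proj 𝒜).Opens) (y : Γ(Proj 𝒜, U)) (h0 : ι.app U y = 0) :
    ι'.app (Proj.map θ hθ ⁻¹ᵁ U) ((Proj.map θ hθ).app U y) = 0 := by
  have h1 : (h ≫ ι).app U y = 0 := by
    rw [Scheme.Hom.comp_app]
    change h.app (ι ⁻¹ᵁ U) (ι.app U y) = 0
    rw [h0, map_zero]
  have h2 := app_eq_zero_of_eq hc U y h1
  rw [Scheme.Hom.comp_app] at h2
  exact h2

include hc in
theorem app_eq_zero_of_map (U : (Proj 𝒜).Opens) (y : Γ(Proj 𝒜, U))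
    (h0 : ι'.app (Proj.map θ hθ ⁻¹ᵁ U) ((Proj.map θ hθ).app U y) = 0) :
    h.app (ι ⁻¹ᵁ U) (ι.app U y) = 0 := by
  have h1 : (ι' ≫ Proj.map θ hθ).app U y = 0 := by
    rw [Scheme.Hom.comp_app]
    exact h0
  have h2 := app_eq_zero_of_eq hc.symm U y h1
  rw [Scheme.Hom.comp_app] at h2
  exact h2

include hc in
theorem map_mem_K [QuasiCompact ι] [QuasiCompact ι'] {κ : Type u} {f : κ → A}
    (hf : ∀ k, f k ∈ 𝒜 1) (hcov : ∀ x : Proj 𝒜, ∃ k, x ∈ Proj.basicOpen 𝒜 (f k))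
    {a : A} (ha : a ∈ K ι) : θ a ∈ K ι' := by
  have hf' : ∀ k, θ (f k) ∈ 𝒜' 1 := fun k => θ.map_mem (hf k)
  have hcov' : ∀ x : Proj 𝒜', ∃ k, x ∈ Proj.basicOpen 𝒜' (θ (f k)) := by
    intro x
    obtain ⟨k, hk⟩ := hcov ((Proj.map θ hθ) x)
    exact ⟨k, hk⟩
  refine inJ_all_of_cover ι' hf' hcov' ?_
  rw [inJ_iff]
  intro n k
  have h0 : ι.app (Proj.basicOpen 𝒜 (f k))
      (fn (Proj.basicOpen 𝒜 (f k)) (DirectSum.decompose 𝒜 a n : A) (f k ^ n)) = 0 :=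
    (inJ_iff ι (hfall 𝒜) a).mp ha n ⟨f k, hf k⟩
  have h1 := app_map_eq_zero θ hθ ι ι' h hc _ _ h0
  rw [app_fn θ hθ (goodD1 (hf k) (SetLike.coe_mem _)),
    GradedRingHom.map_directSumDecompose 𝒜 𝒜' θ, map_pow] at h1
  exact h1

variable (s : A) (hs : s ∈ 𝒜 0) [IsOpenImmersion h]
  (hrange : h.opensRange = ι ⁻¹ᵁ Proj.basicOpen 𝒜 s)

include hs hrange in
theorem exists_pow_mul_eq_zero [IsClosedImmersion ι] {g : A} (hg : g ∈ 𝒜 1)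
    (x : Γ(Z, ι ⁻¹ᵁ Proj.basicOpen 𝒜 g))
    (hx : h.app (ι ⁻¹ᵁ Proj.basicOpen 𝒜 g) x = 0) :
    ∃ N : ℕ, (ι.app (Proj.basicOpen 𝒜 g) (fn (Proj.basicOpen 𝒜 g) s 1)) ^ N * x = 0 := by
  have haff : IsAffineOpen (ι ⁻¹ᵁ Proj.basicOpen 𝒜 g) :=
    (Proj.isAffineOpen_basicOpen 𝒜 g hg Nat.one_pos).preimage ι
  refine exists_pow_mul_eq_zero_of_res_basicOpen_eq_zero_of_isCompact Z haff.isCompact x
    (ι.app (Proj.basicOpen 𝒜 g) (fn (Proj.basicOpen 𝒜 g) s 1)) ?_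
  have himg : h ''ᵁ (h ⁻¹ᵁ (ι ⁻¹ᵁ Proj.basicOpen 𝒜 g)) =
      Z.basicOpen (ι.app (Proj.basicOpen 𝒜 g) (fn (Proj.basicOpen 𝒜 g) s 1)) := by
    rw [Scheme.Hom.image_preimage_eq_opensRange_inf, hrange, ← Scheme.preimage_basicOpen,
      basicOpen_fn (good_zero hs)]
    ext z
    exact ⟨fun hz => ⟨hz.2, hz.1⟩, fun hz => ⟨hz.2, hz.1⟩⟩
  have h1 := congrArg (fun φ => φ.hom x) (Scheme.Hom.app_appIso_inv h (ι ⁻¹ᵁ Proj.basicOpen 𝒜 g))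
  have h2 : (h.appIso (h ⁻¹ᵁ (ι ⁻¹ᵁ Proj.basicOpen 𝒜 g))).inv.hom
      (h.app (ι ⁻¹ᵁ Proj.basicOpen 𝒜 g) x) = 0 := by
    rw [hx, map_zero]
  have h3 := h1.symm.trans h2
  exact rres_eq_zero_of_eq himg _ (Z.basicOpen_le _) x h3

include hc hs hrange in
theorem exists_pow_mul_mem_of_mem [IsClosedImmersion ι] [QuasiCompact ι'] {κ : Type u} [Finite κ]
    {f : κ → A} (hf : ∀ k, f k ∈ 𝒜 1)
    (hcov : ∀ x : Proj 𝒜, ∃ k, x ∈ Proj.basicOpen 𝒜 (f k)) {m : ℕ} {b : A} (hb : b ∈ 𝒜 m)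
    (hJ : θ b ∈ K ι') : ∃ N : ℕ, s ^ N * b ∈ K ι := by
  have key : ∀ k, ∃ N : ℕ,
      (ι.app (Proj.basicOpen 𝒜 (f k)) (fn (Proj.basicOpen 𝒜 (f k)) s 1)) ^ N *
        ι.app (Proj.basicOpen 𝒜 (f k)) (fn (Proj.basicOpen 𝒜 (f k)) b (f k ^ m)) = 0 := by
    intro k
    refine exists_pow_mul_eq_zero ι h s hs hrange (hf k) _ ?_
    have h0 : ι'.app (Proj.basicOpen 𝒜' (θ (f k)))
        (fn (Proj.basicOpen 𝒜' (θ (f k))) (DirectSum.decompose 𝒜' (θ b) m : A')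
          (θ (f k) ^ m)) = 0 :=
      (inJ_iff ι' (hfall 𝒜') (θ b)).mp hJ m ⟨θ (f k), θ.map_mem (hf k)⟩
    have hθb : θ b ∈ 𝒜' m := θ.map_mem hb
    rw [DirectSum.decompose_of_mem_same 𝒜' hθb] at h0
    refine app_eq_zero_of_map θ hθ ι ι' h hc _ _ ?_
    rw [app_fn θ hθ (goodD1 (hf k) hb), map_pow]
    exact h0
  choose N₀ hN₀ using key
  obtain ⟨N, hN⟩ := Finite.exists_le N₀
  refine ⟨N, ?_⟩
  have hsN : s ^ N ∈ 𝒜 0 := by
    have := SetLike.pow_mem_graded N hs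
    simpa using this
  have hb' : s ^ N * b ∈ 𝒜 m := by
    have := SetLike.mul_mem_graded hsN hb
    rwa [zero_add] at this
  rw [mem_K_iff_of_mem ι hf hcov hb']
  intro k
  have e : fn (Proj.basicOpen 𝒜 (f k)) (s ^ N * b) (f k ^ m) =
      fn (Proj.basicOpen 𝒜 (f k)) s 1 ^ N * fn (Proj.basicOpen 𝒜 (f k)) b (f k ^ m) := by
    rw [fn_pow (good_zero hs), fn_mul ((good_zero hs).pow N) (goodD1 (hf k) hb), one_pow, one_mul]
  rw [e, map_mul, map_pow, ← Nat.sub_add_cancel (hN k), pow_add, mul_assoc, hN₀ k, mul_zero]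

include hc hs hrange in
/-- elements mapping into the ideal over the localization are in the ideal up to a power -/
theorem exists_pow_mul_mem [IsClosedImmersion ι] [QuasiCompact ι'] {κ : Type u} [Finite κ]
    {f : κ → A} (hf : ∀ k, f k ∈ 𝒜 1)
    (hcov : ∀ x : Proj 𝒜, ∃ k, x ∈ Proj.basicOpen 𝒜 (f k)) (a : A)
    (hJ : θ a ∈ K ι') : ∃ N : ℕ, s ^ N * a ∈ K ι := by
  classical
  rw [← DirectSum.sum_support_decompose 𝒜 a]
  refine Finset.sum_induction _ (fun x => ∃ N : ℕ, s ^ N * x ∈ K ι)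
    ?_ ⟨0, by rw [mul_zero]; exact zero_mem _⟩ ?_
  · rintro c c' ⟨N, hN⟩ ⟨N', hN'⟩
    refine ⟨N + N', ?_⟩
    have e : s ^ (N + N') * (c + c') = s ^ N' * (s ^ N * c) + s ^ N * (s ^ N' * c') := by
      rw [pow_add]
      ring
    rw [e]
    exact add_mem (Ideal.mul_mem_left _ _ hN) (Ideal.mul_mem_left _ _ hN')
  · intro m _
    refine exists_pow_mul_mem_of_mem θ hθ ι ι' h hc s hs hrange hf hcov (SetLike.coe_mem _) ?_
    rw [GradedRingHom.map_directSumDecompose 𝒜 𝒜' θ]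
    exact K_homogeneous ι' m hJ

/-- the induced graded homomorphism of the quotients -/
noncomputable def quotHom (hle : ∀ a, a ∈ K ι → θ a ∈ K ι') :
    GrQuot.piece 𝒜 (K ι) →+*ᵍ GrQuot.piece 𝒜' (K ι') where
  toRingHom := Ideal.quotientMap (K ι') θ.toRingHom (fun a ha => hle a ha)
  map_mem := by
    intro d x hx
    obtain ⟨a, ha, rfl⟩ := GrQuot.exists_of_mem_piece _ _ hx
    exact GrQuot.mk_mem_piece _ _ (θ.map_mem ha)

theorem quotHom_mk (hle : ∀ a, a ∈ K ι → θ a ∈ K ι') (a : A) :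
    quotHom θ ι ι' hle (Ideal.Quotient.mk (K ι) a) = Ideal.Quotient.mk (K ι') (θ a) := rfl

include hθ in
theorem irr_quot (hle : ∀ a, a ∈ K ι → θ a ∈ K ι') :
    HomogeneousIdeal.irrelevant (GrQuot.piece 𝒜' (K ι')) ≤
      (HomogeneousIdeal.irrelevant (GrQuot.piece 𝒜 (K ι))).map (quotHom θ ι ι' hle) :=
  irrelevant_le_of_square θ hθ (GrQuot.mkHom 𝒜 (K ι)) (GrQuot.mkHom 𝒜' (K ι'))
    (quotHom θ ι ι' hle) (fun _ => rfl) (fun _ _ hb => GrQuot.exists_of_mem_piece _ _ hb)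

include hc in
theorem e_comp (hle : ∀ a, a ∈ K ι → θ a ∈ K ι')
    (hmono : Mono (Proj.map (GrQuot.mkHom 𝒜 (K ι)) (GrQuot.irrelevant_le _ _ (K_homogeneous ι))))
    (e : Z ≅ Proj (GrQuot.piece 𝒜 (K ι)))
    (he : e.hom ≫ Proj.map (GrQuot.mkHom 𝒜 (K ι))
      (GrQuot.irrelevant_le _ _ (K_homogeneous ι)) = ι)
    (e' : Z' ≅ Proj (GrQuot.piece 𝒜' (K ι')))
    (he' : e'.hom ≫ Proj.map (GrQuot.mkHom 𝒜' (K ι'))
      (GrQuot.irrelevant_le _ _ (K_homogeneous ι')) = ι') :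
    h ≫ e.hom = e'.hom ≫ Proj.map (quotHom θ ι ι' hle) (irr_quot θ hθ ι ι' hle) := by
  have hR : (e'.hom ≫ Proj.map (quotHom θ ι ι' hle) (irr_quot θ hθ ι ι' hle)) ≫
      Proj.map (GrQuot.mkHom 𝒜 (K ι)) (GrQuot.irrelevant_le _ _ (K_homogeneous ι)) =
      (e'.hom ≫ Proj.map (GrQuot.mkHom 𝒜' (K ι'))
        (GrQuot.irrelevant_le _ _ (K_homogeneous ι'))) ≫ Proj.map θ hθ := by
    rw [Category.assoc, Category.assoc, ← Proj.map_comp, ← Proj.map_comp]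
    congr 1
  rw [← cancel_mono (Proj.map (GrQuot.mkHom 𝒜 (K ι))
    (GrQuot.irrelevant_le _ _ (K_homogeneous ι))), Category.assoc, he, hc, hR, he']

end Two

end Groth.Agent.Lib.Helper3.CPa
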