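import Groth.Agent.Lib.Helper6.ProjMap

/-!
# The preimage of a basic open under `Proj 𝒜 ⟶ Spec 𝒜₀`
-/

set_option autoImplicit false
set_option linter.unusedSectionVars false
universe u
open CategoryTheory CategoryTheory.Limits AlgebraicGeometry TopologicalSpace Opposite
open HomogeneousLocalization
open scoped HomogeneousIdeal

namespace Groth.Agent.Lib.Helper3.ProjZero

variable {A σ : Type u} [CommRing A] [SetLike σ A] [AddSubgroupClass σ A]
  (𝒜 : ℕ → σ) [GradedRing 𝒜]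

theorem isLocalizationElem_eq {d : ℕ} {g : A} (hg : g ∈ 𝒜 d) (w : 𝒜 0)
    (hwg : (w : A) * g ∈ 𝒜 d) :
    Away.isLocalizationElem hg hwg = (fromZeroRingHom 𝒜 (Submonoid.powers g) w) ^ d := by
  apply val_injective
  rw [val_pow, Away.val_mk]
  change _ = (Localization.mk (w : A) 1) ^ d
  rw [Localization.mk_pow, Localization.mk_eq_mk_iff, Localization.r_iff_exists]
  refine ⟨1, ?_⟩
  simp only [OneMemClass.coe_one, one_mul, one_pow]
  change ((w : A) * g) ^ d = g ^ d * (w : A) ^ d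
  ring

theorem awayι_preimage_toSpecZero {d : ℕ} (hd : 0 < d) {g : A} (hg : g ∈ 𝒜 d) (w : 𝒜 0) :
    Proj.awayι 𝒜 g hg hd ⁻¹ᵁ (Proj.toSpecZero 𝒜 ⁻¹ᵁ PrimeSpectrum.basicOpen w) =
      Proj.awayι 𝒜 g hg hd ⁻¹ᵁ (Proj.basicOpen 𝒜 (w : A)) := by
  have hwg : (w : A) * g ∈ 𝒜 d := by
    have := SetLike.mul_mem_graded w.2 hg
    rwa [zero_add] at this
  have h1 : Proj.awayι 𝒜 g hg hd ⁻¹ᵁ (Proj.basicOpen 𝒜 (w : A)) =
      Proj.awayι 𝒜 g hg hd ⁻¹ᵁ (Proj.basicOpen 𝒜 ((w : A) * g)) := by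
    rw [Proj.basicOpen_mul]
    ext y
    constructor
    · intro hy
      refine ⟨hy, ?_⟩
      have : (Proj.awayι 𝒜 g hg hd) y ∈ (Proj.awayι 𝒜 g hg hd).opensRange := ⟨y, rfl⟩
      rw [Proj.opensRange_awayι] at this
      exact this
    · intro hy
      exact hy.1
  rw [h1, Proj.awayι_preimage_basicOpen 𝒜 hg hd hwg hd, isLocalizationElem_eq 𝒜 hg w hwg,
    PrimeSpectrum.basicOpen_pow _ _ hd, ← Scheme.Hom.comp_preimage, Proj.awayι_toSpecZero]
  rfl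

theorem toSpecZero_preimage_basicOpen (w : 𝒜 0) :
    Proj.toSpecZero 𝒜 ⁻¹ᵁ PrimeSpectrum.basicOpen w = Proj.basicOpen 𝒜 (w : A) := by
  ext x
  obtain ⟨d, hd, g, hg, hx⟩ := Groth.Agent.Lib.Helper6.exists_homogeneous_mem_basicOpen 𝒜 x
  have hr : x ∈ (Proj.awayι 𝒜 g hg hd).opensRange := by
    rw [Proj.opensRange_awayι]; exact hx
  obtain ⟨y, rfl⟩ := hr
  have := awayι_preimage_toSpecZero 𝒜 hd hg w
  exact (SetLike.ext_iff.mp this y)

end Groth.Agent.Lib.Helper3.ProjZero
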