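import Groth.Agent.Lib.Helper3.GrModQC
import Groth.Agent.Lib.Helper3.InvGen
import Groth.Agent.Lib.Helper3.QCExact

/-!
# `GrTwist.comap` along a localization away from an element of degree zero
-/

set_option autoImplicit false
set_option linter.unusedSectionVars false
universe u
open CategoryTheory CategoryTheory.Limits AlgebraicGeometry TopologicalSpace Opposite
open Scheme.Modules
open scoped HomogeneousIdeal

namespace Groth.Agent.Lib.Helper3.GrTwistLoc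

open QCSec InvGen GrModQC

variable {A B σ τ : Type u} [CommRing A] [CommRing B] [SetLike σ A] [AddSubgroupClass σ A]
  {𝒜 : ℕ → σ} [GradedRing 𝒜] [SetLike τ B] [AddSubgroupClass τ B] {ℬ : ℕ → τ} [GradedRing ℬ]
  (ψ : 𝒜 →+*ᵍ ℬ) (hirr : ℬ₊ ≤ (𝒜₊).map ψ)
  (c : A) (hu : IsUnit (ψ c))
  (hsurj : ∀ b : B, ∃ (k : ℕ) (a : A), b * ψ c ^ k = ψ a)
  (hker : ∀ a : A, ψ a = 0 → ∃ m : ℕ, c ^ m * a = 0)

include hu in
theorem pow_notMem (y : ProjectiveSpectrum ℬ) (k : ℕ) :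
    ψ c ^ k ∉ y.asHomogeneousIdeal.toIdeal := fun h =>
  y.isPrime.ne_top (Ideal.eq_top_of_isUnit_mem _ h (hu.pow k))

include hu in
theorem pow_notMem_comap (y : ProjectiveSpectrum ℬ) (k : ℕ) :
    c ^ k ∉ (ProjectiveSpectrum.comap ψ hirr y).asHomogeneousIdeal.toIdeal := fun h => by
  have h1 : ψ (c ^ k) ∈ y.asHomogeneousIdeal.toIdeal := h
  rw [map_pow] at h1
  exact pow_notMem ψ c hu y k h1

include hu hsurj hker in
theorem locMap_eq_zero (y : ProjectiveSpectrum ℬ)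
    (q : GrTwist.Loc 𝒜 (ProjectiveSpectrum.comap ψ hirr y))
    (hq : GrTwist.locMap ψ hirr y q = 0) : q = 0 := by
  induction q using Localization.induction_on with
  | H as =>
    obtain ⟨a, s⟩ := as
    rw [GrTwist.locMap_mk, Localization.mk_eq_mk', IsLocalization.mk'_eq_zero_iff] at hq
    obtain ⟨t, ht⟩ := hq
    obtain ⟨k, t₀, hkt⟩ := hsurj t.1
    have ht₀ : t₀ ∉ (ProjectiveSpectrum.comap ψ hirr y).asHomogeneousIdeal.toIdeal := by
      intro hmem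
      have h1 : ψ t₀ ∈ y.asHomogeneousIdeal.toIdeal := hmem
      rw [← hkt] at h1
      rcases y.isPrime.mem_or_mem h1 with h2 | h2
      · exact t.2 h2
      · exact pow_notMem ψ c hu y k h2
    have h0 : ψ (t₀ * a) = 0 := by
      rw [map_mul, ← hkt, mul_right_comm, ht, zero_mul]
    obtain ⟨m, hm⟩ := hker _ h0
    rw [Localization.mk_eq_mk', IsLocalization.mk'_eq_zero_iff]
    refine ⟨⟨c ^ m * t₀, fun hmem => ?_⟩, ?_⟩
    · rcases (ProjectiveSpectrum.comap ψ hirr y).isPrime.mem_or_mem hmem with h2 | h2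
      · exact pow_notMem_comap ψ hirr c hu y m h2
      · exact ht₀ h2
    · change c ^ m * t₀ * a = 0
      rw [mul_assoc, hm]

include hu hsurj hker in
theorem comap_app_injective (n : ℤ) (W' : (Proj 𝒜).Opens)
    (hW' : ∀ x ∈ W', ∃ y, ProjectiveSpectrum.comap ψ hirr y = x) :
    Function.Injective ((GrTwist.comap ψ hirr n).app W') := by
  intro t t' htt
  apply val_ext
  rintro ⟨x, hx⟩
  obtain ⟨y, rfl⟩ := hW' x hx
  have h1 : GrTwist.locMap ψ hirr y (val t ⟨_, hx⟩) =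
      GrTwist.locMap ψ hirr y (val t' ⟨_, hx⟩) := by
    have := congrArg (fun s => val (U := Proj.map ψ hirr ⁻¹ᵁ W') s ⟨y, hx⟩) htt
    exact this
  have h2 := locMap_eq_zero ψ hirr c hu hsurj hker y (val t ⟨_, hx⟩ - val t' ⟨_, hx⟩)
    (by rw [map_sub, h1, sub_self])
  exact sub_eq_zero.mp h2

include hsurj in
theorem exists_homogeneous_lift (hc : c ∈ 𝒜 0) {i : ℕ} {b : B} (hb : b ∈ ℬ i) :
    ∃ (k : ℕ) (a : A), a ∈ 𝒜 i ∧ b * ψ c ^ k = ψ a := by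
  classical
  obtain ⟨k, a, hka⟩ := hsurj b
  have hc0 : ψ c ^ k ∈ ℬ 0 := by
    have := SetLike.pow_mem_graded k (ψ.map_mem hc)
    rwa [smul_zero] at this
  have hbi : b * ψ c ^ k ∈ ℬ i := by
    simpa only [add_zero] using SetLike.mul_mem_graded (A := ℬ) hb hc0
  refine ⟨k, (DirectSum.decompose 𝒜 a i : A), SetLike.coe_mem _, ?_⟩
  rw [GradedRingHom.map_directSumDecompose, ← hka, DirectSum.decompose_of_mem_same _ hbi]

include hu hsurj hker in
theorem comap_app_surjective (hc : c ∈ 𝒜 0) [IsOpenImmersion (Proj.map ψ hirr)] (n : ℤ)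
    (W' : (Proj 𝒜).Opens)
    (hW' : ∀ x ∈ W', ∃ y, ProjectiveSpectrum.comap ψ hirr y = x) :
    Function.Surjective ((GrTwist.comap ψ hirr n).app W') := by
  classical
  intro t'
  have hloc : ∀ x : {x : Proj 𝒜 // x ∈ W'}, ∃ (N : (Proj 𝒜).Opens) (hN : N ≤ W')
      (τ : Γ(GrTwist.twist 𝒜 n, N)), x.1 ∈ N ∧
      (GrTwist.comap ψ hirr n).app N τ =
        res ((Scheme.Modules.pushforward (Proj.map ψ hirr)).obj (GrTwist.twist ℬ n)) hN t' := by
    rintro ⟨x, hx⟩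
    obtain ⟨y, rfl⟩ := hW' x hx
    obtain ⟨V', hyV', hV'W, i, j', b, g, hg, hdeg, hv⟩ :=
      isLocFrac_val (U := Proj.map ψ hirr ⁻¹ᵁ W') t' ⟨y, hx⟩
    have hNW : Proj.map ψ hirr ''ᵁ V' ≤ W' := by
      rintro _ ⟨z, hz, rfl⟩
      exact hV'W hz
    have hyN : ProjectiveSpectrum.comap ψ hirr y ∈ Proj.map ψ hirr ''ᵁ V' := ⟨y, hyV', rfl⟩
    have hpre : ∀ z : Proj ℬ, z ∈ Proj.map ψ hirr ⁻¹ᵁ (Proj.map ψ hirr ''ᵁ V') → z ∈ V' := by
      intro z hz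
      rwa [(Proj.map ψ hirr).preimage_image_eq] at hz
    rcases hdeg with hd | h0
    · obtain ⟨k₁, b₀, hb₀, hkb⟩ := exists_homogeneous_lift ψ c hsurj hc b.2
      obtain ⟨k₂, g₀, hg₀, hkg⟩ := exists_homogeneous_lift ψ c hsurj hc g.2
      have hck : ∀ k : ℕ, c ^ k ∈ 𝒜 0 := fun k => by
        have := SetLike.pow_mem_graded k hc
        rwa [smul_zero] at this
      have hb₁ : b₀ * c ^ k₂ ∈ 𝒜 i := by
        simpa only [add_zero] using SetLike.mul_mem_graded (A := 𝒜) hb₀ (hck k₂)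
      have hg₁ : g₀ * c ^ k₁ ∈ 𝒜 j' := by
        simpa only [add_zero] using SetLike.mul_mem_graded (A := 𝒜) hg₀ (hck k₁)
      have hψb : ψ (b₀ * c ^ k₂) = b.1 * ψ c ^ k₁ * ψ c ^ k₂ := by
        rw [map_mul, map_pow, ← hkb]
      have hψg : ψ (g₀ * c ^ k₁) = g.1 * ψ c ^ k₂ * ψ c ^ k₁ := by
        rw [map_mul, map_pow, ← hkg]
      have hgN : ∀ x : (Proj.map ψ hirr ''ᵁ V' : (Proj 𝒜).Opens),
          g₀ * c ^ k₁ ∉ x.1.asHomogeneousIdeal := by
        rintro ⟨_, z, hz, rfl⟩ hmem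
        have h1 : ψ (g₀ * c ^ k₁) ∈ z.asHomogeneousIdeal.toIdeal := hmem
        rw [hψg] at h1
        rcases z.isPrime.mem_or_mem h1 with h2 | h2
        · rcases z.isPrime.mem_or_mem h2 with h3 | h3
          · exact hg ⟨z, hz⟩ h3
          · exact pow_notMem ψ c hu z k₂ h3
        · exact pow_notMem ψ c hu z k₁ h2
      refine ⟨Proj.map ψ hirr ''ᵁ V', hNW,
        frac (Proj.map ψ hirr ''ᵁ V') ⟨b₀ * c ^ k₂, hb₁⟩ ⟨g₀ * c ^ k₁, hg₁⟩ hgN n hd, hyN, ?_⟩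
      apply val_ext (U := Proj.map ψ hirr ⁻¹ᵁ (Proj.map ψ hirr ''ᵁ V'))
      rintro ⟨z, hz⟩
      have hzV' : z ∈ V' := hpre z hz
      have e1 := hv ⟨z, hzV'⟩
      change val (U := Proj.map ψ hirr ⁻¹ᵁ W') t' ⟨z, _⟩ = _ at e1
      change GrTwist.locMap ψ hirr z (Localization.mk (b₀ * c ^ k₂) ⟨g₀ * c ^ k₁, _⟩) =
        val (U := Proj.map ψ hirr ⁻¹ᵁ W') t' ⟨z, _⟩
      rw [e1, GrTwist.locMap_mk, Localization.mk_eq_mk_iff, Localization.r_iff_exists]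
      refine ⟨1, ?_⟩
      change (1 : B) * (g.1 * ψ (b₀ * c ^ k₂)) = 1 * (ψ (g₀ * c ^ k₁) * b.1)
      rw [hψb, hψg]
      ring
    · refine ⟨Proj.map ψ hirr ''ᵁ V', hNW, 0, hyN, ?_⟩
      rw [map_zero]
      symm
      apply val_ext (U := Proj.map ψ hirr ⁻¹ᵁ (Proj.map ψ hirr ''ᵁ V'))
      rintro ⟨z, hz⟩
      have hzV' : z ∈ V' := hpre z hz
      have e1 := hv ⟨z, hzV'⟩
      change val (U := Proj.map ψ hirr ⁻¹ᵁ W') t' ⟨z, _⟩ = _ at e1
      change val (U := Proj.map ψ hirr ⁻¹ᵁ W') t' ⟨z, _⟩ = 0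
      rw [e1, h0, Localization.mk_zero]
  choose N hN τ hxN hτ using hloc
  have hinj : ∀ (N' : (Proj 𝒜).Opens), N' ≤ W' →
      Function.Injective ((GrTwist.comap ψ hirr n).app N') := fun N' hN' =>
    comap_app_injective ψ hirr c hu hsurj hker n N' (fun x hx => hW' x (hN' hx))
  obtain ⟨t, ht⟩ := sec_glue (GrTwist.twist 𝒜 n) N W' hN
    (fun x hx => Opens.mem_iSup.mpr ⟨⟨x, hx⟩, hxN ⟨x, hx⟩⟩) τ (by
      intro x x'
      apply hinj (N x ⊓ N x') (inf_le_left.trans (hN x))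
      rw [QCExact.app_res', QCExact.app_res', hτ x, hτ x', res_res, res_res])
  refine ⟨t, ?_⟩
  refine sec_eq_of_locally_eq
    ((Scheme.Modules.pushforward (Proj.map ψ hirr)).obj (GrTwist.twist ℬ n)) N W' hN
    (fun x hx => Opens.mem_iSup.mpr ⟨⟨x, hx⟩, hxN ⟨x, hx⟩⟩) _ _ (fun x => ?_)
  rw [← QCExact.app_res', ht x, hτ x]

include hu hsurj hker in
theorem comap_app_bijective (hc : c ∈ 𝒜 0) [IsOpenImmersion (Proj.map ψ hirr)] (n : ℤ)
    (W' : (Proj 𝒜).Opens)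
    (hW' : ∀ x ∈ W', ∃ y, ProjectiveSpectrum.comap ψ hirr y = x) :
    Function.Bijective ((GrTwist.comap ψ hirr n).app W') :=
  ⟨comap_app_injective ψ hirr c hu hsurj hker n W' hW',
    comap_app_surjective ψ hirr c hu hsurj hker hc n W' hW'⟩

end Groth.Agent.Lib.Helper3.GrTwistLoc
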