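import Groth.Agent.Lib.Helper3.RelGlueMod
import Groth.Agent.Lib.Helper3.GrTwistLoc
import Groth.Agent.Lib.Helper3.ProjQMap

/-!
# Existence of the twisting sheaves `O_P(n)` of a relative Proj
-/

set_option autoImplicit false
set_option linter.unusedSectionVars false
universe u
open CategoryTheory CategoryTheory.Limits AlgebraicGeometry TopologicalSpace Opposite
open Scheme.Modules
open scoped HomogeneousIdeal

namespace Groth.Agent.Lib.Helper3.RelTwistExist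

open QCSec InvGen GrModQC

section ring

variable {A B C σ τ ρ : Type u} [CommRing A] [CommRing B] [CommRing C]
  [SetLike σ A] [AddSubgroupClass σ A] {𝒜 : ℕ → σ} [GradedRing 𝒜]
  [SetLike τ B] [AddSubgroupClass τ B] {ℬ : ℕ → τ} [GradedRing ℬ]
  [SetLike ρ C] [AddSubgroupClass ρ C] {𝒞 : ℕ → ρ} [GradedRing 𝒞]

/-- the maps of localizations along a commutative triangle of graded rings agree on the values of
a section of `O(n)` -/
theorem locMap_locMap_val' (ψ₁ : 𝒜 →+*ᵍ ℬ) (h₁ : ℬ₊ ≤ (𝒜₊).map ψ₁) (ψ₂ : ℬ →+*ᵍ 𝒞)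
    (h₂ : 𝒞₊ ≤ (ℬ₊).map ψ₂) (ψ₃ : 𝒜 →+*ᵍ 𝒞) (h₃ : 𝒞₊ ≤ (𝒜₊).map ψ₃)
    (hcomm : ∀ a, ψ₂ (ψ₁ a) = ψ₃ a)
    (y : ProjectiveSpectrum 𝒞) {n : ℤ} {W : (Proj 𝒜).Opens} (t : Γ(GrTwist.twist 𝒜 n, W))
    (m1 : ProjectiveSpectrum.comap ψ₁ h₁ (ProjectiveSpectrum.comap ψ₂ h₂ y) ∈ W)
    (m2 : ProjectiveSpectrum.comap ψ₃ h₃ y ∈ W) :
    GrTwist.locMap ψ₂ h₂ y (GrTwist.locMap ψ₁ h₁ _ (GrTwist.val t ⟨_, m1⟩)) =
      GrTwist.locMap ψ₃ h₃ y (GrTwist.val t ⟨_, m2⟩) := by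
  have hx : ProjectiveSpectrum.comap ψ₁ h₁ (ProjectiveSpectrum.comap ψ₂ h₂ y) =
      ProjectiveSpectrum.comap ψ₃ h₃ y := by
    apply ProjectiveSpectrum.ext
    apply HomogeneousIdeal.toIdeal_injective
    ext a
    change ψ₂ (ψ₁ a) ∈ y.asHomogeneousIdeal ↔ ψ₃ a ∈ y.asHomogeneousIdeal
    rw [hcomm]
  obtain ⟨V, hxV, hVW, i, j, a, s, hs, -, hv⟩ := isLocFrac_val t ⟨_, m1⟩
  have hxV' : ProjectiveSpectrum.comap ψ₃ h₃ y ∈ V := hx ▸ hxV
  have e1 := hv ⟨_, hxV⟩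
  have e2 := hv ⟨_, hxV'⟩
  change GrTwist.val t ⟨_, m1⟩ = _ at e1
  change GrTwist.val t ⟨_, m2⟩ = _ at e2
  rw [e1, e2, GrTwist.locMap_mk, GrTwist.locMap_mk, GrTwist.locMap_mk]
  congr 1
  · exact hcomm _
  · exact Subtype.ext (hcomm _)

end ring

variable {Y P : Scheme.{u}} {𝒮 : RelProj.QCGrAlg Y} {p : P ⟶ Y}
  {chart : ∀ (U : Y.Opens) (hU : IsAffineOpen U),
    ((p ⁻¹ᵁ U : P.Opens) : Scheme.{u}) ≅ Proj (𝒮.deg U hU)}

section trans

variable {U V : Y.Opens} (hU : IsAffineOpen U) (hV : IsAffineOpen V) (hle : V ≤ U)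
  (hirr : (𝒮.deg V hV)₊ ≤ ((𝒮.deg U hU)₊).map (𝒮.res hU hV hle))
  (hemb : Proj.map (𝒮.res hU hV hle) hirr ≫ RelProj.emb p chart U hU = RelProj.emb p chart V hV)
  (n : ℤ)

/-- the transition morphism between the chart modules -/
noncomputable def ν0 :
    (Scheme.Modules.pushforward (RelProj.emb p chart U hU)).obj
        (GrTwist.twist (𝒮.deg U hU) n) ⟶
      (Scheme.Modules.pushforward (RelProj.emb p chart V hV)).obj
        (GrTwist.twist (𝒮.deg V hV) n) :=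
  (Scheme.Modules.pushforward (RelProj.emb p chart U hU)).map
      (GrTwist.comap (𝒮.res hU hV hle) hirr n) ≫
    (Scheme.Modules.pushforwardComp (Proj.map (𝒮.res hU hV hle) hirr)
      (RelProj.emb p chart U hU)).hom.app _ ≫
    (Scheme.Modules.pushforwardCongr hemb).hom.app _

theorem val_ν0 (W : P.Opens)
    (t : Γ(GrTwist.twist (𝒮.deg U hU) n, RelProj.emb p chart U hU ⁻¹ᵁ W))
    (y : ProjectiveSpectrum (𝒮.deg V hV))
    (hy : (RelProj.emb p chart V hV).base y ∈ W)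
    (hy' : (RelProj.emb p chart U hU).base
      (ProjectiveSpectrum.comap (𝒮.res hU hV hle) hirr y) ∈ W) :
    GrTwist.val (V := RelProj.emb p chart V hV ⁻¹ᵁ W)
        ((ν0 hU hV hle hirr hemb n).app W t) ⟨y, hy⟩ =
      GrTwist.locMap (𝒮.res hU hV hle) hirr y
        (GrTwist.val (V := RelProj.emb p chart U hU ⁻¹ᵁ W) t ⟨_, hy'⟩) := rfl

end trans

theorem emb_mem (U : Y.Opens) (hU : IsAffineOpen U) (y : Proj (𝒮.deg U hU)) :
    (RelProj.emb p chart U hU).base y ∈ p ⁻¹ᵁ U := by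
  have : RelProj.emb p chart U hU y ∈ (RelProj.emb p chart U hU).opensRange := ⟨y, rfl⟩
  rw [ProjQMap.opensRange_emb] at this
  exact this

theorem hirr_of_eq {U V : Y.Opens} (hU : IsAffineOpen U) (hV : IsAffineOpen V) (r : Γ(Y, U))
    (h : V = Y.basicOpen r) :
    (𝒮.deg V hV)₊ ≤ ((𝒮.deg U hU)₊).map (𝒮.res hU hV (h.le.trans (Y.basicOpen_le r))) := by
  subst h
  exact 𝒮.irrelevant_le_map U hU r

theorem emb_of_eq (hP : RelProj.IsRelProj 𝒮 p chart) {U V : Y.Opens} (hU : IsAffineOpen U)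
    (hV : IsAffineOpen V) (r : Γ(Y, U)) (h : V = Y.basicOpen r) :
    Proj.map (𝒮.res hU hV (h.le.trans (Y.basicOpen_le r))) (hirr_of_eq hU hV r h) ≫
      RelProj.emb p chart U hU = RelProj.emb p chart V hV := by
  subst h
  exact RelProj.map_res_emb hP U hU r

/-- the chart modules are supported over their charts -/
theorem supp (n : ℤ) (U : Y.Opens) (hU : IsAffineOpen U) (W : P.Opens) :
    Function.Bijective (res ((Scheme.Modules.pushforward (RelProj.emb p chart U hU)).obj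
      (GrTwist.twist (𝒮.deg U hU) n)) (inf_le_left : W ⊓ p ⁻¹ᵁ U ≤ W)) := by
  constructor
  · intro s s' hss
    refine val_ext (U := RelProj.emb p chart U hU ⁻¹ᵁ W) (fun y => ?_)
    have hy : y.1 ∈ RelProj.emb p chart U hU ⁻¹ᵁ (W ⊓ p ⁻¹ᵁ U) := ⟨y.2, emb_mem U hU y.1⟩
    exact congrArg (fun q => val (U := RelProj.emb p chart U hU ⁻¹ᵁ (W ⊓ p ⁻¹ᵁ U)) q ⟨y.1, hy⟩)
      hss
  · intro s₁
    have hle : RelProj.emb p chart U hU ⁻¹ᵁ W ≤ RelProj.emb p chart U hU ⁻¹ᵁ (W ⊓ p ⁻¹ᵁ U) :=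
      fun y hy => ⟨hy, emb_mem U hU y⟩
    refine ⟨res (GrTwist.twist (𝒮.deg U hU) n) hle s₁, ?_⟩
    exact val_ext (U := RelProj.emb p chart U hU ⁻¹ᵁ (W ⊓ p ⁻¹ᵁ U)) (fun y => rfl)

/-- the transition morphisms are bijective on sections over opens lying over the basic open -/
theorem bij (hP : RelProj.IsRelProj 𝒮 p chart) (n : ℤ) {U V : Y.Opens} (hU : IsAffineOpen U)
    (hV : IsAffineOpen V) (r : Γ(Y, U)) (h : V = Y.basicOpen r) (W : P.Opens)
    (hW : W ≤ p ⁻¹ᵁ V) :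
    Function.Bijective ((ν0 hU hV (h.le.trans (Y.basicOpen_le r)) (hirr_of_eq hU hV r h)
      (emb_of_eq hP hU hV r h) n).app W) := by
  subst h
  have hirr := 𝒮.irrelevant_le_map U hU r
  have hemb : Proj.map (𝒮.res hU hV (Y.basicOpen_le r)) hirr ≫ RelProj.emb p chart U hU =
      RelProj.emb p chart (Y.basicOpen r) hV := RelProj.map_res_emb hP U hU r
  haveI : IsOpenImmersion (Proj.map (𝒮.res hU hV (Y.basicOpen_le r)) hirr) := by
    haveI : IsOpenImmersion (Proj.map (𝒮.res hU hV (Y.basicOpen_le r)) hirr ≫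
        RelProj.emb p chart U hU) := by
      rw [hemb]; infer_instance
    exact IsOpenImmersion.of_comp _ (RelProj.emb p chart U hU)
  have hembz : ∀ z : Proj (𝒮.deg (Y.basicOpen r) hV),
      (RelProj.emb p chart U hU).base
        (ProjectiveSpectrum.comap (𝒮.res hU hV (Y.basicOpen_le r)) hirr z) =
      (RelProj.emb p chart (Y.basicOpen r) hV).base z := by
    intro z
    have := congrArg (fun g : Proj (𝒮.deg (Y.basicOpen r) hV) ⟶ P => g z) hemb
    exact this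
  let c := (𝒮.str.app (op U)).hom r
  letI := (𝒮.presheaf.map (homOfLE (Y.basicOpen_le r)).op).hom.toAlgebra
  have hloc : IsLocalization.Away c (𝒮.presheaf.obj (op (Y.basicOpen r))) := 𝒮.isQC U hU r
  have hc : c ∈ 𝒮.deg U hU 0 := 𝒮.str_mem U hU r
  have hu : IsUnit (𝒮.res hU hV (Y.basicOpen_le r) c) :=
    IsLocalization.map_units (M := Submonoid.powers c) (𝒮.presheaf.obj (op (Y.basicOpen r)))
      ⟨c, Submonoid.mem_powers c⟩
  have hsurj : ∀ b : 𝒮.presheaf.obj (op (Y.basicOpen r)), ∃ (k : ℕ) (a : 𝒮.presheaf.obj (op U)),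
      b * 𝒮.res hU hV (Y.basicOpen_le r) c ^ k = 𝒮.res hU hV (Y.basicOpen_le r) a := by
    intro b
    obtain ⟨⟨x, s, hs⟩, hxs⟩ := IsLocalization.surj (Submonoid.powers c) b
    obtain ⟨k, rfl⟩ := (Submonoid.mem_powers_iff _ _).mp hs
    refine ⟨k, x, ?_⟩
    change b * 𝒮.res hU hV (Y.basicOpen_le r) (c ^ k) = 𝒮.res hU hV (Y.basicOpen_le r) x at hxs
    rw [map_pow] at hxs
    exact hxs
  have hker : ∀ a : 𝒮.presheaf.obj (op U), 𝒮.res hU hV (Y.basicOpen_le r) a = 0 →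
      ∃ m : ℕ, c ^ m * a = 0 := by
    intro a ha
    obtain ⟨⟨_, m, rfl⟩, hm⟩ := (IsLocalization.map_eq_zero_iff (Submonoid.powers c)
      (𝒮.presheaf.obj (op (Y.basicOpen r))) a).mp ha
    exact ⟨m, hm⟩
  have hW' : ∀ x ∈ RelProj.emb p chart U hU ⁻¹ᵁ W,
      ∃ y, ProjectiveSpectrum.comap (𝒮.res hU hV (Y.basicOpen_le r)) hirr y = x := by
    intro x hx
    have h1 : (RelProj.emb p chart U hU).base x ∈
        (RelProj.emb p chart (Y.basicOpen r) hV).opensRange := by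
      rw [ProjQMap.opensRange_emb]
      exact hW hx
    obtain ⟨y, hy⟩ := h1
    refine ⟨y, ?_⟩
    apply (RelProj.emb p chart U hU).isOpenEmbedding.injective
    rw [hembz]
    exact hy
  have hb := GrTwistLoc.comap_app_bijective (𝒮.res hU hV (Y.basicOpen_le r)) hirr c hu hsurj hker
    hc n (RelProj.emb p chart U hU ⁻¹ᵁ W) hW'
  constructor
  · intro t t' htt
    apply hb.1
    apply val_ext (U := Proj.map (𝒮.res hU hV (Y.basicOpen_le r)) hirr ⁻¹ᵁ
      (RelProj.emb p chart U hU ⁻¹ᵁ W))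
    rintro ⟨z, hz⟩
    have hz' : (RelProj.emb p chart (Y.basicOpen r) hV).base z ∈ W := by
      rw [← hembz]
      exact hz
    exact congrArg (fun q => val (U := RelProj.emb p chart (Y.basicOpen r) hV ⁻¹ᵁ W) q ⟨z, hz'⟩)
      htt
  · intro t₂
    have hle : Proj.map (𝒮.res hU hV (Y.basicOpen_le r)) hirr ⁻¹ᵁ
        (RelProj.emb p chart U hU ⁻¹ᵁ W) ≤ RelProj.emb p chart (Y.basicOpen r) hV ⁻¹ᵁ W := by
      intro z hz
      change (RelProj.emb p chart (Y.basicOpen r) hV).base z ∈ W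
      rw [← hembz]
      exact hz
    obtain ⟨t, ht⟩ := hb.2 (res (GrTwist.twist (𝒮.deg (Y.basicOpen r) hV) n) hle t₂)
    refine ⟨t, ?_⟩
    apply val_ext (U := RelProj.emb p chart (Y.basicOpen r) hV ⁻¹ᵁ W)
    rintro ⟨y, hy⟩
    have hy2 : y ∈ Proj.map (𝒮.res hU hV (Y.basicOpen_le r)) hirr ⁻¹ᵁ
        (RelProj.emb p chart U hU ⁻¹ᵁ W) := by
      change (RelProj.emb p chart U hU).base
        (ProjectiveSpectrum.comap (𝒮.res hU hV (Y.basicOpen_le r)) hirr y) ∈ W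
      rw [hembz]
      exact hy
    exact congrArg (fun q => val (U := Proj.map (𝒮.res hU hV (Y.basicOpen_le r)) hirr ⁻¹ᵁ
      (RelProj.emb p chart U hU ⁻¹ᵁ W)) q ⟨y, hy2⟩) ht

theorem res_res_apply {U V V' : Y.Opens} (hU : IsAffineOpen U) (hV : IsAffineOpen V)
    (hV' : IsAffineOpen V') (h1 : V ≤ U) (h2 : V' ≤ V) (h3 : V' ≤ U)
    (a : 𝒮.presheaf.obj (op U)) :
    𝒮.res hV hV' h2 (𝒮.res hU hV h1 a) = 𝒮.res hU hV' h3 a := by
  simp only [RelProj.QCGrAlg.res_apply]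
  rw [← CommRingCat.comp_apply, ← Functor.map_comp]
  rfl

theorem emb_comap (hP : RelProj.IsRelProj 𝒮 p chart) {U V : Y.Opens} (hU : IsAffineOpen U)
    (hV : IsAffineOpen V) (r : Γ(Y, U)) (h : V = Y.basicOpen r) (z : Proj (𝒮.deg V hV)) :
    (RelProj.emb p chart U hU).base
      (ProjectiveSpectrum.comap (𝒮.res hU hV (h.le.trans (Y.basicOpen_le r)))
        (hirr_of_eq hU hV r h) z) = (RelProj.emb p chart V hV).base z := by
  have := congrArg (fun g : Proj (𝒮.deg V hV) ⟶ P => g z) (emb_of_eq hP hU hV r h)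
  exact this

theorem cocycle (hP : RelProj.IsRelProj 𝒮 p chart) (n : ℤ) {U V V' : Y.Opens}
    (hU : IsAffineOpen U) (hV : IsAffineOpen V) (hV' : IsAffineOpen V') (r : Γ(Y, U))
    (h : V = Y.basicOpen r) (ρ : Γ(Y, V)) (h' : V' = Y.basicOpen ρ) (r' : Γ(Y, U))
    (h'' : V' = Y.basicOpen r') :
    ν0 hU hV (h.le.trans (Y.basicOpen_le r)) (hirr_of_eq hU hV r h) (emb_of_eq hP hU hV r h) n ≫
      ν0 hV hV' (h'.le.trans (Y.basicOpen_le ρ)) (hirr_of_eq hV hV' ρ h')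
        (emb_of_eq hP hV hV' ρ h') n =
    ν0 hU hV' (h''.le.trans (Y.basicOpen_le r')) (hirr_of_eq hU hV' r' h'')
      (emb_of_eq hP hU hV' r' h'') n := by
  apply Scheme.Modules.hom_ext
  intro W
  ext t
  apply val_ext (U := RelProj.emb p chart V' hV' ⁻¹ᵁ W)
  rintro ⟨y, hy⟩
  have hy' : (RelProj.emb p chart V' hV').base y ∈ W := hy
  have m2 : (RelProj.emb p chart U hU).base
      (ProjectiveSpectrum.comap (𝒮.res hU hV' (h''.le.trans (Y.basicOpen_le r')))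
        (hirr_of_eq hU hV' r' h'') y) ∈ W := by
    rw [emb_comap hP hU hV' r' h'']
    exact hy'
  have m1 : (RelProj.emb p chart U hU).base
      (ProjectiveSpectrum.comap (𝒮.res hU hV (h.le.trans (Y.basicOpen_le r)))
        (hirr_of_eq hU hV r h)
        (ProjectiveSpectrum.comap (𝒮.res hV hV' (h'.le.trans (Y.basicOpen_le ρ)))
          (hirr_of_eq hV hV' ρ h') y)) ∈ W := by
    rw [emb_comap hP hU hV r h, emb_comap hP hV hV' ρ h']
    exact hy'
  exact locMap_locMap_val' _ (hirr_of_eq hU hV r h) _ (hirr_of_eq hV hV' ρ h') _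
    (hirr_of_eq hU hV' r' h'') (fun a => res_res_apply hU hV hV' _ _ _ a) y
    (W := RelProj.emb p chart U hU ⁻¹ᵁ W) t m1 m2

/-- the glueing data of the twisting sheaves -/
noncomputable def data (hP : RelProj.IsRelProj 𝒮 p chart) (n : ℤ) : RelGlueMod.Data p where
  T U hU := (Scheme.Modules.pushforward (RelProj.emb p chart U hU)).obj
    (GrTwist.twist (𝒮.deg U hU) n)
  ν _ hU _ hV r h := ν0 hU hV (h.le.trans (Y.basicOpen_le r)) (hirr_of_eq hU hV r h)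
    (emb_of_eq hP hU hV r h) n
  supp U hU W := supp n U hU W
  bij _ hU _ hV r h W hW := bij hP n hU hV r h W hW
  indep _ _ _ _ _ _ _ _ := rfl
  cocycle _ hU _ hV r h _ hV' ρ h' r' h'' := cocycle hP n hU hV hV' r h ρ h' r' h''

/-- existence of the twisting sheaf `O_P(n)` of a relative Proj -/
theorem exists_isRelTwist (hP : RelProj.IsRelProj 𝒮 p chart) (n : ℤ) :
    ∃ (L : P.Modules) (lam : ∀ (U : Y.Opens) (hU : IsAffineOpen U),
      L ⟶ (Scheme.Modules.pushforward (RelProj.emb p chart U hU)).obj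
        (GrTwist.twist (𝒮.deg U hU) n)),
      RelProj.IsRelTwist 𝒮 p chart n L lam := by
  refine ⟨RelGlueMod.L (data hP n), RelGlueMod.lam (data hP n), ?_, ?_⟩
  · intro U hU W hW
    exact RelGlueMod.bijective_lam (data hP n) U hU W hW
  · intro U hU r W s y hy hy'
    have h1 := RelGlueMod.lam_comp_apply (data hP n) U hU (Y.basicOpen r) (hU.basicOpen r) r rfl
      W s
    exact (congrArg (fun q => GrTwist.val
      (V := RelProj.emb p chart (Y.basicOpen r) (hU.basicOpen r) ⁻¹ᵁ W) q ⟨y, hy⟩) h1).symm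

end Groth.Agent.Lib.Helper3.RelTwistExist
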