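import Groth.Agent.Lib.Helper3.ProjLoc
import Groth.Agent.Lib.Helper3.ProjZero
import Groth.Agent.Lib.Helper3.RelTwistExist
import Groth.Agent.Lib.Helper3.GrTransport

/-!
# Existence of the relative homogeneous spectrum
-/

set_option autoImplicit false
set_option linter.unusedSectionVars false
universe u
open CategoryTheory CategoryTheory.Limits AlgebraicGeometry TopologicalSpace Opposite
open AlgebraicGeometry.Scheme AlgebraicGeometry.Scheme.AffineZariskiSite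
open scoped HomogeneousIdeal

namespace Groth.Agent.Lib.Helper3.RelProjExist

variable {S : Scheme.{u}} (𝒮 : RelProj.QCGrAlg S)

theorem hirr {U V : S.AffineZariskiSite} (i : V ⟶ U) :
    (𝒮.deg V.1 V.2)₊ ≤ ((𝒮.deg U.1 U.2)₊).map (𝒮.res U.2 V.2 (toOpens_mono i.le)) := by
  obtain ⟨r, hr⟩ := i.le
  exact RelTwistExist.hirr_of_eq U.2 V.2 r hr.symm

/-- the localization facts for a restriction to a basic open -/
theorem loc_facts {U V : S.Opens} (hU : IsAffineOpen U) (hV : IsAffineOpen V) (r : Γ(S, U))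
    (h : V = S.basicOpen r) :
    IsUnit (𝒮.res hU hV (h.le.trans (S.basicOpen_le r)) ((𝒮.str.app (op U)).hom r)) ∧
    (∀ b : 𝒮.presheaf.obj (op V), ∃ (k : ℕ) (a : 𝒮.presheaf.obj (op U)),
      b * 𝒮.res hU hV (h.le.trans (S.basicOpen_le r)) ((𝒮.str.app (op U)).hom r) ^ k =
        𝒮.res hU hV (h.le.trans (S.basicOpen_le r)) a) ∧
    (∀ a : 𝒮.presheaf.obj (op U), 𝒮.res hU hV (h.le.trans (S.basicOpen_le r)) a = 0 →
      ∃ m : ℕ, ((𝒮.str.app (op U)).hom r) ^ m * a = 0) := by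
  subst h
  let c := (𝒮.str.app (op U)).hom r
  letI := (𝒮.presheaf.map (homOfLE (S.basicOpen_le r)).op).hom.toAlgebra
  have hloc : IsLocalization.Away c (𝒮.presheaf.obj (op (S.basicOpen r))) := 𝒮.isQC U hU r
  refine ⟨?_, ?_, ?_⟩
  · exact IsLocalization.map_units (M := Submonoid.powers c)
      (𝒮.presheaf.obj (op (S.basicOpen r))) ⟨c, Submonoid.mem_powers c⟩
  · intro b
    obtain ⟨⟨x, s, hs⟩, hxs⟩ := IsLocalization.surj (Submonoid.powers c) b
    obtain ⟨k, rfl⟩ := (Submonoid.mem_powers_iff _ _).mp hs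
    refine ⟨k, x, ?_⟩
    change b * 𝒮.res hU hV (S.basicOpen_le r) (c ^ k) = 𝒮.res hU hV (S.basicOpen_le r) x at hxs
    rw [map_pow] at hxs
    exact hxs
  · intro a ha
    obtain ⟨⟨_, m, rfl⟩, hm⟩ := (IsLocalization.map_eq_zero_iff (Submonoid.powers c)
      (𝒮.presheaf.obj (op (S.basicOpen r))) a).mp ha
    exact ⟨m, hm⟩

theorem isOpenImmersion_map {U V : S.AffineZariskiSite} (i : V ⟶ U) :
    IsOpenImmersion (Proj.map (𝒮.res U.2 V.2 (toOpens_mono i.le)) (hirr 𝒮 i)) := by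
  obtain ⟨r, hr⟩ := i.le
  obtain ⟨hu, hsurj, hker⟩ := loc_facts 𝒮 U.2 V.2 r hr.symm
  exact ProjLoc.isOpenImmersion_projMap _ (hirr 𝒮 i) _ (𝒮.str_mem U.1 U.2 r) hu hsurj hker

theorem range_map {U V : S.AffineZariskiSite} (i : V ⟶ U) (r : Γ(S, U.1))
    (hr : S.basicOpen r = V.1) :
    Set.range (Proj.map (𝒮.res U.2 V.2 (toOpens_mono i.le)) (hirr 𝒮 i)).base =
      {x | (𝒮.str.app (op U.1)).hom r ∉ x.asHomogeneousIdeal} := by
  obtain ⟨hu, hsurj, hker⟩ := loc_facts 𝒮 U.2 V.2 r hr.symm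
  exact ProjLoc.range_projMap _ (hirr 𝒮 i) _ hu hsurj hker

/-- the functor of charts -/
noncomputable def functor : S.AffineZariskiSite ⥤ Scheme.{u} where
  obj U := Proj (𝒮.deg U.1 U.2)
  map {V U} i := Proj.map (𝒮.res U.2 V.2 (toOpens_mono i.le)) (hirr 𝒮 i)
  map_id U := by
    rw [← Proj.map_id]
    refine GrTransport.map_congr (GradedRingHom.ext fun a => ?_) _ _
    change (𝒮.presheaf.map (homOfLE _).op).hom a = a
    have : (homOfLE (toOpens_mono (𝟙 U : U ⟶ U).le)).op = 𝟙 (op U.1) := rfl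
    rw [this, CategoryTheory.Functor.map_id]
    rfl
  map_comp {W V U} i j := by
    rw [← Proj.map_comp]
    refine GrTransport.map_congr (GradedRingHom.ext fun a => ?_) _ _
    exact (RelTwistExist.res_res_apply U.2 V.2 W.2 _ _ _ a).symm

/-- the structure morphism of a chart to `S` -/
noncomputable def toS (U : S.AffineZariskiSite) : Proj (𝒮.deg U.1 U.2) ⟶ S :=
  Proj.toSpecZero (𝒮.deg U.1 U.2) ≫ Spec.map (𝒮.strZero U.1 U.2) ≫ U.2.fromSpec

/-- the structure morphism of a chart to `U` -/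
noncomputable def q (U : S.AffineZariskiSite) : Proj (𝒮.deg U.1 U.2) ⟶ (U.1 : Scheme.{u}) :=
  Proj.toSpecZero (𝒮.deg U.1 U.2) ≫ Spec.map (𝒮.strZero U.1 U.2) ≫ U.2.isoSpec.inv

theorem q_ι (U : S.AffineZariskiSite) : q 𝒮 U ≫ U.1.ι = toS 𝒮 U := by
  unfold q toS
  rw [Category.assoc, Category.assoc, IsAffineOpen.isoSpec_inv_ι]

theorem strZero_zeroHom {U V : S.AffineZariskiSite} (i : V ⟶ U) :
    𝒮.strZero U.1 U.2 ≫
        CommRingCat.ofHom (GrTransport.zeroHom (𝒮.res U.2 V.2 (toOpens_mono i.le))) =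
      S.presheaf.map (homOfLE (toOpens_mono i.le)).op ≫ 𝒮.strZero V.1 V.2 := by
  ext a
  change (𝒮.presheaf.map (homOfLE _).op).hom ((𝒮.str.app (op U.1)).hom a) =
    (𝒮.str.app (op V.1)).hom ((S.presheaf.map (homOfLE _).op).hom a)
  have := 𝒮.str.naturality (homOfLE (toOpens_mono i.le)).op
  exact (congrArg (fun f => f.hom a) this).symm

theorem map_toS {U V : S.AffineZariskiSite} (i : V ⟶ U) :
    Proj.map (𝒮.res U.2 V.2 (toOpens_mono i.le)) (hirr 𝒮 i) ≫ toS 𝒮 U = toS 𝒮 V := by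
  unfold toS
  rw [GrTransport.map_toSpecZero_assoc, ← Spec.map_comp_assoc, strZero_zeroHom 𝒮 i,
    Spec.map_comp_assoc, IsAffineOpen.map_fromSpec]

theorem q_naturality {U V : S.AffineZariskiSite} (i : V ⟶ U) :
    Proj.map (𝒮.res U.2 V.2 (toOpens_mono i.le)) (hirr 𝒮 i) ≫ q 𝒮 U =
      q 𝒮 V ≫ S.homOfLE (toOpens_mono i.le) := by
  rw [← cancel_mono U.1.ι, Category.assoc, q_ι, map_toS 𝒮 i, Category.assoc,
    Scheme.homOfLE_ι, q_ι]

/-- the natural transformation to the cover of `S` -/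
noncomputable def natTrans : functor 𝒮 ⟶ (directedCover S).functorOfLocallyDirected where
  app U := q 𝒮 U
  naturality _ _ i := q_naturality 𝒮 i

theorem toS_preimage (U : S.AffineZariskiSite) (r : Γ(S, U.1)) :
    ((toS 𝒮 U ⁻¹ᵁ S.basicOpen r : (Proj (𝒮.deg U.1 U.2)).Opens) : Set (Proj (𝒮.deg U.1 U.2))) =
      {x | (𝒮.str.app (op U.1)).hom r ∉ x.asHomogeneousIdeal} := by
  unfold toS
  rw [Scheme.Hom.comp_preimage, Scheme.Hom.comp_preimage, U.2.fromSpec_preimage_basicOpen]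
  have h1 : Spec.map (𝒮.strZero U.1 U.2) ⁻¹ᵁ PrimeSpectrum.basicOpen r =
      PrimeSpectrum.basicOpen ((𝒮.strZero U.1 U.2).hom r) := rfl
  rw [h1, ProjZero.toSpecZero_preimage_basicOpen]
  rfl

theorem equifibered : (natTrans 𝒮).Equifibered := by
  intro V U i
  haveI : IsOpenImmersion ((functor 𝒮).map i) := isOpenImmersion_map 𝒮 i
  haveI : IsOpenImmersion (Proj.map (𝒮.res U.2 V.2 (toOpens_mono i.le)) (hirr 𝒮 i)) :=
    isOpenImmersion_map 𝒮 i
  obtain ⟨r, hr⟩ := i.le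
  have H : (functor 𝒮).map i ≫ (natTrans 𝒮).app U =
      (natTrans 𝒮).app V ≫ (directedCover S).functorOfLocallyDirected.map i :=
    (natTrans 𝒮).naturality i
  refine (IsOpenImmersion.isPullback ((natTrans 𝒮).app V) ((functor 𝒮).map i)
    ((directedCover S).functorOfLocallyDirected.map i) ((natTrans 𝒮).app U) H ?_).flip
  change q 𝒮 U ⁻¹ᵁ (S.homOfLE (toOpens_mono i.le)).opensRange =
    (Proj.map (𝒮.res U.2 V.2 (toOpens_mono i.le)) (hirr 𝒮 i)).opensRange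
  rw [Scheme.opensRange_homOfLE, ← Scheme.Hom.comp_preimage, q_ι]
  apply SetLike.coe_injective
  have h2 : ((toS 𝒮 U ⁻¹ᵁ V.1 : (Proj (𝒮.deg U.1 U.2)).Opens) : Set (Proj (𝒮.deg U.1 U.2))) =
      ((toS 𝒮 U ⁻¹ᵁ S.basicOpen r : (Proj (𝒮.deg U.1 U.2)).Opens) :
        Set (Proj (𝒮.deg U.1 U.2))) := by
    rw [hr]
  refine h2.trans ?_
  rw [toS_preimage]
  exact (range_map 𝒮 i r hr).symm

/-- the relative gluing data -/
noncomputable def gluingData : (directedCover S).RelativeGluingData where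
  functor := functor 𝒮
  natTrans := natTrans 𝒮
  equifibered := equifibered 𝒮

instance : ((gluingData 𝒮).functor ⋙ Scheme.forget).IsLocallyDirected :=
  Cover.RelativeGluingData.instIsLocallyDirectedI₀CompFunctorForgetOfIsThin ..

/-- the relative homogeneous spectrum -/
noncomputable abbrev P : Scheme.{u} := (gluingData 𝒮).glued

/-- its structure morphism -/
noncomputable abbrev p : P 𝒮 ⟶ S := (gluingData 𝒮).toBase

/-- the open chart -/
noncomputable abbrev inc (U : S.AffineZariskiSite) : Proj (𝒮.deg U.1 U.2) ⟶ P 𝒮 :=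
  colimit.ι (gluingData 𝒮).functor U

instance (U : S.AffineZariskiSite) : IsOpenImmersion (inc 𝒮 U) :=
  inferInstanceAs (IsOpenImmersion ((gluingData 𝒮).cover.f U))

theorem inc_p (U : S.AffineZariskiSite) : inc 𝒮 U ≫ p 𝒮 = toS 𝒮 U :=
  (Cover.RelativeGluingData.ι_toBase (gluingData 𝒮) U).trans (q_ι 𝒮 U)

theorem inc_w {U V : S.AffineZariskiSite} (i : V ⟶ U) :
    Proj.map (𝒮.res U.2 V.2 (toOpens_mono i.le)) (hirr 𝒮 i) ≫ inc 𝒮 U = inc 𝒮 V :=
  colimit.w (gluingData 𝒮).functor i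

theorem p_preimage (U : S.AffineZariskiSite) : p 𝒮 ⁻¹ᵁ U.1 = (inc 𝒮 U).opensRange := by
  simpa using! (gluingData 𝒮).toBase_preimage_eq_opensRange_ι U

/-- the charts -/
noncomputable def chart (U : S.Opens) (hU : IsAffineOpen U) :
    ((p 𝒮 ⁻¹ᵁ U : (P 𝒮).Opens) : Scheme.{u}) ≅ Proj (𝒮.deg U hU) :=
  (P 𝒮).isoOfEq (p_preimage 𝒮 ⟨U, hU⟩) ≪≫ (inc 𝒮 ⟨U, hU⟩).isoOpensRange.symm

theorem chart_hom_inc (U : S.Opens) (hU : IsAffineOpen U) :
    (chart 𝒮 U hU).hom ≫ inc 𝒮 ⟨U, hU⟩ = (p 𝒮 ⁻¹ᵁ U).ι := by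
  unfold chart
  rw [Iso.trans_hom, Iso.symm_hom, Category.assoc, Scheme.Hom.isoOpensRange_inv_comp,
    Scheme.isoOfEq_hom_ι]

theorem isRelProj : RelProj.IsRelProj 𝒮 (p 𝒮) (chart 𝒮) where
  chart_over U hU := by
    have h1 : Proj.toSpecZero (𝒮.deg U hU) ≫ Spec.map (𝒮.strZero U hU) ≫ hU.fromSpec =
        inc 𝒮 ⟨U, hU⟩ ≫ p 𝒮 := (inc_p 𝒮 ⟨U, hU⟩).symm
    rw [h1, ← Category.assoc, chart_hom_inc]
  chart_res U hU r := by
    let U' : S.AffineZariskiSite := ⟨U, hU⟩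
    let i : U'.basicOpen r ⟶ U' := homOfLE (AffineZariskiSite.basicOpen_le U' r)
    rw [← cancel_mono (inc 𝒮 ⟨U, hU⟩), Category.assoc, chart_hom_inc, Scheme.homOfLE_ι,
      Category.assoc]
    have h2 := inc_w 𝒮 i
    exact ((congrArg (fun t => (chart 𝒮 (S.basicOpen r) (hU.basicOpen r)).hom ≫ t) h2).trans
      (chart_hom_inc 𝒮 (S.basicOpen r) (hU.basicOpen r))).symm

theorem exists_isRelProj : ∃ (P : Scheme.{u}) (p : P ⟶ S)
    (chart : ∀ (U : S.Opens) (hU : IsAffineOpen U),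
      ((p ⁻¹ᵁ U : P.Opens) : Scheme.{u}) ≅ Proj (𝒮.deg U hU)),
    RelProj.IsRelProj 𝒮 p chart :=
  ⟨P 𝒮, p 𝒮, chart 𝒮, isRelProj 𝒮⟩

end Groth.Agent.Lib.Helper3.RelProjExist
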