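import Groth.Agent.Lib.Helper3.CPw
import Groth.Agent.Lib.Helper3.AffGr
import Groth.Agent.Lib.Helper3.RelProjExist
import Groth.Agent.Lib.Helper3.RelProjFT
import Groth.Agent.Lib.Helper3.RelSpecQC
import Mathlib.AlgebraicGeometry.Sites.SmallAffineZariski

/-!
# A closed subscheme of a relative `Proj` (generated in degree one, of finite type) is projective
-/

set_option autoImplicit false
set_option linter.unusedSectionVars false
universe u
open CategoryTheory CategoryTheory.Limits AlgebraicGeometry TopologicalSpace Opposite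
open Scheme.Modules
open AlgebraicGeometry.Scheme AlgebraicGeometry.Scheme.AffineZariskiSite
open scoped HomogeneousIdeal

namespace Groth.Agent.Lib.Helper3.CPb

open QCSec GrTransport AffGr CPa CPw

variable {S : Scheme.{u}} (𝒜 : RelProj.QCGrAlg S) {P : Scheme.{u}} (p : P ⟶ S)
  (chart : ∀ (U : S.Opens) (hU : IsAffineOpen U),
    ((p ⁻¹ᵁ U : P.Opens) : Scheme.{u}) ≅ Proj (𝒜.deg U hU))
  {Z : Scheme.{u}} (i : Z ⟶ P)

/-- the preimage in `Z` of an open of the base -/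
abbrev ZU (U : S.Opens) : Z.Opens := i ⁻¹ᵁ (p ⁻¹ᵁ U)

/-- sections of the algebra over an affine open -/
abbrev AU (U : S.AffineZariskiSite) : Type u := 𝒜.presheaf.obj (op U.1)

/-- the grading over an affine open -/
abbrev gU (U : S.AffineZariskiSite) : ℕ → AddSubgroup (AU 𝒜 U) := 𝒜.deg U.1 U.2

/-- the morphism to the chart -/
noncomputable def iU (U : S.AffineZariskiSite) : (ZU p i U.1).toScheme ⟶ Proj (gU 𝒜 U) :=
  (i ∣_ (p ⁻¹ᵁ U.1)) ≫ (chart U.1 U.2).hom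

instance instCI [IsClosedImmersion i] (U : S.AffineZariskiSite) :
    IsClosedImmersion (iU 𝒜 p chart i U) := by
  unfold iU
  infer_instance

theorem iU_emb (U : S.AffineZariskiSite) :
    iU 𝒜 p chart i U ≫ RelProj.emb p chart U.1 U.2 = (ZU p i U.1).ι ≫ i := by
  unfold iU RelProj.emb
  rw [Category.assoc, Iso.hom_inv_id_assoc, morphismRestrict_ι]

theorem iU_toS (hP : RelProj.IsRelProj 𝒜 p chart) (U : S.AffineZariskiSite) :
    iU 𝒜 p chart i U ≫ RelProjExist.toS 𝒜 U = (ZU p i U.1).ι ≫ i ≫ p := by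
  have h1 : (chart U.1 U.2).hom ≫ RelProjExist.toS 𝒜 U = (p ⁻¹ᵁ U.1).ι ≫ p :=
    hP.chart_over U.1 U.2
  unfold iU
  rw [Category.assoc, h1, morphismRestrict_ι_assoc]

/-- restriction as a graded homomorphism -/
abbrev ρ {U V : S.AffineZariskiSite} (j : V ⟶ U) : gU 𝒜 U →+*ᵍ gU 𝒜 V :=
  𝒜.res U.2 V.2 (toOpens_mono j.le)

theorem iU_res (hP : RelProj.IsRelProj 𝒜 p chart) {U V : S.AffineZariskiSite} (j : V ⟶ U) :
    Z.homOfLE (i.preimage_mono (p.preimage_mono (toOpens_mono j.le))) ≫ iU 𝒜 p chart i U =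
      iU 𝒜 p chart i V ≫ Proj.map (ρ 𝒜 j) (RelProjExist.hirr 𝒜 j) := by
  obtain ⟨r, hr⟩ := j.le
  rw [← cancel_mono (RelProj.emb p chart U.1 U.2), Category.assoc, Category.assoc, iU_emb,
    RelTwistExist.emb_of_eq hP U.2 V.2 r hr.symm, iU_emb, Scheme.homOfLE_ι_assoc]

theorem ρ_id (U : S.AffineZariskiSite) (b : AU 𝒜 U) : ρ 𝒜 (𝟙 U) b = b := by
  change (𝒜.presheaf.map (homOfLE _).op).hom b = b
  have : (homOfLE (toOpens_mono (𝟙 U : U ⟶ U).le)).op = 𝟙 (op U.1) := rfl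
  rw [this, CategoryTheory.Functor.map_id]
  rfl

theorem ρ_comp {U V W : S.AffineZariskiSite} (j : V ⟶ U) (k : W ⟶ V) (b : AU 𝒜 U) :
    ρ 𝒜 (k ≫ j) b = ρ 𝒜 k (ρ 𝒜 j b) :=
  (RelTwistExist.res_res_apply U.2 V.2 W.2 _ _ _ b).symm

/-- restriction of functions on the base -/
noncomputable abbrev θUV {U V : S.AffineZariskiSite} (j : V ⟶ U) : Γ(S, U.1) →+* Γ(S, V.1) :=
  (S.presheaf.map (homOfLE (toOpens_mono j.le)).op).hom

theorem str_nat {U V : S.AffineZariskiSite} (j : V ⟶ U) (c : Γ(S, U.1)) :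
    (𝒜.str.app (op V.1)).hom (θUV j c) = ρ 𝒜 j ((𝒜.str.app (op U.1)).hom c) :=
  congrArg (fun f => f.hom c) (𝒜.str.naturality (homOfLE (toOpens_mono j.le)).op)

theorem finCover (hgen : 𝒜.IsGenDegOne) (hft : 𝒜.IsFTDeg 1) (U : S.AffineZariskiSite) :
    FinCover (gU 𝒜 U) := by
  obtain ⟨T, hT1, hT⟩ := hft U.1 U.2
  have hspan := RelProjFT.irrelevant_le_span (𝒜.deg U.1 U.2) (𝒜.str.app (op U.1)).hom
    (𝒜.str_mem U.1 U.2) (hgen U.1 U.2) T hT1 hT
  refine ⟨{t // t ∈ T}, inferInstance, fun t => t.1, fun t => hT1 t.2, fun x => ?_⟩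
  by_contra hx
  rw [not_exists] at hx
  apply x.not_irrelevant_le
  intro a ha
  have h1 : Ideal.span (T : Set (AU 𝒜 U)) ≤ x.asHomogeneousIdeal.toIdeal := by
    rw [Ideal.span_le]
    intro t ht
    by_contra hn
    exact hx ⟨t, Finset.mem_coe.mp ht⟩ hn
  exact h1 (hspan ha)

section Site

variable (hP : RelProj.IsRelProj 𝒜 p chart) [IsClosedImmersion i] (hgen : 𝒜.IsGenDegOne)
  (hft : 𝒜.IsFTDeg 1)

/-- the homogeneous ideal over an affine open -/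
noncomputable abbrev JU (U : S.AffineZariskiSite) : Ideal (AU 𝒜 U) :=
  KK (gU 𝒜 U) (iU 𝒜 p chart i U)

local notation "𝔸" => AU 𝒜
local notation "𝔤" => gU 𝒜
local notation "𝔦" => iU 𝒜 p chart i
local notation "𝔍" => JU 𝒜 p chart i

include hP hgen hft

theorem hle_UV {U V : S.AffineZariskiSite} (j : V ⟶ U) :
    ∀ a, a ∈ 𝔍 U → ρ 𝒜 j a ∈ 𝔍 V :=
  fun _ ha => map_mem_KK (ρ 𝒜 j) (RelProjExist.hirr 𝒜 j) (𝔦 U) (𝔦 V) _ (iU_res 𝒜 p chart i hP j)
    (finCover 𝒜 hgen hft U) ha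

/-- the transition homomorphisms -/
noncomputable def tUV {U V : S.AffineZariskiSite} (j : V ⟶ U) :
    qgr (𝔤 U) (𝔦 U) →+*ᵍ qgr (𝔤 V) (𝔦 V) :=
  qHom (ρ 𝒜 j) (𝔦 U) (𝔦 V) (hle_UV 𝒜 p chart i hP hgen hft j)

local notation "𝔱" => tUV 𝒜 p chart i hP hgen hft

theorem tUV_mk {U V : S.AffineZariskiSite} (j : V ⟶ U) (b : 𝔸 U) :
    𝔱 j (Ideal.Quotient.mk (𝔍 U) b) = Ideal.Quotient.mk (𝔍 V) (ρ 𝒜 j b) := rfl

/-- the functor on the affine site -/
noncomputable def F : S.AffineZariskiSiteᵒᵖ ⥤ CommRingCat.{u} where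
  obj U := CommRingCat.of (𝔸 U.unop ⧸ 𝔍 U.unop)
  map {U V} j := CommRingCat.ofHom (𝔱 j.unop).toRingHom
  map_id U := by
    refine CommRingCat.hom_ext (RingHom.ext fun x => ?_)
    obtain ⟨b, rfl⟩ := Ideal.Quotient.mk_surjective x
    change 𝔱 (𝟙 U.unop) (Ideal.Quotient.mk _ b) = Ideal.Quotient.mk _ b
    rw [tUV_mk, ρ_id]
  map_comp {U V W} j k := by
    refine CommRingCat.hom_ext (RingHom.ext fun x => ?_)
    obtain ⟨b, rfl⟩ := Ideal.Quotient.mk_surjective x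
    change 𝔱 (k.unop ≫ j.unop) (Ideal.Quotient.mk _ b) =
      𝔱 k.unop (𝔱 j.unop (Ideal.Quotient.mk _ b))
    rw [tUV_mk, tUV_mk, tUV_mk, ρ_comp]

local notation "𝔽" => F 𝒜 p chart i hP hgen hft

/-- the structure map -/
noncomputable def α : (toOpensFunctor S).op ⋙ S.presheaf ⟶ 𝔽 where
  app U := CommRingCat.ofHom
    ((Ideal.Quotient.mk (𝔍 U.unop)).comp (𝒜.str.app (op U.unop.1)).hom)
  naturality U V j := by
    refine CommRingCat.hom_ext (RingHom.ext fun c => ?_)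
    change Ideal.Quotient.mk (𝔍 V.unop) ((𝒜.str.app (op V.unop.1)).hom (θUV j.unop c)) =
      𝔱 j.unop (Ideal.Quotient.mk _ ((𝒜.str.app (op U.unop.1)).hom c))
    rw [tUV_mk, str_nat]

local notation "𝔞" => α 𝒜 p chart i hP hgen hft

theorem α_app (U : S.AffineZariskiSite) (c : Γ(S, U.1)) :
    ((𝔞).app (op U)).hom c = Ideal.Quotient.mk (𝔍 U) ((𝒜.str.app (op U.1)).hom c) := rfl

theorem F_map {U V : S.AffineZariskiSite} (j : V ⟶ U) (x : 𝔸 U ⧸ 𝔍 U) :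
    ((𝔽).map j.op).hom x = 𝔱 j x := rfl

theorem hrange_UV (U : S.AffineZariskiSite) (s : Γ(S, U.1)) :
    (Z.homOfLE (i.preimage_mono (p.preimage_mono (S.basicOpen_le s)))).opensRange =
      𝔦 U ⁻¹ᵁ Proj.basicOpen (𝔤 U) ((𝒜.str.app (op U.1)).hom s) := by
  have h5 : RelProjExist.toS 𝒜 U ⁻¹ᵁ S.basicOpen s =
      Proj.basicOpen (𝔤 U) ((𝒜.str.app (op U.1)).hom s) :=
    Opens.ext (RelProjExist.toS_preimage 𝒜 U s)
  rw [Scheme.opensRange_homOfLE, ← h5]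
  have h6 := congrArg (fun f => f ⁻¹ᵁ S.basicOpen s) (iU_toS 𝒜 p chart i hP U)
  exact h6.symm

set_option backward.isDefEq.respectTransparency false in
theorem isLocalization_away (U : S.AffineZariskiSite) (s : Γ(S, U.1)) :
    letI := ((𝔽).map (homOfLE (U.basicOpen_le s)).op).hom.toAlgebra
    IsLocalization.Away ((𝔞).app (op U) s) ((𝔽).obj (op (U.basicOpen s))) := by
  letI := ((𝔽).map (homOfLE (U.basicOpen_le s)).op).hom.toAlgebra
  have hunit : IsUnit (θUV (homOfLE (U.basicOpen_le s)) s) :=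
    RingedSpace.isUnit_res_basicOpen _ s
  obtain ⟨-, hsurj, -⟩ := RelProjExist.loc_facts 𝒜 U.2 (U.basicOpen s).2 s rfl
  have hnat : ∀ a : Γ(S, U.1), (𝔱 (homOfLE (U.basicOpen_le s))).toRingHom
      (((Ideal.Quotient.mk (𝔍 U)).comp (𝒜.str.app (op U.1)).hom) a) =
      ((Ideal.Quotient.mk (𝔍 (U.basicOpen s))).comp (𝒜.str.app (op (U.basicOpen s).1)).hom)
        (θUV (homOfLE (U.basicOpen_le s)) a) := by
    intro a
    change 𝔱 (homOfLE (U.basicOpen_le s)) (Ideal.Quotient.mk _ ((𝒜.str.app (op U.1)).hom a)) =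
      Ideal.Quotient.mk _ ((𝒜.str.app (op (U.basicOpen s).1)).hom
        (θUV (homOfLE (U.basicOpen_le s)) a))
    rw [tUV_mk, str_nat]
  have hsurj' : ∀ z : 𝔸 (U.basicOpen s) ⧸ 𝔍 (U.basicOpen s), ∃ (n : ℕ) (b : 𝔸 U ⧸ 𝔍 U),
      (𝔱 (homOfLE (U.basicOpen_le s))).toRingHom b =
        ((Ideal.Quotient.mk (𝔍 (U.basicOpen s))).comp (𝒜.str.app (op (U.basicOpen s).1)).hom)
          (θUV (homOfLE (U.basicOpen_le s)) s ^ n) * z := by
    intro z
    obtain ⟨z₀, rfl⟩ := Ideal.Quotient.mk_surjective z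
    obtain ⟨k, a, hka⟩ := hsurj z₀
    refine ⟨k, Ideal.Quotient.mk _ a, ?_⟩
    change 𝔱 (homOfLE (U.basicOpen_le s)) (Ideal.Quotient.mk _ a) =
      Ideal.Quotient.mk _ ((𝒜.str.app (op (U.basicOpen s).1)).hom
        (θUV (homOfLE (U.basicOpen_le s)) s ^ k)) * Ideal.Quotient.mk _ z₀
    rw [tUV_mk, ← map_mul, map_pow, str_nat, mul_comm]
    exact congrArg _ hka.symm
  have hinj' : ∀ b : 𝔸 U ⧸ 𝔍 U, (𝔱 (homOfLE (U.basicOpen_le s))).toRingHom b = 0 →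
      ∃ n : ℕ, ((Ideal.Quotient.mk (𝔍 U)).comp (𝒜.str.app (op U.1)).hom) (s ^ n) * b = 0 := by
    intro b hb
    obtain ⟨b₀, rfl⟩ := Ideal.Quotient.mk_surjective b
    have hJ : ρ 𝒜 (homOfLE (U.basicOpen_le s)) b₀ ∈ 𝔍 (U.basicOpen s) := by
      rw [← Ideal.Quotient.eq_zero_iff_mem]
      exact hb
    obtain ⟨N, hN⟩ := exists_pow_mul_mem_KK (ρ 𝒜 (homOfLE (U.basicOpen_le s)))
      (RelProjExist.hirr 𝒜 (homOfLE (U.basicOpen_le s))) (𝔦 U) (𝔦 (U.basicOpen s)) _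
      (iU_res 𝒜 p chart i hP (homOfLE (U.basicOpen_le s))) (finCover 𝒜 hgen hft U)
      ((𝒜.str.app (op U.1)).hom s) (𝒜.str_mem U.1 U.2 s)
      (hrange_UV 𝒜 p chart i hP hgen hft U s) b₀ hJ
    refine ⟨N, ?_⟩
    change Ideal.Quotient.mk _ ((𝒜.str.app (op U.1)).hom (s ^ N)) * Ideal.Quotient.mk _ b₀ = 0
    rw [← map_mul, map_pow]
    exact Ideal.Quotient.eq_zero_iff_mem.mpr hN
  obtain ⟨h1, h2, h3⟩ := RelSpec.loc_core_abs
    (φU := (Ideal.Quotient.mk (𝔍 U)).comp (𝒜.str.app (op U.1)).hom)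
    (φV := (Ideal.Quotient.mk (𝔍 (U.basicOpen s))).comp
      (𝒜.str.app (op (U.basicOpen s).1)).hom)
    (ρS := θUV (homOfLE (U.basicOpen_le s)))
    (ρ := (𝔱 (homOfLE (U.basicOpen_le s))).toRingHom) s hnat hunit hsurj' hinj'
  refine (isLocalization_iff _ _).mpr ⟨?_, ?_, ?_⟩
  · rintro ⟨_, N, rfl⟩
    exact h1 N
  · intro z
    obtain ⟨b, N, hb⟩ := h2 z
    exact ⟨⟨b, ⟨_, N, rfl⟩⟩, hb⟩
  · intro a b hab
    obtain ⟨N, hN⟩ := h3 a b hab
    exact ⟨⟨_, N, rfl⟩, hN⟩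

theorem coequifibered : (𝔞).Coequifibered :=
  coequifibered_iff_forall_isLocalizationAway.mpr
    (fun U s => isLocalization_away 𝒜 p chart i hP hgen hft U s)

/-- the gradings -/
noncomputable def 𝒢 (U : S.AffineZariskiSite) : ℕ → AddSubgroup ((𝔽).obj (op U)) :=
  qgr (𝔤 U) (𝔦 U)

noncomputable instance instGr (U : S.AffineZariskiSite) :
    GradedRing (𝒢 𝒜 p chart i hP hgen hft U) :=
  qgrGraded (𝔤 U) (𝔦 U)

theorem hmap (U V : S.AffineZariskiSite) (j : V ⟶ U) (d : ℕ) (x : (𝔽).obj (op U))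
    (hx : x ∈ 𝒢 𝒜 p chart i hP hgen hft U d) :
    ((𝔽).map j.op).hom x ∈ 𝒢 𝒜 p chart i hP hgen hft V d :=
  (𝔱 j).map_mem hx

theorem hstr (U : S.AffineZariskiSite) (c : Γ(S, U.1)) :
    ((𝔞).app (op U)).hom c ∈ 𝒢 𝒜 p chart i hP hgen hft U 0 :=
  (qmk (𝔤 U) (𝔦 U)).map_mem (𝒜.str_mem U.1 U.2 c)

/-- the quasi-coherent graded algebra of the closed subscheme -/
noncomputable def ℬ : RelProj.QCGrAlg S :=
  qcGrAlg (coequifibered 𝒜 p chart i hP hgen hft) (𝒢 𝒜 p chart i hP hgen hft)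
    (hmap 𝒜 p chart i hP hgen hft) (hstr 𝒜 p chart i hP hgen hft)

local notation "𝔅" => ℬ 𝒜 p chart i hP hgen hft

/-- the identification of the sections of `ℬ` over an affine open -/
noncomputable abbrev epsU (U : S.AffineZariskiSite) :
    (𝔅).presheaf.obj (op U.1) ≃+* (𝔸 U ⧸ 𝔍 U) :=
  eps (coequifibered 𝒜 p chart i hP hgen hft) U

local notation "𝔢" => epsU 𝒜 p chart i hP hgen hft

theorem heB (U : S.AffineZariskiSite) (d : ℕ) (a : (𝔅).presheaf.obj (op U.1)) :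
    a ∈ (𝔅).deg U.1 U.2 d ↔ 𝔢 U a ∈ qgr (𝔤 U) (𝔦 U) d := Iff.rfl

/-- the isomorphism of the preimage with the `Proj` of the quotient -/
noncomputable def eU (U : S.AffineZariskiSite) :
    (ZU p i U.1).toScheme ≅ Proj (qgr (𝔤 U) (𝔦 U)) :=
  (exists_e (𝔤 U) (𝔦 U) (finCover 𝒜 hgen hft U)).choose

theorem eU_hom (U : S.AffineZariskiSite) :
    (eU 𝒜 p chart i hgen hft U).hom ≫ Proj.map (qmk (𝔤 U) (𝔦 U)) (qmk_irr _ _) = 𝔦 U :=
  (exists_e (𝔤 U) (𝔦 U) (finCover 𝒜 hgen hft U)).choose_spec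

/-- the charts over the affine site -/
noncomputable def chartA (U : S.AffineZariskiSite) :
    (ZU p i U.1).toScheme ≅ Proj ((𝔅).deg U.1 U.2) :=
  eU 𝒜 p chart i hgen hft U ≪≫
    (projIso (𝔢 U) (heB 𝒜 p chart i hP hgen hft U)).symm

theorem chartA_hom (U : S.AffineZariskiSite) :
    (chartA 𝒜 p chart i hP hgen hft U).hom = (eU 𝒜 p chart i hgen hft U).hom ≫
      Proj.map (fwd (𝔢 U) (heB 𝒜 p chart i hP hgen hft U))
        (fwd_irr (𝔢 U) (heB 𝒜 p chart i hP hgen hft U)) := rfl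

theorem chartA_over (U : S.AffineZariskiSite) :
    (chartA 𝒜 p chart i hP hgen hft U).hom ≫ Proj.toSpecZero ((𝔅).deg U.1 U.2) ≫
      Spec.map ((𝔅).strZero U.1 U.2) ≫ U.2.fromSpec = (ZU p i U.1).ι ≫ i ≫ p := by
  have key : Spec.map (CommRingCat.ofHom
      (zeroHom (fwd (𝔢 U) (heB 𝒜 p chart i hP hgen hft U)))) ≫ Spec.map ((𝔅).strZero U.1 U.2) =
      Spec.map (CommRingCat.ofHom (zeroHom (qmk (𝔤 U) (𝔦 U)))) ≫
        Spec.map (𝒜.strZero U.1 U.2) := by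
    rw [← Spec.map_comp, ← Spec.map_comp]
    congr 1
    refine CommRingCat.hom_ext (RingHom.ext fun c => Subtype.ext ?_)
    exact eps_str (coequifibered 𝒜 p chart i hP hgen hft) U c
  have h1 : (eU 𝒜 p chart i hgen hft U).hom ≫ Proj.map (qmk (𝔤 U) (𝔦 U)) (qmk_irr _ _) ≫
      RelProjExist.toS 𝒜 U = (ZU p i U.1).ι ≫ i ≫ p := by
    rw [← Category.assoc, eU_hom 𝒜 p chart i hP hgen hft U]
    exact iU_toS 𝒜 p chart i hP U
  rw [chartA_hom 𝒜 p chart i hP hgen hft U, Category.assoc, map_toSpecZero_assoc, reassoc_of% key, ← h1]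
  unfold RelProjExist.toS
  rw [map_toSpecZero_assoc]

theorem chartA_res (U : S.AffineZariskiSite) (s : Γ(S, U.1)) :
    Z.homOfLE (i.preimage_mono (p.preimage_mono
        (toOpens_mono (homOfLE (U.basicOpen_le s) : U.basicOpen s ⟶ U).le))) ≫
        (chartA 𝒜 p chart i hP hgen hft U).hom =
      (chartA 𝒜 p chart i hP hgen hft (U.basicOpen s)).hom ≫
        Proj.map ((𝔅).res U.2 (U.basicOpen s).2
          (toOpens_mono (homOfLE (U.basicOpen_le s) : U.basicOpen s ⟶ U).le))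
          (RelProjExist.hirr 𝔅 (homOfLE (U.basicOpen_le s))) := by
  have h1 := e_comp' (ρ 𝒜 (homOfLE (U.basicOpen_le s)))
    (RelProjExist.hirr 𝒜 (homOfLE (U.basicOpen_le s))) (𝔦 U) (𝔦 (U.basicOpen s)) _
    (iU_res 𝒜 p chart i hP (homOfLE (U.basicOpen_le s)))
    (hle_UV 𝒜 p chart i hP hgen hft (homOfLE (U.basicOpen_le s)))
    (eU 𝒜 p chart i hgen hft U) (eU_hom 𝒜 p chart i hP hgen hft U)
    (eU 𝒜 p chart i hgen hft (U.basicOpen s))
    (eU_hom 𝒜 p chart i hP hgen hft (U.basicOpen s))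
  rw [chartA_hom 𝒜 p chart i hP hgen hft U,
    chartA_hom 𝒜 p chart i hP hgen hft (U.basicOpen s), reassoc_of% h1]
  simp only [Category.assoc]
  rw [← Proj.map_comp, ← Proj.map_comp]
  congr 1
  refine map_congr (GradedRingHom.ext fun a => ?_) _ _
  exact (eps_res (coequifibered 𝒜 p chart i hP hgen hft) (homOfLE (U.basicOpen_le s)) a).symm

/-- the charts -/
noncomputable def chartB (U : S.Opens) (hU : IsAffineOpen U) :
    (((i ≫ p) ⁻¹ᵁ U : Z.Opens) : Scheme.{u}) ≅ Proj ((𝔅).deg U hU) :=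
  chartA 𝒜 p chart i hP hgen hft ⟨U, hU⟩

theorem isRelProj : RelProj.IsRelProj 𝔅 (i ≫ p) (chartB 𝒜 p chart i hP hgen hft) where
  chart_over U hU := chartA_over 𝒜 p chart i hP hgen hft ⟨U, hU⟩
  chart_res U hU s := chartA_res 𝒜 p chart i hP hgen hft ⟨U, hU⟩ s

theorem symm_mk_mem (U : S.AffineZariskiSite) {d : ℕ} {b : 𝔸 U} (hb : b ∈ 𝔤 U d) :
    (𝔢 U).symm (Ideal.Quotient.mk (𝔍 U) b) ∈ (𝔅).deg U.1 U.2 d := by
  rw [heB, RingEquiv.apply_symm_apply]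
  exact (qmk (𝔤 U) (𝔦 U)).map_mem hb

theorem symm_mk_str (U : S.AffineZariskiSite) (c : Γ(S, U.1)) :
    (𝔢 U).symm (Ideal.Quotient.mk (𝔍 U) ((𝒜.str.app (op U.1)).hom c)) =
      ((𝔅).str.app (op U.1)).hom c := by
  rw [RingEquiv.symm_apply_eq]
  exact (eps_str (coequifibered 𝒜 p chart i hP hgen hft) U c).symm

theorem isGenDegOne : (𝔅).IsGenDegOne := by
  intro U hU
  rw [eq_top_iff]
  intro x _
  have key : ∀ b : 𝔸 ⟨U, hU⟩,
      (𝔢 ⟨U, hU⟩).symm (Ideal.Quotient.mk (𝔍 ⟨U, hU⟩) b) ∈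
        Subring.closure ((((𝔅).deg U hU 0 : Set ((𝔅).presheaf.obj (op U)))) ∪
          (((𝔅).deg U hU 1 : Set _))) := by
    intro b
    have hb : b ∈ Subring.closure (((𝒜.deg U hU 0 : Set (𝒜.presheaf.obj (op U)))) ∪
        ((𝒜.deg U hU 1 : Set _))) := by
      rw [hgen U hU]
      trivial
    induction hb using Subring.closure_induction with
    | mem b hb =>
      rcases hb with hb | hb
      · exact Subring.subset_closure
          (Or.inl (symm_mk_mem 𝒜 p chart i hP hgen hft ⟨U, hU⟩ hb))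
      · exact Subring.subset_closure
          (Or.inr (symm_mk_mem 𝒜 p chart i hP hgen hft ⟨U, hU⟩ hb))
    | zero => rw [map_zero, map_zero]; exact zero_mem _
    | one => rw [map_one, map_one]; exact one_mem _
    | add x y _ _ hx hy => rw [map_add, map_add]; exact add_mem hx hy
    | neg x _ hx => rw [map_neg, map_neg]; exact neg_mem hx
    | mul x y _ _ hx hy => rw [map_mul, map_mul]; exact mul_mem hx hy
  obtain ⟨b, hb⟩ := Ideal.Quotient.mk_surjective (𝔢 ⟨U, hU⟩ x)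
  have := key b
  rwa [hb, RingEquiv.symm_apply_apply] at this

theorem isFTDeg : (𝔅).IsFTDeg 1 := by
  classical
  intro U hU
  obtain ⟨T, hT1, hT⟩ := hft U hU
  let t : 𝔸 ⟨U, hU⟩ → (𝔅).presheaf.obj (op U) := fun b =>
    (𝔢 ⟨U, hU⟩).symm (Ideal.Quotient.mk (𝔍 ⟨U, hU⟩) b)
  refine ⟨T.image t, ?_, ?_⟩
  · intro x hx
    obtain ⟨b, hb, rfl⟩ := Finset.mem_image.mp hx
    exact symm_mk_mem 𝒜 p chart i hP hgen hft ⟨U, hU⟩ (hT1 hb)
  · intro x hx
    obtain ⟨b, hb, hbx⟩ := exists_of_mem_qgr (𝔤 ⟨U, hU⟩) (𝔦 ⟨U, hU⟩)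
      ((heB 𝒜 p chart i hP hgen hft ⟨U, hU⟩ 1 x).mp hx)
    obtain ⟨c, hc⟩ := hT b hb
    have hx' : x = ∑ b' ∈ T, ((𝔅).str.app (op U)).hom (c b') * t b' := by
      have h1 : x = (𝔢 ⟨U, hU⟩).symm (Ideal.Quotient.mk (𝔍 ⟨U, hU⟩) b) := by
        rw [RingEquiv.eq_symm_apply]
        exact hbx.symm
      rw [h1, hc, map_sum, map_sum]
      refine Finset.sum_congr rfl (fun b' _ => ?_)
      rw [map_mul, map_mul]
      exact congrArg (· * t b') (symm_mk_str 𝒜 p chart i hP hgen hft ⟨U, hU⟩ (c b'))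
    refine ⟨fun y => ∑ b' ∈ T.filter (fun b' => t b' = y), c b', ?_⟩
    rw [hx']
    symm
    refine Finset.sum_image' (fun b' => ((𝔅).str.app (op U)).hom (c b') * t b') (fun b' _ => ?_)
    rw [map_sum, Finset.sum_mul]
    refine Finset.sum_congr rfl (fun b'' hb'' => ?_)
    rw [(Finset.mem_filter.mp hb'').2]

/-- a closed subscheme of a relative `Proj` of a graded algebra generated in degree one with
degree one part of finite type is projective over the base -/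
theorem isProjective : RelProj.IsProjective (i ≫ p) :=
  ⟨𝔅, Z, i ≫ p, chartB 𝒜 p chart i hP hgen hft, Iso.refl Z,
    isGenDegOne 𝒜 p chart i hP hgen hft, isFTDeg 𝒜 p chart i hP hgen hft,
    isRelProj 𝒜 p chart i hP hgen hft, Category.id_comp _⟩

end Site

end Groth.Agent.Lib.Helper3.CPb
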