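import Groth.Agent.Lib.Helper3.SymSheaf

/-!
# Local structure of symmetric algebras of quasi-coherent modules
-/

set_option autoImplicit false
set_option linter.unusedSectionVars false
universe u
open CategoryTheory CategoryTheory.Limits AlgebraicGeometry TopologicalSpace Opposite
open Scheme.Modules
open AlgebraicGeometry.Scheme AlgebraicGeometry.Scheme.AffineZariskiSite

namespace Groth.Agent.Lib.Helper3.SymLocal

open QCSec InvGen HomMk SymAlgLoc AffExt AffGr SymSheaf

variable {S : Scheme.{u}}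

theorem toModuleMap_comp {A B C : RelSpec.QCAlg S} (ψ : A ⟶ B) (χ : B ⟶ C) :
    RelSpec.QCAlg.Hom.toModuleMap (ψ ≫ χ) =
      RelSpec.QCAlg.Hom.toModuleMap ψ ≫ RelSpec.QCAlg.Hom.toModuleMap χ := by
  apply Scheme.Modules.hom_ext
  intro U
  ext e
  rfl

theorem toModuleMap_id (A : RelSpec.QCAlg S) :
    RelSpec.QCAlg.Hom.toModuleMap (𝟙 A) = 𝟙 A.toModule := by
  apply Scheme.Modules.hom_ext
  intro U
  ext e
  rfl

theorem toModuleMap_app {A B : RelSpec.QCAlg S} (ψ : A ⟶ B) (U : S.Opens)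
    (x : A.presheaf.obj (op U)) :
    (RelSpec.QCAlg.Hom.toModuleMap ψ).app U x = (ψ.hom.app (op U)).hom x := rfl

variable {E : S.Modules} {A A' : RelSpec.QCAlg S} {j : E ⟶ A.toModule} {j' : E ⟶ A'.toModule}

/-- two symmetric algebras of the same module are isomorphic -/
theorem exists_iso (hj : RelSpec.IsSymAlg E A j) (hj' : RelSpec.IsSymAlg E A' j') :
    ∃ e : A ≅ A', j ≫ RelSpec.QCAlg.Hom.toModuleMap e.hom = j' := by
  obtain ⟨ψ, hψ, -⟩ := hj A' j'
  obtain ⟨ψ', hψ', -⟩ := hj' A j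
  obtain ⟨χ, -, huniq⟩ := hj A j
  obtain ⟨χ', -, huniq'⟩ := hj' A' j'
  have h1 : ψ ≫ ψ' = 𝟙 A := by
    rw [huniq (ψ ≫ ψ') (by
        change j ≫ RelSpec.QCAlg.Hom.toModuleMap (ψ ≫ ψ') = j
        rw [toModuleMap_comp, ← Category.assoc, hψ, hψ']),
      huniq (𝟙 A) (by
        change j ≫ RelSpec.QCAlg.Hom.toModuleMap (𝟙 A) = j
        rw [toModuleMap_id, Category.comp_id])]
  have h2 : ψ' ≫ ψ = 𝟙 A' := by
    rw [huniq' (ψ' ≫ ψ) (by
        change j' ≫ RelSpec.QCAlg.Hom.toModuleMap (ψ' ≫ ψ) = j'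
        rw [toModuleMap_comp, ← Category.assoc, hψ', hψ]),
      huniq' (𝟙 A') (by
        change j' ≫ RelSpec.QCAlg.Hom.toModuleMap (𝟙 A') = j'
        rw [toModuleMap_id, Category.comp_id])]
  exact ⟨⟨ψ, ψ', h1, h2⟩, hψ⟩

/-- an isomorphism of quasi-coherent algebras induces ring isomorphisms on sections -/
noncomputable def sectionEquiv (e : A ≅ A') (U : S.Opens) :
    A.presheaf.obj (op U) ≃+* A'.presheaf.obj (op U) where
  toFun := (e.hom.hom.app (op U)).hom
  invFun := (e.inv.hom.app (op U)).hom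
  left_inv x := by
    have h : e.hom.hom ≫ e.inv.hom = 𝟙 _ := congrArg RelSpec.QCAlg.Hom.hom e.hom_inv_id
    exact congr($(NatTrans.congr_app h (op U)) x)
  right_inv x := by
    have h : e.inv.hom ≫ e.hom.hom = 𝟙 _ := congrArg RelSpec.QCAlg.Hom.hom e.inv_hom_id
    exact congr($(NatTrans.congr_app h (op U)) x)
  map_mul' := map_mul _
  map_add' := map_add _

theorem sectionEquiv_apply (e : A ≅ A') (U : S.Opens) (x : A.presheaf.obj (op U)) :
    sectionEquiv e U x = (e.hom.hom.app (op U)).hom x := rfl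

variable [E.IsQuasicoherent]

/-- **Local structure**: over an affine open the sections of a symmetric algebra of `E` are the
symmetric algebra of the sections of `E` -/
theorem exists_equiv (hj : RelSpec.IsSymAlg E A j) (U : S.AffineZariskiSite) :
    ∃ κ : A.presheaf.obj (op U.1) ≃+* SA E U,
      (∀ a : Γ(S, U.1), κ ((A.str.app (op U.1)).hom a) = algebraMap _ _ a) ∧
      (∀ e : Γ(E, U.1), κ (j.app U.1 e) = SymmetricAlgebra.ι _ _ e) := by
  obtain ⟨e, he⟩ := exists_iso hj (isSymAlg E)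
  refine ⟨(sectionEquiv e U.1).trans (epsU E U), ?_, ?_⟩
  · intro a
    change epsU E U ((e.hom.hom.app (op U.1)).hom ((A.str.app (op U.1)).hom a)) = _
    have h := congr($(NatTrans.congr_app e.hom.comm (op U.1)) a)
    change (e.hom.hom.app (op U.1)).hom ((A.str.app (op U.1)).hom a) = _ at h
    rw [h, epsU_str]
  · intro x
    change epsU E U ((e.hom.hom.app (op U.1)).hom (j.app U.1 x)) = _
    have h : (e.hom.hom.app (op U.1)).hom (j.app U.1 x) = (SymSheaf.j E).app U.1 x := by
      rw [← he]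
      rfl
    rw [h, j_app, RingEquiv.apply_symm_apply]

/-- the universal property of the sections over an affine open -/
theorem existsUnique_lift (hj : RelSpec.IsSymAlg E A j) (U : S.AffineZariskiSite)
    {T : Type u} [CommRing T] (σ : Γ(S, U.1) →+* T) (f : Γ(E, U.1) →+ T)
    (hf : ∀ (a : Γ(S, U.1)) (e : Γ(E, U.1)), f (a • e) = σ a * f e) :
    ∃! g : A.presheaf.obj (op U.1) →+* T,
      (∀ a : Γ(S, U.1), g ((A.str.app (op U.1)).hom a) = σ a) ∧
      (∀ e : Γ(E, U.1), g (j.app U.1 e) = f e) := by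
  obtain ⟨κ, hκ1, hκ2⟩ := exists_equiv hj U
  letI : Algebra Γ(S, U.1) T := σ.toAlgebra
  let fl : Γ(E, U.1) →ₗ[Γ(S, U.1)] T :=
    { toFun := f
      map_add' := map_add f
      map_smul' := fun a e => hf a e }
  refine ⟨((SymmetricAlgebra.lift fl).toRingHom).comp κ.toRingHom, ⟨?_, ?_⟩, ?_⟩
  · intro a
    change SymmetricAlgebra.lift fl (κ _) = _
    rw [hκ1, AlgHom.commutes]
    rfl
  · intro e
    change SymmetricAlgebra.lift fl (κ _) = _
    rw [hκ2, SymmetricAlgebra.lift_ι_apply]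
    rfl
  · rintro g ⟨hg1, hg2⟩
    have h : g.comp κ.symm.toRingHom = (SymmetricAlgebra.lift fl).toRingHom := by
      apply ringHom_ext
      · intro a
        change g (κ.symm (algebraMap _ _ a)) = SymmetricAlgebra.lift fl (algebraMap _ _ a)
        have h0 : κ.symm (algebraMap _ _ a) = (A.str.app (op U.1)).hom a := by
          rw [← hκ1, RingEquiv.symm_apply_apply]
        rw [AlgHom.commutes, h0, hg1]
        rfl
      · intro e
        change g (κ.symm (SymmetricAlgebra.ι _ _ e)) =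
          SymmetricAlgebra.lift fl (SymmetricAlgebra.ι _ _ e)
        have h0 : κ.symm (SymmetricAlgebra.ι _ _ e) = j.app U.1 e := by
          rw [← hκ2, RingEquiv.symm_apply_apply]
        rw [SymmetricAlgebra.lift_ι_apply, h0, hg2]
        rfl
    refine RingHom.ext fun x => ?_
    change g x = SymmetricAlgebra.lift fl (κ x)
    rw [← RingEquiv.symm_apply_apply κ x]
    change (g.comp κ.symm.toRingHom) (κ x) = _
    rw [h, RingEquiv.symm_apply_apply]
    rfl

end Groth.Agent.Lib.Helper3.SymLocal
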