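import Groth.Agent.Lib.Helper3.CPxB
import Groth.Agent.Lib.Helper3.GrProj
import Groth.Agent.Lib.Helper3.QCSubSec
import Groth.Agent.Lib.Helper3.SymLocal
import Groth.Agent.Lib.Helper3.FreeBasis

/-!
# A closed subscheme of finite presentation of a quasi-compact relative `Proj` over a quasi-compact
quasi-separated base is cut out by a finite type module of equations of one degree
-/

set_option autoImplicit false
set_option linter.unusedSectionVars false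
universe u
open CategoryTheory CategoryTheory.Limits AlgebraicGeometry TopologicalSpace Opposite
open Scheme.Modules
open AlgebraicGeometry.Scheme AlgebraicGeometry.Scheme.AffineZariskiSite
open scoped HomogeneousIdeal

namespace Groth.Agent.Lib.Helper3.CPfp

open QCSec GrTransport AffGr CPa CPx
open CPw (sm)
open CPgW (FinCoverG KK exists_pow_mul_mem_KK)
open CPgB (JU)
open CPb (ZU AU gU iU iU_emb iU_toS ρ iU_res ρ_id ρ_comp θUV str_nat)
open QCAlgGen (ofS toS jmap jmap_res jmap_smul str_res rho)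

attribute [local instance 10] ULift.algebra'

theorem unit_cancel {R B : Type*} [CommRing R] [CommRing B] (σ : R →+* B) (w v : R)
    (hw : w * v = 1) (n : ℕ) (z : B) : σ (w ^ n) * (σ v ^ n * z) = z := by
  rw [← mul_assoc, ← map_pow, ← map_mul, ← mul_pow, hw, one_pow, map_one, one_mul]

section Range

variable {X : Scheme.{u}}

/-- a section which is locally in the image of a monomorphism is in the image -/
theorem mem_range_of_locally {M N : X.Modules} (φ : M ⟶ N) [Mono φ] (W : X.Opens) (x : Γ(N, W))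
    (h : ∀ pt ∈ W, ∃ (D : X.Opens) (hD : D ≤ W), pt ∈ D ∧ res N hD x ∈ Set.range (φ.app D)) :
    x ∈ Set.range (φ.app W) := by
  let Sc : ShortComplex X.Modules := ShortComplex.mk φ (cokernel.π φ) (cokernel.condition φ)
  have hS : Sc.Exact := ShortComplex.exact_cokernel φ
  haveI : Mono Sc.f := inferInstanceAs (Mono φ)
  refine QCExact.exact_sections Sc hS W x ?_
  change (cokernel.π φ).app W x = 0
  refine ModBasis.eq_zero_of_locally_zero _ W _ (fun pt hpt => ?_)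
  obtain ⟨D, hD, hptD, y, hy⟩ := h pt hpt
  refine ⟨D, hD, hptD, ?_⟩
  rw [← QCExact.app_res', ← hy]
  exact QCExact.app_f_g_apply Sc D y

end Range

section SpanLoc

variable {X : Scheme.{u}} (B : RelSpec.QCAlg X) {E : X.Modules} (j : E ⟶ B.toModule)

/-- the ideal generated by the image of `E` -/
noncomputable def Jf (O : X.Opens) : Ideal (B.presheaf.obj (op O)) :=
  Ideal.span (Set.range (jmap B j O))

theorem jmap_mem_Jf (O : X.Opens) (e : Γ(E, O)) : jmap B j O e ∈ Jf B j O :=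
  Ideal.subset_span ⟨e, rfl⟩

theorem res_mem_Jf {A O : X.Opens} (h : A ≤ O) (y : B.presheaf.obj (op O)) (hy : y ∈ Jf B j O) :
    (B.presheaf.map (homOfLE h).op).hom y ∈ Jf B j A := by
  unfold Jf at hy
  induction hy using Submodule.span_induction with
  | mem y hy =>
    obtain ⟨e, rfl⟩ := hy
    rw [← jmap_res]
    exact jmap_mem_Jf B j A _
  | zero => rw [map_zero]; exact zero_mem _
  | add y z _ _ hy hz => rw [map_add]; exact add_mem hy hz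
  | smul c y _ hy =>
    rw [smul_eq_mul, map_mul]
    exact Ideal.mul_mem_left _ _ hy

theorem exists_pow_mul_mem_Jf [E.IsQuasicoherent] {U : X.Opens} (hU : IsAffineOpen U)
    (f : Γ(X, U)) (y : B.presheaf.obj (op (X.basicOpen f))) (hy : y ∈ Jf B j (X.basicOpen f)) :
    ∃ (a : B.presheaf.obj (op U)) (N : ℕ), a ∈ Jf B j U ∧
      rho B f a = (rho B f ((B.str.app (op U)).hom f)) ^ N * y := by
  unfold Jf at hy
  induction hy using Submodule.span_induction with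
  | mem y hy =>
    obtain ⟨e, rfl⟩ := hy
    obtain ⟨n, e', he'⟩ :=
      (isLocSec_of_isQuasicoherent E hU f (X.basicOpen f) rfl (X.basicOpen_le f)).surj e
    refine ⟨jmap B j U e', n, jmap_mem_Jf B j U e', ?_⟩
    rw [← jmap_res, he', jmap_smul, map_pow, str_res]
  | zero => exact ⟨0, 0, zero_mem _, by simp⟩
  | add x y _ _ hx hy =>
    obtain ⟨a₁, N₁, ha₁, e₁⟩ := hx
    obtain ⟨a₂, N₂, ha₂, e₂⟩ := hy
    refine ⟨(B.str.app (op U)).hom f ^ N₂ * a₁ + (B.str.app (op U)).hom f ^ N₁ * a₂, N₁ + N₂,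
      add_mem (Ideal.mul_mem_left _ _ ha₁) (Ideal.mul_mem_left _ _ ha₂), ?_⟩
    rw [map_add, map_mul, map_mul, map_pow, map_pow, e₁, e₂]
    ring
  | smul c y _ hy =>
    obtain ⟨a₁, N₁, ha₁, e₁⟩ := hy
    letI := (B.presheaf.map (homOfLE (X.basicOpen_le f)).op).hom.toAlgebra
    haveI hloc : IsLocalization.Away ((B.str.app (op U)).hom f)
        (B.presheaf.obj (op (X.basicOpen f))) := B.isQC U hU f
    obtain ⟨n, a₀, ha₀⟩ := IsLocalization.Away.surj ((B.str.app (op U)).hom f) c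
    have ha₀' : rho B f a₀ = c * rho B f ((B.str.app (op U)).hom f) ^ n := ha₀.symm
    refine ⟨a₀ * a₁, n + N₁, Ideal.mul_mem_left _ _ ha₁, ?_⟩
    rw [map_mul, e₁, ha₀', smul_eq_mul]
    ring

theorem exists_pow_mul_mem_Jf_of_res [E.IsQuasicoherent] {U : X.Opens} (hU : IsAffineOpen U)
    (f : Γ(X, U)) (b : B.presheaf.obj (op U)) (hb : rho B f b ∈ Jf B j (X.basicOpen f)) :
    ∃ N : ℕ, (B.str.app (op U)).hom f ^ N * b ∈ Jf B j U := by
  obtain ⟨a, N, ha, e⟩ := exists_pow_mul_mem_Jf B j hU f _ hb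
  letI := (B.presheaf.map (homOfLE (X.basicOpen_le f)).op).hom.toAlgebra
  haveI hloc : IsLocalization.Away ((B.str.app (op U)).hom f)
      (B.presheaf.obj (op (X.basicOpen f))) := B.isQC U hU f
  have e' : algebraMap (B.presheaf.obj (op U)) (B.presheaf.obj (op (X.basicOpen f))) a =
      algebraMap (B.presheaf.obj (op U)) (B.presheaf.obj (op (X.basicOpen f)))
        (((B.str.app (op U)).hom f) ^ N * b) := by
    rw [map_mul, map_pow]; exact e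
  obtain ⟨M, hM⟩ := IsLocalization.Away.exists_of_eq ((B.str.app (op U)).hom f) e'
  refine ⟨M + N, ?_⟩
  have e1 : (B.str.app (op U)).hom f ^ (M + N) * b = (B.str.app (op U)).hom f ^ M * a := by
    rw [hM, pow_add, mul_assoc]
  rw [e1]
  exact Ideal.mul_mem_left _ _ ha

end SpanLoc

variable {S : Scheme.{u}} (𝒜 : RelProj.QCGrAlg S) {P : Scheme.{u}} (p : P ⟶ S)
  (chart : ∀ (U : S.Opens) (hU : IsAffineOpen U),
    ((p ⁻¹ᵁ U : P.Opens) : Scheme.{u}) ≅ Proj (𝒜.deg U hU))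
  {Z : Scheme.{u}} (i : Z ⟶ P)

instance instLFP [LocallyOfFinitePresentation i] (U : S.AffineZariskiSite) :
    LocallyOfFinitePresentation (iU 𝒜 p chart i U) := by
  unfold iU
  haveI : LocallyOfFinitePresentation (i ∣_ (p ⁻¹ᵁ U.1)) :=
    IsZariskiLocalAtTarget.restrict (P := @LocallyOfFinitePresentation) ‹_› _
  infer_instance

section SatSec

variable (hP : RelProj.IsRelProj 𝒜 p chart) [IsClosedImmersion i]
  (hfc : ∀ U : S.AffineZariskiSite, FinCoverG (gU 𝒜 U))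
  {E : S.Modules} (j : E ⟶ 𝒜.toQCAlg.toModule)

/-- the ideal generated by `E` has the same saturation as the ideal of the closed subscheme -/
def Sat (U : S.AffineZariskiSite) : Prop :=
  ∀ (g : AU 𝒜 U) (e : ℕ), 0 < e → g ∈ gU 𝒜 U e → ∀ (k : ℕ) (a : AU 𝒜 U), a ∈ gU 𝒜 U (k • e) →
    a ∈ JU 𝒜 p chart i U → ∃ N : ℕ, g ^ N * a ∈ Jf 𝒜.toQCAlg j U.1

include hP hfc in
theorem KK_loc (U : S.AffineZariskiSite) (s : Γ(S, U.1)) (b₀ : AU 𝒜 U)
    (hJ : ρ 𝒜 (homOfLE (U.basicOpen_le s)) b₀ ∈ JU 𝒜 p chart i (U.basicOpen s)) :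
    ∃ N : ℕ, (𝒜.str.app (op U.1)).hom s ^ N * b₀ ∈ JU 𝒜 p chart i U := by
  obtain ⟨-, hsurj, hinj⟩ := RelProjExist.loc_facts 𝒜 U.2 (U.basicOpen s).2 s rfl
  exact exists_pow_mul_mem_KK (ρ 𝒜 (homOfLE (U.basicOpen_le s)))
    (RelProjExist.hirr 𝒜 (homOfLE (U.basicOpen_le s))) (iU 𝒜 p chart i U)
    (iU 𝒜 p chart i (U.basicOpen s)) _
    (iU_res 𝒜 p chart i hP (homOfLE (U.basicOpen_le s))) (hfc U)
    ((𝒜.str.app (op U.1)).hom s) (𝒜.str_mem U.1 U.2 s)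
    (CPgB.hrange_UV 𝒜 p chart i hP hfc U s)
    (fun z => by
      obtain ⟨k, a, hka⟩ := hsurj z
      exact ⟨k, a, hka.symm.trans (mul_comm _ _)⟩)
    (fun a ha => hinj a ha) b₀ hJ

include hP hfc in
theorem sat_basicOpen (U : S.AffineZariskiSite) (s : Γ(S, U.1)) (hU : Sat 𝒜 p chart i j U) :
    Sat 𝒜 p chart i j (U.basicOpen s) := by
  intro g' e he hg' k a' ha' haK'
  obtain ⟨hunit, hsurj, hinj⟩ := RelProjExist.loc_facts 𝒜 U.2 (U.basicOpen s).2 s rfl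
  have hc0 : (𝒜.str.app (op U.1)).hom s ∈ gU 𝒜 U 0 := 𝒜.str_mem U.1 U.2 s
  have hsurj' : ∀ z : AU 𝒜 (U.basicOpen s), ∃ (n : ℕ) (a : AU 𝒜 U),
      ρ 𝒜 (homOfLE (U.basicOpen_le s)) a =
        ρ 𝒜 (homOfLE (U.basicOpen_le s)) ((𝒜.str.app (op U.1)).hom s) ^ n * z := by
    intro z
    obtain ⟨k, a, hka⟩ := hsurj z
    exact ⟨k, a, hka.symm.trans (mul_comm _ _)⟩
  obtain ⟨m, g, hg, hgr⟩ := CPxW.lift_homog (ρ 𝒜 (homOfLE (U.basicOpen_le s))) hc0 hsurj' hg'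
  obtain ⟨l, a₁, ha₁, har⟩ := CPxW.lift_homog (ρ 𝒜 (homOfLE (U.basicOpen_le s))) hc0 hsurj' ha'
  have h1 : ρ 𝒜 (homOfLE (U.basicOpen_le s)) a₁ ∈ JU 𝒜 p chart i (U.basicOpen s) := by
    rw [har]; exact Ideal.mul_mem_left _ _ haK'
  obtain ⟨N, hN⟩ := KK_loc 𝒜 p chart i hP hfc U s a₁ h1
  have hdeg : (𝒜.str.app (op U.1)).hom s ^ N * a₁ ∈ gU 𝒜 U (k • e) := by
    have h2 : (𝒜.str.app (op U.1)).hom s ^ N ∈ gU 𝒜 U (N • 0) := SetLike.pow_mem_graded N hc0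
    rw [smul_zero] at h2
    have h3 := SetLike.mul_mem_graded h2 ha₁
    rwa [zero_add] at h3
  obtain ⟨M, hM⟩ := hU g e he hg k _ hdeg hN
  have h4 := res_mem_Jf 𝒜.toQCAlg j (S.basicOpen_le s) _ hM
  have h5 : ρ 𝒜 (homOfLE (U.basicOpen_le s)) (g ^ M * ((𝒜.str.app (op U.1)).hom s ^ N * a₁)) =
      ρ 𝒜 (homOfLE (U.basicOpen_le s)) ((𝒜.str.app (op U.1)).hom s) ^ (m * M + N + l) *
        (g' ^ M * a') := by
    rw [map_mul, map_mul, map_pow, map_pow, hgr, har]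
    ring
  have h6 : ρ 𝒜 (homOfLE (U.basicOpen_le s)) ((𝒜.str.app (op U.1)).hom s) ^ (m * M + N + l) *
      (g' ^ M * a') ∈ Jf 𝒜.toQCAlg j (U.basicOpen s).1 := by
    rw [← h5]; exact h4
  exact ⟨M, (Ideal.unit_mul_mem_iff_mem _ (hunit.pow _)).mp h6⟩

include hP hfc in
theorem sat_openCover [E.IsQuasicoherent] (U : S.AffineZariskiSite) (s : Finset Γ(S, U.1))
    (hs : Ideal.span (s : Set Γ(S, U.1)) = ⊤)
    (hall : ∀ f : s, Sat 𝒜 p chart i j (U.basicOpen f.1)) : Sat 𝒜 p chart i j U := by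
  intro g e he hg k a ha haK
  have key : ∀ f : s, ∃ M N : ℕ,
      (𝒜.str.app (op U.1)).hom f.1 ^ M * (g ^ N * a) ∈ Jf 𝒜.toQCAlg j U.1 := by
    intro f
    obtain ⟨N, hN⟩ := hall f (ρ 𝒜 (homOfLE (U.basicOpen_le f.1)) g) e he
      ((ρ 𝒜 (homOfLE (U.basicOpen_le f.1))).map_mem hg) k
      (ρ 𝒜 (homOfLE (U.basicOpen_le f.1)) a) ((ρ 𝒜 (homOfLE (U.basicOpen_le f.1))).map_mem ha)
      (CPgB.hle_UV 𝒜 p chart i hP hfc (homOfLE (U.basicOpen_le f.1)) a haK)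
    have h1 : rho 𝒜.toQCAlg f.1 (g ^ N * a) ∈ Jf 𝒜.toQCAlg j (S.basicOpen f.1) := by
      have e1 : rho 𝒜.toQCAlg f.1 (g ^ N * a) =
          ρ 𝒜 (homOfLE (U.basicOpen_le f.1)) g ^ N * ρ 𝒜 (homOfLE (U.basicOpen_le f.1)) a := by
        rw [map_mul, map_pow]; rfl
      rw [e1]; exact hN
    obtain ⟨M, hM⟩ := exists_pow_mul_mem_Jf_of_res 𝒜.toQCAlg j U.2 f.1 _ h1
    exact ⟨M, N, hM⟩
  choose M N hMN using key
  let Nt : ℕ := ∑ f ∈ s.attach, N f
  let Mt : ℕ := ∑ f ∈ s.attach, M f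
  have hNt : ∀ f : s, N f ≤ Nt := fun f =>
    Finset.single_le_sum (f := N) (fun _ _ => Nat.zero_le _) (Finset.mem_attach s f)
  have hMt : ∀ f : s, M f ≤ Mt := fun f =>
    Finset.single_le_sum (f := M) (fun _ _ => Nat.zero_le _) (Finset.mem_attach s f)
  let I : Ideal Γ(S, U.1) :=
    { carrier := {x | (𝒜.str.app (op U.1)).hom x * (g ^ Nt * a) ∈ Jf 𝒜.toQCAlg j U.1}
      add_mem' := fun {x y} hx hy => by
        show (𝒜.str.app (op U.1)).hom (x + y) * (g ^ Nt * a) ∈ Jf 𝒜.toQCAlg j U.1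
        rw [map_add, add_mul]; exact add_mem hx hy
      zero_mem' := by
        show (𝒜.str.app (op U.1)).hom 0 * (g ^ Nt * a) ∈ Jf 𝒜.toQCAlg j U.1
        rw [map_zero, zero_mul]; exact zero_mem _
      smul_mem' := fun c x hx => by
        show (𝒜.str.app (op U.1)).hom (c • x) * (g ^ Nt * a) ∈ Jf 𝒜.toQCAlg j U.1
        rw [smul_eq_mul, map_mul, mul_assoc]; exact Ideal.mul_mem_left _ _ hx }
  have hI : ∀ f ∈ s, f ^ Mt ∈ I := by
    intro f hf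
    show (𝒜.str.app (op U.1)).hom (f ^ Mt) * (g ^ Nt * a) ∈ Jf 𝒜.toQCAlg j U.1
    have e1 : (𝒜.str.app (op U.1)).hom (f ^ Mt) * (g ^ Nt * a) =
        ((𝒜.str.app (op U.1)).hom f ^ (Mt - M ⟨f, hf⟩) * g ^ (Nt - N ⟨f, hf⟩)) *
          ((𝒜.str.app (op U.1)).hom f ^ M ⟨f, hf⟩ * (g ^ N ⟨f, hf⟩ * a)) := by
      have h1 : (𝒜.str.app (op U.1)).hom f ^ Mt =
          (𝒜.str.app (op U.1)).hom f ^ (Mt - M ⟨f, hf⟩) *
            (𝒜.str.app (op U.1)).hom f ^ M ⟨f, hf⟩ := by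
        rw [← pow_add, Nat.sub_add_cancel (hMt ⟨f, hf⟩)]
      have h2 : g ^ Nt = g ^ (Nt - N ⟨f, hf⟩) * g ^ N ⟨f, hf⟩ := by
        rw [← pow_add, Nat.sub_add_cancel (hNt ⟨f, hf⟩)]
      rw [map_pow, h1, h2]; ring
    rw [e1]
    exact Ideal.mul_mem_left _ _ (hMN ⟨f, hf⟩)
  have htop : I = ⊤ := by
    rw [eq_top_iff, ← Ideal.span_pow_eq_top _ hs Mt, Ideal.span_le]
    rintro _ ⟨f, hf, rfl⟩
    exact hI f hf
  have h1 : (1 : Γ(S, U.1)) ∈ I := by rw [htop]; trivial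
  have h2 : (𝒜.str.app (op U.1)).hom 1 * (g ^ Nt * a) ∈ Jf 𝒜.toQCAlg j U.1 := h1
  rw [map_one, one_mul] at h2
  exact ⟨Nt, h2⟩

include hP hfc in
theorem sat_all [E.IsQuasicoherent] {κ : Type u} (W : κ → S.AffineZariskiSite)
    (hW : ∀ x : S, ∃ k, x ∈ (W k).1) (hbase : ∀ k, Sat 𝒜 p chart i j (W k))
    (V : S.AffineZariskiSite) : Sat 𝒜 p chart i j V := by
  have hsup : (⨆ k, ((⟨(W k).1, (W k).2⟩ : S.affineOpens) : S.Opens)) = ⊤ := by
    rw [eq_top_iff]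
    intro x _
    obtain ⟨k, hk⟩ := hW x
    exact Opens.mem_iSup.mpr ⟨k, hk⟩
  exact @of_affine_open_cover S (fun U : S.affineOpens => Sat 𝒜 p chart i j ⟨U.1, U.2⟩) κ
    (fun k => (⟨(W k).1, (W k).2⟩ : S.affineOpens)) hsup ⟨V.1, V.2⟩
    (fun U f hU => sat_basicOpen 𝒜 p chart i hP hfc j ⟨U.1, U.2⟩ f hU)
    (fun U s hs hall => sat_openCover 𝒜 p chart i hP hfc j ⟨U.1, U.2⟩ s hs (fun f => hall f))
    hbase

end SatSec

section Main

variable [CompactSpace S] [QuasiSeparatedSpace S] (hP : RelProj.IsRelProj 𝒜 p chart) [QuasiCompact p]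
  [IsClosedImmersion i] [LocallyOfFinitePresentation i]

include hP in
theorem exists_main (U₀ : S.Opens) (hU₀ : IsCompact (U₀ : Set S))
    (hdisj : Disjoint (U₀ : Set S) (Set.range (i ≫ p).base))
    (hft : ∀ (W : S.Opens) (hW : IsAffineOpen W), W ≤ U₀ → ∀ n : ℕ,
      ∃ s : Finset (𝒜.presheaf.obj (op W)),
        (↑s : Set (𝒜.presheaf.obj (op W))) ⊆
          (𝒜.deg W hW n : AddSubgroup (𝒜.presheaf.obj (op W))) ∧
        ∀ x ∈ 𝒜.deg W hW n, ∃ c : (𝒜.presheaf.obj (op W)) → Γ(S, W),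
          x = ∑ g ∈ s, (𝒜.str.app (op W)).hom (c g) * g) :
    ∃ (d : ℕ) (_ : 0 < d) (F : S.Modules) (_ : F.IsQuasicoherent) (_ : F.IsFiniteType)
      (ι : F ⟶ 𝒜.toQCAlg.toModule),
      (∀ (W : S.Opens) (hW : IsAffineOpen W) (x : Γ(F, W)),
        jmap 𝒜.toQCAlg ι W x ∈ 𝒜.deg W hW d) ∧
      (∀ U : S.AffineZariskiSite, Jf 𝒜.toQCAlg ι U.1 ≤ JU 𝒜 p chart i U) ∧
      (∀ U : S.AffineZariskiSite, Sat 𝒜 p chart i ι U) ∧
      ∀ (W : S.Opens) (hW : IsAffineOpen W), W ≤ U₀ → ∀ x ∈ 𝒜.deg W hW d,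
        ∃ y : Γ(F, W), jmap 𝒜.toQCAlg ι W y = x := by
  classical
  have hfc : ∀ U : S.AffineZariskiSite, FinCoverG (gU 𝒜 U) :=
    fun U => CPgB.finCoverG_of_quasiCompact 𝒜 p chart U
  -- the quotient by the full ideal
  obtain ⟨φ, hφe⟩ := CPgB.exists_phi 𝒜 p chart i hP hfc
  have hker : ∀ (U : S.AffineZariskiSite) (b : AU 𝒜 U),
      (φ.hom.app (op U.1)).hom b = 0 ↔ b ∈ JU 𝒜 p chart i U := by
    intro U b
    rw [hφe U b]
    constructor
    · intro h0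
      have h1 := congrArg (CPgB.epsU 𝒜 p chart i hP hfc U) h0
      rw [RingEquiv.apply_symm_apply, map_zero] at h1
      exact Ideal.Quotient.eq_zero_iff_mem.mp h1
    · intro hb
      rw [Ideal.Quotient.eq_zero_iff_mem.mpr hb, map_zero]
  haveI hqA : (𝒜.toQCAlg.toModule).IsQuasicoherent := QCAlgGen.isQuasicoherent_toModule _
  haveI hqB : ((CPgB.ℬ 𝒜 p chart i hP hfc).toQCAlg.toModule).IsQuasicoherent :=
    QCAlgGen.isQuasicoherent_toModule _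
  let φm : 𝒜.toQCAlg.toModule ⟶ (CPgB.ℬ 𝒜 p chart i hP hfc).toQCAlg.toModule :=
    RelSpec.QCAlg.Hom.toModuleMap φ
  haveI hqK : (kernel φm).IsQuasicoherent := QCProps.isQuasicoherent_kernel φm
  let Sk : ShortComplex S.Modules := ShortComplex.mk (kernel.ι φm) φm (kernel.condition _)
  have hSk : Sk.Exact := ShortComplex.exact_kernel φm
  haveI : Mono Sk.f := inferInstanceAs (Mono (kernel.ι φm))
  have hlift : ∀ (U : S.AffineZariskiSite) (b : AU 𝒜 U), b ∈ JU 𝒜 p chart i U →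
      ∃ y : Γ(kernel φm, U.1), ofS 𝒜.toQCAlg U.1 ((kernel.ι φm).app U.1 y) = b := by
    intro U b hb
    exact QCExact.exact_sections Sk hSk U.1 (toS 𝒜.toQCAlg U.1 b) ((hker U b).mpr hb)
  have hkmem : ∀ (U : S.AffineZariskiSite) (y : Γ(kernel φm, U.1)),
      ofS 𝒜.toQCAlg U.1 ((kernel.ι φm).app U.1 y) ∈ JU 𝒜 p chart i U := by
    intro U y
    exact (hker U _).mp (QCExact.app_f_g_apply Sk U.1 y)
  -- a finite affine cover of the base
  obtain ⟨t, ht⟩ := isCompact_univ.elim_finite_subcover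
    (fun U : S.AffineZariskiSite => (U.1 : Set S)) (fun U => U.1.2)
    (fun x _ => by
      obtain ⟨U, hU, hxU, -⟩ := AffExt.exists_affine_nbhd (⊤ : S.Opens) x trivial
      exact Set.mem_iUnion.mpr ⟨⟨U, hU⟩, hxU⟩)
  -- a finite affine cover of `U₀`
  obtain ⟨t₀, ht₀⟩ := hU₀.elim_finite_subcover
    (fun W : {W : S.AffineZariskiSite // W.1 ≤ U₀} => (W.1.1 : Set S)) (fun W => W.1.1.2)
    (fun x hx => by
      obtain ⟨W, hW, hxW, hWU⟩ := AffExt.exists_affine_nbhd U₀ x hx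
      exact Set.mem_iUnion.mpr ⟨⟨⟨W, hW⟩, hWU⟩, hxW⟩)
  -- the degree and the generators
  have gens := fun U : S.AffineZariskiSite =>
    CPxW.exists_gens (gU 𝒜 U) (iU 𝒜 p chart i U) (hfc U)
  choose D hD0 hD using gens
  let d : ℕ := ∏ U ∈ t, D U
  have hd : 0 < d := Finset.prod_pos (fun U _ => hD0 U)
  have key : ∀ U : S.AffineZariskiSite, U ∈ t → ∃ T : Finset (AU 𝒜 U),
      (∀ x ∈ T, x ∈ gU 𝒜 U d ∧ x ∈ JU 𝒜 p chart i U) ∧
      ∀ (g : AU 𝒜 U) (e : ℕ), 0 < e → g ∈ gU 𝒜 U e → ∀ (k : ℕ) (a : AU 𝒜 U),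
        a ∈ gU 𝒜 U (k • e) → a ∈ JU 𝒜 p chart i U →
        ∃ N : ℕ, g ^ N * a ∈ Ideal.span (T : Set (AU 𝒜 U)) :=
    fun U hU => hD U d hd (Finset.dvd_prod_of_mem D hU)
  choose! T hT1 hT2 using key
  choose s₀ hs1 hs2 using
    fun W : {W : S.AffineZariskiSite // W.1 ≤ U₀} => hft W.1.1 W.1.2 W.2 d
  have hempty : ∀ W : S.AffineZariskiSite, W.1 ≤ U₀ → JU 𝒜 p chart i W = ⊤ := by
    intro W hW
    haveI : IsEmpty ((ZU p i W.1 : Z.Opens) : Scheme.{u}) := by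
      refine ⟨fun z => ?_⟩
      have hz : (i ≫ p).base z.1 ∈ (U₀ : Set S) := hW z.2
      exact Set.disjoint_left.mp hdisj hz ⟨z.1, rfl⟩
    exact CPxW.KK_eq_top_of_isEmpty (gU 𝒜 W) (iU 𝒜 p chart i W)
  -- the finitely many sections
  let Q₁ : Set (Σ U : S.AffineZariskiSite, AU 𝒜 U) :=
    ⋃ U ∈ (t : Set S.AffineZariskiSite),
      (fun x : AU 𝒜 U => (⟨U, x⟩ : Σ U : S.AffineZariskiSite, AU 𝒜 U)) '' (T U : Set (AU 𝒜 U))
  let Q₂ : Set (Σ U : S.AffineZariskiSite, AU 𝒜 U) :=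
    ⋃ W ∈ (t₀ : Set {W : S.AffineZariskiSite // W.1 ≤ U₀}),
      (fun x : AU 𝒜 W.1 => (⟨W.1, x⟩ : Σ U : S.AffineZariskiSite, AU 𝒜 U)) ''
        (s₀ W : Set (AU 𝒜 W.1))
  have hQfin : (Q₁ ∪ Q₂).Finite :=
    (Set.Finite.biUnion t.finite_toSet (fun U _ => (T U).finite_toSet.image _)).union
      (Set.Finite.biUnion t₀.finite_toSet (fun W _ => (s₀ W).finite_toSet.image _))
  have hQJ : ∀ q ∈ Q₁ ∪ Q₂, q.2 ∈ JU 𝒜 p chart i q.1 ∧ q.2 ∈ gU 𝒜 q.1 d := by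
    rintro q (hq | hq)
    · obtain ⟨U, hU, x, hx, rfl⟩ := Set.mem_iUnion₂.mp hq
      exact ⟨(hT1 U (Finset.mem_coe.mp hU) x hx).2, (hT1 U (Finset.mem_coe.mp hU) x hx).1⟩
    · obtain ⟨W, hW, x, hx, rfl⟩ := Set.mem_iUnion₂.mp hq
      refine ⟨?_, hs1 W hx⟩
      show x ∈ JU 𝒜 p chart i W.1
      rw [hempty W.1 W.2]
      trivial
  haveI : Finite ↥(Q₁ ∪ Q₂) := hQfin.to_subtype
  have hlift' : ∀ q : ↥(Q₁ ∪ Q₂), ∃ y : Γ(kernel φm, q.1.1.1),
      ofS 𝒜.toQCAlg q.1.1.1 ((kernel.ι φm).app q.1.1.1 y) = q.1.2 :=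
    fun q => hlift q.1.1 q.1.2 (hQJ q.1 q.2).1
  choose tt htt using hlift'
  obtain ⟨K, m, hmono, hKq, hKft, hK⟩ := QCSubSec.exists_finiteType_sub_sections (kernel φm)
    (fun q : ↥(Q₁ ∪ Q₂) => q.1.1.1) (fun q => q.1.1.2.isCompact) tt
  haveI := hmono
  haveI := hKq
  obtain ⟨π, hπ⟩ := GrProj.exists_proj 𝒜 d
  let incl : K ⟶ 𝒜.toQCAlg.toModule := m ≫ kernel.ι φm
  haveI : Mono incl := mono_comp _ _
  have hincl : ∀ (W : S.Opens) (x : Γ(K, W)),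
      incl.app W x = (kernel.ι φm).app W (m.app W x) := fun W x => rfl
  have hjm : ∀ (W : S.Opens) (hW : IsAffineOpen W) (x : Γ(K, W)),
      jmap 𝒜.toQCAlg (incl ≫ π) W x =
        (DirectSum.decompose (𝒜.deg W hW) (ofS 𝒜.toQCAlg W (incl.app W x)) d :
          𝒜.presheaf.obj (op W)) :=
    fun W hW x => hπ W hW _
  have hQ' : ∀ q : ↥(Q₁ ∪ Q₂), ∃ y : Γ(K, q.1.1.1),
      ofS 𝒜.toQCAlg q.1.1.1 (incl.app q.1.1.1 y) = q.1.2 := by
    intro q
    obtain ⟨x, hx⟩ := hK q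
    refine ⟨x, ?_⟩
    rw [hincl, hx, htt q]
  have hQ : ∀ q : ↥(Q₁ ∪ Q₂), ∃ y : Γ(K, q.1.1.1),
      jmap 𝒜.toQCAlg (incl ≫ π) q.1.1.1 y = q.1.2 := by
    intro q
    obtain ⟨y, hy⟩ := hQ' q
    refine ⟨y, ?_⟩
    rw [hjm q.1.1.1 q.1.1.2 y, hy]
    exact DirectSum.decompose_of_mem_same _ (hQJ q.1 q.2).2
  have hle : ∀ U : S.AffineZariskiSite, Jf 𝒜.toQCAlg (incl ≫ π) U.1 ≤ JU 𝒜 p chart i U := by
    intro U
    show Ideal.span _ ≤ _
    rw [Ideal.span_le]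
    rintro _ ⟨x, rfl⟩
    show jmap 𝒜.toQCAlg (incl ≫ π) U.1 x ∈ JU 𝒜 p chart i U
    rw [hjm U.1 U.2 x]
    exact CPxW.KK_decompose_mem (gU 𝒜 U) (iU 𝒜 p chart i U) (hkmem U (m.app U.1 x)) d
  have hbase : ∀ U : {U : S.AffineZariskiSite // U ∈ t}, Sat 𝒜 p chart i (incl ≫ π) U.1 := by
    intro U g e he hg k a ha haK
    obtain ⟨N, hN⟩ := hT2 U.1 U.2 g e he hg k a ha haK
    refine ⟨N, ?_⟩
    show g ^ N * a ∈ Ideal.span (Set.range (jmap 𝒜.toQCAlg (incl ≫ π) U.1.1))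
    refine Ideal.span_mono ?_ hN
    intro x hx
    have hxQ : (⟨U.1, x⟩ : Σ U : S.AffineZariskiSite, AU 𝒜 U) ∈ Q₁ ∪ Q₂ :=
      Or.inl (Set.mem_iUnion₂.mpr ⟨U.1, Finset.mem_coe.mpr U.2, x, hx, rfl⟩)
    obtain ⟨y, hy⟩ := hQ ⟨_, hxQ⟩
    exact ⟨y, hy⟩
  have hsat : ∀ U : S.AffineZariskiSite, Sat 𝒜 p chart i (incl ≫ π) U :=
    sat_all 𝒜 p chart i hP hfc (incl ≫ π) (fun U : {U : S.AffineZariskiSite // U ∈ t} => U.1)
      (fun x => by
        obtain ⟨U, hU, hx⟩ := Set.mem_iUnion₂.mp (ht (Set.mem_univ x))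
        exact ⟨⟨U, hU⟩, hx⟩) hbase
  refine ⟨d, hd, K, hKq, hKft, incl ≫ π, ?_, hle, hsat, ?_⟩
  · intro W hW x
    rw [hjm W hW x]
    exact SetLike.coe_mem _
  · intro W hW hWU x hx
    have hx' : toS 𝒜.toQCAlg W x ∈ Set.range (incl.app W) := by
      refine mem_range_of_locally incl W _ (fun pt hpt => ?_)
      obtain ⟨W', hW'mem, hptW'⟩ := Set.mem_iUnion₂.mp (ht₀ (hWU hpt))
      obtain ⟨f, g, hfg, hptf⟩ := exists_basicOpen_le_affine_inter hW W'.1.2 pt ⟨hpt, hptW'⟩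
      have hDW : S.basicOpen g ≤ W := hfg ▸ S.basicOpen_le f
      have hDaff : IsAffineOpen (S.basicOpen g) := W'.1.2.basicOpen g
      refine ⟨S.basicOpen g, hDW, hfg ▸ hptf, ?_⟩
      -- the restriction of `x` is homogeneous of degree `d`
      have hxD : (𝒜.presheaf.map (homOfLE hDW).op).hom x ∈ 𝒜.deg (S.basicOpen g) hDaff d := by
        rw [← 𝒜.res_apply hW hDaff hDW]
        exact (𝒜.res hW hDaff hDW).map_mem hx
      obtain ⟨hunit, hsurj, -⟩ := RelProjExist.loc_facts 𝒜 W'.1.2 hDaff g rfl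
      have hsurj' : ∀ z : 𝒜.presheaf.obj (op (S.basicOpen g)),
          ∃ (n : ℕ) (a : 𝒜.presheaf.obj (op W'.1.1)),
            𝒜.res W'.1.2 hDaff (S.basicOpen_le g) a =
              𝒜.res W'.1.2 hDaff (S.basicOpen_le g) ((𝒜.str.app (op W'.1.1)).hom g) ^ n * z := by
        intro z
        obtain ⟨k, a, hka⟩ := hsurj z
        exact ⟨k, a, hka.symm.trans (mul_comm _ _)⟩
      obtain ⟨n, a, ha, hθa⟩ := CPxW.lift_homog (𝒜.res W'.1.2 hDaff (S.basicOpen_le g))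
        (𝒜.str_mem W'.1.1 W'.1.2 g) hsurj' hxD
      obtain ⟨cf, hcf⟩ := hs2 W' a ha
      -- `a` lies in the image of `K`
      have hgen : ∀ h ∈ s₀ W', ∃ y : Γ(K, W'.1.1),
          ofS 𝒜.toQCAlg W'.1.1 (incl.app W'.1.1 y) = h := by
        intro h hh
        have hhQ : (⟨W'.1, h⟩ : Σ U : S.AffineZariskiSite, AU 𝒜 U) ∈ Q₁ ∪ Q₂ :=
          Or.inr (Set.mem_iUnion₂.mpr ⟨W', hW'mem, h, hh, rfl⟩)
        obtain ⟨y, hy⟩ := hQ' ⟨_, hhQ⟩
        exact ⟨y, hy⟩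
      have hsum : ∀ s' : Finset (𝒜.presheaf.obj (op W'.1.1)), s' ⊆ s₀ W' →
          ∃ y : Γ(K, W'.1.1), ofS 𝒜.toQCAlg W'.1.1 (incl.app W'.1.1 y) =
            ∑ h ∈ s', (𝒜.str.app (op W'.1.1)).hom (cf h) * h := by
        intro s'
        induction s' using Finset.induction_on with
        | empty =>
          intro _
          refine ⟨0, ?_⟩
          rw [Finset.sum_empty, QCExact.app_zero]
          rfl
        | insert h s' hh ih =>
          intro hsub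
          obtain ⟨y₁, hy₁⟩ := ih (fun z hz => hsub (Finset.mem_insert_of_mem hz))
          obtain ⟨y₀, hy₀⟩ := hgen h (hsub (Finset.mem_insert_self h s'))
          refine ⟨cf h • y₀ + y₁, ?_⟩
          rw [Finset.sum_insert hh, QCExact.app_add, Scheme.Modules.Hom.app_smul]
          exact congrArg₂ (fun u v => (𝒜.str.app (op W'.1.1)).hom (cf h) * u + v) hy₀ hy₁
      obtain ⟨ya, hya⟩ := hsum (s₀ W') subset_rfl
      rw [← hcf] at hya
      -- invert `g` over the basic open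
      have hv : IsUnit (rres S (S.basicOpen_le g) g) := RingedSpace.isUnit_res_basicOpen _ g
      obtain ⟨w, hw⟩ := hv.exists_left_inv
      refine ⟨w ^ n • res K (S.basicOpen_le g) ya, ?_⟩
      rw [Scheme.Modules.Hom.app_smul, QCExact.app_res']
      have h1 : (𝒜.presheaf.map (homOfLE (S.basicOpen_le g)).op).hom a =
          (𝒜.str.app (op (S.basicOpen g))).hom (rres S (S.basicOpen_le g) g) ^ n *
            (𝒜.presheaf.map (homOfLE hDW).op).hom x := by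
        rw [str_res, ← 𝒜.res_apply W'.1.2 hDaff (S.basicOpen_le g),
          ← 𝒜.res_apply W'.1.2 hDaff (S.basicOpen_le g)]
        exact hθa
      have h2 : (𝒜.str.app (op (S.basicOpen g))).hom (w ^ n) *
          (𝒜.presheaf.map (homOfLE (S.basicOpen_le g)).op).hom
            (ofS 𝒜.toQCAlg W'.1.1 (incl.app W'.1.1 ya)) =
          (𝒜.presheaf.map (homOfLE hDW).op).hom x := by
        rw [hya, h1]
        exact unit_cancel _ w _ hw n _
      exact h2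
    obtain ⟨y, hy⟩ := hx'
    refine ⟨y, ?_⟩
    rw [hjm W hW y]
    have h3 : ofS 𝒜.toQCAlg W (incl.app W y) = x := hy
    rw [h3]
    exact DirectSum.decompose_of_mem_same _ hx

include hP in
/-- a closed subscheme of finite presentation of a quasi-compact relative `Proj` over a
quasi-compact quasi-separated base is the relative `Proj` of the quotient by a finite type module
of equations of a single degree -/
theorem exists_final (U₀ : S.Opens) (hU₀ : IsCompact (U₀ : Set S))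
    (hdisj : Disjoint (U₀ : Set S) (Set.range (i ≫ p).base))
    (hft : ∀ (W : S.Opens) (hW : IsAffineOpen W), W ≤ U₀ → ∀ n : ℕ,
      ∃ s : Finset (𝒜.presheaf.obj (op W)),
        (↑s : Set (𝒜.presheaf.obj (op W))) ⊆
          (𝒜.deg W hW n : AddSubgroup (𝒜.presheaf.obj (op W))) ∧
        ∀ x ∈ 𝒜.deg W hW n, ∃ c : (𝒜.presheaf.obj (op W)) → Γ(S, W),
          x = ∑ g ∈ s, (𝒜.str.app (op W)).hom (c g) * g) :
    ∃ (d : ℕ) (_ : 0 < d) (F : S.Modules) (_ : Coh.IsQCoh F) (_ : CohB1.IsFT F)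
      (ι : F ⟶ 𝒜.toModule)
      (_ : ∀ (W : S.Opens) (hW : IsAffineOpen W) (x : Γ(F, W)), (ι.app W) x ∈ 𝒜.deg W hW d)
      (ℬ : RelProj.QCGrAlg S) (φ : 𝒜.toQCAlg ⟶ ℬ.toQCAlg) (hφ : RelProj.IsGradedHom φ)
      (PB : Scheme.{u}) (pB : PB ⟶ S)
      (chartB : ∀ (U : S.Opens) (hU : IsAffineOpen U),
        (((pB ⁻¹ᵁ U : PB.Opens) : Scheme.{u}) ≅ Proj (ℬ.deg U hU)))
      (h : PB ⟶ P) (e : PB ≅ Z),
      (∀ (W : S.Opens), IsAffineOpen W → Function.Surjective (φ.hom.app (op W)).hom ∧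
          RingHom.ker (φ.hom.app (op W)).hom =
            (Ideal.span (Set.range (ι.app W)) : Ideal (𝒜.presheaf.obj (op W)))) ∧
        RelProj.IsRelProj ℬ pB chartB ∧
        RelProj.IsProjQMap (RelProj.QGrHom.ofHom φ hφ) p chart pB chartB h ∧
        e.hom ≫ i = h ∧
        ∀ (W : S.Opens) (hW : IsAffineOpen W), W ≤ U₀ →
          ((𝒜.deg W hW d : AddSubgroup (𝒜.presheaf.obj (op W))) :
            Set (𝒜.presheaf.obj (op W))) ⊆
            Set.range (fun x : Γ(F, W) => ((ι.app W) x : 𝒜.presheaf.obj (op W))) := by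
  classical
  obtain ⟨d, hd, F, hFq, hFft, ι, hdeg, hle, hsat, hlast⟩ :=
    exists_main 𝒜 p chart i hP U₀ hU₀ hdisj hft
  haveI := hFq
  have hfc : ∀ U : S.AffineZariskiSite, FinCoverG (gU 𝒜 U) :=
    fun U => CPgB.finCoverG_of_quasiCompact 𝒜 p chart U
  let H : ∀ U : S.AffineZariskiSite, HI (sm (gU 𝒜 U)) := fun U =>
    ⟨Jf 𝒜.toQCAlg ι U.1, Ideal.homogeneous_span (sm (gU 𝒜 U)) _ (by
      rintro _ ⟨x, rfl⟩
      exact ⟨d, hdeg U.1 U.2 x⟩)⟩
  let D : CPxB.Dat 𝒜 p chart i :=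
    { hP := hP
      H := H
      hres := fun U V j a ha => res_mem_Jf 𝒜.toQCAlg ι (toOpens_mono j.le) a ha
      hloc := fun U s b hb => exists_pow_mul_mem_Jf_of_res 𝒜.toQCAlg ι U.2 s b hb
      he := fun U => CPxW.exists_e_of_sat (gU 𝒜 U) (H U) (iU 𝒜 p chart i U) (hfc U) (hle U)
        (hsat U) }
  obtain ⟨ℬ', φ, hφ, PB, pB, chartB', h, e, h1, h2, h3, h4⟩ := CPxB.exists_all_gen 𝒜 p chart i D
  refine ⟨d, hd, F, hFq, hFft, ι, fun W hW x => hdeg W hW x, ℬ', φ, hφ, PB, pB, chartB', h, e,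
    ?_, h2, h3, h4, ?_⟩
  · intro W hW
    exact ⟨(h1 W hW).1, (h1 W hW).2⟩
  · intro W hW hWU x hx
    obtain ⟨y, hy⟩ := hlast W hW hWU x hx
    exact ⟨y, hy⟩

include hP in
/-- the version without an auxiliary open -/
theorem exists_final' :
    ∃ (d : ℕ) (_ : 0 < d) (F : S.Modules) (_ : Coh.IsQCoh F) (_ : CohB1.IsFT F)
      (ι : F ⟶ 𝒜.toModule)
      (_ : ∀ (U : S.Opens) (hU : IsAffineOpen U) (x : Γ(F, U)), (ι.app U) x ∈ 𝒜.deg U hU d)
      (ℬ : RelProj.QCGrAlg S) (φ : 𝒜.toQCAlg ⟶ ℬ.toQCAlg) (hφ : RelProj.IsGradedHom φ)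
      (PB : Scheme.{u}) (pB : PB ⟶ S)
      (chartB : ∀ (U : S.Opens) (hU : IsAffineOpen U),
        (((pB ⁻¹ᵁ U : PB.Opens) : Scheme.{u}) ≅ Proj (ℬ.deg U hU)))
      (h : PB ⟶ P) (e : PB ≅ Z),
      (∀ (U : S.Opens), IsAffineOpen U → Function.Surjective (φ.hom.app (op U)).hom ∧
          RingHom.ker (φ.hom.app (op U)).hom =
            (Ideal.span (Set.range (ι.app U)) : Ideal (𝒜.presheaf.obj (op U)))) ∧
        RelProj.IsRelProj ℬ pB chartB ∧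
        RelProj.IsProjQMap (RelProj.QGrHom.ofHom φ hφ) p chart pB chartB h ∧
        e.hom ≫ i = h := by
  have hft : ∀ (W : S.Opens) (hW : IsAffineOpen W), W ≤ (⊥ : S.Opens) → ∀ n : ℕ,
      ∃ s : Finset (𝒜.presheaf.obj (op W)),
        (↑s : Set (𝒜.presheaf.obj (op W))) ⊆
          (𝒜.deg W hW n : AddSubgroup (𝒜.presheaf.obj (op W))) ∧
        ∀ x ∈ 𝒜.deg W hW n, ∃ c : (𝒜.presheaf.obj (op W)) → Γ(S, W),
          x = ∑ g ∈ s, (𝒜.str.app (op W)).hom (c g) * g := by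
    intro W hW hWb n
    have hWe : W = ⊥ := le_bot_iff.mp hWb
    subst hWe
    haveI : Subsingleton (𝒜.presheaf.obj (op (⊥ : S.Opens))) := by
      have h01 : (1 : 𝒜.presheaf.obj (op (⊥ : S.Opens))) = 0 := by
        have := congrArg (𝒜.str.app (op (⊥ : S.Opens))).hom
          (Subsingleton.elim (1 : Γ(S, ⊥)) 0)
        rwa [map_one, map_zero] at this
      exact subsingleton_of_zero_eq_one h01.symm
    exact ⟨∅, by simp, fun x _ => ⟨fun _ => 0, Subsingleton.elim _ _⟩⟩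
  obtain ⟨d, hd, F, hFq, hFft, ι, hdeg, ℬ, φ, hφ, PB, pB, chartB, h, e, h1, h2, h3, h4, -⟩ :=
    exists_final 𝒜 p chart i hP ⊥ (by rw [Opens.coe_bot]; exact isCompact_empty)
      (by rw [Opens.coe_bot]; exact Set.empty_disjoint _) hft
  exact ⟨d, hd, F, hFq, hFft, ι, hdeg, ℬ, φ, hφ, PB, pB, chartB, h, e, h1, h2, h3, h4⟩

end Main

end Groth.Agent.Lib.Helper3.CPfp
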