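import Groth.Agent.Lib.Helper3.CPa
import Groth.Agent.Lib.Helper3.GrModSec
import Groth.Agent.Lib.Helper3.RelProjMap

/-!
# The homogeneous ideal of a closed subscheme of `Proj 𝒜` (charts of arbitrary degrees)
-/

set_option autoImplicit false
set_option linter.unusedSectionVars false
universe u
open CategoryTheory CategoryTheory.Limits AlgebraicGeometry TopologicalSpace Opposite
open Scheme.Modules
open scoped HomogeneousIdeal

namespace Groth.Agent.Lib.Helper3.CPg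

open QCSec TwistBasic GrTildeQC ProjFrac GrTildeHom ProjMapFn ProjClosed ToProj GrTransport CPa

/-! ### closed immersions -/

section CI

variable {R A B : Type u} [CommRing R] [CommRing A] [Algebra R A] {𝒜 : ℕ → Submodule R A}
  [GradedAlgebra 𝒜] [CommRing B] [Algebra R B] {ℬ : ℕ → Submodule R B} [GradedAlgebra ℬ]

open HomogeneousLocalization in
theorem away_map_surjective' (f : 𝒜 →+*ᵍ ℬ) (hsurj : Function.Surjective f) {d : ℕ} {s : A}
    (hs : s ∈ 𝒜 d) : Function.Surjective (Away.map f s) := by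
  intro z
  obtain ⟨n, b, hb, rfl⟩ := Away.mk_surjective ℬ (f.2 hs) z
  obtain ⟨a, rfl⟩ := hsurj b
  refine ⟨Away.mk 𝒜 hs n (DirectSum.decompose 𝒜 a (n • d)) (SetLike.coe_mem _), ?_⟩
  rw [Away.map_mk]
  congr 1
  rw [GradedRingHom.map_directSumDecompose, DirectSum.decompose_of_mem_same _ hb]

open HomogeneousLocalization in
theorem isClosedImmersion_map' (f : 𝒜 →+*ᵍ ℬ) (hf : ℬ₊ ≤ 𝒜₊.map f)
    (hsurj : Function.Surjective f) : IsClosedImmersion (Proj.map f hf) := by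
  refine RelProjMap.of_cover_isPullback (P := @IsClosedImmersion) (Proj.affineOpenCover 𝒜).openCover
    (fun (s : (Σ i : ℕ+, 𝒜 i)) => Spec (.of (Away ℬ (f (s.2 : A)))))
    (fun (s : (Σ i : ℕ+, 𝒜 i)) => Proj.awayι ℬ (f (s.2 : A)) (f.2 s.2.2) s.1.2)
    (fun (s : (Σ i : ℕ+, 𝒜 i)) => Spec.map (CommRingCat.ofHom (Away.map f (s.2 : A))))
    (fun (s : (Σ i : ℕ+, 𝒜 i)) => ?_) (fun (s : (Σ i : ℕ+, 𝒜 i)) => ?_)
  · refine (IsOpenImmersion.isPullback _ _ _ _ (Proj.awayι_comp_map f hf s.1.2 _ s.2.2) ?_).flip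
    change Proj.map f hf ⁻¹ᵁ (Proj.awayι 𝒜 (s.2 : A) s.2.2 s.1.2).opensRange = _
    rw [Proj.opensRange_awayι, Proj.opensRange_awayι]
    rfl
  · exact IsClosedImmersion.spec_of_surjective _ (away_map_surjective' f hsurj s.2.2)

end CI

section One

variable {R A : Type u} [CommRing R] [CommRing A] [Algebra R A] {𝒜 : ℕ → Submodule R A}
  [GradedAlgebra 𝒜] {Z : Scheme.{u}} (ι : Z ⟶ Proj 𝒜)

/-! ### fractions on charts of arbitrary degree -/

theorem goodOn {U : (Proj 𝒜).Opens} {g : A} {e : ℕ} (hg : g ∈ 𝒜 e)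
    (hU : ∀ x : U, g ∉ x.1.asHomogeneousIdeal) {k : ℕ} {a : A} (ha : a ∈ 𝒜 (k • e)) :
    Good U a (g ^ k) :=
  good_of_mem ha (SetLike.pow_mem_graded k hg) (fun x => notMem_pow (hU x) k)

theorem notMem_of_mul_left {g g' : A} (x : Proj.basicOpen 𝒜 (g * g')) :
    g ∉ x.1.asHomogeneousIdeal :=
  fun h => x.2 (x.1.asHomogeneousIdeal.toIdeal.mul_mem_right g' h)

theorem notMem_of_mul_right {g g' : A} (x : Proj.basicOpen 𝒜 (g * g')) :
    g' ∉ x.1.asHomogeneousIdeal :=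
  fun h => x.2 (x.1.asHomogeneousIdeal.toIdeal.mul_mem_left g h)

theorem exists_fn_eq' {g : A} {e : ℕ} (he : 0 < e) (hg : g ∈ 𝒜 e)
    (c : Γ(Proj 𝒜, Proj.basicOpen 𝒜 g)) :
    ∃ (k : ℕ) (a : A), a ∈ 𝒜 (k • e) ∧ c = fn (Proj.basicOpen 𝒜 g) a (g ^ k) := by
  obtain ⟨k, a, ha, hc⟩ := exists_awayToSection he hg c
  exact ⟨k, a, ha, by rw [← hc, awayToSection_mk hg k a ha]⟩

theorem fn_eq_zero_iff' {g : A} {e : ℕ} (he : 0 < e) (hg : g ∈ 𝒜 e) {k : ℕ} {a : A}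
    (ha : a ∈ 𝒜 (k • e)) :
    fn (Proj.basicOpen 𝒜 g) a (g ^ k) = 0 ↔ ∃ N : ℕ, g ^ N * a = 0 := by
  constructor
  · intro h0
    have h1 := awayToSection_mk hg k a ha
    have hinj : Function.Injective (Proj.awayToSection 𝒜 g).hom := by
      have h2 : Proj.awayToSection 𝒜 g ≫ (Proj.basicOpenIsoAway 𝒜 g hg he).inv = 𝟙 _ := by
        have := (Proj.basicOpenIsoAway 𝒜 g hg he).hom_inv_id
        rwa [Proj.basicOpenIsoAway_hom] at this
      have e1 : ∀ w, (Proj.basicOpenIsoAway 𝒜 g hg he).inv.hom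
          ((Proj.awayToSection 𝒜 g).hom w) = w := fun w => congrArg (fun ψ => ψ.hom w) h2
      intro z z' hz
      have := congrArg (Proj.basicOpenIsoAway 𝒜 g hg he).inv.hom hz
      rwa [e1, e1] at this
    rw [← h1, ← map_zero (Proj.awayToSection 𝒜 g).hom] at h0
    have h3 := congrArg HomogeneousLocalization.val (hinj h0)
    rw [HomogeneousLocalization.Away.val_mk, HomogeneousLocalization.val_zero,
      Localization.mk_eq_mk', IsLocalization.mk'_eq_zero_iff] at h3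
    obtain ⟨⟨_, N, rfl⟩, hN⟩ := h3
    exact ⟨N, hN⟩
  · rintro ⟨N, hN⟩
    have hmem : g ^ N * a ∈ 𝒜 ((N + k) • e) := by
      rw [add_smul]
      exact SetLike.mul_mem_graded (SetLike.pow_mem_graded N hg) ha
    have e1 : fn (Proj.basicOpen 𝒜 g) a (g ^ k) =
        fn (Proj.basicOpen 𝒜 g) (g ^ N * a) (g ^ (N + k)) :=
      fn_eq (goodD hg ha) (goodD hg hmem) (by rw [pow_add]; ring)
    rw [e1, hN]
    exact fn_zero (goodD hg (k := N + k) (zero_mem _))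

theorem app_rres {U V : (Proj 𝒜).Opens} (hVU : V ≤ U) (x : Γ(Proj 𝒜, U)) :
    ι.app V (rres (Proj 𝒜) hVU x) = rres Z (ι.preimage_mono hVU) (ι.app U x) :=
  congr($(ι.naturality (homOfLE hVU).op) x)

/-! ### vanishing of fractions on the subscheme -/

/-- the fraction `a / b` vanishes on the subscheme over `U` -/
def Van (U : (Proj 𝒜).Opens) (a b : A) : Prop := ι.app U (fn U a b) = 0

theorem Van.res {U V : (Proj 𝒜).Opens} (hVU : V ≤ U) {a b : A} (hG : Good U a b)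
    (h : Van ι U a b) : Van ι V a b := by
  unfold Van at h ⊢
  rw [← rres_fn hVU hG, app_rres, h]
  exact rres0 _

theorem Van.mul {U : (Proj 𝒜).Opens} {a b c d : A} (hG : Good U a b) (hG' : Good U c d)
    (h : Van ι U a b) : Van ι U (a * c) (b * d) := by
  unfold Van at h ⊢
  rw [← fn_mul hG hG', map_mul, h, zero_mul]

theorem Van.congr {U : (Proj 𝒜).Opens} {a b a' b' : A} (hG : Good U a b) (hG' : Good U a' b')
    (heq : a * b' = a' * b) (h : Van ι U a b) : Van ι U a' b' := by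
  unfold Van at h ⊢
  rw [← fn_eq hG hG' heq]
  exact h

theorem van_zero {U : (Proj 𝒜).Opens} {b : A} (hG : Good U 0 b) : Van ι U 0 b := by
  unfold Van
  rw [fn_zero hG, map_zero]

theorem Van.add {U : (Proj 𝒜).Opens} {a a' b : A} (hG : Good U a b) (hG' : Good U a' b)
    (hG'' : Good U (a + a') b) (h : Van ι U a b) (h' : Van ι U a' b) : Van ι U (a + a') b := by
  unfold Van at h h' ⊢
  rw [← fn_add hG hG' hG'', map_add, h, h', add_zero]

theorem Van.ext_pow [IsClosedImmersion ι] {g : A} {e : ℕ} (he : 0 < e) (hg : g ∈ 𝒜 e)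
    {a b s t : A} (hG : Good (Proj.basicOpen 𝒜 g) a b) (hG' : Good (Proj.basicOpen 𝒜 g) s t)
    (h : Van ι (Proj.basicOpen 𝒜 g ⊓ Proj.basicOpen 𝒜 s) a b) :
    ∃ N : ℕ, Van ι (Proj.basicOpen 𝒜 g) (s ^ N * a) (t ^ N * b) := by
  have haff : IsAffineOpen (ι ⁻¹ᵁ Proj.basicOpen 𝒜 g) :=
    (Proj.isAffineOpen_basicOpen 𝒜 g hg he).preimage ι
  have hbo : (Proj 𝒜).basicOpen (fn (Proj.basicOpen 𝒜 g) s t) =
      Proj.basicOpen 𝒜 g ⊓ Proj.basicOpen 𝒜 s := basicOpen_fn hG'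
  have hle : Proj.basicOpen 𝒜 g ⊓ Proj.basicOpen 𝒜 s ≤ Proj.basicOpen 𝒜 g := inf_le_left
  have hz : rres Z (ι.preimage_mono hle)
      (ι.app (Proj.basicOpen 𝒜 g) (fn (Proj.basicOpen 𝒜 g) a b)) = 0 := by
    rw [← app_rres ι hle, rres_fn hle hG]
    exact h
  have himg : ι ⁻¹ᵁ (Proj.basicOpen 𝒜 g ⊓ Proj.basicOpen 𝒜 s) =
      Z.basicOpen (ι.app (Proj.basicOpen 𝒜 g) (fn (Proj.basicOpen 𝒜 g) s t)) := by
    rw [← Scheme.preimage_basicOpen, hbo]
  obtain ⟨N, hN⟩ := exists_pow_mul_eq_zero_of_res_basicOpen_eq_zero_of_isCompact Z haff.isCompact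
    (ι.app (Proj.basicOpen 𝒜 g) (fn (Proj.basicOpen 𝒜 g) a b))
    (ι.app (Proj.basicOpen 𝒜 g) (fn (Proj.basicOpen 𝒜 g) s t))
    (rres_eq_zero_of_eq himg _ (Z.basicOpen_le _) _ hz)
  refine ⟨N, ?_⟩
  unfold Van
  rw [← fn_mul (hG'.pow N) hG, ← fn_pow hG', map_mul, map_pow]
  exact hN

/-! ### the ideals -/

/-- homogeneous elements whose dehomogenization at `g` lies in the ideal of the subscheme -/
def Hset (g : A) (e : ℕ) : Set A :=
  {j | ∃ k : ℕ, j ∈ 𝒜 (k • e) ∧ Van ι (Proj.basicOpen 𝒜 g) j (g ^ k)}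

/-- the saturation with respect to `g` of the ideal generated by `Hset` -/
def Ig (g : A) (e : ℕ) : Ideal A where
  carrier := {a | ∃ N : ℕ, g ^ N * a ∈ Ideal.span (Hset ι g e)}
  zero_mem' := ⟨0, by rw [mul_zero]; exact zero_mem _⟩
  add_mem' := by
    rintro a b ⟨N, hN⟩ ⟨M, hM⟩
    refine ⟨N + M, ?_⟩
    have e1 : g ^ (N + M) * (a + b) = g ^ M * (g ^ N * a) + g ^ N * (g ^ M * b) := by
      rw [pow_add]; ring
    rw [e1]
    exact add_mem (Ideal.mul_mem_left _ _ hN) (Ideal.mul_mem_left _ _ hM)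
  smul_mem' := by
    rintro c a ⟨N, hN⟩
    refine ⟨N, ?_⟩
    have e1 : g ^ N * (c • a) = c * (g ^ N * a) := by rw [smul_eq_mul]; ring
    rw [e1]
    exact Ideal.mul_mem_left _ _ hN

theorem mem_Ig {g : A} {e : ℕ} {a : A} :
    a ∈ Ig ι g e ↔ ∃ N : ℕ, g ^ N * a ∈ Ideal.span (Hset ι g e) := Iff.rfl

theorem span_Hset_homogeneous (g : A) (e : ℕ) : (Ideal.span (Hset ι g e)).IsHomogeneous 𝒜 :=
  Ideal.homogeneous_span 𝒜 _ (by
    rintro x ⟨k, hx, -⟩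
    exact ⟨_, hx⟩)

theorem Ig_homogeneous {g : A} {e : ℕ} (hg : g ∈ 𝒜 e) : (Ig ι g e).IsHomogeneous 𝒜 := by
  intro i a ha
  obtain ⟨N, hN⟩ := ha
  refine ⟨N, ?_⟩
  have h1 := span_Hset_homogeneous ι g e (N • e + i) hN
  rwa [DirectSum.coe_decompose_mul_add_of_left_mem 𝒜 (SetLike.pow_mem_graded N hg)] at h1

variable (𝒜) in
/-- homogeneous elements of positive degree, with their degrees -/
abbrev HE : Type u := {p : A × ℕ // 0 < p.2 ∧ p.1 ∈ 𝒜 p.2}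

/-- the homogeneous ideal of a morphism to `Proj` -/
def K' : Ideal A := ⨅ p : HE 𝒜, Ig ι p.1.1 p.1.2

theorem mem_K' {a : A} :
    a ∈ K' ι ↔ ∀ (g : A) (e : ℕ), 0 < e → g ∈ 𝒜 e → a ∈ Ig ι g e := by
  unfold K'
  rw [Ideal.mem_iInf]
  constructor
  · intro h g e he hg
    exact h ⟨(g, e), he, hg⟩
  · rintro h ⟨⟨g, e⟩, he, hg⟩
    exact h g e he hg

theorem K'_homogeneous : (K' ι).IsHomogeneous 𝒜 := by
  intro i a ha
  rw [mem_K'] at ha ⊢
  intro g e he hg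
  exact Ig_homogeneous ι hg i (ha g e he hg)

/-! ### the saturated ideal at `g` -/

/-- membership in the saturated ideal at `g` -/
def InSat (g : A) (e : ℕ) (x : A) : Prop :=
  ∀ (n m k : ℕ) (b : A), b ∈ 𝒜 m → n + m = k • e →
    Van ι (Proj.basicOpen 𝒜 g) ((DirectSum.decompose 𝒜 x n : A) * b) (g ^ k)

theorem mul_mem_of_eq {n m j : ℕ} {a b : A} (ha : a ∈ 𝒜 n) (hb : b ∈ 𝒜 m) (h : n + m = j) :
    a * b ∈ 𝒜 j := h ▸ SetLike.mul_mem_graded ha hb

theorem inSat_zero {g : A} {e : ℕ} (hg : g ∈ 𝒜 e) : InSat ι g e 0 := by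
  intro n m k b hb hnm
  rw [DirectSum.decompose_zero, DirectSum.zero_apply, ZeroMemClass.coe_zero, zero_mul]
  exact van_zero ι (goodD hg (zero_mem _))

theorem inSat_add {g : A} {e : ℕ} (hg : g ∈ 𝒜 e) {x y : A} (hx : InSat ι g e x)
    (hy : InSat ι g e y) : InSat ι g e (x + y) := by
  intro n m k b hb hnm
  rw [DirectSum.decompose_add, DirectSum.add_apply, AddMemClass.coe_add, add_mul]
  have h1 : (DirectSum.decompose 𝒜 x n : A) * b ∈ 𝒜 (k • e) :=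
    mul_mem_of_eq (SetLike.coe_mem _) hb hnm
  have h2 : (DirectSum.decompose 𝒜 y n : A) * b ∈ 𝒜 (k • e) :=
    mul_mem_of_eq (SetLike.coe_mem _) hb hnm
  exact Van.add ι (goodD hg h1) (goodD hg h2) (goodD hg (add_mem h1 h2)) (hx n m k b hb hnm)
    (hy n m k b hb hnm)

theorem inSat_mul_of_mem {g : A} {e : ℕ} (hg : g ∈ 𝒜 e) {d : ℕ} {c : A} (hc : c ∈ 𝒜 d) {x : A}
    (hx : InSat ι g e x) : InSat ι g e (c * x) := by
  intro n m k b hb hnm
  by_cases hdn : d ≤ n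
  · rw [DirectSum.coe_decompose_mul_of_left_mem_of_le 𝒜 hc hdn]
    have e1 : c * (DirectSum.decompose 𝒜 x (n - d) : A) * b =
        (DirectSum.decompose 𝒜 x (n - d) : A) * (c * b) := by ring
    rw [e1]
    refine hx (n - d) (d + m) k (c * b) (SetLike.mul_mem_graded hc hb) ?_
    rw [← add_assoc, Nat.sub_add_cancel hdn]
    exact hnm
  · rw [DirectSum.coe_decompose_mul_of_left_mem_of_not_le 𝒜 hc hdn, zero_mul]
    exact van_zero ι (goodD hg (zero_mem _))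

theorem inSat_mul {g : A} {e : ℕ} (hg : g ∈ 𝒜 e) (c : A) {x : A} (hx : InSat ι g e x) :
    InSat ι g e (c * x) := by
  induction c using DirectSum.Decomposition.inductionOn 𝒜 with
  | zero => rw [zero_mul]; exact inSat_zero ι hg
  | homogeneous m => exact inSat_mul_of_mem ι hg m.2 hx
  | add m m' hm hm' => rw [add_mul]; exact inSat_add ι hg hm hm'

/-- the saturated ideal at `g` -/
def SatI {g : A} {e : ℕ} (hg : g ∈ 𝒜 e) : Ideal A where
  carrier := {x | InSat ι g e x}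
  zero_mem' := inSat_zero ι hg
  add_mem' := fun hx hy => inSat_add ι hg hx hy
  smul_mem' := fun c _ hx => inSat_mul ι hg c hx

theorem Hset_subset_SatI {g : A} {e : ℕ} (he : 0 < e) (hg : g ∈ 𝒜 e) {j : A}
    (hj : j ∈ Hset ι g e) : j ∈ SatI ι hg := by
  obtain ⟨k₀, hjk, hv⟩ := hj
  intro n m k b hb hnm
  by_cases hn : k₀ • e = n
  · subst hn
    rw [DirectSum.decompose_of_mem_same 𝒜 hjk]
    have hk : k₀ ≤ k := by
      by_contra hlt
      push Not at hlt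
      have h1 : k • e < k₀ • e := by
        rw [smul_eq_mul, smul_eq_mul]
        exact Nat.mul_lt_mul_of_pos_right hlt he
      omega
    have hm : m = (k - k₀) • e := by
      have h1 : k • e = k₀ • e + (k - k₀) • e := by
        rw [← add_smul, Nat.add_sub_cancel' hk]
      omega
    subst hm
    have hG2 : Good (Proj.basicOpen 𝒜 g) b (g ^ (k - k₀)) := goodD hg hb
    have h2 := Van.mul ι (goodD hg hjk) hG2 hv
    have e1 : g ^ k₀ * g ^ (k - k₀) = g ^ k := by rw [← pow_add, Nat.add_sub_cancel' hk]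
    rwa [e1] at h2
  · rw [DirectSum.decompose_of_mem_ne 𝒜 hjk hn, zero_mul]
    exact van_zero ι (goodD hg (zero_mem _))

theorem span_Hset_le_SatI {g : A} {e : ℕ} (he : 0 < e) (hg : g ∈ 𝒜 e) :
    Ideal.span (Hset ι g e) ≤ SatI ι hg :=
  Ideal.span_le.mpr (fun _ hj => Hset_subset_SatI ι he hg hj)

theorem van_of_mem_Ig {g : A} {e : ℕ} (he : 0 < e) (hg : g ∈ 𝒜 e) {k : ℕ} {a : A}
    (ha : a ∈ 𝒜 (k • e)) (h : a ∈ Ig ι g e) : Van ι (Proj.basicOpen 𝒜 g) a (g ^ k) := by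
  obtain ⟨N, hN⟩ := h
  have h1 : InSat ι g e (g ^ N * a) := span_Hset_le_SatI ι he hg hN
  have hmem : g ^ N * a ∈ 𝒜 (N • e + k • e) :=
    SetLike.mul_mem_graded (SetLike.pow_mem_graded N hg) ha
  have h2 := h1 (N • e + k • e) 0 (N + k) 1 SetLike.GradedOne.one_mem
    (by rw [add_zero, add_smul])
  rw [DirectSum.decompose_of_mem_same 𝒜 hmem, mul_one] at h2
  have hmem' : g ^ N * a ∈ 𝒜 ((N + k) • e) := by rw [add_smul]; exact hmem
  exact Van.congr ι (goodD hg hmem') (goodD hg ha) (by rw [pow_add]; ring) h2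

/-! ### changing the chart -/

theorem span_Hset_mul {g g' : A} {e e' : ℕ} (hg : g ∈ 𝒜 e) (hg' : g' ∈ 𝒜 e') {x : A}
    (hx : x ∈ Ideal.span (Hset ι g e)) :
    ∃ K : ℕ, g' ^ K * x ∈ Ideal.span (Hset ι (g * g') (e + e')) := by
  induction hx using Submodule.span_induction with
  | mem j hj =>
    obtain ⟨k, hjk, hv⟩ := hj
    have hgg' : g * g' ∈ 𝒜 (e + e') := SetLike.mul_mem_graded hg hg'
    have hmem : g' ^ k * j ∈ 𝒜 (k • (e + e')) := by
      have := SetLike.mul_mem_graded (SetLike.pow_mem_graded k hg') hjk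
      rwa [← smul_add, add_comm] at this
    refine ⟨k, Ideal.subset_span ⟨k, hmem, ?_⟩⟩
    have hle : Proj.basicOpen 𝒜 (g * g') ≤ Proj.basicOpen 𝒜 g := by
      rw [Proj.basicOpen_mul]; exact inf_le_left
    have h1 := Van.res ι hle (goodD hg hjk) hv
    have hG1 : Good (Proj.basicOpen 𝒜 (g * g')) j (g ^ k) := (goodD hg hjk).mono hle
    have hG2 : Good (Proj.basicOpen 𝒜 (g * g')) (g' ^ k) (g' ^ k) :=
      good_of_mem (SetLike.pow_mem_graded k hg') (SetLike.pow_mem_graded k hg')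
        (fun x => notMem_pow (notMem_of_mul_right x) k)
    have h2 := Van.mul ι hG1 hG2 h1
    exact Van.congr ι (hG1.mul hG2) (goodD hgg' hmem) (by rw [mul_pow]; ring) h2
  | zero => exact ⟨0, by rw [mul_zero]; exact zero_mem _⟩
  | add y z _ _ hy hz =>
    obtain ⟨K1, h1⟩ := hy
    obtain ⟨K2, h2⟩ := hz
    refine ⟨K1 + K2, ?_⟩
    have e1 : g' ^ (K1 + K2) * (y + z) = g' ^ K2 * (g' ^ K1 * y) + g' ^ K1 * (g' ^ K2 * z) := by
      rw [pow_add]; ring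
    rw [e1]
    exact add_mem (Ideal.mul_mem_left _ _ h1) (Ideal.mul_mem_left _ _ h2)
  | smul c y _ hy =>
    obtain ⟨K1, h1⟩ := hy
    refine ⟨K1, ?_⟩
    have e1 : g' ^ K1 * (c • y) = c * (g' ^ K1 * y) := by rw [smul_eq_mul]; ring
    rw [e1]
    exact Ideal.mul_mem_left _ _ h1

theorem mem_Ig_mul {g g' : A} {e e' : ℕ} (hg : g ∈ 𝒜 e) (hg' : g' ∈ 𝒜 e') {a : A}
    (ha : a ∈ Ig ι g e) : a ∈ Ig ι (g * g') (e + e') := by
  obtain ⟨N, hN⟩ := ha
  obtain ⟨K, hK⟩ := span_Hset_mul ι hg hg' hN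
  refine ⟨N + K, ?_⟩
  have e1 : (g * g') ^ (N + K) * a = (g ^ K * g' ^ N) * (g' ^ K * (g ^ N * a)) := by
    rw [mul_pow, pow_add, pow_add]; ring
  rw [e1]
  exact Ideal.mul_mem_left _ _ hK

theorem span_Hset_of_mul [IsClosedImmersion ι] {g h : A} {e d : ℕ} (he : 0 < e) (hg : g ∈ 𝒜 e)
    (hh : h ∈ 𝒜 d) {x : A} (hx : x ∈ Ideal.span (Hset ι (g * h) (e + d))) :
    ∃ u : ℕ, h ^ u * x ∈ Ideal.span (Hset ι g e) := by
  induction hx using Submodule.span_induction with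
  | mem j hj =>
    obtain ⟨k, hjk, hv⟩ := hj
    have hgh : g * h ∈ 𝒜 (e + d) := SetLike.mul_mem_graded hg hh
    -- the exponent making degrees match
    obtain ⟨e', rfl⟩ : ∃ e', e = e' + 1 := ⟨e - 1, (Nat.sub_add_cancel he).symm⟩
    set u₀ : ℕ := k * e' with hu₀
    have hu : u₀ + k = k * (e' + 1) := by rw [hu₀]; ring
    set k' : ℕ := k + k * d with hk'
    have ha₀ : h ^ u₀ * j ∈ 𝒜 (k' • (e' + 1)) := by
      have h1 := SetLike.mul_mem_graded (SetLike.pow_mem_graded u₀ hh) hjk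
      have e1 : u₀ • d + k • (e' + 1 + d) = k' • (e' + 1) := by
        simp only [smul_eq_mul, hu₀, hk']; ring
      rwa [e1] at h1
    have hle : Proj.basicOpen 𝒜 (g * h) ≤ Proj.basicOpen 𝒜 g := by
      rw [Proj.basicOpen_mul]; exact inf_le_left
    have hW : Proj.basicOpen 𝒜 g ⊓ Proj.basicOpen 𝒜 (h ^ (e' + 1)) = Proj.basicOpen 𝒜 (g * h) := by
      rw [Proj.basicOpen_pow 𝒜 h (e' + 1) (Nat.succ_pos e'), ← Proj.basicOpen_mul]
    -- the fraction `h ^ (k e) / g ^ (k d)` on `D₊(g h)`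
    have hG3 : Good (Proj.basicOpen 𝒜 (g * h)) (h ^ (k * (e' + 1))) (g ^ (k * d)) := by
      refine good_of_mem (j := (k * (e' + 1)) • d) (SetLike.pow_mem_graded _ hh) ?_
        (fun x => notMem_pow (notMem_of_mul_left x) _)
      have h1 := SetLike.pow_mem_graded (k * d) hg
      have e1 : (k * d) • (e' + 1) = (k * (e' + 1)) • d := by
        simp only [smul_eq_mul]; ring
      rwa [e1] at h1
    have hG1 : Good (Proj.basicOpen 𝒜 (g * h)) j ((g * h) ^ k) := goodD hgh hjk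
    have h2 := Van.mul ι hG1 hG3 hv
    have hG4 : Good (Proj.basicOpen 𝒜 (g * h)) (h ^ u₀ * j) (g ^ k') := (goodD hg ha₀).mono hle
    have h3 : Van ι (Proj.basicOpen 𝒜 (g * h)) (h ^ u₀ * j) (g ^ k') := by
      refine Van.congr ι (hG1.mul hG3) hG4 ?_ h2
      have e1 : h ^ (k * (e' + 1)) = h ^ u₀ * h ^ k := by rw [← pow_add, hu]
      rw [e1, mul_pow, hk', pow_add]
      ring
    -- the fraction `h ^ e / g ^ d` on `D₊(g)`
    have hG5 : Good (Proj.basicOpen 𝒜 g) (h ^ (e' + 1)) (g ^ d) := by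
      refine good_of_mem (j := (e' + 1) • d) (SetLike.pow_mem_graded _ hh) ?_
        (fun x => notMem_pow x.2 _)
      have h1 := SetLike.pow_mem_graded d hg
      have e1 : d • (e' + 1) = (e' + 1) • d := by
        simp only [smul_eq_mul]; ring
      rwa [e1] at h1
    have h4 : Van ι (Proj.basicOpen 𝒜 g ⊓ Proj.basicOpen 𝒜 (h ^ (e' + 1))) (h ^ u₀ * j) (g ^ k') := by
      rw [hW]; exact h3
    obtain ⟨N, hN⟩ := Van.ext_pow ι he hg (goodD hg ha₀) hG5 h4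
    refine ⟨(e' + 1) * N + u₀, Ideal.subset_span ⟨d * N + k', ?_, ?_⟩⟩
    · have h1 := SetLike.mul_mem_graded (SetLike.pow_mem_graded ((e' + 1) * N + u₀) hh) hjk
      have e1 : ((e' + 1) * N + u₀) • d + k • (e' + 1 + d) = (d * N + k') • (e' + 1) := by
        simp only [smul_eq_mul, hu₀, hk']; ring
      rwa [e1] at h1
    · have e1 : h ^ ((e' + 1) * N + u₀) * j = (h ^ (e' + 1)) ^ N * (h ^ u₀ * j) := by
        rw [pow_add, pow_mul]; ring
      have e2 : g ^ (d * N + k') = (g ^ d) ^ N * g ^ k' := by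
        rw [pow_add, pow_mul]
      rw [e1, e2]
      exact hN
  | zero => exact ⟨0, by rw [mul_zero]; exact zero_mem _⟩
  | add y z _ _ hy hz =>
    obtain ⟨K1, h1⟩ := hy
    obtain ⟨K2, h2⟩ := hz
    refine ⟨K1 + K2, ?_⟩
    have e1 : h ^ (K1 + K2) * (y + z) = h ^ K2 * (h ^ K1 * y) + h ^ K1 * (h ^ K2 * z) := by
      rw [pow_add]; ring
    rw [e1]
    exact add_mem (Ideal.mul_mem_left _ _ h1) (Ideal.mul_mem_left _ _ h2)
  | smul c y _ hy =>
    obtain ⟨K1, h1⟩ := hy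
    refine ⟨K1, ?_⟩
    have e1 : h ^ K1 * (c • y) = c * (h ^ K1 * y) := by rw [smul_eq_mul]; ring
    rw [e1]
    exact Ideal.mul_mem_left _ _ h1

/-- membership in `Ig` may be checked on a cover of the chart -/
theorem mem_Ig_of_cover [IsClosedImmersion ι] {g : A} {e : ℕ} (he : 0 < e) (hg : g ∈ 𝒜 e)
    {T : Type*} (h : T → A) (d : T → ℕ) (hh : ∀ t, h t ∈ 𝒜 (d t))
    (hcov : ∀ x : Proj 𝒜, x ∈ Proj.basicOpen 𝒜 g → ∃ t, x ∈ Proj.basicOpen 𝒜 (h t))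
    {a : A} (ha : ∀ t, a ∈ Ig ι (g * h t) (e + d t)) : a ∈ Ig ι g e := by
  classical
  have key : ∀ t, ∃ M v : ℕ, g ^ M * (h t ^ v * a) ∈ Ideal.span (Hset ι g e) := by
    intro t
    obtain ⟨N, hN⟩ := ha t
    obtain ⟨u, hu⟩ := span_Hset_of_mul ι he hg (hh t) hN
    refine ⟨N, u + N, ?_⟩
    have e1 : g ^ N * (h t ^ (u + N) * a) = h t ^ u * ((g * h t) ^ N * a) := by
      rw [mul_pow, pow_add]; ring
    rw [e1]
    exact hu
  choose M v hMv using key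
  have hgirr : g ∈ (HomogeneousIdeal.irrelevant 𝒜).toIdeal :=
    HomogeneousIdeal.mem_irrelevant_of_mem _ he hg
  obtain ⟨W, hW⟩ := GrModSec.exists_pow_mem_span_of_cover 𝒜 hgirr
    (Set.range fun t => h t ^ v t)
    (by
      rintro _ ⟨t, rfl⟩
      exact ⟨_, SetLike.pow_mem_graded (v t) (hh t)⟩)
    (fun x hx => by
      obtain ⟨t, ht⟩ := hcov x hx
      exact ⟨_, ⟨t, rfl⟩, fun hmem => ht (x.isPrime.mem_of_pow_mem _ hmem)⟩)
  have hall : ∀ y ∈ Ideal.span (Set.range fun t => h t ^ v t),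
      ∃ M' : ℕ, g ^ M' * (y * a) ∈ Ideal.span (Hset ι g e) := by
    intro y hy
    induction hy using Submodule.span_induction with
    | mem y hy =>
      obtain ⟨t, rfl⟩ := hy
      exact ⟨M t, hMv t⟩
    | zero => exact ⟨0, by rw [zero_mul, mul_zero]; exact zero_mem _⟩
    | add y z _ _ hy hz =>
      obtain ⟨M1, h1⟩ := hy
      obtain ⟨M2, h2⟩ := hz
      refine ⟨M1 + M2, ?_⟩
      have e1 : g ^ (M1 + M2) * ((y + z) * a) =
          g ^ M2 * (g ^ M1 * (y * a)) + g ^ M1 * (g ^ M2 * (z * a)) := by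
        rw [pow_add]; ring
      rw [e1]
      exact add_mem (Ideal.mul_mem_left _ _ h1) (Ideal.mul_mem_left _ _ h2)
    | smul c y _ hy =>
      obtain ⟨M1, h1⟩ := hy
      refine ⟨M1, ?_⟩
      have e1 : g ^ M1 * (c • y * a) = c * (g ^ M1 * (y * a)) := by rw [smul_eq_mul]; ring
      rw [e1]
      exact Ideal.mul_mem_left _ _ h1
  obtain ⟨M', hM'⟩ := hall _ hW
  exact ⟨M' + W, by rw [pow_add, mul_assoc]; exact hM'⟩

/-! ### the quotient -/

theorem exists_pos_notMem' (y : Proj 𝒜) :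
    ∃ d, 0 < d ∧ ∃ b ∈ 𝒜 d, b ∉ y.asHomogeneousIdeal := by
  by_contra hcon
  push Not at hcon
  apply y.not_irrelevant_le
  rw [HomogeneousIdeal.irrelevant_le]
  intro i hi b hb
  exact hcon i hi b hb

variable {κ : Type u} [Finite κ] {f : κ → A} {df : κ → ℕ}
  (hf : ∀ i, 0 < df i ∧ f i ∈ 𝒜 (df i))
  (hcov : ∀ x : Proj 𝒜, ∃ i, x ∈ Proj.basicOpen 𝒜 (f i))

include hf hcov in
theorem mem_K'_of_forall [IsClosedImmersion ι] {a : A} (ha : ∀ i, a ∈ Ig ι (f i) (df i)) :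
    a ∈ K' ι := by
  rw [mem_K']
  intro g' e' he' hg'
  refine mem_Ig_of_cover ι he' hg' f df (fun i => (hf i).2) (fun x _ => hcov x) (fun i => ?_)
  have h2 := mem_Ig_mul ι (hf i).2 hg' (ha i)
  rwa [mul_comm, add_comm] at h2

include hf hcov in
theorem exists_pow_mem_K'_iff [IsClosedImmersion ι] {g : A} {e : ℕ} (he : 0 < e) (hg : g ∈ 𝒜 e)
    {k : ℕ} {a : A} (ha : a ∈ 𝒜 (k • e)) :
    (∃ N : ℕ, g ^ N * a ∈ K' ι) ↔ Van ι (Proj.basicOpen 𝒜 g) a (g ^ k) := by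
  constructor
  · rintro ⟨N, hN⟩
    have h1 : g ^ N * a ∈ Ig ι g e := (mem_K' ι).mp hN g e he hg
    have hmem : g ^ N * a ∈ 𝒜 ((N + k) • e) := by
      rw [add_smul]
      exact SetLike.mul_mem_graded (SetLike.pow_mem_graded N hg) ha
    have h2 := van_of_mem_Ig ι he hg hmem h1
    exact Van.congr ι (goodD hg hmem) (goodD hg ha) (by rw [pow_add]; ring) h2
  · intro hv
    have h0 : a ∈ Ig ι g e := ⟨0, by rw [pow_zero, one_mul]; exact Ideal.subset_span ⟨k, ha, hv⟩⟩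
    have key : ∀ i, ∃ M : ℕ, g ^ M * a ∈ Ig ι (f i) (df i) := by
      intro i
      obtain ⟨N, hN⟩ := mem_Ig_mul ι hg (hf i).2 h0
      have hN' : (g * f i) ^ N * a ∈ Ideal.span (Hset ι (f i * g) (df i + e)) := by
        rw [mul_comm (f i) g, add_comm (df i) e]; exact hN
      obtain ⟨u, hu⟩ := span_Hset_of_mul ι (hf i).1 (hf i).2 hg hN'
      refine ⟨u + N, N, ?_⟩
      have e1 : f i ^ N * (g ^ (u + N) * a) = g ^ u * ((g * f i) ^ N * a) := by
        rw [mul_pow, pow_add]; ring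
      rw [e1]
      exact hu
    choose M hM using key
    obtain ⟨N, hN⟩ := Finite.exists_le M
    refine ⟨N, mem_K'_of_forall ι hf hcov (fun i => ?_)⟩
    have e1 : g ^ N * a = g ^ (N - M i) * (g ^ M i * a) := by
      rw [← mul_assoc, ← pow_add, Nat.sub_add_cancel (hN i)]
    rw [e1]
    exact Ideal.mul_mem_left _ _ (hM i)

noncomputable instance instGA' : GradedAlgebra (GrQuot.piece 𝒜 (K' ι)) :=
  GrQuot.gradedAlgebra _ _ (K'_homogeneous ι)

theorem isClosedImmersion_mk' :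
    IsClosedImmersion (Proj.map (GrQuot.mkHom 𝒜 (K' ι))
      (GrQuot.irrelevant_le _ _ (K'_homogeneous ι))) :=
  isClosedImmersion_map' _ _ (GrQuot.mkHom_surjective _ _)

include hf hcov in
theorem ker_map_eq' [IsClosedImmersion ι] :
    (Proj.map (GrQuot.mkHom 𝒜 (K' ι)) (GrQuot.irrelevant_le _ _ (K'_homogeneous ι))).ker =
      ι.ker := by
  haveI := isClosedImmersion_mk' ι
  let Ua : κ → (Proj 𝒜).affineOpens := fun i =>
    ⟨Proj.basicOpen 𝒜 (f i), Proj.isAffineOpen_basicOpen 𝒜 (f i) (hf i).2 (hf i).1⟩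
  have hU : ⨆ i, ((Ua i : (Proj 𝒜).affineOpens) : (Proj 𝒜).Opens) = ⊤ := by
    rw [eq_top_iff]
    intro x _
    obtain ⟨i, hi⟩ := hcov x
    exact Opens.mem_iSup.mpr ⟨i, hi⟩
  apply Scheme.IdealSheafData.ext_of_iSup_eq_top Ua hU
  intro i
  rw [Scheme.Hom.ker_apply, Scheme.Hom.ker_apply]
  ext c
  rw [RingHom.mem_ker, RingHom.mem_ker]
  obtain ⟨k, a, ha, rfl⟩ := exists_fn_eq' (hf i).1 (hf i).2
    (show Γ(Proj 𝒜, Proj.basicOpen 𝒜 (f i)) from c)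
  have h1 : (Proj.map (GrQuot.mkHom 𝒜 (K' ι)) (GrQuot.irrelevant_le _ _ (K'_homogeneous ι))).app
      (Proj.basicOpen 𝒜 (f i)) (fn (Proj.basicOpen 𝒜 (f i)) a (f i ^ k)) =
      fn (Proj.basicOpen (GrQuot.piece 𝒜 (K' ι)) (GrQuot.mkHom 𝒜 (K' ι) (f i)))
        (GrQuot.mkHom 𝒜 (K' ι) a) (GrQuot.mkHom 𝒜 (K' ι) (f i) ^ k) := by
    rw [app_fn _ _ (goodD (hf i).2 ha), map_pow]
    rfl
  refine Iff.trans (Eq.congr_left h1) ?_
  refine Iff.trans (fn_eq_zero_iff' (hf i).1 ((GrQuot.mkHom 𝒜 (K' ι)).map_mem (hf i).2)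
    ((GrQuot.mkHom 𝒜 (K' ι)).map_mem ha)) ?_
  refine Iff.trans ?_ (exists_pow_mem_K'_iff ι hf hcov (hf i).1 (hf i).2 ha)
  refine exists_congr (fun N => ?_)
  change Ideal.Quotient.mk (K' ι) (f i) ^ N * Ideal.Quotient.mk (K' ι) a = 0 ↔ _
  rw [← map_pow, ← map_mul, Ideal.Quotient.eq_zero_iff_mem]

include hf hcov in
/-- a closed subscheme of `Proj 𝒜` is the `Proj` of the quotient by its homogeneous ideal -/
theorem exists_eK' [IsClosedImmersion ι] :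
    ∃ e : Z ≅ Proj (GrQuot.piece 𝒜 (K' ι)),
      e.hom ≫ Proj.map (GrQuot.mkHom 𝒜 (K' ι))
        (GrQuot.irrelevant_le _ _ (K'_homogeneous ι)) = ι := by
  haveI := isClosedImmersion_mk' ι
  have hk := ker_map_eq' ι hf hcov
  haveI := IsClosedImmersion.isIso_lift (Proj.map (GrQuot.mkHom 𝒜 (K' ι))
    (GrQuot.irrelevant_le _ _ (K'_homogeneous ι))) ι hk
  exact ⟨asIso (IsClosedImmersion.lift _ ι hk.le), IsClosedImmersion.lift_fac _ _ _⟩

end One

/-! ### functoriality -/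

section Two

variable {R A A' : Type u} [CommRing R] [CommRing A] [Algebra R A] {𝒜 : ℕ → Submodule R A}
  [GradedAlgebra 𝒜] [CommRing A'] [Algebra R A'] {𝒜' : ℕ → Submodule R A'} [GradedAlgebra 𝒜']
  (θ : 𝒜 →+*ᵍ 𝒜')
  (hθ : HomogeneousIdeal.irrelevant 𝒜' ≤ (HomogeneousIdeal.irrelevant 𝒜).map θ)
  {Z Z' : Scheme.{u}} (ι : Z ⟶ Proj 𝒜) (ι' : Z' ⟶ Proj 𝒜') (h : Z' ⟶ Z)
  (hc : h ≫ ι = ι' ≫ Proj.map θ hθ)

include hc in
theorem van_map {U : (Proj 𝒜).Opens} {a b : A} (hG : Good U a b) (hv : Van ι U a b) :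
    Van ι' (Proj.map θ hθ ⁻¹ᵁ U) (θ a) (θ b) := by
  unfold Van at hv ⊢
  rw [← app_fn θ hθ hG]
  exact app_map_eq_zero θ hθ ι ι' h hc U _ hv

include hc in
theorem map_mem_Hset {g : A} {e : ℕ} (hg : g ∈ 𝒜 e) {j : A} (hj : j ∈ Hset ι g e) :
    θ j ∈ Hset ι' (θ g) e := by
  obtain ⟨k, hjk, hv⟩ := hj
  refine ⟨k, θ.map_mem hjk, ?_⟩
  have h1 := van_map θ hθ ι ι' h hc (goodD hg hjk) hv
  rw [map_pow] at h1
  exact h1

include hc in
theorem map_mem_Ig {g : A} {e : ℕ} (hg : g ∈ 𝒜 e) {a : A} (ha : a ∈ Ig ι g e) :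
    θ a ∈ Ig ι' (θ g) e := by
  obtain ⟨N, hN⟩ := ha
  refine ⟨N, ?_⟩
  have h1 : Ideal.span (Hset ι g e) ≤
      Ideal.comap θ.toRingHom (Ideal.span (Hset ι' (θ g) e)) := by
    rw [Ideal.span_le]
    intro j hj
    exact Ideal.subset_span (map_mem_Hset θ hθ ι ι' h hc hg hj)
  have h2 : θ.toRingHom (g ^ N * a) ∈ Ideal.span (Hset ι' (θ g) e) := h1 hN
  have e1 : θ.toRingHom (g ^ N * a) = θ g ^ N * θ a := by
    rw [map_mul, map_pow]
    rfl
  rwa [e1] at h2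

include hc in
theorem map_mem_K' [IsClosedImmersion ι'] {a : A} (ha : a ∈ K' ι) : θ a ∈ K' ι' := by
  rw [mem_K'] at ha ⊢
  intro g' e' he' hg'
  refine mem_Ig_of_cover ι' he' hg' (T := HE 𝒜) (fun p => θ p.1.1) (fun p => p.1.2)
    (fun p => θ.map_mem p.2.2) ?_ (fun p => ?_)
  · intro y _
    obtain ⟨d, hd, b, hb, hby⟩ := exists_pos_notMem' ((Proj.map θ hθ) y)
    exact ⟨⟨(b, d), hd, hb⟩, hby⟩
  · have h1 := map_mem_Ig θ hθ ι ι' h hc p.2.2 (ha p.1.1 p.1.2 p.2.1 p.2.2)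
    have h2 := mem_Ig_mul ι' (θ.map_mem p.2.2) hg' h1
    rwa [mul_comm, add_comm] at h2

variable (s : A) (hs : s ∈ 𝒜 0) [IsOpenImmersion h]
  (hrange : h.opensRange = ι ⁻¹ᵁ Proj.basicOpen 𝒜 s)
  (hsurjθ : ∀ z : A', ∃ (n : ℕ) (a : A), θ a = θ s ^ n * z)
  (hinjθ : ∀ a : A, θ a = 0 → ∃ n : ℕ, s ^ n * a = 0)

include hs hrange in
theorem exists_pow_mul_eq_zero' [IsClosedImmersion ι] {g : A} {e : ℕ} (he : 0 < e)
    (hg : g ∈ 𝒜 e) (x : Γ(Z, ι ⁻¹ᵁ Proj.basicOpen 𝒜 g))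
    (hx : h.app (ι ⁻¹ᵁ Proj.basicOpen 𝒜 g) x = 0) :
    ∃ N : ℕ, (ι.app (Proj.basicOpen 𝒜 g) (fn (Proj.basicOpen 𝒜 g) s 1)) ^ N * x = 0 := by
  have haff : IsAffineOpen (ι ⁻¹ᵁ Proj.basicOpen 𝒜 g) :=
    (Proj.isAffineOpen_basicOpen 𝒜 g hg he).preimage ι
  refine exists_pow_mul_eq_zero_of_res_basicOpen_eq_zero_of_isCompact Z haff.isCompact x
    (ι.app (Proj.basicOpen 𝒜 g) (fn (Proj.basicOpen 𝒜 g) s 1)) ?_
  have himg : h ''ᵁ (h ⁻¹ᵁ (ι ⁻¹ᵁ Proj.basicOpen 𝒜 g)) =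
      Z.basicOpen (ι.app (Proj.basicOpen 𝒜 g) (fn (Proj.basicOpen 𝒜 g) s 1)) := by
    rw [Scheme.Hom.image_preimage_eq_opensRange_inf, hrange, ← Scheme.preimage_basicOpen,
      basicOpen_fn (good_zero hs)]
    ext z
    exact ⟨fun hz => ⟨hz.2, hz.1⟩, fun hz => ⟨hz.2, hz.1⟩⟩
  have h1 := congrArg (fun φ => φ.hom x) (Scheme.Hom.app_appIso_inv h (ι ⁻¹ᵁ Proj.basicOpen 𝒜 g))
  have h2 : (h.appIso (h ⁻¹ᵁ (ι ⁻¹ᵁ Proj.basicOpen 𝒜 g))).inv.hom
      (h.app (ι ⁻¹ᵁ Proj.basicOpen 𝒜 g) x) = 0 := by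
    rw [hx, map_zero]
  have h3 := h1.symm.trans h2
  exact rres_eq_zero_of_eq himg _ (Z.basicOpen_le _) x h3

include hc hs hrange hsurjθ in
theorem exists_lift_span [IsClosedImmersion ι] {g : A} {e : ℕ} (he : 0 < e) (hg : g ∈ 𝒜 e)
    {x' : A'} (hx' : x' ∈ Ideal.span (Hset ι' (θ g) e)) :
    ∃ (t : ℕ) (x : A), x ∈ Ideal.span (Hset ι g e) ∧ θ x = θ s ^ t * x' := by
  induction hx' using Submodule.span_induction with
  | mem j' hj' =>
    obtain ⟨k, hj'k, hv⟩ := hj'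
    obtain ⟨n, j₀, hj₀⟩ := hsurjθ j'
    have hj₁mem : (DirectSum.decompose 𝒜 j₀ (k • e) : A) ∈ 𝒜 (k • e) := SetLike.coe_mem _
    have hθs : θ s ^ n ∈ 𝒜' 0 := by
      have := SetLike.pow_mem_graded n (θ.map_mem hs)
      simpa using this
    have hmem' : θ s ^ n * j' ∈ 𝒜' (k • e) := by
      have := SetLike.mul_mem_graded hθs hj'k
      rwa [zero_add] at this
    have hθj₁ : θ (DirectSum.decompose 𝒜 j₀ (k • e) : A) = θ s ^ n * j' := by
      rw [GradedRingHom.map_directSumDecompose 𝒜 𝒜' θ, hj₀,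
        DirectSum.decompose_of_mem_same 𝒜' hmem']
    set j₁ : A := (DirectSum.decompose 𝒜 j₀ (k • e) : A) with hj₁
    have hgθ : θ g ∈ 𝒜' e := θ.map_mem hg
    -- vanishing of `θ j₁ / θ g ^ k`
    have h1 : Van ι' (Proj.basicOpen 𝒜' (θ g)) (θ j₁) (θ g ^ k) := by
      have h2 := Van.mul ι' (goodD hgθ hj'k) (good_zero (U := Proj.basicOpen 𝒜' (θ g)) hθs) hv
      refine Van.congr ι' ((goodD hgθ hj'k).mul (good_zero hθs)) (goodD hgθ (θ.map_mem hj₁mem))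
        ?_ h2
      rw [hθj₁]; ring
    -- back to `Z`
    have h2 : h.app (ι ⁻¹ᵁ Proj.basicOpen 𝒜 g)
        (ι.app (Proj.basicOpen 𝒜 g) (fn (Proj.basicOpen 𝒜 g) j₁ (g ^ k))) = 0 := by
      refine app_eq_zero_of_map θ hθ ι ι' h hc _ _ ?_
      rw [app_fn θ hθ (goodD hg hj₁mem), map_pow]
      exact h1
    obtain ⟨N, hN⟩ := exists_pow_mul_eq_zero' ι h s hs hrange he hg _ h2
    have hsN : s ^ N ∈ 𝒜 0 := by
      have := SetLike.pow_mem_graded N hs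
      simpa using this
    have hmem : s ^ N * j₁ ∈ 𝒜 (k • e) := by
      have := SetLike.mul_mem_graded hsN hj₁mem
      rwa [zero_add] at this
    refine ⟨N + n, s ^ N * j₁, Ideal.subset_span ⟨k, hmem, ?_⟩, ?_⟩
    · unfold Van
      have e1 : fn (Proj.basicOpen 𝒜 g) (s ^ N * j₁) (g ^ k) =
          fn (Proj.basicOpen 𝒜 g) s 1 ^ N * fn (Proj.basicOpen 𝒜 g) j₁ (g ^ k) := by
        rw [fn_pow (good_zero hs), fn_mul ((good_zero hs).pow N) (goodD hg hj₁mem), one_pow,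
          one_mul]
      rw [e1, map_mul, map_pow]
      exact hN
    · rw [map_mul, map_pow, hθj₁, pow_add]; ring
  | zero => exact ⟨0, 0, zero_mem _, by rw [map_zero, mul_zero]⟩
  | add y z _ _ hy hz =>
    obtain ⟨t₁, x₁, hx1, hx2⟩ := hy
    obtain ⟨t₂, x₂, hy1, hy2⟩ := hz
    refine ⟨t₁ + t₂, s ^ t₂ * x₁ + s ^ t₁ * x₂,
      add_mem (Ideal.mul_mem_left _ _ hx1) (Ideal.mul_mem_left _ _ hy1), ?_⟩
    rw [map_add, map_mul, map_mul, map_pow, map_pow, hx2, hy2, pow_add]; ring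
  | smul c' y _ hy =>
    obtain ⟨t, x, hx1, hx2⟩ := hy
    obtain ⟨m, c, hc'⟩ := hsurjθ c'
    refine ⟨m + t, c * x, Ideal.mul_mem_left _ _ hx1, ?_⟩
    rw [map_mul, hc', hx2, smul_eq_mul, pow_add]; ring

include hc hs hrange hsurjθ hinjθ in
theorem exists_pow_mul_mem_Ig [IsClosedImmersion ι] {g : A} {e : ℕ} (he : 0 < e)
    (hg : g ∈ 𝒜 e) {a : A} (ha : θ a ∈ Ig ι' (θ g) e) : ∃ N : ℕ, s ^ N * a ∈ Ig ι g e := by
  obtain ⟨M, hM⟩ := ha
  obtain ⟨t, x, hx1, hx2⟩ := exists_lift_span θ hθ ι ι' h hc s hs hrange hsurjθ he hg hM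
  have h0 : θ (s ^ t * (g ^ M * a) - x) = 0 := by
    rw [map_sub, map_mul, map_mul, map_pow, map_pow, hx2, sub_self]
  obtain ⟨n, hn⟩ := hinjθ _ h0
  refine ⟨n + t, M, ?_⟩
  have e1 : g ^ M * (s ^ (n + t) * a) = s ^ n * (s ^ t * (g ^ M * a) - x) + s ^ n * x := by
    rw [pow_add]; ring
  rw [e1, hn, zero_add]
  exact Ideal.mul_mem_left _ _ hx1

include hc hs hrange hsurjθ hinjθ in
/-- elements mapping into the ideal over the localization are in the ideal up to a power -/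
theorem exists_pow_mul_mem' [IsClosedImmersion ι] {κ : Type u} [Finite κ] {f : κ → A}
    {df : κ → ℕ} (hf : ∀ i, 0 < df i ∧ f i ∈ 𝒜 (df i))
    (hcov : ∀ x : Proj 𝒜, ∃ i, x ∈ Proj.basicOpen 𝒜 (f i)) (a : A)
    (hJ : θ a ∈ K' ι') : ∃ N : ℕ, s ^ N * a ∈ K' ι := by
  have key : ∀ i, ∃ N : ℕ, s ^ N * a ∈ Ig ι (f i) (df i) := fun i =>
    exists_pow_mul_mem_Ig θ hθ ι ι' h hc s hs hrange hsurjθ hinjθ (hf i).1 (hf i).2
      ((mem_K' ι').mp hJ (θ (f i)) (df i) (hf i).1 (θ.map_mem (hf i).2))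
  choose N₀ hN₀ using key
  obtain ⟨N, hN⟩ := Finite.exists_le N₀
  refine ⟨N, mem_K'_of_forall ι hf hcov (fun i => ?_)⟩
  have e1 : s ^ N * a = s ^ (N - N₀ i) * (s ^ N₀ i * a) := by
    rw [← mul_assoc, ← pow_add, Nat.sub_add_cancel (hN i)]
  rw [e1]
  exact Ideal.mul_mem_left _ _ (hN₀ i)

/-- the induced graded homomorphism of the quotients -/
noncomputable def quotHom' (hle : ∀ a, a ∈ K' ι → θ a ∈ K' ι') :
    GrQuot.piece 𝒜 (K' ι) →+*ᵍ GrQuot.piece 𝒜' (K' ι') where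
  toRingHom := Ideal.quotientMap (K' ι') θ.toRingHom (fun a ha => hle a ha)
  map_mem := by
    intro d x hx
    obtain ⟨a, ha, rfl⟩ := GrQuot.exists_of_mem_piece _ _ hx
    exact GrQuot.mk_mem_piece _ _ (θ.map_mem ha)

end Two

end Groth.Agent.Lib.Helper3.CPg
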