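import Groth.Agent.Lib.Helper3.ProjQMapOn

/-!
# Existence of `Proj(u)` on `G(u)` for a graded morphism over a morphism of bases
-/

set_option autoImplicit false
universe u
open CategoryTheory CategoryTheory.Limits AlgebraicGeometry TopologicalSpace Opposite
open scoped HomogeneousIdeal

namespace Groth.Agent.Lib.Helper3.ProjQGlue

open HomogeneousLocalization ProjQMap ProjQMapOn

/-- Glue morphisms defined on a jointly surjective family of open immersions, any two members of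
which have, around every common point, a common refinement in the family. -/
theorem exists_glue_of_refine {T Z : Scheme.{u}} {I : Type u} (X : I → Scheme.{u})
    (c : ∀ i, X i ⟶ T) [∀ i, IsOpenImmersion (c i)]
    (hc : ∀ t : T, ∃ i, t ∈ Set.range (c i)) (g : ∀ i, X i ⟶ Z)
    (H : ∀ i i' (z : X i) (z' : X i'), c i z = c i' z' →
      ∃ (k : I) (a : X k ⟶ X i) (a' : X k ⟶ X i'), a ≫ c i = c k ∧ a' ≫ c i' = c k ∧
        a ≫ g i = g k ∧ a' ≫ g i' = g k ∧ c i z ∈ Set.range (c k)) :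
    ∃ h : T ⟶ Z, ∀ i, c i ≫ h = g i := by
  let 𝒰 : T.OpenCover := Scheme.Cover.mkOfCovers I X c hc (fun i => inferInstance)
  have hcompat : ∀ i i' : I, pullback.fst (𝒰.f i) (𝒰.f i') ≫ g i =
      pullback.snd (𝒰.f i) (𝒰.f i') ≫ g i' := by
    intro i i'
    change pullback.fst (c i) (c i') ≫ g i = pullback.snd (c i) (c i') ≫ g i'
    refine hom_ext_of_covers _ _ (fun t => ?_)
    have hcond : pullback.fst (c i) (c i') ≫ c i = pullback.snd (c i) (c i') ≫ c i' :=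
      pullback.condition
    obtain ⟨k, a, a', h1, h2, h3, h4, ⟨w, hw⟩⟩ :=
      H i i' (pullback.fst (c i) (c i') t) (pullback.snd (c i) (c i') t) (by
        rw [← Scheme.Hom.comp_apply, ← Scheme.Hom.comp_apply, hcond])
    let m : X k ⟶ pullback (c i) (c i') := pullback.lift a a' (h1.trans h2.symm)
    have hm1 : m ≫ pullback.fst (c i) (c i') = a := pullback.lift_fst _ _ _
    have hm2 : m ≫ pullback.snd (c i) (c i') = a' := pullback.lift_snd _ _ _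
    haveI : IsOpenImmersion (m ≫ pullback.fst (c i) (c i') ≫ c i) := by
      rw [← Category.assoc, hm1, h1]; infer_instance
    haveI : IsOpenImmersion m := IsOpenImmersion.of_comp m (pullback.fst (c i) (c i') ≫ c i)
    refine ⟨X k, m, inferInstance, ⟨w, ?_⟩, ?_⟩
    · apply (pullback.fst (c i) (c i') ≫ c i).isOpenEmbedding.injective
      rw [← Scheme.Hom.comp_apply, ← Category.assoc, hm1, h1, hw, Scheme.Hom.comp_apply]
    · rw [← Category.assoc, hm1, ← Category.assoc, hm2, h3, h4]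
  exact ⟨𝒰.glueMorphisms g hcompat, fun i => 𝒰.ι_glueMorphisms g hcompat i⟩

section algebra

variable {A B C : Type u} [CommRing A] [CommRing B] [CommRing C] {𝒜 : ℕ → AddSubgroup A}
  {ℬ : ℕ → AddSubgroup B} {𝒞 : ℕ → AddSubgroup C} [GradedRing 𝒜] [GradedRing ℬ] [GradedRing 𝒞]

/-- `Away.map` with a target element only propositionally equal to the image. -/
noncomputable def mapTo (ψ : 𝒜 →+*ᵍ ℬ) (a : A) (b : B) (h : ψ a = b) : Away 𝒜 a →+* Away ℬ b :=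
  HomogeneousLocalization.map ψ (by
    rintro _ ⟨n, rfl⟩
    exact ⟨n, by rw [← h, map_pow]⟩)

theorem mapTo_rfl (ψ : 𝒜 →+*ᵍ ℬ) (a : A) : mapTo ψ a (ψ a) rfl = Away.map ψ a := rfl

theorem mapTo_comp (ψ : 𝒜 →+*ᵍ ℬ) (ρ : ℬ →+*ᵍ 𝒞) (χ : 𝒜 →+*ᵍ 𝒞) (hχ : ∀ x, χ x = ρ (ψ x))
    (a : A) (b : B) (c : C) (h1 : ψ a = b) (h2 : ρ b = c) :
    (mapTo ρ b c h2).comp (mapTo ψ a b h1) = mapTo χ a c (by rw [hχ, h1, h2]) := by
  have e : χ = ρ.comp ψ := DFunLike.ext _ _ hχ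
  subst e
  subst h1
  subst h2
  exact (HomogeneousLocalization.map_comp _ _).symm

theorem awayι_mapTo (ψ : 𝒜 →+*ᵍ ℬ) (hψ : ℬ₊ ≤ 𝒜₊.map ψ) {d : ℕ} (hd : 0 < d) (a : A)
    (ha : a ∈ 𝒜 d) (b : B) (h : ψ a = b) (hb : b ∈ ℬ d) :
    Proj.awayι ℬ b hb hd ≫ Proj.map ψ hψ =
      Spec.map (CommRingCat.ofHom (mapTo ψ a b h)) ≫ Proj.awayι 𝒜 a ha hd := by
  subst h
  exact Proj.awayι_comp_map ψ hψ hd a ha

theorem awayι_congr {d : ℕ} (hd : 0 < d) (b b' : B) (h : b = b') (hb : b ∈ ℬ d)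
    (hb' : b' ∈ ℬ d) :
    Spec.map (CommRingCat.ofHom (mapTo (GradedRingHom.id ℬ) b b' h)) ≫ Proj.awayι ℬ b hb hd =
      Proj.awayι ℬ b' hb' hd := by
  subst h
  have : mapTo (GradedRingHom.id ℬ) b b rfl = RingHom.id _ := Away.map_id ℬ b
  rw [this]
  have e : CommRingCat.ofHom (RingHom.id (Away ℬ b)) = 𝟙 (CommRingCat.of (Away ℬ b)) := rfl
  rw [e, Spec.map_id, Category.id_comp]

/-- compatibility of `Away.map` with the further localization `awayMap` -/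
theorem map_comp_awayMap (ψ : 𝒜 →+*ᵍ ℬ) {d e : ℕ} {g m x : A} (hg : g ∈ 𝒜 d) (hm : m ∈ 𝒜 e)
    (hx : x = g * m) :
    (awayMap ℬ (ψ.2 hm) (show ψ x = ψ g * ψ m by rw [hx, map_mul])).comp (Away.map ψ g) =
      (Away.map ψ x).comp (awayMap 𝒜 hm hx) := by
  ext q
  obtain ⟨n, a, ha, rfl⟩ := Away.mk_surjective 𝒜 hg q
  simp only [RingHom.comp_apply]
  rw [Away.map_mk, awayMap_mk, awayMap_mk, Away.map_mk]
  rw [Away.val_mk, Away.val_mk, map_mul, map_pow]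
  rfl

end algebra

section scheme

variable {Y Y' P P' : Scheme.{u}} {g : Y' ⟶ Y} {𝒮 : RelProj.QCGrAlg Y} {𝒮' : RelProj.QCGrAlg Y'}
  (u : RelProj.QGrHom g 𝒮 𝒮')
  (p : P ⟶ Y)
  (chart : ∀ (U : Y.Opens) (hU : IsAffineOpen U),
    ((p ⁻¹ᵁ U : P.Opens) : Scheme.{u}) ≅ Proj (𝒮.deg U hU))
  (p' : P' ⟶ Y')
  (chart' : ∀ (U : Y'.Opens) (hU : IsAffineOpen U),
    ((p' ⁻¹ᵁ U : P'.Opens) : Scheme.{u}) ≅ Proj (𝒮'.deg U hU))

/-- the index of a standard chart of `G(u)` -/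
structure Idx (u : RelProj.QGrHom g 𝒮 𝒮') where
  U : Y.Opens
  hU : IsAffineOpen U
  U' : Y'.Opens
  hU' : IsAffineOpen U'
  hle : U' ≤ g ⁻¹ᵁ U
  d : ℕ
  hd : 0 < d
  f : 𝒮.presheaf.obj (op U)
  hf : f ∈ 𝒮.deg U hU d

variable {u}

/-- the graded homomorphism of the chart -/
noncomputable abbrev Idx.ψ (i : Idx u) : 𝒮.deg i.U i.hU →+*ᵍ 𝒮'.deg i.U' i.hU' :=
  u.gradedAt i.U i.hU i.U' i.hU' i.hle

/-- the source of the chart -/
noncomputable abbrev Idx.X (i : Idx u) : Scheme.{u} :=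
  Spec (.of (Away (𝒮'.deg i.U' i.hU') (i.ψ i.f)))

/-- the chart -/
noncomputable abbrev Idx.cB (i : Idx u) : i.X ⟶ P' :=
  RelProj.awayEmb u p' chart' i.U i.hU i.U' i.hU' i.hle i.hd i.f i.hf

/-- the prescribed morphism on the chart -/
noncomputable abbrev Idx.gA (i : Idx u) : i.X ⟶ P :=
  Spec.map (CommRingCat.ofHom (Away.map i.ψ i.f)) ≫
    Proj.awayι (𝒮.deg i.U i.hU) i.f i.hf i.hd ≫ RelProj.emb p chart i.U i.hU

/-- the chart `k` refines the chart `i` -/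
def Ref (k i : Idx u) : Prop :=
  ∃ a : k.X ⟶ i.X, a ≫ i.cB p' chart' = k.cB p' chart' ∧ a ≫ i.gA p chart = k.gA p chart

theorem Ref.trans {k j i : Idx u} (h1 : Ref p chart p' chart' k j) (h2 : Ref p chart p' chart' j i) :
    Ref p chart p' chart' k i := by
  obtain ⟨a, ha1, ha2⟩ := h1
  obtain ⟨b, hb1, hb2⟩ := h2
  exact ⟨a ≫ b, by rw [Category.assoc, hb1, ha1], by rw [Category.assoc, hb2, ha2]⟩

/-- multiplying `f` by a homogeneous element refines the chart -/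
theorem ref_mul (i : Idx u) {e : ℕ} (m : 𝒮.presheaf.obj (op i.U)) (hm : m ∈ 𝒮.deg i.U i.hU e)
    (x : 𝒮.presheaf.obj (op i.U)) (hx : x = i.f * m) :
    Ref p chart p' chart'
      ⟨i.U, i.hU, i.U', i.hU', i.hle, i.d + e, Nat.add_pos_left i.hd e, x,
        hx ▸ SetLike.mul_mem_graded i.hf hm⟩ i := by
  have hx' : i.ψ x = i.ψ i.f * i.ψ m := by rw [hx, map_mul]
  refine ⟨Spec.map (CommRingCat.ofHom (awayMap (𝒮'.deg i.U' i.hU') (i.ψ.2 hm) hx')), ?_, ?_⟩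
  · change _ ≫ Proj.awayι _ _ _ _ ≫ _ = Proj.awayι _ _ _ _ ≫ _
    rw [← Category.assoc, Proj.SpecMap_awayMap_awayι]
  · change Spec.map (CommRingCat.ofHom (awayMap (𝒮'.deg i.U' i.hU') (i.ψ.2 hm) hx')) ≫
        Spec.map (CommRingCat.ofHom (Away.map i.ψ i.f)) ≫
        Proj.awayι (𝒮.deg i.U i.hU) i.f i.hf i.hd ≫ RelProj.emb p chart i.U i.hU =
      Spec.map (CommRingCat.ofHom (Away.map i.ψ x)) ≫
        Proj.awayι (𝒮.deg i.U i.hU) x (hx ▸ SetLike.mul_mem_graded i.hf hm)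
          (Nat.add_pos_left i.hd e) ≫ RelProj.emb p chart i.U i.hU
    rw [← Proj.SpecMap_awayMap_awayι (𝒮.deg i.U i.hU) i.hf i.hd hm hx, Category.assoc,
      ← Spec.map_comp_assoc, ← Spec.map_comp_assoc, ← CommRingCat.ofHom_comp,
      ← CommRingCat.ofHom_comp, map_comp_awayMap i.ψ i.hf hm hx]

theorem mem_range_cB_iff (i : Idx u) (x : P') :
    x ∈ Set.range (i.cB p' chart') ↔
      ∃ y : Proj (𝒮'.deg i.U' i.hU'), RelProj.emb p' chart' i.U' i.hU' y = x ∧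
        i.ψ i.f ∉ y.asHomogeneousIdeal := by
  constructor
  · rintro ⟨z, rfl⟩
    refine ⟨Proj.awayι (𝒮'.deg i.U' i.hU') (i.ψ i.f) (i.ψ.2 i.hf) i.hd z,
      (Scheme.Hom.comp_apply _ _ _).symm, ?_⟩
    have : Proj.awayι (𝒮'.deg i.U' i.hU') (i.ψ i.f) (i.ψ.2 i.hf) i.hd z ∈
        (Proj.awayι (𝒮'.deg i.U' i.hU') (i.ψ i.f) (i.ψ.2 i.hf) i.hd).opensRange := ⟨z, rfl⟩
    rw [Proj.opensRange_awayι] at this
    exact this
  · rintro ⟨y, rfl, hy⟩
    obtain ⟨z, rfl⟩ := exists_awayι_eq i.hd (i.ψ.2 i.hf) y hy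
    exact ⟨z, Scheme.Hom.comp_apply _ _ _⟩

/-- shrinking the source affine open to a basic open refines the chart -/
theorem ref_shrink_source (hP' : RelProj.IsRelProj 𝒮' p' chart') (i : Idx u) (V' : Y'.Opens)
    (hV' : IsAffineOpen V') (r : Γ(Y', i.U')) (e : V' = Y'.basicOpen r) (x : P')
    (hx : x ∈ Set.range (i.cB p' chart')) (hxV : p' x ∈ V') :
    Ref p chart p' chart'
      ⟨i.U, i.hU, V', hV', (e.le.trans (Y'.basicOpen_le r)).trans i.hle, i.d, i.hd, i.f, i.hf⟩ i ∧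
    x ∈ Set.range (Idx.cB p' chart' (⟨i.U, i.hU, V', hV',
      (e.le.trans (Y'.basicOpen_le r)).trans i.hle, i.d, i.hd, i.f, i.hf⟩ : Idx u)) := by
  subst e
  let ρ := 𝒮'.res i.hU' hV' (Y'.basicOpen_le r)
  let k : Idx u := ⟨i.U, i.hU, Y'.basicOpen r, hV', ((Y'.basicOpen_le r)).trans i.hle, i.d, i.hd,
    i.f, i.hf⟩
  have hk : ∀ a, k.ψ a = ρ (i.ψ a) := by
    intro a
    exact (congrArg (fun θ => θ.hom a) (u.appLE_map i.hle (Y'.basicOpen_le r))).symm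
  have hb : ρ (i.ψ i.f) = k.ψ i.f := (hk i.f).symm
  refine ⟨⟨Spec.map (CommRingCat.ofHom (mapTo ρ (i.ψ i.f) (k.ψ i.f) hb)), ?_, ?_⟩, ?_⟩
  · change _ ≫ Proj.awayι _ _ _ _ ≫ RelProj.emb p' chart' i.U' i.hU' =
      Proj.awayι _ _ _ _ ≫ RelProj.emb p' chart' (Y'.basicOpen r) hV'
    rw [← emb_res hP' i.U' i.hU' r, ← Category.assoc, ← Category.assoc]
    congr 1
    exact (awayι_mapTo ρ _ i.hd (i.ψ i.f) (i.ψ.2 i.hf) (k.ψ i.f) hb (k.ψ.2 i.hf)).symm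
  · change _ ≫ Spec.map (CommRingCat.ofHom (Away.map i.ψ i.f)) ≫ _ =
      Spec.map (CommRingCat.ofHom (Away.map k.ψ i.f)) ≫ _
    rw [← Spec.map_comp_assoc, ← CommRingCat.ofHom_comp]
    have := mapTo_comp i.ψ ρ k.ψ hk i.f (i.ψ i.f) (k.ψ i.f) rfl hb
    rw [mapTo_rfl] at this
    rw [this]
    rfl
  · obtain ⟨y, rfl, hy⟩ := (mem_range_cB_iff p' chart' i _).mp hx
    obtain ⟨y'', hy''⟩ := exists_emb_eq p' chart' (Y'.basicOpen r) hV' _ hxV
    refine (mem_range_cB_iff p' chart' k _).mpr ⟨y'', hy'', ?_⟩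
    rw [emb_res_apply hP' i.U' i.hU' r] at hy''
    have hyy := (RelProj.emb p' chart' i.U' i.hU').isOpenEmbedding.injective hy''
    rw [← hyy] at hy
    rw [hk]
    exact hy

/-- shrinking the target affine open to a basic open refines the chart -/
theorem ref_shrink_target (hP : RelProj.IsRelProj 𝒮 p chart) (i : Idx u) (W : Y.Opens)
    (hW : IsAffineOpen W) (s : Γ(Y, i.U)) (e : W = Y.basicOpen s) (hle : i.U' ≤ g ⁻¹ᵁ W) (x : P')
    (hx : x ∈ Set.range (i.cB p' chart')) :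
    Ref p chart p' chart'
      ⟨W, hW, i.U', i.hU', hle, i.d, i.hd, 𝒮.res i.hU hW (e.le.trans (Y.basicOpen_le s)) i.f,
        (𝒮.res i.hU hW (e.le.trans (Y.basicOpen_le s))).2 i.hf⟩ i ∧
    x ∈ Set.range (Idx.cB p' chart' (⟨W, hW, i.U', i.hU', hle, i.d, i.hd,
      𝒮.res i.hU hW (e.le.trans (Y.basicOpen_le s)) i.f,
        (𝒮.res i.hU hW (e.le.trans (Y.basicOpen_le s))).2 i.hf⟩ : Idx u)) := by
  subst e
  let ρ := 𝒮.res i.hU hW (Y.basicOpen_le s)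
  let k : Idx u := ⟨Y.basicOpen s, hW, i.U', i.hU', hle, i.d, i.hd, ρ i.f, ρ.2 i.hf⟩
  have hk : ∀ a, i.ψ a = k.ψ (ρ a) := by
    intro a
    exact (congrArg (fun θ => θ.hom a) (u.map_appLE (Y.basicOpen_le s) hle)).symm
  have hb : (GradedRingHom.id (𝒮'.deg i.U' i.hU')) (i.ψ i.f) = k.ψ (ρ i.f) := hk i.f
  refine ⟨⟨Spec.map (CommRingCat.ofHom (mapTo (GradedRingHom.id _) (i.ψ i.f) (k.ψ (ρ i.f)) hb)),
    ?_, ?_⟩, ?_⟩
  · change _ ≫ Proj.awayι _ _ _ _ ≫ RelProj.emb p' chart' i.U' i.hU' =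
      Proj.awayι _ _ _ _ ≫ RelProj.emb p' chart' i.U' i.hU'
    rw [← Category.assoc]
    congr 1
    exact awayι_congr i.hd (i.ψ i.f) (k.ψ (ρ i.f)) hb (i.ψ.2 i.hf) (k.ψ.2 (ρ.2 i.hf))
  · change _ ≫ Spec.map (CommRingCat.ofHom (Away.map i.ψ i.f)) ≫
        Proj.awayι (𝒮.deg i.U i.hU) i.f i.hf i.hd ≫ RelProj.emb p chart i.U i.hU =
      Spec.map (CommRingCat.ofHom (Away.map k.ψ (ρ i.f))) ≫
        Proj.awayι (𝒮.deg (Y.basicOpen s) hW) (ρ i.f) (ρ.2 i.hf) i.hd ≫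
          RelProj.emb p chart (Y.basicOpen s) hW
    rw [← emb_res hP i.U i.hU s]
    have h1 := Proj.awayι_comp_map ρ (𝒮.irrelevant_le_map i.U i.hU s) i.hd i.f i.hf
    rw [reassoc_of% h1, ← Spec.map_comp_assoc, ← Spec.map_comp_assoc, ← CommRingCat.ofHom_comp,
      ← CommRingCat.ofHom_comp]
    have e1 := mapTo_comp i.ψ (GradedRingHom.id _) i.ψ (fun _ => rfl) i.f (i.ψ i.f) (k.ψ (ρ i.f))
      rfl hb
    have e2 := mapTo_comp ρ k.ψ i.ψ hk i.f (ρ i.f) (k.ψ (ρ i.f)) rfl rfl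
    rw [mapTo_rfl] at e1 e2
    rw [mapTo_rfl] at e2
    rw [e1, e2]
  · obtain ⟨y, rfl, hy⟩ := (mem_range_cB_iff p' chart' i _).mp hx
    refine (mem_range_cB_iff p' chart' k _).mpr ⟨y, rfl, ?_⟩
    rw [← hk]
    exact hy

/-- multiplying by a second chart function -/
theorem ref_mul' (i : Idx u) {e : ℕ} (he : 0 < e) (m : 𝒮.presheaf.obj (op i.U))
    (hm : m ∈ 𝒮.deg i.U i.hU e) (x : 𝒮.presheaf.obj (op i.U)) (hx : x = i.f * m)
    (D : ℕ) (hD : D = i.d + e) (hD0 : 0 < D) (hxD : x ∈ 𝒮.deg i.U i.hU D) (pt : P')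
    (h1 : pt ∈ Set.range (i.cB p' chart'))
    (h2 : pt ∈ Set.range (Idx.cB p' chart'
      (⟨i.U, i.hU, i.U', i.hU', i.hle, e, he, m, hm⟩ : Idx u))) :
    Ref p chart p' chart' ⟨i.U, i.hU, i.U', i.hU', i.hle, D, hD0, x, hxD⟩ i ∧
      pt ∈ Set.range (Idx.cB p' chart'
        (⟨i.U, i.hU, i.U', i.hU', i.hle, D, hD0, x, hxD⟩ : Idx u)) := by
  subst hD
  refine ⟨ref_mul p chart p' chart' i m hm x hx, ?_⟩
  obtain ⟨y, rfl, hy⟩ := (mem_range_cB_iff p' chart' i _).mp h1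
  obtain ⟨y₂, hy₂, hm₂⟩ := (mem_range_cB_iff p' chart'
    (⟨i.U, i.hU, i.U', i.hU', i.hle, e, he, m, hm⟩ : Idx u) _).mp h2
  have hyy := (RelProj.emb p' chart' i.U' i.hU').isOpenEmbedding.injective hy₂
  subst hyy
  refine (mem_range_cB_iff p' chart'
    (⟨i.U, i.hU, i.U', i.hU', i.hle, i.d + e, hD0, x, hxD⟩ : Idx u) _).mpr ⟨y₂, rfl, ?_⟩
  change i.ψ x ∉ y₂.asHomogeneousIdeal
  rw [hx, map_mul]
  intro hmem
  rcases y₂.isPrime.mem_or_mem hmem with h | h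
  · exact hy h
  · exact hm₂ h

/-- two charts over the same affine pair have a common refinement -/
theorem ref_mul_pair (W : Y.Opens) (hW : IsAffineOpen W) (W' : Y'.Opens) (hW' : IsAffineOpen W')
    (hle : W' ≤ g ⁻¹ᵁ W) {d : ℕ} (hd : 0 < d) (f : 𝒮.presheaf.obj (op W)) (hf : f ∈ 𝒮.deg W hW d)
    {e : ℕ} (he : 0 < e) (m : 𝒮.presheaf.obj (op W)) (hm : m ∈ 𝒮.deg W hW e) (pt : P')
    (h1 : pt ∈ Set.range (Idx.cB p' chart' (⟨W, hW, W', hW', hle, d, hd, f, hf⟩ : Idx u)))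
    (h2 : pt ∈ Set.range (Idx.cB p' chart' (⟨W, hW, W', hW', hle, e, he, m, hm⟩ : Idx u))) :
    ∃ k : Idx u, Ref p chart p' chart' k ⟨W, hW, W', hW', hle, d, hd, f, hf⟩ ∧
      Ref p chart p' chart' k ⟨W, hW, W', hW', hle, e, he, m, hm⟩ ∧
      pt ∈ Set.range (k.cB p' chart') := by
  have hmem : f * m ∈ 𝒮.deg W hW (d + e) := SetLike.mul_mem_graded hf hm
  obtain ⟨r4, m4⟩ := ref_mul' p chart p' chart' (⟨W, hW, W', hW', hle, d, hd, f, hf⟩ : Idx u)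
    he m hm (f * m) rfl (d + e) rfl (Nat.add_pos_left hd _) hmem pt h1 h2
  obtain ⟨r4', -⟩ := ref_mul' p chart p' chart' (⟨W, hW, W', hW', hle, e, he, m, hm⟩ : Idx u)
    hd f hf (f * m) (mul_comm _ _) (d + e) (Nat.add_comm _ _) (Nat.add_pos_left hd _) hmem pt
    h2 h1
  exact ⟨_, r4, r4', m4⟩

theorem p'_mem_of_mem_range_cB (i : Idx u) (pt : P') (h : pt ∈ Set.range (i.cB p' chart')) :
    p' pt ∈ i.U' := by
  obtain ⟨y, rfl, -⟩ := (mem_range_cB_iff p' chart' i _).mp h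
  have : RelProj.emb p' chart' i.U' i.hU' y ∈ (RelProj.emb p' chart' i.U' i.hU').opensRange :=
    ⟨_, rfl⟩
  rw [opensRange_emb] at this
  exact this

/-- two charts have a common refinement around every common point -/
theorem exists_common_ref (hP : RelProj.IsRelProj 𝒮 p chart) (hP' : RelProj.IsRelProj 𝒮' p' chart')
    (i i' : Idx u) (pt : P') (h : pt ∈ Set.range (i.cB p' chart'))
    (h' : pt ∈ Set.range (i'.cB p' chart')) :
    ∃ k : Idx u, Ref p chart p' chart' k i ∧ Ref p chart p' chart' k i' ∧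
      pt ∈ Set.range (k.cB p' chart') := by
  have hptU := p'_mem_of_mem_range_cB p' chart' i pt h
  have hptU' := p'_mem_of_mem_range_cB p' chart' i' pt h'
  have hgU : g (p' pt) ∈ i.U := i.hle hptU
  have hgU' : g (p' pt) ∈ i'.U := i'.hle hptU'
  obtain ⟨s, s', hst, hxs⟩ := exists_basicOpen_le_affine_inter i.hU i'.hU (g (p' pt)) ⟨hgU, hgU'⟩
  have hW := i.hU.basicOpen s
  have eU1 := Scheme.basicOpen_appLE g i.U' i.U i.hle s
  have eU2 := Scheme.basicOpen_appLE g i'.U' i'.U i'.hle s'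
  have hU1 := i.hU'.basicOpen (g.appLE i.U i.U' i.hle s)
  have hU2 := i'.hU'.basicOpen (g.appLE i'.U i'.U' i'.hle s')
  have hpt1 : p' pt ∈ Y'.basicOpen (g.appLE i.U i.U' i.hle s) := by
    rw [eU1]; exact ⟨hptU, hxs⟩
  have hpt2 : p' pt ∈ Y'.basicOpen (g.appLE i'.U i'.U' i'.hle s') := by
    rw [eU2, ← hst]; exact ⟨hptU', hxs⟩
  obtain ⟨b1, b2, hb, hxb⟩ := exists_basicOpen_le_affine_inter hU1 hU2 (p' pt) ⟨hpt1, hpt2⟩
  have hW' := hU1.basicOpen b1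
  have hW'W : Y'.basicOpen b1 ≤ g ⁻¹ᵁ Y.basicOpen s :=
    (Y'.basicOpen_le b1).trans (eU1.le.trans inf_le_right)
  -- the chain for `i`
  let i1 : Idx u := ⟨i.U, i.hU, Y'.basicOpen (g.appLE i.U i.U' i.hle s), hU1,
    (Y'.basicOpen_le _).trans i.hle, i.d, i.hd, i.f, i.hf⟩
  obtain ⟨r1, m1⟩ : Ref p chart p' chart' i1 i ∧ pt ∈ Set.range (i1.cB p' chart') :=
    ref_shrink_source p chart p' chart' hP' i _ hU1 (g.appLE i.U i.U' i.hle s) rfl pt h hpt1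
  let i2 : Idx u := ⟨i.U, i.hU, Y'.basicOpen b1, hW',
    (Y'.basicOpen_le b1).trans i1.hle, i.d, i.hd, i.f, i.hf⟩
  obtain ⟨r2, m2⟩ : Ref p chart p' chart' i2 i1 ∧ pt ∈ Set.range (i2.cB p' chart') :=
    ref_shrink_source p chart p' chart' hP' i1 _ hW' b1 rfl pt m1 hxb
  let i3 : Idx u := ⟨Y.basicOpen s, hW, Y'.basicOpen b1, hW', hW'W, i.d, i.hd,
    𝒮.res i.hU hW (Y.basicOpen_le s) i.f, (𝒮.res i.hU hW (Y.basicOpen_le s)).2 i.hf⟩
  obtain ⟨r3, m3⟩ : Ref p chart p' chart' i3 i2 ∧ pt ∈ Set.range (i3.cB p' chart') :=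
    ref_shrink_target p chart p' chart' hP i2 _ hW s rfl hW'W pt m2
  -- the chain for `i'`
  let i1' : Idx u := ⟨i'.U, i'.hU, Y'.basicOpen (g.appLE i'.U i'.U' i'.hle s'), hU2,
    (Y'.basicOpen_le _).trans i'.hle, i'.d, i'.hd, i'.f, i'.hf⟩
  obtain ⟨r1', m1'⟩ : Ref p chart p' chart' i1' i' ∧ pt ∈ Set.range (i1'.cB p' chart') :=
    ref_shrink_source p chart p' chart' hP' i' _ hU2 (g.appLE i'.U i'.U' i'.hle s') rfl pt h' hpt2
  let i2' : Idx u := ⟨i'.U, i'.hU, Y'.basicOpen b1, hW',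
    (hb.le.trans (Y'.basicOpen_le b2)).trans i1'.hle, i'.d, i'.hd, i'.f, i'.hf⟩
  obtain ⟨r2', m2'⟩ : Ref p chart p' chart' i2' i1' ∧ pt ∈ Set.range (i2'.cB p' chart') :=
    ref_shrink_source p chart p' chart' hP' i1' _ hW' b2 hb pt m1' hxb
  let i3' : Idx u := ⟨Y.basicOpen s, hW, Y'.basicOpen b1, hW', hW'W, i'.d, i'.hd,
    𝒮.res i'.hU hW (hst.le.trans (Y.basicOpen_le s')) i'.f,
    (𝒮.res i'.hU hW (hst.le.trans (Y.basicOpen_le s'))).2 i'.hf⟩
  obtain ⟨r3', m3'⟩ : Ref p chart p' chart' i3' i2' ∧ pt ∈ Set.range (i3'.cB p' chart') :=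
    ref_shrink_target p chart p' chart' hP i2' _ hW s' hst hW'W pt m2'
  -- multiply
  obtain ⟨k, r4, r4', m4⟩ := ref_mul_pair p chart p' chart' (Y.basicOpen s) hW (Y'.basicOpen b1) hW'
    hW'W i.hd _ ((𝒮.res i.hU hW (Y.basicOpen_le s)).2 i.hf) i'.hd _
    ((𝒮.res i'.hU hW (hst.le.trans (Y.basicOpen_le s'))).2 i'.hf) pt m3 m3'
  have t1 : Ref p chart p' chart' i2 i := Ref.trans p chart p' chart' r2 r1
  have t2 : Ref p chart p' chart' i3 i := Ref.trans p chart p' chart' r3 t1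
  have r4a : Ref p chart p' chart' k i3 := r4
  have t3 : Ref p chart p' chart' k i := Ref.trans p chart p' chart' r4a t2
  have t1' : Ref p chart p' chart' i2' i' := Ref.trans p chart p' chart' r2' r1'
  have t2' : Ref p chart p' chart' i3' i' := Ref.trans p chart p' chart' r3' t1'
  have r4a' : Ref p chart p' chart' k i3' := r4'
  have t3' : Ref p chart p' chart' k i' := Ref.trans p chart p' chart' r4a' t2'
  exact ⟨k, t3, t3', m4⟩

instance (i : Idx u) : IsOpenImmersion (i.cB p' chart') := by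
  change IsOpenImmersion (Proj.awayι _ _ _ _ ≫ RelProj.emb p' chart' i.U' i.hU')
  infer_instance

/-- the lifted chart into `G(u)` -/
noncomputable abbrev Idx.c (i : Idx u) : i.X ⟶ ((RelProj.domQ u p' chart' : P'.Opens) : Scheme.{u}) :=
  IsOpenImmersion.lift (RelProj.domQ u p' chart').ι (i.cB p' chart')
    (RelProj.range_awayEmb_subset_domQ u p' chart' i.U i.hU i.U' i.hU' i.hle i.hd i.f i.hf)

theorem Idx.c_fac (i : Idx u) :
    i.c p' chart' ≫ (RelProj.domQ u p' chart').ι = i.cB p' chart' :=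
  IsOpenImmersion.lift_fac _ _ _

instance (i : Idx u) : IsOpenImmersion (i.c p' chart') := by
  have : IsOpenImmersion (i.c p' chart' ≫ (RelProj.domQ u p' chart').ι) := by
    rw [Idx.c_fac]; infer_instance
  exact IsOpenImmersion.of_comp _ (RelProj.domQ u p' chart').ι

theorem exists_mem_range_c (t : ((RelProj.domQ u p' chart' : P'.Opens) : Scheme.{u})) :
    ∃ i : Idx u, t ∈ Set.range (i.c p' chart') := by
  obtain ⟨⟨⟨⟨V, hV⟩, ⟨V', hV'⟩⟩, hle⟩, hxV⟩ := Opens.mem_iSup.mp t.2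
  obtain ⟨y', hy', hyt⟩ := hxV
  obtain ⟨d, hd, f, hf, hfy⟩ := exists_of_mem_domOpen _ y' hy'
  let i : Idx u := ⟨V, hV, V', hV', hle, d, hd, f, hf⟩
  have h1 : (RelProj.domQ u p' chart').ι t ∈ Set.range (i.cB p' chart') :=
    (mem_range_cB_iff p' chart' i _).mpr ⟨y', hyt, hfy⟩
  obtain ⟨z, hz⟩ := h1
  refine ⟨i, z, (RelProj.domQ u p' chart').ι.isOpenEmbedding.injective ?_⟩
  rw [← Scheme.Hom.comp_apply, Idx.c_fac]
  exact hz

/-- existence of `Proj(u)` on `G(u)` -/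
theorem exists_isProjQMapOn (hP : RelProj.IsRelProj 𝒮 p chart)
    (hP' : RelProj.IsRelProj 𝒮' p' chart') :
    ∃ v : ((RelProj.domQ u p' chart' : P'.Opens) : Scheme.{u}) ⟶ P,
      RelProj.IsProjQMapOn u p chart p' chart' (RelProj.domQ u p' chart') v := by
  obtain ⟨v, hv⟩ := exists_glue_of_refine (fun i : Idx u => i.X) (fun i => i.c p' chart')
    (exists_mem_range_c p' chart') (fun i => i.gA p chart) (by
      intro i i' z z' hzz
      have h1 : (RelProj.domQ u p' chart').ι (i.c p' chart' z) ∈ Set.range (i.cB p' chart') :=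
        ⟨z, by rw [← Idx.c_fac, Scheme.Hom.comp_apply]⟩
      have h2 : (RelProj.domQ u p' chart').ι (i.c p' chart' z) ∈ Set.range (i'.cB p' chart') :=
        ⟨z', by rw [hzz, ← Idx.c_fac, Scheme.Hom.comp_apply]⟩
      obtain ⟨k, ⟨a, ha1, ha2⟩, ⟨a', ha1', ha2'⟩, ⟨w, hw⟩⟩ :=
        exists_common_ref p chart p' chart' hP hP' i i' _ h1 h2
      refine ⟨k, a, a', ?_, ?_, ha2, ha2', w, ?_⟩
      · rw [← cancel_mono (RelProj.domQ u p' chart').ι, Category.assoc, Idx.c_fac, Idx.c_fac, ha1]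
      · rw [← cancel_mono (RelProj.domQ u p' chart').ι, Category.assoc, Idx.c_fac, Idx.c_fac, ha1']
      · apply (RelProj.domQ u p' chart').ι.isOpenEmbedding.injective
        rw [← Scheme.Hom.comp_apply, Idx.c_fac]
        exact hw)
  refine ⟨v, ?_⟩
  intro U hU U' hU' hle d hd f hf hW
  exact hv ⟨U, hU, U', hU', hle, d, hd, f, hf⟩

theorem eq_of_isProjQMapOn
    (v v' : ((RelProj.domQ u p' chart' : P'.Opens) : Scheme.{u}) ⟶ P)
    (hv : RelProj.IsProjQMapOn u p chart p' chart' (RelProj.domQ u p' chart') v)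
    (hv' : RelProj.IsProjQMapOn u p chart p' chart' (RelProj.domQ u p' chart') v') : v = v' := by
  refine hom_ext_of_covers _ _ (fun t => ?_)
  obtain ⟨i, hi⟩ := exists_mem_range_c p' chart' t
  refine ⟨_, i.c p' chart', inferInstance, hi, ?_⟩
  exact (hv i.U i.hU i.U' i.hU' i.hle i.d i.hd i.f i.hf _).trans
    (hv' i.U i.hU i.U' i.hU' i.hle i.d i.hd i.f i.hf _).symm

theorem away_map_fromZero' {A B : Type u} [CommRing A] [CommRing B] {𝒜 : ℕ → AddSubgroup A}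
    {ℬ : ℕ → AddSubgroup B} [GradedRing 𝒜] [GradedRing ℬ] (ψ : 𝒜 →+*ᵍ ℬ) (f : A) (c : 𝒜 0) :
    (Away.map ψ f (fromZeroRingHom 𝒜 (Submonoid.powers f) c)).val =
      (fromZeroRingHom ℬ (Submonoid.powers (ψ f)) (RelProjMap.zeroHom ψ c)).val :=
  congrArg HomogeneousLocalization.val (away_map_fromZero ψ f c)

theorem gA_comp' (hP : RelProj.IsRelProj 𝒮 p chart) (hP' : RelProj.IsRelProj 𝒮' p' chart')
    (i : Idx u) : i.gA p chart ≫ p = i.cB p' chart' ≫ p' ≫ g := by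
  change (Spec.map _ ≫ Proj.awayι _ _ _ _ ≫ RelProj.emb p chart i.U i.hU) ≫ p =
    (Proj.awayι _ _ _ _ ≫ RelProj.emb p' chart' i.U' i.hU') ≫ p' ≫ g
  simp only [Category.assoc]
  rw [emb_comp hP, ← Category.assoc (RelProj.emb p' chart' i.U' i.hU'), emb_comp hP']
  simp only [Category.assoc]
  rw [← IsAffineOpen.SpecMap_appLE_fromSpec g i.hU i.hU' i.hle,
    Proj.awayι_toSpecZero_assoc, Proj.awayι_toSpecZero_assoc,
    ← Spec.map_comp_assoc, ← Spec.map_comp_assoc, ← Spec.map_comp_assoc, ← Spec.map_comp_assoc]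
  congr 2
  ext r
  change (Away.map i.ψ i.f (fromZeroRingHom _ _ ((𝒮.strZero i.U i.hU).hom r))).val =
    (fromZeroRingHom _ _ ((𝒮'.strZero i.U' i.hU').hom ((g.appLE i.U i.U' i.hle).hom r))).val
  rw [away_map_fromZero']
  congr 2
  apply Subtype.ext
  change i.ψ ((𝒮.str.app (op i.U)).hom r) =
    (𝒮'.str.app (op i.U')).hom ((g.appLE i.U i.U' i.hle).hom r)
  exact congrArg (fun θ => θ.hom r) (u.str_appLE i.U i.U' i.hle)

theorem comp_eq_of_isProjQMapOn (hP : RelProj.IsRelProj 𝒮 p chart)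
    (hP' : RelProj.IsRelProj 𝒮' p' chart')
    (v : ((RelProj.domQ u p' chart' : P'.Opens) : Scheme.{u}) ⟶ P)
    (hv : RelProj.IsProjQMapOn u p chart p' chart' (RelProj.domQ u p' chart') v) :
    v ≫ p = (RelProj.domQ u p' chart').ι ≫ p' ≫ g := by
  refine hom_ext_of_covers _ _ (fun t => ?_)
  obtain ⟨i, hi⟩ := exists_mem_range_c p' chart' t
  refine ⟨_, i.c p' chart', inferInstance, hi, ?_⟩
  have h1 : i.c p' chart' ≫ v = i.gA p chart :=
    hv i.U i.hU i.U' i.hU' i.hle i.d i.hd i.f i.hf _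
  rw [← Category.assoc, h1, ← Category.assoc, Idx.c_fac, gA_comp' p chart p' chart' hP hP']

end scheme

end Groth.Agent.Lib.Helper3.ProjQGlue
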