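import Groth.Agent.Lib.Helper3.CPgW
import Groth.Agent.Lib.Helper3.CPb
import Groth.Agent.Lib.Helper3.AffExt
import Groth.Agent.Lib.Helper3.ProjQMap
import Groth.Agent.Lib.Helper3.ProjQGlue

/-!
# A closed subscheme of a quasi-compact relative `Proj` is the relative `Proj` of a graded quotient
-/

set_option autoImplicit false
set_option linter.unusedSectionVars false
universe u
open CategoryTheory CategoryTheory.Limits AlgebraicGeometry TopologicalSpace Opposite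
open Scheme.Modules
open AlgebraicGeometry.Scheme AlgebraicGeometry.Scheme.AffineZariskiSite
open scoped HomogeneousIdeal

namespace Groth.Agent.Lib.Helper3.CPgB

open QCSec GrTransport AffGr CPa CPgW
open CPb (ZU AU gU iU iU_emb iU_toS ρ iU_res ρ_id ρ_comp θUV str_nat)

theorem comp_aux {C : Type*} [Category C] {X Y W Z' Q T : C} (cinv : X ⟶ W) (ι' : W ⟶ Z')
    (i : Z' ⟶ T) (M : X ⟶ Y) (einv : Y ⟶ W) (ιU : W ⟶ Q) (embA : Q ⟶ T) (q : Y ⟶ Q)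
    (h1 : cinv = M ≫ einv) (h2 : einv ≫ ιU = q) (h3 : ι' ≫ i = ιU ≫ embA) :
    (cinv ≫ ι') ≫ i = (M ≫ q) ≫ embA := by
  subst h1
  rw [Category.assoc, Category.assoc, h3, ← Category.assoc einv, h2, Category.assoc]

variable {S : Scheme.{u}} (𝒜 : RelProj.QCGrAlg S) {P : Scheme.{u}} (p : P ⟶ S)
  (chart : ∀ (U : S.Opens) (hU : IsAffineOpen U),
    ((p ⁻¹ᵁ U : P.Opens) : Scheme.{u}) ≅ Proj (𝒜.deg U hU))
  {Z : Scheme.{u}} (i : Z ⟶ P)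

section Site

variable (hP : RelProj.IsRelProj 𝒜 p chart) [IsClosedImmersion i] (hfc : ∀ U : S.AffineZariskiSite, FinCoverG (gU 𝒜 U))

/-- the homogeneous ideal over an affine open -/
noncomputable abbrev JU (U : S.AffineZariskiSite) : Ideal (AU 𝒜 U) :=
  KK (gU 𝒜 U) (iU 𝒜 p chart i U)

local notation "𝔸" => AU 𝒜
local notation "𝔤" => gU 𝒜
local notation "𝔦" => iU 𝒜 p chart i
local notation "𝔍" => JU 𝒜 p chart i

include hP hfc

theorem hle_UV {U V : S.AffineZariskiSite} (j : V ⟶ U) :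
    ∀ a, a ∈ 𝔍 U → ρ 𝒜 j a ∈ 𝔍 V :=
  fun _ ha => map_mem_KK (ρ 𝒜 j) (RelProjExist.hirr 𝒜 j) (𝔦 U) (𝔦 V) _ (iU_res 𝒜 p chart i hP j) ha

/-- the transition homomorphisms -/
noncomputable def tUV {U V : S.AffineZariskiSite} (j : V ⟶ U) :
    qgr (𝔤 U) (𝔦 U) →+*ᵍ qgr (𝔤 V) (𝔦 V) :=
  qHom (ρ 𝒜 j) (𝔦 U) (𝔦 V) (hle_UV 𝒜 p chart i hP hfc j)

local notation "𝔱" => tUV 𝒜 p chart i hP hfc

theorem tUV_mk {U V : S.AffineZariskiSite} (j : V ⟶ U) (b : 𝔸 U) :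
    𝔱 j (Ideal.Quotient.mk (𝔍 U) b) = Ideal.Quotient.mk (𝔍 V) (ρ 𝒜 j b) := rfl

/-- the functor on the affine site -/
noncomputable def F : S.AffineZariskiSiteᵒᵖ ⥤ CommRingCat.{u} where
  obj U := CommRingCat.of (𝔸 U.unop ⧸ 𝔍 U.unop)
  map {U V} j := CommRingCat.ofHom (𝔱 j.unop).toRingHom
  map_id U := by
    refine CommRingCat.hom_ext (RingHom.ext fun x => ?_)
    obtain ⟨b, rfl⟩ := Ideal.Quotient.mk_surjective x
    change 𝔱 (𝟙 U.unop) (Ideal.Quotient.mk _ b) = Ideal.Quotient.mk _ b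
    rw [tUV_mk, ρ_id]
  map_comp {U V W} j k := by
    refine CommRingCat.hom_ext (RingHom.ext fun x => ?_)
    obtain ⟨b, rfl⟩ := Ideal.Quotient.mk_surjective x
    change 𝔱 (k.unop ≫ j.unop) (Ideal.Quotient.mk _ b) =
      𝔱 k.unop (𝔱 j.unop (Ideal.Quotient.mk _ b))
    rw [tUV_mk, tUV_mk, tUV_mk, ρ_comp]

local notation "𝔽" => F 𝒜 p chart i hP hfc

/-- the structure map -/
noncomputable def α : (toOpensFunctor S).op ⋙ S.presheaf ⟶ 𝔽 where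
  app U := CommRingCat.ofHom
    ((Ideal.Quotient.mk (𝔍 U.unop)).comp (𝒜.str.app (op U.unop.1)).hom)
  naturality U V j := by
    refine CommRingCat.hom_ext (RingHom.ext fun c => ?_)
    change Ideal.Quotient.mk (𝔍 V.unop) ((𝒜.str.app (op V.unop.1)).hom (θUV j.unop c)) =
      𝔱 j.unop (Ideal.Quotient.mk _ ((𝒜.str.app (op U.unop.1)).hom c))
    rw [tUV_mk, str_nat]

local notation "𝔞" => α 𝒜 p chart i hP hfc

theorem α_app (U : S.AffineZariskiSite) (c : Γ(S, U.1)) :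
    ((𝔞).app (op U)).hom c = Ideal.Quotient.mk (𝔍 U) ((𝒜.str.app (op U.1)).hom c) := rfl

theorem F_map {U V : S.AffineZariskiSite} (j : V ⟶ U) (x : 𝔸 U ⧸ 𝔍 U) :
    ((𝔽).map j.op).hom x = 𝔱 j x := rfl

theorem hrange_UV (U : S.AffineZariskiSite) (s : Γ(S, U.1)) :
    (Z.homOfLE (i.preimage_mono (p.preimage_mono (S.basicOpen_le s)))).opensRange =
      𝔦 U ⁻¹ᵁ Proj.basicOpen (𝔤 U) ((𝒜.str.app (op U.1)).hom s) := by
  have h5 : RelProjExist.toS 𝒜 U ⁻¹ᵁ S.basicOpen s =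
      Proj.basicOpen (𝔤 U) ((𝒜.str.app (op U.1)).hom s) :=
    Opens.ext (RelProjExist.toS_preimage 𝒜 U s)
  rw [Scheme.opensRange_homOfLE, ← h5]
  have h6 := congrArg (fun f => f ⁻¹ᵁ S.basicOpen s) (iU_toS 𝒜 p chart i hP U)
  exact h6.symm

set_option backward.isDefEq.respectTransparency false in
theorem isLocalization_away (U : S.AffineZariskiSite) (s : Γ(S, U.1)) :
    letI := ((𝔽).map (homOfLE (U.basicOpen_le s)).op).hom.toAlgebra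
    IsLocalization.Away ((𝔞).app (op U) s) ((𝔽).obj (op (U.basicOpen s))) := by
  letI := ((𝔽).map (homOfLE (U.basicOpen_le s)).op).hom.toAlgebra
  have hunit : IsUnit (θUV (homOfLE (U.basicOpen_le s)) s) :=
    RingedSpace.isUnit_res_basicOpen _ s
  obtain ⟨-, hsurj, hinj⟩ := RelProjExist.loc_facts 𝒜 U.2 (U.basicOpen s).2 s rfl
  have hnat : ∀ a : Γ(S, U.1), (𝔱 (homOfLE (U.basicOpen_le s))).toRingHom
      (((Ideal.Quotient.mk (𝔍 U)).comp (𝒜.str.app (op U.1)).hom) a) =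
      ((Ideal.Quotient.mk (𝔍 (U.basicOpen s))).comp (𝒜.str.app (op (U.basicOpen s).1)).hom)
        (θUV (homOfLE (U.basicOpen_le s)) a) := by
    intro a
    change 𝔱 (homOfLE (U.basicOpen_le s)) (Ideal.Quotient.mk _ ((𝒜.str.app (op U.1)).hom a)) =
      Ideal.Quotient.mk _ ((𝒜.str.app (op (U.basicOpen s).1)).hom
        (θUV (homOfLE (U.basicOpen_le s)) a))
    rw [tUV_mk, str_nat]
  have hsurj' : ∀ z : 𝔸 (U.basicOpen s) ⧸ 𝔍 (U.basicOpen s), ∃ (n : ℕ) (b : 𝔸 U ⧸ 𝔍 U),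
      (𝔱 (homOfLE (U.basicOpen_le s))).toRingHom b =
        ((Ideal.Quotient.mk (𝔍 (U.basicOpen s))).comp (𝒜.str.app (op (U.basicOpen s).1)).hom)
          (θUV (homOfLE (U.basicOpen_le s)) s ^ n) * z := by
    intro z
    obtain ⟨z₀, rfl⟩ := Ideal.Quotient.mk_surjective z
    obtain ⟨k, a, hka⟩ := hsurj z₀
    refine ⟨k, Ideal.Quotient.mk _ a, ?_⟩
    change 𝔱 (homOfLE (U.basicOpen_le s)) (Ideal.Quotient.mk _ a) =
      Ideal.Quotient.mk _ ((𝒜.str.app (op (U.basicOpen s).1)).hom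
        (θUV (homOfLE (U.basicOpen_le s)) s ^ k)) * Ideal.Quotient.mk _ z₀
    rw [tUV_mk, ← map_mul, map_pow, str_nat, mul_comm]
    exact congrArg _ hka.symm
  have hinj' : ∀ b : 𝔸 U ⧸ 𝔍 U, (𝔱 (homOfLE (U.basicOpen_le s))).toRingHom b = 0 →
      ∃ n : ℕ, ((Ideal.Quotient.mk (𝔍 U)).comp (𝒜.str.app (op U.1)).hom) (s ^ n) * b = 0 := by
    intro b hb
    obtain ⟨b₀, rfl⟩ := Ideal.Quotient.mk_surjective b
    have hJ : ρ 𝒜 (homOfLE (U.basicOpen_le s)) b₀ ∈ 𝔍 (U.basicOpen s) := by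
      rw [← Ideal.Quotient.eq_zero_iff_mem]
      exact hb
    obtain ⟨N, hN⟩ := exists_pow_mul_mem_KK (ρ 𝒜 (homOfLE (U.basicOpen_le s)))
      (RelProjExist.hirr 𝒜 (homOfLE (U.basicOpen_le s))) (𝔦 U) (𝔦 (U.basicOpen s)) _
      (iU_res 𝒜 p chart i hP (homOfLE (U.basicOpen_le s))) (hfc U)
      ((𝒜.str.app (op U.1)).hom s) (𝒜.str_mem U.1 U.2 s)
      (hrange_UV 𝒜 p chart i hP hfc U s)
      (fun z => by
        obtain ⟨k, a, hka⟩ := hsurj z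
        exact ⟨k, a, hka.symm.trans (mul_comm _ _)⟩)
      (fun a ha => hinj a ha) b₀ hJ
    refine ⟨N, ?_⟩
    change Ideal.Quotient.mk _ ((𝒜.str.app (op U.1)).hom (s ^ N)) * Ideal.Quotient.mk _ b₀ = 0
    rw [← map_mul, map_pow]
    exact Ideal.Quotient.eq_zero_iff_mem.mpr hN
  obtain ⟨h1, h2, h3⟩ := RelSpec.loc_core_abs
    (φU := (Ideal.Quotient.mk (𝔍 U)).comp (𝒜.str.app (op U.1)).hom)
    (φV := (Ideal.Quotient.mk (𝔍 (U.basicOpen s))).comp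
      (𝒜.str.app (op (U.basicOpen s).1)).hom)
    (ρS := θUV (homOfLE (U.basicOpen_le s)))
    (ρ := (𝔱 (homOfLE (U.basicOpen_le s))).toRingHom) s hnat hunit hsurj' hinj'
  refine (isLocalization_iff _ _).mpr ⟨?_, ?_, ?_⟩
  · rintro ⟨_, N, rfl⟩
    exact h1 N
  · intro z
    obtain ⟨b, N, hb⟩ := h2 z
    exact ⟨⟨b, ⟨_, N, rfl⟩⟩, hb⟩
  · intro a b hab
    obtain ⟨N, hN⟩ := h3 a b hab
    exact ⟨⟨_, N, rfl⟩, hN⟩

theorem coequifibered : (𝔞).Coequifibered :=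
  coequifibered_iff_forall_isLocalizationAway.mpr
    (fun U s => isLocalization_away 𝒜 p chart i hP hfc U s)

/-- the gradings -/
noncomputable def 𝒢 (U : S.AffineZariskiSite) : ℕ → AddSubgroup ((𝔽).obj (op U)) :=
  qgr (𝔤 U) (𝔦 U)

noncomputable instance instGr (U : S.AffineZariskiSite) :
    GradedRing (𝒢 𝒜 p chart i hP hfc U) :=
  qgrGraded (𝔤 U) (𝔦 U)

theorem hmap (U V : S.AffineZariskiSite) (j : V ⟶ U) (d : ℕ) (x : (𝔽).obj (op U))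
    (hx : x ∈ 𝒢 𝒜 p chart i hP hfc U d) :
    ((𝔽).map j.op).hom x ∈ 𝒢 𝒜 p chart i hP hfc V d :=
  (𝔱 j).map_mem hx

theorem hstr (U : S.AffineZariskiSite) (c : Γ(S, U.1)) :
    ((𝔞).app (op U)).hom c ∈ 𝒢 𝒜 p chart i hP hfc U 0 :=
  (qmk (𝔤 U) (𝔦 U)).map_mem (𝒜.str_mem U.1 U.2 c)

/-- the quasi-coherent graded algebra of the closed subscheme -/
noncomputable def ℬ : RelProj.QCGrAlg S :=
  qcGrAlg (coequifibered 𝒜 p chart i hP hfc) (𝒢 𝒜 p chart i hP hfc)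
    (hmap 𝒜 p chart i hP hfc) (hstr 𝒜 p chart i hP hfc)

local notation "𝔅" => ℬ 𝒜 p chart i hP hfc

/-- the identification of the sections of `ℬ` over an affine open -/
noncomputable abbrev epsU (U : S.AffineZariskiSite) :
    (𝔅).presheaf.obj (op U.1) ≃+* (𝔸 U ⧸ 𝔍 U) :=
  eps (coequifibered 𝒜 p chart i hP hfc) U

local notation "𝔢" => epsU 𝒜 p chart i hP hfc

theorem heB (U : S.AffineZariskiSite) (d : ℕ) (a : (𝔅).presheaf.obj (op U.1)) :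
    a ∈ (𝔅).deg U.1 U.2 d ↔ 𝔢 U a ∈ qgr (𝔤 U) (𝔦 U) d := Iff.rfl

/-- the isomorphism of the preimage with the `Proj` of the quotient -/
noncomputable def eU (U : S.AffineZariskiSite) :
    (ZU p i U.1).toScheme ≅ Proj (qgr (𝔤 U) (𝔦 U)) :=
  (exists_e (𝔤 U) (𝔦 U) (hfc U)).choose

theorem eU_hom (U : S.AffineZariskiSite) :
    (eU 𝒜 p chart i hfc U).hom ≫ Proj.map (qmk (𝔤 U) (𝔦 U)) (qmk_irr _ _) = 𝔦 U :=
  (exists_e (𝔤 U) (𝔦 U) (hfc U)).choose_spec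

/-- the charts over the affine site -/
noncomputable def chartA (U : S.AffineZariskiSite) :
    (ZU p i U.1).toScheme ≅ Proj ((𝔅).deg U.1 U.2) :=
  eU 𝒜 p chart i hfc U ≪≫
    (projIso (𝔢 U) (heB 𝒜 p chart i hP hfc U)).symm

theorem chartA_hom (U : S.AffineZariskiSite) :
    (chartA 𝒜 p chart i hP hfc U).hom = (eU 𝒜 p chart i hfc U).hom ≫
      Proj.map (fwd (𝔢 U) (heB 𝒜 p chart i hP hfc U))
        (fwd_irr (𝔢 U) (heB 𝒜 p chart i hP hfc U)) := rfl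

theorem chartA_over (U : S.AffineZariskiSite) :
    (chartA 𝒜 p chart i hP hfc U).hom ≫ Proj.toSpecZero ((𝔅).deg U.1 U.2) ≫
      Spec.map ((𝔅).strZero U.1 U.2) ≫ U.2.fromSpec = (ZU p i U.1).ι ≫ i ≫ p := by
  have key : Spec.map (CommRingCat.ofHom
      (zeroHom (fwd (𝔢 U) (heB 𝒜 p chart i hP hfc U)))) ≫ Spec.map ((𝔅).strZero U.1 U.2) =
      Spec.map (CommRingCat.ofHom (zeroHom (qmk (𝔤 U) (𝔦 U)))) ≫
        Spec.map (𝒜.strZero U.1 U.2) := by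
    rw [← Spec.map_comp, ← Spec.map_comp]
    congr 1
    refine CommRingCat.hom_ext (RingHom.ext fun c => Subtype.ext ?_)
    exact eps_str (coequifibered 𝒜 p chart i hP hfc) U c
  have h1 : (eU 𝒜 p chart i hfc U).hom ≫ Proj.map (qmk (𝔤 U) (𝔦 U)) (qmk_irr _ _) ≫
      RelProjExist.toS 𝒜 U = (ZU p i U.1).ι ≫ i ≫ p := by
    rw [← Category.assoc, eU_hom 𝒜 p chart i hP hfc U]
    exact iU_toS 𝒜 p chart i hP U
  rw [chartA_hom 𝒜 p chart i hP hfc U, Category.assoc, map_toSpecZero_assoc, reassoc_of% key, ← h1]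
  unfold RelProjExist.toS
  rw [map_toSpecZero_assoc]

theorem chartA_res (U : S.AffineZariskiSite) (s : Γ(S, U.1)) :
    Z.homOfLE (i.preimage_mono (p.preimage_mono
        (toOpens_mono (homOfLE (U.basicOpen_le s) : U.basicOpen s ⟶ U).le))) ≫
        (chartA 𝒜 p chart i hP hfc U).hom =
      (chartA 𝒜 p chart i hP hfc (U.basicOpen s)).hom ≫
        Proj.map ((𝔅).res U.2 (U.basicOpen s).2
          (toOpens_mono (homOfLE (U.basicOpen_le s) : U.basicOpen s ⟶ U).le))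
          (RelProjExist.hirr 𝔅 (homOfLE (U.basicOpen_le s))) := by
  have h1 := e_comp' (ρ 𝒜 (homOfLE (U.basicOpen_le s)))
    (RelProjExist.hirr 𝒜 (homOfLE (U.basicOpen_le s))) (𝔦 U) (𝔦 (U.basicOpen s)) _
    (iU_res 𝒜 p chart i hP (homOfLE (U.basicOpen_le s)))
    (hle_UV 𝒜 p chart i hP hfc (homOfLE (U.basicOpen_le s)))
    (eU 𝒜 p chart i hfc U) (eU_hom 𝒜 p chart i hP hfc U)
    (eU 𝒜 p chart i hfc (U.basicOpen s))
    (eU_hom 𝒜 p chart i hP hfc (U.basicOpen s))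
  rw [chartA_hom 𝒜 p chart i hP hfc U,
    chartA_hom 𝒜 p chart i hP hfc (U.basicOpen s), reassoc_of% h1]
  simp only [Category.assoc]
  rw [← Proj.map_comp, ← Proj.map_comp]
  congr 1
  refine map_congr (GradedRingHom.ext fun a => ?_) _ _
  exact (eps_res (coequifibered 𝒜 p chart i hP hfc) (homOfLE (U.basicOpen_le s)) a).symm

/-- the charts -/
noncomputable def chartB (U : S.Opens) (hU : IsAffineOpen U) :
    (((i ≫ p) ⁻¹ᵁ U : Z.Opens) : Scheme.{u}) ≅ Proj ((𝔅).deg U hU) :=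
  chartA 𝒜 p chart i hP hfc ⟨U, hU⟩

theorem isRelProj : RelProj.IsRelProj 𝔅 (i ≫ p) (chartB 𝒜 p chart i hP hfc) where
  chart_over U hU := chartA_over 𝒜 p chart i hP hfc ⟨U, hU⟩
  chart_res U hU s := chartA_res 𝒜 p chart i hP hfc ⟨U, hU⟩ s

theorem symm_mk_mem (U : S.AffineZariskiSite) {d : ℕ} {b : 𝔸 U} (hb : b ∈ 𝔤 U d) :
    (𝔢 U).symm (Ideal.Quotient.mk (𝔍 U) b) ∈ (𝔅).deg U.1 U.2 d := by
  rw [heB, RingEquiv.apply_symm_apply]
  exact (qmk (𝔤 U) (𝔦 U)).map_mem hb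

theorem symm_mk_str (U : S.AffineZariskiSite) (c : Γ(S, U.1)) :
    (𝔢 U).symm (Ideal.Quotient.mk (𝔍 U) ((𝒜.str.app (op U.1)).hom c)) =
      ((𝔅).str.app (op U.1)).hom c := by
  rw [RingEquiv.symm_apply_eq]
  exact (eps_str (coequifibered 𝒜 p chart i hP hfc) U c).symm


/-- the quotient homomorphism over an affine open -/
noncomputable def DU (U : S.AffineZariskiSite) : 𝔸 U →+* (𝔅).presheaf.obj (op U.1) :=
  ((𝔢 U).symm.toRingHom).comp (Ideal.Quotient.mk (𝔍 U))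

theorem DU_apply (U : S.AffineZariskiSite) (b : 𝔸 U) :
    DU 𝒜 p chart i hP hfc U b = (𝔢 U).symm (Ideal.Quotient.mk (𝔍 U) b) := rfl

theorem exists_phi : ∃ φ : 𝒜.toQCAlg ⟶ (𝔅).toQCAlg, ∀ (U : S.AffineZariskiSite) (b : 𝔸 U),
    (φ.hom.app (op U.1)).hom b = (𝔢 U).symm (Ideal.Quotient.mk (𝔍 U) b) := by
  refine AffExt.exists_algHom_of_affine (A := 𝒜.toQCAlg) (B := (𝔅).toQCAlg)
    (fun U => DU 𝒜 p chart i hP hfc U) (fun U a => symm_mk_str 𝒜 p chart i hP hfc U a) ?_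
  intro U V j s
  apply (𝔢 V).injective
  have h1 := eps_res (coequifibered 𝒜 p chart i hP hfc) j (DU 𝒜 p chart i hP hfc U s)
  refine h1.trans ?_
  change (𝔱 j) (𝔢 U ((𝔢 U).symm (Ideal.Quotient.mk (𝔍 U) s))) =
    𝔢 V ((𝔢 V).symm (Ideal.Quotient.mk (𝔍 V) _))
  rw [RingEquiv.apply_symm_apply, RingEquiv.apply_symm_apply]
  rfl

theorem phi_graded (φ : 𝒜.toQCAlg ⟶ (𝔅).toQCAlg)
    (hφe : ∀ (U : S.AffineZariskiSite) (b : 𝔸 U),
      (φ.hom.app (op U.1)).hom b = (𝔢 U).symm (Ideal.Quotient.mk (𝔍 U) b)) :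
    RelProj.IsGradedHom φ := by
  intro U hU d x hx
  rw [hφe ⟨U, hU⟩ x]
  exact symm_mk_mem 𝒜 p chart i hP hfc ⟨U, hU⟩ hx

theorem phi_surj (φ : 𝒜.toQCAlg ⟶ (𝔅).toQCAlg)
    (hφe : ∀ (U : S.AffineZariskiSite) (b : 𝔸 U),
      (φ.hom.app (op U.1)).hom b = (𝔢 U).symm (Ideal.Quotient.mk (𝔍 U) b))
    (U : S.Opens) (hU : IsAffineOpen U) :
    Function.Surjective (φ.hom.app (op U)).hom := by
  intro y
  obtain ⟨b, hb⟩ := Ideal.Quotient.mk_surjective (𝔢 ⟨U, hU⟩ y)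
  refine ⟨b, ?_⟩
  rw [hφe ⟨U, hU⟩ b, hb, RingEquiv.symm_apply_apply]

theorem phi_surj_deg (φ : 𝒜.toQCAlg ⟶ (𝔅).toQCAlg)
    (hφe : ∀ (U : S.AffineZariskiSite) (b : 𝔸 U),
      (φ.hom.app (op U.1)).hom b = (𝔢 U).symm (Ideal.Quotient.mk (𝔍 U) b))
    (k : ℕ) (U : S.Opens) (hU : IsAffineOpen U)
    (y : (𝔅).presheaf.obj (op U)) (hy : y ∈ (𝔅).deg U hU k) :
    ∃ x ∈ 𝒜.deg U hU k, (φ.hom.app (op U)).hom x = y := by
  obtain ⟨b, hb, hby⟩ := exists_of_mem_qgr (𝔤 ⟨U, hU⟩) (𝔦 ⟨U, hU⟩)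
    ((heB 𝒜 p chart i hP hfc ⟨U, hU⟩ k y).mp hy)
  refine ⟨b, hb, ?_⟩
  rw [hφe ⟨U, hU⟩ b]
  rw [qmk_apply] at hby
  rw [hby, RingEquiv.symm_apply_apply]

theorem emb_comp_i' (φ : 𝒜.toQCAlg ⟶ (𝔅).toQCAlg)
    (hφe : ∀ (U : S.AffineZariskiSite) (b : 𝔸 U),
      (φ.hom.app (op U.1)).hom b = (𝔢 U).symm (Ideal.Quotient.mk (𝔍 U) b))
    (hφ : RelProj.IsGradedHom φ) (U : S.AffineZariskiSite)
    (hirr : ((𝔅).deg U.1 U.2)₊ ≤ ((𝒜.deg U.1 U.2)₊).map (ProjQMap.ψU φ hφ U.1 U.2)) :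
    RelProj.emb (i ≫ p) (chartB 𝒜 p chart i hP hfc) U.1 U.2 ≫ i =
      Proj.map (ProjQMap.ψU φ hφ U.1 U.2) hirr ≫ RelProj.emb p chart U.1 U.2 := by
  have h1 : (chartB 𝒜 p chart i hP hfc U.1 U.2).inv =
      Proj.map (bwd (𝔢 U) (heB 𝒜 p chart i hP hfc U)) (bwd_irr _ _) ≫
        (eU 𝒜 p chart i hfc U).inv := by
    change (chartA 𝒜 p chart i hP hfc U).inv = _
    unfold chartA
    rw [Iso.trans_inv, Iso.symm_inv, projIso_hom]
  have h2 : (eU 𝒜 p chart i hfc U).inv ≫ 𝔦 U = Proj.map (qmk (𝔤 U) (𝔦 U)) (qmk_irr _ _) :=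
    (Iso.inv_comp_eq _).mpr (eU_hom 𝒜 p chart i hP hfc U).symm
  have h3 : (ZU p i U.1).ι ≫ i = 𝔦 U ≫ RelProj.emb p chart U.1 U.2 :=
    (iU_emb 𝒜 p chart i U).symm
  have h4 : RelProj.emb (i ≫ p) (chartB 𝒜 p chart i hP hfc) U.1 U.2 =
      (chartB 𝒜 p chart i hP hfc U.1 U.2).inv ≫ (ZU p i U.1).ι := rfl
  have hE : Proj.map (bwd (𝔢 U) (heB 𝒜 p chart i hP hfc U)) (bwd_irr _ _) ≫
      Proj.map (qmk (𝔤 U) (𝔦 U)) (qmk_irr _ _) = Proj.map (ProjQMap.ψU φ hφ U.1 U.2) hirr := by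
    rw [← Proj.map_comp]
    refine map_congr (GradedRingHom.ext fun a => ?_) _ _
    exact ((ProjQMap.ψU_apply φ hφ U.1 U.2 a).trans (hφe U a)).symm
  change ((chartB 𝒜 p chart i hP hfc U.1 U.2).inv ≫ (ZU p i U.1).ι) ≫ i = _
  exact (comp_aux _ _ _ _ _ _ _ _ h1 h2 h3).trans (congrArg (· ≫ RelProj.emb p chart U.1 U.2) hE)

theorem emb_comp_i (φ : 𝒜.toQCAlg ⟶ (𝔅).toQCAlg)
    (hφe : ∀ (U : S.AffineZariskiSite) (b : 𝔸 U),
      (φ.hom.app (op U.1)).hom b = (𝔢 U).symm (Ideal.Quotient.mk (𝔍 U) b))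
    (hφ : RelProj.IsGradedHom φ) (U : S.Opens) (hU : IsAffineOpen U)
    (hirr : ((𝔅).deg U hU)₊ ≤ ((𝒜.deg U hU)₊).map (ProjQMap.ψU φ hφ U hU)) :
    RelProj.emb (i ≫ p) (chartB 𝒜 p chart i hP hfc) U hU ≫ i =
      Proj.map (ProjQMap.ψU φ hφ U hU) hirr ≫ RelProj.emb p chart U hU :=
  emb_comp_i' 𝒜 p chart i hP hfc φ hφe hφ ⟨U, hU⟩ hirr

theorem isProjQMap_i (φ : 𝒜.toQCAlg ⟶ (𝔅).toQCAlg)
    (hφe : ∀ (U : S.AffineZariskiSite) (b : 𝔸 U),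
      (φ.hom.app (op U.1)).hom b = (𝔢 U).symm (Ideal.Quotient.mk (𝔍 U) b))
    (hφ : RelProj.IsGradedHom φ) :
    RelProj.IsProjQMap (RelProj.QGrHom.ofHom φ hφ) p chart (i ≫ p)
      (chartB 𝒜 p chart i hP hfc) i := by
  have hB := isRelProj 𝒜 p chart i hP hfc
  have hTN : ∀ k, 0 ≤ k → ∀ (U : S.Opens) (hU : IsAffineOpen U),
      ∀ y ∈ (𝔅).deg U hU k, ∃ x ∈ 𝒜.deg U hU k, (φ.hom.app (op U)).hom x = y :=
    fun k _ U hU y hy => phi_surj_deg 𝒜 p chart i hP hfc φ hφe k U hU y hy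
  have hcov : ProjQMap.Cov φ hφ := ProjQMap.cov_of_tn φ hφ 0 hTN
  have hG : RelProj.domQ (RelProj.QGrHom.ofHom φ hφ) (i ≫ p) (chartB 𝒜 p chart i hP hfc) = ⊤ :=
    ProjQMap.domQ_eq_top φ hφ hcov
  obtain ⟨ϖ, hϖ⟩ := ProjQGlue.exists_isProjQMapOn (u := RelProj.QGrHom.ofHom φ hφ) p chart
    (i ≫ p) (chartB 𝒜 p chart i hP hfc) hP hB
  haveI : IsIso (RelProj.domQ (RelProj.QGrHom.ofHom φ hφ) (i ≫ p)
      (chartB 𝒜 p chart i hP hfc)).ι := by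
    rw [hG]
    exact (inferInstance : IsIso (Scheme.topIso Z).hom)
  have hh : RelProj.IsProjQMap (RelProj.QGrHom.ofHom φ hφ) p chart (i ≫ p)
      (chartB 𝒜 p chart i hP hfc)
      (inv (RelProj.domQ (RelProj.QGrHom.ofHom φ hφ) (i ≫ p)
        (chartB 𝒜 p chart i hP hfc)).ι ≫ ϖ) := by
    refine ⟨hG, ?_⟩
    intro U hU U₁ hU₁ hle d hd f hf
    rw [← hϖ U hU U₁ hU₁ hle d hd f hf
      (RelProj.range_awayEmb_subset_domQ (RelProj.QGrHom.ofHom φ hφ) (i ≫ p)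
        (chartB 𝒜 p chart i hP hfc) U hU U₁ hU₁ hle hd f hf), ← Category.assoc]
    congr 1
    rw [IsIso.comp_inv_eq, IsOpenImmersion.lift_fac]
  have heq : inv (RelProj.domQ (RelProj.QGrHom.ofHom φ hφ) (i ≫ p)
      (chartB 𝒜 p chart i hP hfc)).ι ≫ ϖ = i := by
    refine (ProjQMap.coverB (pB := i ≫ p) (chartB := chartB 𝒜 p chart i hP hfc) φ hφ
      hcov).hom_ext _ _ (fun idx => ?_)
    have h1 := ProjQMap.eqs_of_isProjQMap φ hφ _ hh idx.1.1 idx.1.2 idx.2.1.1 idx.2.1.2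
      idx.2.2.1 idx.2.2.2
    refine h1.trans ?_
    have hirr : ((𝔅).deg idx.1.1 idx.1.2)₊ ≤
        ((𝒜.deg idx.1.1 idx.1.2)₊).map (ProjQMap.ψU φ hφ idx.1.1 idx.1.2) :=
      irrelevant_le_of_surj _ (fun d b hb => by
        obtain ⟨x, hx, hxb⟩ := phi_surj_deg 𝒜 p chart i hP hfc φ hφe d idx.1.1 idx.1.2 b hb
        exact ⟨x, hx, (ProjQMap.ψU_apply φ hφ idx.1.1 idx.1.2 x).trans hxb⟩)
    symm
    change (Proj.awayι _ _ _ _ ≫ RelProj.emb (i ≫ p) (chartB 𝒜 p chart i hP hfc) idx.1.1 idx.1.2) ≫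
      i = _
    rw [Category.assoc, emb_comp_i 𝒜 p chart i hP hfc φ hφe hφ idx.1.1 idx.1.2 hirr]
    exact Proj.awayι_comp_map_assoc (ProjQMap.ψU φ hφ idx.1.1 idx.1.2) hirr idx.2.1.2 _
      idx.2.2.2 (RelProj.emb p chart idx.1.1 idx.1.2)
  rwa [heq] at hh

/-- a closed subscheme of a quasi-compact relative `Proj` is the relative `Proj` of a graded
quotient -/
theorem exists_all :
    ∃ (ℬ' : RelProj.QCGrAlg S) (φ : 𝒜.toQCAlg ⟶ ℬ'.toQCAlg) (hφ : RelProj.IsGradedHom φ)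
      (PB : Scheme.{u}) (pB : PB ⟶ S)
      (chartB' : ∀ (U : S.Opens) (hU : IsAffineOpen U),
        (((pB ⁻¹ᵁ U : PB.Opens) : Scheme.{u}) ≅ Proj (ℬ'.deg U hU)))
      (h : PB ⟶ P) (e : PB ≅ Z),
      (∀ (U : S.Opens), IsAffineOpen U → Function.Surjective (φ.hom.app (op U)).hom) ∧
        RelProj.IsRelProj ℬ' pB chartB' ∧
        RelProj.IsProjQMap (RelProj.QGrHom.ofHom φ hφ) p chart pB chartB' h ∧
        e.hom ≫ i = h := by
  obtain ⟨φ, hφe⟩ := exists_phi 𝒜 p chart i hP hfc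
  have hφ := phi_graded 𝒜 p chart i hP hfc φ hφe
  exact ⟨𝔅, φ, hφ, Z, i ≫ p, chartB 𝒜 p chart i hP hfc, i, Iso.refl Z,
    fun U hU => phi_surj 𝒜 p chart i hP hfc φ hφe U hU, isRelProj 𝒜 p chart i hP hfc,
    isProjQMap_i 𝒜 p chart i hP hfc φ hφe hφ, Category.id_comp _⟩

end Site

theorem finCoverG_of_compact {A : Type u} [CommRing A] (𝒢 : ℕ → AddSubgroup A) [GradedRing 𝒢]
    [CompactSpace (Proj 𝒢)] : FinCoverG 𝒢 := by
  classical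
  have hcov : ∀ x : Proj 𝒢, ∃ q : {q : A × ℕ // 0 < q.2 ∧ q.1 ∈ 𝒢 q.2},
      x ∈ Proj.basicOpen 𝒢 q.1.1 := by
    intro x
    obtain ⟨d, hd, b, hb, hbx⟩ := ProjQMap.exists_pos_notMem x
    exact ⟨⟨(b, d), hd, hb⟩, hbx⟩
  obtain ⟨t, ht⟩ := isCompact_univ.elim_finite_subcover
    (fun q : {q : A × ℕ // 0 < q.2 ∧ q.1 ∈ 𝒢 q.2} =>
      ((Proj.basicOpen 𝒢 q.1.1 : (Proj 𝒢).Opens) : Set (Proj 𝒢)))
    (fun q => (Proj.basicOpen 𝒢 q.1.1).isOpen)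
    (fun x _ => by
      obtain ⟨q, hq⟩ := hcov x
      exact Set.mem_iUnion.mpr ⟨q, hq⟩)
  refine ⟨{q // q ∈ t}, inferInstance, fun q => q.1.1.1, fun q => q.1.1.2, fun q => q.1.2,
    fun x => ?_⟩
  have h1 := ht (Set.mem_univ x)
  simp only [Set.mem_iUnion] at h1
  obtain ⟨q, hq, hx⟩ := h1
  exact ⟨⟨q, hq⟩, hx⟩

include chart in
theorem finCoverG_of_quasiCompact [QuasiCompact p] (U : S.AffineZariskiSite) :
    FinCoverG (gU 𝒜 U) := by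
  have h1 : IsCompact ((p ⁻¹ᵁ U.1 : P.Opens) : Set P) := p.isCompact_preimage U.2.isCompact
  haveI : CompactSpace ((p ⁻¹ᵁ U.1 : P.Opens) : Scheme.{u}) := isCompact_iff_compactSpace.mp h1
  haveI : CompactSpace (Proj (gU 𝒜 U)) := (Scheme.homeoOfIso (chart U.1 U.2)).compactSpace
  exact finCoverG_of_compact (gU 𝒜 U)

/-- closed subschemes of a quasi-compact relative `Proj` -/
theorem exists_all' (hP : RelProj.IsRelProj 𝒜 p chart) [QuasiCompact p] [IsClosedImmersion i] :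
    ∃ (ℬ' : RelProj.QCGrAlg S) (φ : 𝒜.toQCAlg ⟶ ℬ'.toQCAlg) (hφ : RelProj.IsGradedHom φ)
      (PB : Scheme.{u}) (pB : PB ⟶ S)
      (chartB' : ∀ (U : S.Opens) (hU : IsAffineOpen U),
        (((pB ⁻¹ᵁ U : PB.Opens) : Scheme.{u}) ≅ Proj (ℬ'.deg U hU)))
      (h : PB ⟶ P) (e : PB ≅ Z),
      (∀ (U : S.Opens), IsAffineOpen U → Function.Surjective (φ.hom.app (op U)).hom) ∧
        RelProj.IsRelProj ℬ' pB chartB' ∧
        RelProj.IsProjQMap (RelProj.QGrHom.ofHom φ hφ) p chart pB chartB' h ∧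
        e.hom ≫ i = h :=
  exists_all 𝒜 p chart i hP (fun U => finCoverG_of_quasiCompact 𝒜 p chart U)

end Groth.Agent.Lib.Helper3.CPgB
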