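import Groth.Agent.Lib.Helper3.CPa

/-!
# The homogeneous ideal of a closed subscheme of `Proj 𝒜`, for gradings by additive subgroups
-/

set_option autoImplicit false
set_option linter.unusedSectionVars false
universe u
open CategoryTheory CategoryTheory.Limits AlgebraicGeometry TopologicalSpace Opposite
open Scheme.Modules
open scoped HomogeneousIdeal

namespace Groth.Agent.Lib.Helper3.CPw

open QCSec TwistBasic GrTildeQC ProjFrac GrTildeHom ProjMapFn ProjClosed ToProj GrTransport CPa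

attribute [local instance 10] ULift.algebra'

/-- the integers in the universe `u` -/
abbrev ZZ : Type u := ULift.{u} ℤ

section Sm

variable {A : Type u} [CommRing A] (𝒜 : ℕ → AddSubgroup A)

/-- a grading by additive subgroups as a grading by `ℤ`-submodules -/
def sm (n : ℕ) : Submodule ZZ.{u} A where
  carrier := 𝒜 n
  add_mem' := fun ha hb => add_mem ha hb
  zero_mem' := zero_mem _
  smul_mem' := fun c x hx => by
    have e : c • x = c.down • x := rfl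
    rw [e]
    exact zsmul_mem hx _

theorem mem_sm {n : ℕ} {a : A} : a ∈ sm 𝒜 n ↔ a ∈ 𝒜 n := Iff.rfl

variable [GradedRing 𝒜]

/-- the identity on graded pieces -/
def toSmPiece (d : ℕ) : 𝒜 d →+ sm 𝒜 d where
  toFun a := ⟨a.1, a.2⟩
  map_zero' := rfl
  map_add' _ _ := rfl

/-- the decomposition map -/
noncomputable def dec : A →+ DirectSum ℕ (fun d => sm 𝒜 d) :=
  (DirectSum.map (toSmPiece 𝒜)).comp (DirectSum.decomposeAddEquiv 𝒜).toAddMonoidHom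

theorem coe_map (z : DirectSum ℕ (fun d => 𝒜 d)) :
    DirectSum.coeAddMonoidHom (sm 𝒜) (DirectSum.map (toSmPiece 𝒜) z) =
      DirectSum.coeAddMonoidHom 𝒜 z := by
  have key : (DirectSum.coeAddMonoidHom (sm 𝒜)).comp (DirectSum.map (toSmPiece 𝒜)) =
      DirectSum.coeAddMonoidHom 𝒜 := by
    apply DirectSum.addHom_ext
    intro i x
    simp only [AddMonoidHom.comp_apply, DirectSum.map_of, DirectSum.coeAddMonoidHom_of]
    rfl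
  exact DFunLike.congr_fun key z

theorem coe_dec (a : A) : DirectSum.coeAddMonoidHom (sm 𝒜) (dec 𝒜 a) = a := by
  change DirectSum.coeAddMonoidHom (sm 𝒜)
    (DirectSum.map (toSmPiece 𝒜) (DirectSum.decompose 𝒜 a)) = a
  rw [coe_map]
  exact DirectSum.Decomposition.left_inv a

theorem dec_coe (z : DirectSum ℕ (fun d => sm 𝒜 d)) :
    dec 𝒜 (DirectSum.coeAddMonoidHom (sm 𝒜) z) = z := by
  have key : (dec 𝒜).comp (DirectSum.coeAddMonoidHom (sm 𝒜)) = AddMonoidHom.id _ := by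
    apply DirectSum.addHom_ext
    intro i x
    simp only [AddMonoidHom.comp_apply, DirectSum.coeAddMonoidHom_of, AddMonoidHom.id_apply]
    change DirectSum.map (toSmPiece 𝒜) (DirectSum.decompose 𝒜 (x : A)) = _
    rw [DirectSum.decompose_of_mem 𝒜 (show (x : A) ∈ 𝒜 i from x.2), DirectSum.map_of]
    rfl
  exact DFunLike.congr_fun key z

noncomputable instance smGraded : GradedAlgebra (sm 𝒜) where
  one_mem := by
    change (1 : A) ∈ 𝒜 0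
    exact SetLike.GradedOne.one_mem
  mul_mem := by
    intro i j a b ha hb
    change a * b ∈ 𝒜 (i + j)
    exact SetLike.mul_mem_graded ha hb
  decompose' := dec 𝒜
  left_inv := coe_dec 𝒜
  right_inv := dec_coe 𝒜

theorem he (d : ℕ) (a : A) : a ∈ 𝒜 d ↔ (RingEquiv.refl A) a ∈ sm 𝒜 d := Iff.rfl

/-- the two `Proj`s agree -/
noncomputable def smIso : Proj 𝒜 ≅ Proj (sm 𝒜) := projIso (RingEquiv.refl A) (he 𝒜)

/-- the identity as a graded homomorphism -/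
def toSm : 𝒜 →+*ᵍ sm 𝒜 := fwd (RingEquiv.refl A) (he 𝒜)

/-- the identity as a graded homomorphism -/
def ofSm : sm 𝒜 →+*ᵍ 𝒜 := bwd (RingEquiv.refl A) (he 𝒜)

theorem smIso_hom : (smIso 𝒜).hom = Proj.map (ofSm 𝒜) (bwd_irr _ _) := rfl

theorem smIso_inv : (smIso 𝒜).inv = Proj.map (toSm 𝒜) (fwd_irr _ _) := rfl

theorem cover_sm {κ : Type u} {f : κ → A}
    (hcov : ∀ x : Proj 𝒜, ∃ k, x ∈ Proj.basicOpen 𝒜 (f k)) :
    ∀ x : Proj (sm 𝒜), ∃ k, x ∈ Proj.basicOpen (sm 𝒜) (f k) := by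
  intro x
  obtain ⟨k, hk⟩ := hcov ((smIso 𝒜).inv x)
  exact ⟨k, hk⟩

/-- finitely many elements of degree one whose charts cover -/
def FinCover : Prop :=
  ∃ (κ : Type u) (_ : Finite κ) (f : κ → A), (∀ k, f k ∈ 𝒜 1) ∧
    ∀ x : Proj 𝒜, ∃ k, x ∈ Proj.basicOpen 𝒜 (f k)

end Sm

section Wrap

variable {A : Type u} [CommRing A] (𝒜 : ℕ → AddSubgroup A) [GradedRing 𝒜] {Z : Scheme.{u}}
  (ι : Z ⟶ Proj 𝒜)

/-- the morphism to the `Proj` of the submodule grading -/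
noncomputable abbrev ιs : Z ⟶ Proj (sm 𝒜) := ι ≫ (smIso 𝒜).hom

/-- the homogeneous ideal of a morphism to `Proj` -/
noncomputable abbrev KK : Ideal A := K (ιs 𝒜 ι)

/-- the grading of the quotient -/
noncomputable def qgr : ℕ → AddSubgroup (A ⧸ KK 𝒜 ι) :=
  tr (RingEquiv.refl _) (GrQuot.piece (sm 𝒜) (KK 𝒜 ι))

noncomputable instance qgrGraded : GradedRing (qgr 𝒜 ι) :=
  gradedRing (RingEquiv.refl _) (GrQuot.piece (sm 𝒜) (KK 𝒜 ι))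

theorem mem_qgr {d : ℕ} {x : A ⧸ KK 𝒜 ι} :
    x ∈ qgr 𝒜 ι d ↔ x ∈ GrQuot.piece (sm 𝒜) (KK 𝒜 ι) d := Iff.rfl

/-- the quotient map as a graded homomorphism -/
noncomputable def qmk : 𝒜 →+*ᵍ qgr 𝒜 ι where
  toRingHom := Ideal.Quotient.mk (KK 𝒜 ι)
  map_mem := fun ha => GrQuot.mk_mem_piece (sm 𝒜) (KK 𝒜 ι) ha

theorem qmk_apply (a : A) : qmk 𝒜 ι a = Ideal.Quotient.mk (KK 𝒜 ι) a := rfl

theorem exists_of_mem_qgr {d : ℕ} {x : A ⧸ KK 𝒜 ι} (hx : x ∈ qgr 𝒜 ι d) :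
    ∃ a ∈ 𝒜 d, qmk 𝒜 ι a = x :=
  GrQuot.exists_of_mem_piece (sm 𝒜) (KK 𝒜 ι) hx

theorem qmk_irr : (qgr 𝒜 ι)₊ ≤ 𝒜₊.map (qmk 𝒜 ι) :=
  irrelevant_le_of_surj _ (fun _ _ hb => exists_of_mem_qgr 𝒜 ι hb)

theorem he_q (d : ℕ) (a : A ⧸ KK 𝒜 ι) :
    a ∈ qgr 𝒜 ι d ↔ (RingEquiv.refl _) a ∈ GrQuot.piece (sm 𝒜) (KK 𝒜 ι) d := Iff.rfl

/-- the two `Proj`s of the quotient agree -/
noncomputable def qIso : Proj (qgr 𝒜 ι) ≅ Proj (GrQuot.piece (sm 𝒜) (KK 𝒜 ι)) :=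
  projIso (RingEquiv.refl _) (he_q 𝒜 ι)

theorem qIso_inv : (qIso 𝒜 ι).inv =
    Proj.map (fwd (RingEquiv.refl _) (he_q 𝒜 ι)) (fwd_irr _ _) := rfl

/-- a closed subscheme of `Proj 𝒜` is the `Proj` of the quotient by its homogeneous ideal -/
theorem exists_e [IsClosedImmersion ι] (hfc : FinCover 𝒜) :
    ∃ e : Z ≅ Proj (qgr 𝒜 ι), e.hom ≫ Proj.map (qmk 𝒜 ι) (qmk_irr 𝒜 ι) = ι := by
  obtain ⟨κ, _, f, hf, hcov⟩ := hfc
  obtain ⟨e₀, he₀⟩ := exists_eK (ιs 𝒜 ι) (f := f) hf (cover_sm 𝒜 hcov)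
  refine ⟨e₀ ≪≫ (qIso 𝒜 ι).symm, ?_⟩
  have h2 : e₀.hom ≫ Proj.map (GrQuot.mkHom (sm 𝒜) (KK 𝒜 ι))
      (GrQuot.irrelevant_le _ _ (K_homogeneous (ιs 𝒜 ι))) ≫ (smIso 𝒜).inv = ι := by
    rw [← Category.assoc, he₀, Category.assoc, Iso.hom_inv_id, Category.comp_id]
  refine Eq.trans ?_ h2
  rw [Iso.trans_hom, Iso.symm_hom, Category.assoc]
  congr 1
  rw [qIso_inv, smIso_inv, ← Proj.map_comp, ← Proj.map_comp]
  exact map_congr (GradedRingHom.ext fun a => rfl) _ _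

end Wrap

section Fun

variable {A A' : Type u} [CommRing A] [CommRing A'] {𝒜 : ℕ → AddSubgroup A}
  {𝒜' : ℕ → AddSubgroup A'} [GradedRing 𝒜] [GradedRing 𝒜'] (θ : 𝒜 →+*ᵍ 𝒜')
  (hθ : 𝒜'₊ ≤ 𝒜₊.map θ) {Z Z' : Scheme.{u}} (ι : Z ⟶ Proj 𝒜) (ι' : Z' ⟶ Proj 𝒜') (h : Z' ⟶ Z)
  (hc : h ≫ ι = ι' ≫ Proj.map θ hθ)

/-- the same homomorphism for the submodule gradings -/
def θs : sm 𝒜 →+*ᵍ sm 𝒜' where
  toRingHom := θ.toRingHom
  map_mem := fun hx => θ.map_mem hx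

theorem θs_apply (a : A) : θs θ a = θ a := rfl

include hθ in
theorem hθs : (sm 𝒜')₊ ≤ (sm 𝒜)₊.map (θs θ) :=
  irrelevant_le_of_square θ hθ (toSm 𝒜) (toSm 𝒜') (θs θ) (fun _ => rfl)
    (fun _ b hb => ⟨b, hb, rfl⟩)

include hc in
theorem hcs : h ≫ ιs 𝒜 ι = ιs 𝒜' ι' ≫ Proj.map (θs θ) (hθs θ hθ) := by
  have e : Proj.map θ hθ ≫ (smIso 𝒜).hom = (smIso 𝒜').hom ≫ Proj.map (θs θ) (hθs θ hθ) := by
    rw [smIso_hom, smIso_hom, ← Proj.map_comp, ← Proj.map_comp]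
    exact map_congr (GradedRingHom.ext fun a => rfl) _ _
  change h ≫ ι ≫ (smIso 𝒜).hom = (ι' ≫ (smIso 𝒜').hom) ≫ Proj.map (θs θ) (hθs θ hθ)
  rw [← Category.assoc, hc, Category.assoc, e, Category.assoc]

include hc in
theorem map_mem_KK [IsClosedImmersion ι] [IsClosedImmersion ι'] (hfc : FinCover 𝒜) {a : A}
    (ha : a ∈ KK 𝒜 ι) : θ a ∈ KK 𝒜' ι' := by
  obtain ⟨κ, _, f, hf, hcov⟩ := hfc
  exact map_mem_K (θs θ) (hθs θ hθ) (ιs 𝒜 ι) (ιs 𝒜' ι') h (hcs θ hθ ι ι' h hc) (f := f) hf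
    (cover_sm 𝒜 hcov) ha

include hc in
theorem exists_pow_mul_mem_KK [IsClosedImmersion ι] [IsClosedImmersion ι'] (hfc : FinCover 𝒜)
    (s : A) (hs : s ∈ 𝒜 0) [IsOpenImmersion h]
    (hrange : h.opensRange = ι ⁻¹ᵁ Proj.basicOpen 𝒜 s) (a : A) (hJ : θ a ∈ KK 𝒜' ι') :
    ∃ N : ℕ, s ^ N * a ∈ KK 𝒜 ι := by
  obtain ⟨κ, _, f, hf, hcov⟩ := hfc
  have hrange' : h.opensRange = ιs 𝒜 ι ⁻¹ᵁ Proj.basicOpen (sm 𝒜) s := by
    rw [hrange]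
    rfl
  exact exists_pow_mul_mem (θs θ) (hθs θ hθ) (ιs 𝒜 ι) (ιs 𝒜' ι') h (hcs θ hθ ι ι' h hc) s hs
    hrange' (f := f) hf (cover_sm 𝒜 hcov) a hJ

/-- the induced graded homomorphism of the quotients -/
noncomputable def qHom (hle : ∀ a, a ∈ KK 𝒜 ι → θ a ∈ KK 𝒜' ι') : qgr 𝒜 ι →+*ᵍ qgr 𝒜' ι' where
  toRingHom := Ideal.quotientMap (KK 𝒜' ι') θ.toRingHom (fun a ha => hle a ha)
  map_mem := by
    intro d x hx
    obtain ⟨a, ha, rfl⟩ := exists_of_mem_qgr 𝒜 ι hx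
    exact (qmk 𝒜' ι').map_mem (θ.map_mem ha)

theorem qHom_mk (hle : ∀ a, a ∈ KK 𝒜 ι → θ a ∈ KK 𝒜' ι') (a : A) :
    qHom θ ι ι' hle (Ideal.Quotient.mk (KK 𝒜 ι) a) = Ideal.Quotient.mk (KK 𝒜' ι') (θ a) := rfl

include hθ in
theorem irr_q (hle : ∀ a, a ∈ KK 𝒜 ι → θ a ∈ KK 𝒜' ι') :
    (qgr 𝒜' ι')₊ ≤ (qgr 𝒜 ι)₊.map (qHom θ ι ι' hle) :=
  irrelevant_le_of_square θ hθ (qmk 𝒜 ι) (qmk 𝒜' ι') (qHom θ ι ι' hle) (fun _ => rfl)
    (fun _ _ hb => exists_of_mem_qgr 𝒜' ι' hb)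

include hc in
theorem e_comp' [IsClosedImmersion ι] (hle : ∀ a, a ∈ KK 𝒜 ι → θ a ∈ KK 𝒜' ι')
    (e : Z ≅ Proj (qgr 𝒜 ι)) (he : e.hom ≫ Proj.map (qmk 𝒜 ι) (qmk_irr 𝒜 ι) = ι)
    (e' : Z' ≅ Proj (qgr 𝒜' ι')) (he' : e'.hom ≫ Proj.map (qmk 𝒜' ι') (qmk_irr 𝒜' ι') = ι') :
    h ≫ e.hom = e'.hom ≫ Proj.map (qHom θ ι ι' hle) (irr_q θ hθ ι ι' hle) := by
  haveI : Mono (Proj.map (qmk 𝒜 ι) (qmk_irr 𝒜 ι)) := by
    have h0 : Proj.map (qmk 𝒜 ι) (qmk_irr 𝒜 ι) = e.inv ≫ ι := (Iso.eq_inv_comp e).mpr he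
    rw [h0]
    infer_instance
  have hR : (e'.hom ≫ Proj.map (qHom θ ι ι' hle) (irr_q θ hθ ι ι' hle)) ≫
      Proj.map (qmk 𝒜 ι) (qmk_irr 𝒜 ι) =
      (e'.hom ≫ Proj.map (qmk 𝒜' ι') (qmk_irr 𝒜' ι')) ≫ Proj.map θ hθ := by
    rw [Category.assoc, Category.assoc, ← Proj.map_comp, ← Proj.map_comp]
    congr 1
  rw [← cancel_mono (Proj.map (qmk 𝒜 ι) (qmk_irr 𝒜 ι)), Category.assoc, he, hc, hR, he']

end Fun

end Groth.Agent.Lib.Helper3.CPw
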