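import Groth.Agent.Lib.Helper3.CPg
import Groth.Agent.Lib.Helper3.CPw

/-!
# The homogeneous ideal of a closed subscheme of `Proj 𝒜`, charts of arbitrary degrees, for
gradings by additive subgroups
-/

set_option autoImplicit false
set_option linter.unusedSectionVars false
universe u
open CategoryTheory CategoryTheory.Limits AlgebraicGeometry TopologicalSpace Opposite
open Scheme.Modules
open scoped HomogeneousIdeal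

namespace Groth.Agent.Lib.Helper3.CPgW

open QCSec TwistBasic GrTildeQC ProjFrac GrTildeHom ProjMapFn ProjClosed ToProj GrTransport CPg
open CPa (irrelevant_le_of_square)
open CPw (sm smIso toSm ofSm smIso_hom smIso_inv cover_sm θs θs_apply hθs hcs ιs ZZ mem_sm)

attribute [local instance 10] ULift.algebra'

section Sm

variable {A : Type u} [CommRing A] (𝒜 : ℕ → AddSubgroup A) [GradedRing 𝒜]

/-- finitely many homogeneous elements of positive degrees whose charts cover -/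
def FinCoverG : Prop :=
  ∃ (κ : Type u) (_ : Finite κ) (f : κ → A) (df : κ → ℕ), (∀ k, 0 < df k ∧ f k ∈ 𝒜 (df k)) ∧
    ∀ x : Proj 𝒜, ∃ k, x ∈ Proj.basicOpen 𝒜 (f k)

end Sm

section Wrap

variable {A : Type u} [CommRing A] (𝒜 : ℕ → AddSubgroup A) [GradedRing 𝒜] {Z : Scheme.{u}}
  (ι : Z ⟶ Proj 𝒜)

/-- the homogeneous ideal of a morphism to `Proj` -/
noncomputable abbrev KK : Ideal A := K' (ιs 𝒜 ι)

/-- the grading of the quotient -/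
noncomputable def qgr : ℕ → AddSubgroup (A ⧸ KK 𝒜 ι) :=
  tr (RingEquiv.refl _) (GrQuot.piece (sm 𝒜) (KK 𝒜 ι))

noncomputable instance qgrGraded : GradedRing (qgr 𝒜 ι) :=
  gradedRing (RingEquiv.refl _) (GrQuot.piece (sm 𝒜) (KK 𝒜 ι))

theorem mem_qgr {d : ℕ} {x : A ⧸ KK 𝒜 ι} :
    x ∈ qgr 𝒜 ι d ↔ x ∈ GrQuot.piece (sm 𝒜) (KK 𝒜 ι) d := Iff.rfl

/-- the quotient map as a graded homomorphism -/
noncomputable def qmk : 𝒜 →+*ᵍ qgr 𝒜 ι where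
  toRingHom := Ideal.Quotient.mk (KK 𝒜 ι)
  map_mem := fun ha => GrQuot.mk_mem_piece (sm 𝒜) (KK 𝒜 ι) ha

theorem qmk_apply (a : A) : qmk 𝒜 ι a = Ideal.Quotient.mk (KK 𝒜 ι) a := rfl

theorem exists_of_mem_qgr {d : ℕ} {x : A ⧸ KK 𝒜 ι} (hx : x ∈ qgr 𝒜 ι d) :
    ∃ a ∈ 𝒜 d, qmk 𝒜 ι a = x :=
  GrQuot.exists_of_mem_piece (sm 𝒜) (KK 𝒜 ι) hx

theorem qmk_irr : (qgr 𝒜 ι)₊ ≤ 𝒜₊.map (qmk 𝒜 ι) :=
  irrelevant_le_of_surj _ (fun _ _ hb => exists_of_mem_qgr 𝒜 ι hb)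

theorem he_q (d : ℕ) (a : A ⧸ KK 𝒜 ι) :
    a ∈ qgr 𝒜 ι d ↔ (RingEquiv.refl _) a ∈ GrQuot.piece (sm 𝒜) (KK 𝒜 ι) d := Iff.rfl

/-- the two `Proj`s of the quotient agree -/
noncomputable def qIso : Proj (qgr 𝒜 ι) ≅ Proj (GrQuot.piece (sm 𝒜) (KK 𝒜 ι)) :=
  projIso (RingEquiv.refl _) (he_q 𝒜 ι)

theorem qIso_inv : (qIso 𝒜 ι).inv =
    Proj.map (fwd (RingEquiv.refl _) (he_q 𝒜 ι)) (fwd_irr _ _) := rfl

/-- a closed subscheme of `Proj 𝒜` is the `Proj` of the quotient by its homogeneous ideal -/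
theorem exists_e [IsClosedImmersion ι] (hfc : FinCoverG 𝒜) :
    ∃ e : Z ≅ Proj (qgr 𝒜 ι), e.hom ≫ Proj.map (qmk 𝒜 ι) (qmk_irr 𝒜 ι) = ι := by
  obtain ⟨κ, _, f, df, hf, hcov⟩ := hfc
  obtain ⟨e₀, he₀⟩ := exists_eK' (ιs 𝒜 ι) (f := f) (df := df) hf (cover_sm 𝒜 hcov)
  refine ⟨e₀ ≪≫ (qIso 𝒜 ι).symm, ?_⟩
  have h2 : e₀.hom ≫ Proj.map (GrQuot.mkHom (sm 𝒜) (KK 𝒜 ι))
      (GrQuot.irrelevant_le _ _ (K'_homogeneous (ιs 𝒜 ι))) ≫ (smIso 𝒜).inv = ι := by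
    rw [← Category.assoc, he₀, Category.assoc, Iso.hom_inv_id, Category.comp_id]
  refine Eq.trans ?_ h2
  rw [Iso.trans_hom, Iso.symm_hom, Category.assoc]
  congr 1
  rw [qIso_inv, smIso_inv, ← Proj.map_comp, ← Proj.map_comp]
  exact map_congr (GradedRingHom.ext fun a => rfl) _ _

end Wrap

section Fun

variable {A A' : Type u} [CommRing A] [CommRing A'] {𝒜 : ℕ → AddSubgroup A}
  {𝒜' : ℕ → AddSubgroup A'} [GradedRing 𝒜] [GradedRing 𝒜'] (θ : 𝒜 →+*ᵍ 𝒜')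
  (hθ : 𝒜'₊ ≤ 𝒜₊.map θ) {Z Z' : Scheme.{u}} (ι : Z ⟶ Proj 𝒜) (ι' : Z' ⟶ Proj 𝒜') (h : Z' ⟶ Z)
  (hc : h ≫ ι = ι' ≫ Proj.map θ hθ)

include hc in
theorem map_mem_KK [IsClosedImmersion ι] [IsClosedImmersion ι'] {a : A}
    (ha : a ∈ KK 𝒜 ι) : θ a ∈ KK 𝒜' ι' :=
  map_mem_K' (θs θ) (hθs θ hθ) (ιs 𝒜 ι) (ιs 𝒜' ι') h (hcs θ hθ ι ι' h hc) ha

include hc in
theorem exists_pow_mul_mem_KK [IsClosedImmersion ι] [IsClosedImmersion ι'] (hfc : FinCoverG 𝒜)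
    (s : A) (hs : s ∈ 𝒜 0) [IsOpenImmersion h]
    (hrange : h.opensRange = ι ⁻¹ᵁ Proj.basicOpen 𝒜 s)
    (hsurjθ : ∀ z : A', ∃ (n : ℕ) (a : A), θ a = θ s ^ n * z)
    (hinjθ : ∀ a : A, θ a = 0 → ∃ n : ℕ, s ^ n * a = 0)
    (a : A) (hJ : θ a ∈ KK 𝒜' ι') :
    ∃ N : ℕ, s ^ N * a ∈ KK 𝒜 ι := by
  obtain ⟨κ, _, f, df, hf, hcov⟩ := hfc
  have hrange' : h.opensRange = ιs 𝒜 ι ⁻¹ᵁ Proj.basicOpen (sm 𝒜) s := by
    rw [hrange]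
    rfl
  exact exists_pow_mul_mem' (θs θ) (hθs θ hθ) (ιs 𝒜 ι) (ιs 𝒜' ι') h (hcs θ hθ ι ι' h hc) s hs
    hrange' hsurjθ hinjθ (f := f) (df := df) hf (cover_sm 𝒜 hcov) a hJ

/-- the induced graded homomorphism of the quotients -/
noncomputable def qHom (hle : ∀ a, a ∈ KK 𝒜 ι → θ a ∈ KK 𝒜' ι') : qgr 𝒜 ι →+*ᵍ qgr 𝒜' ι' where
  toRingHom := Ideal.quotientMap (KK 𝒜' ι') θ.toRingHom (fun a ha => hle a ha)
  map_mem := by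
    intro d x hx
    obtain ⟨a, ha, rfl⟩ := exists_of_mem_qgr 𝒜 ι hx
    exact (qmk 𝒜' ι').map_mem (θ.map_mem ha)

theorem qHom_mk (hle : ∀ a, a ∈ KK 𝒜 ι → θ a ∈ KK 𝒜' ι') (a : A) :
    qHom θ ι ι' hle (Ideal.Quotient.mk (KK 𝒜 ι) a) = Ideal.Quotient.mk (KK 𝒜' ι') (θ a) := rfl

include hθ in
theorem irr_q (hle : ∀ a, a ∈ KK 𝒜 ι → θ a ∈ KK 𝒜' ι') :
    (qgr 𝒜' ι')₊ ≤ (qgr 𝒜 ι)₊.map (qHom θ ι ι' hle) :=
  irrelevant_le_of_square θ hθ (qmk 𝒜 ι) (qmk 𝒜' ι') (qHom θ ι ι' hle) (fun _ => rfl)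
    (fun _ _ hb => exists_of_mem_qgr 𝒜' ι' hb)

include hc in
theorem e_comp' [IsClosedImmersion ι] (hle : ∀ a, a ∈ KK 𝒜 ι → θ a ∈ KK 𝒜' ι')
    (e : Z ≅ Proj (qgr 𝒜 ι)) (he : e.hom ≫ Proj.map (qmk 𝒜 ι) (qmk_irr 𝒜 ι) = ι)
    (e' : Z' ≅ Proj (qgr 𝒜' ι')) (he' : e'.hom ≫ Proj.map (qmk 𝒜' ι') (qmk_irr 𝒜' ι') = ι') :
    h ≫ e.hom = e'.hom ≫ Proj.map (qHom θ ι ι' hle) (irr_q θ hθ ι ι' hle) := by
  haveI : Mono (Proj.map (qmk 𝒜 ι) (qmk_irr 𝒜 ι)) := by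
    have h0 : Proj.map (qmk 𝒜 ι) (qmk_irr 𝒜 ι) = e.inv ≫ ι := (Iso.eq_inv_comp e).mpr he
    rw [h0]
    infer_instance
  have hR : (e'.hom ≫ Proj.map (qHom θ ι ι' hle) (irr_q θ hθ ι ι' hle)) ≫
      Proj.map (qmk 𝒜 ι) (qmk_irr 𝒜 ι) =
      (e'.hom ≫ Proj.map (qmk 𝒜' ι') (qmk_irr 𝒜' ι')) ≫ Proj.map θ hθ := by
    rw [Category.assoc, Category.assoc, ← Proj.map_comp, ← Proj.map_comp]
    congr 1
  rw [← cancel_mono (Proj.map (qmk 𝒜 ι) (qmk_irr 𝒜 ι)), Category.assoc, he, hc, hR, he']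

end Fun

end Groth.Agent.Lib.Helper3.CPgW
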