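import Groth.Agent.Lib.Helper3.CPg
import Mathlib.AlgebraicGeometry.Morphisms.FinitePresentation

/-!
# Closed subschemes of `Proj 𝒜` of finite presentation: generators of the ideal in one degree
-/

set_option autoImplicit false
set_option linter.unusedSectionVars false
universe u
open CategoryTheory CategoryTheory.Limits AlgebraicGeometry TopologicalSpace Opposite
open Scheme.Modules
open scoped HomogeneousIdeal

namespace Groth.Agent.Lib.Helper3.CPx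

open QCSec TwistBasic GrTildeQC ProjFrac GrTildeHom ProjMapFn ProjClosed ToProj GrTransport CPa CPg

theorem ker_fg_of_fp {R B : Type u} [CommRing R] [CommRing B] (φ : R →+* B)
    (hfp : φ.FinitePresentation) (hs : Function.Surjective φ) : (RingHom.ker φ).FG := by
  letI := φ.toAlgebra
  haveI : Algebra.FinitePresentation R B := hfp
  exact Algebra.FinitePresentation.ker_fG_of_surjective (Algebra.ofId R B) hs

section One

variable {R A : Type u} [CommRing R] [CommRing A] [Algebra R A] (𝒜 : ℕ → Submodule R A)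
  [GradedAlgebra 𝒜]

/-- a homogeneous ideal (bundled) -/
structure HI where
  /-- the ideal -/
  I : Ideal A
  /-- it is homogeneous -/
  hom : I.IsHomogeneous 𝒜

variable {𝒜}

noncomputable instance instGAJ (J : HI 𝒜) : GradedAlgebra (GrQuot.piece 𝒜 J.I) :=
  GrQuot.gradedAlgebra _ _ J.hom

theorem isClosedImmersion_mkJ (J : HI 𝒜) :
    IsClosedImmersion (Proj.map (GrQuot.mkHom 𝒜 J.I) (GrQuot.irrelevant_le _ _ J.hom)) :=
  isClosedImmersion_map' _ _ (GrQuot.mkHom_surjective _ _)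

variable {Z : Scheme.{u}} (ι : Z ⟶ Proj 𝒜)

theorem K'_eq_top_of_isEmpty [IsEmpty Z] : K' ι = ⊤ := by
  rw [Ideal.eq_top_iff_one, mem_K']
  intro g e he hg
  refine ⟨0, ?_⟩
  rw [pow_zero, one_mul]
  refine Ideal.subset_span ⟨0, ?_, ?_⟩
  · rw [zero_smul]
    exact SetLike.GradedOne.one_mem
  · exact (Subsingleton.elim _ _ : ι.app (Proj.basicOpen 𝒜 g)
      (fn (Proj.basicOpen 𝒜 g) 1 (g ^ 0)) = 0)

/-! ### equality of fractions -/

theorem fn_neg' {g : A} {e : ℕ} (hg : g ∈ 𝒜 e) {k : ℕ} {a : A} (ha : a ∈ 𝒜 (k • e)) :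
    fn (Proj.basicOpen 𝒜 g) (-a) (g ^ k) = - fn (Proj.basicOpen 𝒜 g) a (g ^ k) := by
  have h0 : a + -a ∈ 𝒜 (k • e) := by rw [add_neg_cancel]; exact zero_mem _
  have h1 := fn_add (goodD hg ha) (goodD hg (neg_mem ha)) (goodD hg h0)
  rw [add_neg_cancel, fn_zero (goodD hg (zero_mem _))] at h1
  exact eq_neg_of_add_eq_zero_right h1

theorem fn_eq_imp {g : A} {e : ℕ} (he : 0 < e) (hg : g ∈ 𝒜 e) {k l : ℕ} {a b : A}
    (ha : a ∈ 𝒜 (k • e)) (hb : b ∈ 𝒜 (l • e))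
    (h : fn (Proj.basicOpen 𝒜 g) a (g ^ k) = fn (Proj.basicOpen 𝒜 g) b (g ^ l)) :
    ∃ N : ℕ, g ^ N * (a * g ^ l) = g ^ N * (b * g ^ k) := by
  have hu : a * g ^ l ∈ 𝒜 ((k + l) • e) := by
    rw [add_smul]; exact SetLike.mul_mem_graded ha (SetLike.pow_mem_graded l hg)
  have hv : b * g ^ k ∈ 𝒜 ((k + l) • e) := by
    rw [add_smul, add_comm]; exact SetLike.mul_mem_graded hb (SetLike.pow_mem_graded k hg)
  have e1 : fn (Proj.basicOpen 𝒜 g) a (g ^ k) =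
      fn (Proj.basicOpen 𝒜 g) (a * g ^ l) (g ^ (k + l)) :=
    fn_eq (goodD hg ha) (goodD hg hu) (by rw [pow_add]; ring)
  have e2 : fn (Proj.basicOpen 𝒜 g) b (g ^ l) =
      fn (Proj.basicOpen 𝒜 g) (b * g ^ k) (g ^ (k + l)) :=
    fn_eq (goodD hg hb) (goodD hg hv) (by rw [pow_add]; ring)
  have hsub : a * g ^ l + -(b * g ^ k) ∈ 𝒜 ((k + l) • e) := add_mem hu (neg_mem hv)
  have e3 : fn (Proj.basicOpen 𝒜 g) (a * g ^ l + -(b * g ^ k)) (g ^ (k + l)) = 0 := by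
    rw [← fn_add (goodD hg hu) (goodD hg (neg_mem hv)) (goodD hg hsub), fn_neg' hg hv, ← e1, ← e2,
      h, add_neg_cancel]
  obtain ⟨N, hN⟩ := (fn_eq_zero_iff' he hg hsub).mp e3
  refine ⟨N, ?_⟩
  rw [mul_add, mul_neg, add_neg_eq_zero] at hN
  exact hN

/-- fractions on `D₊(g)` having a representative whose numerator is killed modulo `J` by a power
of `g` -/
def SatFrac (J : Ideal A) {g : A} {e : ℕ} (he : 0 < e) (hg : g ∈ 𝒜 e) :
    Ideal Γ(Proj 𝒜, Proj.basicOpen 𝒜 g) where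
  carrier := {c | ∃ (m : ℕ) (x : A) (N : ℕ), x ∈ 𝒜 (m • e) ∧
    c = fn (Proj.basicOpen 𝒜 g) x (g ^ m) ∧ g ^ N * x ∈ J}
  zero_mem' := ⟨0, 0, 0, zero_mem _, (fn_zero (goodD hg (zero_mem _))).symm, by
    rw [mul_zero]; exact zero_mem _⟩
  add_mem' := by
    rintro c₁ c₂ ⟨m₁, x₁, N₁, hx₁, rfl, hJ₁⟩ ⟨m₂, x₂, N₂, hx₂, rfl, hJ₂⟩
    have hu : x₁ * g ^ m₂ ∈ 𝒜 ((m₁ + m₂) • e) := by
      rw [add_smul]; exact SetLike.mul_mem_graded hx₁ (SetLike.pow_mem_graded m₂ hg)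
    have hv : x₂ * g ^ m₁ ∈ 𝒜 ((m₁ + m₂) • e) := by
      rw [add_smul, add_comm]; exact SetLike.mul_mem_graded hx₂ (SetLike.pow_mem_graded m₁ hg)
    refine ⟨m₁ + m₂, x₁ * g ^ m₂ + x₂ * g ^ m₁, N₁ + N₂, add_mem hu hv, ?_, ?_⟩
    · rw [← fn_add (goodD hg hu) (goodD hg hv) (goodD hg (add_mem hu hv))]
      congr 1
      · exact fn_eq (goodD hg hx₁) (goodD hg hu) (by rw [pow_add]; ring)
      · exact fn_eq (goodD hg hx₂) (goodD hg hv) (by rw [pow_add]; ring)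
    · have e1 : g ^ (N₁ + N₂) * (x₁ * g ^ m₂ + x₂ * g ^ m₁) =
          (g ^ N₂ * g ^ m₂) * (g ^ N₁ * x₁) + (g ^ N₁ * g ^ m₁) * (g ^ N₂ * x₂) := by
        rw [pow_add]; ring
      rw [e1]
      exact add_mem (Ideal.mul_mem_left _ _ hJ₁) (Ideal.mul_mem_left _ _ hJ₂)
  smul_mem' := by
    rintro r c ⟨m, x, N, hx, rfl, hJ⟩
    obtain ⟨n, y, hy, rfl⟩ := exists_fn_eq' he hg r
    have hyx : y * x ∈ 𝒜 ((n + m) • e) := by
      rw [add_smul]; exact SetLike.mul_mem_graded hy hx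
    refine ⟨n + m, y * x, N, hyx, ?_, ?_⟩
    · rw [smul_eq_mul, fn_mul (goodD hg hy) (goodD hg hx), pow_add]
    · have e1 : g ^ N * (y * x) = y * (g ^ N * x) := by ring
      rw [e1]
      exact Ideal.mul_mem_left _ _ hJ

variable {κ : Type u} [Finite κ] {f : κ → A} {df : κ → ℕ}
  (hf : ∀ i, 0 < df i ∧ f i ∈ 𝒜 (df i))
  (hcov : ∀ x : Proj 𝒜, ∃ i, x ∈ Proj.basicOpen 𝒜 (f i))

include hf hcov in
theorem ker_map_eq_of_sat [IsClosedImmersion ι] (J : HI 𝒜) (hle : J.I ≤ K' ι)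
    (hsat : ∀ (i : κ) (k : ℕ) (a : A), a ∈ 𝒜 (k • df i) → a ∈ K' ι →
      ∃ N : ℕ, f i ^ N * a ∈ J.I) :
    (Proj.map (GrQuot.mkHom 𝒜 J.I) (GrQuot.irrelevant_le _ _ J.hom)).ker = ι.ker := by
  haveI := isClosedImmersion_mkJ J
  let Ua : κ → (Proj 𝒜).affineOpens := fun i =>
    ⟨Proj.basicOpen 𝒜 (f i), Proj.isAffineOpen_basicOpen 𝒜 (f i) (hf i).2 (hf i).1⟩
  have hU : ⨆ i, ((Ua i : (Proj 𝒜).affineOpens) : (Proj 𝒜).Opens) = ⊤ := by
    rw [eq_top_iff]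
    intro x _
    obtain ⟨i, hi⟩ := hcov x
    exact Opens.mem_iSup.mpr ⟨i, hi⟩
  apply Scheme.IdealSheafData.ext_of_iSup_eq_top Ua hU
  intro i
  rw [Scheme.Hom.ker_apply, Scheme.Hom.ker_apply]
  ext c
  rw [RingHom.mem_ker, RingHom.mem_ker]
  obtain ⟨k, a, ha, rfl⟩ := exists_fn_eq' (hf i).1 (hf i).2
    (show Γ(Proj 𝒜, Proj.basicOpen 𝒜 (f i)) from c)
  have h1 : (Proj.map (GrQuot.mkHom 𝒜 J.I) (GrQuot.irrelevant_le _ _ J.hom)).app
      (Proj.basicOpen 𝒜 (f i)) (fn (Proj.basicOpen 𝒜 (f i)) a (f i ^ k)) =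
      fn (Proj.basicOpen (GrQuot.piece 𝒜 J.I) (GrQuot.mkHom 𝒜 J.I (f i)))
        (GrQuot.mkHom 𝒜 J.I a) (GrQuot.mkHom 𝒜 J.I (f i) ^ k) := by
    rw [app_fn _ _ (goodD (hf i).2 ha), map_pow]
    rfl
  refine Iff.trans (Eq.congr_left h1) ?_
  refine Iff.trans (fn_eq_zero_iff' (hf i).1 ((GrQuot.mkHom 𝒜 J.I).map_mem (hf i).2)
    ((GrQuot.mkHom 𝒜 J.I).map_mem ha)) ?_
  refine Iff.trans ?_ (exists_pow_mem_K'_iff ι hf hcov (hf i).1 (hf i).2 ha)
  constructor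
  · rintro ⟨N, hN⟩
    refine ⟨N, hle ?_⟩
    have h2 : Ideal.Quotient.mk J.I (f i ^ N * a) = 0 := by
      rw [map_mul, map_pow]; exact hN
    exact Ideal.Quotient.eq_zero_iff_mem.mp h2
  · rintro ⟨N, hN⟩
    have hmem : f i ^ N * a ∈ 𝒜 ((N + k) • df i) := by
      rw [add_smul]
      exact SetLike.mul_mem_graded (SetLike.pow_mem_graded N (hf i).2) ha
    obtain ⟨M, hM⟩ := hsat i (N + k) (f i ^ N * a) hmem hN
    refine ⟨M + N, ?_⟩
    change Ideal.Quotient.mk J.I (f i) ^ (M + N) * Ideal.Quotient.mk J.I a = 0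
    rw [← map_pow, ← map_mul, Ideal.Quotient.eq_zero_iff_mem, pow_add, mul_assoc]
    exact hM

include hf hcov in
/-- a closed subscheme of `Proj 𝒜` is the `Proj` of the quotient by any homogeneous ideal with
the same saturation as its homogeneous ideal -/
theorem exists_e_of_sat [IsClosedImmersion ι] (J : HI 𝒜) (hle : J.I ≤ K' ι)
    (hsat : ∀ (i : κ) (k : ℕ) (a : A), a ∈ 𝒜 (k • df i) → a ∈ K' ι →
      ∃ N : ℕ, f i ^ N * a ∈ J.I) :
    ∃ e : Z ≅ Proj (GrQuot.piece 𝒜 J.I),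
      e.hom ≫ Proj.map (GrQuot.mkHom 𝒜 J.I) (GrQuot.irrelevant_le _ _ J.hom) = ι := by
  haveI := isClosedImmersion_mkJ J
  have hk := ker_map_eq_of_sat ι hf hcov J hle hsat
  haveI := IsClosedImmersion.isIso_lift (Proj.map (GrQuot.mkHom 𝒜 J.I)
    (GrQuot.irrelevant_le _ _ J.hom)) ι hk
  exact ⟨asIso (IsClosedImmersion.lift _ ι hk.le), IsClosedImmersion.lift_fac _ _ _⟩

/-! ### generators -/

include hf hcov in
theorem exists_chart_gens [IsClosedImmersion ι] [LocallyOfFinitePresentation ι] (i : κ) :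
    ∃ G : Finset (ℕ × A), (∀ q ∈ G, q.2 ∈ 𝒜 (q.1 • df i) ∧ q.2 ∈ K' ι) ∧
      ∀ c : Γ(Proj 𝒜, Proj.basicOpen 𝒜 (f i)), ι.app (Proj.basicOpen 𝒜 (f i)) c = 0 →
        c ∈ Ideal.span ((fun q : ℕ × A => fn (Proj.basicOpen 𝒜 (f i)) q.2 (f i ^ q.1)) ''
          (G : Set (ℕ × A))) := by
  classical
  have hUa : IsAffineOpen (Proj.basicOpen 𝒜 (f i)) :=
    Proj.isAffineOpen_basicOpen 𝒜 (f i) (hf i).2 (hf i).1
  have hV : IsAffineOpen (ι ⁻¹ᵁ Proj.basicOpen 𝒜 (f i)) := hUa.preimage ι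
  have hfp : (ι.app (Proj.basicOpen 𝒜 (f i))).hom.FinitePresentation := by
    have := ι.finitePresentation_appLE hUa hV le_rfl
    rwa [Scheme.Hom.appLE_eq_app] at this
  have hsurj : Function.Surjective (ι.app (Proj.basicOpen 𝒜 (f i))).hom :=
    ι.app_surjective _ hUa
  obtain ⟨G₀, hG₀⟩ := ker_fg_of_fp _ hfp hsurj
  have key : ∀ c : Γ(Proj 𝒜, Proj.basicOpen 𝒜 (f i)), ι.app (Proj.basicOpen 𝒜 (f i)) c = 0 →
      ∃ q : ℕ × A, (q.2 ∈ 𝒜 (q.1 • df i) ∧ q.2 ∈ K' ι) ∧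
        c = fn (Proj.basicOpen 𝒜 (f i)) q.2 (f i ^ q.1) := by
    intro c hc
    obtain ⟨k, a, ha, rfl⟩ := exists_fn_eq' (hf i).1 (hf i).2 c
    obtain ⟨N, hN⟩ := (exists_pow_mem_K'_iff ι hf hcov (hf i).1 (hf i).2 ha).mpr hc
    have hmem : f i ^ N * a ∈ 𝒜 ((N + k) • df i) := by
      rw [add_smul]
      exact SetLike.mul_mem_graded (SetLike.pow_mem_graded N (hf i).2) ha
    exact ⟨(N + k, f i ^ N * a), ⟨hmem, hN⟩,
      fn_eq (goodD (hf i).2 ha) (goodD (hf i).2 hmem) (by rw [pow_add]; ring)⟩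
  let qf : Γ(Proj 𝒜, Proj.basicOpen 𝒜 (f i)) → ℕ × A := fun c =>
    if hc : ι.app (Proj.basicOpen 𝒜 (f i)) c = 0 then (key c hc).choose else (0, 0)
  have hker : ∀ c ∈ G₀, ι.app (Proj.basicOpen 𝒜 (f i)) c = 0 := by
    intro c hc
    have h1 : c ∈ RingHom.ker (ι.app (Proj.basicOpen 𝒜 (f i))).hom := by
      rw [← hG₀]; exact Ideal.subset_span hc
    exact RingHom.mem_ker.mp h1
  have hqf : ∀ (c : Γ(Proj 𝒜, Proj.basicOpen 𝒜 (f i))) (hc : c ∈ G₀),
      qf c = (key c (hker c hc)).choose := by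
    intro c hc
    exact dif_pos (hker c hc)
  refine ⟨G₀.image qf, ?_, ?_⟩
  · intro q hq
    obtain ⟨c, hc, rfl⟩ := Finset.mem_image.mp hq
    rw [hqf c hc]
    exact (key c (hker c hc)).choose_spec.1
  · intro c hc
    have hc' : c ∈ Ideal.span (G₀ : Set Γ(Proj 𝒜, Proj.basicOpen 𝒜 (f i))) := by
      rw [hG₀]; exact RingHom.mem_ker.mpr hc
    refine Ideal.span_mono ?_ hc'
    intro c₀ hc₀
    refine ⟨qf c₀, Finset.mem_coe.mpr (Finset.mem_image_of_mem _ hc₀), ?_⟩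
    change fn (Proj.basicOpen 𝒜 (f i)) (qf c₀).2 (f i ^ (qf c₀).1) = c₀
    rw [hqf c₀ hc₀]
    exact ((key c₀ (hker c₀ hc₀)).choose_spec.2).symm

include hf hcov in
/-- the homogeneous ideal of a closed subscheme of finite presentation is, up to saturation,
generated by finitely many elements of any sufficiently divisible degree -/
theorem exists_gens [IsClosedImmersion ι] [LocallyOfFinitePresentation ι] :
    ∃ D : ℕ, 0 < D ∧ ∀ d : ℕ, 0 < d → D ∣ d → ∃ T : Finset A,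
      (∀ t ∈ T, t ∈ 𝒜 d ∧ t ∈ K' ι) ∧
      ∀ (g : A) (e : ℕ), 0 < e → g ∈ 𝒜 e → ∀ (k : ℕ) (a : A), a ∈ 𝒜 (k • e) → a ∈ K' ι →
        ∃ N : ℕ, g ^ N * a ∈ Ideal.span (T : Set A) := by
  classical
  haveI := Fintype.ofFinite κ
  choose G hG1 hG2 using fun i => exists_chart_gens ι hf hcov i
  let M : ℕ := ∑ i, ∑ q ∈ G i, q.1
  have hM : ∀ i, ∀ q ∈ G i, q.1 ≤ M := by
    intro i q hq
    calc q.1 ≤ ∑ q ∈ G i, q.1 :=
          Finset.single_le_sum (f := fun q : ℕ × A => q.1) (fun _ _ => Nat.zero_le _) hq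
      _ ≤ M := Finset.single_le_sum (f := fun i => ∑ q ∈ G i, q.1) (fun _ _ => Nat.zero_le _)
          (Finset.mem_univ i)
  have hprod : 0 < ∏ i, df i := Finset.prod_pos (fun i _ => (hf i).1)
  refine ⟨(∏ i, df i) * (M + 1), Nat.mul_pos hprod (Nat.succ_pos M), ?_⟩
  intro d hd hDd
  have hw : ∀ i, ∃ w : ℕ, d = w * df i ∧ M ≤ w := by
    intro i
    obtain ⟨r, hr⟩ : df i ∣ ∏ i, df i := Finset.dvd_prod_of_mem df (Finset.mem_univ i)
    obtain ⟨m, hm⟩ := hDd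
    have hr0 : 0 < r := by
      rcases Nat.eq_zero_or_pos r with h0 | h0
      · rw [h0, mul_zero] at hr; omega
      · exact h0
    have hm0 : 0 < m := by
      rcases Nat.eq_zero_or_pos m with h0 | h0
      · rw [h0, mul_zero] at hm; omega
      · exact h0
    refine ⟨r * (M + 1) * m, ?_, ?_⟩
    · rw [hm, hr]; ring
    · calc M ≤ M + 1 := Nat.le_succ M
        _ = 1 * (M + 1) * 1 := by ring
        _ ≤ r * (M + 1) * m := Nat.mul_le_mul (Nat.mul_le_mul hr0 le_rfl) hm0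
  choose w hw1 hw2 using hw
  let T : Finset A :=
    Finset.univ.biUnion (fun i => (G i).image (fun q => f i ^ (w i - q.1) * q.2))
  have hT : ∀ i, ∀ q ∈ G i, f i ^ (w i - q.1) * q.2 ∈ T := by
    intro i q hq
    exact Finset.mem_biUnion.mpr ⟨i, Finset.mem_univ i, Finset.mem_image_of_mem _ hq⟩
  refine ⟨T, ?_, ?_⟩
  · intro t ht
    obtain ⟨i, -, ht⟩ := Finset.mem_biUnion.mp ht
    obtain ⟨q, hq, rfl⟩ := Finset.mem_image.mp ht
    have hk : q.1 ≤ w i := (hM i q hq).trans (hw2 i)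
    refine ⟨?_, Ideal.mul_mem_left _ _ (hG1 i q hq).2⟩
    refine mul_mem_of_eq (SetLike.pow_mem_graded (w i - q.1) (hf i).2) (hG1 i q hq).1 ?_
    rw [smul_eq_mul, smul_eq_mul, ← add_mul, Nat.sub_add_cancel hk, ← hw1 i]
  · have claimA : ∀ (i : κ) (m : ℕ) (x : A), x ∈ 𝒜 (m • df i) → x ∈ K' ι →
        ∃ N : ℕ, f i ^ N * x ∈ Ideal.span (T : Set A) := by
      intro i m x hx hxK
      have hv : ι.app (Proj.basicOpen 𝒜 (f i)) (fn (Proj.basicOpen 𝒜 (f i)) x (f i ^ m)) = 0 :=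
        (exists_pow_mem_K'_iff ι hf hcov (hf i).1 (hf i).2 hx).mp
          ⟨0, by rw [pow_zero, one_mul]; exact hxK⟩
      have hmem := hG2 i _ hv
      have hle : Ideal.span ((fun q : ℕ × A => fn (Proj.basicOpen 𝒜 (f i)) q.2 (f i ^ q.1)) ''
          (G i : Set (ℕ × A))) ≤ SatFrac (Ideal.span (T : Set A)) (hf i).1 (hf i).2 := by
        rw [Ideal.span_le]
        rintro _ ⟨q, hq, rfl⟩
        exact ⟨q.1, q.2, w i - q.1, (hG1 i q hq).1, rfl,
          Ideal.subset_span (Finset.mem_coe.mpr (hT i q hq))⟩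
      obtain ⟨m', x', N, hx', heq, hJ⟩ := hle hmem
      obtain ⟨N', hN'⟩ := fn_eq_imp (hf i).1 (hf i).2 hx hx' heq
      refine ⟨N' + m' + N, ?_⟩
      have e1 : f i ^ (N' + m' + N) * x = f i ^ N * (f i ^ N' * (x * f i ^ m')) := by
        rw [pow_add, pow_add]; ring
      rw [e1, hN']
      have e2 : f i ^ N * (f i ^ N' * (x' * f i ^ m)) =
          (f i ^ N' * f i ^ m) * (f i ^ N * x') := by ring
      rw [e2]
      exact Ideal.mul_mem_left _ _ hJ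
    intro g e he hg k a ha haK
    have key : ∀ i, ∃ N : ℕ,
        f i ^ N * (g ^ (k * (df i - 1)) * a) ∈ Ideal.span (T : Set A) := by
      intro i
      refine claimA i (k * e) _ ?_ (Ideal.mul_mem_left _ _ haK)
      refine mul_mem_of_eq (SetLike.pow_mem_graded (k * (df i - 1)) hg) ha ?_
      have h1 : df i - 1 + 1 = df i := Nat.sub_add_cancel (hf i).1
      calc (k * (df i - 1)) • e + k • e = (k * e) * (df i - 1 + 1) := by
            simp only [smul_eq_mul]; ring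
        _ = (k * e) • df i := by rw [h1, smul_eq_mul]
    choose N hN using key
    have hgirr : g ∈ (HomogeneousIdeal.irrelevant 𝒜).toIdeal :=
      HomogeneousIdeal.mem_irrelevant_of_mem _ he hg
    obtain ⟨W, hW⟩ := GrModSec.exists_pow_mem_span_of_cover 𝒜 hgirr
      (Set.range fun i => f i ^ N i)
      (by
        rintro _ ⟨i, rfl⟩
        exact ⟨_, SetLike.pow_mem_graded (N i) (hf i).2⟩)
      (fun x _ => by
        obtain ⟨i, hi⟩ := hcov x
        exact ⟨_, ⟨i, rfl⟩, fun hmem => hi (x.isPrime.mem_of_pow_mem _ hmem)⟩)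
    let Mt : ℕ := ∑ i, k * (df i - 1)
    have hMt : ∀ i, k * (df i - 1) ≤ Mt := fun i =>
      Finset.single_le_sum (f := fun i => k * (df i - 1)) (fun _ _ => Nat.zero_le _)
        (Finset.mem_univ i)
    have hall : ∀ y ∈ Ideal.span (Set.range fun i => f i ^ N i),
        y * (g ^ Mt * a) ∈ Ideal.span (T : Set A) := by
      intro y hy
      induction hy using Submodule.span_induction with
      | mem y hy =>
        obtain ⟨i, rfl⟩ := hy
        have e1 : f i ^ N i * (g ^ Mt * a) =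
            g ^ (Mt - k * (df i - 1)) * (f i ^ N i * (g ^ (k * (df i - 1)) * a)) := by
          have h2 : g ^ Mt = g ^ (Mt - k * (df i - 1)) * g ^ (k * (df i - 1)) := by
            rw [← pow_add, Nat.sub_add_cancel (hMt i)]
          rw [h2]; ring
        rw [e1]
        exact Ideal.mul_mem_left _ _ (hN i)
      | zero => rw [zero_mul]; exact zero_mem _
      | add y z _ _ hy hz => rw [add_mul]; exact add_mem hy hz
      | smul c y _ hy =>
        rw [smul_eq_mul, mul_assoc]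
        exact Ideal.mul_mem_left _ _ hy
    refine ⟨W + Mt, ?_⟩
    have e1 : g ^ (W + Mt) * a = g ^ W * (g ^ Mt * a) := by rw [pow_add, mul_assoc]
    rw [e1]
    exact hall _ hW

end One

end Groth.Agent.Lib.Helper3.CPx
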