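import Groth.Agent.Lib.Helper3.CPxW
import Groth.Agent.Lib.Helper3.CPgB

/-!
# The relative `Proj` of the quotient of a graded algebra by a family of homogeneous ideals with
the saturation of the ideals of a closed subscheme
-/

set_option autoImplicit false
set_option linter.unusedSectionVars false
universe u
open CategoryTheory CategoryTheory.Limits AlgebraicGeometry TopologicalSpace Opposite
open Scheme.Modules
open AlgebraicGeometry.Scheme AlgebraicGeometry.Scheme.AffineZariskiSite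
open scoped HomogeneousIdeal

namespace Groth.Agent.Lib.Helper3.CPxB

open QCSec GrTransport AffGr CPa CPx CPxW
open CPw (sm)
open CPgB (comp_aux)
open CPb (ZU AU gU iU iU_emb iU_toS ρ iU_res ρ_id ρ_comp θUV str_nat)

attribute [local instance 10] ULift.algebra'

variable {S : Scheme.{u}} (𝒜 : RelProj.QCGrAlg S) {P : Scheme.{u}} (p : P ⟶ S)
  (chart : ∀ (U : S.Opens) (hU : IsAffineOpen U),
    ((p ⁻¹ᵁ U : P.Opens) : Scheme.{u}) ≅ Proj (𝒜.deg U hU))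
  {Z : Scheme.{u}} (i : Z ⟶ P)

/-- a family of homogeneous ideals over the affine opens, compatible with restriction and
localization, whose quotients have the closed subscheme as `Proj` -/
structure Dat : Type u where
  /-- the relative `Proj` -/
  hP : RelProj.IsRelProj 𝒜 p chart
  /-- the ideals -/
  H : ∀ U : S.AffineZariskiSite, HI (sm (gU 𝒜 U))
  /-- compatibility with restriction -/
  hres : ∀ (U V : S.AffineZariskiSite) (j : V ⟶ U) (a : AU 𝒜 U),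
    a ∈ (H U).I → ρ 𝒜 j a ∈ (H V).I
  /-- compatibility with localization -/
  hloc : ∀ (U : S.AffineZariskiSite) (s : Γ(S, U.1)) (b : AU 𝒜 U),
    ρ 𝒜 (homOfLE (U.basicOpen_le s)) b ∈ (H (U.basicOpen s)).I →
      ∃ N : ℕ, (𝒜.str.app (op U.1)).hom s ^ N * b ∈ (H U).I
  /-- the local isomorphisms -/
  he : ∀ U : S.AffineZariskiSite,
    ∃ e : (ZU p i U.1).toScheme ≅ Proj (qgr (gU 𝒜 U) (H U)),
      e.hom ≫ Proj.map (qmk (gU 𝒜 U) (H U)) (qmk_irr _ _) = iU 𝒜 p chart i U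

section Site

variable [IsClosedImmersion i] (D : Dat 𝒜 p chart i)

/-- the homogeneous ideal over an affine open -/
abbrev JI (U : S.AffineZariskiSite) : Ideal (AU 𝒜 U) := (D.H U).I

local notation "𝔸" => AU 𝒜
local notation "𝔤" => gU 𝒜
local notation "𝔦" => iU 𝒜 p chart i
local notation "𝔍" => JI 𝒜 p chart i D


theorem hle_UV {U V : S.AffineZariskiSite} (j : V ⟶ U) :
    ∀ a, a ∈ 𝔍 U → ρ 𝒜 j a ∈ 𝔍 V :=
  fun a ha => D.hres U V j a ha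

/-- the transition homomorphisms -/
noncomputable def tUV {U V : S.AffineZariskiSite} (j : V ⟶ U) :
    qgr (𝔤 U) (D.H U) →+*ᵍ qgr (𝔤 V) (D.H V) :=
  qHom (ρ 𝒜 j) (D.H U) (D.H V) (hle_UV 𝒜 p chart i D j)

local notation "𝔱" => tUV 𝒜 p chart i D

theorem tUV_mk {U V : S.AffineZariskiSite} (j : V ⟶ U) (b : 𝔸 U) :
    𝔱 j (Ideal.Quotient.mk (𝔍 U) b) = Ideal.Quotient.mk (𝔍 V) (ρ 𝒜 j b) := rfl

/-- the functor on the affine site -/
noncomputable def F : S.AffineZariskiSiteᵒᵖ ⥤ CommRingCat.{u} where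
  obj U := CommRingCat.of (𝔸 U.unop ⧸ 𝔍 U.unop)
  map {U V} j := CommRingCat.ofHom (𝔱 j.unop).toRingHom
  map_id U := by
    refine CommRingCat.hom_ext (RingHom.ext fun x => ?_)
    obtain ⟨b, rfl⟩ := Ideal.Quotient.mk_surjective x
    change 𝔱 (𝟙 U.unop) (Ideal.Quotient.mk _ b) = Ideal.Quotient.mk _ b
    rw [tUV_mk, ρ_id]
  map_comp {U V W} j k := by
    refine CommRingCat.hom_ext (RingHom.ext fun x => ?_)
    obtain ⟨b, rfl⟩ := Ideal.Quotient.mk_surjective x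
    change 𝔱 (k.unop ≫ j.unop) (Ideal.Quotient.mk _ b) =
      𝔱 k.unop (𝔱 j.unop (Ideal.Quotient.mk _ b))
    rw [tUV_mk, tUV_mk, tUV_mk, ρ_comp]

local notation "𝔽" => F 𝒜 p chart i D

/-- the structure map -/
noncomputable def α : (toOpensFunctor S).op ⋙ S.presheaf ⟶ 𝔽 where
  app U := CommRingCat.ofHom
    ((Ideal.Quotient.mk (𝔍 U.unop)).comp (𝒜.str.app (op U.unop.1)).hom)
  naturality U V j := by
    refine CommRingCat.hom_ext (RingHom.ext fun c => ?_)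
    change Ideal.Quotient.mk (𝔍 V.unop) ((𝒜.str.app (op V.unop.1)).hom (θUV j.unop c)) =
      𝔱 j.unop (Ideal.Quotient.mk _ ((𝒜.str.app (op U.unop.1)).hom c))
    rw [tUV_mk, str_nat]

local notation "𝔞" => α 𝒜 p chart i D

theorem α_app (U : S.AffineZariskiSite) (c : Γ(S, U.1)) :
    ((𝔞).app (op U)).hom c = Ideal.Quotient.mk (𝔍 U) ((𝒜.str.app (op U.1)).hom c) := rfl

theorem F_map {U V : S.AffineZariskiSite} (j : V ⟶ U) (x : 𝔸 U ⧸ 𝔍 U) :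
    ((𝔽).map j.op).hom x = 𝔱 j x := rfl

set_option backward.isDefEq.respectTransparency false in
theorem isLocalization_away (U : S.AffineZariskiSite) (s : Γ(S, U.1)) :
    letI := ((𝔽).map (homOfLE (U.basicOpen_le s)).op).hom.toAlgebra
    IsLocalization.Away ((𝔞).app (op U) s) ((𝔽).obj (op (U.basicOpen s))) := by
  letI := ((𝔽).map (homOfLE (U.basicOpen_le s)).op).hom.toAlgebra
  have hunit : IsUnit (θUV (homOfLE (U.basicOpen_le s)) s) :=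
    RingedSpace.isUnit_res_basicOpen _ s
  obtain ⟨-, hsurj, hinj⟩ := RelProjExist.loc_facts 𝒜 U.2 (U.basicOpen s).2 s rfl
  have hnat : ∀ a : Γ(S, U.1), (𝔱 (homOfLE (U.basicOpen_le s))).toRingHom
      (((Ideal.Quotient.mk (𝔍 U)).comp (𝒜.str.app (op U.1)).hom) a) =
      ((Ideal.Quotient.mk (𝔍 (U.basicOpen s))).comp (𝒜.str.app (op (U.basicOpen s).1)).hom)
        (θUV (homOfLE (U.basicOpen_le s)) a) := by
    intro a
    change 𝔱 (homOfLE (U.basicOpen_le s)) (Ideal.Quotient.mk _ ((𝒜.str.app (op U.1)).hom a)) =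
      Ideal.Quotient.mk _ ((𝒜.str.app (op (U.basicOpen s).1)).hom
        (θUV (homOfLE (U.basicOpen_le s)) a))
    rw [tUV_mk, str_nat]
  have hsurj' : ∀ z : 𝔸 (U.basicOpen s) ⧸ 𝔍 (U.basicOpen s), ∃ (n : ℕ) (b : 𝔸 U ⧸ 𝔍 U),
      (𝔱 (homOfLE (U.basicOpen_le s))).toRingHom b =
        ((Ideal.Quotient.mk (𝔍 (U.basicOpen s))).comp (𝒜.str.app (op (U.basicOpen s).1)).hom)
          (θUV (homOfLE (U.basicOpen_le s)) s ^ n) * z := by
    intro z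
    obtain ⟨z₀, rfl⟩ := Ideal.Quotient.mk_surjective z
    obtain ⟨k, a, hka⟩ := hsurj z₀
    refine ⟨k, Ideal.Quotient.mk _ a, ?_⟩
    change 𝔱 (homOfLE (U.basicOpen_le s)) (Ideal.Quotient.mk _ a) =
      Ideal.Quotient.mk _ ((𝒜.str.app (op (U.basicOpen s).1)).hom
        (θUV (homOfLE (U.basicOpen_le s)) s ^ k)) * Ideal.Quotient.mk _ z₀
    rw [tUV_mk, ← map_mul, map_pow, str_nat, mul_comm]
    exact congrArg _ hka.symm
  have hinj' : ∀ b : 𝔸 U ⧸ 𝔍 U, (𝔱 (homOfLE (U.basicOpen_le s))).toRingHom b = 0 →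
      ∃ n : ℕ, ((Ideal.Quotient.mk (𝔍 U)).comp (𝒜.str.app (op U.1)).hom) (s ^ n) * b = 0 := by
    intro b hb
    obtain ⟨b₀, rfl⟩ := Ideal.Quotient.mk_surjective b
    have hJ : ρ 𝒜 (homOfLE (U.basicOpen_le s)) b₀ ∈ 𝔍 (U.basicOpen s) := by
      rw [← Ideal.Quotient.eq_zero_iff_mem]
      exact hb
    obtain ⟨N, hN⟩ := D.hloc U s b₀ hJ
    refine ⟨N, ?_⟩
    change Ideal.Quotient.mk _ ((𝒜.str.app (op U.1)).hom (s ^ N)) * Ideal.Quotient.mk _ b₀ = 0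
    rw [← map_mul, map_pow]
    exact Ideal.Quotient.eq_zero_iff_mem.mpr hN
  obtain ⟨h1, h2, h3⟩ := RelSpec.loc_core_abs
    (φU := (Ideal.Quotient.mk (𝔍 U)).comp (𝒜.str.app (op U.1)).hom)
    (φV := (Ideal.Quotient.mk (𝔍 (U.basicOpen s))).comp
      (𝒜.str.app (op (U.basicOpen s).1)).hom)
    (ρS := θUV (homOfLE (U.basicOpen_le s)))
    (ρ := (𝔱 (homOfLE (U.basicOpen_le s))).toRingHom) s hnat hunit hsurj' hinj'
  refine (isLocalization_iff _ _).mpr ⟨?_, ?_, ?_⟩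
  · rintro ⟨_, N, rfl⟩
    exact h1 N
  · intro z
    obtain ⟨b, N, hb⟩ := h2 z
    exact ⟨⟨b, ⟨_, N, rfl⟩⟩, hb⟩
  · intro a b hab
    obtain ⟨N, hN⟩ := h3 a b hab
    exact ⟨⟨_, N, rfl⟩, hN⟩

theorem coequifibered : (𝔞).Coequifibered :=
  coequifibered_iff_forall_isLocalizationAway.mpr
    (fun U s => isLocalization_away 𝒜 p chart i D U s)

/-- the gradings -/
noncomputable def 𝒢 (U : S.AffineZariskiSite) : ℕ → AddSubgroup ((𝔽).obj (op U)) :=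
  qgr (𝔤 U) (D.H U)

noncomputable instance instGr (U : S.AffineZariskiSite) :
    GradedRing (𝒢 𝒜 p chart i D U) :=
  qgrGraded (𝔤 U) (D.H U)

theorem hmap (U V : S.AffineZariskiSite) (j : V ⟶ U) (d : ℕ) (x : (𝔽).obj (op U))
    (hx : x ∈ 𝒢 𝒜 p chart i D U d) :
    ((𝔽).map j.op).hom x ∈ 𝒢 𝒜 p chart i D V d :=
  (𝔱 j).map_mem hx

theorem hstr (U : S.AffineZariskiSite) (c : Γ(S, U.1)) :
    ((𝔞).app (op U)).hom c ∈ 𝒢 𝒜 p chart i D U 0 :=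
  (qmk (𝔤 U) (D.H U)).map_mem (𝒜.str_mem U.1 U.2 c)

/-- the quasi-coherent graded algebra of the closed subscheme -/
noncomputable def ℬ : RelProj.QCGrAlg S :=
  qcGrAlg (coequifibered 𝒜 p chart i D) (𝒢 𝒜 p chart i D)
    (hmap 𝒜 p chart i D) (hstr 𝒜 p chart i D)

local notation "𝔅" => ℬ 𝒜 p chart i D

/-- the identification of the sections of `ℬ` over an affine open -/
noncomputable abbrev epsU (U : S.AffineZariskiSite) :
    (𝔅).presheaf.obj (op U.1) ≃+* (𝔸 U ⧸ 𝔍 U) :=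
  eps (coequifibered 𝒜 p chart i D) U

local notation "𝔢" => epsU 𝒜 p chart i D

theorem heB (U : S.AffineZariskiSite) (d : ℕ) (a : (𝔅).presheaf.obj (op U.1)) :
    a ∈ (𝔅).deg U.1 U.2 d ↔ 𝔢 U a ∈ qgr (𝔤 U) (D.H U) d := Iff.rfl

/-- the isomorphism of the preimage with the `Proj` of the quotient -/
noncomputable def eU (U : S.AffineZariskiSite) :
    (ZU p i U.1).toScheme ≅ Proj (qgr (𝔤 U) (D.H U)) :=
  (D.he U).choose

theorem eU_hom (U : S.AffineZariskiSite) :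
    (eU 𝒜 p chart i D U).hom ≫ Proj.map (qmk (𝔤 U) (D.H U)) (qmk_irr _ _) = 𝔦 U :=
  (D.he U).choose_spec

/-- the charts over the affine site -/
noncomputable def chartA (U : S.AffineZariskiSite) :
    (ZU p i U.1).toScheme ≅ Proj ((𝔅).deg U.1 U.2) :=
  eU 𝒜 p chart i D U ≪≫
    (projIso (𝔢 U) (heB 𝒜 p chart i D U)).symm

theorem chartA_hom (U : S.AffineZariskiSite) :
    (chartA 𝒜 p chart i D U).hom = (eU 𝒜 p chart i D U).hom ≫
      Proj.map (fwd (𝔢 U) (heB 𝒜 p chart i D U))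
        (fwd_irr (𝔢 U) (heB 𝒜 p chart i D U)) := rfl

theorem chartA_over (U : S.AffineZariskiSite) :
    (chartA 𝒜 p chart i D U).hom ≫ Proj.toSpecZero ((𝔅).deg U.1 U.2) ≫
      Spec.map ((𝔅).strZero U.1 U.2) ≫ U.2.fromSpec = (ZU p i U.1).ι ≫ i ≫ p := by
  have key : Spec.map (CommRingCat.ofHom
      (zeroHom (fwd (𝔢 U) (heB 𝒜 p chart i D U)))) ≫ Spec.map ((𝔅).strZero U.1 U.2) =
      Spec.map (CommRingCat.ofHom (zeroHom (qmk (𝔤 U) (D.H U)))) ≫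
        Spec.map (𝒜.strZero U.1 U.2) := by
    rw [← Spec.map_comp, ← Spec.map_comp]
    congr 1
    refine CommRingCat.hom_ext (RingHom.ext fun c => Subtype.ext ?_)
    exact eps_str (coequifibered 𝒜 p chart i D) U c
  have h1 : (eU 𝒜 p chart i D U).hom ≫ Proj.map (qmk (𝔤 U) (D.H U)) (qmk_irr _ _) ≫
      RelProjExist.toS 𝒜 U = (ZU p i U.1).ι ≫ i ≫ p := by
    rw [← Category.assoc, eU_hom 𝒜 p chart i D U]
    exact iU_toS 𝒜 p chart i D.hP U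
  rw [chartA_hom 𝒜 p chart i D U, Category.assoc, map_toSpecZero_assoc, reassoc_of% key, ← h1]
  unfold RelProjExist.toS
  rw [map_toSpecZero_assoc]

theorem chartA_res (U : S.AffineZariskiSite) (s : Γ(S, U.1)) :
    Z.homOfLE (i.preimage_mono (p.preimage_mono
        (toOpens_mono (homOfLE (U.basicOpen_le s) : U.basicOpen s ⟶ U).le))) ≫
        (chartA 𝒜 p chart i D U).hom =
      (chartA 𝒜 p chart i D (U.basicOpen s)).hom ≫
        Proj.map ((𝔅).res U.2 (U.basicOpen s).2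
          (toOpens_mono (homOfLE (U.basicOpen_le s) : U.basicOpen s ⟶ U).le))
          (RelProjExist.hirr 𝔅 (homOfLE (U.basicOpen_le s))) := by
  have h1 := e_comp' (ρ 𝒜 (homOfLE (U.basicOpen_le s)))
    (RelProjExist.hirr 𝒜 (homOfLE (U.basicOpen_le s))) (D.H U) (D.H (U.basicOpen s))
    (𝔦 U) (𝔦 (U.basicOpen s)) _
    (iU_res 𝒜 p chart i D.hP (homOfLE (U.basicOpen_le s)))
    (hle_UV 𝒜 p chart i D (homOfLE (U.basicOpen_le s)))
    (eU 𝒜 p chart i D U) (eU_hom 𝒜 p chart i D U)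
    (eU 𝒜 p chart i D (U.basicOpen s))
    (eU_hom 𝒜 p chart i D (U.basicOpen s))
  rw [chartA_hom 𝒜 p chart i D U,
    chartA_hom 𝒜 p chart i D (U.basicOpen s), reassoc_of% h1]
  simp only [Category.assoc]
  rw [← Proj.map_comp, ← Proj.map_comp]
  congr 1
  refine map_congr (GradedRingHom.ext fun a => ?_) _ _
  exact (eps_res (coequifibered 𝒜 p chart i D) (homOfLE (U.basicOpen_le s)) a).symm

/-- the charts -/
noncomputable def chartB (U : S.Opens) (hU : IsAffineOpen U) :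
    (((i ≫ p) ⁻¹ᵁ U : Z.Opens) : Scheme.{u}) ≅ Proj ((𝔅).deg U hU) :=
  chartA 𝒜 p chart i D ⟨U, hU⟩

theorem isRelProj : RelProj.IsRelProj 𝔅 (i ≫ p) (chartB 𝒜 p chart i D) where
  chart_over U hU := chartA_over 𝒜 p chart i D ⟨U, hU⟩
  chart_res U hU s := chartA_res 𝒜 p chart i D ⟨U, hU⟩ s

theorem symm_mk_mem (U : S.AffineZariskiSite) {d : ℕ} {b : 𝔸 U} (hb : b ∈ 𝔤 U d) :
    (𝔢 U).symm (Ideal.Quotient.mk (𝔍 U) b) ∈ (𝔅).deg U.1 U.2 d := by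
  rw [heB, RingEquiv.apply_symm_apply]
  exact (qmk (𝔤 U) (D.H U)).map_mem hb

theorem symm_mk_str (U : S.AffineZariskiSite) (c : Γ(S, U.1)) :
    (𝔢 U).symm (Ideal.Quotient.mk (𝔍 U) ((𝒜.str.app (op U.1)).hom c)) =
      ((𝔅).str.app (op U.1)).hom c := by
  rw [RingEquiv.symm_apply_eq]
  exact (eps_str (coequifibered 𝒜 p chart i D) U c).symm


/-- the quotient homomorphism over an affine open -/
noncomputable def DU (U : S.AffineZariskiSite) : 𝔸 U →+* (𝔅).presheaf.obj (op U.1) :=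
  ((𝔢 U).symm.toRingHom).comp (Ideal.Quotient.mk (𝔍 U))

theorem DU_apply (U : S.AffineZariskiSite) (b : 𝔸 U) :
    DU 𝒜 p chart i D U b = (𝔢 U).symm (Ideal.Quotient.mk (𝔍 U) b) := rfl

theorem exists_phi : ∃ φ : 𝒜.toQCAlg ⟶ (𝔅).toQCAlg, ∀ (U : S.AffineZariskiSite) (b : 𝔸 U),
    (φ.hom.app (op U.1)).hom b = (𝔢 U).symm (Ideal.Quotient.mk (𝔍 U) b) := by
  refine AffExt.exists_algHom_of_affine (A := 𝒜.toQCAlg) (B := (𝔅).toQCAlg)
    (fun U => DU 𝒜 p chart i D U) (fun U a => symm_mk_str 𝒜 p chart i D U a) ?_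
  intro U V j s
  apply (𝔢 V).injective
  have h1 := eps_res (coequifibered 𝒜 p chart i D) j (DU 𝒜 p chart i D U s)
  refine h1.trans ?_
  change (𝔱 j) (𝔢 U ((𝔢 U).symm (Ideal.Quotient.mk (𝔍 U) s))) =
    𝔢 V ((𝔢 V).symm (Ideal.Quotient.mk (𝔍 V) _))
  rw [RingEquiv.apply_symm_apply, RingEquiv.apply_symm_apply]
  rfl

theorem phi_graded (φ : 𝒜.toQCAlg ⟶ (𝔅).toQCAlg)
    (hφe : ∀ (U : S.AffineZariskiSite) (b : 𝔸 U),
      (φ.hom.app (op U.1)).hom b = (𝔢 U).symm (Ideal.Quotient.mk (𝔍 U) b)) :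
    RelProj.IsGradedHom φ := by
  intro U hU d x hx
  rw [hφe ⟨U, hU⟩ x]
  exact symm_mk_mem 𝒜 p chart i D ⟨U, hU⟩ hx

theorem phi_surj (φ : 𝒜.toQCAlg ⟶ (𝔅).toQCAlg)
    (hφe : ∀ (U : S.AffineZariskiSite) (b : 𝔸 U),
      (φ.hom.app (op U.1)).hom b = (𝔢 U).symm (Ideal.Quotient.mk (𝔍 U) b))
    (U : S.Opens) (hU : IsAffineOpen U) :
    Function.Surjective (φ.hom.app (op U)).hom := by
  intro y
  obtain ⟨b, hb⟩ := Ideal.Quotient.mk_surjective (𝔢 ⟨U, hU⟩ y)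
  refine ⟨b, ?_⟩
  rw [hφe ⟨U, hU⟩ b, hb, RingEquiv.symm_apply_apply]

theorem phi_surj_deg (φ : 𝒜.toQCAlg ⟶ (𝔅).toQCAlg)
    (hφe : ∀ (U : S.AffineZariskiSite) (b : 𝔸 U),
      (φ.hom.app (op U.1)).hom b = (𝔢 U).symm (Ideal.Quotient.mk (𝔍 U) b))
    (k : ℕ) (U : S.Opens) (hU : IsAffineOpen U)
    (y : (𝔅).presheaf.obj (op U)) (hy : y ∈ (𝔅).deg U hU k) :
    ∃ x ∈ 𝒜.deg U hU k, (φ.hom.app (op U)).hom x = y := by
  obtain ⟨b, hb, hby⟩ := exists_of_mem_qgr (𝔤 ⟨U, hU⟩) (D.H ⟨U, hU⟩)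
    ((heB 𝒜 p chart i D ⟨U, hU⟩ k y).mp hy)
  refine ⟨b, hb, ?_⟩
  rw [hφe ⟨U, hU⟩ b]
  rw [qmk_apply] at hby
  rw [hby, RingEquiv.symm_apply_apply]

theorem emb_comp_i' (φ : 𝒜.toQCAlg ⟶ (𝔅).toQCAlg)
    (hφe : ∀ (U : S.AffineZariskiSite) (b : 𝔸 U),
      (φ.hom.app (op U.1)).hom b = (𝔢 U).symm (Ideal.Quotient.mk (𝔍 U) b))
    (hφ : RelProj.IsGradedHom φ) (U : S.AffineZariskiSite)
    (hirr : ((𝔅).deg U.1 U.2)₊ ≤ ((𝒜.deg U.1 U.2)₊).map (ProjQMap.ψU φ hφ U.1 U.2)) :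
    RelProj.emb (i ≫ p) (chartB 𝒜 p chart i D) U.1 U.2 ≫ i =
      Proj.map (ProjQMap.ψU φ hφ U.1 U.2) hirr ≫ RelProj.emb p chart U.1 U.2 := by
  have h1 : (chartB 𝒜 p chart i D U.1 U.2).inv =
      Proj.map (bwd (𝔢 U) (heB 𝒜 p chart i D U)) (bwd_irr _ _) ≫
        (eU 𝒜 p chart i D U).inv := by
    change (chartA 𝒜 p chart i D U).inv = _
    unfold chartA
    rw [Iso.trans_inv, Iso.symm_inv, projIso_hom]
  have h2 : (eU 𝒜 p chart i D U).inv ≫ 𝔦 U = Proj.map (qmk (𝔤 U) (D.H U)) (qmk_irr _ _) :=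
    (Iso.inv_comp_eq _).mpr (eU_hom 𝒜 p chart i D U).symm
  have h3 : (ZU p i U.1).ι ≫ i = 𝔦 U ≫ RelProj.emb p chart U.1 U.2 :=
    (iU_emb 𝒜 p chart i U).symm
  have h4 : RelProj.emb (i ≫ p) (chartB 𝒜 p chart i D) U.1 U.2 =
      (chartB 𝒜 p chart i D U.1 U.2).inv ≫ (ZU p i U.1).ι := rfl
  have hE : Proj.map (bwd (𝔢 U) (heB 𝒜 p chart i D U)) (bwd_irr _ _) ≫
      Proj.map (qmk (𝔤 U) (D.H U)) (qmk_irr _ _) = Proj.map (ProjQMap.ψU φ hφ U.1 U.2) hirr := by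
    rw [← Proj.map_comp]
    refine map_congr (GradedRingHom.ext fun a => ?_) _ _
    exact ((ProjQMap.ψU_apply φ hφ U.1 U.2 a).trans (hφe U a)).symm
  change ((chartB 𝒜 p chart i D U.1 U.2).inv ≫ (ZU p i U.1).ι) ≫ i = _
  exact (comp_aux _ _ _ _ _ _ _ _ h1 h2 h3).trans (congrArg (· ≫ RelProj.emb p chart U.1 U.2) hE)

theorem emb_comp_i (φ : 𝒜.toQCAlg ⟶ (𝔅).toQCAlg)
    (hφe : ∀ (U : S.AffineZariskiSite) (b : 𝔸 U),
      (φ.hom.app (op U.1)).hom b = (𝔢 U).symm (Ideal.Quotient.mk (𝔍 U) b))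
    (hφ : RelProj.IsGradedHom φ) (U : S.Opens) (hU : IsAffineOpen U)
    (hirr : ((𝔅).deg U hU)₊ ≤ ((𝒜.deg U hU)₊).map (ProjQMap.ψU φ hφ U hU)) :
    RelProj.emb (i ≫ p) (chartB 𝒜 p chart i D) U hU ≫ i =
      Proj.map (ProjQMap.ψU φ hφ U hU) hirr ≫ RelProj.emb p chart U hU :=
  emb_comp_i' 𝒜 p chart i D φ hφe hφ ⟨U, hU⟩ hirr

theorem isProjQMap_i (φ : 𝒜.toQCAlg ⟶ (𝔅).toQCAlg)
    (hφe : ∀ (U : S.AffineZariskiSite) (b : 𝔸 U),
      (φ.hom.app (op U.1)).hom b = (𝔢 U).symm (Ideal.Quotient.mk (𝔍 U) b))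
    (hφ : RelProj.IsGradedHom φ) :
    RelProj.IsProjQMap (RelProj.QGrHom.ofHom φ hφ) p chart (i ≫ p)
      (chartB 𝒜 p chart i D) i := by
  have hB := isRelProj 𝒜 p chart i D
  have hTN : ∀ k, 0 ≤ k → ∀ (U : S.Opens) (hU : IsAffineOpen U),
      ∀ y ∈ (𝔅).deg U hU k, ∃ x ∈ 𝒜.deg U hU k, (φ.hom.app (op U)).hom x = y :=
    fun k _ U hU y hy => phi_surj_deg 𝒜 p chart i D φ hφe k U hU y hy
  have hcov : ProjQMap.Cov φ hφ := ProjQMap.cov_of_tn φ hφ 0 hTN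
  have hG : RelProj.domQ (RelProj.QGrHom.ofHom φ hφ) (i ≫ p) (chartB 𝒜 p chart i D) = ⊤ :=
    ProjQMap.domQ_eq_top φ hφ hcov
  obtain ⟨ϖ, hϖ⟩ := ProjQGlue.exists_isProjQMapOn (u := RelProj.QGrHom.ofHom φ hφ) p chart
    (i ≫ p) (chartB 𝒜 p chart i D) D.hP hB
  haveI : IsIso (RelProj.domQ (RelProj.QGrHom.ofHom φ hφ) (i ≫ p)
      (chartB 𝒜 p chart i D)).ι := by
    rw [hG]
    exact (inferInstance : IsIso (Scheme.topIso Z).hom)
  have hh : RelProj.IsProjQMap (RelProj.QGrHom.ofHom φ hφ) p chart (i ≫ p)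
      (chartB 𝒜 p chart i D)
      (inv (RelProj.domQ (RelProj.QGrHom.ofHom φ hφ) (i ≫ p)
        (chartB 𝒜 p chart i D)).ι ≫ ϖ) := by
    refine ⟨hG, ?_⟩
    intro U hU U₁ hU₁ hle d hd f hf
    rw [← hϖ U hU U₁ hU₁ hle d hd f hf
      (RelProj.range_awayEmb_subset_domQ (RelProj.QGrHom.ofHom φ hφ) (i ≫ p)
        (chartB 𝒜 p chart i D) U hU U₁ hU₁ hle hd f hf), ← Category.assoc]
    congr 1
    rw [IsIso.comp_inv_eq, IsOpenImmersion.lift_fac]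
  have heq : inv (RelProj.domQ (RelProj.QGrHom.ofHom φ hφ) (i ≫ p)
      (chartB 𝒜 p chart i D)).ι ≫ ϖ = i := by
    refine (ProjQMap.coverB (pB := i ≫ p) (chartB := chartB 𝒜 p chart i D) φ hφ
      hcov).hom_ext _ _ (fun idx => ?_)
    have h1 := ProjQMap.eqs_of_isProjQMap φ hφ _ hh idx.1.1 idx.1.2 idx.2.1.1 idx.2.1.2
      idx.2.2.1 idx.2.2.2
    refine h1.trans ?_
    have hirr : ((𝔅).deg idx.1.1 idx.1.2)₊ ≤
        ((𝒜.deg idx.1.1 idx.1.2)₊).map (ProjQMap.ψU φ hφ idx.1.1 idx.1.2) :=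
      irrelevant_le_of_surj _ (fun d b hb => by
        obtain ⟨x, hx, hxb⟩ := phi_surj_deg 𝒜 p chart i D φ hφe d idx.1.1 idx.1.2 b hb
        exact ⟨x, hx, (ProjQMap.ψU_apply φ hφ idx.1.1 idx.1.2 x).trans hxb⟩)
    symm
    change (Proj.awayι _ _ _ _ ≫ RelProj.emb (i ≫ p) (chartB 𝒜 p chart i D) idx.1.1 idx.1.2) ≫
      i = _
    rw [Category.assoc, emb_comp_i 𝒜 p chart i D φ hφe hφ idx.1.1 idx.1.2 hirr]
    exact Proj.awayι_comp_map_assoc (ProjQMap.ψU φ hφ idx.1.1 idx.1.2) hirr idx.2.1.2 _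
      idx.2.2.2 (RelProj.emb p chart idx.1.1 idx.1.2)
  rwa [heq] at hh

theorem phi_ker (φ : 𝒜.toQCAlg ⟶ (𝔅).toQCAlg)
    (hφe : ∀ (U : S.AffineZariskiSite) (b : 𝔸 U),
      (φ.hom.app (op U.1)).hom b = (𝔢 U).symm (Ideal.Quotient.mk (𝔍 U) b))
    (U : S.Opens) (hU : IsAffineOpen U) :
    RingHom.ker (φ.hom.app (op U)).hom = (D.H ⟨U, hU⟩).I := by
  ext b
  rw [RingHom.mem_ker, hφe ⟨U, hU⟩ b]
  constructor
  · intro h0
    have h1 := congrArg (𝔢 ⟨U, hU⟩) h0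
    rw [RingEquiv.apply_symm_apply, map_zero] at h1
    exact Ideal.Quotient.eq_zero_iff_mem.mp h1
  · intro hb
    rw [Ideal.Quotient.eq_zero_iff_mem.mpr hb, map_zero]

/-- the relative `Proj` of the quotient by a family of homogeneous ideals with the saturation of
the ideals of a closed subscheme is that closed subscheme -/
theorem exists_all_gen :
    ∃ (ℬ' : RelProj.QCGrAlg S) (φ : 𝒜.toQCAlg ⟶ ℬ'.toQCAlg) (hφ : RelProj.IsGradedHom φ)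
      (PB : Scheme.{u}) (pB : PB ⟶ S)
      (chartB' : ∀ (U : S.Opens) (hU : IsAffineOpen U),
        (((pB ⁻¹ᵁ U : PB.Opens) : Scheme.{u}) ≅ Proj (ℬ'.deg U hU)))
      (h : PB ⟶ P) (e : PB ≅ Z),
      (∀ (U : S.Opens) (hU : IsAffineOpen U), Function.Surjective (φ.hom.app (op U)).hom ∧
        RingHom.ker (φ.hom.app (op U)).hom = (D.H ⟨U, hU⟩).I) ∧
        RelProj.IsRelProj ℬ' pB chartB' ∧
        RelProj.IsProjQMap (RelProj.QGrHom.ofHom φ hφ) p chart pB chartB' h ∧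
        e.hom ≫ i = h := by
  obtain ⟨φ, hφe⟩ := exists_phi 𝒜 p chart i D
  have hφ := phi_graded 𝒜 p chart i D φ hφe
  exact ⟨𝔅, φ, hφ, Z, i ≫ p, chartB 𝒜 p chart i D, i, Iso.refl Z,
    fun U hU => ⟨phi_surj 𝒜 p chart i D φ hφe U hU, phi_ker 𝒜 p chart i D φ hφe U hU⟩,
    isRelProj 𝒜 p chart i D, isProjQMap_i 𝒜 p chart i D φ hφe hφ, Category.id_comp _⟩

end Site

end Groth.Agent.Lib.Helper3.CPxB
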