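import Groth.Agent.Lib.Helper3.CPx
import Groth.Agent.Lib.Helper3.CPgW

/-!
# Quotients of gradings by additive subgroups by homogeneous ideals with the saturation of the
ideal of a closed subscheme
-/

set_option autoImplicit false
set_option linter.unusedSectionVars false
universe u
open CategoryTheory CategoryTheory.Limits AlgebraicGeometry TopologicalSpace Opposite
open Scheme.Modules
open scoped HomogeneousIdeal

namespace Groth.Agent.Lib.Helper3.CPxW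

open QCSec TwistBasic GrTildeQC ProjFrac GrTildeHom ProjMapFn ProjClosed ToProj GrTransport CPg CPx
open CPa (irrelevant_le_of_square)
open CPw (sm smIso toSm ofSm smIso_hom smIso_inv cover_sm θs θs_apply hθs hcs ιs ZZ mem_sm)
open CPgW (FinCoverG KK)

attribute [local instance 10] ULift.algebra'

section Wrap

variable {A : Type u} [CommRing A] (𝒜 : ℕ → AddSubgroup A) [GradedRing 𝒜] (J : HI (sm 𝒜))

/-- the grading of the quotient -/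
noncomputable def qgr : ℕ → AddSubgroup (A ⧸ J.I) :=
  tr (RingEquiv.refl _) (GrQuot.piece (sm 𝒜) J.I)

noncomputable instance qgrGraded : GradedRing (qgr 𝒜 J) :=
  gradedRing (RingEquiv.refl _) (GrQuot.piece (sm 𝒜) J.I)

theorem mem_qgr {d : ℕ} {x : A ⧸ J.I} :
    x ∈ qgr 𝒜 J d ↔ x ∈ GrQuot.piece (sm 𝒜) J.I d := Iff.rfl

/-- the quotient map as a graded homomorphism -/
noncomputable def qmk : 𝒜 →+*ᵍ qgr 𝒜 J where
  toRingHom := Ideal.Quotient.mk J.I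
  map_mem := fun ha => GrQuot.mk_mem_piece (sm 𝒜) J.I ha

theorem qmk_apply (a : A) : qmk 𝒜 J a = Ideal.Quotient.mk J.I a := rfl

theorem exists_of_mem_qgr {d : ℕ} {x : A ⧸ J.I} (hx : x ∈ qgr 𝒜 J d) :
    ∃ a ∈ 𝒜 d, qmk 𝒜 J a = x :=
  GrQuot.exists_of_mem_piece (sm 𝒜) J.I hx

theorem qmk_irr : (qgr 𝒜 J)₊ ≤ 𝒜₊.map (qmk 𝒜 J) :=
  irrelevant_le_of_surj _ (fun _ _ hb => exists_of_mem_qgr 𝒜 J hb)

theorem he_q (d : ℕ) (a : A ⧸ J.I) :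
    a ∈ qgr 𝒜 J d ↔ (RingEquiv.refl _) a ∈ GrQuot.piece (sm 𝒜) J.I d := Iff.rfl

/-- the two `Proj`s of the quotient agree -/
noncomputable def qIso : Proj (qgr 𝒜 J) ≅ Proj (GrQuot.piece (sm 𝒜) J.I) :=
  projIso (RingEquiv.refl _) (he_q 𝒜 J)

theorem qIso_inv : (qIso 𝒜 J).inv =
    Proj.map (fwd (RingEquiv.refl _) (he_q 𝒜 J)) (fwd_irr _ _) := rfl

/-- a closed subscheme of `Proj 𝒜` is the `Proj` of the quotient by a homogeneous ideal with the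
same saturation as its homogeneous ideal -/
theorem exists_e_of_sat {Z : Scheme.{u}} (ι : Z ⟶ Proj 𝒜) [IsClosedImmersion ι]
    (hfc : FinCoverG 𝒜) (hle : J.I ≤ KK 𝒜 ι)
    (hsat : ∀ (g : A) (e : ℕ), 0 < e → g ∈ 𝒜 e → ∀ (k : ℕ) (a : A), a ∈ 𝒜 (k • e) →
      a ∈ KK 𝒜 ι → ∃ N : ℕ, g ^ N * a ∈ J.I) :
    ∃ e : Z ≅ Proj (qgr 𝒜 J), e.hom ≫ Proj.map (qmk 𝒜 J) (qmk_irr 𝒜 J) = ι := by
  obtain ⟨κ, _, f, df, hf, hcov⟩ := hfc
  obtain ⟨e₀, he₀⟩ := CPx.exists_e_of_sat (ιs 𝒜 ι) (f := f) (df := df) hf (cover_sm 𝒜 hcov) J hle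
    (fun i k a ha haK => hsat (f i) (df i) (hf i).1 (hf i).2 k a ha haK)
  refine ⟨e₀ ≪≫ (qIso 𝒜 J).symm, ?_⟩
  have h2 : e₀.hom ≫ Proj.map (GrQuot.mkHom (sm 𝒜) J.I)
      (GrQuot.irrelevant_le _ _ J.hom) ≫ (smIso 𝒜).inv = ι := by
    rw [← Category.assoc, he₀, Category.assoc, Iso.hom_inv_id, Category.comp_id]
  refine Eq.trans ?_ h2
  rw [Iso.trans_hom, Iso.symm_hom, Category.assoc]
  congr 1
  rw [qIso_inv, smIso_inv, ← Proj.map_comp, ← Proj.map_comp]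
  exact map_congr (GradedRingHom.ext fun a => rfl) _ _

end Wrap

section Facts

variable {A : Type u} [CommRing A] (𝒜 : ℕ → AddSubgroup A) [GradedRing 𝒜] {Z : Scheme.{u}}
  (ι : Z ⟶ Proj 𝒜)

/-- generators in one degree, up to saturation -/
theorem exists_gens [IsClosedImmersion ι] [LocallyOfFinitePresentation ι] (hfc : FinCoverG 𝒜) :
    ∃ D : ℕ, 0 < D ∧ ∀ d : ℕ, 0 < d → D ∣ d → ∃ T : Finset A,
      (∀ t ∈ T, t ∈ 𝒜 d ∧ t ∈ KK 𝒜 ι) ∧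
      ∀ (g : A) (e : ℕ), 0 < e → g ∈ 𝒜 e → ∀ (k : ℕ) (a : A), a ∈ 𝒜 (k • e) → a ∈ KK 𝒜 ι →
        ∃ N : ℕ, g ^ N * a ∈ Ideal.span (T : Set A) := by
  obtain ⟨κ, _, f, df, hf, hcov⟩ := hfc
  haveI : LocallyOfFinitePresentation (ιs 𝒜 ι) := inferInstance
  exact CPx.exists_gens (ιs 𝒜 ι) (f := f) (df := df) hf (cover_sm 𝒜 hcov)

theorem KK_eq_top_of_isEmpty [IsEmpty Z] : KK 𝒜 ι = ⊤ :=
  K'_eq_top_of_isEmpty (ιs 𝒜 ι)

theorem KK_decompose_mem {a : A} (ha : a ∈ KK 𝒜 ι) (d : ℕ) :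
    (DirectSum.decompose 𝒜 a d : A) ∈ KK 𝒜 ι := by
  have h1 := K'_homogeneous (ιs 𝒜 ι) d ha
  have h2 : (toSm 𝒜) (DirectSum.decompose 𝒜 a d : A) =
      ((DirectSum.decompose (sm 𝒜) ((toSm 𝒜) a) d : sm 𝒜 d) : A) :=
    (toSm 𝒜).map_directSumDecompose
  exact h2 ▸ h1

end Facts

section Lift

variable {A A' : Type u} [CommRing A] [CommRing A'] {𝒜 : ℕ → AddSubgroup A}
  {𝒜' : ℕ → AddSubgroup A'} [GradedRing 𝒜] [GradedRing 𝒜'] (θ : 𝒜 →+*ᵍ 𝒜')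

/-- homogeneous elements of a localization lift to homogeneous elements -/
theorem lift_homog {c : A} (hc : c ∈ 𝒜 0)
    (hsurj : ∀ z : A', ∃ (n : ℕ) (a : A), θ a = θ c ^ n * z) {e : ℕ} {z : A'} (hz : z ∈ 𝒜' e) :
    ∃ (n : ℕ) (a : A), a ∈ 𝒜 e ∧ θ a = θ c ^ n * z := by
  obtain ⟨n, a₀, ha₀⟩ := hsurj z
  refine ⟨n, (DirectSum.decompose 𝒜 a₀ e : A), SetLike.coe_mem _, ?_⟩
  rw [GradedRingHom.map_directSumDecompose, ha₀]
  have hmem : θ c ^ n * z ∈ 𝒜' e := by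
    have h1 : θ c ^ n ∈ 𝒜' (n • 0) := SetLike.pow_mem_graded n (θ.map_mem hc)
    rw [smul_zero] at h1
    have h2 := SetLike.mul_mem_graded h1 hz
    rwa [zero_add] at h2
  exact DirectSum.decompose_of_mem_same _ hmem

end Lift

section Fun

variable {A A' : Type u} [CommRing A] [CommRing A'] {𝒜 : ℕ → AddSubgroup A}
  {𝒜' : ℕ → AddSubgroup A'} [GradedRing 𝒜] [GradedRing 𝒜'] (θ : 𝒜 →+*ᵍ 𝒜')
  (hθ : 𝒜'₊ ≤ 𝒜₊.map θ) (J : HI (sm 𝒜)) (J' : HI (sm 𝒜')) {Z Z' : Scheme.{u}}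
  (ι : Z ⟶ Proj 𝒜) (ι' : Z' ⟶ Proj 𝒜') (h : Z' ⟶ Z)
  (hc : h ≫ ι = ι' ≫ Proj.map θ hθ)

/-- the induced graded homomorphism of the quotients -/
noncomputable def qHom (hle : ∀ a, a ∈ J.I → θ a ∈ J'.I) : qgr 𝒜 J →+*ᵍ qgr 𝒜' J' where
  toRingHom := Ideal.quotientMap J'.I θ.toRingHom (fun a ha => hle a ha)
  map_mem := by
    intro d x hx
    obtain ⟨a, ha, rfl⟩ := exists_of_mem_qgr 𝒜 J hx
    exact (qmk 𝒜' J').map_mem (θ.map_mem ha)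

theorem qHom_mk (hle : ∀ a, a ∈ J.I → θ a ∈ J'.I) (a : A) :
    qHom θ J J' hle (Ideal.Quotient.mk J.I a) = Ideal.Quotient.mk J'.I (θ a) := rfl

include hθ in
theorem irr_q (hle : ∀ a, a ∈ J.I → θ a ∈ J'.I) :
    (qgr 𝒜' J')₊ ≤ (qgr 𝒜 J)₊.map (qHom θ J J' hle) :=
  irrelevant_le_of_square θ hθ (qmk 𝒜 J) (qmk 𝒜' J') (qHom θ J J' hle) (fun _ => rfl)
    (fun _ _ hb => exists_of_mem_qgr 𝒜' J' hb)

include hc in
theorem e_comp' [IsClosedImmersion ι] (hle : ∀ a, a ∈ J.I → θ a ∈ J'.I)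
    (e : Z ≅ Proj (qgr 𝒜 J)) (he : e.hom ≫ Proj.map (qmk 𝒜 J) (qmk_irr 𝒜 J) = ι)
    (e' : Z' ≅ Proj (qgr 𝒜' J')) (he' : e'.hom ≫ Proj.map (qmk 𝒜' J') (qmk_irr 𝒜' J') = ι') :
    h ≫ e.hom = e'.hom ≫ Proj.map (qHom θ J J' hle) (irr_q θ hθ J J' hle) := by
  haveI : Mono (Proj.map (qmk 𝒜 J) (qmk_irr 𝒜 J)) := by
    have h0 : Proj.map (qmk 𝒜 J) (qmk_irr 𝒜 J) = e.inv ≫ ι := (Iso.eq_inv_comp e).mpr he
    rw [h0]
    infer_instance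
  have hR : (e'.hom ≫ Proj.map (qHom θ J J' hle) (irr_q θ hθ J J' hle)) ≫
      Proj.map (qmk 𝒜 J) (qmk_irr 𝒜 J) =
      (e'.hom ≫ Proj.map (qmk 𝒜' J') (qmk_irr 𝒜' J')) ≫ Proj.map θ hθ := by
    rw [Category.assoc, Category.assoc, ← Proj.map_comp, ← Proj.map_comp]
    congr 1
  rw [← cancel_mono (Proj.map (qmk 𝒜 J) (qmk_irr 𝒜 J)), Category.assoc, he, hc, hR, he']

end Fun

end Groth.Agent.Lib.Helper3.CPxW
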