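import Groth.Agent.Lib.Helper3.RLSigmaImm
import Groth.Agent.Lib.Helper3.QCPush

/-!
# The canonical immersion into `P(q_*L)` for a relatively very ample `L`
-/

set_option autoImplicit false
set_option linter.unusedSectionVars false
universe u
open CategoryTheory CategoryTheory.Limits AlgebraicGeometry TopologicalSpace Opposite
open Scheme.Modules
open scoped HomogeneousIdeal

namespace Groth.Agent.Lib.Helper3.CanonImm

open QCSec InvGen InvTensor InvMonoidal PbBasic PullLemmas RelChart SymGen TwistHom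
  ProjBundleUniq LinProj ProjBundleUP Groth.Agent.Lib.Helper17.UnitBC Groth.Agent.Lib.Helper17

variable {X Y : Scheme.{u}}

/-- if `L` is very ample relative to `q` and `q_*L` is quasi-coherent, there is an immersion of
`X` into `P(q_*L)` over `Y` -/
theorem exists_immersion {P : Scheme.{u}} (q : X ⟶ Y) (L : X.Modules) (hL : PicF.IsInvertible L)
    (hEq : ((Scheme.Modules.pushforward q).obj L).IsQuasicoherent)
    (𝒜 : RelProj.QCGrAlg Y) (jE : (Scheme.Modules.pushforward q).obj L ⟶ 𝒜.toModule)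
    (h𝒜 : RelProj.IsGrSymAlg ((Scheme.Modules.pushforward q).obj L) 𝒜 jE)
    (p : P ⟶ Y)
    (chart : ∀ (U : Y.Opens) (hU : IsAffineOpen U),
      (((p ⁻¹ᵁ U : P.Opens) : Scheme.{u}) ≅ Proj (𝒜.deg U hU)))
    (hP : RelProj.IsRelProj 𝒜 p chart)
    (h : RelProj.IsRelVeryAmple q L) :
    ∃ ρ : X ⟶ P, IsImmersion ρ ∧ ρ ≫ p = q := by
  classical
  haveI := hEq
  haveI : L.IsQuasicoherent := InvCoh.isQuasicoherent_of_isInvertible hL
  obtain ⟨𝒮L, jL, hjL⟩ := SymGr.exists_isGrSymAlg L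
  obtain ⟨PL, pL, chartL, hPL⟩ := RelProjExist.exists_isRelProj 𝒮L
  haveI : IsIso pL := SymInvProj.isIso_p hL hjL pL chartL hPL
  obtain ⟨u, hu0⟩ := ProjBundleUP.exists_qGrHom q h𝒜
    ((pullbackPushforwardAdjunction q).counit.app L ≫ jL)
    (fun U' hU' x => hjL.2 U' hU' (((pullbackPushforwardAdjunction q).counit.app L).app U' x))
  have hu : ∀ (U : Y.Opens) (x : Γ((Scheme.Modules.pushforward q).obj L, U)),
      (u.app U).hom ((jE.app U) x) = (jL.app (q ⁻¹ᵁ U)) x := by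
    intro U x
    refine (hu0 U x).trans ?_
    have h1 := CounitGG.counit_pull q L U (up q L U x)
    exact congrArg (jL.app (q ⁻¹ᵁ U)) h1
  obtain ⟨r₀, hr₀⟩ := ProjQGlue.exists_isProjQMapOn (u := u) p chart pL chartL hP hPL
  obtain ⟨hdom, hr₀i⟩ := RLSigmaImm.domQ_eq_top_and_isImmersion q L hL 𝒮L jL hjL pL chartL hPL
    hEq 𝒜 jE h𝒜 u hu p chart hP r₀ hr₀ h
  haveI := hr₀i
  haveI hD : IsIso (RelProj.domQ u pL chartL).ι := RelTwistQ2.isIso_ι_of_eq_top _ hdom
  have hcomp := ProjQGlue.comp_eq_of_isProjQMapOn p chart pL chartL hP hPL r₀ hr₀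
  refine ⟨inv pL ≫ inv (RelProj.domQ u pL chartL).ι ≫ r₀, inferInstance, ?_⟩
  rw [Category.assoc, Category.assoc, hcomp, IsIso.inv_hom_id_assoc, IsIso.inv_hom_id_assoc]

end Groth.Agent.Lib.Helper3.CanonImm
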