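import Groth.Agent.Lib.Helper3.GrModQC
import Groth.Agent.Lib.Helper6.ProjMap

/-!
# Values of functions pulled back along the structure morphism of `Proj` (general gradings)
-/

set_option autoImplicit false
set_option linter.unusedSectionVars false
universe u
open CategoryTheory CategoryTheory.Limits AlgebraicGeometry TopologicalSpace Opposite
open HomogeneousLocalization
open scoped HomogeneousIdeal

namespace Groth.Agent.Lib.Helper3.ProjStruct

open QCSec GrModQC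

variable {A σ : Type u} [CommRing A] [SetLike σ A] [AddSubgroupClass σ A]
  (𝒜 : ℕ → σ) [GradedRing 𝒜]

section Struct

variable {g : A} {d : ℕ} (hg : g ∈ 𝒜 d) (hd : 0 < d)

include hg hd in
theorem toSpecZero_appLE :
    (Proj.toSpecZero 𝒜).appLE ⊤ (Proj.basicOpen 𝒜 g) le_top =
      (Scheme.ΓSpecIso (.of (𝒜 0))).hom ≫
        CommRingCat.ofHom (HomogeneousLocalization.fromZeroRingHom 𝒜 (Submonoid.powers g)) ≫
        Proj.awayToSection 𝒜 g := by
  have h0 := Proj.awayι_toSpecZero 𝒜 g hg hd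
  have h1 : (Proj.basicOpenIsoSpec 𝒜 g hg hd).hom.appTop =
      (Scheme.ΓSpecIso _).hom ≫ Proj.awayToSection 𝒜 g ≫ (Proj.basicOpen 𝒜 g).topIso.inv := by
    rw [Proj.basicOpenIsoSpec_hom]
    exact Proj.basicOpenToSpec_app_top 𝒜 g
  have h2 : (Proj.basicOpen 𝒜 g).ι ≫ Proj.toSpecZero 𝒜 =
      (Proj.basicOpenIsoSpec 𝒜 g hg hd).hom ≫
        Spec.map (CommRingCat.ofHom (HomogeneousLocalization.fromZeroRingHom 𝒜 _)) := by
    rw [← h0, Proj.awayι, Category.assoc, Iso.hom_inv_id_assoc]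
  have h3 := congrArg Scheme.Hom.appTop h2
  rw [Scheme.Hom.comp_appTop, Scheme.Hom.comp_appTop, h1] at h3
  have h4 : (Proj.toSpecZero 𝒜).appTop ≫ (Proj.basicOpen 𝒜 g).ι.appTop =
      (Proj.toSpecZero 𝒜).appLE ⊤ (Proj.basicOpen 𝒜 g) le_top ≫
        (Proj.basicOpen 𝒜 g).topIso.inv := by
    rw [Scheme.Opens.ι_appTop, Scheme.Opens.topIso_inv, Scheme.Hom.appLE, Category.assoc]
    congr 1
  rw [h4, Scheme.ΓSpecIso_naturality_assoc] at h3
  simp only [← Category.assoc] at h3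
  exact (cancel_mono ((Proj.basicOpen 𝒜 g).topIso.inv)).mp (by simpa only [Category.assoc] using h3)

include hg in
theorem fval_awayToSection_fromZero (w : 𝒜 0) (x : Proj.basicOpen 𝒜 g) :
    fval ((Proj.awayToSection 𝒜 g).hom
        (HomogeneousLocalization.fromZeroRingHom 𝒜 (Submonoid.powers g) w)) x =
      Localization.mk (w : A) 1 := by
  have hw : (w : A) ∈ 𝒜 (0 • d) := by simp
  have h1 : HomogeneousLocalization.fromZeroRingHom 𝒜 (Submonoid.powers g) w =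
      HomogeneousLocalization.Away.mk 𝒜 hg 0 (w : A) hw := by
    apply HomogeneousLocalization.val_injective
    rw [HomogeneousLocalization.Away.val_mk]
    change Localization.mk (w : A) 1 = _
    congr 1
    exact Subtype.ext (pow_zero g).symm
  have hx : g ^ 0 ∉ x.1.asHomogeneousIdeal.toIdeal := by
    rw [pow_zero]
    exact fun h => x.1.isPrime.ne_top ((Ideal.eq_top_iff_one _).mpr h)
  rw [h1, fval_mk_away hg 0 (w : A) hw x hx]
  congr 1
  exact Subtype.ext (pow_zero g)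

end Struct

/-- the value at a point of `Proj 𝒜` of the pullback of a function on an affine open of the base -/
theorem fval_appLE {Y : Scheme.{u}} {U : Y.Opens} (hU : IsAffineOpen U)
    (ψ : Γ(Y, U) ⟶ CommRingCat.of (𝒜 0)) (q : Proj 𝒜 ⟶ Y)
    (hq : q = Proj.toSpecZero 𝒜 ≫ Spec.map ψ ≫ hU.fromSpec)
    (V : (Proj 𝒜).Opens) (hV : V ≤ q ⁻¹ᵁ U) (a : Γ(Y, U)) (y : V) :
    fval (q.appLE U V hV a) y = Localization.mk ((ψ.hom a : 𝒜 0) : A) 1 := by
  obtain ⟨d, hd, g, hg, hy⟩ := Groth.Agent.Lib.Helper6.exists_homogeneous_mem_basicOpen 𝒜 y.1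
  have hle : Proj.basicOpen 𝒜 g ≤ q ⁻¹ᵁ U := by
    intro z _
    rw [hq]
    change (hU.fromSpec) ((Spec.map ψ) ((Proj.toSpecZero 𝒜) z)) ∈ U
    have := hU.fromSpec_preimage_self
    have h2 : (Spec.map ψ) ((Proj.toSpecZero 𝒜) z) ∈ hU.fromSpec ⁻¹ᵁ U := by rw [this]; trivial
    exact h2
  have key : q.appLE U (Proj.basicOpen 𝒜 g) hle =
      ψ ≫ CommRingCat.ofHom (HomogeneousLocalization.fromZeroRingHom 𝒜 (Submonoid.powers g)) ≫
        Proj.awayToSection 𝒜 g := by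
    subst hq
    have ht1 : (⊤ : (Spec Γ(Y, U)).Opens) ≤ hU.fromSpec ⁻¹ᵁ U := by
      rw [hU.fromSpec_preimage_self]
    have ht2 : (⊤ : (Spec (CommRingCat.of (𝒜 0))).Opens) ≤ (Spec.map ψ ≫ hU.fromSpec) ⁻¹ᵁ U := by
      intro z _
      exact ht1 (Set.mem_univ ((Spec.map ψ) z))
    have h1 := Scheme.Hom.appLE_comp_appLE (Proj.toSpecZero 𝒜) (Spec.map ψ ≫ hU.fromSpec)
      U ⊤ (Proj.basicOpen 𝒜 g) ht2 le_top
    have h2 := Scheme.Hom.appLE_comp_appLE (Spec.map ψ) hU.fromSpec U ⊤ ⊤ ht1 le_top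
    have h3 : hU.fromSpec.appLE U ⊤ ht1 = (Scheme.ΓSpecIso Γ(Y, U)).inv := by
      rw [Scheme.Hom.appLE, hU.fromSpec_app_self, Category.assoc, ← Functor.map_comp]
      convert Category.comp_id _
      exact CategoryTheory.Functor.map_id _ _
    have h4 : (Spec.map ψ).appLE ⊤ ⊤ le_top = (Spec.map ψ).appTop := by
      simp [Scheme.Hom.appLE, Scheme.Hom.appTop]
    rw [← h1, ← h2, h3, h4, toSpecZero_appLE 𝒜 hg hd, ← Scheme.ΓSpecIso_inv_naturality,
      Category.assoc, Iso.inv_hom_id_assoc]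
  have e1 : fval (q.appLE U V hV a) y =
      fval (q.appLE U (V ⊓ Proj.basicOpen 𝒜 g) (inf_le_left.trans hV) a) ⟨y.1, y.2, hy⟩ := by
    have := Scheme.Hom.appLE_map q hV (homOfLE (inf_le_left : V ⊓ Proj.basicOpen 𝒜 g ≤ V)).op
    rw [← this]
    rfl
  have e2 : fval (q.appLE U (V ⊓ Proj.basicOpen 𝒜 g) (inf_le_left.trans hV) a) ⟨y.1, y.2, hy⟩ =
      fval (q.appLE U (Proj.basicOpen 𝒜 g) hle a) ⟨y.1, hy⟩ := by
    have := Scheme.Hom.appLE_map q hle
      (homOfLE (inf_le_right : V ⊓ Proj.basicOpen 𝒜 g ≤ Proj.basicOpen 𝒜 g)).op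
    rw [← this]
    rfl
  rw [e1, e2, key]
  exact fval_awayToSection_fromZero 𝒜 hg (ψ.hom a) ⟨y.1, hy⟩

end Groth.Agent.Lib.Helper3.ProjStruct
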