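import Groth.Agent.Lib.Helper3.HomMk
import Groth.Agent.Lib.Helper3.QCExact
import Groth.Prelude.Def_RelProj2

/-!
# The symmetric algebra of a quasi-coherent module is generated by the module

For a quasi-coherent algebra `A` with a module map `j : E ⟶ A`, we build the quasi-coherent
subalgebra generated by the image of `j`; if `(A, j)` is a symmetric algebra of `E`, the universal
property forces this subalgebra to be everything.
-/

set_option autoImplicit false
universe u
open CategoryTheory CategoryTheory.Limits AlgebraicGeometry TopologicalSpace Opposite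
open Scheme.Modules

namespace Groth.Agent.Lib.Helper3.SymGen

open QCSec

variable {S : Scheme.{u}} (A : RelSpec.QCAlg S) {E : S.Modules} (j : E ⟶ A.toModule)

/-- restriction of sections of `A` -/
noncomputable abbrev rs {U V : S.Opens} (h : V ≤ U) :
    A.presheaf.obj (op U) →+* A.presheaf.obj (op V) :=
  (A.presheaf.map (homOfLE h).op).hom

/-- structure map on sections -/
noncomputable abbrev st (U : S.Opens) : Γ(S, U) →+* A.presheaf.obj (op U) :=
  (A.str.app (op U)).hom

/-- `j` on sections, as a function to the ring of sections -/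
noncomputable abbrev jj (U : S.Opens) (e : Γ(E, U)) : A.presheaf.obj (op U) := j.app U e

theorem rs_rs {U V W : S.Opens} (h : V ≤ U) (h' : W ≤ V) (s : A.presheaf.obj (op U)) :
    rs A h' (rs A h s) = rs A (h'.trans h) s := by
  change (A.presheaf.map _ ≫ A.presheaf.map _).hom s = _
  rw [← Functor.map_comp]
  rfl

theorem rs_self {U : S.Opens} (h : U ≤ U) (s : A.presheaf.obj (op U)) : rs A h s = s :=
  congr($(A.presheaf.map_id (op U)) s)

theorem rs_st {U V : S.Opens} (h : V ≤ U) (r : Γ(S, U)) :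
    rs A h (st A U r) = st A V (rres S h r) := by
  have := congr($(A.str.naturality (homOfLE h).op) r)
  exact this.symm

theorem rs_jj {U V : S.Opens} (h : V ≤ U) (e : Γ(E, U)) :
    rs A h (jj A j U e) = jj A j V (res E h e) := by
  exact (QCExact.app_res' j h e).symm

theorem jj_smul (U : S.Opens) (a : Γ(S, U)) (e : Γ(E, U)) :
    jj A j U (a • e) = st A U a * jj A j U e := by
  change j.app U (a • e) = _
  rw [Scheme.Modules.Hom.app_smul]
  rfl

theorem jj_add (U : S.Opens) (e e' : Γ(E, U)) :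
    jj A j U (e + e') = jj A j U e + jj A j U e' := map_add _ _ _


/-- the subring generated by functions and by the image of `j` -/
noncomputable def G (U : S.Opens) : Subring (A.presheaf.obj (op U)) :=
  Subring.closure (Set.range (st A U) ∪ Set.range (jj A j U))

theorem st_mem_G (U : S.Opens) (r : Γ(S, U)) : st A U r ∈ G A j U :=
  Subring.subset_closure (Or.inl ⟨r, rfl⟩)

theorem jj_mem_G (U : S.Opens) (e : Γ(E, U)) : jj A j U e ∈ G A j U :=
  Subring.subset_closure (Or.inr ⟨e, rfl⟩)

theorem rs_mem_G {U V : S.Opens} (h : V ≤ U) {x : A.presheaf.obj (op U)} (hx : x ∈ G A j U) :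
    rs A h x ∈ G A j V := by
  induction hx using Subring.closure_induction with
  | mem x hx =>
    rcases hx with ⟨r, rfl⟩ | ⟨e, rfl⟩
    · rw [rs_st]; exact st_mem_G A j V _
    · rw [rs_jj]; exact jj_mem_G A j V _
  | zero => rw [map_zero]; exact zero_mem _
  | one => rw [map_one]; exact one_mem _
  | add x y _ _ hx hy => rw [map_add]; exact add_mem hx hy
  | neg x _ hx => rw [map_neg]; exact neg_mem hx
  | mul x y _ _ hx hy => rw [map_mul]; exact mul_mem hx hy

/-- functions on a basic open are fractions -/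
theorem exists_fun_lift {U : S.Opens} (hU : IsAffineOpen U) (r : Γ(S, U)) (W : S.Opens)
    (hW : W = S.basicOpen r) (hWU : W ≤ U) (t : Γ(S, W)) :
    ∃ (n : ℕ) (t' : Γ(S, U)), t * (rres S hWU r) ^ n = rres S hWU t' := by
  subst hW
  letI : Algebra Γ(S, U) Γ(S, S.basicOpen r) :=
    (S.presheaf.map (homOfLE (S.basicOpen_le r)).op).hom.toAlgebra
  haveI : IsLocalization.Away r Γ(S, S.basicOpen r) := hU.isLocalization_basicOpen r
  obtain ⟨n, a, h⟩ := IsLocalization.Away.surj r t
  exact ⟨n, a, h⟩

/-- injectivity part of quasi-coherence of `A` -/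
theorem exists_pow_mul_eq_zero {U : S.Opens} (hU : IsAffineOpen U) (r : Γ(S, U)) (W : S.Opens)
    (hW : W = S.basicOpen r) (hWU : W ≤ U) (s : A.presheaf.obj (op U)) (hs : rs A hWU s = 0) :
    ∃ m : ℕ, (st A U r) ^ m * s = 0 := by
  subst hW
  letI : Algebra (A.presheaf.obj (op U)) (A.presheaf.obj (op (S.basicOpen r))) :=
    (A.presheaf.map (homOfLE (S.basicOpen_le r)).op).hom.toAlgebra
  haveI : IsLocalization.Away ((A.str.app (op U)).hom r)
    (A.presheaf.obj (op (S.basicOpen r))) := A.isQC U hU r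
  have h0 : algebraMap (A.presheaf.obj (op U)) (A.presheaf.obj (op (S.basicOpen r))) s =
      algebraMap (A.presheaf.obj (op U)) (A.presheaf.obj (op (S.basicOpen r))) 0 := by
    rw [map_zero]; exact hs
  obtain ⟨⟨c, m, rfl⟩, hc⟩ := IsLocalization.exists_of_eq (M := Submonoid.powers
    ((A.str.app (op U)).hom r)) h0
  exact ⟨m, by simpa using hc⟩

variable [E.IsQuasicoherent]

/-- elements of `G` on a basic open are fractions of elements of `G` -/
theorem exists_G_lift {U : S.Opens} (hU : IsAffineOpen U) (r : Γ(S, U)) (W : S.Opens)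
    (hW : W = S.basicOpen r) (hWU : W ≤ U) {z : A.presheaf.obj (op W)} (hz : z ∈ G A j W) :
    ∃ (n : ℕ) (a : A.presheaf.obj (op U)), a ∈ G A j U ∧
      z * (rs A hWU (st A U r)) ^ n = rs A hWU a := by
  induction hz using Subring.closure_induction with
  | mem x hx =>
    rcases hx with ⟨t, rfl⟩ | ⟨e, rfl⟩
    · obtain ⟨n, t', h⟩ := exists_fun_lift hU r W hW hWU t
      refine ⟨n, st A U t', st_mem_G A j U _, ?_⟩
      rw [rs_st, rs_st, ← map_pow, ← map_mul, h]
    · obtain ⟨n, s, h⟩ := (isLocSec_of_isQuasicoherent E hU r W hW hWU).surj e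
      refine ⟨n, jj A j U s, jj_mem_G A j U _, ?_⟩
      rw [rs_jj, h, rs_st, ← map_pow, jj_smul, mul_comm]
  | zero => exact ⟨0, 0, zero_mem _, by simp⟩
  | one => exact ⟨0, 1, one_mem _, by simp⟩
  | add x y _ _ hx hy =>
    obtain ⟨n1, a1, ha1, h1⟩ := hx
    obtain ⟨n2, a2, ha2, h2⟩ := hy
    refine ⟨n1 + n2, a1 * (st A U r) ^ n2 + a2 * (st A U r) ^ n1,
      add_mem (mul_mem ha1 (pow_mem (st_mem_G A j U r) _))
        (mul_mem ha2 (pow_mem (st_mem_G A j U r) _)), ?_⟩
    rw [map_add, map_mul, map_mul, map_pow, map_pow, ← h1, ← h2]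
    ring
  | neg x _ hx =>
    obtain ⟨n1, a1, ha1, h1⟩ := hx
    exact ⟨n1, -a1, neg_mem ha1, by rw [map_neg, ← h1]; ring⟩
  | mul x y _ _ hx hy =>
    obtain ⟨n1, a1, ha1, h1⟩ := hx
    obtain ⟨n2, a2, ha2, h2⟩ := hy
    refine ⟨n1 + n2, a1 * a2, mul_mem ha1 ha2, ?_⟩
    rw [map_mul, ← h1, ← h2]
    ring


omit [E.IsQuasicoherent] in
theorem rs_add' {U V : S.Opens} (h : V ≤ U) (s t : A.presheaf.obj (op U)) :
    rs A h (s + t) = rs A h s + rs A h t := map_add _ _ _

/-- sections which are locally in `G` -/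
noncomputable def A' (U : S.Opens) : Subring (A.presheaf.obj (op U)) where
  carrier := {s | ∀ x ∈ U, ∃ (V : S.Opens) (h : V ≤ U), x ∈ V ∧ rs A h s ∈ G A j V}
  mul_mem' := by
    intro s t hs ht x hx
    obtain ⟨V1, h1, hx1, hs1⟩ := hs x hx
    obtain ⟨V2, h2, hx2, hs2⟩ := ht x hx
    refine ⟨V1 ⊓ V2, inf_le_left.trans h1, ⟨hx1, hx2⟩, ?_⟩
    rw [map_mul]
    refine mul_mem ?_ ?_
    · rw [← rs_rs A h1 inf_le_left]; exact rs_mem_G A j _ hs1
    · rw [← rs_rs A h2 inf_le_right]; exact rs_mem_G A j _ hs2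
  one_mem' := fun x hx => ⟨U, le_rfl, hx, by rw [map_one]; exact one_mem _⟩
  add_mem' := by
    intro s t hs ht x hx
    obtain ⟨V1, h1, hx1, hs1⟩ := hs x hx
    obtain ⟨V2, h2, hx2, hs2⟩ := ht x hx
    refine ⟨V1 ⊓ V2, inf_le_left.trans h1, ⟨hx1, hx2⟩, ?_⟩
    rw [map_add]
    refine add_mem ?_ ?_
    · rw [← rs_rs A h1 inf_le_left]; exact rs_mem_G A j _ hs1
    · rw [← rs_rs A h2 inf_le_right]; exact rs_mem_G A j _ hs2
  zero_mem' := fun x hx => ⟨U, le_rfl, hx, by rw [map_zero]; exact zero_mem _⟩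
  neg_mem' := by
    intro s hs x hx
    obtain ⟨V1, h1, hx1, hs1⟩ := hs x hx
    exact ⟨V1, h1, hx1, by rw [map_neg]; exact neg_mem hs1⟩

omit [E.IsQuasicoherent] in
theorem mem_A'_iff {U : S.Opens} (s : A.presheaf.obj (op U)) :
    s ∈ A' A j U ↔ ∀ x ∈ U, ∃ (V : S.Opens) (h : V ≤ U), x ∈ V ∧ rs A h s ∈ G A j V := Iff.rfl

omit [E.IsQuasicoherent] in
theorem G_le_A' (U : S.Opens) : G A j U ≤ A' A j U := by
  intro s hs x hx
  exact ⟨U, le_rfl, hx, by rw [rs_self]; exact hs⟩

omit [E.IsQuasicoherent] in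
theorem rs_mem_A' {U V : S.Opens} (h : V ≤ U) {s : A.presheaf.obj (op U)} (hs : s ∈ A' A j U) :
    rs A h s ∈ A' A j V := by
  intro x hx
  obtain ⟨W, hW, hxW, hsW⟩ := hs x (h hx)
  refine ⟨W ⊓ V, inf_le_right, ⟨hxW, hx⟩, ?_⟩
  rw [rs_rs, ← rs_rs A hW inf_le_left]
  exact rs_mem_G A j _ hsW

/-- over an affine open, sections locally in `G` are in `G` -/
theorem A'_le_G {U : S.Opens} (hU : IsAffineOpen U) : A' A j U ≤ G A j U := by
  intro s hs
  let I : Ideal Γ(S, U) :=
    { carrier := {t | st A U t * s ∈ G A j U}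
      add_mem' := by
        intro a b ha hb
        change st A U (a + b) * s ∈ G A j U
        rw [map_add, add_mul]
        exact add_mem ha hb
      zero_mem' := by
        change st A U 0 * s ∈ G A j U
        rw [map_zero, zero_mul]
        exact zero_mem _
      smul_mem' := by
        intro c a ha
        change st A U (c * a) * s ∈ G A j U
        rw [map_mul, mul_assoc]
        exact mul_mem (st_mem_G A j U c) ha }
  have hI : Ideal.span (I : Set Γ(S, U)) = ⊤ := by
    rw [← hU.self_le_iSup_basicOpen_iff]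
    intro x hx
    obtain ⟨V, hV, hxV, hsV⟩ := hs x hx
    obtain ⟨f, hfV, hxf⟩ := hU.exists_basicOpen_le (V := V) ⟨x, hxV⟩ hx
    have hfU : S.basicOpen f ≤ U := S.basicOpen_le f
    have h1 : rs A hfU s ∈ G A j (S.basicOpen f) := by
      rw [← rs_rs A hV hfV]
      exact rs_mem_G A j _ hsV
    obtain ⟨n, a, ha, hna⟩ := exists_G_lift A j hU f (S.basicOpen f) rfl hfU h1
    have h2 : rs A hfU (s * (st A U f) ^ n - a) = 0 := by
      rw [map_sub, map_mul, map_pow, hna, sub_self]
    obtain ⟨m, hm⟩ := exists_pow_mul_eq_zero A hU f (S.basicOpen f) rfl hfU _ h2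
    have hmem : f ^ (m + n + 1) ∈ I := by
      change st A U (f ^ (m + n + 1)) * s ∈ G A j U
      have : st A U (f ^ (m + n + 1)) * s = st A U f * ((st A U f) ^ m * a) := by
        rw [mul_sub, sub_eq_zero] at hm
        rw [← hm, map_pow]
        ring
      rw [this]
      exact mul_mem (st_mem_G A j U f) (mul_mem (pow_mem (st_mem_G A j U f) _) ha)
    refine Opens.mem_iSup.mpr ⟨⟨f ^ (m + n + 1), hmem⟩, ?_⟩
    change x ∈ S.basicOpen (f ^ (m + n + 1))
    rw [Scheme.basicOpen_pow _ _ (Nat.succ_pos _)]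
    exact hxf
  rw [Ideal.span_eq] at hI
  have h1 : (1 : Γ(S, U)) ∈ I := by rw [hI]; trivial
  have h1' : st A U 1 * s ∈ G A j U := h1
  rwa [map_one, one_mul] at h1'

theorem A'_eq_G {U : S.Opens} (hU : IsAffineOpen U) : A' A j U = G A j U :=
  le_antisymm (A'_le_G A j hU) (G_le_A' A j U)


section presheaf
omit [E.IsQuasicoherent]

/-- restriction maps of the sub-presheaf -/
noncomputable def subRes {U V : S.Opens} (h : V ≤ U) : A' A j U →+* A' A j V :=
  ((rs A h).comp (A' A j U).subtype).codRestrict (A' A j V)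
    (fun s => rs_mem_A' A j h s.2)

theorem subRes_coe {U V : S.Opens} (h : V ≤ U) (s : A' A j U) :
    ((subRes A j h s : A' A j V) : A.presheaf.obj (op V)) = rs A h s.1 := rfl

/-- the sub-presheaf of rings of sections locally in `G` -/
noncomputable def subPresheaf : TopCat.Presheaf CommRingCat.{u} S.carrier where
  obj U := CommRingCat.of (A' A j U.unop)
  map {U V} i := CommRingCat.ofHom (subRes A j (leOfHom i.unop))
  map_id U := by
    ext s
    exact rs_self A _ s.1
  map_comp {U V W} f g := by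
    ext s
    exact (rs_rs A (leOfHom f.unop) (leOfHom g.unop) s.1).symm

theorem subPresheaf_map_coe {U V : (Opens S.carrier)ᵒᵖ} (i : U ⟶ V)
    (s : A' A j U.unop) :
    (show A' A j V.unop from ((subPresheaf A j).map i).hom s).1 =
      (A.presheaf.map i).hom s.1 := rfl

theorem isSheaf_subPresheaf : (subPresheaf A j).IsSheaf := by
  rw [TopCat.Presheaf.isSheaf_iff_isSheafUniqueGluing]
  intro ι U sf hsf
  let F : TopCat.Sheaf CommRingCat.{u} S.carrier := ⟨A.presheaf, A.isSheaf⟩
  let sf' : ∀ i, ToType (F.1.obj (op (U i))) := fun i => (sf i : A' A j (U i)).1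
  have hsf' : TopCat.Presheaf.IsCompatible F.1 U sf' := by
    intro i k
    exact congrArg Subtype.val (hsf i k)
  obtain ⟨s, hs, hsu⟩ := F.existsUnique_gluing U sf' hsf'
  have hmem : (s : A.presheaf.obj (op (iSup U))) ∈ A' A j (iSup U) := by
    intro x hx
    obtain ⟨i, hi⟩ := Opens.mem_iSup.mp hx
    have h1 : rs A (le_iSup U i) s = (sf i : A' A j (U i)).1 := hs i
    obtain ⟨W, hW, hxW, hsW⟩ := (sf i : A' A j (U i)).2 x hi
    refine ⟨W, hW.trans (le_iSup U i), hxW, ?_⟩
    rw [← rs_rs A (le_iSup U i) hW, h1]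
    exact hsW
  refine ⟨(⟨s, hmem⟩ : A' A j (iSup U)), ?_, ?_⟩
  · intro i
    apply Subtype.ext
    exact hs i
  · intro t ht
    apply Subtype.ext
    refine hsu (t : A' A j (iSup U)).1 ?_
    intro i
    exact congrArg Subtype.val (ht i)

end presheaf


section str
omit [E.IsQuasicoherent]

/-- structure map of the sub-presheaf -/
noncomputable def subStr : S.presheaf ⟶ subPresheaf A j where
  app U := CommRingCat.ofHom ((st A U.unop).codRestrict (A' A j U.unop)
    (fun r => G_le_A' A j _ (st_mem_G A j _ r)))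
  naturality := by
    intro U V i
    ext r
    apply Subtype.ext
    exact (rs_st A (leOfHom i.unop) r).symm

theorem subStr_coe (U : S.Opens) (r : Γ(S, U)) :
    (show A' A j U from ((subStr A j).app (op U)).hom r).1 = st A U r := rfl

end str

theorem isQC_sub : RelSpec.IsQC (subPresheaf A j) (subStr A j) := by
  intro U hU r
  letI : Algebra ((subPresheaf A j).obj (op U)) ((subPresheaf A j).obj (op (S.basicOpen r))) :=
    ((subPresheaf A j).map (homOfLE (S.basicOpen_le r)).op).hom.toAlgebra
  change IsLocalization (Submonoid.powers (((subStr A j).app (op U)).hom r))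
    ((subPresheaf A j).obj (op (S.basicOpen r)))
  have hWU : S.basicOpen r ≤ U := S.basicOpen_le r
  have halg : ∀ y : A' A j U, (show A' A j (S.basicOpen r) from
      algebraMap ((subPresheaf A j).obj (op U)) ((subPresheaf A j).obj (op (S.basicOpen r))) y).1 =
      rs A hWU y.1 := fun y => rfl
  rw [isLocalization_iff]
  refine ⟨?_, ?_, ?_⟩
  · rintro ⟨_, n, rfl⟩
    rw [map_pow]
    refine IsUnit.pow n ?_
    have hu : IsUnit (rres S hWU r) := by
      letI : Algebra Γ(S, U) Γ(S, S.basicOpen r) :=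
        (S.presheaf.map (homOfLE (S.basicOpen_le r)).op).hom.toAlgebra
      haveI : IsLocalization.Away r Γ(S, S.basicOpen r) := hU.isLocalization_basicOpen r
      exact IsLocalization.Away.algebraMap_isUnit r
    obtain ⟨v, hv⟩ := isUnit_iff_exists_inv.mp hu
    refine isUnit_iff_exists_inv.mpr
      ⟨(⟨st A (S.basicOpen r) v, G_le_A' A j _ (st_mem_G A j _ v)⟩ : A' A j (S.basicOpen r)), ?_⟩
    apply Subtype.ext
    change rs A hWU (st A U r) * st A (S.basicOpen r) v = 1
    rw [rs_st, ← map_mul, hv, map_one]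
  · intro z
    have hz : (show A' A j (S.basicOpen r) from z).1 ∈ G A j (S.basicOpen r) :=
      A'_le_G A j (hU.basicOpen r) (show A' A j (S.basicOpen r) from z).2
    obtain ⟨n, a, ha, hna⟩ := exists_G_lift A j hU r (S.basicOpen r) rfl hWU hz
    refine ⟨((⟨a, G_le_A' A j U ha⟩ : A' A j U),
      ⟨(((subStr A j).app (op U)).hom r) ^ n, n, rfl⟩), ?_⟩
    apply Subtype.ext
    change (show A' A j (S.basicOpen r) from z).1 * rs A hWU ((st A U r) ^ n) = rs A hWU a
    rw [map_pow, hna]
  · intro x y hxy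
    have h1 : rs A hWU ((show A' A j U from x).1 - (show A' A j U from y).1) = 0 := by
      rw [map_sub, sub_eq_zero]
      exact congrArg Subtype.val hxy
    obtain ⟨m, hm⟩ := exists_pow_mul_eq_zero A hU r (S.basicOpen r) rfl hWU _ h1
    refine ⟨⟨(((subStr A j).app (op U)).hom r) ^ m, m, rfl⟩, ?_⟩
    apply Subtype.ext
    change (st A U r) ^ m * (show A' A j U from x).1 = (st A U r) ^ m * (show A' A j U from y).1
    rw [mul_sub, sub_eq_zero] at hm
    exact hm

/-- the quasi-coherent subalgebra generated by the image of `j` -/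
noncomputable def sub : RelSpec.QCAlg S where
  presheaf := subPresheaf A j
  isSheaf := isSheaf_subPresheaf A j
  str := subStr A j
  isQC := isQC_sub A j

/-- the inclusion of the subalgebra -/
noncomputable def incl : sub A j ⟶ A where
  hom :=
    { app := fun U => CommRingCat.ofHom (A' A j U.unop).subtype
      naturality := by
        intro U V i
        ext s
        rfl }
  comm := by
    ext U r
    rfl


/-- `j` corestricted to the subalgebra -/
noncomputable def jSub : E ⟶ (sub A j).toModule :=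
  HomMk.homMk
    (fun U e => (⟨jj A j U e, G_le_A' A j U (jj_mem_G A j U e)⟩ : A' A j U))
    (fun U e e' => Subtype.ext (jj_add A j U e e'))
    (fun U a e => Subtype.ext (jj_smul A j U a e))
    (fun {U V} h e => Subtype.ext (rs_jj A j h e))

theorem jSub_incl : jSub A j ≫ RelSpec.QCAlg.Hom.toModuleMap (incl A j) = j := by
  apply Scheme.Modules.hom_ext
  intro U
  ext e
  rfl

/-- **Key lemma**: if `(A, j)` is a symmetric algebra of the quasi-coherent module `E`, then over
every affine open the ring `A(U)` is generated by the functions and the image of `E(U)`. -/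
theorem G_eq_top (hj : RelSpec.IsSymAlg E A j) {U : S.Opens} (hU : IsAffineOpen U) :
    G A j U = ⊤ := by
  obtain ⟨ψ, hψ, -⟩ := hj (sub A j) (jSub A j)
  obtain ⟨χ, -, huniq⟩ := hj A j
  have h1 : ψ ≫ incl A j = χ := by
    apply huniq
    have : RelSpec.QCAlg.Hom.toModuleMap (ψ ≫ incl A j) =
        RelSpec.QCAlg.Hom.toModuleMap ψ ≫ RelSpec.QCAlg.Hom.toModuleMap (incl A j) := by
      apply Scheme.Modules.hom_ext
      intro U
      ext e
      rfl
    rw [this, ← Category.assoc, hψ, jSub_incl]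
  have h2 : 𝟙 A = χ := by
    apply huniq
    have : RelSpec.QCAlg.Hom.toModuleMap (𝟙 A) = 𝟙 A.toModule := by
      apply Scheme.Modules.hom_ext
      intro U
      ext e
      rfl
    rw [this, Category.comp_id]
  rw [eq_top_iff]
  intro s _
  rw [← A'_eq_G A j hU]
  have h3 : (ψ ≫ incl A j).hom.app (op U) s = s := by
    rw [h1, ← h2]; rfl
  rw [← h3]
  exact (show A' A j U from (ψ.hom.app (op U)).hom s).2

end Groth.Agent.Lib.Helper3.SymGen
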