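import Groth.Agent.Lib.Helper3.AffExtBasic
import Groth.Agent.Lib.Helper3.ProjStruct
import Groth.Agent.Lib.Helper3.RelTwistLocGen
import Groth.Agent.Lib.Helper3.RelTwistExist
import Groth.Agent.Lib.Helper3.SymGen
import Groth.Agent.Lib.Helper3.PbTensor

/-!
# The canonical map `E ⟶ p_* O_P(1)` for a projective bundle
-/

set_option autoImplicit false
set_option linter.unusedSectionVars false
universe u
open CategoryTheory CategoryTheory.Limits AlgebraicGeometry TopologicalSpace Opposite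
open Scheme.Modules
open scoped HomogeneousIdeal

namespace Groth.Agent.Lib.Helper3.CanonPhi

open QCSec InvGen GrModQC RelTwistLocGen SymGen

variable {Y P : Scheme.{u}} {E : Y.Modules} {𝒮 : RelProj.QCGrAlg Y} {j : E ⟶ 𝒮.toModule}
  (hj1 : ∀ (U : Y.Opens) (hU : IsAffineOpen U) (x : Γ(E, U)), (j.app U) x ∈ 𝒮.deg U hU 1)
  {p : P ⟶ Y}
  {chart : ∀ (U : Y.Opens) (hU : IsAffineOpen U),
    ((p ⁻¹ᵁ U : P.Opens) : Scheme.{u}) ≅ Proj (𝒮.deg U hU)}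
  (hP : RelProj.IsRelProj 𝒮 p chart)
  {O1 : P.Modules}
  {lam : ∀ (U : Y.Opens) (hU : IsAffineOpen U),
    O1 ⟶ (Scheme.Modules.pushforward (RelProj.emb p chart U hU)).obj
      (GrTwist.twist (𝒮.deg U hU) ((1 : ℕ) : ℤ))}
  (hO1 : RelProj.IsRelTwist 𝒮 p chart ((1 : ℕ) : ℤ) O1 lam)

theorem fr_add {d : ℕ} (V : Y.Opens) (hV : IsAffineOpen V) (f f' : 𝒮.presheaf.obj (op V))
    (hf : f ∈ 𝒮.deg V hV d) (hf' : f' ∈ 𝒮.deg V hV d) (W : P.Opens) :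
    fr (p := p) (chart := chart) V hV (f + f') (add_mem hf hf') W =
      fr V hV f hf W + fr V hV f' hf' W := by
  apply val_ext
  intro y
  rw [val_add, fr, fr, fr, val_frac, val_frac, val_frac]
  exact (Localization.add_mk_self _ _ _).symm

include hP in
theorem emb_comp_p (U : Y.Opens) (hU : IsAffineOpen U) :
    RelProj.emb p chart U hU ≫ p =
      Proj.toSpecZero (𝒮.deg U hU) ≫ Spec.map (𝒮.strZero U hU) ≫ hU.fromSpec := by
  rw [RelProj.emb, Category.assoc, ← hP.chart_over U hU, Iso.inv_hom_id_assoc]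

include hP in
theorem fval_emb_p (U : Y.Opens) (hU : IsAffineOpen U) (a : Γ(Y, U))
    (y : (RelProj.emb p chart U hU ⁻¹ᵁ (p ⁻¹ᵁ U) : (Proj (𝒮.deg U hU)).Opens)) :
    fval ((RelProj.emb p chart U hU).app (p ⁻¹ᵁ U) (p.app U a)) y =
      Localization.mk (st 𝒮.toQCAlg U a) 1 := by
  have h := ProjStruct.fval_appLE (𝒮.deg U hU) hU (𝒮.strZero U hU) (RelProj.emb p chart U hU ≫ p)
    (emb_comp_p hP U hU) (RelProj.emb p chart U hU ⁻¹ᵁ (p ⁻¹ᵁ U)) le_rfl a y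
  have hc : (RelProj.emb p chart U hU ≫ p).appLE U (RelProj.emb p chart U hU ⁻¹ᵁ (p ⁻¹ᵁ U)) le_rfl =
      p.app U ≫ (RelProj.emb p chart U hU).app (p ⁻¹ᵁ U) := by
    rw [Scheme.Hom.comp_appLE, Scheme.Hom.appLE_eq_app]
  rw [hc] at h
  exact h

include hO1 in
theorem lam_inj (U : Y.Opens) (hU : IsAffineOpen U) :
    Function.Injective ((lam U hU).app (p ⁻¹ᵁ U)) :=
  (hO1.bijective U hU _ le_rfl).1

/-- the section of `O_P(1)` over `p⁻¹U` defined by a section of `E` over `U` -/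
noncomputable def sec (U : Y.Opens) (hU : IsAffineOpen U) (e : Γ(E, U)) : Γ(O1, p ⁻¹ᵁ U) :=
  Classical.choose (exists_sec hO1 U hU (jj 𝒮.toQCAlg j U e) (hj1 U hU e))

theorem sec_spec (U : Y.Opens) (hU : IsAffineOpen U) (e : Γ(E, U)) :
    (lam U hU).app (p ⁻¹ᵁ U) (sec hj1 hO1 U hU e) =
      fr U hU (jj 𝒮.toQCAlg j U e) (hj1 U hU e) (p ⁻¹ᵁ U) :=
  Classical.choose_spec (exists_sec hO1 U hU (jj 𝒮.toQCAlg j U e) (hj1 U hU e))

theorem val_sec (U : Y.Opens) (hU : IsAffineOpen U) (e : Γ(E, U))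
    (y : (RelProj.emb p chart U hU ⁻¹ᵁ (p ⁻¹ᵁ U) : (Proj (𝒮.deg U hU)).Opens)) :
    val (U := RelProj.emb p chart U hU ⁻¹ᵁ (p ⁻¹ᵁ U))
      ((lam U hU).app (p ⁻¹ᵁ U) (sec hj1 hO1 U hU e)) y =
      Localization.mk (jj 𝒮.toQCAlg j U e) 1 := by
  rw [sec_spec, fr, val_frac]
  rfl

theorem sec_add (U : Y.Opens) (hU : IsAffineOpen U) (e e' : Γ(E, U)) :
    sec hj1 hO1 U hU (e + e') = sec hj1 hO1 U hU e + sec hj1 hO1 U hU e' := by
  apply lam_inj hO1 U hU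
  apply val_ext (U := RelProj.emb p chart U hU ⁻¹ᵁ (p ⁻¹ᵁ U))
  intro y
  rw [map_add]
  refine (val_sec hj1 hO1 U hU (e + e') y).trans ?_
  refine Eq.trans ?_ (val_add (U := RelProj.emb p chart U hU ⁻¹ᵁ (p ⁻¹ᵁ U)) _ _ y).symm
  rw [val_sec, val_sec, jj_add]
  exact (Localization.add_mk_self _ _ _).symm

include hP in
theorem sec_smul (U : Y.Opens) (hU : IsAffineOpen U) (a : Γ(Y, U)) (e : Γ(E, U)) :
    sec hj1 hO1 U hU (a • e) = (p.app U a) • sec hj1 hO1 U hU e := by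
  apply lam_inj hO1 U hU
  apply val_ext (U := RelProj.emb p chart U hU ⁻¹ᵁ (p ⁻¹ᵁ U))
  intro y
  refine (val_sec hj1 hO1 U hU (a • e) y).trans ?_
  rw [Scheme.Modules.Hom.app_smul]
  have h1 : val (U := RelProj.emb p chart U hU ⁻¹ᵁ (p ⁻¹ᵁ U))
      ((p.app U a) • ((lam U hU).app (p ⁻¹ᵁ U) (sec hj1 hO1 U hU e))) y =
      fval ((RelProj.emb p chart U hU).app (p ⁻¹ᵁ U) (p.app U a)) y *
        val (U := RelProj.emb p chart U hU ⁻¹ᵁ (p ⁻¹ᵁ U))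
          ((lam U hU).app (p ⁻¹ᵁ U) (sec hj1 hO1 U hU e)) y :=
    val_smul (U := RelProj.emb p chart U hU ⁻¹ᵁ (p ⁻¹ᵁ U)) _ _ y
  refine Eq.trans ?_ h1.symm
  rw [val_sec, fval_emb_p hP, jj_smul, Localization.mk_mul, one_mul]

include hP in
theorem sec_res (U : Y.Opens) (hU : IsAffineOpen U) (r : Γ(Y, U)) (e : Γ(E, U)) :
    res O1 (p.preimage_mono (Y.basicOpen_le r)) (sec hj1 hO1 U hU e) =
      sec hj1 hO1 (Y.basicOpen r) (hU.basicOpen r) (res E (Y.basicOpen_le r) e) := by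
  apply lam_inj hO1 (Y.basicOpen r) (hU.basicOpen r)
  apply val_ext (U := RelProj.emb p chart (Y.basicOpen r) (hU.basicOpen r) ⁻¹ᵁ (p ⁻¹ᵁ (Y.basicOpen r)))
  intro y
  have hy' : (RelProj.emb p chart U hU).base (ProjectiveSpectrum.comap
      (𝒮.res hU (hU.basicOpen r) (Y.basicOpen_le r)) (𝒮.irrelevant_le_map U hU r) y.1) ∈
      p ⁻¹ᵁ (Y.basicOpen r) := by
    have := RelTwistExist.emb_comap hP hU (hU.basicOpen r) r rfl y.1
    rw [this]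
    exact y.2
  have hc := hO1.compat U hU r (p ⁻¹ᵁ (Y.basicOpen r))
    (res O1 (p.preimage_mono (Y.basicOpen_le r)) (sec hj1 hO1 U hU e)) y.1 y.2 hy'
  refine hc.trans ?_
  rw [app_res U hU _ (hj1 U hU e) (sec hj1 hO1 U hU e) (sec_spec hj1 hO1 U hU e)
    (p ⁻¹ᵁ (Y.basicOpen r)) (p.preimage_mono (Y.basicOpen_le r))]
  refine Eq.trans ?_ (val_sec hj1 hO1 (Y.basicOpen r) (hU.basicOpen r) _ y).symm
  rw [fr]
  have h2 := val_frac (RelProj.emb p chart U hU ⁻¹ᵁ (p ⁻¹ᵁ (Y.basicOpen r)))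
    (⟨jj 𝒮.toQCAlg j U e, hj1 U hU e⟩ : 𝒮.deg U hU 1) ⟨1, SetLike.GradedOne.one_mem⟩
    (fun x => one_notMem x.1) ((1 : ℕ) : ℤ) (by simp) ⟨_, hy'⟩
  refine (congrArg _ h2).trans ?_
  rw [GrTwist.locMap_mk, ← rs_jj 𝒮.toQCAlg j (Y.basicOpen_le r) e]
  congr 1
  exact Subtype.ext (map_one _)

include hP hO1 in
/-- the canonical map `E ⟶ p_* O_P(1)` -/
theorem exists_phi : ∃ φ : E ⟶ (pushforward p).obj O1,
    ∀ (U : Y.Opens) (hU : IsAffineOpen U) (e : Γ(E, U)),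
      (lam U hU).app (p ⁻¹ᵁ U) (φ.app U e) =
        fr U hU (jj 𝒮.toQCAlg j U e) (hj1 U hU e) (p ⁻¹ᵁ U) := by
  obtain ⟨φ, hφ⟩ := AffExtBasic.exists_hom_of_affine_basic (M := E) (N := (pushforward p).obj O1)
    (fun U hU => AddMonoidHom.mk' (fun e => (show Γ((pushforward p).obj O1, U) from
      sec hj1 hO1 U hU e)) (fun e e' => sec_add hj1 hO1 U hU e e'))
    (fun U hU a e => sec_smul hj1 hP hO1 U hU a e)
    (fun U hU r e => sec_res hj1 hP hO1 U hU r e)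
  refine ⟨φ, fun U hU e => ?_⟩
  rw [hφ U hU e]
  exact sec_spec hj1 hO1 U hU e

end Groth.Agent.Lib.Helper3.CanonPhi
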