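import Mathlib.Topology.ShrinkingLemma
import Mathlib.Topology.Separation.Regular
import Mathlib.Topology.Compactness.Compact
import Mathlib.Data.Fintype.Pi
import Mathlib.Tactic.FinCases

/-! Shrinking / Čech refinement lemmas for compact subsets whose points can be separated. -/

set_option autoImplicit false
universe u
open Set Topology

namespace Groth.Agent.Lib.Helper3.CechShrink

variable {X : Type u} [TopologicalSpace X]

/-- the points of `Z` can be separated by open subsets of `X` -/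
def Sep (Z : Set X) : Prop :=
  ∀ z ∈ Z, ∀ z' ∈ Z, z ≠ z' → ∃ A B : Set X, IsOpen A ∧ IsOpen B ∧ z ∈ A ∧ z' ∈ B ∧ Disjoint A B

/-- separate a point from a compact set -/
theorem sep_point_compact {Z : Set X} (hZ : Sep Z) {a : X} (ha : a ∈ Z) {B : Set X}
    (hB : IsCompact B) (hBZ : B ⊆ Z) (haB : a ∉ B) :
    ∃ P Q : Set X, IsOpen P ∧ IsOpen Q ∧ a ∈ P ∧ B ⊆ Q ∧ Disjoint P Q := by
  refine hB.induction_on (p := fun B' => ∃ P Q : Set X, IsOpen P ∧ IsOpen Q ∧ a ∈ P ∧ B' ⊆ Q ∧
    Disjoint P Q) ?_ ?_ ?_ ?_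
  · exact ⟨univ, ∅, isOpen_univ, isOpen_empty, trivial, Subset.rfl, disjoint_empty _⟩
  · rintro s t hst ⟨P, Q, hP, hQ, haP, htQ, hPQ⟩
    exact ⟨P, Q, hP, hQ, haP, hst.trans htQ, hPQ⟩
  · rintro s t ⟨P₁, Q₁, hP₁, hQ₁, haP₁, hsQ₁, hPQ₁⟩ ⟨P₂, Q₂, hP₂, hQ₂, haP₂, htQ₂, hPQ₂⟩
    refine ⟨P₁ ∩ P₂, Q₁ ∪ Q₂, hP₁.inter hP₂, hQ₁.union hQ₂, ⟨haP₁, haP₂⟩,
      union_subset_union hsQ₁ htQ₂, ?_⟩
    rw [disjoint_union_right]
    exact ⟨hPQ₁.mono_left inter_subset_left, hPQ₂.mono_left inter_subset_right⟩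
  · intro b hb
    have hab : a ≠ b := fun h => haB (h ▸ hb)
    obtain ⟨P, Q, hP, hQ, haP, hbQ, hPQ⟩ := hZ a ha b (hBZ hb) hab
    exact ⟨Q, mem_nhdsWithin_of_mem_nhds (hQ.mem_nhds hbQ), P, Q, hP, hQ, haP, Subset.rfl, hPQ⟩

/-- a finite family of compact subsets of `Z` with empty intersection has open neighbourhoods with
empty intersection -/
theorem exists_open_iInter_eq_empty {Z : Set X} (hZ : Sep Z) {n : ℕ} (A : Fin (n + 1) → Set X)
    (hA : ∀ l, IsCompact (A l)) (hAZ : ∀ l, A l ⊆ Z) (hint : ⋂ l, A l = ∅) :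
    ∃ O : Fin (n + 1) → Set X, (∀ l, IsOpen (O l)) ∧ (∀ l, A l ⊆ O l) ∧ ⋂ l, O l = ∅ := by
  classical
  -- for each point of `A 0` choose an index `l` with `a ∉ A l` and separate
  have h1 : ∀ a : A 0, ∃ (l : Fin (n + 1)) (P Q : Set X), IsOpen P ∧ IsOpen Q ∧ (a : X) ∈ P ∧
      A l ⊆ Q ∧ Disjoint P Q := by
    intro a
    have : (a : X) ∉ ⋂ l, A l := by rw [hint]; exact notMem_empty _
    rw [mem_iInter, not_forall] at this
    obtain ⟨l, hl⟩ := this
    obtain ⟨P, Q, hP, hQ, haP, hQ', hPQ⟩ := sep_point_compact hZ (hAZ 0 a.2) (hA l) (hAZ l) hl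
    exact ⟨l, P, Q, hP, hQ, haP, hQ', hPQ⟩
  choose l P Q hP hQ haP hAQ hPQ using h1
  obtain ⟨F, hF⟩ := (hA 0).elim_finite_subcover P hP (fun a ha => mem_iUnion.2 ⟨⟨a, ha⟩, haP _⟩)
  refine ⟨fun m => if m = 0 then (⋃ a ∈ F, P a) ∩ ⋂ a ∈ F, (if l a = 0 then Q a else univ)
    else ⋂ a ∈ F, (if l a = m then Q a else univ), ?_, ?_, ?_⟩
  · intro m
    have hopen : ∀ m' : Fin (n + 1), IsOpen (⋂ a ∈ F, (if l a = m' then Q a else univ)) := by
      intro m'
      refine isOpen_biInter_finset fun a _ => ?_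
      split_ifs
      · exact hQ a
      · exact isOpen_univ
    by_cases hm : m = 0
    · simp only [hm, if_true]
      exact (isOpen_biUnion fun a _ => hP a).inter (hopen 0)
    · simp only [hm, if_false]
      exact hopen m
  · intro m
    have hsub : ∀ m' : Fin (n + 1), A m' ⊆ ⋂ a ∈ F, (if l a = m' then Q a else univ) := by
      intro m'
      refine subset_iInter₂ fun a _ => ?_
      split_ifs with h
      · exact h ▸ hAQ a
      · exact subset_univ _
    by_cases hm : m = 0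
    · simp only [hm, if_true]
      exact subset_inter hF (hsub 0)
    · simp only [hm, if_false]
      exact hsub m
  · rw [eq_empty_iff_forall_notMem]
    intro x hx
    rw [mem_iInter] at hx
    have h0 := hx 0
    simp only [if_true] at h0
    obtain ⟨a, haF, hxa⟩ := mem_iUnion₂.1 h0.1
    have hxQ : x ∈ Q a := by
      by_cases hla : l a = 0
      · have := mem_iInter₂.1 h0.2 a haF
        rwa [if_pos hla] at this
      · have h1 := hx (l a)
        simp only [hla, if_false] at h1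
        have := mem_iInter₂.1 h1 a haF
        rwa [if_pos rfl] at this
    exact disjoint_left.1 (hPQ a) hxa hxQ


/-- two disjoint compact subsets of `Z` have disjoint open neighbourhoods -/
theorem exists_disjoint_open {Z : Set X} (hZ : Sep Z) {A B : Set X} (hA : IsCompact A)
    (hB : IsCompact B) (hAZ : A ⊆ Z) (hBZ : B ⊆ Z) (hAB : Disjoint A B) :
    ∃ P Q : Set X, IsOpen P ∧ IsOpen Q ∧ A ⊆ P ∧ B ⊆ Q ∧ Disjoint P Q := by
  obtain ⟨O, hOo, hOsub, hOe⟩ := exists_open_iInter_eq_empty hZ (![A, B] : Fin 2 → Set X)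
    (by intro l; fin_cases l; exacts [hA, hB])
    (by intro l; fin_cases l; exacts [hAZ, hBZ])
    (by
      rw [eq_empty_iff_forall_notMem]
      intro x hx
      rw [mem_iInter] at hx
      exact disjoint_left.1 hAB (hx 0) (hx 1))
  refine ⟨O 0, O 1, hOo 0, hOo 1, hOsub 0, hOsub 1, ?_⟩
  rw [disjoint_iff_inter_eq_empty, eq_empty_iff_forall_notMem]
  rintro x ⟨h0, h1⟩
  have : x ∈ ⋂ l, O l := by
    refine mem_iInter.2 fun l => ?_
    fin_cases l
    exacts [h0, h1]
  rw [hOe] at this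
  exact this

/-- core construction -/
theorem core {Z : Set X} (hZc : IsCompact Z) (hZ : Sep Z)
    {ι : Type u} (U : ι → Set X) (hU : ∀ i, IsOpen (U i)) (hcov : Z ⊆ ⋃ i, U i) (p : ℕ)
    (W : (Fin (p + 1) → ι) → Set X) (hWo : ∀ t, IsOpen (W t))
    (hWZ : ∀ t, W t ∩ Z = (⋂ l, U (t l)) ∩ Z) :
    ∃ (I₀ : Finset ι) (K : ι → Set X), (∀ i, IsCompact (K i)) ∧ (∀ i, K i ⊆ U i ∩ Z) ∧
      (Z ⊆ ⋃ i ∈ I₀, K i) ∧
      ∀ N : ι → Set X, (∀ i, IsOpen (N i)) → (∀ i, K i ⊆ N i) →
        ∃ V : ι → Set X, (∀ i, IsOpen (V i)) ∧ (∀ i ∈ I₀, K i ⊆ V i) ∧ (∀ i, V i ⊆ U i ∩ N i) ∧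
          ∀ t : Fin (p + 1) → ι, (⋂ l, V (t l)) ⊆ W t := by
  classical
  have hT2 : T2Space ↥Z := by
    refine ⟨fun x y hxy => ?_⟩
    obtain ⟨A, B, hA, hB, hxA, hyB, hAB⟩ := hZ x x.2 y y.2 (fun h => hxy (Subtype.ext h))
    exact ⟨Subtype.val ⁻¹' A, Subtype.val ⁻¹' B, hA.preimage continuous_subtype_val,
      hB.preimage continuous_subtype_val, hxA, hyB, hAB.preimage _⟩
  have hC : CompactSpace ↥Z := isCompact_iff_compactSpace.1 hZc
  obtain ⟨I₀, hI₀⟩ := hZc.elim_finite_subcover U hU hcov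
  obtain ⟨v, hvU, hvo, hvc⟩ := exists_iUnion_eq_closure_subset (X := ↥Z) (ι := I₀)
    (u := fun i => Subtype.val ⁻¹' U i)
    (fun i => (hU i).preimage continuous_subtype_val) (fun x => Set.toFinite _) (by
      rw [eq_univ_iff_forall]
      intro z
      obtain ⟨i, hi, hzi⟩ := mem_iUnion₂.1 (hI₀ z.2)
      exact mem_iUnion.2 ⟨⟨i, hi⟩, hzi⟩)
  refine ⟨I₀, fun i => if h : i ∈ I₀ then Subtype.val '' closure (v ⟨i, h⟩) else ∅, ?_, ?_, ?_, ?_⟩
  · intro i
    by_cases h : i ∈ I₀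
    · simp only [h, dif_pos]
      exact (isClosed_closure.isCompact).image continuous_subtype_val
    · simp only [h, dif_neg, not_false_iff]
      exact isCompact_empty
  · intro i
    by_cases h : i ∈ I₀
    · simp only [h, dif_pos]
      rintro _ ⟨y, hy, rfl⟩
      exact ⟨hvc ⟨i, h⟩ hy, y.2⟩
    · simp only [h, dif_neg, not_false_iff]
      exact empty_subset _
  · intro z hz
    have : (⟨z, hz⟩ : ↥Z) ∈ iUnion v := by rw [hvU]; trivial
    obtain ⟨i, hi⟩ := mem_iUnion.1 this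
    refine mem_iUnion₂.2 ⟨i.1, i.2, ?_⟩
    simp only [i.2, dif_pos]
    exact ⟨⟨z, hz⟩, subset_closure hi, rfl⟩
  · set K : ι → Set X := fun i => if h : i ∈ I₀ then Subtype.val '' closure (v ⟨i, h⟩) else ∅
      with hKdef
    have hKc : ∀ i, IsCompact (K i) := by
      intro i
      by_cases h : i ∈ I₀
      · simp only [hKdef, h, dif_pos]
        exact (isClosed_closure.isCompact).image continuous_subtype_val
      · simp only [hKdef, h, dif_neg, not_false_iff]
        exact isCompact_empty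
    have hKU : ∀ i, K i ⊆ U i ∩ Z := by
      intro i
      by_cases h : i ∈ I₀
      · simp only [hKdef, h, dif_pos]
        rintro _ ⟨y, hy, rfl⟩
        exact ⟨hvc ⟨i, h⟩ hy, y.2⟩
      · simp only [hKdef, h, dif_neg, not_false_iff]
        exact empty_subset _
    intro N hNo hKN
    -- opens around the compact sets `K (t l) \ W t`
    have hO : ∀ t : Fin (p + 1) → ι, ∃ O : Fin (p + 1) → Set X, (∀ l, IsOpen (O l)) ∧
        (∀ l, K (t l) \ W t ⊆ O l) ∧ ⋂ l, O l = ∅ := by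
      intro t
      refine exists_open_iInter_eq_empty hZ (fun l => K (t l) \ W t)
        (fun l => (hKc _).diff (hWo t)) (fun l => sdiff_subset.trans ((hKU _).trans inter_subset_right)) ?_
      rw [eq_empty_iff_forall_notMem]
      intro x hx
      rw [mem_iInter] at hx
      have hxZ : x ∈ Z := (hKU _ (hx 0).1).2
      have hxU : x ∈ ⋂ l, U (t l) := mem_iInter.2 fun l => (hKU _ (hx l).1).1
      have : x ∈ W t ∩ Z := by rw [hWZ]; exact ⟨hxU, hxZ⟩
      exact (hx 0).2 this.1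
    choose O hOo hOK hOe using hO
    set T₀ : Finset (Fin (p + 1) → ι) := Fintype.piFinset (fun _ => I₀) with hT₀
    refine ⟨fun i => if i ∈ I₀ then U i ∩ N i ∩ ⋂ t ∈ T₀, ⋂ l : Fin (p + 1),
      (if t l = i then O t l ∪ W t else univ) else ∅, ?_, ?_, ?_, ?_⟩
    · intro i
      by_cases h : i ∈ I₀
      · simp only [h, if_true]
        refine ((hU i).inter (hNo i)).inter (isOpen_biInter_finset fun t _ =>
          isOpen_iInter_of_finite fun l => ?_)
        split_ifs
        · exact (hOo t l).union (hWo t)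
        · exact isOpen_univ
      · simp only [h, if_false]
        exact isOpen_empty
    · intro i hi x hx
      simp only [hi, if_true]
      refine ⟨⟨(hKU i hx).1, hKN i hx⟩, mem_iInter₂.2 fun t _ => mem_iInter.2 fun l => ?_⟩
      split_ifs with h
      · by_cases hxW : x ∈ W t
        · exact Or.inr hxW
        · exact Or.inl (hOK t l ⟨h ▸ hx, hxW⟩)
      · trivial
    · intro i
      by_cases h : i ∈ I₀
      · simp only [h, if_true]
        exact inter_subset_left
      · simp only [h, if_false]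
        exact empty_subset _
    · intro t x hx
      rw [mem_iInter] at hx
      by_cases ht : ∀ l, t l ∈ I₀
      · have htT : t ∈ T₀ := by rw [hT₀, Fintype.mem_piFinset]; exact ht
        by_contra hxW
        have : x ∈ ⋂ l, O t l := by
          refine mem_iInter.2 fun l => ?_
          have h1 := hx l
          simp only [ht l, if_true] at h1
          have h2 := mem_iInter.1 (mem_iInter₂.1 h1.2 t htT) l
          rw [if_pos rfl] at h2
          rcases h2 with h2 | h2
          · exact h2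
          · exact absurd h2 hxW
        rw [hOe] at this
        exact this
      · push Not at ht
        obtain ⟨l, hl⟩ := ht
        have h1 := hx l
        simp only [hl, if_false] at h1
        exact absurd h1 (notMem_empty _)


/-- closed shrinking of a finite open cover of a normal space -/
theorem exists_closed_shrink [NormalSpace X] {κ : Type*} (F : Finset κ) (G : κ → Set X)
    (hG : ∀ k, IsOpen (G k)) (hcov : (univ : Set X) ⊆ ⋃ k ∈ F, G k) :
    ∃ H : κ → Set X, (∀ k, IsClosed (H k)) ∧ (∀ k, H k ⊆ G k) ∧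
      (univ : Set X) ⊆ ⋃ k ∈ F, H k := by
  classical
  obtain ⟨v, hvU, hvo, hvc⟩ := exists_iUnion_eq_closure_subset (X := X) (ι := F)
    (u := fun k => G k) (fun k => hG k) (fun x => Set.toFinite _) (by
      rw [eq_univ_iff_forall]
      intro x
      obtain ⟨k, hk, hxk⟩ := mem_iUnion₂.1 (hcov (mem_univ x))
      exact mem_iUnion.2 ⟨⟨k, hk⟩, hxk⟩)
  refine ⟨fun k => if h : k ∈ F then closure (v ⟨k, h⟩) else ∅, ?_, ?_, ?_⟩
  · intro k
    by_cases h : k ∈ F
    · simp only [h, dif_pos]; exact isClosed_closure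
    · simp only [h, dif_neg, not_false_iff]; exact isClosed_empty
  · intro k
    by_cases h : k ∈ F
    · simp only [h, dif_pos]; exact hvc ⟨k, h⟩
    · simp only [h, dif_neg, not_false_iff]; exact empty_subset _
  · intro x _
    have : x ∈ iUnion v := by rw [hvU]; trivial
    obtain ⟨k, hk⟩ := mem_iUnion.1 this
    refine mem_iUnion₂.2 ⟨k.1, k.2, ?_⟩
    simp only [k.2, dif_pos]
    exact subset_closure hk

/-- S7568: Čech refinement in a compact Hausdorff space -/
theorem cech_refinement [CompactSpace X] [T2Space X]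
    {ι : Type u} (U : ι → Set X) (hU : ∀ i, IsOpen (U i)) (hcov : ⋃ i, U i = Set.univ) (p : ℕ)
    (W : (Fin (p + 1) → ι) → Set (Set X)) (hWo : ∀ t, ∀ w ∈ W t, IsOpen w)
    (hWc : ∀ t, ⋃₀ W t = ⋂ l, U (t l)) (hWne : ∀ t, (W t).Nonempty) :
    ∃ (V : X → Set X) (α : X → ι), (∀ j, IsOpen (V j)) ∧ (⋃ j, V j = Set.univ) ∧
      (∀ j, closure (V j) ⊆ U (α j)) ∧
      (∀ t : Fin (p + 1) → X, ∃ w ∈ W (α ∘ t), (⋂ l, V (t l)) ⊆ w) := by
  classical
  -- finite subcover and closed shrinking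
  obtain ⟨I₀, hI₀⟩ := isCompact_univ.elim_finite_subcover U hU (by rw [hcov])
  obtain ⟨Zf, hZcl, hZU, hZcov⟩ := exists_closed_shrink I₀ U hU hI₀
  -- the finite set of indices at a point
  set I : X → Finset ι := fun y => I₀.filter (fun i => y ∈ Zf i) with hIdef
  set T : X → Finset (Fin (p + 1) → ι) := fun y => Fintype.piFinset (fun _ => I y) with hTdef
  -- choice of members of the coverings
  have hw : ∀ (y : X) (t : Fin (p + 1) → ι), ∃ w ∈ W t, t ∈ T y → y ∈ w := by
    intro y t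
    by_cases ht : t ∈ T y
    · have hy : y ∈ ⋃₀ W t := by
        rw [hWc]
        refine mem_iInter.2 fun l => ?_
        have := (Fintype.mem_piFinset.1 ht) l
        exact hZU _ (Finset.mem_filter.1 this).2
      obtain ⟨w, hw, hyw⟩ := hy
      exact ⟨w, hw, fun _ => hyw⟩
    · obtain ⟨w, hw⟩ := hWne t
      exact ⟨w, hw, fun h => absurd h ht⟩
  choose wsel hwW hwy using hw
  set G : X → Set X := fun y => (⋂ t ∈ T y, wsel y t) ∩ ⋂ i ∈ I₀.filter (fun i => y ∉ Zf i), (Zf i)ᶜ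
    with hGdef
  have hGo : ∀ y, IsOpen (G y) := fun y =>
    (isOpen_biInter_finset fun t _ => hWo t _ (hwW y t)).inter
      (isOpen_biInter_finset fun i _ => (hZcl i).isOpen_compl)
  have hyG : ∀ y, y ∈ G y := fun y =>
    ⟨mem_iInter₂.2 fun t ht => hwy y t ht,
      mem_iInter₂.2 fun i hi => (Finset.mem_filter.1 hi).2⟩
  have hGI : ∀ y y', y' ∈ G y → I y' ⊆ I y := by
    intro y y' hy' i hi
    obtain ⟨hi₀, hy'i⟩ := Finset.mem_filter.1 hi
    refine Finset.mem_filter.2 ⟨hi₀, ?_⟩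
    by_contra hyi
    exact mem_iInter₂.1 hy'.2 i (Finset.mem_filter.2 ⟨hi₀, hyi⟩) hy'i
  -- finite subcover of the `G y` and closed shrinking
  obtain ⟨F, hF⟩ := isCompact_univ.elim_finite_subcover G hGo
    (fun y _ => mem_iUnion.2 ⟨y, hyG y⟩)
  obtain ⟨H, hHcl, hHG, hHcov⟩ := exists_closed_shrink F G hGo hF
  -- the index map
  have hα : ∀ x : X, ∃ i, i ∈ I x := by
    intro x
    obtain ⟨i, hi, hxi⟩ := mem_iUnion₂.1 (hZcov (mem_univ x))
    exact ⟨i, Finset.mem_filter.2 ⟨hi, hxi⟩⟩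
  choose α hαI using hα
  have hxU : ∀ x, x ∈ U (α x) := fun x => hZU _ (Finset.mem_filter.1 (hαI x)).2
  have hN : ∀ x : X, ∃ N : Set X, IsOpen N ∧ {x} ⊆ N ∧ closure N ⊆ U (α x) := fun x =>
    normal_exists_closure_subset isClosed_singleton (hU _) (singleton_subset_iff.2 (hxU x))
  choose N hNo hxN hNU using hN
  set V : X → Set X := fun x => N x ∩ (⋂ y ∈ F.filter (fun y => x ∈ H y), G y) ∩
    ⋂ y ∈ F.filter (fun y => x ∉ H y), (H y)ᶜ with hVdef
  refine ⟨V, α, ?_, ?_, ?_, ?_⟩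
  · intro x
    exact ((hNo x).inter (isOpen_biInter_finset fun y _ => hGo y)).inter
      (isOpen_biInter_finset fun y _ => (hHcl y).isOpen_compl)
  · rw [eq_univ_iff_forall]
    intro x
    refine mem_iUnion.2 ⟨x, ⟨⟨hxN x rfl, mem_iInter₂.2 fun y hy => ?_⟩,
      mem_iInter₂.2 fun y hy => (Finset.mem_filter.1 hy).2⟩⟩
    exact hHG y (Finset.mem_filter.1 hy).2
  · intro x
    exact (closure_mono (inter_subset_left.trans inter_subset_left)).trans (hNU x)
  · intro s
    by_cases hne : (⋂ l, V (s l)).Nonempty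
    · obtain ⟨y₀, hy₀⟩ := hne
      rw [mem_iInter] at hy₀
      obtain ⟨y, hyF, hy₀y⟩ := mem_iUnion₂.1 (hHcov (mem_univ y₀))
      have hsl : ∀ l, s l ∈ H y := by
        intro l
        by_contra hsl
        exact mem_iInter₂.1 (hy₀ l).2 y (Finset.mem_filter.2 ⟨hyF, hsl⟩) hy₀y
      have htT : α ∘ s ∈ T y := by
        rw [hTdef]
        refine Fintype.mem_piFinset.2 fun l => ?_
        exact hGI y (s l) (hHG y (hsl l)) (hαI (s l))
      refine ⟨wsel y (α ∘ s), hwW y _, ?_⟩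
      intro x hx
      rw [mem_iInter] at hx
      have h1 : x ∈ G y := mem_iInter₂.1 (hx 0).1.2 y (Finset.mem_filter.2 ⟨hyF, hsl 0⟩)
      exact mem_iInter₂.1 h1.1 _ htT
    · obtain ⟨w, hw⟩ := hWne (α ∘ s)
      refine ⟨w, hw, ?_⟩
      rw [not_nonempty_iff_eq_empty] at hne
      rw [hne]
      exact empty_subset _

end Groth.Agent.Lib.Helper3.CechShrink
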