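import Groth.Agent.Lib.Helper3.PEmb4
import Groth.Agent.Lib.Helper3.AffGr

/-!
# A closed subscheme of `ℙⁿ_S` is a relative `Proj`
-/

set_option autoImplicit false
set_option linter.unusedSectionVars false
universe u
open CategoryTheory CategoryTheory.Limits AlgebraicGeometry TopologicalSpace Opposite
open Scheme.Modules
open AlgebraicGeometry.Scheme AlgebraicGeometry.Scheme.AffineZariskiSite
open scoped HomogeneousIdeal

namespace Groth.Agent.Lib.Helper3.PEmb5

open QCSec TwistBasic GrTildeQC ProjFrac GrTildeHom ToProj ProjGlue ProjOfSec GrScale VAChart VACore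
  VAConv ProjHet PEmb1 PEmb2 PEmb3 PEmb4 ProjClosed GrTransport AffGr

variable (n : ℕ) {X S : Scheme.{u}}
  (i : X ⟶ pullback (CohB1.ProjSpace.toSpec n (ULift.{u} ℤ)) (specULiftZIsTerminal.from S))
  [IsClosedImmersion i]

instance instCI (U : S.AffineZariskiSite) :
    IsClosedImmersion (iZ n (qU n i U.1) (rU n i U.1)) :=
  isClosedImmersion_iZU n i U.2

/-- the polynomial ring over the sections on `U` -/
abbrev PR (U : S.AffineZariskiSite) : Type u := MvPolynomial (Fin (n + 1)) Γ(S, U.1)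

/-- the homogeneous ideal over `U` -/
noncomputable abbrev JU (U : S.AffineZariskiSite) : Ideal (PR n U) :=
  JZ n (qU n i U.1) (rU n i U.1)

/-- restriction of functions on the base -/
noncomputable abbrev θUV {U V : S.AffineZariskiSite} (j : V ⟶ U) : Γ(S, U.1) →+* Γ(S, V.1) :=
  (S.presheaf.map (homOfLE (toOpens_mono j.le)).op).hom

/-- the graded transition homomorphisms -/
noncomputable def tUV {U V : S.AffineZariskiSite} (j : V ⟶ U) :
    GrQuot.piece (CohB1.polyGrading n Γ(S, U.1)) (JU n i U) →+*ᵍ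
      GrQuot.piece (CohB1.polyGrading n Γ(S, V.1)) (JU n i V) :=
  quotHom n (θUV j) (qU n i U.1) (rU n i U.1) (qU n i V.1) (rU n i V.1)
    (hUV n i (toOpens_mono j.le)) (hUV_rU n i _) (hUV_qU n i _)

theorem tUV_mk {U V : S.AffineZariskiSite} (j : V ⟶ U) (b : PR n U) :
    tUV n i j (Ideal.Quotient.mk (JU n i U) b) =
      Ideal.Quotient.mk (JU n i V) (MvPolynomial.map (θUV j) b) := rfl

theorem θUV_id (U : S.AffineZariskiSite) : θUV (𝟙 U) = RingHom.id _ := by
  have e : (homOfLE (toOpens_mono (𝟙 U : U ⟶ U).le)).op = 𝟙 (op U.1) := rfl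
  change (S.presheaf.map (homOfLE (toOpens_mono (𝟙 U : U ⟶ U).le)).op).hom = _
  rw [e, S.presheaf.map_id]
  rfl

theorem θUV_comp {U V W : S.AffineZariskiSite} (j : V ⟶ U) (k : W ⟶ V) :
    θUV (k ≫ j) = (θUV k).comp (θUV j) := by
  have e : (homOfLE (toOpens_mono (k ≫ j).le)).op =
      (homOfLE (toOpens_mono j.le)).op ≫ (homOfLE (toOpens_mono k.le)).op := rfl
  change (S.presheaf.map (homOfLE (toOpens_mono (k ≫ j).le)).op).hom = _
  rw [e, S.presheaf.map_comp]
  rfl

/-- the functor on the affine site -/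
noncomputable def F : S.AffineZariskiSiteᵒᵖ ⥤ CommRingCat.{u} where
  obj U := CommRingCat.of (PR n U.unop ⧸ JU n i U.unop)
  map {U V} j := CommRingCat.ofHom (tUV n i j.unop).toRingHom
  map_id U := by
    refine CommRingCat.hom_ext (RingHom.ext fun x => ?_)
    obtain ⟨b, rfl⟩ := Ideal.Quotient.mk_surjective x
    change tUV n i (𝟙 U.unop) (Ideal.Quotient.mk _ b) = Ideal.Quotient.mk _ b
    rw [tUV_mk, θUV_id, MvPolynomial.map_id]
  map_comp {U V W} j k := by
    refine CommRingCat.hom_ext (RingHom.ext fun x => ?_)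
    obtain ⟨b, rfl⟩ := Ideal.Quotient.mk_surjective x
    change tUV n i (k.unop ≫ j.unop) (Ideal.Quotient.mk _ b) =
      tUV n i k.unop (tUV n i j.unop (Ideal.Quotient.mk _ b))
    rw [tUV_mk, tUV_mk, tUV_mk, θUV_comp, MvPolynomial.map_map]

/-- the structure map -/
noncomputable def α : (toOpensFunctor S).op ⋙ S.presheaf ⟶ F n i where
  app U := CommRingCat.ofHom ((Ideal.Quotient.mk (JU n i U.unop)).comp MvPolynomial.C)
  naturality U V j := by
    refine CommRingCat.hom_ext (RingHom.ext fun c => ?_)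
    change Ideal.Quotient.mk (JU n i V.unop) (MvPolynomial.C (θUV j.unop c)) =
      tUV n i j.unop (Ideal.Quotient.mk _ (MvPolynomial.C c))
    rw [tUV_mk, MvPolynomial.map_C]

theorem α_app (U : S.AffineZariskiSite) (c : Γ(S, U.1)) :
    ((α n i).app (op U)).hom c = Ideal.Quotient.mk (JU n i U) (MvPolynomial.C c) := rfl

theorem F_map {U V : S.AffineZariskiSite} (j : V ⟶ U) (x : PR n U ⧸ JU n i U) :
    ((F n i).map j.op).hom x = tUV n i j x := rfl

set_option backward.isDefEq.respectTransparency false in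
theorem isLocalization_away (U : S.AffineZariskiSite) (s : Γ(S, U.1)) :
    letI := ((F n i).map (homOfLE (U.basicOpen_le s)).op).hom.toAlgebra
    IsLocalization.Away ((α n i).app (op U) s) ((F n i).obj (op (U.basicOpen s))) := by
  letI := ((F n i).map (homOfLE (U.basicOpen_le s)).op).hom.toAlgebra
  have hloc : letI := (θUV (homOfLE (U.basicOpen_le s))).toAlgebra
      IsLocalization.Away s Γ(S, (U.basicOpen s).1) :=
    U.2.isLocalization_of_eq_basicOpen s (homOfLE (toOpens_mono (U.basicOpen_le s))) rfl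
  obtain ⟨h1, h2, h3⟩ := loc_quot n (θUV (homOfLE (U.basicOpen_le s))) (qU n i U.1) (rU n i U.1)
    (qU n i (U.basicOpen s).1) (rU n i (U.basicOpen s).1)
    (hUV n i (toOpens_mono (homOfLE (U.basicOpen_le s)).le)) (hUV_rU n i _) (hUV_qU n i _) s
    (hUV_opensRange n i s) hloc
  refine (isLocalization_iff _ _).mpr ⟨?_, ?_, ?_⟩
  · rintro ⟨_, N, rfl⟩
    exact h1 N
  · intro z
    obtain ⟨b, N, hb⟩ := h2 z
    exact ⟨⟨b, ⟨_, N, rfl⟩⟩, hb⟩
  · intro a b hab
    obtain ⟨N, hN⟩ := h3 a b hab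
    exact ⟨⟨_, N, rfl⟩, hN⟩

theorem coequifibered : (α n i).Coequifibered :=
  coequifibered_iff_forall_isLocalizationAway.mpr (fun U s => isLocalization_away n i U s)

/-- the gradings -/
noncomputable def 𝒢 (U : S.AffineZariskiSite) : ℕ → AddSubgroup ((F n i).obj (op U)) :=
  tr (RingEquiv.refl (PR n U ⧸ JU n i U))
    (GrQuot.piece (CohB1.polyGrading n Γ(S, U.1)) (JU n i U))

noncomputable instance instGr (U : S.AffineZariskiSite) : GradedRing (𝒢 n i U) :=
  gradedRing (RingEquiv.refl (PR n U ⧸ JU n i U))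
    (GrQuot.piece (CohB1.polyGrading n Γ(S, U.1)) (JU n i U))

theorem mem_𝒢 (U : S.AffineZariskiSite) (d : ℕ) (x : PR n U ⧸ JU n i U) :
    x ∈ 𝒢 n i U d ↔ x ∈ GrQuot.piece (CohB1.polyGrading n Γ(S, U.1)) (JU n i U) d := Iff.rfl

theorem hmap (U V : S.AffineZariskiSite) (j : V ⟶ U) (d : ℕ) (x : (F n i).obj (op U))
    (hx : x ∈ 𝒢 n i U d) : ((F n i).map j.op).hom x ∈ 𝒢 n i V d :=
  (tUV n i j).map_mem hx

theorem hstr (U : S.AffineZariskiSite) (c : Γ(S, U.1)) :
    ((α n i).app (op U)).hom c ∈ 𝒢 n i U 0 :=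
  GrQuot.mk_mem_piece _ _ (MvPolynomial.isHomogeneous_C _ c)

/-- the quasi-coherent graded algebra -/
noncomputable def 𝒮 : RelProj.QCGrAlg S :=
  qcGrAlg (coequifibered n i) (𝒢 n i) (hmap n i) (hstr n i)

/-- the identification of the sections of `𝒮` over an affine open -/
noncomputable abbrev epsU (U : S.AffineZariskiSite) :
    (𝒮 n i).presheaf.obj (op U.1) ≃+* (PR n U ⧸ JU n i U) :=
  eps (coequifibered n i) U

theorem he (U : S.AffineZariskiSite) (d : ℕ) (a : (𝒮 n i).presheaf.obj (op U.1)) :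
    a ∈ (𝒮 n i).deg U.1 U.2 d ↔
      epsU n i U a ∈ GrQuot.piece (CohB1.polyGrading n Γ(S, U.1)) (JU n i U) d := Iff.rfl

/-- the charts -/
noncomputable def chart (U : S.Opens) (hU : IsAffineOpen U) :
    ((fS n i ⁻¹ᵁ U : X.Opens) : Scheme.{u}) ≅ Proj ((𝒮 n i).deg U hU) :=
  haveI := isClosedImmersion_iZU n i hU
  eZ n (qU n i U) (rU n i U) ≪≫ (projIso (epsU n i ⟨U, hU⟩) (he n i ⟨U, hU⟩)).symm

theorem chart_hom (U : S.Opens) (hU : IsAffineOpen U) :
    haveI := isClosedImmersion_iZU n i hU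
    (chart n i U hU).hom = (eZ n (qU n i U) (rU n i U)).hom ≫
      Proj.map (fwd (epsU n i ⟨U, hU⟩) (he n i ⟨U, hU⟩))
        (fwd_irr (epsU n i ⟨U, hU⟩) (he n i ⟨U, hU⟩)) := rfl

theorem chart_over (U : S.Opens) (hU : IsAffineOpen U) :
    (chart n i U hU).hom ≫ Proj.toSpecZero ((𝒮 n i).deg U hU) ≫
      Spec.map ((𝒮 n i).strZero U hU) ≫ hU.fromSpec = (fS n i ⁻¹ᵁ U).ι ≫ fS n i := by
  haveI := isClosedImmersion_iZU n i hU
  have hq : iZ n (qU n i U) (rU n i U) ≫ Proj.toSpecZero (CohB1.polyGrading n Γ(S, U)) ≫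
      Spec.map (CommRingCat.ofHom (algebraMap Γ(S, U) (CohB1.polyGrading n Γ(S, U) 0))) =
      qU n i U := iZ_toSpec n (qU n i U) (rU n i U)
  rw [← eZ_hom n (qU n i U) (rU n i U), Category.assoc, map_toSpecZero_assoc] at hq
  have key : (eZ n (qU n i U) (rU n i U)).hom ≫
      Proj.toSpecZero (GrQuot.piece (CohB1.polyGrading n Γ(S, U)) (JZ n (qU n i U) (rU n i U))) ≫
      Spec.map (CommRingCat.ofHom (zeroHom (fwd (epsU n i ⟨U, hU⟩) (he n i ⟨U, hU⟩)))) ≫
      Spec.map ((𝒮 n i).strZero U hU) = qU n i U := by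
    refine Eq.trans ?_ hq
    congr 2
    rw [← Spec.map_comp, ← Spec.map_comp]
    congr 1
    refine CommRingCat.hom_ext (RingHom.ext fun c => Subtype.ext ?_)
    exact eps_str (coequifibered n i) ⟨U, hU⟩ c
  rw [chart_hom, Category.assoc, map_toSpecZero_assoc, ← qU_fromSpec n i hU]
  have e : ∀ (t : Spec (CommRingCat.of Γ(S, U)) ⟶ S), (eZ n (qU n i U) (rU n i U)).hom ≫
      Proj.toSpecZero (GrQuot.piece (CohB1.polyGrading n Γ(S, U)) (JZ n (qU n i U) (rU n i U))) ≫
      Spec.map (CommRingCat.ofHom (zeroHom (fwd (epsU n i ⟨U, hU⟩) (he n i ⟨U, hU⟩)))) ≫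
      Spec.map ((𝒮 n i).strZero U hU) ≫ t = qU n i U ≫ t := by
    intro t
    have := congrArg (fun w => w ≫ t) key
    simpa only [Category.assoc] using this
  exact e _

theorem chart_res (U : S.Opens) (hU : IsAffineOpen U) (s : Γ(S, U)) :
    X.homOfLE ((fS n i).preimage_mono (S.basicOpen_le s)) ≫ (chart n i U hU).hom =
      (chart n i (S.basicOpen s) (hU.basicOpen s)).hom ≫
        Proj.map ((𝒮 n i).res hU (hU.basicOpen s) (S.basicOpen_le s))
          ((𝒮 n i).irrelevant_le_map U hU s) := by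
  haveI hc₁ : IsClosedImmersion (iZ n (qU n i U) (rU n i U)) := isClosedImmersion_iZU n i hU
  haveI hc₂ : IsClosedImmersion (iZ n (qU n i (S.basicOpen s)) (rU n i (S.basicOpen s))) :=
    isClosedImmersion_iZU n i (hU.basicOpen s)
  let Uₐ : S.AffineZariskiSite := ⟨U, hU⟩
  let j : Uₐ.basicOpen s ⟶ Uₐ := homOfLE (AffineZariskiSite.basicOpen_le Uₐ s)
  have h1 := eZ_comp n (S.presheaf.map (homOfLE (S.basicOpen_le s)).op).hom
    (qU n i U) (rU n i U) (qU n i (S.basicOpen s))
    (rU n i (S.basicOpen s)) (hUV n i (S.basicOpen_le s)) (hUV_rU n i _) (hUV_qU n i _)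
  rw [chart_hom, chart_hom, reassoc_of% h1, Category.assoc, ← Proj.map_comp, ← Proj.map_comp]
  congr 1
  refine map_congr (GradedRingHom.ext fun a => ?_) _ _
  exact (eps_res (coequifibered n i) j a).symm

theorem isRelProj : RelProj.IsRelProj (𝒮 n i) (fS n i) (chart n i) where
  chart_over := chart_over n i
  chart_res := chart_res n i

theorem symm_mk_mem (U : S.AffineZariskiSite) {d : ℕ} {b : PR n U}
    (hb : b ∈ CohB1.polyGrading n Γ(S, U.1) d) :
    (epsU n i U).symm (Ideal.Quotient.mk (JU n i U) b) ∈ (𝒮 n i).deg U.1 U.2 d := by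
  rw [he, RingEquiv.apply_symm_apply]
  exact GrQuot.mk_mem_piece _ _ hb

theorem isGenDegOne : (𝒮 n i).IsGenDegOne := by
  intro U hU
  rw [eq_top_iff]
  intro x _
  set K := Subring.closure ((((𝒮 n i).deg U hU 0 : Set ((𝒮 n i).presheaf.obj (op U)))) ∪
    (((𝒮 n i).deg U hU 1 : Set _))) with hK
  have key : ∀ b : PR n ⟨U, hU⟩,
      (epsU n i ⟨U, hU⟩).symm (Ideal.Quotient.mk (JU n i ⟨U, hU⟩) b) ∈ K := by
    intro b
    induction b using MvPolynomial.induction_on with
    | C c =>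
      exact Subring.subset_closure (Or.inl (symm_mk_mem n i ⟨U, hU⟩
        (MvPolynomial.isHomogeneous_C _ c)))
    | add p q hp hq =>
      rw [map_add, map_add]
      exact K.add_mem hp hq
    | mul_X p j hp =>
      rw [map_mul, map_mul]
      exact K.mul_mem hp (Subring.subset_closure (Or.inr (symm_mk_mem n i ⟨U, hU⟩
        (MvPolynomial.isHomogeneous_X _ j))))
  obtain ⟨b, hb⟩ := Ideal.Quotient.mk_surjective (epsU n i ⟨U, hU⟩ x)
  have := key b
  rwa [hb, RingEquiv.symm_apply_apply] at this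

theorem symm_mk_C (U : S.AffineZariskiSite) (c : Γ(S, U.1)) :
    (epsU n i U).symm (Ideal.Quotient.mk (JU n i U) (MvPolynomial.C c)) =
      ((𝒮 n i).str.app (op U.1)).hom c := by
  rw [RingEquiv.symm_apply_eq]
  exact (eps_str (coequifibered n i) U c).symm

theorem isFTDeg : (𝒮 n i).IsFTDeg 1 := by
  classical
  intro U hU
  let Uₐ : S.AffineZariskiSite := ⟨U, hU⟩
  let t : Fin (n + 1) → (𝒮 n i).presheaf.obj (op U) := fun j =>
    (epsU n i Uₐ).symm (Ideal.Quotient.mk (JU n i Uₐ) (MvPolynomial.X j))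
  refine ⟨Finset.univ.image t, ?_, ?_⟩
  · intro x hx
    obtain ⟨j, -, rfl⟩ := Finset.mem_image.mp hx
    exact symm_mk_mem n i Uₐ (MvPolynomial.isHomogeneous_X _ j)
  · intro x hx
    obtain ⟨b, hb, hbx⟩ := GrQuot.exists_of_mem_piece _ _ ((he n i Uₐ 1 x).mp hx)
    have hb' : b ∈ Submodule.span Γ(S, U) (Set.range (MvPolynomial.X :
        Fin (n + 1) → MvPolynomial (Fin (n + 1)) Γ(S, U))) := by
      rw [← MvPolynomial.homogeneousSubmodule_one_eq_span_X]
      exact hb
    obtain ⟨c, hc⟩ := (Submodule.mem_span_range_iff_exists_fun Γ(S, U)).mp hb'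
    have hx' : x = ∑ j, ((𝒮 n i).str.app (op U)).hom (c j) * t j := by
      have h1 : x = (epsU n i Uₐ).symm (Ideal.Quotient.mk (JU n i Uₐ) b) := by
        rw [RingEquiv.eq_symm_apply]
        exact hbx.symm
      rw [h1, ← hc, map_sum, map_sum]
      refine Finset.sum_congr rfl (fun j _ => ?_)
      rw [MvPolynomial.smul_eq_C_mul, map_mul, map_mul, symm_mk_C]
    refine ⟨fun y => ∑ j ∈ Finset.univ.filter (fun j => t j = y), c j, ?_⟩
    rw [hx']
    symm
    refine Finset.sum_image' (fun j => ((𝒮 n i).str.app (op U)).hom (c j) * t j) (fun j _ => ?_)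
    rw [map_sum, Finset.sum_mul]
    refine Finset.sum_congr rfl (fun j' hj' => ?_)
    rw [(Finset.mem_filter.mp hj').2]

/-- a closed subscheme of projective space over `S` is projective over `S` -/
theorem isProjective : RelProj.IsProjective (fS n i) :=
  ⟨𝒮 n i, X, fS n i, chart n i, Iso.refl X, isGenDegOne n i, isFTDeg n i, isRelProj n i,
    Category.id_comp _⟩

end Groth.Agent.Lib.Helper3.PEmb5
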