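import Groth.Agent.Lib.Helper3.ChowFinal
import Groth.Agent.Lib.Helper3.PEmb5

/-!
# Chow's lemma with the additional properties of EGA II 5.6.1
-/

set_option autoImplicit false
universe u
open CategoryTheory CategoryTheory.Limits AlgebraicGeometry TopologicalSpace

namespace Groth.Agent.Lib.Helper3.Chow2

open Groth.Agent.Lib.Helper3 ChowProd ChowMain

/-- **Chow's lemma**, the main construction, with density, reducedness and irreducibility. -/
theorem chow_of_cover' {X S : Scheme.{u}} (f : X ⟶ S) [IsSeparated f] [QuasiSeparatedSpace S]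
    {κ : Type u} [Finite κ] [Nonempty κ] (Ua : κ → X.Opens) (hcov : ⨆ a, Ua a = ⊤)
    (U : X.Opens) (hU : ∀ a, U ≤ Ua a) [CompactSpace U] (hdense : Dense (U : Set X))
    (Z : κ → Scheme.{u}) (h : ∀ a, Z a ⟶ S) (hh : ∀ a, RelProj.IsHProjective (h a))
    (ι : ∀ a, (Ua a).toScheme ⟶ Z a) [∀ a, IsOpenImmersion (ι a)]
    (hι : ∀ a, ι a ≫ h a = (Ua a).ι ≫ f) :
    ∃ (X' : Scheme.{u}) (π : X' ⟶ X) (W : Scheme.{u}) (hW : W ⟶ S) (j : X' ⟶ W),
      RelProj.IsHProjective hW ∧ IsImmersion j ∧ j ≫ hW = π ≫ f ∧ IsProper π ∧ Surjective π ∧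
        IsIso (π ∣_ U) ∧ Dense ((π ⁻¹ᵁ U : X'.Opens) : Set X') ∧ (IsReduced X → IsReduced X') ∧
        (IrreducibleSpace X → IrreducibleSpace X') := by
  classical
  let a₀ : κ := Classical.arbitrary κ
  let t : ∀ a, U.toScheme ⟶ Z a := fun a => X.homOfLE (hU a) ≫ ι a
  have ht : ∀ a, t a ≫ h a = U.ι ≫ f := by
    intro a
    simp only [t, Category.assoc, hι]
    rw [← Category.assoc, Scheme.homOfLE_ι]
  obtain ⟨W, hW, q₀, q, τ, hWproj, -, hq, -, hτ⟩ :=
    exists_product (U.ι ≫ f) (h a₀) (hh a₀) (t a₀) (ht a₀) κ Z h hh t ht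
  haveI hWprop : IsProper hW := ((QProj.isHProjective_iff hW).mp hWproj).2
  haveI hprop : ∀ a, IsProper (h a) := fun a => ((QProj.isHProjective_iff (h a)).mp (hh a)).2
  haveI : IsImmersion τ := by
    haveI : IsImmersion (τ ≫ q a₀) := by rw [hτ]; infer_instance
    exact IsImmersion.of_comp τ (q a₀)
  haveI : QuasiSeparatedSpace W := quasiSeparatedSpace_of_quasiSeparated hW
  haveI : QuasiCompact τ := inferInstance
  obtain ⟨Zc, c, τ', hτ'c, _, _, _, _, _⟩ : ∃ (Zc : Scheme.{u}) (c : Zc ⟶ W) (τ' : U.toScheme ⟶ Zc),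
      τ' ≫ c = τ ∧ IsClosedImmersion c ∧ IsOpenImmersion τ' ∧ IsDominant τ' ∧ QuasiCompact τ' ∧
        IsSchemeTheoreticallyDominant τ' :=
    ⟨τ.image, τ.imageι, τ.toImage, τ.toImage_imageι, inferInstance, inferInstance, inferInstance,
      inferInstance, inferInstance⟩
  let p : ∀ a, Zc ⟶ Z a := fun a => c ≫ q a
  have hp : ∀ a, p a ≫ h a = c ≫ hW := fun a => by simp only [p, Category.assoc, hq]
  haveI hpprop : ∀ a, IsProper (p a) := fun a => by
    haveI : IsProper (p a ≫ h a) := by rw [hp]; infer_instance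
    exact IsProper.of_comp (p a) (h a)
  have hτ'p : ∀ a, τ' ≫ p a = t a := fun a => by
    simp only [p]
    rw [← Category.assoc, hτ'c, hτ]
  let O : ∀ a, (Z a).Opens := fun a => (ι a).opensRange
  let V : ∀ a, Zc.Opens := fun a => (p a) ⁻¹ᵁ (O a)
  let ρ' : ∀ a, (V a).toScheme ⟶ (Ua a).toScheme :=
    fun a => (p a ∣_ O a) ≫ (ι a).isoOpensRange.inv
  haveI : ∀ a, IsProper (ρ' a) := fun a => inferInstance
  let ρ : ∀ a, (V a).toScheme ⟶ X := fun a => ρ' a ≫ (Ua a).ι
  have hρf : ∀ a, ρ a ≫ f = (V a).ι ≫ c ≫ hW := by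
    intro a
    simp only [ρ, ρ', Category.assoc]
    rw [← hι, Scheme.Hom.isoOpensRange_inv_comp_assoc, morphismRestrict_ι_assoc, hp]
  have hτ'V : ∀ a, Set.range τ' ⊆ Set.range (V a).ι := by
    intro a
    rw [Scheme.Opens.range_ι]
    rintro _ ⟨x, rfl⟩
    change p a (τ' x) ∈ Set.range (ι a)
    rw [← Scheme.Hom.comp_apply, hτ'p]
    exact ⟨X.homOfLE (hU a) x, (Scheme.Hom.comp_apply _ _ _).symm⟩
  let θ : ∀ a, U.toScheme ⟶ (V a).toScheme :=
    fun a => IsOpenImmersion.lift (V a).ι τ' (hτ'V a)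
  have hθ : ∀ a, θ a ≫ (V a).ι = τ' := fun a => IsOpenImmersion.lift_fac _ _ _
  have hθρ' : ∀ a, θ a ≫ ρ' a = X.homOfLE (hU a) := by
    intro a
    rw [← cancel_mono (ι a)]
    simp only [ρ', Category.assoc]
    rw [Scheme.Hom.isoOpensRange_inv_comp, morphismRestrict_ι, ← Category.assoc, hθ, hτ'p]
  have hθρ : ∀ a, θ a ≫ ρ a = U.ι := by
    intro a
    simp only [ρ]
    rw [← Category.assoc, hθρ', Scheme.homOfLE_ι]
  obtain ⟨π, hπ, hπf⟩ := exists_glue f (c ≫ hW) V ρ hρf τ' θ hθ U.ι hθρ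
  haveI : IsSeparated π := by
    haveI : IsSeparated (π ≫ f) := by rw [hπf]; infer_instance
    exact IsSeparated.of_comp π f
  have hloc : ∀ a, IsProper (π ∣_ Ua a) := by
    intro a
    obtain ⟨k, hk, hkπ⟩ := exists_iso_lift (⨆ a, V a).ι π (Ua a) (Zc.homOfLE (le_iSup V a))
      (ρ' a) (hπ a) τ' (θ a) (by rw [Scheme.homOfLE_ι, hθ])
    have e : π ∣_ Ua a = inv k ≫ ρ' a := by rw [IsIso.eq_inv_comp, hkπ]
    rw [e]
    infer_instance
  haveI : IsProper π := IsZariskiLocalAtTarget.of_iSup_eq_top (P := @IsProper) Ua hcov hloc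
  let θY : U.toScheme ⟶ (⨆ a, V a).toScheme := θ a₀ ≫ Zc.homOfLE (le_iSup V a₀)
  have hθY : θY ≫ (⨆ a, V a).ι = τ' := by
    simp only [θY, Category.assoc]
    rw [Scheme.homOfLE_ι, hθ]
  have hθYπ : θY ≫ π = U.ι := by
    simp only [θY, Category.assoc]
    rw [hπ, hθρ]
  haveI : IsOpenImmersion θY := by
    haveI : IsOpenImmersion (θY ≫ (⨆ a, V a).ι) := by rw [hθY]; infer_instance
    exact IsOpenImmersion.of_comp θY (⨆ a, V a).ι
  have hiso : IsIso (π ∣_ U) := by
    obtain ⟨k, hk, hkπ⟩ := exists_iso_lift (⨆ a, V a).ι π U θY (𝟙 _)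
      (by rw [hθYπ, Category.id_comp]) τ' (𝟙 _) (by rw [Category.id_comp, hθY])
    have e : π ∣_ U = inv k := IsIso.eq_inv_of_hom_inv_id hkπ
    rw [e]
    infer_instance
  have hsurj : Surjective π := by
    have hcl : IsClosed (Set.range π) := π.isClosedMap.isClosed_range
    have hsub : (U : Set X) ⊆ Set.range π := by
      intro x hx
      refine ⟨θY ⟨x, hx⟩, ?_⟩
      rw [← Scheme.Hom.comp_apply, hθYπ]
      rfl
    have hr : Set.range π = Set.univ := by
      apply Set.eq_univ_of_univ_subset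
      rw [← hdense.closure_eq]
      exact hcl.closure_subset_iff.mpr hsub
    exact ⟨Set.range_eq_univ.mp hr⟩
  have hdenseθ : Dense ((⨆ a, V a).ι ⁻¹' Set.range τ') :=
    (τ'.denseRange : Dense (Set.range τ')).preimage (⨆ a, V a).ι.isOpenEmbedding.isOpenMap
  have hsubθ : (⨆ a, V a).ι ⁻¹' Set.range τ' ⊆ ((π ⁻¹ᵁ U : (⨆ a, V a).toScheme.Opens) : Set _) := by
    rintro x ⟨u, hu⟩
    have hx : x = θY u := by
      apply (⨆ a, V a).ι.isOpenEmbedding.injective
      rw [← hu, ← hθY]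
      rfl
    change π x ∈ U
    rw [hx, ← Scheme.Hom.comp_apply, hθYπ]
    exact u.2
  have hred : IsReduced X → IsReduced (⨆ a, V a).toScheme := by
    intro _
    haveI : IsReduced Zc := IsSchemeTheoreticallyDominant.isReduced τ'
    infer_instance
  have hirr : IrreducibleSpace X → IrreducibleSpace (⨆ a, V a).toScheme := by
    intro _
    obtain ⟨x, hx⟩ := hdense.nonempty
    haveI : Nonempty U.toScheme := ⟨⟨x, hx⟩⟩
    haveI : IrreducibleSpace U.toScheme := U.ι.isOpenEmbedding.irreducibleSpace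
    haveI : IrreducibleSpace Zc := by
      rw [irreducibleSpace_def]
      have h1 : IsIrreducible (Set.range τ') := by
        rw [← Set.image_univ]
        exact (IrreducibleSpace.isIrreducible_univ U.toScheme).image _
          τ'.continuous.continuousOn
      have h2 := h1.closure
      rwa [(τ'.denseRange : DenseRange τ').closure_range] at h2
    haveI : Nonempty (⨆ a, V a).toScheme := ⟨θY ⟨x, hx⟩⟩
    exact (⨆ a, V a).ι.isOpenEmbedding.irreducibleSpace
  exact ⟨(⨆ a, V a).toScheme, π, W, hW, (⨆ a, V a).ι ≫ c, hWproj, inferInstance,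
    by rw [Category.assoc, hπf], inferInstance, hsurj, hiso, hdenseθ.mono hsubθ, hred, hirr⟩

/-- a proper morphism `π : X' ⟶ X` such that `X'` is immersed in some `ℙᴺ_S` over `S` is
H-projective -/
theorem isHProjective_of_immersion {X' X S : Scheme.{u}} (π : X' ⟶ X) (f : X ⟶ S) [IsProper π]
    (N : ℕ) (j : X' ⟶ CohB1.ProjSpaceOver N S) (hj : IsImmersion j)
    (hjf : j ≫ CohB1.ProjSpaceOver.toBase N S = π ≫ f) : RelProj.IsHProjective π := by
  let j' : X' ⟶ pullback (CohB1.ProjSpace.toSpec N (ULift.{u} ℤ)) (specULiftZIsTerminal.from S) := j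
  haveI : IsImmersion j' := hj
  have hjf' : j' ≫ pullback.snd _ _ = π ≫ f := hjf
  let g : X' ⟶ pullback (CohB1.ProjSpace.toSpec N (ULift.{u} ℤ)) (specULiftZIsTerminal.from X) :=
    pullback.lift (j' ≫ pullback.fst _ _) π (specULiftZIsTerminal.hom_ext _ _)
  let bc : pullback (CohB1.ProjSpace.toSpec N (ULift.{u} ℤ)) (specULiftZIsTerminal.from X) ⟶
      pullback (CohB1.ProjSpace.toSpec N (ULift.{u} ℤ)) (specULiftZIsTerminal.from S) :=
    pullback.lift (pullback.fst _ _) (pullback.snd _ _ ≫ f) (specULiftZIsTerminal.hom_ext _ _)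
  have hgπ : g ≫ pullback.snd _ _ = π := pullback.lift_snd _ _ _
  have hgbc : g ≫ bc = j' := by
    apply pullback.hom_ext
    · rw [Category.assoc, pullback.lift_fst, pullback.lift_fst]
    · rw [Category.assoc, pullback.lift_snd, ← Category.assoc, hgπ, hjf']
  haveI : IsImmersion (g ≫ bc) := by rw [hgbc]; infer_instance
  have hg1 : IsImmersion g := IsImmersion.of_comp g bc
  haveI : QuasiCompact (g ≫ pullback.snd (CohB1.ProjSpace.toSpec N (ULift.{u} ℤ))
      (specULiftZIsTerminal.from X)) := by rw [hgπ]; infer_instance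
  have hg2 : QuasiCompact g := QuasiCompact.of_comp g
    (pullback.snd (CohB1.ProjSpace.toSpec N (ULift.{u} ℤ)) (specULiftZIsTerminal.from X))
  exact (QProj.isHProjective_iff π).mpr ⟨⟨N, g, hg1, hg2, hgπ⟩, inferInstance⟩

/-- **Chow's lemma** over a quasi-compact quasi-separated base, for `X` with finitely many
irreducible components, with all the properties of EGA II 5.6.1. -/
theorem chow' {X S : Scheme.{u}} (f : X ⟶ S) [CompactSpace S] [QuasiSeparatedSpace S]
    [IsSeparated f] [LocallyOfFiniteType f] [QuasiCompact f]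
    (hirr : (irreducibleComponents (X : Type u)).Finite) :
    ∃ (X' : Scheme.{u}) (π : X' ⟶ X),
      RelProj.IsHQuasiProjective (π ≫ f) ∧ RelProj.IsHProjective π ∧ Surjective π ∧
      (∃ U : X.Opens, Dense (U : Set X) ∧ Dense ((π ⁻¹ᵁ U : X'.Opens) : Set X') ∧
        IsIso (π ∣_ U)) ∧
      (IsReduced X → IsReduced X') ∧ (IrreducibleSpace X → IrreducibleSpace X') := by
  haveI : CompactSpace X := QuasiCompact.compactSpace_of_compactSpace f
  haveI : QuasiSeparatedSpace X := quasiSeparatedSpace_of_quasiSeparated f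
  have main : ∃ (N : ℕ) (X' : Scheme.{u}) (π : X' ⟶ X) (j : X' ⟶ CohB1.ProjSpaceOver N S),
      IsImmersion j ∧ j ≫ CohB1.ProjSpaceOver.toBase N S = π ≫ f ∧ IsProper π ∧ Surjective π ∧
      (∃ U : X.Opens, Dense (U : Set X) ∧ Dense ((π ⁻¹ᵁ U : X'.Opens) : Set X') ∧
        IsIso (π ∣_ U)) ∧
      (IsReduced X → IsReduced X') ∧ (IrreducibleSpace X → IrreducibleSpace X') := by
    rcases isEmpty_or_nonempty X with hX | hX
    · let j : X ⟶ CohB1.ProjSpaceOver 0 S := (isInitialOfIsEmpty).to _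
      exact ⟨0, X, 𝟙 X, j, inferInstance, (isInitialOfIsEmpty).hom_ext _ _, inferInstance,
        inferInstance, ⟨⊤, by simp, by simp, inferInstance⟩, fun h => h, fun h => h⟩
    · obtain ⟨κ, hκ, Ua, hUa, hcov, hmeet⟩ := ChowTop.exists_affine_cover X hirr
      haveI : Finite κ := hκ
      haveI : Nonempty κ := by
        obtain ⟨x⟩ := hX
        have hx : x ∈ (⨆ a, Ua a) := by rw [hcov]; trivial
        obtain ⟨a, -⟩ := Opens.mem_iSup.mp hx
        exact ⟨a⟩
      let U : X.Opens := ⟨⋂ a, (Ua a : Set X), isOpen_iInter_of_finite (fun a => (Ua a).2)⟩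
      have hU : ∀ a, U ≤ Ua a := fun a x hx => Set.mem_iInter.mp hx a
      have hdense : Dense (U : Set X) := ChowTop.dense_iInter Ua hmeet
      haveI : CompactSpace U :=
        isCompact_iff_compactSpace.mp (ChowTop.isCompact_iInter Ua (fun a => (hUa a).isCompact))
      have hpiece : ∀ a, ∃ (n : ℕ) (i : (Ua a).toScheme ⟶ CohB1.ProjSpaceOver n S),
          IsImmersion i ∧ QuasiCompact i ∧
            i ≫ CohB1.ProjSpaceOver.toBase n S = (Ua a).ι ≫ f := by
        intro a
        haveI : IsAffine (Ua a).toScheme := hUa a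
        haveI : QuasiCompact ((Ua a).ι ≫ f) := inferInstance
        exact QProj.isHQuasiProjective_of_isAmple ((Ua a).ι ≫ f)
          (AmpleMisc.isAmple_of_isAffine (InvGen.isInvertible_structureModule _))
      choose n i hi hqc hif using hpiece
      haveI hopen : ∀ a, IsOpenImmersion ((i a).toImage) := fun a => by
        haveI := hi a
        haveI := hqc a
        infer_instance
      obtain ⟨X', π, W, hW, j, hWproj, hj, hjW, hπ, hsurj, hiso, hd', hred, hirr'⟩ :=
        chow_of_cover' f Ua hcov U hU hdense (fun a => (i a).image)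
          (fun a => (i a).imageι ≫ CohB1.ProjSpaceOver.toBase (n a) S)
          (fun a => ⟨n a, (i a).imageι, inferInstance, rfl⟩)
          (fun a => (i a).toImage)
          (fun a => by rw [Scheme.Hom.toImage_imageι_assoc, hif])
      obtain ⟨N, iW, hiW, hiWcomp⟩ := hWproj
      haveI := hj
      haveI := hiW
      exact ⟨N, X', π, j ≫ iW, inferInstance, by rw [Category.assoc, hiWcomp, hjW], hπ, hsurj,
        ⟨U, hdense, hd', hiso⟩, hred, hirr'⟩
  obtain ⟨N, X', π, j, hj, hjf, hπ, hsurj, hU, hred, hirr'⟩ := main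
  haveI := hπ
  refine ⟨X', π, ?_, isHProjective_of_immersion π f N j hj hjf, hsurj, hU, hred, hirr'⟩
  let j' : X' ⟶ pullback (CohB1.ProjSpace.toSpec N (ULift.{u} ℤ)) (specULiftZIsTerminal.from S) := j
  have hjf' : j' ≫ pullback.snd _ _ = π ≫ f := hjf
  haveI : QuasiCompact (j' ≫ pullback.snd (CohB1.ProjSpace.toSpec N (ULift.{u} ℤ))
      (specULiftZIsTerminal.from S)) := by rw [hjf']; infer_instance
  have hqc : QuasiCompact j' := QuasiCompact.of_comp j'
    (pullback.snd (CohB1.ProjSpace.toSpec N (ULift.{u} ℤ)) (specULiftZIsTerminal.from S))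
  exact ⟨N, j, hj, hqc, hjf⟩

end Groth.Agent.Lib.Helper3.Chow2
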