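import Groth.Agent.Lib.Helper3.ChowFinal
import Groth.Agent.Lib.Helper3.Chow2

set_option autoImplicit false
universe u
open CategoryTheory CategoryTheory.Limits AlgebraicGeometry TopologicalSpace

namespace Groth.Agent.Lib.Helper3.Chow3

open Groth.Agent.Lib.Helper3 ChowProd ChowMain

/-- **Chow's lemma**, the main construction. -/
theorem chow_of_cover_nd {X S : Scheme.{u}} (f : X ⟶ S) [IsSeparated f] [QuasiSeparatedSpace S]
    {κ : Type u} [Finite κ] [Nonempty κ] (Ua : κ → X.Opens)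
    (U : X.Opens) (hU : ∀ a, U ≤ Ua a) [CompactSpace U]
    (hcov : closure (U : Set X) ⊆ ((⨆ a, Ua a : X.Opens) : Set X))
    (Z : κ → Scheme.{u}) (h : ∀ a, Z a ⟶ S) (hh : ∀ a, RelProj.IsHProjective (h a))
    (ι : ∀ a, (Ua a).toScheme ⟶ Z a) [∀ a, IsOpenImmersion (ι a)]
    (hι : ∀ a, ι a ≫ h a = (Ua a).ι ≫ f) :
    ∃ (X' : Scheme.{u}) (π : X' ⟶ X) (W : Scheme.{u}) (hW : W ⟶ S) (j : X' ⟶ W),
      RelProj.IsHProjective hW ∧ IsImmersion j ∧ j ≫ hW = π ≫ f ∧ IsProper π ∧ IsIso (π ∣_ U) := by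
  classical
  let a₀ : κ := Classical.arbitrary κ
  let t : ∀ a, U.toScheme ⟶ Z a := fun a => X.homOfLE (hU a) ≫ ι a
  have ht : ∀ a, t a ≫ h a = U.ι ≫ f := by
    intro a
    simp only [t, Category.assoc, hι]
    rw [← Category.assoc, Scheme.homOfLE_ι]
  obtain ⟨W, hW, q₀, q, τ, hWproj, -, hq, -, hτ⟩ :=
    exists_product (U.ι ≫ f) (h a₀) (hh a₀) (t a₀) (ht a₀) κ Z h hh t ht
  haveI hWprop : IsProper hW := ((QProj.isHProjective_iff hW).mp hWproj).2
  haveI hprop : ∀ a, IsProper (h a) := fun a => ((QProj.isHProjective_iff (h a)).mp (hh a)).2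
  haveI : IsImmersion τ := by
    haveI : IsImmersion (τ ≫ q a₀) := by rw [hτ]; infer_instance
    exact IsImmersion.of_comp τ (q a₀)
  haveI : QuasiSeparatedSpace W := quasiSeparatedSpace_of_quasiSeparated hW
  haveI : QuasiCompact τ := inferInstance
  obtain ⟨Zc, c, τ', hτ'c, _, _, _, _, _⟩ : ∃ (Zc : Scheme.{u}) (c : Zc ⟶ W) (τ' : U.toScheme ⟶ Zc),
      τ' ≫ c = τ ∧ IsClosedImmersion c ∧ IsOpenImmersion τ' ∧ IsDominant τ' ∧ QuasiCompact τ' ∧
        IsSchemeTheoreticallyDominant τ' :=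
    ⟨τ.image, τ.imageι, τ.toImage, τ.toImage_imageι, inferInstance, inferInstance, inferInstance,
      inferInstance, inferInstance⟩
  let p : ∀ a, Zc ⟶ Z a := fun a => c ≫ q a
  have hp : ∀ a, p a ≫ h a = c ≫ hW := fun a => by simp only [p, Category.assoc, hq]
  haveI hpprop : ∀ a, IsProper (p a) := fun a => by
    haveI : IsProper (p a ≫ h a) := by rw [hp]; infer_instance
    exact IsProper.of_comp (p a) (h a)
  have hτ'p : ∀ a, τ' ≫ p a = t a := fun a => by
    simp only [p]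
    rw [← Category.assoc, hτ'c, hτ]
  let O : ∀ a, (Z a).Opens := fun a => (ι a).opensRange
  let V : ∀ a, Zc.Opens := fun a => (p a) ⁻¹ᵁ (O a)
  let ρ' : ∀ a, (V a).toScheme ⟶ (Ua a).toScheme :=
    fun a => (p a ∣_ O a) ≫ (ι a).isoOpensRange.inv
  haveI : ∀ a, IsProper (ρ' a) := fun a => inferInstance
  let ρ : ∀ a, (V a).toScheme ⟶ X := fun a => ρ' a ≫ (Ua a).ι
  have hρf : ∀ a, ρ a ≫ f = (V a).ι ≫ c ≫ hW := by
    intro a
    simp only [ρ, ρ', Category.assoc]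
    rw [← hι, Scheme.Hom.isoOpensRange_inv_comp_assoc, morphismRestrict_ι_assoc, hp]
  have hτ'V : ∀ a, Set.range τ' ⊆ Set.range (V a).ι := by
    intro a
    rw [Scheme.Opens.range_ι]
    rintro _ ⟨x, rfl⟩
    change p a (τ' x) ∈ Set.range (ι a)
    rw [← Scheme.Hom.comp_apply, hτ'p]
    exact ⟨X.homOfLE (hU a) x, (Scheme.Hom.comp_apply _ _ _).symm⟩
  let θ : ∀ a, U.toScheme ⟶ (V a).toScheme :=
    fun a => IsOpenImmersion.lift (V a).ι τ' (hτ'V a)
  have hθ : ∀ a, θ a ≫ (V a).ι = τ' := fun a => IsOpenImmersion.lift_fac _ _ _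
  have hθρ' : ∀ a, θ a ≫ ρ' a = X.homOfLE (hU a) := by
    intro a
    rw [← cancel_mono (ι a)]
    simp only [ρ', Category.assoc]
    rw [Scheme.Hom.isoOpensRange_inv_comp, morphismRestrict_ι, ← Category.assoc, hθ, hτ'p]
  have hθρ : ∀ a, θ a ≫ ρ a = U.ι := by
    intro a
    simp only [ρ]
    rw [← Category.assoc, hθρ', Scheme.homOfLE_ι]
  obtain ⟨π, hπ, hπf⟩ := exists_glue f (c ≫ hW) V ρ hρf τ' θ hθ U.ι hθρ
  haveI : IsSeparated π := by
    haveI : IsSeparated (π ≫ f) := by rw [hπf]; infer_instance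
    exact IsSeparated.of_comp π f
  have hloc : ∀ a, IsProper (π ∣_ Ua a) := by
    intro a
    obtain ⟨k, hk, hkπ⟩ := exists_iso_lift (⨆ a, V a).ι π (Ua a) (Zc.homOfLE (le_iSup V a))
      (ρ' a) (hπ a) τ' (θ a) (by rw [Scheme.homOfLE_ι, hθ])
    have e : π ∣_ Ua a = inv k ≫ ρ' a := by rw [IsIso.eq_inv_comp, hkπ]
    rw [e]
    infer_instance
  let θY : U.toScheme ⟶ (⨆ a, V a).toScheme := θ a₀ ≫ Zc.homOfLE (le_iSup V a₀)
  have hθY : θY ≫ (⨆ a, V a).ι = τ' := by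
    simp only [θY, Category.assoc]
    rw [Scheme.homOfLE_ι, hθ]
  have hθYπ : θY ≫ π = U.ι := by
    simp only [θY, Category.assoc]
    rw [hπ, hθρ]
  haveI : IsOpenImmersion θY := by
    haveI : IsOpenImmersion (θY ≫ (⨆ a, V a).ι) := by rw [hθY]; infer_instance
    exact IsOpenImmersion.of_comp θY (⨆ a, V a).ι
  let Ub : Option κ → X.Opens := fun o =>
    o.elim ⟨(closure (U : Set X))ᶜ, isClosed_closure.isOpen_compl⟩ Ua
  have hcovb : ⨆ o, Ub o = ⊤ := by
    refine top_le_iff.mp (fun x _ => ?_)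
    by_cases hx : x ∈ closure (U : Set X)
    · obtain ⟨a, ha⟩ := Opens.mem_iSup.mp (hcov hx)
      exact Opens.mem_iSup.mpr ⟨some a, ha⟩
    · exact Opens.mem_iSup.mpr ⟨none, hx⟩
  have hlocb : ∀ o, IsProper (π ∣_ Ub o) := by
    rintro (_ | a)
    · haveI : IsEmpty (π ⁻¹ᵁ Ub none).toScheme := by
        refine ⟨fun z => ?_⟩
        -- the open `π⁻¹(X ∖ closure U)` of `Zc` meets the dense range of `τ'`
        have hopen : IsOpen (((⨆ a, V a).ι ''ᵁ (π ⁻¹ᵁ Ub none) : Zc.Opens) : Set Zc) :=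
          ((⨆ a, V a).ι ''ᵁ (π ⁻¹ᵁ Ub none)).2
        have hne : (((⨆ a, V a).ι ''ᵁ (π ⁻¹ᵁ Ub none) : Zc.Opens) : Set Zc).Nonempty :=
          ⟨(⨆ a, V a).ι z.1, ⟨z.1, z.2, rfl⟩⟩
        obtain ⟨w, hw, ⟨x, rfl⟩⟩ := (τ'.denseRange).inter_open_nonempty _ hopen hne
        obtain ⟨y, hy, hyx⟩ := hw
        have hy' : y = θY x := by
          apply (⨆ a, V a).ι.isOpenEmbedding.injective
          refine hyx.trans ?_
          rw [← Scheme.Hom.comp_apply, hθY]
        have hmem : π y ∈ (closure (U : Set X))ᶜ := hy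
        apply hmem
        rw [hy', ← Scheme.Hom.comp_apply, hθYπ]
        exact subset_closure x.2
      infer_instance
    · exact hloc a
  haveI : IsProper π := IsZariskiLocalAtTarget.of_iSup_eq_top (P := @IsProper) Ub hcovb hlocb
  have hiso : IsIso (π ∣_ U) := by
    obtain ⟨k, hk, hkπ⟩ := exists_iso_lift (⨆ a, V a).ι π U θY (𝟙 _)
      (by rw [hθYπ, Category.id_comp]) τ' (𝟙 _) (by rw [Category.id_comp, hθY])
    have e : π ∣_ U = inv k := IsIso.eq_inv_of_hom_inv_id hkπ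
    rw [e]
    infer_instance
  exact ⟨(⨆ a, V a).toScheme, π, W, hW, (⨆ a, V a).ι ≫ c, hWproj, inferInstance,
    by rw [Category.assoc, hπf], inferInstance, hiso⟩



/-- In a nonempty space with a finite open cover, a maximal subfamily with nonempty intersection:
the closure of its intersection is covered by the subfamily. -/
theorem exists_maximal_inter {X : Type*} [TopologicalSpace X] [Nonempty X] {ι : Type*} [Finite ι]
    (B : ι → Opens X) (hcov : ⨆ i, B i = ⊤) :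
    ∃ J : Set ι, J.Nonempty ∧ (⋂ j : J, (B j : Set X)).Nonempty ∧
      closure (⋂ j : J, (B j : Set X)) ⊆ ⋃ j : J, (B j : Set X) := by
  classical
  let s : Set (Set ι) := {J | (⋂ j : J, (B j : Set X)).Nonempty}
  have hs : s.Nonempty := by
    refine ⟨∅, ?_⟩
    obtain ⟨x⟩ := ‹Nonempty X›
    exact ⟨x, Set.mem_iInter.mpr (fun j => j.2.elim)⟩
  obtain ⟨J, hJ⟩ := (Set.toFinite s).exists_maximal hs
  have hJne : (⋂ j : J, (B j : Set X)).Nonempty := hJ.1
  have hmax : ∀ i, i ∉ J → (⋂ j : J, (B j : Set X)) ∩ B i = ∅ := by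
    intro i hi
    by_contra hne
    obtain ⟨x, hx1, hx2⟩ := Set.nonempty_iff_ne_empty.mpr hne
    have hmem : insert i J ∈ s := by
      refine ⟨x, Set.mem_iInter.mpr ?_⟩
      rintro ⟨j, hj⟩
      rcases hj with rfl | hj
      · exact hx2
      · exact Set.mem_iInter.mp hx1 ⟨j, hj⟩
    exact hi (hJ.2 hmem (Set.subset_insert i J) (Set.mem_insert i J))
  have hcl : closure (⋂ j : J, (B j : Set X)) ⊆ ⋃ j : J, (B j : Set X) := by
    intro x hx
    have hx' : x ∈ (⨆ i, B i) := by rw [hcov]; trivial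
    obtain ⟨i, hi⟩ := Opens.mem_iSup.mp hx'
    by_cases hiJ : i ∈ J
    · exact Set.mem_iUnion.mpr ⟨⟨i, hiJ⟩, hi⟩
    · exfalso
      obtain ⟨y, hy1, hy2⟩ := mem_closure_iff.mp hx (B i) (B i).2 hi
      have : y ∈ (⋂ j : J, (B j : Set X)) ∩ B i := ⟨hy2, hy1⟩
      rw [hmax i hiJ] at this
      exact this
  refine ⟨J, ?_, hJne, hcl⟩
  obtain ⟨x, hx⟩ := hJne
  obtain ⟨j, -⟩ := Set.mem_iUnion.mp (hcl (subset_closure hx))
  exact ⟨j.1, j.2⟩

/-- A variant of **Chow's lemma** without irreducibility hypotheses (and without surjectivity and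
density conclusions). -/
theorem chow_nd {X S : Scheme.{u}} (f : X ⟶ S) [CompactSpace S] [QuasiSeparatedSpace S]
    [IsSeparated f] [LocallyOfFiniteType f] [QuasiCompact f] [Nonempty X] :
    ∃ (X' : Scheme.{u}) (π : X' ⟶ X),
      RelProj.IsHQuasiProjective (π ≫ f) ∧ RelProj.IsHProjective π ∧
      ∃ U : X.Opens, (U : Set X).Nonempty ∧ IsIso (π ∣_ U) := by
  classical
  haveI : CompactSpace X := QuasiCompact.compactSpace_of_compactSpace f
  haveI : QuasiSeparatedSpace X := quasiSeparatedSpace_of_quasiSeparated f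
  -- a finite affine open cover
  have hA : ∀ x : X, ∃ A : X.Opens, IsAffineOpen A ∧ x ∈ A := by
    intro x
    obtain ⟨_, ⟨A, hA, rfl⟩, hxA, -⟩ :=
      X.isBasis_affineOpens.exists_subset_of_mem_open (Set.mem_univ x) isOpen_univ
    exact ⟨A, hA, hxA⟩
  choose A hAaff hxA using hA
  obtain ⟨t, ht⟩ := isCompact_univ.elim_finite_subcover (fun x => (A x : Set X))
    (fun x => (A x).2) (fun x _ => Set.mem_iUnion.mpr ⟨x, hxA x⟩)
  let B : ↥t → X.Opens := fun x => A x.1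
  have hBcov : ⨆ i, B i = ⊤ := by
    refine top_le_iff.mp (fun x _ => ?_)
    obtain ⟨y, hy⟩ := Set.mem_iUnion.mp (ht (Set.mem_univ x))
    obtain ⟨hyt, hxy⟩ := Set.mem_iUnion.mp hy
    exact Opens.mem_iSup.mpr ⟨⟨y, hyt⟩, hxy⟩
  obtain ⟨J, hJne, hUne, hcl⟩ := exists_maximal_inter B hBcov
  haveI : Nonempty ↥J := hJne.to_subtype
  let Ua : ↥J → X.Opens := fun j => B j.1
  have hUa : ∀ a, IsAffineOpen (Ua a) := fun a => hAaff _
  let U : X.Opens := ⟨⋂ a, (Ua a : Set X), isOpen_iInter_of_finite (fun a => (Ua a).2)⟩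
  have hU : ∀ a, U ≤ Ua a := fun a x hx => Set.mem_iInter.mp hx a
  haveI : CompactSpace U :=
    isCompact_iff_compactSpace.mp (ChowTop.isCompact_iInter Ua (fun a => (hUa a).isCompact))
  have hcov : closure (U : Set X) ⊆ ((⨆ a, Ua a : X.Opens) : Set X) := by
    intro x hx
    obtain ⟨j, hj⟩ := Set.mem_iUnion.mp (hcl hx)
    exact Opens.mem_iSup.mpr ⟨j, hj⟩
  have hpiece : ∀ a, ∃ (n : ℕ) (i : (Ua a).toScheme ⟶ CohB1.ProjSpaceOver n S),
      IsImmersion i ∧ QuasiCompact i ∧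
        i ≫ CohB1.ProjSpaceOver.toBase n S = (Ua a).ι ≫ f := by
    intro a
    haveI : IsAffine (Ua a).toScheme := hUa a
    haveI : QuasiCompact ((Ua a).ι ≫ f) := inferInstance
    exact QProj.isHQuasiProjective_of_isAmple ((Ua a).ι ≫ f)
      (AmpleMisc.isAmple_of_isAffine (InvGen.isInvertible_structureModule _))
  choose n i hi hqc hif using hpiece
  haveI hopen : ∀ a, IsOpenImmersion ((i a).toImage) := fun a => by
    haveI := hi a
    haveI := hqc a
    infer_instance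
  obtain ⟨X', π, W, hW, j, hWproj, hj, hjW, hπ, hiso⟩ :=
    chow_of_cover_nd f Ua U hU hcov (fun a => (i a).image)
      (fun a => (i a).imageι ≫ CohB1.ProjSpaceOver.toBase (n a) S)
      (fun a => ⟨n a, (i a).imageι, inferInstance, rfl⟩)
      (fun a => (i a).toImage)
      (fun a => by rw [Scheme.Hom.toImage_imageι_assoc, hif])
  obtain ⟨N, iW, hiW, hiWcomp⟩ := hWproj
  haveI := hj
  haveI := hiW
  haveI := hπ
  have hjf : (j ≫ iW) ≫ CohB1.ProjSpaceOver.toBase N S = π ≫ f := by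
    rw [Category.assoc, hiWcomp, hjW]
  have hjimm : IsImmersion (j ≫ iW) := inferInstance
  refine ⟨X', π, ?_, Chow2.isHProjective_of_immersion π f N (j ≫ iW) hjimm hjf, U, hUne, hiso⟩
  let j' : X' ⟶ pullback (CohB1.ProjSpace.toSpec N (ULift.{u} ℤ)) (specULiftZIsTerminal.from S) :=
    j ≫ iW
  have hjf' : j' ≫ pullback.snd _ _ = π ≫ f := hjf
  haveI : QuasiCompact (j' ≫ pullback.snd (CohB1.ProjSpace.toSpec N (ULift.{u} ℤ))
      (specULiftZIsTerminal.from S)) := by rw [hjf']; infer_instance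
  have hqc : QuasiCompact j' := QuasiCompact.of_comp j'
    (pullback.snd (CohB1.ProjSpace.toSpec N (ULift.{u} ℤ)) (specULiftZIsTerminal.from S))
  exact ⟨N, j ≫ iW, hjimm, hqc, hjf⟩

end Groth.Agent.Lib.Helper3.Chow3
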