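import Mathlib

set_option autoImplicit false
universe u
open CategoryTheory CategoryTheory.Limits AlgebraicGeometry TopologicalSpace

namespace Groth.Agent.Lib.Helper3.ChowTop

variable {X : Scheme.{u}}

/-- Finitely many opens each meeting every irreducible component have a dense intersection. -/
theorem dense_iInter {κ : Type*} [Finite κ] (U : κ → X.Opens)
    (h : ∀ C ∈ irreducibleComponents X, ∀ a, ((U a : Set X) ∩ C).Nonempty) :
    Dense (⋂ a, (U a : Set X)) := by
  classical
  haveI := Fintype.ofFinite κ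
  intro x
  rw [mem_closure_iff]
  intro O hO hxO
  have hC := irreducibleComponent_mem_irreducibleComponents x
  have hirr : IsIrreducible (irreducibleComponent x) := isIrreducible_irreducibleComponent
  let T : Finset (Set X) := insert O (Finset.univ.image (fun a => (U a : Set X)))
  have h1 := (isIrreducible_iff_sInter.mp hirr) T ?_ ?_
  · obtain ⟨y, -, hy⟩ := h1
    rw [Set.mem_sInter] at hy
    refine ⟨y, hy O (by simp [T]), ?_⟩
    rw [Set.mem_iInter]
    intro a
    exact hy _ (by simp [T])
  · intro u hu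
    simp only [T, Finset.mem_insert, Finset.mem_image, Finset.mem_univ, true_and] at hu
    rcases hu with rfl | ⟨a, rfl⟩
    · exact hO
    · exact (U a).2
  · intro u hu
    simp only [T, Finset.mem_insert, Finset.mem_image, Finset.mem_univ, true_and] at hu
    rcases hu with rfl | ⟨a, rfl⟩
    · exact ⟨x, mem_irreducibleComponent, hxO⟩
    · rw [Set.inter_comm]
      exact h _ hC a

/-- A finite intersection of quasi-compact opens in a quasi-compact quasi-separated space is
quasi-compact. -/
theorem isCompact_iInter {κ : Type*} [Finite κ] [CompactSpace X] [QuasiSeparatedSpace X]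
    (U : κ → X.Opens) (hU : ∀ a, IsCompact (U a : Set X)) :
    IsCompact (⋂ a, (U a : Set X)) := by
  classical
  haveI := Fintype.ofFinite κ
  have key : ∀ s : Finset κ, IsCompact (⋂ a ∈ s, (U a : Set X)) ∧
      IsOpen (⋂ a ∈ s, (U a : Set X)) := by
    intro s
    induction s using Finset.induction_on with
    | empty => simp [isCompact_univ]
    | insert a s _ ih =>
      rw [Finset.set_biInter_insert]
      exact ⟨(hU a).inter_of_isOpen ih.1 (U a).2 ih.2, (U a).2.inter ih.2⟩
  have := (key Finset.univ).1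
  simpa using this

/-- A quasi-compact scheme with finitely many irreducible components has a finite cover by affine
opens each of which meets every irreducible component. -/
theorem exists_affine_cover (X : Scheme.{u}) [CompactSpace X]
    (hfin : (irreducibleComponents (X : Type u)).Finite) :
    ∃ (κ : Type u) (_ : Finite κ) (U : κ → X.Opens), (∀ a, IsAffineOpen (U a)) ∧
      (⨆ a, U a = ⊤) ∧ ∀ C ∈ irreducibleComponents X, ∀ a, ((U a : Set X) ∩ C).Nonempty := by
  classical
  haveI : Finite ↥(irreducibleComponents (X : Type u)) := hfin.to_subtype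
  -- the part of a component away from the other components
  let Co : ↥(irreducibleComponents (X : Type u)) → Set X := fun C =>
    (⋃ C' : {C' : ↥(irreducibleComponents (X : Type u)) // C' ≠ C}, (C'.1.1 : Set X))ᶜ
  have hCo_open : ∀ C, IsOpen (Co C) := fun C =>
    (isClosed_iUnion_of_finite
      (fun C' : {C' : ↥(irreducibleComponents (X : Type u)) // C' ≠ C} =>
        isClosed_of_mem_irreducibleComponents _ C'.1.2)).isOpen_compl
  have hCo_sub : ∀ C, Co C ⊆ C.1 := by
    intro C x hx
    by_contra hxC
    apply hx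
    have hne : (⟨irreducibleComponent x, irreducibleComponent_mem_irreducibleComponents x⟩ :
        ↥(irreducibleComponents (X : Type u))) ≠ C := by
      rintro rfl
      exact hxC mem_irreducibleComponent
    exact Set.mem_iUnion.mpr ⟨⟨_, hne⟩, mem_irreducibleComponent⟩
  have hCo_disj : ∀ C C' : ↥(irreducibleComponents (X : Type u)), C' ≠ C →
      Co C ∩ C'.1 = ∅ := by
    intro C C' hne
    rw [Set.eq_empty_iff_forall_notMem]
    rintro x ⟨hx, hxC'⟩
    exact hx (Set.mem_iUnion.mpr ⟨⟨C', hne⟩, hxC'⟩)
  have hCo_ne : ∀ C, (Co C).Nonempty := by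
    intro C
    by_contra hempty
    rw [Set.not_nonempty_iff_eq_empty] at hempty
    let t : Finset (Set X) := hfin.toFinset.erase C.1
    have h1 := (isIrreducible_iff_sUnion_isClosed.mp C.2.1) t ?_ ?_
    · obtain ⟨z, hz, hCz⟩ := h1
      rw [Finset.mem_erase, Set.Finite.mem_toFinset] at hz
      exact hz.1 (le_antisymm (C.2.2 hz.2.1 hCz) hCz)
    · intro z hz
      rw [Finset.mem_erase, Set.Finite.mem_toFinset] at hz
      exact isClosed_of_mem_irreducibleComponents _ hz.2
    · intro x hxC
      have hx : x ∉ Co C := by rw [hempty]; exact Set.notMem_empty x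
      simp only [Co, Set.mem_compl_iff, not_not, Set.mem_iUnion] at hx
      obtain ⟨C', hxC'⟩ := hx
      refine Set.mem_sUnion.mpr ⟨C'.1.1, ?_, hxC'⟩
      rw [Finset.mem_coe, Finset.mem_erase, Set.Finite.mem_toFinset]
      exact ⟨fun h => C'.2 (Subtype.ext h), C'.1.2⟩
  -- affine opens inside the `Co C`
  have hV : ∀ C, ∃ V : X.Opens, IsAffineOpen V ∧ (V : Set X).Nonempty ∧ (V : Set X) ⊆ Co C := by
    intro C
    obtain ⟨y, hy⟩ := hCo_ne C
    obtain ⟨_, ⟨V, hV, rfl⟩, hyV, hVsub⟩ :=
      X.isBasis_affineOpens.exists_subset_of_mem_open hy (hCo_open C)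
    exact ⟨V, hV, ⟨y, hyV⟩, hVsub⟩
  choose V hVaff hVne hVsub using hV
  have hW : ∀ x : X, ∃ W : X.Opens, IsAffineOpen W ∧ x ∈ W := by
    intro x
    obtain ⟨_, ⟨W, hW, rfl⟩, hxW, -⟩ :=
      X.isBasis_affineOpens.exists_subset_of_mem_open (Set.mem_univ x) isOpen_univ
    exact ⟨W, hW, hxW⟩
  choose W hWaff hxW using hW
  let g : X → Option ↥(irreducibleComponents (X : Type u)) → X.Opens := fun x o =>
    o.elim (W x) (fun C => if (W x : Set X) ∩ C.1 = ∅ then V C else ⊥)
  have hg_aff : ∀ x o, IsAffineOpen (g x o) := by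
    intro x o
    cases o with
    | none => exact hWaff x
    | some C =>
      change IsAffineOpen (if (W x : Set X) ∩ C.1 = ∅ then V C else ⊥)
      split_ifs
      · exact hVaff C
      · exact isAffineOpen_bot X
  have hWV : ∀ x C, Disjoint (W x) (if (W x : Set X) ∩ C.1 = ∅ then V C else ⊥) := by
    intro x C
    split_ifs with hWC
    · rw [← Opens.coe_disjoint, Set.disjoint_iff_inter_eq_empty]
      apply Set.eq_empty_of_subset_empty
      rw [← hWC]
      exact Set.inter_subset_inter_right _ ((hVsub C).trans (hCo_sub C))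
    · exact disjoint_bot_right
  have hg_disj : ∀ x, Pairwise (Function.onFun Disjoint (g x)) := by
    intro x o o' hne
    change Disjoint (g x o) (g x o')
    cases o with
    | none =>
      cases o' with
      | none => exact absurd rfl hne
      | some C => exact hWV x C
    | some C =>
      cases o' with
      | none => exact (hWV x C).symm
      | some C' =>
        have hCC' : C' ≠ C := fun h => hne (by rw [h])
        change Disjoint (if (W x : Set X) ∩ C.1 = ∅ then V C else ⊥)
          (if (W x : Set X) ∩ C'.1 = ∅ then V C' else ⊥)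
        split_ifs
        · rw [← Opens.coe_disjoint, Set.disjoint_iff_inter_eq_empty]
          apply Set.eq_empty_of_subset_empty
          rw [← hCo_disj C C' hCC']
          exact Set.inter_subset_inter (hVsub C) ((hVsub C').trans (hCo_sub C'))
        · exact disjoint_bot_right
        · exact disjoint_bot_left
        · exact disjoint_bot_left
  let Ux : X → X.Opens := fun x => ⨆ o, g x o
  have hUx_aff : ∀ x, IsAffineOpen (Ux x) := fun x =>
    IsAffineOpen.iSup_of_disjoint (hg_aff x) (hg_disj x)
  have hx_mem : ∀ x, x ∈ Ux x := fun x => Opens.mem_iSup.mpr ⟨none, hxW x⟩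
  have hUx_meet : ∀ x, ∀ C ∈ irreducibleComponents X, ((Ux x : Set X) ∩ C).Nonempty := by
    intro x C hC
    by_cases hWC : (W x : Set X) ∩ C = ∅
    · obtain ⟨y, hy⟩ := hVne ⟨C, hC⟩
      refine ⟨y, Opens.mem_iSup.mpr ⟨some ⟨C, hC⟩, ?_⟩, hCo_sub ⟨C, hC⟩ (hVsub ⟨C, hC⟩ hy)⟩
      change y ∈ (if (W x : Set X) ∩ C = ∅ then V ⟨C, hC⟩ else ⊥)
      rw [if_pos hWC]
      exact hy
    · obtain ⟨y, hyW, hyC⟩ := Set.nonempty_iff_ne_empty.mpr hWC
      exact ⟨y, Opens.mem_iSup.mpr ⟨none, hyW⟩, hyC⟩
  obtain ⟨t, ht⟩ := isCompact_univ.elim_finite_subcover (fun x => (Ux x : Set X))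
    (fun x => (Ux x).2) (fun y _ => Set.mem_iUnion.mpr ⟨y, hx_mem y⟩)
  refine ⟨{x // x ∈ t}, inferInstance, fun a => Ux a.1, fun a => hUx_aff a.1, ?_,
    fun C hC a => hUx_meet a.1 C hC⟩
  rw [eq_top_iff]
  intro y _
  obtain ⟨x, hx⟩ := Set.mem_iUnion.mp (ht (Set.mem_univ y))
  obtain ⟨hxt, hyx⟩ := Set.mem_iUnion.mp hx
  exact Opens.mem_iSup.mpr ⟨⟨x, hxt⟩, hyx⟩

end Groth.Agent.Lib.Helper3.ChowTop
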