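import Groth.Agent.Lib.Helper3.ChowProd
import Groth.Agent.Lib.Helper3.ChowTop

set_option autoImplicit false
universe u
open CategoryTheory CategoryTheory.Limits AlgebraicGeometry TopologicalSpace

namespace Groth.Agent.Lib.Helper3.ChowMain

open Groth.Agent.Lib.Helper3 ChowProd

/-- density of the range of a map through which a dominant map factors -/
theorem denseRange_of_factor {T Zc U V : Scheme.{u}} (e : T ⟶ Zc) [IsOpenImmersion e]
    (τ' : U ⟶ Zc) [IsDominant τ'] (k : V ⟶ T) (θ : U ⟶ V) (h : θ ≫ k ≫ e = τ') :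
    DenseRange k := by
  have hD : Dense (Set.range τ') := τ'.denseRange
  have h1 : Dense (e ⁻¹' Set.range τ') := hD.preimage e.isOpenEmbedding.isOpenMap
  refine Dense.mono ?_ h1
  rintro t ⟨x, hx⟩
  refine ⟨θ x, e.isOpenEmbedding.injective ?_⟩
  rw [← hx, ← h]
  simp only [Scheme.Hom.comp_apply]

theorem isIso_of_dense_of_proper {V T B : Scheme.{u}} (k : V ⟶ T) (g : T ⟶ B) [IsOpenImmersion k]
    [IsSeparated g] [IsProper (k ≫ g)] (hd : DenseRange k) : IsIso k := by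
  haveI : IsProper k := IsProper.of_comp k g
  apply isIso_of_isOpenImmersion_of_opensRange_eq_top
  have hcl : IsClosed (Set.range k) := k.isClosedMap.isClosed_range
  have : Set.range k = Set.univ := by rw [← hcl.closure_eq]; exact hd.closure_range
  exact TopologicalSpace.Opens.ext (by simpa using this)

theorem exists_glue {Zc X S U' : Scheme.{u}} (f : X ⟶ S) [IsSeparated f] (hZ : Zc ⟶ S)
    {κ : Type u} (V : κ → Zc.Opens) (ρ : ∀ a, (V a).toScheme ⟶ X)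
    (hρ : ∀ a, ρ a ≫ f = (V a).ι ≫ hZ)
    (τ' : U' ⟶ Zc) [IsSchemeTheoreticallyDominant τ'] [QuasiCompact τ']
    (θ : ∀ a, U' ⟶ (V a).toScheme) (hθ : ∀ a, θ a ≫ (V a).ι = τ')
    (u : U' ⟶ X) (hu : ∀ a, θ a ≫ ρ a = u) :
    ∃ π : (⨆ a, V a).toScheme ⟶ X, (∀ a, Zc.homOfLE (le_iSup V a) ≫ π = ρ a) ∧
      π ≫ f = (⨆ a, V a).ι ≫ hZ := by
  let 𝒱 := Scheme.Opens.iSupOpenCover V
  have hcompat : ∀ a b, pullback.fst (𝒱.f a) (𝒱.f b) ≫ ρ a =
      pullback.snd (𝒱.f a) (𝒱.f b) ≫ ρ b := by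
    intro a b
    change pullback.fst (Zc.homOfLE (le_iSup V a)) (Zc.homOfLE (le_iSup V b)) ≫ ρ a =
      pullback.snd (Zc.homOfLE (le_iSup V a)) (Zc.homOfLE (le_iSup V b)) ≫ ρ b
    have hθab : θ a ≫ Zc.homOfLE (le_iSup V a) = θ b ≫ Zc.homOfLE (le_iSup V b) := by
      rw [← cancel_mono (⨆ a, V a).ι, Category.assoc, Category.assoc, Scheme.homOfLE_ι,
        Scheme.homOfLE_ι, hθ, hθ]
    let ξ : U' ⟶ pullback (Zc.homOfLE (le_iSup V a)) (Zc.homOfLE (le_iSup V b)) :=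
      pullback.lift (θ a) (θ b) hθab
    let o : pullback (Zc.homOfLE (le_iSup V a)) (Zc.homOfLE (le_iSup V b)) ⟶ Zc :=
      pullback.fst _ _ ≫ (V a).ι
    haveI : IsOpenImmersion o := inferInstance
    have hξo : ξ ≫ o = τ' := by
      simp only [ξ, o]
      rw [pullback.lift_fst_assoc, hθ]
    haveI : IsSchemeTheoreticallyDominant (ξ ≫ o) := by rw [hξo]; infer_instance
    haveI : QuasiCompact (ξ ≫ o) := by rw [hξo]; infer_instance
    haveI : IsSchemeTheoreticallyDominant ξ := sd_of_comp_openImmersion ξ o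
    refine ext_of_sd ξ f _ _ ?_ ?_
    · rw [Category.assoc, Category.assoc, hρ, hρ]
      have h1 : (V a).ι = Zc.homOfLE (le_iSup V a) ≫ (⨆ a, V a).ι := (Scheme.homOfLE_ι _ _).symm
      have h2 : (V b).ι = Zc.homOfLE (le_iSup V b) ≫ (⨆ a, V a).ι := (Scheme.homOfLE_ι _ _).symm
      have h3 : pullback.fst (Zc.homOfLE (le_iSup V a)) (Zc.homOfLE (le_iSup V b)) ≫ (V a).ι =
          pullback.snd (Zc.homOfLE (le_iSup V a)) (Zc.homOfLE (le_iSup V b)) ≫ (V b).ι := by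
        rw [h1, h2, ← Category.assoc, ← Category.assoc, pullback.condition]
      rw [← Category.assoc, h3, Category.assoc]
    · simp only [ξ]
      rw [pullback.lift_fst_assoc, pullback.lift_snd_assoc, hu, hu]
  refine ⟨𝒱.glueMorphisms ρ hcompat, fun a => 𝒱.ι_glueMorphisms ρ hcompat a, ?_⟩
  refine 𝒱.hom_ext _ _ (fun (a : κ) => ?_)
  change Zc.homOfLE (le_iSup V a) ≫ (𝒱.glueMorphisms ρ hcompat) ≫ f =
    Zc.homOfLE (le_iSup V a) ≫ (⨆ a, V a).ι ≫ hZ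
  have h1 : Zc.homOfLE (le_iSup V a) ≫ 𝒱.glueMorphisms ρ hcompat = ρ a :=
    𝒱.ι_glueMorphisms ρ hcompat a
  rw [← Category.assoc, h1, hρ, Scheme.homOfLE_ι_assoc]

theorem exists_iso_lift {Zc Yc X V₀ U' : Scheme.{u}} (y : Yc ⟶ Zc) [IsOpenImmersion y]
    (π : Yc ⟶ X) [IsSeparated π] (A : X.Opens) (v : V₀ ⟶ Yc) [IsOpenImmersion v]
    (ρ' : V₀ ⟶ A.toScheme) [IsProper ρ'] (hvπ : v ≫ π = ρ' ≫ A.ι)
    (τ' : U' ⟶ Zc) [IsDominant τ'] (θ : U' ⟶ V₀) (hθ : θ ≫ v ≫ y = τ') :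
    ∃ k : V₀ ⟶ (π ⁻¹ᵁ A).toScheme, IsIso k ∧ k ≫ (π ∣_ A) = ρ' := by
  have hrange : Set.range v ⊆ Set.range (π ⁻¹ᵁ A).ι := by
    rw [Scheme.Opens.range_ι]
    rintro _ ⟨x, rfl⟩
    have e1 : π (v x) = A.ι (ρ' x) := by
      rw [← Scheme.Hom.comp_apply, ← Scheme.Hom.comp_apply, hvπ]
    change π (v x) ∈ A
    rw [e1]
    exact (ρ' x).2
  let k : V₀ ⟶ (π ⁻¹ᵁ A).toScheme := IsOpenImmersion.lift (π ⁻¹ᵁ A).ι v hrange
  have hk : k ≫ (π ⁻¹ᵁ A).ι = v := IsOpenImmersion.lift_fac _ _ _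
  have hkπ : k ≫ (π ∣_ A) = ρ' := by
    rw [← cancel_mono A.ι, Category.assoc, morphismRestrict_ι, ← Category.assoc, hk, hvπ]
  haveI : IsOpenImmersion (k ≫ (π ⁻¹ᵁ A).ι) := by rw [hk]; infer_instance
  haveI : IsOpenImmersion k := IsOpenImmersion.of_comp k (π ⁻¹ᵁ A).ι
  haveI : IsProper (k ≫ (π ∣_ A)) := by rw [hkπ]; infer_instance
  have hd : DenseRange k :=
    denseRange_of_factor ((π ⁻¹ᵁ A).ι ≫ y) τ' k θ (by rw [← Category.assoc k, hk, hθ])
  exact ⟨k, isIso_of_dense_of_proper k (π ∣_ A) hd, hkπ⟩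

/-- **Chow's lemma**, the main construction. -/
theorem chow_of_cover {X S : Scheme.{u}} (f : X ⟶ S) [IsSeparated f] [QuasiSeparatedSpace S]
    {κ : Type u} [Finite κ] [Nonempty κ] (Ua : κ → X.Opens) (hcov : ⨆ a, Ua a = ⊤)
    (U : X.Opens) (hU : ∀ a, U ≤ Ua a) [CompactSpace U] (hdense : Dense (U : Set X))
    (Z : κ → Scheme.{u}) (h : ∀ a, Z a ⟶ S) (hh : ∀ a, RelProj.IsHProjective (h a))
    (ι : ∀ a, (Ua a).toScheme ⟶ Z a) [∀ a, IsOpenImmersion (ι a)]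
    (hι : ∀ a, ι a ≫ h a = (Ua a).ι ≫ f) :
    ∃ (X' : Scheme.{u}) (π : X' ⟶ X) (W : Scheme.{u}) (hW : W ⟶ S) (j : X' ⟶ W),
      RelProj.IsHProjective hW ∧ IsImmersion j ∧ j ≫ hW = π ≫ f ∧ IsProper π ∧ Surjective π ∧
        IsIso (π ∣_ U) := by
  classical
  let a₀ : κ := Classical.arbitrary κ
  let t : ∀ a, U.toScheme ⟶ Z a := fun a => X.homOfLE (hU a) ≫ ι a
  have ht : ∀ a, t a ≫ h a = U.ι ≫ f := by
    intro a
    simp only [t, Category.assoc, hι]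
    rw [← Category.assoc, Scheme.homOfLE_ι]
  obtain ⟨W, hW, q₀, q, τ, hWproj, -, hq, -, hτ⟩ :=
    exists_product (U.ι ≫ f) (h a₀) (hh a₀) (t a₀) (ht a₀) κ Z h hh t ht
  haveI hWprop : IsProper hW := ((QProj.isHProjective_iff hW).mp hWproj).2
  haveI hprop : ∀ a, IsProper (h a) := fun a => ((QProj.isHProjective_iff (h a)).mp (hh a)).2
  haveI : IsImmersion τ := by
    haveI : IsImmersion (τ ≫ q a₀) := by rw [hτ]; infer_instance
    exact IsImmersion.of_comp τ (q a₀)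
  haveI : QuasiSeparatedSpace W := quasiSeparatedSpace_of_quasiSeparated hW
  haveI : QuasiCompact τ := inferInstance
  obtain ⟨Zc, c, τ', hτ'c, _, _, _, _, _⟩ : ∃ (Zc : Scheme.{u}) (c : Zc ⟶ W) (τ' : U.toScheme ⟶ Zc),
      τ' ≫ c = τ ∧ IsClosedImmersion c ∧ IsOpenImmersion τ' ∧ IsDominant τ' ∧ QuasiCompact τ' ∧
        IsSchemeTheoreticallyDominant τ' :=
    ⟨τ.image, τ.imageι, τ.toImage, τ.toImage_imageι, inferInstance, inferInstance, inferInstance,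
      inferInstance, inferInstance⟩
  let p : ∀ a, Zc ⟶ Z a := fun a => c ≫ q a
  have hp : ∀ a, p a ≫ h a = c ≫ hW := fun a => by simp only [p, Category.assoc, hq]
  haveI hpprop : ∀ a, IsProper (p a) := fun a => by
    haveI : IsProper (p a ≫ h a) := by rw [hp]; infer_instance
    exact IsProper.of_comp (p a) (h a)
  have hτ'p : ∀ a, τ' ≫ p a = t a := fun a => by
    simp only [p]
    rw [← Category.assoc, hτ'c, hτ]
  let O : ∀ a, (Z a).Opens := fun a => (ι a).opensRange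
  let V : ∀ a, Zc.Opens := fun a => (p a) ⁻¹ᵁ (O a)
  let ρ' : ∀ a, (V a).toScheme ⟶ (Ua a).toScheme :=
    fun a => (p a ∣_ O a) ≫ (ι a).isoOpensRange.inv
  haveI : ∀ a, IsProper (ρ' a) := fun a => inferInstance
  let ρ : ∀ a, (V a).toScheme ⟶ X := fun a => ρ' a ≫ (Ua a).ι
  have hρf : ∀ a, ρ a ≫ f = (V a).ι ≫ c ≫ hW := by
    intro a
    simp only [ρ, ρ', Category.assoc]
    rw [← hι, Scheme.Hom.isoOpensRange_inv_comp_assoc, morphismRestrict_ι_assoc, hp]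
  have hτ'V : ∀ a, Set.range τ' ⊆ Set.range (V a).ι := by
    intro a
    rw [Scheme.Opens.range_ι]
    rintro _ ⟨x, rfl⟩
    change p a (τ' x) ∈ Set.range (ι a)
    rw [← Scheme.Hom.comp_apply, hτ'p]
    exact ⟨X.homOfLE (hU a) x, (Scheme.Hom.comp_apply _ _ _).symm⟩
  let θ : ∀ a, U.toScheme ⟶ (V a).toScheme :=
    fun a => IsOpenImmersion.lift (V a).ι τ' (hτ'V a)
  have hθ : ∀ a, θ a ≫ (V a).ι = τ' := fun a => IsOpenImmersion.lift_fac _ _ _
  have hθρ' : ∀ a, θ a ≫ ρ' a = X.homOfLE (hU a) := by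
    intro a
    rw [← cancel_mono (ι a)]
    simp only [ρ', Category.assoc]
    rw [Scheme.Hom.isoOpensRange_inv_comp, morphismRestrict_ι, ← Category.assoc, hθ, hτ'p]
  have hθρ : ∀ a, θ a ≫ ρ a = U.ι := by
    intro a
    simp only [ρ]
    rw [← Category.assoc, hθρ', Scheme.homOfLE_ι]
  obtain ⟨π, hπ, hπf⟩ := exists_glue f (c ≫ hW) V ρ hρf τ' θ hθ U.ι hθρ
  haveI : IsSeparated π := by
    haveI : IsSeparated (π ≫ f) := by rw [hπf]; infer_instance
    exact IsSeparated.of_comp π f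
  have hloc : ∀ a, IsProper (π ∣_ Ua a) := by
    intro a
    obtain ⟨k, hk, hkπ⟩ := exists_iso_lift (⨆ a, V a).ι π (Ua a) (Zc.homOfLE (le_iSup V a))
      (ρ' a) (hπ a) τ' (θ a) (by rw [Scheme.homOfLE_ι, hθ])
    have e : π ∣_ Ua a = inv k ≫ ρ' a := by rw [IsIso.eq_inv_comp, hkπ]
    rw [e]
    infer_instance
  haveI : IsProper π := IsZariskiLocalAtTarget.of_iSup_eq_top (P := @IsProper) Ua hcov hloc
  let θY : U.toScheme ⟶ (⨆ a, V a).toScheme := θ a₀ ≫ Zc.homOfLE (le_iSup V a₀)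
  have hθY : θY ≫ (⨆ a, V a).ι = τ' := by
    simp only [θY, Category.assoc]
    rw [Scheme.homOfLE_ι, hθ]
  have hθYπ : θY ≫ π = U.ι := by
    simp only [θY, Category.assoc]
    rw [hπ, hθρ]
  haveI : IsOpenImmersion θY := by
    haveI : IsOpenImmersion (θY ≫ (⨆ a, V a).ι) := by rw [hθY]; infer_instance
    exact IsOpenImmersion.of_comp θY (⨆ a, V a).ι
  have hiso : IsIso (π ∣_ U) := by
    obtain ⟨k, hk, hkπ⟩ := exists_iso_lift (⨆ a, V a).ι π U θY (𝟙 _)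
      (by rw [hθYπ, Category.id_comp]) τ' (𝟙 _) (by rw [Category.id_comp, hθY])
    have e : π ∣_ U = inv k := IsIso.eq_inv_of_hom_inv_id hkπ
    rw [e]
    infer_instance
  have hsurj : Surjective π := by
    have hcl : IsClosed (Set.range π) := π.isClosedMap.isClosed_range
    have hsub : (U : Set X) ⊆ Set.range π := by
      intro x hx
      refine ⟨θY ⟨x, hx⟩, ?_⟩
      rw [← Scheme.Hom.comp_apply, hθYπ]
      rfl
    have hr : Set.range π = Set.univ := by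
      apply Set.eq_univ_of_univ_subset
      rw [← hdense.closure_eq]
      exact hcl.closure_subset_iff.mpr hsub
    exact ⟨Set.range_eq_univ.mp hr⟩
  exact ⟨(⨆ a, V a).toScheme, π, W, hW, (⨆ a, V a).ι ≫ c, hWproj, inferInstance,
    by rw [Category.assoc, hπf], inferInstance, hsurj, hiso⟩

end Groth.Agent.Lib.Helper3.ChowMain
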