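import Groth.Agent.Lib.Helper3.VAComp

set_option autoImplicit false
universe u
open CategoryTheory CategoryTheory.Limits AlgebraicGeometry

namespace Groth.Agent.Lib.Helper3.ChowProd

open Groth.Agent.Lib.Helper3 VAComp QProj

/-- A composition of H-projective morphisms is H-projective. -/
theorem isHProjective_comp {X Y Z : Scheme.{u}} (f : X ⟶ Y) (g : Y ⟶ Z)
    (hf : RelProj.IsHProjective f) (hg : RelProj.IsHProjective g) :
    RelProj.IsHProjective (f ≫ g) := by
  obtain ⟨hqf, hpf⟩ := (isHProjective_iff f).mp hf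
  obtain ⟨hqg, hpg⟩ := (isHProjective_iff g).mp hg
  obtain ⟨n, i₁, hi₁, hqc₁, h₁⟩ := hqf
  obtain ⟨m, i₂, hi₂, hqc₂, h₂⟩ := hqg
  let j₁ : X ⟶ Limits.pullback (CohB1.ProjSpace.toSpec n (ULift.{u} ℤ))
    (specULiftZIsTerminal.from Y) := i₁
  let j₂ : Y ⟶ Limits.pullback (CohB1.ProjSpace.toSpec m (ULift.{u} ℤ))
    (specULiftZIsTerminal.from Z) := i₂
  haveI : IsImmersion j₁ := hi₁
  haveI : IsImmersion j₂ := hi₂
  obtain ⟨φ, hφ, hφ2⟩ := exists_immersion_comp f g n m j₁ h₁ j₂ h₂
  haveI : IsImmersion φ := hφ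
  haveI : IsProper (f ≫ g) := inferInstance
  haveI : QuasiCompact (φ ≫ pullback.snd (CohB1.ProjSpace.toSpec (n * m + n + m) (ULift.{u} ℤ))
      (specULiftZIsTerminal.from Z)) := by rw [hφ2]; infer_instance
  have hqc : QuasiCompact φ := QuasiCompact.of_comp φ
    (pullback.snd (CohB1.ProjSpace.toSpec (n * m + n + m) (ULift.{u} ℤ))
      (specULiftZIsTerminal.from Z))
  exact (isHProjective_iff (f ≫ g)).mpr ⟨⟨n * m + n + m, φ, hφ, hqc, hφ2⟩, inferInstance⟩

/-- H-projective morphisms are stable under base change. -/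
theorem isHProjective_of_isPullback {P Z S S' : Scheme.{u}} {a : P ⟶ Z} {b : P ⟶ S'} {h : Z ⟶ S}
    {g : S' ⟶ S} (H : IsPullback a b h g) (hh : RelProj.IsHProjective h) :
    RelProj.IsHProjective b := by
  obtain ⟨n, i, hi, hcomp⟩ := hh
  let i₀ : Z ⟶ pullback (CohB1.ProjSpace.toSpec n (ULift.{u} ℤ)) (specULiftZIsTerminal.from S) := i
  have hi₀ : IsClosedImmersion i₀ := hi
  have hcomp' : i₀ ≫ pullback.snd _ _ = h := hcomp
  let β : pullback (CohB1.ProjSpace.toSpec n (ULift.{u} ℤ)) (specULiftZIsTerminal.from S') ⟶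
      pullback (CohB1.ProjSpace.toSpec n (ULift.{u} ℤ)) (specULiftZIsTerminal.from S) :=
    pullback.lift (pullback.fst _ _) (pullback.snd _ _ ≫ g)
      (by rw [pullback.condition, Category.assoc]; congr 1; exact specULiftZIsTerminal.hom_ext _ _)
  have hβ : IsPullback β (pullback.snd (CohB1.ProjSpace.toSpec n (ULift.{u} ℤ))
      (specULiftZIsTerminal.from S')) (pullback.snd (CohB1.ProjSpace.toSpec n (ULift.{u} ℤ))
      (specULiftZIsTerminal.from S)) g := by
    have hbig : IsPullback (β ≫ pullback.fst _ _)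
        (pullback.snd (CohB1.ProjSpace.toSpec n (ULift.{u} ℤ)) (specULiftZIsTerminal.from S'))
        (CohB1.ProjSpace.toSpec n (ULift.{u} ℤ)) (g ≫ specULiftZIsTerminal.from S) := by
      have e1 : β ≫ pullback.fst _ _ = pullback.fst _ _ := pullback.lift_fst _ _ _
      have e2 : g ≫ specULiftZIsTerminal.from S = specULiftZIsTerminal.from S' :=
        specULiftZIsTerminal.hom_ext _ _
      rw [e1, e2]
      exact IsPullback.of_hasPullback _ _
    exact IsPullback.of_right hbig (pullback.lift_snd _ _ _) (IsPullback.of_hasPullback _ _)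
  let i' : P ⟶ pullback (CohB1.ProjSpace.toSpec n (ULift.{u} ℤ)) (specULiftZIsTerminal.from S') :=
    hβ.lift (a ≫ i₀) b (by rw [Category.assoc, hcomp', H.w])
  have hsq : IsPullback i' a β i₀ :=
    IsPullback.of_right (by rw [hβ.lift_snd, hcomp']; exact H.flip) (hβ.lift_fst _ _ _) hβ.flip
  have hcl : IsClosedImmersion i' := MorphismProperty.of_isPullback hsq.flip hi₀
  exact ⟨n, i', hcl, hβ.lift_snd _ _ _⟩

theorem isHProjective_pullback_fst_comp {Z₁ Z₂ S : Scheme.{u}} (h₁ : Z₁ ⟶ S) (h₂ : Z₂ ⟶ S)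
    (hh₁ : RelProj.IsHProjective h₁) (hh₂ : RelProj.IsHProjective h₂) :
    RelProj.IsHProjective (pullback.fst h₁ h₂ ≫ h₁) :=
  isHProjective_comp _ _
    (isHProjective_of_isPullback (IsPullback.of_hasPullback h₁ h₂).flip hh₂) hh₁

/-- The morphism to the scheme theoretic image is scheme theoretically dominant. -/
theorem ker_toImage {X Y : Scheme.{u}} (g : X ⟶ Y) : g.toImage.ker = ⊥ := by
  set K := g.toImage.ker with hK
  have h1 : (K.subschemeι ≫ g.imageι).ker = g.imageι.ker := by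
    apply le_antisymm
    · have h2 : ((g.toImage).toImage ≫ (K.subschemeι ≫ g.imageι)) = g := by
        rw [← Category.assoc]
        show ((g.toImage).toImage ≫ (g.toImage).imageι) ≫ g.imageι = g
        rw [Scheme.Hom.toImage_imageι, Scheme.Hom.toImage_imageι]
      calc (K.subschemeι ≫ g.imageι).ker ≤ ((g.toImage).toImage ≫ (K.subschemeι ≫ g.imageι)).ker :=
            Scheme.Hom.le_ker_comp _ _
        _ = g.ker := by rw [h2]
        _ = g.imageι.ker := (Scheme.IdealSheafData.ker_subschemeι _).symm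
    · exact Scheme.Hom.le_ker_comp _ _
  have : IsIso K.subschemeι :=
    IsClosedImmersion.isIso_of_ker_eq (K.subschemeι ≫ g.imageι) g.imageι K.subschemeι rfl h1
  rw [← K.ker_subschemeι]
  exact Scheme.Hom.ker_eq_bot_of_isIso _

instance isSchemeTheoreticallyDominant_toImage {X Y : Scheme.{u}} (g : X ⟶ Y) :
    IsSchemeTheoreticallyDominant g.toImage := ⟨ker_toImage g⟩

/-- Two morphisms into a separated scheme which agree after composition with a scheme
theoretically dominant morphism are equal. -/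
theorem ext_of_sd {X Y Z S : Scheme.{u}} (f : X ⟶ Y) [IsSchemeTheoreticallyDominant f]
    (s : Z ⟶ S) [IsSeparated s] (u v : Y ⟶ Z) (hS : u ≫ s = v ≫ s) (h : f ≫ u = f ≫ v) :
    u = v := by
  let Y' : Over S := Over.mk (u ≫ s)
  let Z' : Over S := Over.mk s
  let u' : Y' ⟶ Z' := Over.homMk u rfl
  let v' : Y' ⟶ Z' := Over.homMk v hS.symm
  haveI : IsSeparated Z'.hom := ‹IsSeparated s›
  have hcl : IsClosedImmersion (equalizer.ι u' v').left := isClosedImmersion_equalizer_ι_left u' v'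
  let X' : Over S := Over.mk (f ≫ u ≫ s)
  let f' : X' ⟶ Y' := Over.homMk f rfl
  have hfe : f' ≫ u' = f' ≫ v' := by
    ext
    exact h
  let l : X' ⟶ equalizer u' v' := equalizer.lift f' hfe
  have hl : l.left ≫ (equalizer.ι u' v').left = f := by
    rw [← Over.comp_left, equalizer.lift_ι]
    rfl
  have hker : (equalizer.ι u' v').left.ker = ⊥ := by
    have h1 := Scheme.Hom.le_ker_comp l.left (equalizer.ι u' v').left
    rw [hl, IsSchemeTheoreticallyDominant.ker_eq_bot f] at h1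
    exact le_bot_iff.1 h1
  haveI : IsIso (equalizer.ι u' v').left := IsClosedImmersion.isIso_iff_ker_eq_bot.2 hker
  haveI : IsIso ((Over.forget S).map (equalizer.ι u' v')) := ‹IsIso (equalizer.ι u' v').left›
  haveI : IsIso (equalizer.ι u' v') := isIso_of_reflects_iso _ (Over.forget S)
  have := (cancel_epi (equalizer.ι u' v')).1 (equalizer.condition u' v')
  exact congrArg (fun φ : Y' ⟶ Z' => φ.left) this

theorem isPullback_of_mono {U P Z : Scheme.{u}} (ξ : U ⟶ P) (o : P ⟶ Z) [Mono o] :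
    IsPullback (𝟙 U) ξ (ξ ≫ o) o := by
  refine ⟨⟨by simp⟩, ⟨PullbackCone.IsLimit.mk _ (fun s => s.fst) (fun s => by simp)
    (fun s => ?_) (fun s m h1 _ => by simpa using h1)⟩⟩
  rw [← cancel_mono o, Category.assoc, s.condition]

/-- A morphism whose composition with an open immersion is quasi-compact and scheme theoretically
dominant is scheme theoretically dominant. -/
theorem sd_of_comp_openImmersion {U P Z : Scheme.{u}} (ξ : U ⟶ P) (o : P ⟶ Z) [IsOpenImmersion o]
    [IsSchemeTheoreticallyDominant (ξ ≫ o)] [QuasiCompact (ξ ≫ o)] :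
    IsSchemeTheoreticallyDominant ξ :=
  IsSchemeTheoreticallyDominant.of_isPullback (isPullback_of_mono ξ o)

/-- A finite product of H-projective schemes over `S` receiving a given family of morphisms. -/
theorem exists_product {S U : Scheme.{u}} (g : U ⟶ S) {Z₀ : Scheme.{u}} (h₀ : Z₀ ⟶ S)
    (hh₀ : RelProj.IsHProjective h₀) (t₀ : U ⟶ Z₀) (ht₀ : t₀ ≫ h₀ = g) (κ : Type u) [Finite κ] :
    ∀ (Z : κ → Scheme.{u}) (h : ∀ a, Z a ⟶ S) (_ : ∀ a, RelProj.IsHProjective (h a))
      (t : ∀ a, U ⟶ Z a) (_ : ∀ a, t a ≫ h a = g),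
    ∃ (W : Scheme.{u}) (hW : W ⟶ S) (q₀ : W ⟶ Z₀) (q : ∀ a, W ⟶ Z a) (τ : U ⟶ W),
      RelProj.IsHProjective hW ∧ q₀ ≫ h₀ = hW ∧ (∀ a, q a ≫ h a = hW) ∧ τ ≫ q₀ = t₀ ∧
        ∀ a, τ ≫ q a = t a := by
  refine Finite.induction_empty_option (P := fun κ => ∀ (Z : κ → Scheme.{u}) (h : ∀ a, Z a ⟶ S)
    (_ : ∀ a, RelProj.IsHProjective (h a)) (t : ∀ a, U ⟶ Z a) (_ : ∀ a, t a ≫ h a = g),
    ∃ (W : Scheme.{u}) (hW : W ⟶ S) (q₀ : W ⟶ Z₀) (q : ∀ a, W ⟶ Z a) (τ : U ⟶ W),
      RelProj.IsHProjective hW ∧ q₀ ≫ h₀ = hW ∧ (∀ a, q a ≫ h a = hW) ∧ τ ≫ q₀ = t₀ ∧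
        ∀ a, τ ≫ q a = t a) ?_ ?_ ?_ κ
  · intro α β e ih Z h hh t ht
    obtain ⟨W, hW, q₀, q, τ, h1, h2, h3, h4, h5⟩ := ih (fun a => Z (e a)) (fun a => h (e a))
      (fun a => hh (e a)) (fun a => t (e a)) (fun a => ht (e a))
    have key1 : ∀ (b b' : β) (hb : b' = b), eqToHom (congrArg Z hb) ≫ h b = h b' := by
      rintro b _ rfl; simp
    have key2 : ∀ (b b' : β) (hb : b' = b), t b' ≫ eqToHom (congrArg Z hb) = t b := by
      rintro b _ rfl; simp
    refine ⟨W, hW, q₀,
      fun b => q (e.symm b) ≫ eqToHom (congrArg Z (e.apply_symm_apply b)), τ, h1, h2, ?_, h4, ?_⟩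
    · intro b
      rw [Category.assoc, key1 _ _ (e.apply_symm_apply b), h3]
    · intro b
      rw [← Category.assoc, h5, key2 _ _ (e.apply_symm_apply b)]
  · intro Z h hh t ht
    exact ⟨Z₀, h₀, 𝟙 _, fun a => a.elim, t₀, hh₀, Category.id_comp _, fun a => a.elim,
      Category.comp_id _, fun a => a.elim⟩
  · intro α _ ih Z h hh t ht
    obtain ⟨W', hW', q₀', q', τ', h1, h2, h3, h4, h5⟩ := ih (fun a => Z (some a))
      (fun a => h (some a)) (fun a => hh (some a)) (fun a => t (some a)) (fun a => ht (some a))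
    have hτ' : τ' ≫ hW' = g := by rw [← h2, ← Category.assoc, h4, ht₀]
    refine ⟨pullback hW' (h none), pullback.fst _ _ ≫ hW', pullback.fst _ _ ≫ q₀',
      fun o => match o with
        | none => pullback.snd _ _
        | some a => pullback.fst _ _ ≫ q' a,
      pullback.lift τ' (t none) (by rw [hτ', ht]),
      isHProjective_pullback_fst_comp _ _ h1 (hh none), by rw [Category.assoc, h2], ?_,
      by rw [pullback.lift_fst_assoc, h4], ?_⟩
    · rintro (_ | a)
      · exact pullback.condition.symm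
      · change (pullback.fst _ _ ≫ q' a) ≫ h (some a) = _
        rw [Category.assoc, h3]
    · rintro (_ | a)
      · exact pullback.lift_snd _ _ _
      · change pullback.lift _ _ _ ≫ pullback.fst _ _ ≫ q' a = _
        rw [pullback.lift_fst_assoc, h5]

end Groth.Agent.Lib.Helper3.ChowProd
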