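import Groth.Agent.Lib.Helper3.Cocycle

/-!
# Isomorphism of two modules trivialised on the same cover with locally equal transition functions
-/

set_option autoImplicit false
set_option linter.unusedSectionVars false
universe u
open CategoryTheory CategoryTheory.Limits AlgebraicGeometry TopologicalSpace Opposite
open Scheme.Modules

namespace Groth.Agent.Lib.Helper3.CocycleLocal

open QCSec InvGen Cocycle

variable {X : Scheme.{u}} {ι : Type u} (U : ι → X.Opens) (hU : iSup U = ⊤)
  {L L' : X.Modules} (s : ∀ i, Γ(L, U i)) (s' : ∀ i, Γ(L', U i))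
  (hs : ∀ i, IsGen L (U i) (s i)) (hs' : ∀ i, IsGen L' (U i) (s' i))

include hU hs hs' in
/-- two modules with generators over the members of a cover, whose transition functions agree
locally, are isomorphic by an isomorphism matching the generators -/
theorem exists_iso_of_local
    (H : ∀ (i j : ι) (x : X), x ∈ U i → x ∈ U j →
      ∃ (T : X.Opens) (hTi : T ≤ U i) (hTj : T ≤ U j) (c : Γ(X, T)), x ∈ T ∧
        res L hTi (s i) = c • res L hTj (s j) ∧ res L' hTi (s' i) = c • res L' hTj (s' j)) :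
    ∃ φ : L ≅ L', ∀ (i : ι) (V : X.Opens) (h : V ≤ U i),
      φ.hom.app V (res L h (s i)) = res L' h (s' i) := by
  let η : ∀ i j, Γ(X, U i ⊓ U j) := fun i j =>
    coord (hs j _ inf_le_right) (res L inf_le_left (s i))
  let η' : ∀ i j, Γ(X, U i ⊓ U j) := fun i j =>
    coord (hs' j _ inf_le_right) (res L' inf_le_left (s' i))
  have hη : ∀ i j, res L (inf_le_left : U i ⊓ U j ≤ U i) (s i) =
      η i j • res L (inf_le_right : U i ⊓ U j ≤ U j) (s j) := fun i j =>
    (coord_smul (hs j _ inf_le_right) _).symm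
  have hη' : ∀ i j, res L' (inf_le_left : U i ⊓ U j ≤ U i) (s' i) =
      η' i j • res L' (inf_le_right : U i ⊓ U j ≤ U j) (s' j) := fun i j =>
    (coord_smul (hs' j _ inf_le_right) _).symm
  have hηη' : ∀ i j, η i j = η' i j := by
    intro i j
    have hx : ∀ x : (U i ⊓ U j : X.Opens), ∃ (T : X.Opens) (hT : T ≤ U i ⊓ U j), x.1 ∈ T ∧
        rres X hT (η i j) = rres X hT (η' i j) := by
      intro x
      obtain ⟨T, hTi, hTj, c, hxT, h1, h2⟩ := H i j x.1 x.2.1 x.2.2
      refine ⟨T, le_inf hTi hTj, hxT, ?_⟩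
      have e1 : rres X (le_inf hTi hTj) (η i j) = c := by
        apply (hs j T hTj).smul_inj
        rw [← h1]
        exact (trans_on U s η hη i j T hTi hTj).symm
      have e2 : rres X (le_inf hTi hTj) (η' i j) = c := by
        apply (hs' j T hTj).smul_inj
        rw [← h2]
        exact (trans_on U s' η' hη' i j T hTi hTj).symm
      rw [e1, e2]
    choose T hT hxT hTeq using hx
    exact fun_eq_of_locally_eq T (U i ⊓ U j) hT
      (fun x hx => Opens.mem_iSup.mpr ⟨⟨x, hx⟩, hxT ⟨x, hx⟩⟩) _ _ hTeq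
  have hu : ∀ i j, η' i j * rres X (inf_le_left : U i ⊓ U j ≤ U i) (1 : Γ(X, U i)) =
      rres X (inf_le_right : U i ⊓ U j ≤ U j) (1 : Γ(X, U j)) * η i j := by
    intro i j
    rw [rres_one, rres_one, mul_one, one_mul, hηη']
  have hu' : ∀ i j, η i j * rres X (inf_le_left : U i ⊓ U j ≤ U i) (1 : Γ(X, U i)) =
      rres X (inf_le_right : U i ⊓ U j ≤ U j) (1 : Γ(X, U j)) * η' i j := by
    intro i j
    rw [rres_one, rres_one, mul_one, one_mul, hηη']
  obtain ⟨φ, hφ⟩ := exists_hom U hU s s' hs η η' hη hη' (fun i => (1 : Γ(X, U i))) hu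
  obtain ⟨φ', hφ'⟩ := exists_hom U hU s' s hs' η' η hη' hη (fun i => (1 : Γ(X, U i))) hu'
  have hφ1 : ∀ (i : ι) (V : X.Opens) (h : V ≤ U i),
      φ.app V (res L h (s i)) = res L' h (s' i) := by
    intro i V h
    have := hφ i V h
    beta_reduce at this
    rwa [rres_one, one_smul] at this
  have hφ1' : ∀ (i : ι) (V : X.Opens) (h : V ≤ U i),
      φ'.app V (res L' h (s' i)) = res L h (s i) := by
    intro i V h
    have := hφ' i V h
    beta_reduce at this
    rwa [rres_one, one_smul] at this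
  have hcov : ∀ (W : X.Opens) (x : X), x ∈ W →
      ∃ V : X.Opens, (∃ i, V ≤ U i) ∧ x ∈ V ∧ V ≤ W := by
    intro W x hxW
    have hx : x ∈ (⨆ i, U i : X.Opens) := by rw [hU]; trivial
    obtain ⟨i, hi⟩ := Opens.mem_iSup.mp hx
    exact ⟨W ⊓ U i, ⟨i, inf_le_right⟩, ⟨hxW, hi⟩, inf_le_left⟩
  refine ⟨⟨φ, φ', ?_, ?_⟩, hφ1⟩
  · apply ModGlue.hom_ext_of_small (fun V => ∃ i, V ≤ U i) hcov
    rintro V ⟨i, h⟩ t
    obtain ⟨c, rfl⟩ := (hs i V h).2 t
    dsimp only
    change φ'.app V (φ.app V (c • res L h (s i))) = c • res L h (s i)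
    rw [Scheme.Modules.Hom.app_smul, hφ1 i V h, Scheme.Modules.Hom.app_smul, hφ1' i V h]
  · apply ModGlue.hom_ext_of_small (fun V => ∃ i, V ≤ U i) hcov
    rintro V ⟨i, h⟩ t
    obtain ⟨c, rfl⟩ := (hs' i V h).2 t
    dsimp only
    change φ.app V (φ'.app V (c • res L' h (s' i))) = c • res L' h (s' i)
    rw [Scheme.Modules.Hom.app_smul, hφ1' i V h, Scheme.Modules.Hom.app_smul, hφ1 i V h]

end Groth.Agent.Lib.Helper3.CocycleLocal
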