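import Groth.Agent.Lib.Helper3.GrModQC
import Groth.Agent.Lib.Helper3.InvGen
import Groth.Agent.Lib.Helper3.QCPush
import Groth.Agent.Lib.Helper3.ProjQMap
import Groth.Prelude.Def_RelProj2

/-!
# Local generators of the twisting sheaves `O(n)` (general gradings) and of relative twists
-/

set_option autoImplicit false
universe u
open CategoryTheory CategoryTheory.Limits AlgebraicGeometry TopologicalSpace Opposite
open Scheme.Modules
open scoped HomogeneousIdeal

namespace Groth.Agent.Lib.Helper3.GrTwistGen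

open QCSec InvGen GrModQC

section ring

variable {A σ : Type u} [CommRing A] [SetLike σ A] [AddSubgroupClass σ A] {𝒜 : ℕ → σ} [GradedRing 𝒜]

/-- A fraction `a / b` with `a` and `b` both vanishing nowhere on `U` generates the sections
of `O(n)` over `U`. -/
theorem isGenAt_frac (U : (Proj 𝒜).Opens) {i j : ℕ} (a : 𝒜 i) (b : 𝒜 j)
    (ha : ∀ x : U, a.1 ∉ x.1.asHomogeneousIdeal)
    (hb : ∀ x : U, b.1 ∉ x.1.asHomogeneousIdeal) (n : ℤ) (hn : (i : ℤ) = j + n) :
    IsGenAt (GrTwist.twist 𝒜 n) U (frac U a b hb n hn) := by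
  constructor
  · intro c c' hcc
    apply fval_ext
    intro x
    have h1 : val (c • frac U a b hb n hn) x = val (c' • frac U a b hb n hn) x :=
      congrArg (fun t => val t x) hcc
    rw [val_smul, val_smul, val_frac] at h1
    have hu := mk_mul_mk_swap (x := x.1) a.1 b.1 (ha x) (hb x)
    calc fval c x = fval c x * Localization.mk a.1 ⟨b.1, hb x⟩ *
          Localization.mk b.1 ⟨a.1, ha x⟩ := by rw [mul_assoc, hu, mul_one]
      _ = fval c' x * Localization.mk a.1 ⟨b.1, hb x⟩ *
          Localization.mk b.1 ⟨a.1, ha x⟩ := by rw [h1]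
      _ = fval c' x := by rw [mul_assoc, hu, mul_one]
  · intro t
    have hw : IsLocFrac 0 (fun x : U => val t x * Localization.mk b.1 ⟨a.1, ha x⟩) :=
      ((isLocFrac_val t).mul (isLocFrac_frac b a ha (-n) (by omega))).cast (by omega)
    refine ⟨mkFun U _ hw, ?_⟩
    apply val_ext
    intro x
    change val (mkFun U _ hw • frac U a b hb n hn) x = _
    rw [val_smul, fval_mkFun, val_frac, mul_assoc, mul_comm (Localization.mk b.1 _),
      mk_mul_mk_swap (x := x.1) a.1 b.1 (ha x) (hb x), mul_one]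

theorem isGen_frac (U : (Proj 𝒜).Opens) {i j : ℕ} (a : 𝒜 i) (b : 𝒜 j)
    (ha : ∀ x : U, a.1 ∉ x.1.asHomogeneousIdeal)
    (hb : ∀ x : U, b.1 ∉ x.1.asHomogeneousIdeal) (n : ℤ) (hn : (i : ℤ) = j + n) :
    IsGen (GrTwist.twist 𝒜 n) U (frac U a b hb n hn) := by
  intro V hV
  rw [res_frac]
  exact isGenAt_frac V a b (fun x => ha ⟨x.1, hV x.2⟩) _ n hn

/-- over `D₊(f)`, `f` of degree `d`, the sheaf `O(k d)` is generated by `f ^ k`, for any integer
`k` -/
theorem exists_isGen_basicOpen {d : ℕ} {f : A} (hf : f ∈ 𝒜 d) (k m : ℤ) (hm : m = k * d) :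
    ∃ t : Γ(GrTwist.twist 𝒜 m, Proj.basicOpen 𝒜 f),
      IsGen (GrTwist.twist 𝒜 m) (Proj.basicOpen 𝒜 f) t := by
  subst hm
  have hmem : ∀ m : ℕ, f ^ m ∈ 𝒜 (m * d) := fun m => by
    have := SetLike.pow_mem_graded m hf
    rwa [smul_eq_mul] at this
  have hnot : ∀ (m : ℕ) (x : Proj.basicOpen 𝒜 f), f ^ m ∉ x.1.asHomogeneousIdeal := by
    intro m x hx
    exact x.2 (x.1.isPrime.mem_of_pow_mem m hx)
  refine ⟨frac (Proj.basicOpen 𝒜 f) ⟨f ^ k.toNat, hmem _⟩ ⟨f ^ (-k).toNat, hmem _⟩
    (hnot _) (k * d) ?_, isGen_frac _ _ _ (hnot _) (hnot _) _ _⟩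
  push_cast
  rcases le_total 0 k with h | h
  · rw [Int.toNat_of_nonneg h, Int.toNat_eq_zero.mpr (by omega)]
    simp
  · rw [Int.toNat_eq_zero.mpr h, Int.toNat_of_nonneg (by omega)]
    ring

/-- if the ring is generated by its parts of degree `0` and `1`, the irrelevant ideal is
generated by the part of degree `1` -/
theorem irrelevant_le_span_one
    (hgen : Subring.closure ((𝒜 0 : Set A) ∪ (𝒜 1 : Set A)) = ⊤) :
    (HomogeneousIdeal.irrelevant 𝒜).toIdeal ≤ Ideal.span (𝒜 1 : Set A) := by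
  intro x hx
  have hx0 : GradedRing.projZeroRingHom 𝒜 x = 0 := by
    rw [GradedRing.projZeroRingHom_apply, ← GradedRing.proj_apply]
    exact (HomogeneousIdeal.mem_irrelevant_iff _ _).mp hx
  have key : ∀ y : A, y - GradedRing.projZeroRingHom 𝒜 y ∈ Ideal.span (𝒜 1 : Set A) := by
    intro y
    have hy : y ∈ Subring.closure ((𝒜 0 : Set A) ∪ (𝒜 1 : Set A)) := by rw [hgen]; trivial
    induction hy using Subring.closure_induction with
    | mem y hy =>
      rcases hy with hy | hy
      · have : GradedRing.projZeroRingHom 𝒜 y = y := by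
          rw [GradedRing.projZeroRingHom_apply]
          exact DirectSum.decompose_of_mem_same 𝒜 hy
        rw [this, sub_self]
        exact zero_mem _
      · have : GradedRing.projZeroRingHom 𝒜 y = 0 := by
          rw [GradedRing.projZeroRingHom_apply,
            DirectSum.decompose_of_mem_ne 𝒜 hy one_ne_zero]
        rw [this, sub_zero]
        exact Ideal.subset_span hy
    | zero => rw [map_zero, sub_zero]; exact zero_mem _
    | one => rw [map_one, sub_self]; exact zero_mem _
    | add y z _ _ hy hz =>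
      rw [map_add]
      have e : y + z - (GradedRing.projZeroRingHom 𝒜 y + GradedRing.projZeroRingHom 𝒜 z) =
        (y - GradedRing.projZeroRingHom 𝒜 y) + (z - GradedRing.projZeroRingHom 𝒜 z) := by ring
      rw [e]
      exact add_mem hy hz
    | neg y _ hy =>
      rw [map_neg]
      have e : -y - -GradedRing.projZeroRingHom 𝒜 y = -(y - GradedRing.projZeroRingHom 𝒜 y) := by
        ring
      rw [e]
      exact neg_mem hy
    | mul y z _ _ hy hz =>
      rw [map_mul]
      have e : y * z - GradedRing.projZeroRingHom 𝒜 y * GradedRing.projZeroRingHom 𝒜 z =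
        (y - GradedRing.projZeroRingHom 𝒜 y) * z +
          GradedRing.projZeroRingHom 𝒜 y * (z - GradedRing.projZeroRingHom 𝒜 z) := by ring
      rw [e]
      exact add_mem (Ideal.mul_mem_right _ _ hy) (Ideal.mul_mem_left _ _ hz)
  have := key x
  rwa [hx0, sub_zero] at this

/-- if the ring is generated by its parts of degree `0` and `1`, the `D₊(f)`, `f` of degree one,
cover `Proj` -/
theorem exists_deg_one_notMem
    (hgen : Subring.closure ((𝒜 0 : Set A) ∪ (𝒜 1 : Set A)) = ⊤) (y : ProjectiveSpectrum 𝒜) :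
    ∃ f ∈ 𝒜 1, f ∉ y.asHomogeneousIdeal := by
  by_contra hcon
  simp only [not_exists, not_and, not_not] at hcon
  apply y.not_irrelevant_le
  intro x hx
  have h1 : Ideal.span (𝒜 1 : Set A) ≤ y.asHomogeneousIdeal.toIdeal :=
    Ideal.span_le.mpr fun f hf => hcon f hf
  exact h1 (irrelevant_le_span_one hgen hx)

/-- if the ring is generated by its parts of degree `0` and `1`, every `O(n)` is locally generated
by one section -/
theorem exists_isGen_twist
    (hgen : Subring.closure ((𝒜 0 : Set A) ∪ (𝒜 1 : Set A)) = ⊤) (n : ℤ) (y : Proj 𝒜) :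
    ∃ (V : (Proj 𝒜).Opens) (t : Γ(GrTwist.twist 𝒜 n, V)), y ∈ V ∧
      IsGen (GrTwist.twist 𝒜 n) V t := by
  obtain ⟨f, hf, hfy⟩ := exists_deg_one_notMem hgen y
  obtain ⟨t, ht⟩ := exists_isGen_basicOpen hf n n (by simp)
  exact ⟨Proj.basicOpen 𝒜 f, t, hfy, ht⟩

end ring

section transfer

variable {P Q : Scheme.{u}} (e : Q ⟶ P) [IsOpenImmersion e] (T : Q.Modules) {L : P.Modules}
  (l : L ⟶ (Scheme.Modules.pushforward e).obj T)

/-- generators transfer to a module identified with a direct image along an open immersion -/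
theorem isGen_of_pushforward (V : P.Opens) (hV : V ≤ e.opensRange)
    (b : ∀ W : P.Opens, W ≤ V → Function.Bijective (l.app W)) (s : Γ(L, V))
    (hs : IsGen T (e ⁻¹ᵁ V) (l.app V s)) : IsGen L V s := by
  intro W hW
  have hpre : e ⁻¹ᵁ W ≤ e ⁻¹ᵁ V := e.preimage_mono hW
  have hiso : IsIso (e.app W) := Scheme.Hom.isIso_app e W (hW.trans hV)
  have hbij : Function.Bijective (e.app W) :=
    (ConcreteCategory.isIso_iff_bijective (e.app W)).mp hiso
  have h1 : Function.Bijective (fun c : Γ(Q, e ⁻¹ᵁ W) => c • res T hpre (l.app V s)) := hs _ hpre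
  have h2 : (l.app W) ∘ (fun a : Γ(P, W) => a • res L hW s) =
      (fun c : Γ(Q, e ⁻¹ᵁ W) => c • res T hpre (l.app V s)) ∘ (e.app W) := by
    funext a
    change l.app W (a • res L hW s) = e.app W a • res T hpre (l.app V s)
    rw [Scheme.Modules.Hom.app_smul, QCExact.app_res']
    rfl
  unfold IsGenAt
  rw [← Function.Bijective.of_comp_iff' (b W hW), h2]
  exact h1.comp hbij

end transfer

section rel

variable {Y P : Scheme.{u}} (𝒮 : RelProj.QCGrAlg Y) (p : P ⟶ Y)
  (chart : ∀ (U : Y.Opens) (hU : IsAffineOpen U),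
    ((p ⁻¹ᵁ U : P.Opens) : Scheme.{u}) ≅ Proj (𝒮.deg U hU))

/-- the twisting sheaves of a relative Proj of an algebra generated in degree one are invertible -/
theorem isInvertible_of_isRelTwist (hgen : 𝒮.IsGenDegOne) (n : ℤ) (L : P.Modules)
    (lam : ∀ (U : Y.Opens) (hU : IsAffineOpen U),
      L ⟶ (Scheme.Modules.pushforward (RelProj.emb p chart U hU)).obj
        (GrTwist.twist (𝒮.deg U hU) n))
    (hb : ∀ (U : Y.Opens) (hU : IsAffineOpen U) (W : P.Opens), W ≤ p ⁻¹ᵁ U →
      Function.Bijective ((lam U hU).app W)) : PicF.IsInvertible L := by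
  apply isInvertible_of_isGen
  intro x
  obtain ⟨U, hU, hxU⟩ := ProjQMap.exists_affine_mem (p x)
  obtain ⟨y, rfl⟩ := ProjQMap.exists_emb_eq p chart U hU x hxU
  obtain ⟨V', t, hyV', ht⟩ := exists_isGen_twist (hgen U hU) n y
  have hpre : RelProj.emb p chart U hU ⁻¹ᵁ (RelProj.emb p chart U hU ''ᵁ V') = V' :=
    (RelProj.emb p chart U hU).preimage_image_eq V'
  have hle : RelProj.emb p chart U hU ''ᵁ V' ≤ (RelProj.emb p chart U hU).opensRange :=
    (RelProj.emb p chart U hU).image_le_opensRange V'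
  have hle' : RelProj.emb p chart U hU ''ᵁ V' ≤ p ⁻¹ᵁ U := by
    rwa [ProjQMap.opensRange_emb] at hle
  obtain ⟨s, hs⟩ := (hb U hU _ hle').2
    (res (GrTwist.twist (𝒮.deg U hU) n) (le_of_eq hpre) t)
  refine ⟨RelProj.emb p chart U hU ''ᵁ V', s, ⟨y, hyV', rfl⟩, ?_⟩
  apply isGen_of_pushforward (RelProj.emb p chart U hU) _ (lam U hU) _ hle
    (fun W hW => hb U hU W (hW.trans hle'))
  rw [hs]
  exact ht.mono _

end rel

end Groth.Agent.Lib.Helper3.GrTwistGen
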