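import Groth.Agent.Lib.Helper3.ProjCone2
import Groth.Agent.Lib.Helper3.AwayDeg1S
import Groth.Agent.Lib.Helper3.GrTwistGen
import Groth.Agent.Lib.Helper6.FibreChart
import Groth.Agent.Lib.Helper6.PConeAway

/-!
# Fibres of the retraction of the pointed projective cone and of the pointed affine cone
(general base)
-/

set_option autoImplicit false
universe u
open CategoryTheory CategoryTheory.Limits AlgebraicGeometry TopologicalSpace Opposite
open scoped HomogeneousIdeal

namespace Groth.Agent.Lib.Helper3.ConeFibre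

open HomogeneousLocalization ProjQMap ProjQMapOn ProjQGlue ProjCone ProjCone2
open Groth.Agent.Lib.Helper6.PointedProjCone Groth.Agent.Lib.Helper13

section algebra

variable {B τ : Type u} [CommRing B] [SetLike τ B] [AddSubgroupClass τ B] (ℬ : ℕ → τ)
  [GradedRing ℬ] {R : Type u} [CommRing R] (θ : B →+* R)

/-- the homomorphism `B_(h) → R` induced by `θ : B → R` making `h` invertible -/
noncomputable def awayTo (h : B) (hu : IsUnit (θ h)) : Away ℬ h →+* R :=
  (IsLocalization.Away.lift (S := Localization.Away h) h hu).comp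
    (algebraMap (Away ℬ h) (Localization.Away h))

theorem awayTo_mk_mul {d : ℕ} {h : B} (hh : h ∈ ℬ d) (hu : IsUnit (θ h)) (n : ℕ) (b : B)
    (hb : b ∈ ℬ (n • d)) :
    awayTo ℬ θ h hu (Away.mk ℬ hh n b hb) * θ h ^ n = θ b := by
  have h1 : (Away.mk ℬ hh n b hb).val * algebraMap B (Localization.Away h) (h ^ n) =
      algebraMap B _ b := by
    rw [Away.val_mk, Localization.mk_eq_mk']
    exact IsLocalization.mk'_spec _ b _
  have h2 := congrArg (IsLocalization.Away.lift (S := Localization.Away h) h hu) h1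
  rw [map_mul, IsLocalization.Away.lift_eq, IsLocalization.Away.lift_eq, map_pow] at h2
  exact h2

theorem awayTo_awayMap {e : ℕ} {h g x : B} (hg : g ∈ ℬ e) (hx : x = h * g)
    (hux : IsUnit (θ x)) (huh : IsUnit (θ h)) :
    (awayTo ℬ θ x hux).comp (awayMap ℬ hg hx) = awayTo ℬ θ h huh := by
  have key : ∀ hv, (IsLocalization.Away.lift (S := Localization.Away x) x hux).comp
      (Localization.awayLift (algebraMap B (Localization.Away x)) h hv) =
      IsLocalization.Away.lift (S := Localization.Away h) h huh := by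
    intro hv
    refine IsLocalization.ringHom_ext (Submonoid.powers h) ?_
    refine RingHom.ext fun b => ?_
    rw [RingHom.comp_apply, RingHom.comp_apply, RingHom.comp_apply, Localization.awayLift,
      IsLocalization.Away.lift_eq, IsLocalization.Away.lift_eq, IsLocalization.Away.lift_eq]
  refine RingHom.ext fun a => ?_
  change IsLocalization.Away.lift (S := Localization.Away x) x hux ((awayMap ℬ hg hx a).val) =
    IsLocalization.Away.lift (S := Localization.Away h) h huh a.val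
  rw [val_awayMap]
  exact RingHom.congr_fun (key _) a.val

variable {A σ : Type u} [CommRing A] [SetLike σ A] [AddSubgroupClass σ A] (𝒜 : ℕ → σ)
  [GradedRing 𝒜]

theorem awayTo_comp_map (ψ : 𝒜 →+*ᵍ ℬ) (ε : B →+* A) (hε : ∀ a, ε (ψ a) = a) {d : ℕ} {f : A}
    (hf : f ∈ 𝒜 d)
    (hu : IsUnit (((algebraMap A (Localization.Away f)).comp ε) (ψ f))) :
    (awayTo ℬ ((algebraMap A (Localization.Away f)).comp ε) (ψ f) hu).comp (Away.map ψ f) =
      algebraMap (Away 𝒜 f) (Localization.Away f) := by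
  refine RingHom.ext fun c => ?_
  obtain ⟨n, a, ha, rfl⟩ := Away.mk_surjective 𝒜 hf c
  have hfu : IsUnit (algebraMap A (Localization.Away f) f) :=
    IsLocalization.Away.algebraMap_isUnit f
  have hψf : ψ f ∈ ℬ d := ψ.2 hf
  have hψa : ψ a ∈ ℬ (n • d) := ψ.2 ha
  have h1 : awayTo ℬ ((algebraMap A (Localization.Away f)).comp ε) (ψ f) hu
      (Away.mk ℬ hψf n (ψ a) hψa) * (algebraMap A (Localization.Away f) (ε (ψ f))) ^ n =
      algebraMap A (Localization.Away f) (ε (ψ a)) :=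
    awayTo_mk_mul ℬ ((algebraMap A (Localization.Away f)).comp ε) hψf hu n (ψ a) hψa
  rw [hε, hε] at h1
  have h2 : (algebraMap (Away 𝒜 f) (Localization.Away f) (Away.mk 𝒜 hf n a ha)) *
      algebraMap A (Localization.Away f) f ^ n = algebraMap A _ a := by
    rw [HomogeneousLocalization.algebraMap_apply, Away.val_mk, Localization.mk_eq_mk', ← map_pow]
    exact IsLocalization.mk'_spec _ a _
  rw [RingHom.comp_apply, Away.map_mk]
  apply (hfu.pow n).mul_left_inj.1
  rw [h2]
  exact h1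

theorem awayι_deg_congr {m m' : ℕ} (h : m = m') {x : B} (hx : x ∈ ℬ m) (hx' : x ∈ ℬ m')
    (hm : 0 < m) (hm' : 0 < m') : Proj.awayι ℬ x hx hm = Proj.awayι ℬ x hx' hm' := by
  subst h
  rfl

theorem mem_opensRange_specMap_away_iff {R : CommRingCat.{u}} (f : R) (Pp : Spec R) :
    Pp ∈ (Spec.map (CommRingCat.ofHom (algebraMap R (Localization.Away f)))).opensRange ↔
      f ∉ Pp.asIdeal := by
  have := PrimeSpectrum.localization_away_comap_range (Localization.Away f) f
  change Pp ∈ Set.range (PrimeSpectrum.comap (algebraMap _ (Localization.Away f))) ↔ _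
  rw [this]
  rfl

end algebra

section geometry

variable {Y PC P : Scheme.{u}} {𝒮 𝒮h : RelProj.QCGrAlg Y}
  {ι : 𝒮.toQCAlg ⟶ 𝒮h.toQCAlg} {z : 𝒮h.presheaf.obj (op ⊤)} (hz : RelCone.IsPolyOver 𝒮 𝒮h ι z)
  {pC : PC ⟶ Y}
  {chartC : ∀ (U : Y.Opens) (hU : IsAffineOpen U),
    (((pC ⁻¹ᵁ U : PC.Opens) : Scheme.{u}) ≅ Proj (𝒮h.deg U hU))}
  {p : P ⟶ Y}
  {chart : ∀ (U : Y.Opens) (hU : IsAffineOpen U),
    (((p ⁻¹ᵁ U : P.Opens) : Scheme.{u}) ≅ Proj (𝒮.deg U hU))}
  {T E : Scheme.{u}} (j : T ⟶ PC) [IsOpenImmersion j] (r : T ⟶ P)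
  (hall : AllIn ι hz.graded pC chartC j)
  (heq : EqsOn ι hz.graded p pC chart chartC j r)
  {i : 𝒮.toQCAlg.spec ⟶ PC} (hi : RelCone.IsConeImm 𝒮 hz pC chartC i)
  (e : E ⟶ 𝒮.toQCAlg.spec) (i' : E ⟶ T) (hi' : i' ≫ j = e ≫ i)

/-- "set `z = 1`" followed by the localization at `f` -/
noncomputable abbrev θf (U : Y.Opens) (hU : IsAffineOpen U) (f : 𝒮.presheaf.obj (op U)) :
    𝒮h.presheaf.obj (op U) →+* Localization.Away f :=
  (algebraMap (𝒮.presheaf.obj (op U)) (Localization.Away f)).comp (hz.evalOne U hU)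

theorem evalOne_ψ (U : Y.Opens) (hU : IsAffineOpen U) (a : 𝒮.presheaf.obj (op U)) :
    hz.evalOne U hU (ψU ι hz.graded U hU a) = a := by
  rw [ψU_apply]
  exact hz.evalOne_ι U hU a

theorem isUnit_θf_ψ (U : Y.Opens) (hU : IsAffineOpen U) (f : 𝒮.presheaf.obj (op U)) :
    IsUnit (θf hz U hU f (ψU ι hz.graded U hU f)) := by
  change IsUnit (algebraMap _ (Localization.Away f) (hz.evalOne U hU (ψU ι hz.graded U hU f)))
  rw [evalOne_ψ]
  exact IsLocalization.Away.algebraMap_isUnit f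

theorem isUnit_θf_z (U : Y.Opens) (hU : IsAffineOpen U) (f : 𝒮.presheaf.obj (op U)) :
    IsUnit (θf hz U hU f (RelCone.restrictTop 𝒮h z U)) := by
  change IsUnit (algebraMap _ (Localization.Away f) (hz.evalOne U hU (RelCone.restrictTop 𝒮h z U)))
  rw [hz.evalOne_z, map_one]
  exact isUnit_one

theorem comp_awayZToBase (U : Y.Opens) (hU : IsAffineOpen U) (f : 𝒮.presheaf.obj (op U))
    (huz : IsUnit (θf hz U hU f (RelCone.restrictTop 𝒮h z U))) :
    (algebraMap (𝒮.presheaf.obj (op U)) (Localization.Away f)).comp (hz.awayZToBase U hU) =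
      awayTo (𝒮h.deg U hU) (θf hz U hU f) (RelCone.restrictTop 𝒮h z U) huz := by
  have key : ∀ hv, (algebraMap (𝒮.presheaf.obj (op U)) (Localization.Away f)).comp
      (IsLocalization.Away.lift (S := Localization.Away (RelCone.restrictTop 𝒮h z U))
        (RelCone.restrictTop 𝒮h z U) (g := hz.evalOne U hU) hv) =
      IsLocalization.Away.lift (S := Localization.Away (RelCone.restrictTop 𝒮h z U))
        (RelCone.restrictTop 𝒮h z U) huz := by
    intro hv
    refine IsLocalization.ringHom_ext (Submonoid.powers (RelCone.restrictTop 𝒮h z U)) ?_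
    refine RingHom.ext fun b => ?_
    rw [RingHom.comp_apply, RingHom.comp_apply, RingHom.comp_apply,
      IsLocalization.Away.lift_eq, IsLocalization.Away.lift_eq]
    rfl
  rw [RelCone.IsPolyOver.awayZToBase, ← RingHom.comp_assoc, key]
  rfl

theorem specMap_awayTo_awayι (U : Y.Opens) (hU : IsAffineOpen U) {d : ℕ} (hd : 0 < d)
    (f : 𝒮.presheaf.obj (op U)) (hf : f ∈ 𝒮.deg U hU d)
    (hu : IsUnit (θf hz U hU f (ψU ι hz.graded U hU f))) :
    Spec.map (CommRingCat.ofHom
        (awayTo (𝒮h.deg U hU) (θf hz U hU f) (ψU ι hz.graded U hU f) hu)) ≫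
      Proj.awayι (𝒮h.deg U hU) (ψU ι hz.graded U hU f) ((ψU ι hz.graded U hU).2 hf) hd =
    Spec.map (CommRingCat.ofHom
        (algebraMap (𝒮.presheaf.obj (op U)) (Localization.Away f))) ≫
      Spec.map (CommRingCat.ofHom (hz.awayZToBase U hU)) ≫
      Proj.awayι (𝒮h.deg U hU) (RelCone.restrictTop 𝒮h z U) (hz.deg_z U hU) one_pos := by
  have hzU := hz.deg_z U hU
  have hψf : ψU ι hz.graded U hU f ∈ 𝒮h.deg U hU d := (ψU ι hz.graded U hU).2 hf
  have hx1 : RelCone.restrictTop 𝒮h z U * ψU ι hz.graded U hU f =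
      RelCone.restrictTop 𝒮h z U * ψU ι hz.graded U hU f := rfl
  have hx2 : RelCone.restrictTop 𝒮h z U * ψU ι hz.graded U hU f =
      ψU ι hz.graded U hU f * RelCone.restrictTop 𝒮h z U := mul_comm _ _
  have huz := isUnit_θf_z hz U hU f
  have hux : IsUnit (θf hz U hU f
      (RelCone.restrictTop 𝒮h z U * ψU ι hz.graded U hU f)) := by
    rw [map_mul]
    exact huz.mul hu
  have e1 := Proj.SpecMap_awayMap_awayι (𝒜 := 𝒮h.deg U hU) (f_deg := hzU) (hm := one_pos)
    (g_deg := hψf) (hx := hx1)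
  have e2 := Proj.SpecMap_awayMap_awayι (𝒜 := 𝒮h.deg U hU) (f_deg := hψf) (hm := hd)
    (g_deg := hzU) (hx := hx2)
  have c1 := awayTo_awayMap (𝒮h.deg U hU) (θf hz U hU f) hψf hx1 hux huz
  have c2 := awayTo_awayMap (𝒮h.deg U hU) (θf hz U hU f) hzU hx2 hux hu
  have c3 := comp_awayZToBase hz U hU f huz
  rw [← c2, CommRingCat.ofHom_comp, Spec.map_comp, Category.assoc, e2,
    ← Spec.map_comp_assoc, ← CommRingCat.ofHom_comp, c3, ← c1, CommRingCat.ofHom_comp,
    Spec.map_comp, Category.assoc, e1]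
  congr 1

include hi hi' in
theorem chartE_comp_i' (U : Y.Opens) (hU : IsAffineOpen U) {d : ℕ} (hd : 0 < d)
    (f : 𝒮.presheaf.obj (op U)) (hf : f ∈ 𝒮.deg U hU d)
    (jE : Spec (.of (Localization.Away f)) ⟶ E)
    (hjE : jE ≫ e = Spec.map (CommRingCat.ofHom
      (algebraMap (𝒮.presheaf.obj (op U)) (Localization.Away f))) ≫ 𝒮.toQCAlg.ι U hU)
    (hu : IsUnit (θf hz U hU f (ψU ι hz.graded U hU f))) :
    jE ≫ i' = Spec.map (CommRingCat.ofHom
        (awayTo (𝒮h.deg U hU) (θf hz U hU f) (ψU ι hz.graded U hU f) hu)) ≫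
      lft ι hz.graded j hall U hU hd f hf := by
  rw [← cancel_mono j, Category.assoc, hi', ← Category.assoc, hjE, Category.assoc, hi U hU,
    Category.assoc, lft_fac]
  have h := congrArg (· ≫ RelProj.emb pC chartC U hU) (specMap_awayTo_awayι hz U hU hd f hf hu)
  simp only [Category.assoc] at h
  exact h.symm

include hi hi' hall heq in
theorem chartE_comp (U : Y.Opens) (hU : IsAffineOpen U) {d : ℕ} (hd : 0 < d)
    (f : 𝒮.presheaf.obj (op U)) (hf : f ∈ 𝒮.deg U hU d)
    (jE : Spec (.of (Localization.Away f)) ⟶ E)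
    (hjE : jE ≫ e = Spec.map (CommRingCat.ofHom
      (algebraMap (𝒮.presheaf.obj (op U)) (Localization.Away f))) ≫ 𝒮.toQCAlg.ι U hU) :
    jE ≫ i' ≫ r = Spec.map (CommRingCat.ofHom
        (algebraMap (Away (𝒮.deg U hU) f) (Localization.Away f))) ≫
      Proj.awayι (𝒮.deg U hU) f hf hd ≫ RelProj.emb p chart U hU := by
  have hu := isUnit_θf_ψ hz U hU f
  rw [← Category.assoc, chartE_comp_i' hz j hall hi e i' hi' U hU hd f hf jE hjE hu,
    Category.assoc, heq U hU d hd f hf _ (lft_fac ι hz.graded j hall U hU hd f hf)]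
  have c := awayTo_comp_map (𝒮h.deg U hU) (𝒮.deg U hU) (ψU ι hz.graded U hU) (hz.evalOne U hU)
    (evalOne_ψ hz U hU) hf hu
  rw [← c, CommRingCat.ofHom_comp, Spec.map_comp, Category.assoc]

include hall heq in
theorem isPullback_lft (hP : RelProj.IsRelProj 𝒮 p chart)
    (hPC : RelProj.IsRelProj 𝒮h pC chartC) (hcov : CovOn ι hz.graded pC chartC j)
    (U : Y.Opens) (hU : IsAffineOpen U) {d : ℕ} (hd : 0 < d)
    (f : 𝒮.presheaf.obj (op U)) (hf : f ∈ 𝒮.deg U hU d) :
    IsPullback (lft ι hz.graded j hall U hU hd f hf)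
      (Spec.map (CommRingCat.ofHom (Away.map (ψU ι hz.graded U hU) f))) r
      (Proj.awayι (𝒮.deg U hU) f hf hd ≫ RelProj.emb p chart U hU) := by
  refine (IsOpenImmersion.isPullback _ _ _ _
    (heq U hU d hd f hf _ (lft_fac ι hz.graded j hall U hU hd f hf)) ?_).flip
  exact preimage_range_on ι hz.graded j r hP hPC hall hcov heq U hU d hd f hf

include hi hi' hall heq in
theorem isPullback_chartE (hP : RelProj.IsRelProj 𝒮 p chart)
    (hPC : RelProj.IsRelProj 𝒮h pC chartC) (hcov : CovOn ι hz.graded pC chartC j)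
    [IsOpenImmersion e]
    (he : Set.range e = (RelCone.pointedCone 𝒮 : Set 𝒮.toQCAlg.spec))
    (U : Y.Opens) (hU : IsAffineOpen U) {d : ℕ} (hd : 0 < d)
    (f : 𝒮.presheaf.obj (op U)) (hf : f ∈ 𝒮.deg U hU d)
    (jE : Spec (.of (Localization.Away f)) ⟶ E)
    (hjE : jE ≫ e = Spec.map (CommRingCat.ofHom
      (algebraMap (𝒮.presheaf.obj (op U)) (Localization.Away f))) ≫ 𝒮.toQCAlg.ι U hU) :
    IsPullback jE
      (Spec.map (CommRingCat.ofHom (algebraMap (Away (𝒮.deg U hU) f) (Localization.Away f))))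
      (i' ≫ r) (Proj.awayι (𝒮.deg U hU) f hf hd ≫ RelProj.emb p chart U hU) := by
  haveI : IsOpenImmersion jE := by
    have : IsOpenImmersion (jE ≫ e) := by
      rw [hjE]
      infer_instance
    exact IsOpenImmersion.of_comp jE e
  refine (IsOpenImmersion.isPullback _ _ _ _
    (chartE_comp hz j r hall heq hi e i' hi' U hU hd f hf jE hjE) ?_).flip
  have h1 : (i' ≫ r) ⁻¹ᵁ (Proj.awayι (𝒮.deg U hU) f hf hd ≫
      RelProj.emb p chart U hU).opensRange =
      i' ⁻¹ᵁ (r ⁻¹ᵁ (Proj.awayι (𝒮.deg U hU) f hf hd ≫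
        RelProj.emb p chart U hU).opensRange) := rfl
  rw [h1, preimage_range_on ι hz.graded j r hP hPC hall hcov heq U hU d hd f hf]
  apply e.image_injective
  change e ''ᵁ (i' ⁻¹ᵁ (lft ι hz.graded j hall U hU hd f hf).opensRange) = e ''ᵁ jE.opensRange
  rw [image_preimage_eq hz j hall hi e i' hi' hPC he U hU hd f hf,
    ← Scheme.Hom.opensRange_comp, ← Scheme.Hom.opensRange_comp]
  congr 1
  exact hjE.symm

include hall heq in
theorem retraction_fibre (hP : RelProj.IsRelProj 𝒮 p chart)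
    (hPC : RelProj.IsRelProj 𝒮h pC chartC) (hcov : CovOn ι hz.graded pC chartC j)
    (hgen : 𝒮.IsGenDegOne) :
    LocallyOfFiniteType r ∧ QuasiCompact r ∧
      ∀ x : ↥P, ∃ e : pullback r (P.fromSpecResidueField x) ≅
          Spec (CommRingCat.of (Polynomial (P.residueField x))),
        e.hom ≫ Spec.map (CommRingCat.ofHom
          (algebraMap (P.residueField x) (Polynomial (P.residueField x)))) =
          pullback.snd r (P.fromSpecResidueField x) := by
  have hchart : ∀ y : P, ∃ (U : Y.Opens) (hU : IsAffineOpen U) (f : 𝒮.presheaf.obj (op U))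
      (hf : f ∈ 𝒮.deg U hU 1),
      y ∈ (Proj.awayι (𝒮.deg U hU) f hf one_pos ≫ RelProj.emb p chart U hU).opensRange := by
    intro y
    obtain ⟨U, hU, hyU⟩ := exists_affine_mem (p y)
    obtain ⟨y', rfl⟩ := exists_emb_eq p chart U hU y hyU
    obtain ⟨f, hf, hfy⟩ := GrTwistGen.exists_deg_one_notMem (hgen U hU) y'
    obtain ⟨w, rfl⟩ := exists_awayι_eq one_pos hf y' hfy
    exact ⟨U, hU, f, hf, w, Scheme.Hom.comp_apply _ _ _⟩
  have halg : ∀ (U : Y.Opens) (hU : IsAffineOpen U) (f : 𝒮.presheaf.obj (op U))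
      (hf : f ∈ 𝒮.deg U hU 1),
      ∃ α : AddMonoidAlgebra (Away (𝒮.deg U hU) f) ℕ ≃+*
          Away (𝒮h.deg U hU) (ψU ι hz.graded U hU f),
        ∀ c, α (AddMonoidAlgebra.single 0 c) = Away.map (ψU ι hz.graded U hU) f c :=
    fun U hU f hf => AwayDeg1S.exists_polynomial_equiv (𝒮.deg U hU) (𝒮h.deg U hU)
      (ψU ι hz.graded U hU) (ι.hom.app (op U)).hom (ψU_apply ι hz.graded U hU)
      (RelCone.restrictTop 𝒮h z U) (hz.deg_z U hU) (hz.bij U hU) hf
  refine ⟨?_, ?_, ?_⟩
  · refine Groth.Agent.Lib.Helper6.FibreChart.of_forall_exists_isPullback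
      @LocallyOfFiniteType r fun y => ?_
    obtain ⟨U, hU, f, hf, hy⟩ := hchart y
    obtain ⟨α, hα⟩ := halg U hU f hf
    refine ⟨_, _, Proj.awayι (𝒮.deg U hU) f hf one_pos ≫ RelProj.emb p chart U hU,
      inferInstance, lft ι hz.graded j hall U hU one_pos f hf, _, hy,
      isPullback_lft hz j r hall heq hP hPC hcov U hU one_pos f hf, ?_⟩
    rw [HasRingHomProperty.Spec_iff (P := @LocallyOfFiniteType)]
    exact Groth.Agent.Lib.Helper6.FibreChart.finiteType_of_addMonoidAlgebra _ ℕ α hα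
  · haveI := isAffineHom_on ι hz.graded j r hP hPC hall hcov heq
    infer_instance
  · intro x
    obtain ⟨U, hU, f, hf, hx⟩ := hchart x
    obtain ⟨α, hα⟩ := halg U hU f hf
    exact Groth.Agent.Lib.Helper6.PConeAway.exists_iso_polynomial _
      (Groth.Agent.Lib.Helper6.FibreChart.exists_fibre_iso r x _
        (Proj.awayι (𝒮.deg U hU) f hf one_pos ≫ RelProj.emb p chart U hU)
        (lft ι hz.graded j hall U hU one_pos f hf)
        (isPullback_lft hz j r hall heq hP hPC hcov U hU one_pos f hf) hx ℕ α hα)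

include hi hi' hall heq in
theorem cone_fibre (hP : RelProj.IsRelProj 𝒮 p chart)
    (hPC : RelProj.IsRelProj 𝒮h pC chartC) (hcov : CovOn ι hz.graded pC chartC j)
    [IsOpenImmersion e]
    (he : Set.range e = (RelCone.pointedCone 𝒮 : Set 𝒮.toQCAlg.spec))
    (hgen : 𝒮.IsGenDegOne) :
    LocallyOfFiniteType (i' ≫ r) ∧ QuasiCompact (i' ≫ r) ∧
      ∀ x : ↥P, ∃ e' : pullback (i' ≫ r) (P.fromSpecResidueField x) ≅
          Spec (CommRingCat.of (LaurentPolynomial (P.residueField x))),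
        e'.hom ≫ Spec.map (CommRingCat.ofHom
          (algebraMap (P.residueField x) (LaurentPolynomial (P.residueField x)))) =
          pullback.snd (i' ≫ r) (P.fromSpecResidueField x) := by
  have hchart : ∀ y : P, ∃ (U : Y.Opens) (hU : IsAffineOpen U) (f : 𝒮.presheaf.obj (op U))
      (hf : f ∈ 𝒮.deg U hU 1),
      y ∈ (Proj.awayι (𝒮.deg U hU) f hf one_pos ≫ RelProj.emb p chart U hU).opensRange := by
    intro y
    obtain ⟨U, hU, hyU⟩ := exists_affine_mem (p y)
    obtain ⟨y', rfl⟩ := exists_emb_eq p chart U hU y hyU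
    obtain ⟨f, hf, hfy⟩ := GrTwistGen.exists_deg_one_notMem (hgen U hU) y'
    obtain ⟨w, rfl⟩ := exists_awayι_eq one_pos hf y' hfy
    exact ⟨U, hU, f, hf, w, Scheme.Hom.comp_apply _ _ _⟩
  have hjE : ∀ (U : Y.Opens) (hU : IsAffineOpen U) (f : 𝒮.presheaf.obj (op U))
      (_ : f ∈ 𝒮.deg U hU 1), ∃ jE : Spec (.of (Localization.Away f)) ⟶ E,
        jE ≫ e = Spec.map (CommRingCat.ofHom
          (algebraMap (𝒮.presheaf.obj (op U)) (Localization.Away f))) ≫ 𝒮.toQCAlg.ι U hU := by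
    intro U hU f hf
    refine ⟨IsOpenImmersion.lift e _ ?_, IsOpenImmersion.lift_fac _ _ _⟩
    rw [he]
    rintro _ ⟨w, rfl⟩
    rw [Scheme.Hom.comp_apply]
    refine (ι_mem_pointedCone_iff 𝒮 U hU _).2 ?_
    intro hmem
    have hfw : f ∉ (Spec.map (CommRingCat.ofHom
        (algebraMap (𝒮.presheaf.obj (op U)) (Localization.Away f))) w).asIdeal :=
      (mem_opensRange_specMap_away_iff f _).1 ⟨w, rfl⟩
    exact hfw ((PrimeSpectrum.mem_zeroLocus _ _).1 hmem
      (HomogeneousIdeal.mem_irrelevant_of_mem _ one_pos hf))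
  refine ⟨?_, ?_, ?_⟩
  · refine Groth.Agent.Lib.Helper6.FibreChart.of_forall_exists_isPullback
      @LocallyOfFiniteType (i' ≫ r) fun y => ?_
    obtain ⟨U, hU, f, hf, hy⟩ := hchart y
    obtain ⟨α, hα⟩ := AwayDeg1S.exists_laurent_equiv (𝒮.deg U hU) hf
    obtain ⟨jE, hjE'⟩ := hjE U hU f hf
    refine ⟨_, _, Proj.awayι (𝒮.deg U hU) f hf one_pos ≫ RelProj.emb p chart U hU,
      inferInstance, jE, _, hy,
      isPullback_chartE hz j r hall heq hi e i' hi' hP hPC hcov he U hU one_pos f hf jE hjE',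
      ?_⟩
    rw [HasRingHomProperty.Spec_iff (P := @LocallyOfFiniteType)]
    exact Groth.Agent.Lib.Helper6.FibreChart.finiteType_of_addMonoidAlgebra _ ℤ α hα
  · haveI := isAffineHom_comp hz j r hall heq hi e i' hi' hP hPC hcov he
    infer_instance
  · intro x
    obtain ⟨U, hU, f, hf, hx⟩ := hchart x
    obtain ⟨α, hα⟩ := AwayDeg1S.exists_laurent_equiv (𝒮.deg U hU) hf
    obtain ⟨jE, hjE'⟩ := hjE U hU f hf
    exact Groth.Agent.Lib.Helper6.FibreChart.exists_fibre_iso (i' ≫ r) x _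
      (Proj.awayι (𝒮.deg U hU) f hf one_pos ≫ RelProj.emb p chart U hU) jE
      (isPullback_chartE hz j r hall heq hi e i' hi' hP hPC hcov he U hU one_pos f hf jE hjE')
      hx ℤ α hα

end geometry

end Groth.Agent.Lib.Helper3.ConeFibre
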