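import Groth.Agent.Lib.Helper3.ConeRange

/-!
# The canonical immersion of the affine cone into the projective cone: existence and properties
-/

set_option autoImplicit false
universe u
open CategoryTheory CategoryTheory.Limits AlgebraicGeometry TopologicalSpace Opposite
open scoped HomogeneousIdeal

namespace Groth.Agent.Lib.Helper3.ConeImm

open HomogeneousLocalization ProjQMap ProjQMapOn ProjQGlue ProjCone ProjCone2 ProjPoly ConeRange
open Groth.Agent.Lib.Helper6.PointedProjCone Groth.Agent.Lib.Helper6.PolyConeAlg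
open Groth.Agent.Lib.Helper13

variable {Y PC : Scheme.{u}} {𝒮 Sh : RelProj.QCGrAlg Y}
  {ι : 𝒮.toQCAlg ⟶ Sh.toQCAlg} {z : Sh.presheaf.obj (op ⊤)} (hz : RelCone.IsPolyOver 𝒮 Sh ι z)

section algebra

theorem theta_sigma_homog (U : Y.Opens) (hU : IsAffineOpen U)
    (θ : HomogeneousLocalization.Away (Sh.deg U hU) (RelCone.restrictTop Sh z U) →+*
      𝒮.presheaf.obj (op U))
    (hθ : ∀ (q : HomogeneousLocalization.Away (Sh.deg U hU) (RelCone.restrictTop Sh z U)) (k : ℕ)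
      (x : 𝒮.presheaf.obj (op U)), x ∈ 𝒮.deg U hU k →
      q.val = Localization.mk ((ι.hom.app (op U)).hom x)
        ⟨RelCone.restrictTop Sh z U ^ k,
          pow_mem (Submonoid.mem_powers (RelCone.restrictTop Sh z U)) k⟩ → θ q = x)
    (k : ℕ) (xk : 𝒮.presheaf.obj (op U)) (hxk : xk ∈ 𝒮.deg U hU k) :
    θ ((RingEquiv.ofBijective (hz.awayZToBase U hU) (awayZ_bijective hz U hU)).symm xk) = xk := by
  have hb : (ι.hom.app (op U)).hom xk ∈ Sh.deg U hU (k • 1) := by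
    rw [smul_eq_mul, mul_one]; exact hz.graded U hU k xk hxk
  have h1 : (RingEquiv.ofBijective (hz.awayZToBase U hU) (awayZ_bijective hz U hU)).symm xk =
      Away.mk (Sh.deg U hU) (hz.deg_z U hU) k _ hb := by
    rw [RingEquiv.symm_apply_eq]
    change xk = hz.awayZToBase U hU _
    rw [awayZ_mk hz U hU k _ hb, hz.evalOne_ι]
  rw [h1]
  exact hθ _ k xk hxk (Away.val_mk _ _ _ _ _)

theorem theta_eq (U : Y.Opens) (hU : IsAffineOpen U)
    (θ : HomogeneousLocalization.Away (Sh.deg U hU) (RelCone.restrictTop Sh z U) →+*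
      𝒮.presheaf.obj (op U))
    (hθ : ∀ (q : HomogeneousLocalization.Away (Sh.deg U hU) (RelCone.restrictTop Sh z U)) (k : ℕ)
      (x : 𝒮.presheaf.obj (op U)), x ∈ 𝒮.deg U hU k →
      q.val = Localization.mk ((ι.hom.app (op U)).hom x)
        ⟨RelCone.restrictTop Sh z U ^ k,
          pow_mem (Submonoid.mem_powers (RelCone.restrictTop Sh z U)) k⟩ → θ q = x) :
    θ = hz.awayZToBase U hU := by
  classical
  have hσ : ∀ x : 𝒮.presheaf.obj (op U),
      θ ((RingEquiv.ofBijective (hz.awayZToBase U hU) (awayZ_bijective hz U hU)).symm x) = x := by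
    intro x
    rw [← DirectSum.sum_support_decompose (𝒮.deg U hU) x, map_sum, map_sum]
    refine Finset.sum_congr rfl (fun k _ => ?_)
    exact theta_sigma_homog hz U hU θ hθ k _ (SetLike.coe_mem _)
  ext q
  have h1 := hσ (hz.awayZToBase U hU q)
  have h2 : (RingEquiv.ofBijective (hz.awayZToBase U hU) (awayZ_bijective hz U hU)).symm
      (hz.awayZToBase U hU q) = q :=
    (RingEquiv.ofBijective (hz.awayZToBase U hU) (awayZ_bijective hz U hU)).symm_apply_apply q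
  rw [h2] at h1
  exact h1

theorem evalOne_res {U W : Y.Opens} (hU : IsAffineOpen U) (hW : IsAffineOpen W) (i : W ≤ U)
    (b : Sh.presheaf.obj (op U)) :
    hz.evalOne W hW ((Sh.presheaf.map (homOfLE i).op).hom b) =
      (𝒮.presheaf.map (homOfLE i).op).hom (hz.evalOne U hU b) := by
  obtain ⟨Q, rfl⟩ := (hz.polyEquiv U hU).surjective b
  have e1 : ((Sh.presheaf.map (homOfLE i).op).hom).comp (ι.hom.app (op U)).hom =
      ((ι.hom.app (op W)).hom).comp (𝒮.presheaf.map (homOfLE i).op).hom :=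
    RingHom.ext fun x => (congrArg (fun φ => φ.hom x) (ι.hom.naturality (homOfLE i).op)).symm
  have h1 : (Sh.presheaf.map (homOfLE i).op).hom (hz.polyEquiv U hU Q) =
      hz.polyEquiv W hW (Q.map (𝒮.presheaf.map (homOfLE i).op).hom) := by
    rw [hz.polyEquiv_apply, hz.polyEquiv_apply, Polynomial.hom_eval₂, Polynomial.eval₂_map, e1,
      res_zU Sh z i]
  rw [h1]
  unfold RelCone.IsPolyOver.evalOne
  simp only [RingHom.comp_apply, RingEquiv.toRingHom_eq_coe, RingHom.coe_coe,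
    RingEquiv.symm_apply_apply, Polynomial.coe_evalRingHom, Polynomial.eval_one_map]

theorem awayZ_res {U W : Y.Opens} (hU : IsAffineOpen U) (hW : IsAffineOpen W) (i : W ≤ U) :
    CommRingCat.ofHom (hz.awayZToBase U hU) ≫ 𝒮.presheaf.map (homOfLE i).op =
      CommRingCat.ofHom (mapTo (Sh.res hU hW i) (zU Sh z U) (zU Sh z W)
        (res_zU' Sh z hU hW i)) ≫ CommRingCat.ofHom (hz.awayZToBase W hW) := by
  ext q
  obtain ⟨n, b, hb, rfl⟩ := Away.mk_surjective (Sh.deg U hU) (hz.deg_z U hU) q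
  change (𝒮.presheaf.map (homOfLE i).op).hom (hz.awayZToBase U hU (Away.mk _ _ n b hb)) =
    hz.awayZToBase W hW (mapTo (Sh.res hU hW i) (zU Sh z U) (zU Sh z W)
      (res_zU' Sh z hU hW i) (Away.mk _ _ n b hb))
  rw [awayZ_mk hz U hU n b hb]
  rw [hz.awayZToBase_of_val W hW _ ((Sh.presheaf.map (homOfLE i).op).hom b) n
    (val_mapTo_mk (Sh.res hU hW i) (zU Sh z U) (zU Sh z W) (res_zU' Sh z hU hW i)
      (hz.deg_z U hU) n b hb)]
  exact (evalOne_res hz hU hW i b).symm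

end algebra

section geometry

variable (pC : PC ⟶ Y)
  (chartC : ∀ (U : Y.Opens) (hU : IsAffineOpen U),
    (((pC ⁻¹ᵁ U : PC.Opens) : Scheme.{u}) ≅ Proj (Sh.deg U hU)))

/-- the prescribed morphism on the chart of the affine cone over `U` -/
noncomputable abbrev gU (U : Y.Opens) (hU : IsAffineOpen U) :
    Spec (𝒮.presheaf.obj (op U)) ⟶ PC :=
  Spec.map (CommRingCat.ofHom (hz.awayZToBase U hU)) ≫
    Proj.awayι (Sh.deg U hU) (RelCone.restrictTop Sh z U) (hz.deg_z U hU) one_pos ≫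
      RelProj.emb pC chartC U hU

variable {pC chartC}

theorem gU_res (hPC : RelProj.IsRelProj Sh pC chartC) (U : Y.Opens) (hU : IsAffineOpen U)
    (r : Γ(Y, U)) (W : Y.Opens) (hW : IsAffineOpen W) (e : W = Y.basicOpen r) :
    Spec.map (𝒮.presheaf.map (homOfLE (e.le.trans (Y.basicOpen_le r))).op) ≫
      gU hz pC chartC U hU = gU hz pC chartC W hW := by
  subst e
  change _ ≫ Spec.map (CommRingCat.ofHom (hz.awayZToBase U hU)) ≫ _ ≫ _ =
    Spec.map (CommRingCat.ofHom (hz.awayZToBase _ hW)) ≫ _ ≫ _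
  rw [← emb_res hPC U hU r,
    reassoc_of% (awayι_mapTo (Sh.res hU hW (Y.basicOpen_le r)) (Sh.irrelevant_le_map U hU r)
      one_pos (zU Sh z U) (hz.deg_z U hU) (zU Sh z (Y.basicOpen r)) (res_zU' Sh z hU hW _)
      (hz.deg_z _ hW)),
    ← Spec.map_comp_assoc, ← Spec.map_comp_assoc, awayZ_res hz hU hW (Y.basicOpen_le r)]

theorem exists_i (hPC : RelProj.IsRelProj Sh pC chartC) :
    ∃ i : 𝒮.toQCAlg.spec ⟶ PC, RelCone.IsConeImm 𝒮 hz pC chartC i := by
  obtain ⟨i, hi⟩ := exists_glue_of_refine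
    (fun U : Y.affineOpens => Spec (𝒮.presheaf.obj (op U.1)))
    (fun U => 𝒮.toQCAlg.ι U.1 U.2) (exists_mem_range_ι 𝒮.toQCAlg)
    (fun U => gU hz pC chartC U.1 U.2) (by
      intro U V w w' hww
      have h1 := ProjPoly.π_ι_mem 𝒮.toQCAlg U.1 U.2 w
      have h2 : 𝒮.toQCAlg.π (𝒮.toQCAlg.ι U.1 U.2 w) ∈ V.1 := by
        rw [hww]; exact ProjPoly.π_ι_mem 𝒮.toQCAlg V.1 V.2 w'
      obtain ⟨s, s', hst, hx⟩ := exists_basicOpen_le_affine_inter U.2 V.2 _ ⟨h1, h2⟩
      let UU : Y.AffineZariskiSite := ⟨U.1, U.2⟩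
      let VV : Y.AffineZariskiSite := ⟨V.1, V.2⟩
      let WW : Y.AffineZariskiSite := ⟨Y.basicOpen s, U.2.basicOpen s⟩
      have hWU : WW ≤ UU := ⟨s, rfl⟩
      have hWV : WW ≤ VV := ⟨s', hst.symm⟩
      let iU : WW ⟶ UU := homOfLE hWU
      let iV : WW ⟶ VV := homOfLE hWV
      refine ⟨⟨Y.basicOpen s, U.2.basicOpen s⟩,
        Spec.map (𝒮.presheaf.map (homOfLE (Y.basicOpen_le s)).op),
        Spec.map (𝒮.presheaf.map (homOfLE (hst.le.trans (Y.basicOpen_le s'))).op),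
        𝒮.toQCAlg.ι_res iU, 𝒮.toQCAlg.ι_res iV, ?_, ?_, ?_⟩
      · exact gU_res hz hPC U.1 U.2 s _ (U.2.basicOpen s) rfl
      · exact gU_res hz hPC V.1 V.2 s' _ (U.2.basicOpen s) hst
      · have : 𝒮.toQCAlg.ι U.1 U.2 w ∈ 𝒮.toQCAlg.π ⁻¹ᵁ (Y.basicOpen s) := hx
        rw [𝒮.toQCAlg.π_preimage _ (U.2.basicOpen s)] at this
        exact this)
  exact ⟨i, fun U hU => hi ⟨U, hU⟩⟩

theorem isPullback_chart (hPC : RelProj.IsRelProj Sh pC chartC) {i : 𝒮.toQCAlg.spec ⟶ PC}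
    (hi : RelCone.IsConeImm 𝒮 hz pC chartC i) (U : Y.Opens) (hU : IsAffineOpen U) :
    IsPullback (kappa hz U hU) (𝒮.toQCAlg.ι U hU) (RelProj.emb pC chartC U hU) i := by
  have hcomp := coneImm_over hz hPC hi
  refine IsOpenImmersion.isPullback _ _ _ _ ?_ ?_
  · rw [hi U hU]
    unfold kappa
    simp only [Category.assoc]
  · change i ⁻¹ᵁ (RelProj.emb pC chartC U hU).opensRange = (𝒮.toQCAlg.ι U hU).opensRange
    rw [opensRange_emb, ← Scheme.Hom.comp_preimage, hcomp, 𝒮.toQCAlg.π_preimage U hU]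

/-- the open cover of the projective cone by the charts -/
noncomputable def chartCover (pC : PC ⟶ Y)
    (chartC : ∀ (U : Y.Opens) (hU : IsAffineOpen U),
      (((pC ⁻¹ᵁ U : PC.Opens) : Scheme.{u}) ≅ Proj (Sh.deg U hU))) : PC.OpenCover :=
  Scheme.Cover.mkOfCovers Y.affineOpens
    (fun U => Proj (Sh.deg U.1 U.2)) (fun U => RelProj.emb pC chartC U.1 U.2)
    (fun x => by
      obtain ⟨U, hU, hxU⟩ := exists_affine_mem (pC x)
      obtain ⟨y, hy⟩ := exists_emb_of_mem pC chartC U hU x hxU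
      exact ⟨⟨U, hU⟩, y, hy⟩) (fun U => inferInstance)

theorem isOpenImmersion_kappa (U : Y.Opens) (hU : IsAffineOpen U) :
    IsOpenImmersion (kappa hz U hU) := by
  haveI : IsIso (CommRingCat.ofHom (hz.awayZToBase U hU)) :=
    (ConcreteCategory.isIso_iff_bijective _).mpr (awayZ_bijective hz U hU)
  unfold kappa
  infer_instance

theorem isAffineHom_kappa (U : Y.Opens) (hU : IsAffineOpen U) :
    IsAffineHom (kappa hz U hU) := by
  haveI : IsAffineHom (kappa hz U hU ≫ Proj.toSpecZero (Sh.deg U hU)) := inferInstance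
  exact IsAffineHom.of_comp (kappa hz U hU) (Proj.toSpecZero (Sh.deg U hU))

theorem isOpenImmersion_of_isConeImm (hPC : RelProj.IsRelProj Sh pC chartC)
    {i : 𝒮.toQCAlg.spec ⟶ PC} (hi : RelCone.IsConeImm 𝒮 hz pC chartC i) :
    IsOpenImmersion i :=
  RelProjMap.of_cover_isPullback (P := @IsOpenImmersion) (chartCover pC chartC)
    (fun U => Spec (𝒮.presheaf.obj (op U.1))) (fun U => 𝒮.toQCAlg.ι U.1 U.2)
    (fun U => kappa hz U.1 U.2) (fun U => (isPullback_chart hz hPC hi U.1 U.2).flip)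
    (fun U => isOpenImmersion_kappa hz U.1 U.2)

theorem isAffineHom_of_isConeImm (hPC : RelProj.IsRelProj Sh pC chartC)
    {i : 𝒮.toQCAlg.spec ⟶ PC} (hi : RelCone.IsConeImm 𝒮 hz pC chartC i) :
    IsAffineHom i :=
  RelProjMap.of_cover_isPullback (P := @IsAffineHom) (chartCover pC chartC)
    (fun U => Spec (𝒮.presheaf.obj (op U.1))) (fun U => 𝒮.toQCAlg.ι U.1 U.2)
    (fun U => kappa hz U.1 U.2) (fun U => (isPullback_chart hz hPC hi U.1 U.2).flip)
    (fun U => isAffineHom_kappa hz U.1 U.2)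

theorem range_eq_of_isConeImm (hPC : RelProj.IsRelProj Sh pC chartC)
    {i : 𝒮.toQCAlg.spec ⟶ PC} (hi : RelCone.IsConeImm 𝒮 hz pC chartC i) (Xz : PC.Opens)
    (hXz : ∀ (U : Y.Opens) (hU : IsAffineOpen U),
      Xz ⊓ pC ⁻¹ᵁ U = (pC ⁻¹ᵁ U).ι ''ᵁ ((chartC U hU).hom ⁻¹ᵁ
        Proj.basicOpen (Sh.deg U hU) (RelCone.restrictTop Sh z U))) :
    Set.range i.base = (Xz : Set PC) := by
  ext x
  obtain ⟨U, hU, hxU⟩ := exists_affine_mem (pC.base x)
  obtain ⟨pt, rfl⟩ := exists_emb_of_mem pC chartC U hU x hxU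
  rw [mem_range_coneImm_iff hz hPC hi U hU pt]
  have h1 : (RelProj.emb pC chartC U hU).base pt ∈ (Xz : Set PC) ↔
      (RelProj.emb pC chartC U hU).base pt ∈ Xz ⊓ pC ⁻¹ᵁ U := by
    constructor
    · intro h; exact ⟨h, hxU⟩
    · intro h; exact h.1
  rw [h1, hXz U hU]
  have hpt : (chartC U hU).hom.base ((chartC U hU).inv.base pt) = pt := by
    rw [← Scheme.Hom.comp_apply, Iso.inv_hom_id]; rfl
  constructor
  · intro hzp
    refine ⟨(chartC U hU).inv.base pt, ?_, rfl⟩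
    change (chartC U hU).hom.base ((chartC U hU).inv.base pt) ∈
      Proj.basicOpen (Sh.deg U hU) (RelCone.restrictTop Sh z U)
    rw [hpt]
    exact (Proj.mem_basicOpen _ _ _).mpr hzp
  · rintro ⟨y, hy, hyx⟩
    have hy2 : y = (chartC U hU).inv.base pt :=
      (pC ⁻¹ᵁ U).ι.isOpenEmbedding.injective hyx
    subst hy2
    have hy' : (chartC U hU).hom.base ((chartC U hU).inv.base pt) ∈
        Proj.basicOpen (Sh.deg U hU) (RelCone.restrictTop Sh z U) := hy
    rw [hpt] at hy'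
    exact (Proj.mem_basicOpen _ _ _).mp hy'

end geometry

end Groth.Agent.Lib.Helper3.ConeImm
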