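import Groth.Agent.Lib.Helper3.ProjCone2

/-!
# Functoriality of the projective cone
-/

set_option autoImplicit false
universe u
open CategoryTheory CategoryTheory.Limits AlgebraicGeometry TopologicalSpace Opposite
open scoped HomogeneousIdeal

namespace Groth.Agent.Lib.Helper3.ProjConeFun

open HomogeneousLocalization ProjQMap ProjQMapOn ProjQGlue ProjCone ProjCone2
open Groth.Agent.Lib.Helper6.PointedProjCone Groth.Agent.Lib.Helper6.PolyConeAlg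

section compat

variable {Y Y' : Scheme.{u}} {q : Y' ⟶ Y}
  {𝒮 : RelProj.QCGrAlg Y} {𝒮' : RelProj.QCGrAlg Y'} (u : RelProj.QGrHom q 𝒮 𝒮')
  {𝒮h : RelProj.QCGrAlg Y} {ι : 𝒮.toQCAlg ⟶ 𝒮h.toQCAlg} {z : 𝒮h.presheaf.obj (op ⊤)}
  {𝒮h' : RelProj.QCGrAlg Y'} {ι' : 𝒮'.toQCAlg ⟶ 𝒮h'.toQCAlg} {z' : 𝒮h'.presheaf.obj (op ⊤)}
  (uh : RelProj.QGrHom q 𝒮h 𝒮h')
  (huh : ∀ U : Y.Opens, ι.hom.app (op U) ≫ uh.app U = u.app U ≫ ι'.hom.app (op (q ⁻¹ᵁ U)))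
  (huhz : (uh.app ⊤).hom z = RelCone.restrictTop 𝒮h' z' (q ⁻¹ᵁ ⊤))

include huh in
theorem gradedAt_ι (U : Y.Opens) (hU : IsAffineOpen U) (U' : Y'.Opens) (hU' : IsAffineOpen U')
    (hle : U' ≤ q ⁻¹ᵁ U) (f : 𝒮.presheaf.obj (op U)) :
    uh.gradedAt U hU U' hU' hle ((ι.hom.app (op U)).hom f) =
      (ι'.hom.app (op U')).hom (u.gradedAt U hU U' hU' hle f) := by
  rw [RelProj.QGrHom.gradedAt_apply, RelProj.QGrHom.gradedAt_apply, RelSpec.QHom.appLE_eq,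
    RelSpec.QHom.appLE_eq]
  have h1 := congrArg (fun m => m.hom f) (huh U)
  have h2 := congrArg (fun m => m.hom ((u.app U).hom f)) (ι'.hom.naturality (homOfLE hle).op)
  simp only [CommRingCat.hom_comp, RingHom.comp_apply] at h1 h2 ⊢
  rw [h1]
  exact h2.symm

include huhz in
theorem gradedAt_z (U : Y.Opens) (hU : IsAffineOpen U) (U' : Y'.Opens) (hU' : IsAffineOpen U')
    (hle : U' ≤ q ⁻¹ᵁ U) :
    uh.gradedAt U hU U' hU' hle (RelCone.restrictTop 𝒮h z U) = RelCone.restrictTop 𝒮h' z' U' := by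
  rw [RelProj.QGrHom.gradedAt_apply]
  have h1 := uh.map_appLE (U := ⊤) (V := U) (U' := U') le_top hle
  have h2 := congrArg (fun m => m.hom z) h1
  simp only [CommRingCat.hom_comp, RingHom.comp_apply] at h2
  refine h2.trans ?_
  rw [RelSpec.QHom.appLE_eq]
  simp only [CommRingCat.hom_comp, RingHom.comp_apply]
  rw [huhz]
  change ((𝒮h'.presheaf.map (homOfLE le_top).op ≫ 𝒮h'.presheaf.map (homOfLE _).op)).hom z' = _
  rw [← Functor.map_comp]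
  rfl

end compat

section lr

variable {Y PA PB : Scheme.{u}} {𝒜 ℬ : RelProj.QCGrAlg Y} (φ : 𝒜.toQCAlg ⟶ ℬ.toQCAlg)
  (hφ : RelProj.IsGradedHom φ)
  {pA : PA ⟶ Y} {pB : PB ⟶ Y}
  {chartA : ∀ (U : Y.Opens) (hU : IsAffineOpen U),
    ((pA ⁻¹ᵁ U : PA.Opens) : Scheme.{u}) ≅ Proj (𝒜.deg U hU)}
  {chartB : ∀ (U : Y.Opens) (hU : IsAffineOpen U),
    ((pB ⁻¹ᵁ U : PB.Opens) : Scheme.{u}) ≅ Proj (ℬ.deg U hU)}
  {T : Scheme.{u}} (j : T ⟶ PB) [IsOpenImmersion j] (r : T ⟶ PA)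

/-- the value of the morphism at a point, in a chart -/
theorem exists_emb_eq_of_eqsOn (hall : AllIn φ hφ pB chartB j) (hcov : CovOn φ hφ pB chartB j)
    (heq : EqsOn φ hφ pA pB chartA chartB j r) (t : T) (V : Y.Opens) (hV : IsAffineOpen V)
    (ŷ : Proj (ℬ.deg V hV)) (h : RelProj.emb pB chartB V hV ŷ = j t) :
    ∃ y : Proj (𝒜.deg V hV), RelProj.emb pA chartA V hV y = r t ∧
      ∀ m, 0 < m → ∀ g ∈ 𝒜.deg V hV m,
        (g ∈ y.asHomogeneousIdeal ↔ ψU φ hφ V hV g ∈ ŷ.asHomogeneousIdeal) := by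
  obtain ⟨d, hd, a, ha, hay⟩ := hcov t V hV ŷ h
  obtain ⟨w, hw⟩ := exists_awayι_eq hd ((ψU φ hφ V hV).2 ha) ŷ hay
  have ht : lft φ hφ j hall V hV hd a ha w = t := by
    apply j.isOpenEmbedding.injective
    have e2 : j (lft φ hφ j hall V hV hd a ha w) = RelProj.emb pB chartB V hV
        (Proj.awayι (ℬ.deg V hV) (ψU φ hφ V hV a) ((ψU φ hφ V hV).2 ha) hd w) := by
      rw [← Scheme.Hom.comp_apply, lft_fac, Scheme.Hom.comp_apply]
    rw [e2, ← h]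
    exact congrArg _ hw
  refine ⟨Proj.awayι (𝒜.deg V hV) a ha hd
    (Spec.map (CommRingCat.ofHom (Away.map (ψU φ hφ V hV) a)) w), ?_, ?_⟩
  · have e3 : r (lft φ hφ j hall V hV hd a ha w) = RelProj.emb pA chartA V hV
        (Proj.awayι (𝒜.deg V hV) a ha hd
          (Spec.map (CommRingCat.ofHom (Away.map (ψU φ hφ V hV) a)) w)) := by
      rw [← Scheme.Hom.comp_apply, heq V hV d hd a ha _ (lft_fac φ hφ j hall V hV hd a ha),
        Scheme.Hom.comp_apply, Scheme.Hom.comp_apply]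
    rw [← ht, e3]
  · intro m hm g hg
    rw [mem_awayι_map_iff (ψU φ hφ V hV) hd hm ha hg w]
    exact Iff.of_eq (congrArg (fun y : Proj (ℬ.deg V hV) =>
      ψU φ hφ V hV g ∈ y.asHomogeneousIdeal) hw)

end lr

section geometry

variable {Y Y' PC PC' : Scheme.{u}} {q : Y' ⟶ Y}
  {𝒮 : RelProj.QCGrAlg Y} {𝒮' : RelProj.QCGrAlg Y'} (u : RelProj.QGrHom q 𝒮 𝒮')
  {𝒮h : RelProj.QCGrAlg Y} {ι : 𝒮.toQCAlg ⟶ 𝒮h.toQCAlg} {z : 𝒮h.presheaf.obj (op ⊤)}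
  (hz : RelCone.IsPolyOver 𝒮 𝒮h ι z)
  {pC : PC ⟶ Y}
  {chartC : ∀ (U : Y.Opens) (hU : IsAffineOpen U),
    (((pC ⁻¹ᵁ U : PC.Opens) : Scheme.{u}) ≅ Proj (𝒮h.deg U hU))}
  (hC : RelProj.IsRelProj 𝒮h pC chartC)
  {𝒮h' : RelProj.QCGrAlg Y'} {ι' : 𝒮'.toQCAlg ⟶ 𝒮h'.toQCAlg} {z' : 𝒮h'.presheaf.obj (op ⊤)}
  (hz' : RelCone.IsPolyOver 𝒮' 𝒮h' ι' z')
  {pC' : PC' ⟶ Y'}
  {chartC' : ∀ (U : Y'.Opens) (hU : IsAffineOpen U),
    (((pC' ⁻¹ᵁ U : PC'.Opens) : Scheme.{u}) ≅ Proj (𝒮h'.deg U hU))}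
  (hC' : RelProj.IsRelProj 𝒮h' pC' chartC')
  (uh : RelProj.QGrHom q 𝒮h 𝒮h')
  (huh : ∀ U : Y.Opens, ι.hom.app (op U) ≫ uh.app U = u.app U ≫ ι'.hom.app (op (q ⁻¹ᵁ U)))
  (huhz : (uh.app ⊤).hom z = RelCone.restrictTop 𝒮h' z' (q ⁻¹ᵁ ⊤))
  (Φh : ((RelProj.domQ uh pC' chartC' : PC'.Opens) : Scheme.{u}) ⟶ PC)
  (hΦh : RelProj.IsProjQMapOn uh pC chartC pC' chartC' (RelProj.domQ uh pC' chartC') Φh)

include hΦh in
theorem c_comp (i : Idx uh) : i.c pC' chartC' ≫ Φh = i.gA pC chartC :=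
  hΦh i.U i.hU i.U' i.hU' i.hle i.d i.hd i.f i.hf _

include hC huh hΦh in
theorem preimage_pointed_le :
    (RelProj.domQ uh pC' chartC').ι ''ᵁ (Φh ⁻¹ᵁ RelCone.pointedProjCone 𝒮 hz pC chartC) ≤
      RelCone.pointedProjCone 𝒮' hz' pC' chartC' := by
  rintro _ ⟨t, ht, rfl⟩
  obtain ⟨i, w, rfl⟩ := exists_mem_range_c pC' chartC' t
  have ht' : Φh (i.c pC' chartC' w) ∈ RelCone.pointedProjCone 𝒮 hz pC chartC := ht
  have h1 : Φh (i.c pC' chartC' w) = i.gA pC chartC w := by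
    rw [← Scheme.Hom.comp_apply]
    exact congrArg (fun m : i.X ⟶ PC => m w) (c_comp uh Φh hΦh i)
  have h2 : i.gA pC chartC w = RelProj.emb pC chartC i.U i.hU
      (Proj.awayι (𝒮h.deg i.U i.hU) i.f i.hf i.hd
        (Spec.map (CommRingCat.ofHom (Away.map i.ψ i.f)) w)) := by
    rw [Scheme.Hom.comp_apply, Scheme.Hom.comp_apply]
  rw [h1, h2] at ht'
  have h3 : RelProj.emb pC chartC i.U i.hU (Proj.awayι (𝒮h.deg i.U i.hU) i.f i.hf i.hd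
      (Spec.map (CommRingCat.ofHom (Away.map i.ψ i.f)) w)) ∈
      RelProj.domQ (RelProj.QGrHom.ofHom ι hz.graded) pC chartC ⊓ pC ⁻¹ᵁ i.U := by
    refine ⟨?_, pC_emb_mem pC chartC i.U i.hU _⟩
    rw [← iSup_eq_domQ ι hz.graded hC]
    exact ht'
  rw [domQ_inf ι hz.graded hC i.U i.hU] at h3
  obtain ⟨ŷ', hŷ', he⟩ := h3
  have he' := emb_injective pC chartC i.U i.hU he
  rw [he'] at hŷ'
  obtain ⟨e, he0, f, hf, hfy⟩ := exists_of_mem_domOpen _ _ hŷ'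
  have h4 := (mem_awayι_map_iff i.ψ i.hd he0 i.hf ((RelProj.gradedHomAt ι hz.graded i.U i.hU).2 hf)
    w).not.1 hfy
  have h5 : i.ψ (RelProj.gradedHomAt ι hz.graded i.U i.hU f) =
      (ι'.hom.app (op i.U')).hom (u.gradedAt i.U i.hU i.U' i.hU' i.hle f) :=
    gradedAt_ι u uh huh i.U i.hU i.U' i.hU' i.hle f
  have h4' : (ι'.hom.app (op i.U')).hom (u.gradedAt i.U i.hU i.U' i.hU' i.hle f) ∉
      (Proj.awayι (𝒮h'.deg i.U' i.hU') (i.ψ i.f) (i.ψ.2 i.hf) i.hd w).asHomogeneousIdeal :=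
    fun hh => h4 (Eq.mpr (congrArg (fun x => x ∈
      (Proj.awayι (𝒮h'.deg i.U' i.hU') (i.ψ i.f) (i.ψ.2 i.hf) i.hd w).asHomogeneousIdeal) h5) hh)
  have h6 : (RelProj.domQ uh pC' chartC').ι (i.c pC' chartC' w) =
      RelProj.emb pC' chartC' i.U' i.hU'
        (Proj.awayι (𝒮h'.deg i.U' i.hU') (i.ψ i.f) (i.ψ.2 i.hf) i.hd w) := by
    rw [← Scheme.Hom.comp_apply, Idx.c_fac]
    exact Scheme.Hom.comp_apply _ _ _
  have goal : (RelProj.domQ uh pC' chartC').ι (i.c pC' chartC' w) ∈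
      RelCone.pointedProjCone 𝒮' hz' pC' chartC' := by
    rw [h6, RelCone.pointedProjCone, Opens.mem_iSup]
    refine ⟨⟨i.U', i.hU'⟩, _, ?_, rfl⟩
    exact mem_domOpen_of_mem (RelProj.gradedHomAt ι' hz'.graded i.U' i.hU') he0
      ((u.gradedAt i.U i.hU i.U' i.hU' i.hle).2 hf) _ h4'
  exact goal

variable {P' : Scheme.{u}} {p' : P' ⟶ Y'}
  {chart' : ∀ (U : Y'.Opens) (hU : IsAffineOpen U),
    (((p' ⁻¹ᵁ U : P'.Opens) : Scheme.{u}) ≅ Proj (𝒮'.deg U hU))}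

include hC' huh in
theorem exists_chart_of_domQ_eq_top (hP' : RelProj.IsRelProj 𝒮' p' chart')
    (htop : RelProj.domQ u p' chart' = ⊤) (x : PC')
    (hx : x ∈ RelCone.pointedProjCone 𝒮' hz' pC' chartC') :
    ∃ (V : Y.Opens) (hV : IsAffineOpen V) (V' : Y'.Opens) (hV' : IsAffineOpen V')
      (hle : V' ≤ q ⁻¹ᵁ V) (e : ℕ) (_ : 0 < e) (f : 𝒮.presheaf.obj (op V))
      (_ : f ∈ 𝒮.deg V hV e) (ŷ : Proj (𝒮h'.deg V' hV')),
      RelProj.emb pC' chartC' V' hV' ŷ = x ∧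
        uh.gradedAt V hV V' hV' hle ((ι.hom.app (op V)).hom f) ∉ ŷ.asHomogeneousIdeal := by
  have hpt' : RelCone.pointedProjCone 𝒮' hz' pC' chartC' =
      RelProj.domQ (RelProj.QGrHom.ofHom ι' hz'.graded) pC' chartC' :=
    iSup_eq_domQ ι' hz'.graded hC'
  obtain ⟨hall', hcov', r', hr'⟩ := exists_eqsOn_of_eq (chartA := chart') ι' hz'.graded hP' hC' _ hpt'
  let t : ((RelCone.pointedProjCone 𝒮' hz' pC' chartC' : PC'.Opens) : Scheme.{u}) := ⟨x, hx⟩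
  have hcomp := comp_eq_on ι' hz'.graded (RelCone.pointedProjCone 𝒮' hz' pC' chartC').ι r'
    hP' hC' hall' hcov' hr'
  have hx0 : r' t ∈ RelProj.domQ u p' chart' := by rw [htop]; trivial
  obtain ⟨⟨⟨⟨V, hV⟩, ⟨V', hV'⟩⟩, hle⟩, y₁', hy₁', hy₁e⟩ := Opens.mem_iSup.mp hx0
  obtain ⟨e, he, f, hf, hfy⟩ := exists_of_mem_domOpen _ y₁' hy₁'
  have hy₁e' : RelProj.emb p' chart' V' hV' y₁' = r' t := hy₁e
  have hxV : pC' x ∈ V' := by
    have h1 : p' (r' t) ∈ V' := by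
      rw [← hy₁e']
      exact pC_emb_mem p' chart' V' hV' y₁'
    rw [← Scheme.Hom.comp_apply, hcomp, Scheme.Hom.comp_apply] at h1
    exact h1
  obtain ⟨ŷ, hŷ⟩ := exists_emb_eq pC' chartC' V' hV' x hxV
  obtain ⟨y₁, hy₁, hmem⟩ := exists_emb_eq_of_eqsOn ι' hz'.graded
    (RelCone.pointedProjCone 𝒮' hz' pC' chartC').ι r' hall' hcov' hr' t V' hV' ŷ hŷ
  have hyy : y₁ = y₁' := emb_injective p' chart' V' hV' (hy₁.trans hy₁e'.symm)
  subst hyy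
  refine ⟨V, hV, V', hV', hle, e, he, f, hf, ŷ, hŷ, ?_⟩
  rw [gradedAt_ι u uh huh]
  intro hh
  refine hfy ((hmem e he _ ((u.gradedAt V hV V' hV' hle).2 hf)).2 ?_)
  rw [ψU_apply]
  exact hh

include hC hC' huh huhz hΦh in
theorem domQ_eq_top_and_eq (hP' : RelProj.IsRelProj 𝒮' p' chart')
    (htop : RelProj.domQ u p' chart' = ⊤) :
    RelProj.domQ uh pC' chartC' = ⊤ ∧
      (RelProj.domQ uh pC' chartC').ι ''ᵁ (Φh ⁻¹ᵁ RelCone.pointedProjCone 𝒮 hz pC chartC) =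
        RelCone.pointedProjCone 𝒮' hz' pC' chartC' := by
  have key : ∀ x ∈ RelCone.pointedProjCone 𝒮' hz' pC' chartC',
      ∃ t : ((RelProj.domQ uh pC' chartC' : PC'.Opens) : Scheme.{u}),
        (RelProj.domQ uh pC' chartC').ι t = x ∧
          Φh t ∈ RelCone.pointedProjCone 𝒮 hz pC chartC := by
    intro x hx
    obtain ⟨V, hV, V', hV', hle, e, he, f, hf, ŷ, hŷ, hfy⟩ :=
      exists_chart_of_domQ_eq_top u hz' hC' uh huh hP' htop x hx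
    let i : Idx uh := ⟨V, hV, V', hV', hle, e, he, (ι.hom.app (op V)).hom f, ι_mem hz V hV hf⟩
    obtain ⟨w, hw⟩ := exists_awayι_eq he (i.ψ.2 i.hf) ŷ hfy
    refine ⟨i.c pC' chartC' w, ?_, ?_⟩
    · have h6 : (RelProj.domQ uh pC' chartC').ι (i.c pC' chartC' w) =
          RelProj.emb pC' chartC' i.U' i.hU'
            (Proj.awayι (𝒮h'.deg i.U' i.hU') (i.ψ i.f) (i.ψ.2 i.hf) i.hd w) := by
        rw [← Scheme.Hom.comp_apply, Idx.c_fac]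
        exact Scheme.Hom.comp_apply _ _ _
      rw [h6, ← hŷ]
      exact congrArg _ hw
    · have h1 : Φh (i.c pC' chartC' w) = i.gA pC chartC w := by
        rw [← Scheme.Hom.comp_apply]
        exact congrArg (fun m : i.X ⟶ PC => m w) (c_comp uh Φh hΦh i)
      have h2 : i.gA pC chartC w = RelProj.emb pC chartC i.U i.hU
          (Proj.awayι (𝒮h.deg i.U i.hU) i.f i.hf i.hd
            (Spec.map (CommRingCat.ofHom (Away.map i.ψ i.f)) w)) := by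
        rw [Scheme.Hom.comp_apply, Scheme.Hom.comp_apply]
      rw [h1, h2, RelCone.pointedProjCone, Opens.mem_iSup]
      refine ⟨⟨V, hV⟩, _, ?_, rfl⟩
      exact mem_domOpen_of_mem (RelProj.gradedHomAt ι hz.graded V hV) he hf _
        (notMem_awayι he (ι_mem hz V hV hf) _)
  constructor
  · rw [eq_top_iff]
    intro x _
    by_cases hx : x ∈ RelCone.pointedProjCone 𝒮' hz' pC' chartC'
    · obtain ⟨t, ht, -⟩ := key x hx
      rw [← ht]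
      exact t.2
    · obtain ⟨U, hU, hsU⟩ := exists_affine_mem (q (pC' x))
      obtain ⟨U', hU', hsU', hle⟩ : ∃ U' : Y'.Opens, IsAffineOpen U' ∧ pC' x ∈ U' ∧
          U' ≤ q ⁻¹ᵁ U := by
        obtain ⟨_, ⟨W, hW, rfl⟩, hxW, hWU⟩ :=
          Y'.isBasis_affineOpens.exists_subset_of_mem_open
            (show pC' x ∈ ((q ⁻¹ᵁ U : Y'.Opens) : Set Y') from hsU) (q ⁻¹ᵁ U).isOpen
        exact ⟨W, hW, hxW, hWU⟩
      obtain ⟨y', hy'⟩ := exists_emb_eq pC' chartC' U' hU' x hsU'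
      have hnd : y' ∉ RelCone.domOpen (RelProj.gradedHomAt ι' hz'.graded U' hU') := by
        intro hh
        apply hx
        rw [RelCone.pointedProjCone, Opens.mem_iSup]
        exact ⟨⟨U', hU'⟩, y', hh, hy'⟩
      have hz'y : RelCone.restrictTop 𝒮h' z' U' ∉ y'.asHomogeneousIdeal := by
        apply z_not_mem hz' U' hU' y'
        intro d hd a ha
        by_contra hcon
        exact hnd (mem_domOpen_of_mem (RelProj.gradedHomAt ι' hz'.graded U' hU') hd ha y' hcon)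
      rw [← gradedAt_z uh huhz U hU U' hU' hle] at hz'y
      rw [← hy']
      refine Opens.mem_iSup.mpr ⟨⟨(⟨U, hU⟩, ⟨U', hU'⟩), hle⟩, y', ?_, rfl⟩
      exact mem_domOpen_of_mem (uh.gradedAt U hU U' hU' hle) one_pos (hz.deg_z U hU) y' hz'y
  · apply le_antisymm (preimage_pointed_le u hz hC hz' uh huh Φh hΦh)
    intro x hx
    obtain ⟨t, ht, hΦ⟩ := key x hx
    exact ⟨t, hΦ, ht⟩

end geometry

end Groth.Agent.Lib.Helper3.ProjConeFun
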