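import Groth.Agent.Lib.Helper3.ConeImm
import Groth.Agent.Lib.Helper3.ProjConeFun

/-!
# Functoriality of the cone immersion
-/

set_option autoImplicit false
universe u
open CategoryTheory CategoryTheory.Limits AlgebraicGeometry TopologicalSpace Opposite
open scoped HomogeneousIdeal

namespace Groth.Agent.Lib.Helper3.ConeImmFun

open HomogeneousLocalization ProjQMap ProjQMapOn ProjQGlue ProjCone ProjCone2 ProjPoly ConeRange
open ConeImm ProjConeFun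
open Groth.Agent.Lib.Helper6.PointedProjCone Groth.Agent.Lib.Helper6.PolyConeAlg
open Groth.Agent.Lib.Helper13

variable {Y Y' PC PC' : Scheme.{u}} {q : Y' ⟶ Y}
  {𝒮 : RelProj.QCGrAlg Y} {𝒮' : RelProj.QCGrAlg Y'} (u : RelProj.QGrHom q 𝒮 𝒮')
  {𝒮h : RelProj.QCGrAlg Y} {ι : 𝒮.toQCAlg ⟶ 𝒮h.toQCAlg} {z : 𝒮h.presheaf.obj (op ⊤)}
  (hz : RelCone.IsPolyOver 𝒮 𝒮h ι z)
  {𝒮h' : RelProj.QCGrAlg Y'} {ι' : 𝒮'.toQCAlg ⟶ 𝒮h'.toQCAlg} {z' : 𝒮h'.presheaf.obj (op ⊤)}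
  (hz' : RelCone.IsPolyOver 𝒮' 𝒮h' ι' z')
  (uh : RelProj.QGrHom q 𝒮h 𝒮h')
  (huh : ∀ U : Y.Opens, ι.hom.app (op U) ≫ uh.app U = u.app U ≫ ι'.hom.app (op (q ⁻¹ᵁ U)))
  (huhz : (uh.app ⊤).hom z = RelCone.restrictTop 𝒮h' z' (q ⁻¹ᵁ ⊤))

include huh huhz in
theorem evalOne_appLE (U : Y.Opens) (hU : IsAffineOpen U) (U' : Y'.Opens) (hU' : IsAffineOpen U')
    (hle : U' ≤ q ⁻¹ᵁ U) (b : 𝒮h.presheaf.obj (op U)) :
    hz'.evalOne U' hU' ((uh.appLE U U' hle).hom b) =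
      (u.appLE U U' hle).hom (hz.evalOne U hU b) := by
  obtain ⟨Q, rfl⟩ := (hz.polyEquiv U hU).surjective b
  have e1 : ((uh.appLE U U' hle).hom).comp (ι.hom.app (op U)).hom =
      ((ι'.hom.app (op U')).hom).comp (u.appLE U U' hle).hom :=
    RingHom.ext fun x => gradedAt_ι u uh huh U hU U' hU' hle x
  have e2 : (uh.appLE U U' hle).hom (RelCone.restrictTop 𝒮h z U) =
      RelCone.restrictTop 𝒮h' z' U' := gradedAt_z uh huhz U hU U' hU' hle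
  have h1 : (uh.appLE U U' hle).hom (hz.polyEquiv U hU Q) =
      hz'.polyEquiv U' hU' (Q.map (u.appLE U U' hle).hom) := by
    rw [hz.polyEquiv_apply, hz'.polyEquiv_apply, Polynomial.hom_eval₂, Polynomial.eval₂_map, e1,
      e2]
  rw [h1]
  unfold RelCone.IsPolyOver.evalOne
  simp only [RingHom.comp_apply, RingEquiv.toRingHom_eq_coe, RingHom.coe_coe,
    RingEquiv.symm_apply_apply, Polynomial.coe_evalRingHom, Polynomial.eval_one_map]

include huh in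
theorem awayZ_appLE (U : Y.Opens) (hU : IsAffineOpen U) (U' : Y'.Opens) (hU' : IsAffineOpen U')
    (hle : U' ≤ q ⁻¹ᵁ U) :
    CommRingCat.ofHom (hz.awayZToBase U hU) ≫ u.appLE U U' hle =
      CommRingCat.ofHom (mapTo (uh.gradedAt U hU U' hU' hle) (RelCone.restrictTop 𝒮h z U)
        (RelCone.restrictTop 𝒮h' z' U') (gradedAt_z uh huhz U hU U' hU' hle)) ≫
        CommRingCat.ofHom (hz'.awayZToBase U' hU') := by
  ext q
  obtain ⟨n, b, hb, rfl⟩ := Away.mk_surjective (𝒮h.deg U hU) (hz.deg_z U hU) q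
  change (u.appLE U U' hle).hom (hz.awayZToBase U hU (Away.mk _ _ n b hb)) =
    hz'.awayZToBase U' hU' (mapTo (uh.gradedAt U hU U' hU' hle) (RelCone.restrictTop 𝒮h z U)
      (RelCone.restrictTop 𝒮h' z' U') (gradedAt_z uh huhz U hU U' hU' hle)
      (Away.mk _ _ n b hb))
  rw [awayZ_mk hz U hU n b hb]
  rw [hz'.awayZToBase_of_val U' hU' _ ((uh.appLE U U' hle).hom b) n
    (val_mapTo_mk (uh.gradedAt U hU U' hU' hle) (RelCone.restrictTop 𝒮h z U)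
      (RelCone.restrictTop 𝒮h' z' U') (gradedAt_z uh huhz U hU U' hU' hle)
      (hz.deg_z U hU) n b hb)]
  exact (evalOne_appLE u hz hz' uh huh huhz U hU U' hU' hle b).symm

variable {pC : PC ⟶ Y}
  {chartC : ∀ (U : Y.Opens) (hU : IsAffineOpen U),
    (((pC ⁻¹ᵁ U : PC.Opens) : Scheme.{u}) ≅ Proj (𝒮h.deg U hU))}
  {pC' : PC' ⟶ Y'}
  {chartC' : ∀ (U : Y'.Opens) (hU : IsAffineOpen U),
    (((pC' ⁻¹ᵁ U : PC'.Opens) : Scheme.{u}) ≅ Proj (𝒮h'.deg U hU))}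

theorem exists_pair (y' : Y') : ∃ (U : Y.Opens) (hU : IsAffineOpen U) (U' : Y'.Opens)
    (hU' : IsAffineOpen U') (hle : U' ≤ q ⁻¹ᵁ U), y' ∈ U' := by
  obtain ⟨U, hU, hcU⟩ := exists_affine_mem (q.base y')
  obtain ⟨U', hU', hcU', hle⟩ := Opens.isBasis_iff_nbhd.mp Y'.isBasis_affineOpens
    (show y' ∈ q ⁻¹ᵁ U from hcU)
  exact ⟨U, hU, U', hU', hle, hcU'⟩

include hz huhz in
theorem range_coneImm_subset_domQ {i' : 𝒮'.toQCAlg.spec ⟶ PC'}
    (hi' : RelCone.IsConeImm 𝒮' hz' pC' chartC' i') :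
    Set.range i'.base ⊆ ((RelProj.domQ uh pC' chartC' : PC'.Opens) : Set PC') := by
  rintro _ ⟨c', rfl⟩
  obtain ⟨U, hU, U', hU', hle, hcU'⟩ := exists_pair (q := q) (𝒮'.toQCAlg.π.base c')
  obtain ⟨P', hP'⟩ := (SpecQMap.mem_range_ι_iff 𝒮'.toQCAlg U' hU' c').mpr hcU'
  have hP'' : (𝒮'.toQCAlg.ι U' hU').base P' = c' := hP'
  rw [← hP'', coneImm_apply hz' hi' U' hU' P']
  change _ ∈ RelProj.domQ uh pC' chartC'
  unfold RelProj.domQ
  refine Opens.mem_iSup.mpr ⟨⟨(⟨U, hU⟩, ⟨U', hU'⟩), hle⟩, ?_⟩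
  refine ⟨(kappa hz' U' hU').base P', ?_, rfl⟩
  refine mem_domOpen_of_mem (uh.gradedAt U hU U' hU' hle) one_pos (hz.deg_z U hU) _ ?_
  rw [gradedAt_z uh huhz U hU U' hU' hle]
  exact z_notMem_kappa hz' U' hU' P'

include huh huhz in
theorem comp_eq (Φh : ((RelProj.domQ uh pC' chartC' : PC'.Opens) : Scheme.{u}) ⟶ PC)
    (hΦh : RelProj.IsProjQMapOn uh pC chartC pC' chartC' (RelProj.domQ uh pC' chartC') Φh)
    (Φc : 𝒮'.toQCAlg.spec ⟶ 𝒮.toQCAlg.spec) (hΦc : RelSpec.IsSpecQMap u.toQHom Φc)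
    {i : 𝒮.toQCAlg.spec ⟶ PC} (hi : RelCone.IsConeImm 𝒮 hz pC chartC i)
    {i' : 𝒮'.toQCAlg.spec ⟶ PC'} (hi' : RelCone.IsConeImm 𝒮' hz' pC' chartC' i')
    (i'' : 𝒮'.toQCAlg.spec ⟶ ((RelProj.domQ uh pC' chartC' : PC'.Opens) : Scheme.{u}))
    (hi'' : i'' ≫ (RelProj.domQ uh pC' chartC').ι = i') : i'' ≫ Φh = Φc ≫ i := by
  refine hom_ext_of_covers _ _ (fun c' => ?_)
  obtain ⟨U, hU, U', hU', hle, hcU'⟩ := exists_pair (q := q) (𝒮'.toQCAlg.π.base c')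
  refine ⟨_, 𝒮'.toQCAlg.ι U' hU', inferInstance,
    (SpecQMap.mem_range_ι_iff 𝒮'.toQCAlg U' hU' c').mpr hcU', ?_⟩
  have hzU := hz.deg_z U hU
  have hgz := gradedAt_z uh huhz U hU U' hU' hle
  have hW := RelProj.range_awayEmb_subset_domQ uh pC' chartC' U hU U' hU' hle one_pos
    (RelCone.restrictTop 𝒮h z U) hzU
  have hΦ := hΦh U hU U' hU' hle 1 one_pos (RelCone.restrictTop 𝒮h z U) hzU hW
  have key : 𝒮'.toQCAlg.ι U' hU' ≫ i'' =
      Spec.map (CommRingCat.ofHom (hz'.awayZToBase U' hU')) ≫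
        Spec.map (CommRingCat.ofHom (mapTo (GradedRingHom.id (𝒮h'.deg U' hU'))
          (uh.gradedAt U hU U' hU' hle (RelCone.restrictTop 𝒮h z U))
          (RelCone.restrictTop 𝒮h' z' U') hgz)) ≫
        IsOpenImmersion.lift (RelProj.domQ uh pC' chartC').ι
          (RelProj.awayEmb uh pC' chartC' U hU U' hU' hle one_pos
            (RelCone.restrictTop 𝒮h z U) hzU) hW := by
    rw [← cancel_mono (RelProj.domQ uh pC' chartC').ι]
    simp only [Category.assoc]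
    rw [hi'', IsOpenImmersion.lift_fac, hi' U' hU']
    unfold RelProj.awayEmb
    rw [reassoc_of% (awayι_congr one_pos
      (uh.gradedAt U hU U' hU' hle (RelCone.restrictTop 𝒮h z U))
      (RelCone.restrictTop 𝒮h' z' U') hgz
      ((uh.gradedAt U hU U' hU' hle).map_mem hzU) (hz'.deg_z U' hU'))]
  rw [← Category.assoc, key]
  simp only [Category.assoc]
  rw [hΦ, reassoc_of% (hΦc U hU U' hU' hle), hi U hU]
  rw [← Spec.map_comp_assoc, ← Spec.map_comp_assoc, ← Spec.map_comp_assoc]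
  congr 1
  rw [awayZ_appLE u hz hz' uh huh huhz U hU U' hU' hle]
  have e3 : CommRingCat.ofHom (Away.map (uh.gradedAt U hU U' hU' hle)
        (RelCone.restrictTop 𝒮h z U)) ≫
      CommRingCat.ofHom (mapTo (GradedRingHom.id (𝒮h'.deg U' hU'))
        (uh.gradedAt U hU U' hU' hle (RelCone.restrictTop 𝒮h z U))
        (RelCone.restrictTop 𝒮h' z' U') hgz) =
      CommRingCat.ofHom (mapTo (uh.gradedAt U hU U' hU' hle) (RelCone.restrictTop 𝒮h z U)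
        (RelCone.restrictTop 𝒮h' z' U') hgz) := by
    rw [← CommRingCat.ofHom_comp, ← mapTo_rfl]
    congr 1
    exact mapTo_comp (uh.gradedAt U hU U' hU' hle) (GradedRingHom.id (𝒮h'.deg U' hU'))
      (uh.gradedAt U hU U' hU' hle) (fun x => rfl) (RelCone.restrictTop 𝒮h z U) _ _ rfl hgz
  rw [← Category.assoc, e3]

end Groth.Agent.Lib.Helper3.ConeImmFun
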