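import Groth.Agent.Lib.Helper3.ConeImm

/-!
# The cone immersion is schematically dominant
-/

set_option autoImplicit false
universe u
open CategoryTheory CategoryTheory.Limits AlgebraicGeometry TopologicalSpace Opposite
open scoped HomogeneousIdeal

namespace Groth.Agent.Lib.Helper3.ConeImmKer

open HomogeneousLocalization ProjQMap ProjQMapOn ProjQGlue ProjCone ProjCone2 ProjPoly ConeRange
open ConeImm
open Groth.Agent.Lib.Helper6.PointedProjCone Groth.Agent.Lib.Helper6.PolyConeAlg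
open Groth.Agent.Lib.Helper13

section algebra

variable {A : Type u} [CommRing A] {𝒜 : ℕ → AddSubgroup A} [GradedRing 𝒜]

theorem exists_pos_notMem (y : Proj 𝒜) :
    ∃ d, 0 < d ∧ ∃ f ∈ 𝒜 d, f ∉ y.asHomogeneousIdeal := by
  classical
  by_contra hcon
  push_neg at hcon
  apply y.not_irrelevant_le
  change (HomogeneousIdeal.irrelevant 𝒜).toIdeal ≤ y.asHomogeneousIdeal.toIdeal
  intro f hf
  rw [← DirectSum.sum_support_decompose 𝒜 f]
  refine Ideal.sum_mem _ (fun i _ => ?_)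
  rcases Nat.eq_zero_or_pos i with rfl | hi
  · have h0 : (DirectSum.decompose 𝒜 f 0 : A) = 0 :=
      (HomogeneousIdeal.mem_irrelevant_iff 𝒜 f).mp hf
    rw [h0]
    exact Ideal.zero_mem _
  · exact hcon i hi _ (SetLike.coe_mem _)

theorem pow_mul_cancel {g : A} (hnzd : ∀ b : A, g * b = 0 → b = 0) (k : ℕ) (b : A)
    (h : g ^ k * b = 0) : b = 0 := by
  induction k with
  | zero => simpa using h
  | succ k ih =>
    apply ih
    apply hnzd
    rw [← mul_assoc, ← pow_succ']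
    exact h

theorem awayMap_injective {d e : ℕ} {f g x : A} (hf : f ∈ 𝒜 d) (hg : g ∈ 𝒜 e) (hx : x = f * g)
    (hnzd : ∀ b : A, g * b = 0 → b = 0) : Function.Injective (awayMap 𝒜 hg hx) := by
  rw [injective_iff_map_eq_zero]
  intro q hq
  obtain ⟨n, a, ha, rfl⟩ := Away.mk_surjective 𝒜 hf q
  rw [awayMap_mk] at hq
  have hv := congrArg HomogeneousLocalization.val hq
  rw [Away.val_mk, HomogeneousLocalization.val_zero, Localization.mk_eq_mk',
    IsLocalization.mk'_eq_zero_iff] at hv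
  obtain ⟨⟨_, m, rfl⟩, hm⟩ := hv
  have hm' : g ^ (m + n) * (f ^ m * a) = 0 := by
    have : (x ^ m : A) * (a * g ^ n) = g ^ (m + n) * (f ^ m * a) := by
      rw [hx, mul_pow, pow_add]; ring
    rw [← this]; exact hm
  have hfa : f ^ m * a = 0 := pow_mul_cancel hnzd _ _ hm'
  apply HomogeneousLocalization.val_injective
  rw [Away.val_mk, HomogeneousLocalization.val_zero, Localization.mk_eq_mk',
    IsLocalization.mk'_eq_zero_iff]
  exact ⟨⟨f ^ m, m, rfl⟩, hfa⟩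

theorem eq_bot_of_comap_eq_bot {R S : Type*} [CommRing R] [CommRing S] (e : R →+* S)
    (he : Function.Surjective e) (I : Ideal S) (h : I.comap e = ⊥) : I = ⊥ := by
  rw [eq_bot_iff]
  intro x hx
  obtain ⟨y, rfl⟩ := he x
  have hy : y ∈ I.comap e := hx
  rw [h, Ideal.mem_bot] at hy
  rw [Ideal.mem_bot, hy, map_zero]

theorem ker_specMap_ideal_top {R S : CommRingCat.{u}} (φ : R ⟶ S)
    (hφ : Function.Injective φ.hom) :
    (Spec.map φ).ker.ideal ⟨⊤, isAffineOpen_top _⟩ = ⊥ := by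
  rw [Scheme.Hom.ker_apply]
  apply (RingHom.injective_iff_ker_eq_bot _).mp
  have h : (Spec.map φ).appTop = (Scheme.ΓSpecIso R).hom ≫ φ ≫ (Scheme.ΓSpecIso S).inv := by
    rw [← Category.assoc, ← Scheme.ΓSpecIso_naturality, Category.assoc, Iso.hom_inv_id,
      Category.comp_id]
  change Function.Injective (Spec.map φ).appTop.hom
  rw [h]
  simp only [CommRingCat.hom_comp, RingHom.coe_comp]
  exact ((ConcreteCategory.bijective_of_isIso (Scheme.ΓSpecIso S).inv).1.comp hφ).comp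
    (ConcreteCategory.bijective_of_isIso (Scheme.ΓSpecIso R).hom).1

theorem ker_awayι_eq_bot {e : ℕ} (he : 0 < e) {g : A} (hg : g ∈ 𝒜 e)
    (hnzd : ∀ b : A, g * b = 0 → b = 0) : (Proj.awayι 𝒜 g hg he).ker = ⊥ := by
  refine Scheme.IdealSheafData.ext_of_iSup_eq_top
    (fun s : {s : ℕ × A // 0 < s.1 ∧ s.2 ∈ 𝒜 s.1} =>
      (⟨(Proj.awayι 𝒜 s.1.2 s.2.2 s.2.1) ''ᵁ ⊤,
        (isAffineOpen_top _).image_of_isOpenImmersion _⟩ : (Proj 𝒜).affineOpens)) ?_ ?_
  · rw [eq_top_iff]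
    intro y _
    obtain ⟨d, hd, f, hf, hfy⟩ := exists_pos_notMem y
    refine Opens.mem_iSup.mpr ⟨⟨(d, f), hd, hf⟩, ?_⟩
    change y ∈ (Proj.awayι 𝒜 f hf hd) ''ᵁ ⊤
    rw [Scheme.Hom.image_top_eq_opensRange, Proj.opensRange_awayι]
    exact (Proj.mem_basicOpen _ _ _).mpr hfy
  · rintro ⟨⟨d, f⟩, hd, hf⟩
    have h1 := Proj.pullbackAwayιIso_inv_fst 𝒜 hf hd hg he (rfl : f * g = f * g)
    have h2 := Proj.pullbackAwayιIso_inv_snd 𝒜 hf hd hg he (rfl : f * g = f * g)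
    have H : IsPullback (Spec.map (CommRingCat.ofHom (awayMap 𝒜 hg (rfl : f * g = f * g))))
        (Spec.map (CommRingCat.ofHom (awayMap 𝒜 hf ((rfl : f * g = f * g).trans (mul_comm _ _)))))
        (Proj.awayι 𝒜 f hf hd) (Proj.awayι 𝒜 g hg he) :=
      IsPullback.of_iso_pullback
        ⟨by rw [← h1, ← h2, Category.assoc, Category.assoc, pullback.condition]⟩
        (Proj.pullbackAwayιIso 𝒜 hf hd hg he (rfl : f * g = f * g)).symm h1 h2
    have h3 := Scheme.ker_ideal_of_isPullback_of_isOpenImmersion (Proj.awayι 𝒜 g hg he) _ _ _ H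
      ⟨⊤, isAffineOpen_top _⟩
    rw [ker_specMap_ideal_top _ (awayMap_injective hf hg rfl hnzd)] at h3
    exact eq_bot_of_comap_eq_bot _
      (ConcreteCategory.bijective_of_isIso ((Proj.awayι 𝒜 f hf hd).appIso ⊤).inv).2 _ h3.symm

end algebra

section geometry

variable {Y PC : Scheme.{u}} {𝒮 Sh : RelProj.QCGrAlg Y}
  {ι : 𝒮.toQCAlg ⟶ Sh.toQCAlg} {z : Sh.presheaf.obj (op ⊤)} (hz : RelCone.IsPolyOver 𝒮 Sh ι z)
  {pC : PC ⟶ Y}
  {chartC : ∀ (U : Y.Opens) (hU : IsAffineOpen U),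
    (((pC ⁻¹ᵁ U : PC.Opens) : Scheme.{u}) ≅ Proj (Sh.deg U hU))}

include hz in
theorem z_mul_cancel (U : Y.Opens) (hU : IsAffineOpen U) (b : Sh.presheaf.obj (op U))
    (h : RelCone.restrictTop Sh z U * b = 0) : b = 0 := by
  obtain ⟨Q, rfl⟩ := (hz.polyEquiv U hU).surjective b
  have h1 : hz.polyEquiv U hU (Polynomial.X * Q) = 0 := by
    rw [map_mul, polyEquiv_X hz U hU]; exact h
  have h2 : Polynomial.X * Q = 0 :=
    (hz.polyEquiv U hU).injective (h1.trans (map_zero _).symm)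
  have h3 : Q = 0 := by
    ext n
    have := congrArg (fun P => Polynomial.coeff P (n + 1)) h2
    simpa [Polynomial.coeff_X_mul] using this
  rw [h3, map_zero]

theorem ker_kappa (U : Y.Opens) (hU : IsAffineOpen U) : (kappa hz U hU).ker = ⊥ := by
  haveI : IsIso (CommRingCat.ofHom (hz.awayZToBase U hU)) :=
    (ConcreteCategory.isIso_iff_bijective _).mpr (awayZ_bijective hz U hU)
  unfold kappa
  rw [Scheme.Hom.ker_comp_of_isIso]
  exact ker_awayι_eq_bot one_pos (hz.deg_z U hU) (z_mul_cancel hz U hU)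

theorem ker_eq_bot_of_isConeImm (hPC : RelProj.IsRelProj Sh pC chartC)
    {i : 𝒮.toQCAlg.spec ⟶ PC} (hi : RelCone.IsConeImm 𝒮 hz pC chartC i) : i.ker = ⊥ := by
  haveI : IsAffineHom i := isAffineHom_of_isConeImm hz hPC hi
  refine Scheme.IdealSheafData.ext_of_iSup_eq_top
    (fun t : Σ U : Y.affineOpens, {s : ℕ × Sh.presheaf.obj (op U.1) //
        0 < s.1 ∧ s.2 ∈ Sh.deg U.1 U.2 s.1} =>
      (⟨RelProj.emb pC chartC t.1.1 t.1.2 ''ᵁ
          ((Proj.awayι (Sh.deg t.1.1 t.1.2) t.2.1.2 t.2.2.2 t.2.2.1) ''ᵁ ⊤),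
        ((isAffineOpen_top _).image_of_isOpenImmersion _).image_of_isOpenImmersion _⟩ :
        PC.affineOpens)) ?_ ?_
  · rw [eq_top_iff]
    intro x _
    obtain ⟨U, hU, hxU⟩ := exists_affine_mem (pC.base x)
    obtain ⟨y, hy⟩ := exists_emb_of_mem pC chartC U hU x hxU
    obtain ⟨d, hd, f, hf, hfy⟩ := exists_pos_notMem y
    refine Opens.mem_iSup.mpr ⟨⟨⟨U, hU⟩, ⟨(d, f), hd, hf⟩⟩, ?_⟩
    refine ⟨y, ?_, hy⟩
    change y ∈ (Proj.awayι (Sh.deg U hU) f hf hd) ''ᵁ ⊤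
    rw [Scheme.Hom.image_top_eq_opensRange, Proj.opensRange_awayι]
    exact (Proj.mem_basicOpen _ _ _).mpr hfy
  · rintro ⟨⟨U, hU⟩, ⟨⟨d, f⟩, hd, hf⟩⟩
    have H := isPullback_chart hz hPC hi U hU
    have h3 := Scheme.ker_ideal_of_isPullback_of_isOpenImmersion i _ _ _ H
      ⟨(Proj.awayι (Sh.deg U hU) f hf hd) ''ᵁ ⊤,
        (isAffineOpen_top _).image_of_isOpenImmersion _⟩
    rw [ker_kappa hz U hU] at h3
    exact eq_bot_of_comap_eq_bot _
      (ConcreteCategory.bijective_of_isIso ((RelProj.emb pC chartC U hU).appIso _).inv).2 _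
      h3.symm

end geometry

end Groth.Agent.Lib.Helper3.ConeImmKer
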