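import Groth.Agent.Lib.Helper3.ConeImmFun

/-!
# Functoriality of the immersion at infinity of the projective cone
-/

set_option autoImplicit false
universe u
open CategoryTheory CategoryTheory.Limits AlgebraicGeometry TopologicalSpace Opposite
open scoped HomogeneousIdeal

namespace Groth.Agent.Lib.Helper3.ConeInfFun

open HomogeneousLocalization ProjQMap ProjQMapOn ProjQGlue ProjCone ProjCone2 ProjPoly ConeRange
open ConeImm ProjConeFun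
open Groth.Agent.Lib.Helper6.PointedProjCone Groth.Agent.Lib.Helper6.PolyConeAlg
open Groth.Agent.Lib.Helper13

section G1

variable {Y PA PB : Scheme.{u}} {𝒜 ℬ : RelProj.QCGrAlg Y} (φ : 𝒜.toQCAlg ⟶ ℬ.toQCAlg)
  (hφ : RelProj.IsGradedHom φ)
  {pA : PA ⟶ Y} {pB : PB ⟶ Y}
  {chartA : ∀ (U : Y.Opens) (hU : IsAffineOpen U),
    ((pA ⁻¹ᵁ U : PA.Opens) : Scheme.{u}) ≅ Proj (𝒜.deg U hU)}
  {chartB : ∀ (U : Y.Opens) (hU : IsAffineOpen U),
    ((pB ⁻¹ᵁ U : PB.Opens) : Scheme.{u}) ≅ Proj (ℬ.deg U hU)}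

/-- the chart equation of an everywhere defined `Proj(φ)`, with the target element only
propositionally equal to the image -/
theorem chart_eq_of_isProjQMap (h : PB ⟶ PA)
    (hh : RelProj.IsProjQMap (RelProj.QGrHom.ofHom φ hφ) pA chartA pB chartB h)
    (U : Y.Opens) (hU : IsAffineOpen U) {d : ℕ} (hd : 0 < d) (F : 𝒜.presheaf.obj (op U))
    (hF : F ∈ 𝒜.deg U hU d) (f : ℬ.presheaf.obj (op U)) (hf : f ∈ ℬ.deg U hU d)
    (hFf : ψU φ hφ U hU F = f) :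
    Proj.awayι (ℬ.deg U hU) f hf hd ≫ RelProj.emb pB chartB U hU ≫ h =
      Spec.map (CommRingCat.ofHom (mapTo (ψU φ hφ U hU) F f hFf)) ≫
        Proj.awayι (𝒜.deg U hU) F hF hd ≫ RelProj.emb pA chartA U hU := by
  subst hFf
  have := hh.2 U hU U hU le_rfl d hd F hF
  unfold RelProj.awayEmb at this
  rw [Category.assoc] at this
  exact this

end G1

variable {Y Y' PC PC' : Scheme.{u}} {q : Y' ⟶ Y}
  {𝒮 : RelProj.QCGrAlg Y} {𝒮' : RelProj.QCGrAlg Y'} (u : RelProj.QGrHom q 𝒮 𝒮')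
  {𝒮h : RelProj.QCGrAlg Y} {ι : 𝒮.toQCAlg ⟶ 𝒮h.toQCAlg} {z : 𝒮h.presheaf.obj (op ⊤)}
  (hz : RelCone.IsPolyOver 𝒮 𝒮h ι z)
  {𝒮h' : RelProj.QCGrAlg Y'} {ι' : 𝒮'.toQCAlg ⟶ 𝒮h'.toQCAlg} {z' : 𝒮h'.presheaf.obj (op ⊤)}
  (hz' : RelCone.IsPolyOver 𝒮' 𝒮h' ι' z')
  (uh : RelProj.QGrHom q 𝒮h 𝒮h')
  (huh : ∀ U : Y.Opens, ι.hom.app (op U) ≫ uh.app U = u.app U ≫ ι'.hom.app (op (q ⁻¹ᵁ U)))
  (huhz : (uh.app ⊤).hom z = RelCone.restrictTop 𝒮h' z' (q ⁻¹ᵁ ⊤))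
  (θ : 𝒮h.toQCAlg ⟶ 𝒮.toQCAlg) (hθ : RelProj.IsGradedHom θ) (hθι : ι ≫ θ = 𝟙 _)
  (hθz : (θ.hom.app (op ⊤)).hom z = 0)
  (θ' : 𝒮h'.toQCAlg ⟶ 𝒮'.toQCAlg) (hθ' : RelProj.IsGradedHom θ') (hθι' : ι' ≫ θ' = 𝟙 _)
  (hθz' : (θ'.hom.app (op ⊤)).hom z' = 0)

include hθι hθz in
theorem θ_polyEquiv (U : Y.Opens) (hU : IsAffineOpen U)
    (Q : Polynomial (𝒮.presheaf.obj (op U))) :
    (θ.hom.app (op U)).hom (hz.polyEquiv U hU Q) = Q.coeff 0 := by
  rw [hz.polyEquiv_apply, Polynomial.hom_eval₂]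
  have h1 : ((θ.hom.app (op U)).hom.comp (ι.hom.app (op U)).hom) = RingHom.id _ := by
    ext x; exact θ_ι θ hθι U x
  rw [h1, θ_z_eq_zero θ hθz U, Polynomial.eval₂_id, ← Polynomial.coeff_zero_eq_eval_zero]

include huh huhz in
theorem appLE_polyEquiv (U : Y.Opens) (hU : IsAffineOpen U) (U' : Y'.Opens)
    (hU' : IsAffineOpen U') (hle : U' ≤ q ⁻¹ᵁ U) (Q : Polynomial (𝒮.presheaf.obj (op U))) :
    (uh.appLE U U' hle).hom (hz.polyEquiv U hU Q) =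
      hz'.polyEquiv U' hU' (Q.map (u.appLE U U' hle).hom) := by
  have e1 : ((uh.appLE U U' hle).hom).comp (ι.hom.app (op U)).hom =
      ((ι'.hom.app (op U')).hom).comp (u.appLE U U' hle).hom :=
    RingHom.ext fun x => gradedAt_ι u uh huh U hU U' hU' hle x
  have e2 : (uh.appLE U U' hle).hom (RelCone.restrictTop 𝒮h z U) =
      RelCone.restrictTop 𝒮h' z' U' := gradedAt_z uh huhz U hU U' hU' hle
  rw [hz.polyEquiv_apply, hz'.polyEquiv_apply, Polynomial.hom_eval₂, Polynomial.eval₂_map, e1,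
    e2]

include hz hz' huh huhz hθι hθz hθι' hθz' in
theorem appLE_θ (U : Y.Opens) (hU : IsAffineOpen U) (U' : Y'.Opens)
    (hU' : IsAffineOpen U') (hle : U' ≤ q ⁻¹ᵁ U) (b : 𝒮h.presheaf.obj (op U)) :
    (u.appLE U U' hle).hom ((θ.hom.app (op U)).hom b) =
      (θ'.hom.app (op U')).hom ((uh.appLE U U' hle).hom b) := by
  obtain ⟨Q, rfl⟩ := (hz.polyEquiv U hU).surjective b
  rw [θ_polyEquiv hz θ hθι hθz U hU Q, appLE_polyEquiv u hz hz' uh huh huhz U hU U' hU' hle Q,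
    θ_polyEquiv hz' θ' hθι' hθz' U' hU', Polynomial.coeff_map]

variable {pC : PC ⟶ Y}
  {chartC : ∀ (U : Y.Opens) (hU : IsAffineOpen U),
    (((pC ⁻¹ᵁ U : PC.Opens) : Scheme.{u}) ≅ Proj (𝒮h.deg U hU))}
  {pC' : PC' ⟶ Y'}
  {chartC' : ∀ (U : Y'.Opens) (hU : IsAffineOpen U),
    (((pC' ⁻¹ᵁ U : PC'.Opens) : Scheme.{u}) ≅ Proj (𝒮h'.deg U hU))}
  {P P' : Scheme.{u}} {p : P ⟶ Y}
  {chart : ∀ (U : Y.Opens) (hU : IsAffineOpen U),
    (((p ⁻¹ᵁ U : P.Opens) : Scheme.{u}) ≅ Proj (𝒮.deg U hU))}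
  {p' : P' ⟶ Y'}
  {chart' : ∀ (U : Y'.Opens) (hU : IsAffineOpen U),
    (((p' ⁻¹ᵁ U : P'.Opens) : Scheme.{u}) ≅ Proj (𝒮'.deg U hU))}

/-- the index of the chart of `G(û)` attached to a chart of `G(u)` -/
abbrev hatIdx (i : Idx u) : Idx uh :=
  ⟨i.U, i.hU, i.U', i.hU', i.hle, i.d, i.hd, (ι.hom.app (op i.U)).hom i.f,
    hz.graded i.U i.hU i.d i.f i.hf⟩

include huh hθι' in
theorem ψ'_hat (i : Idx u) :
    ψU θ' hθ' i.U' i.hU' ((hatIdx u hz uh i).ψ (hatIdx u hz uh i).f) = i.ψ i.f := by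
  rw [ψU_apply]
  change (θ'.hom.app (op i.U')).hom
    (uh.gradedAt i.U i.hU i.U' i.hU' i.hle ((ι.hom.app (op i.U)).hom i.f)) = _
  rw [gradedAt_ι u uh huh i.U i.hU i.U' i.hU' i.hle i.f, θ_ι θ' hθι' i.U']

/-- the comparison morphism between the sources of the charts -/
noncomputable def sig (i : Idx u) : i.X ⟶ (hatIdx u hz uh i).X :=
  Spec.map (CommRingCat.ofHom (mapTo (ψU θ' hθ' i.U' i.hU')
    ((hatIdx u hz uh i).ψ (hatIdx u hz uh i).f) (i.ψ i.f) (ψ'_hat u hz uh huh θ' hθ' hθι' i)))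

theorem cB_comp (jX' : P' ⟶ PC')
    (hjX' : RelProj.IsProjQMap (RelProj.QGrHom.ofHom θ' hθ') pC' chartC' p' chart' jX')
    (i : Idx u) :
    i.cB p' chart' ≫ jX' =
      sig u hz uh huh θ' hθ' hθι' i ≫ (hatIdx u hz uh i).cB pC' chartC' := by
  have := chart_eq_of_isProjQMap θ' hθ' jX' hjX' i.U' i.hU' i.hd
    ((hatIdx u hz uh i).ψ (hatIdx u hz uh i).f)
    ((hatIdx u hz uh i).ψ.2 (hatIdx u hz uh i).hf) (i.ψ i.f) (i.ψ.2 i.hf)
    (ψ'_hat u hz uh huh θ' hθ' hθι' i)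
  unfold Idx.cB RelProj.awayEmb sig
  rw [Category.assoc]
  exact this

include hz' huhz hθι hθz hθz' in
theorem gA_comp (jX : P ⟶ PC)
    (hjX : RelProj.IsProjQMap (RelProj.QGrHom.ofHom θ hθ) pC chartC p chart jX)
    (i : Idx u) :
    i.gA p chart ≫ jX =
      sig u hz uh huh θ' hθ' hθι' i ≫ (hatIdx u hz uh i).gA pC chartC := by
  have h1 : ψU θ hθ i.U i.hU ((ι.hom.app (op i.U)).hom i.f) = i.f := by
    rw [ψU_apply]; exact θ_ι θ hθι i.U i.f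
  have hG := chart_eq_of_isProjQMap θ hθ jX hjX i.U i.hU i.hd
    ((ι.hom.app (op i.U)).hom i.f) (hz.graded i.U i.hU i.d i.f i.hf) i.f i.hf h1
  have hcomm : ∀ x, (i.ψ.comp (ψU θ hθ i.U i.hU)) x =
      ψU θ' hθ' i.U' i.hU' ((hatIdx u hz uh i).ψ x) := by
    intro x
    change i.ψ (ψU θ hθ i.U i.hU x) = _
    rw [ψU_apply, ψU_apply]
    exact appLE_θ u hz hz' uh huh huhz θ hθι hθz θ' hθι' hθz' i.U i.hU i.U' i.hU' i.hle x
  have e1 := mapTo_comp (ψU θ hθ i.U i.hU) i.ψ (i.ψ.comp (ψU θ hθ i.U i.hU)) (fun _ => rfl)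
    ((ι.hom.app (op i.U)).hom i.f) i.f (i.ψ i.f) h1 rfl
  have e2 := mapTo_comp (hatIdx u hz uh i).ψ (ψU θ' hθ' i.U' i.hU')
    (i.ψ.comp (ψU θ hθ i.U i.hU)) hcomm
    ((ι.hom.app (op i.U)).hom i.f) ((hatIdx u hz uh i).ψ (hatIdx u hz uh i).f) (i.ψ i.f) rfl
    (ψ'_hat u hz uh huh θ' hθ' hθι' i)
  unfold Idx.gA sig
  simp only [Category.assoc]
  rw [hG, ← Spec.map_comp_assoc, ← Spec.map_comp_assoc, ← CommRingCat.ofHom_comp,
    ← CommRingCat.ofHom_comp]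
  congr 3
  exact e1.trans e2.symm

include hz huh hθι' in
theorem image_domQ_subset (jX' : P' ⟶ PC')
    (hjX' : RelProj.IsProjQMap (RelProj.QGrHom.ofHom θ' hθ') pC' chartC' p' chart' jX') :
    jX'.base '' ((RelProj.domQ u p' chart' : P'.Opens) : Set P') ⊆
      ((RelProj.domQ uh pC' chartC' : PC'.Opens) : Set PC') := by
  rintro _ ⟨x', hx', rfl⟩
  obtain ⟨i, w, hw⟩ := exists_mem_range_c p' chart'
    (⟨x', hx'⟩ : ((RelProj.domQ u p' chart' : P'.Opens) : Scheme.{u}))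
  have h1 : x' = (i.cB p' chart').base w := by
    have := congrArg (fun t => (RelProj.domQ u p' chart').ι.base t) hw
    simp only at this
    rw [← Scheme.Hom.comp_apply, Idx.c_fac] at this
    exact this.symm
  have h2 : jX'.base x' = ((hatIdx u hz uh i).cB pC' chartC').base
      ((sig u hz uh huh θ' hθ' hθι' i).base w) := by
    rw [h1, ← Scheme.Hom.comp_apply, cB_comp u hz uh huh θ' hθ' hθι' jX' hjX' i,
      Scheme.Hom.comp_apply]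
  rw [h2]
  have h3 := RelProj.range_awayEmb_subset_domQ uh pC' chartC' i.U i.hU i.U' i.hU' i.hle i.hd
    ((ι.hom.app (op i.U)).hom i.f) (hz.graded i.U i.hU i.d i.f i.hf)
  rw [Scheme.Opens.range_ι] at h3
  exact h3 ⟨_, rfl⟩

include hz hz' huh huhz hθι hθz hθι' hθz' in
theorem comp_eq
    (Φh : ((RelProj.domQ uh pC' chartC' : PC'.Opens) : Scheme.{u}) ⟶ PC)
    (hΦh : RelProj.IsProjQMapOn uh pC chartC pC' chartC' (RelProj.domQ uh pC' chartC') Φh)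
    (Φ : ((RelProj.domQ u p' chart' : P'.Opens) : Scheme.{u}) ⟶ P)
    (hΦ : RelProj.IsProjQMapOn u p chart p' chart' (RelProj.domQ u p' chart') Φ)
    (jX : P ⟶ PC)
    (hjX : RelProj.IsProjQMap (RelProj.QGrHom.ofHom θ hθ) pC chartC p chart jX)
    (jX' : P' ⟶ PC')
    (hjX' : RelProj.IsProjQMap (RelProj.QGrHom.ofHom θ' hθ') pC' chartC' p' chart' jX')
    (T : Scheme.{u}) (d : T ⟶ ((RelProj.domQ u p' chart' : P'.Opens) : Scheme.{u}))
    (e : T ⟶ ((RelProj.domQ uh pC' chartC' : PC'.Opens) : Scheme.{u}))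
    (hde : d ≫ (RelProj.domQ u p' chart').ι ≫ jX' = e ≫ (RelProj.domQ uh pC' chartC').ι) :
    e ≫ Φh = d ≫ Φ ≫ jX := by
  refine hom_ext_of_covers _ _ (fun t => ?_)
  obtain ⟨i, hi⟩ := exists_mem_range_c p' chart' (d.base t)
  let V : T.Opens := d ⁻¹ᵁ (i.c p' chart').opensRange
  have hV : Set.range (V.ι ≫ d).base ⊆ Set.range (i.c p' chart').base := by
    rintro _ ⟨v, rfl⟩
    exact v.2
  let dt : (V : Scheme.{u}) ⟶ i.X := IsOpenImmersion.lift (i.c p' chart') (V.ι ≫ d) hV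
  have hdt : dt ≫ i.c p' chart' = V.ι ≫ d := IsOpenImmersion.lift_fac _ _ _
  refine ⟨V, V.ι, inferInstance, ?_, ?_⟩
  · rw [Scheme.Opens.range_ι]
    exact hi
  · have hR : V.ι ≫ d ≫ Φ ≫ jX =
        dt ≫ sig u hz uh huh θ' hθ' hθι' i ≫ (hatIdx u hz uh i).gA pC chartC := by
      rw [← Category.assoc, ← hdt, Category.assoc, ← Category.assoc (i.c p' chart'),
        c_comp u Φ hΦ i, gA_comp u hz hz' uh huh huhz θ hθ hθι hθz θ' hθ' hθι' hθz' jX hjX i]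
    have hL0 : V.ι ≫ e = dt ≫ sig u hz uh huh θ' hθ' hθι' i ≫
        (hatIdx u hz uh i).c pC' chartC' := by
      rw [← cancel_mono (RelProj.domQ uh pC' chartC').ι]
      simp only [Category.assoc]
      rw [← hde, Idx.c_fac, ← cB_comp u hz uh huh θ' hθ' hθι' jX' hjX' i, ← Idx.c_fac,
        Category.assoc, ← Category.assoc dt, hdt]
      simp only [Category.assoc]
    rw [hR, ← Category.assoc, hL0]
    simp only [Category.assoc]
    rw [c_comp uh Φh hΦh (hatIdx u hz uh i)]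

end Groth.Agent.Lib.Helper3.ConeInfFun
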