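import Groth.Agent.Lib.Helper8.NormCompA
import Groth.Agent.Lib.Helper3.SymLocal
import Groth.Agent.Lib.Helper3.InvGen
import Groth.Prelude.Def_RelSpec
import Groth.Prelude.Def_Pic

/-!
# Integrality and normality of `Spec_Y ((f ∘ π)_* O_V)` for a line bundle `V → X` (EGA II 8.8.6)
-/

set_option autoImplicit false
set_option linter.style.haveILetI false
set_option linter.unusedSectionVars false
universe u
open CategoryTheory CategoryTheory.Limits AlgebraicGeometry TopologicalSpace Opposite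
open Scheme.Modules

namespace Groth.Agent.Lib.Helper3.ConeNormal

open Groth.Agent.Lib.Helper3 Groth.Agent.Lib.Helper8.NormCompA
open QCSec InvGen SymSheaf

/-! ### topology -/

section Top

variable {α : Type*} [TopologicalSpace α]

theorem isPreirreducible_iUnion {ι : Type*} (U : ι → Set α)
    (hopen : ∀ i, IsOpen (U i)) (hirr : ∀ i, IsPreirreducible (U i))
    (hmeet : ∀ i j, (U i ∩ U j).Nonempty) : IsPreirreducible (⋃ i, U i) := by
  rintro u v hu hv ⟨a, ha, hau⟩ ⟨b, hb, hbv⟩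
  obtain ⟨i, hai⟩ := Set.mem_iUnion.1 ha
  obtain ⟨j, hbj⟩ := Set.mem_iUnion.1 hb
  obtain ⟨c, hci, hcu, hcj⟩ := hirr i u (U j) hu (hopen j) ⟨a, hai, hau⟩ (hmeet i j)
  obtain ⟨d, hdj, hdu, hdv⟩ := hirr j u v hu hv ⟨c, hcj, hcu⟩ ⟨b, hbj, hbv⟩
  exact ⟨d, Set.mem_iUnion.2 ⟨j, hdj⟩, hdu, hdv⟩

theorem isIrreducible_iSup {ι : Type*} [Nonempty ι] (U : ι → Opens α)
    (hirr : ∀ i, IsIrreducible (U i : Set α))
    (hmeet : ∀ i j, ((U i : Set α) ∩ (U j : Set α)).Nonempty) :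
    IsIrreducible ((⨆ i, U i : Opens α) : Set α) := by
  rw [Opens.coe_iSup]
  refine ⟨?_, isPreirreducible_iUnion _ (fun i => (U i).isOpen)
    (fun i => (hirr i).isPreirreducible) hmeet⟩
  obtain ⟨i⟩ := ‹Nonempty ι›
  obtain ⟨x, hx⟩ := (hirr i).nonempty
  exact ⟨x, Set.mem_iUnion.2 ⟨i, hx⟩⟩

theorem isIrreducible_of_le {U O : Opens α} (hO : IsIrreducible (O : Set α)) (h : U ≤ O)
    (hne : (U : Set α).Nonempty) : IsIrreducible (U : Set α) :=
  ⟨hne, hO.isPreirreducible.open_subset U.isOpen (fun _ hx => h hx)⟩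

theorem inter_nonempty_of_irr {O U U' : Opens α} (hO : IsIrreducible (O : Set α)) (h : U ≤ O)
    (h' : U' ≤ O) (hne : (U : Set α).Nonempty) (hne' : (U' : Set α).Nonempty) :
    ((U : Set α) ∩ (U' : Set α)).Nonempty := by
  obtain ⟨a, ha⟩ := hne
  obtain ⟨b, hb⟩ := hne'
  obtain ⟨c, -, hcu, hcu'⟩ := hO.isPreirreducible U U' U.isOpen U'.isOpen ⟨a, h ha, ha⟩
    ⟨b, h' hb, hb⟩
  exact ⟨c, hcu, hcu'⟩

end Top

/-! ### generalities on schemes -/

theorem isDomain_sections {X : Scheme.{u}} [IsReduced X] (U : X.Opens)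
    (hU : IsIrreducible (U : Set X)) : IsDomain Γ(X, U) := by
  haveI : IrreducibleSpace ↥(U : Scheme.{u}) := isIrreducible_iff_irreducibleSpace.mp hU
  haveI : IsReduced (U : Scheme.{u}) := isReduced_of_isOpenImmersion U.ι
  haveI : IsIntegral (U : Scheme.{u}) := isIntegral_of_irreducibleSpace_of_isReduced _
  obtain ⟨y, hy⟩ := hU.1
  haveI : Nonempty ↥((⊤ : (U : Scheme.{u}).Opens) : Scheme.{u}) := ⟨⟨⟨y, hy⟩, trivial⟩⟩
  let e : Γ(U, ⊤) ≃+* Γ(X, U) := U.topIso.commRingCatIsoToRingEquiv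
  exact e.symm.toMulEquiv.isDomain _

theorem isNormalScheme_of_affine (X : Scheme.{u}) [IsAffine X] [IsIntegral X]
    (hic : ∀ [IsDomain Γ(X, ⊤)], IsIntegrallyClosed Γ(X, ⊤)) : Pi1.IsNormalScheme X := by
  intro x
  haveI : Nonempty (⊤ : X.Opens) := ⟨⟨x, trivial⟩⟩
  haveI : IsDomain Γ(X, ⊤) := inferInstance
  haveI : IsIntegrallyClosed Γ(X, ⊤) := hic
  letI := TopCat.Presheaf.algebra_section_stalk X.presheaf
    (⟨x, trivial⟩ : ↥(⊤ : X.Opens))
  haveI hloc : IsLocalization.AtPrime (X.presheaf.stalk x)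
      ((isAffineOpen_top X).primeIdealOf ⟨x, trivial⟩).asIdeal :=
    (isAffineOpen_top X).isLocalization_stalk ⟨x, trivial⟩
  have hle : ((isAffineOpen_top X).primeIdealOf ⟨x, trivial⟩).asIdeal.primeCompl ≤
      nonZeroDivisors Γ(X, ⊤) := by
    intro a ha
    rw [mem_nonZeroDivisors_iff_ne_zero]
    rintro rfl
    exact ha (Ideal.zero_mem _)
  exact ⟨IsLocalization.isDomain_of_le_nonZeroDivisors (X.presheaf.stalk x) hle,
    isIntegrallyClosed_of_isLocalization (S := X.presheaf.stalk x) _ hle⟩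

theorem isNormalScheme_Spec (R : CommRingCat.{u}) [IsDomain R] [IsIntegrallyClosed R] :
    Pi1.IsNormalScheme (Spec R) := by
  apply isNormalScheme_of_affine
  intro _
  exact IsIntegrallyClosed.of_equiv (Scheme.ΓSpecIso R).commRingCatIsoToRingEquiv.symm

theorem normal_stalk_of_isOpenImmersion {T V : Scheme.{u}} (j : T ⟶ V) [IsOpenImmersion j]
    (hT : Pi1.IsNormalScheme T) (t : T) :
    IsDomain (V.presheaf.stalk (j t)) ∧ IsIntegrallyClosed (V.presheaf.stalk (j t)) := by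
  let e : V.presheaf.stalk (j t) ≃+* T.presheaf.stalk t :=
    (asIso (j.stalkMap t)).commRingCatIsoToRingEquiv
  haveI := (hT t).1
  haveI := (hT t).2
  exact ⟨e.toMulEquiv.isDomain _, IsIntegrallyClosed.of_equiv e.symm⟩

theorem isReduced_of_charts (V : Scheme.{u})
    (h : ∀ v : V, ∃ (R : CommRingCat.{u}) (j : Spec R ⟶ V), IsOpenImmersion j ∧
      v ∈ Set.range j ∧ _root_.IsReduced R) : IsReduced V := by
  haveI : ∀ v : V, _root_.IsReduced (V.presheaf.stalk v) := by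
    intro v
    obtain ⟨R, j, hj, ⟨t, rfl⟩, hR⟩ := h v
    haveI := hR
    haveI := hj
    let e : V.presheaf.stalk (j t) ≃+* (Spec R).presheaf.stalk t :=
      (asIso (j.stalkMap t)).commRingCatIsoToRingEquiv
    haveI : _root_.IsReduced ((Spec R).presheaf.stalk t) := inferInstance
    exact isReduced_of_injective e e.injective
  exact isReduced_of_isReduced_stalk V

/-! ### the symmetric algebra of an invertible module, locally -/

section Sym

variable {X : Scheme.{u}} {L : X.Modules} [L.IsQuasicoherent] {𝒜 : RelSpec.QCAlg X}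
  {jL : L ⟶ 𝒜.toModule}

theorem exists_equiv_polynomial (hA : RelSpec.IsSymAlg L 𝒜 jL) {U : X.Opens}
    (hU : IsAffineOpen U) {e : Γ(L, U)} (he : IsGenAt L U e) :
    Nonempty (𝒜.presheaf.obj (op U) ≃+* Polynomial Γ(X, U)) := by
  obtain ⟨κ, -, -⟩ := SymLocal.exists_equiv hA ⟨U, hU⟩
  let φ : Γ(X, U) →ₗ[Γ(X, U)] Γ(L, U) :=
    { toFun := fun a => a • e
      map_add' := fun a b => add_smul a b e
      map_smul' := fun a b => by
        simp only [smul_eq_mul, RingHom.id_apply]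
        exact mul_smul a b e }
  have hφ : Function.Bijective φ := he
  let eqv : Γ(X, U) ≃ₗ[Γ(X, U)] Γ(L, U) := LinearEquiv.ofBijective φ hφ
  let b : Module.Basis Unit Γ(X, U) Γ(L, U) := (Module.Basis.singleton Unit Γ(X, U)).map eqv
  exact ⟨κ.trans ((SymmetricAlgebra.equivMvPolynomial b).toRingEquiv.trans
    (MvPolynomial.uniqueAlgEquiv Γ(X, U) Unit).toRingEquiv)⟩

variable (hL : PicF.IsInvertible L) (hA : RelSpec.IsSymAlg L 𝒜 jL)

include hL hA

theorem isIrreducible_preimage [IsReduced X] (O : X.Opens) (hO : IsIrreducible (O : Set X)) :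
    IsIrreducible ((𝒜.π ⁻¹ᵁ O : 𝒜.spec.Opens) : Set 𝒜.spec) := by
  let I := {U : X.Opens // IsAffineOpen U ∧ U ≤ O ∧ (U : Set X).Nonempty ∧
    ∃ e : Γ(L, U), IsGen L U e}
  have hdom : ∀ i : I, IsDomain (𝒜.presheaf.obj (op i.1)) := by
    rintro ⟨U, hU, hUO, hne, e, he⟩
    haveI := isDomain_sections U (isIrreducible_of_le hO hUO hne)
    obtain ⟨κ⟩ := exists_equiv_polynomial hA hU he.self
    exact κ.toMulEquiv.isDomain _
  have hirr : ∀ i : I, IsIrreducible ((𝒜.π ⁻¹ᵁ i.1 : 𝒜.spec.Opens) : Set 𝒜.spec) := by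
    intro i
    haveI := hdom i
    rw [𝒜.π_preimage i.1 i.2.1, Scheme.Hom.coe_opensRange, ← Set.image_univ]
    exact (IrreducibleSpace.isIrreducible_univ _).image _
      (𝒜.ι i.1 i.2.1).continuous.continuousOn
  have hcov : (𝒜.π ⁻¹ᵁ O : 𝒜.spec.Opens) = ⨆ i : I, 𝒜.π ⁻¹ᵁ i.1 := by
    apply le_antisymm
    · intro v hv
      obtain ⟨U, e, hU, hxU, hUO, he⟩ := exists_affine_isGen_le hL (𝒜.π v) O hv
      exact Opens.mem_iSup.2 ⟨⟨U, hU, hUO, ⟨_, hxU⟩, e, he⟩, hxU⟩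
    · exact iSup_le fun i => 𝒜.π.preimage_mono i.2.2.1
  have hmeet : ∀ i j : I, (((𝒜.π ⁻¹ᵁ i.1 : 𝒜.spec.Opens) : Set 𝒜.spec) ∩
      ((𝒜.π ⁻¹ᵁ j.1 : 𝒜.spec.Opens) : Set 𝒜.spec)).Nonempty := by
    intro i j
    obtain ⟨x, hxi, hxj⟩ := inter_nonempty_of_irr hO i.2.2.1 j.2.2.1 i.2.2.2.1 j.2.2.2.1
    obtain ⟨U, e, hU, hxU, hUle, he⟩ := exists_affine_isGen_le hL x (i.1 ⊓ j.1) ⟨hxi, hxj⟩
    let k : I := ⟨U, hU, hUle.trans (inf_le_left.trans i.2.2.1), ⟨x, hxU⟩, e, he⟩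
    obtain ⟨v, hv⟩ := (hirr k).nonempty
    exact ⟨v, 𝒜.π.preimage_mono (hUle.trans inf_le_left) hv,
      𝒜.π.preimage_mono (hUle.trans inf_le_right) hv⟩
  obtain ⟨x, hx⟩ := hO.nonempty
  obtain ⟨U, e, hU, hxU, hUO, he⟩ := exists_affine_isGen_le hL x O hx
  haveI : Nonempty I := ⟨⟨U, hU, hUO, ⟨x, hxU⟩, e, he⟩⟩
  rw [hcov]
  exact isIrreducible_iSup _ hirr hmeet

theorem isReduced_spec [IsReduced X]
    (hloc : ∀ x : X, ∃ U : X.Opens, x ∈ U ∧ IsIrreducible (U : Set X)) :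
    IsReduced 𝒜.spec := by
  apply isReduced_of_charts
  intro v
  obtain ⟨U₀, hxU₀, hU₀⟩ := hloc (𝒜.π v)
  obtain ⟨U, e, hU, hxU, hUle, he⟩ := exists_affine_isGen_le hL (𝒜.π v) U₀ hxU₀
  haveI := isDomain_sections U (isIrreducible_of_le hU₀ hUle ⟨_, hxU⟩)
  obtain ⟨κ⟩ := exists_equiv_polynomial hA hU he.self
  haveI : IsDomain (𝒜.presheaf.obj (op U)) := κ.toMulEquiv.isDomain _
  refine ⟨𝒜.presheaf.obj (op U), 𝒜.ι U hU, inferInstance, ?_, inferInstance⟩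
  have hv : v ∈ 𝒜.π ⁻¹ᵁ U := hxU
  rw [𝒜.π_preimage U hU] at hv
  exact hv

theorem isNormalScheme_spec (hX : Pi1.IsNormalScheme X)
    (hloc : ∀ x : X, ∃ U : X.Opens, x ∈ U ∧ IsIrreducible (U : Set X)) :
    Pi1.IsNormalScheme 𝒜.spec := by
  intro v
  obtain ⟨U₀, hxU₀, hU₀⟩ := hloc (𝒜.π v)
  obtain ⟨U, e, hU, hxU, hUle, he⟩ := exists_affine_isGen_le hL (𝒜.π v) U₀ hxU₀
  obtain ⟨hd, hic⟩ := sections_normal hX U (isIrreducible_of_le hU₀ hUle ⟨_, hxU⟩)
  haveI := hd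
  haveI := hic
  obtain ⟨κ⟩ := exists_equiv_polynomial hA hU he.self
  haveI : IsDomain (𝒜.presheaf.obj (op U)) := κ.toMulEquiv.isDomain _
  haveI : IsIntegrallyClosed (𝒜.presheaf.obj (op U)) := IsIntegrallyClosed.of_equiv κ.symm
  have hN := isNormalScheme_Spec (𝒜.presheaf.obj (op U))
  have hv : v ∈ 𝒜.π ⁻¹ᵁ U := hxU
  rw [𝒜.π_preimage U hU] at hv
  obtain ⟨t, rfl⟩ := hv
  exact normal_stalk_of_isOpenImmersion (𝒜.ι U hU) hN t

end Sym

/-! ### the relative spectrum of a direct image algebra -/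

section DirectImage

variable {V Y : Scheme.{u}} (g : V ⟶ Y) [QuasiCompact g] [QuasiSeparated g]



theorem isNormalScheme_directImage_spec (hV : Pi1.IsNormalScheme V)
    (hW : ∀ y : Y, ∃ W : Y.Opens, IsAffineOpen W ∧ y ∈ W ∧
      IsIrreducible ((g ⁻¹ᵁ W : V.Opens) : Set V)) :
    Pi1.IsNormalScheme (RelSpec.QCAlg.directImage g).spec := by
  intro c
  obtain ⟨W, hWa, hyW, hirr⟩ := hW ((RelSpec.QCAlg.directImage g).π c)
  obtain ⟨hd, hic⟩ := sections_normal hV (g ⁻¹ᵁ W) hirr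
  haveI : IsDomain ((RelSpec.QCAlg.directImage g).presheaf.obj (op W)) := hd
  haveI : IsIntegrallyClosed ((RelSpec.QCAlg.directImage g).presheaf.obj (op W)) := hic
  have hN := isNormalScheme_Spec ((RelSpec.QCAlg.directImage g).presheaf.obj (op W))
  have hc : c ∈ (RelSpec.QCAlg.directImage g).π ⁻¹ᵁ W := hyW
  rw [(RelSpec.QCAlg.directImage g).π_preimage W hWa] at hc
  obtain ⟨t, rfl⟩ := hc
  exact normal_stalk_of_isOpenImmersion ((RelSpec.QCAlg.directImage g).ι W hWa) hN t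

theorem isIntegral_directImage_spec [IsIntegral V] :
    IsIntegral (RelSpec.QCAlg.directImage g).spec := by
  haveI : IsReduced (RelSpec.QCAlg.directImage g).spec := by
    apply isReduced_of_charts
    intro c
    obtain ⟨W, hWa, hyW, -⟩ := exists_isAffineOpen_mem_and_subset (x := (RelSpec.QCAlg.directImage g).π c) (U := ⊤) trivial
    refine ⟨(RelSpec.QCAlg.directImage g).presheaf.obj (op W), (RelSpec.QCAlg.directImage g).ι W hWa, inferInstance, ?_, ?_⟩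
    · have hc : c ∈ (RelSpec.QCAlg.directImage g).π ⁻¹ᵁ W := hyW
      rw [(RelSpec.QCAlg.directImage g).π_preimage W hWa] at hc
      exact hc
    · show _root_.IsReduced Γ(V, g ⁻¹ᵁ W)
      infer_instance
  haveI : IrreducibleSpace (RelSpec.QCAlg.directImage g).spec := by
    let J := {W : Y.Opens // IsAffineOpen W ∧ ((g ⁻¹ᵁ W : V.Opens) : Set V).Nonempty}
    have hdom : ∀ j : J, IsDomain ((RelSpec.QCAlg.directImage g).presheaf.obj (op j.1)) := by
      intro j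
      haveI : Nonempty ↥((g ⁻¹ᵁ j.1 : V.Opens) : Scheme.{u}) := by
        obtain ⟨v, hv⟩ := j.2.2
        exact ⟨⟨v, hv⟩⟩
      show IsDomain Γ(V, g ⁻¹ᵁ j.1)
      infer_instance
    have hirr : ∀ j : J, IsIrreducible (((RelSpec.QCAlg.directImage g).π ⁻¹ᵁ j.1 : (RelSpec.QCAlg.directImage g).spec.Opens) : Set (RelSpec.QCAlg.directImage g).spec) := by
      intro j
      haveI := hdom j
      rw [(RelSpec.QCAlg.directImage g).π_preimage j.1 j.2.1, Scheme.Hom.coe_opensRange, ← Set.image_univ]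
      exact (IrreducibleSpace.isIrreducible_univ _).image _
        ((RelSpec.QCAlg.directImage g).ι j.1 j.2.1).continuous.continuousOn
    have hcov : (⊤ : (RelSpec.QCAlg.directImage g).spec.Opens) = ⨆ j : J, (RelSpec.QCAlg.directImage g).π ⁻¹ᵁ j.1 := by
      apply le_antisymm _ le_top
      intro c _
      obtain ⟨W, hWa, hyW, -⟩ :=
        exists_isAffineOpen_mem_and_subset (x := (RelSpec.QCAlg.directImage g).π c) (U := ⊤) trivial
      have hc : c ∈ (RelSpec.QCAlg.directImage g).π ⁻¹ᵁ W := hyW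
      have hc' := hc
      rw [(RelSpec.QCAlg.directImage g).π_preimage W hWa] at hc'
      obtain ⟨t, -⟩ := hc'
      have hne : ((g ⁻¹ᵁ W : V.Opens) : Set V).Nonempty := by
        by_contra hemp
        have hbot : g ⁻¹ᵁ W = ⊥ :=
          Opens.ext (by rw [Opens.coe_bot]; exact Set.not_nonempty_iff_eq_empty.1 hemp)
        haveI : Subsingleton Γ(V, g ⁻¹ᵁ W) := by rw [hbot]; infer_instance
        let t' : PrimeSpectrum Γ(V, g ⁻¹ᵁ W) := t
        have h1 : (1 : Γ(V, g ⁻¹ᵁ W)) ∈ t'.asIdeal := by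
          rw [Subsingleton.elim (1 : Γ(V, g ⁻¹ᵁ W)) 0]
          exact t'.asIdeal.zero_mem
        exact t'.isPrime.ne_top ((Ideal.eq_top_iff_one _).2 h1)
      exact Opens.mem_iSup.2 ⟨⟨W, hWa, hne⟩, hc⟩
    have hmeet : ∀ i j : J, ((((RelSpec.QCAlg.directImage g).π ⁻¹ᵁ i.1 : (RelSpec.QCAlg.directImage g).spec.Opens) : Set (RelSpec.QCAlg.directImage g).spec) ∩
        (((RelSpec.QCAlg.directImage g).π ⁻¹ᵁ j.1 : (RelSpec.QCAlg.directImage g).spec.Opens) : Set (RelSpec.QCAlg.directImage g).spec)).Nonempty := by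
      intro i j
      obtain ⟨v, hvi, hvj⟩ : (((g ⁻¹ᵁ i.1 : V.Opens) : Set V) ∩
          ((g ⁻¹ᵁ j.1 : V.Opens) : Set V)).Nonempty :=
        nonempty_preirreducible_inter (g ⁻¹ᵁ i.1).isOpen (g ⁻¹ᵁ j.1).isOpen i.2.2 j.2.2
      obtain ⟨W, hWa, hyW, hWle⟩ :=
        exists_isAffineOpen_mem_and_subset (x := g v) (U := i.1 ⊓ j.1) ⟨hvi, hvj⟩
      let k : J := ⟨W, hWa, ⟨v, hyW⟩⟩
      obtain ⟨c, hc⟩ := (hirr k).nonempty
      have hWle' : W ≤ i.1 ⊓ j.1 := hWle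
      exact ⟨c, (RelSpec.QCAlg.directImage g).π.preimage_mono (hWle'.trans inf_le_left) hc,
        (RelSpec.QCAlg.directImage g).π.preimage_mono (hWle'.trans inf_le_right) hc⟩
    haveI : Nonempty J := by
      obtain ⟨v⟩ := (inferInstance : Nonempty V)
      obtain ⟨W, hWa, hyW, -⟩ := exists_isAffineOpen_mem_and_subset (x := g v) (U := ⊤) trivial
      exact ⟨⟨W, hWa, ⟨v, hyW⟩⟩⟩
    have h := isIrreducible_iSup (fun j : J => (RelSpec.QCAlg.directImage g).π ⁻¹ᵁ j.1) hirr hmeet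
    rw [← hcov, Opens.coe_top] at h
    exact (irreducibleSpace_def _).2 h
  exact isIntegral_of_irreducibleSpace_of_isReduced _

end DirectImage

/-! ### decomposition of a quasi-compact locally irreducible open -/

theorem exists_idempotents {X : Scheme.{u}} (Z : X.Opens) (hZ : IsCompact (Z : Set X))
    (hloc : ∀ x : X, ∃ U : X.Opens, x ∈ U ∧ IsIrreducible (U : Set X)) :
    ∃ (ι : Type u) (_ : Fintype ι) (e : ι → Γ(X, Z)),
      (∀ i, IsIrreducible ((X.basicOpen (e i) : X.Opens) : Set X)) ∧ ∏ i, (1 - e i) = 0 := by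
  classical
  have hloc' : ∀ x : Z, ∃ U : X.Opens, x.1 ∈ U ∧ U ≤ Z ∧ IsIrreducible (U : Set X) := by
    intro x
    obtain ⟨U, hxU, hU⟩ := hloc x.1
    exact ⟨U ⊓ Z, ⟨hxU, x.2⟩, inf_le_right, isIrreducible_of_le hU inf_le_left ⟨x.1, hxU, x.2⟩⟩
  choose U hxU hUZ hU using hloc'
  obtain ⟨t, ht⟩ := hZ.elim_finite_subcover (fun x : Z => (U x : Set X)) (fun x => (U x).isOpen)
    (fun x hx => Set.mem_iUnion.2 ⟨⟨x, hx⟩, hxU ⟨x, hx⟩⟩)
  let Ui : ↥t → X.Opens := fun i => U i.1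
  have hcovZ : Z ≤ ⨆ i : ↥t, Ui i := by
    intro x hx
    obtain ⟨i, hi⟩ := Set.mem_iUnion.1 (ht hx)
    obtain ⟨hit, hxi⟩ := Set.mem_iUnion.1 hi
    exact Opens.mem_iSup.2 ⟨⟨i, hit⟩, hxi⟩
  let T : ↥t → X.Opens := fun i =>
    ⨆ j : {j : ↥t // ((Ui j : Set X) ∩ (Ui i : Set X)).Nonempty}, Ui j.1
  let T' : ↥t → X.Opens := fun i =>
    ⨆ j : {j : ↥t // ¬ ((Ui j : Set X) ∩ (Ui i : Set X)).Nonempty}, Ui j.1
  have hT : ∀ i, T i ≤ Z := fun i => iSup_le fun j => hUZ _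
  have hT' : ∀ i, T' i ≤ Z := fun i => iSup_le fun j => hUZ _
  have hd : ∀ i, T i ⊓ T' i = ⊥ := by
    intro i
    rw [eq_bot_iff]
    rintro x ⟨hx1, hx2⟩
    obtain ⟨⟨j, hj⟩, hxj⟩ := Opens.mem_iSup.1 hx1
    obtain ⟨⟨k, hk⟩, hxk⟩ := Opens.mem_iSup.1 hx2
    obtain ⟨c, -, hci, hck⟩ := (hU j.1).isPreirreducible (Ui i) (Ui k) (Ui i).isOpen
      (Ui k).isOpen hj ⟨x, hxj, hxk⟩
    exact (hk ⟨c, hck, hci⟩).elim
  have hc : ∀ i, Z ≤ T i ⊔ T' i := by
    intro i x hx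
    obtain ⟨j, hxj⟩ := Opens.mem_iSup.1 (hcovZ hx)
    by_cases hj : ((Ui j : Set X) ∩ (Ui i : Set X)).Nonempty
    · exact Or.inl (Opens.mem_iSup.2 ⟨⟨j, hj⟩, hxj⟩)
    · exact Or.inr (Opens.mem_iSup.2 ⟨⟨j, hj⟩, hxj⟩)
  have hex : ∀ i : ↥t, ∃ e : Γ(X, Z), X.presheaf.map (homOfLE (hT i)).op e = 1 ∧
      X.basicOpen e = T i := by
    intro i
    obtain ⟨e, -, h1, -, hb, -⟩ := exists_idempotent Z (T i) (T' i) (hT i) (hT' i) (hd i) (hc i)
    exact ⟨e, h1, hb⟩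
  choose e he1 heb using hex
  have hRii : ∀ i : ↥t, ((Ui i : Set X) ∩ (Ui i : Set X)).Nonempty := by
    intro i
    obtain ⟨x, hx⟩ := (hU i.1).nonempty
    exact ⟨x, hx, hx⟩
  refine ⟨↥t, inferInstance, e, ?_, ?_⟩
  · intro i
    rw [heb i]
    haveI : Nonempty {j : ↥t // ((Ui j : Set X) ∩ (Ui i : Set X)).Nonempty} := ⟨⟨i, hRii i⟩⟩
    apply isIrreducible_iSup
      (fun j : {j : ↥t // ((Ui j : Set X) ∩ (Ui i : Set X)).Nonempty} => Ui j.1)
      (fun j => hU j.1.1)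
    intro j k
    obtain ⟨a, haj, hai⟩ := j.2
    obtain ⟨b, hbk, hbi⟩ := k.2
    obtain ⟨c, -, hcj, hck⟩ := (hU i.1).isPreirreducible (Ui j.1) (Ui k.1) (Ui j.1).isOpen
      (Ui k.1).isOpen ⟨a, hai, haj⟩ ⟨b, hbi, hbk⟩
    exact ⟨c, hcj, hck⟩
  · apply fun_eq_of_locally_eq Ui Z (fun i => hUZ i.1) hcovZ
    intro i
    show (X.presheaf.map (homOfLE (hUZ i.1)).op).hom (∏ k, (1 - e k)) =
      (X.presheaf.map (homOfLE (hUZ i.1)).op).hom 0
    rw [map_prod, map_zero]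
    apply Finset.prod_eq_zero (Finset.mem_univ i)
    rw [map_sub, map_one, sub_eq_zero]
    have hle : Ui i ≤ T i :=
      le_iSup_of_le (⟨i, hRii i⟩ : {j : ↥t // ((Ui j : Set X) ∩ (Ui i : Set X)).Nonempty}) le_rfl
    have h2 := rres_rres (X := X) hle (hT i) (e i)
    have h3 : rres X (hT i) (e i) = 1 := he1 i
    rw [h3] at h2
    have h4 : rres X hle (1 : Γ(X, T i)) = 1 := map_one _
    rw [h4] at h2
    exact h2

/-- If `f_* O_X = O_Y` and `X` is locally irreducible and `f` quasi-compact, every point of `Y`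
has an affine open neighbourhood with irreducible preimage. -/
theorem exists_affine_irreducible_preimage {X Y : Scheme.{u}} (f : X ⟶ Y) [QuasiCompact f]
    (hlam : IsIso f.c)
    (hloc : ∀ x : X, ∃ U : X.Opens, x ∈ U ∧ IsIrreducible (U : Set X)) (y : Y) :
    ∃ W : Y.Opens, IsAffineOpen W ∧ y ∈ W ∧ IsIrreducible ((f ⁻¹ᵁ W : X.Opens) : Set X) := by
  classical
  obtain ⟨W₀, hW₀, hy, -⟩ := exists_isAffineOpen_mem_and_subset (x := y) (U := ⊤) trivial
  obtain ⟨ι, _, e, hirr, hprod⟩ :=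
    exists_idempotents (f ⁻¹ᵁ W₀) (f.isCompact_preimage hW₀.isCompact) hloc
  haveI : IsIso (f.app W₀) := by
    haveI := hlam
    exact NatIso.isIso_app_of_isIso f.c (op W₀)
  let φ : Γ(Y, W₀) ≃+* Γ(X, f ⁻¹ᵁ W₀) := (asIso (f.app W₀)).commRingCatIsoToRingEquiv
  let e' : ι → Γ(Y, W₀) := fun i => φ.symm (e i)
  have hprod' : ∏ i, (1 - e' i) = 0 := by
    apply φ.injective
    rw [map_prod, map_zero, ← hprod]
    apply Finset.prod_congr rfl
    intro i _
    rw [map_sub, map_one, RingEquiv.apply_symm_apply]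
  obtain ⟨i, hi⟩ : ∃ i, y ∈ Y.basicOpen (e' i) := by
    by_contra hno
    push Not at hno
    have hunit : ∀ i, IsUnit ((Y.presheaf.germ W₀ y hy).hom (1 - e' i)) := by
      intro i
      rw [map_sub, map_one]
      apply IsLocalRing.isUnit_one_sub_self_of_mem_nonunits
      rw [mem_nonunits_iff]
      intro hu
      exact hno i ((Y.mem_basicOpen (e' i) y hy).2 hu)
    have h1 : IsUnit ((Y.presheaf.germ W₀ y hy).hom (∏ i, (1 - e' i))) := by
      rw [map_prod]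
      exact IsUnit.prod_univ_iff.2 hunit
    rw [hprod', map_zero] at h1
    exact not_isUnit_zero h1
  refine ⟨Y.basicOpen (e' i), hW₀.basicOpen _, hi, ?_⟩
  rw [Scheme.preimage_basicOpen]
  have h2 : (f.app W₀).hom (e' i) = e i := φ.apply_symm_apply (e i)
  have h3 : X.basicOpen ((ConcreteCategory.hom (f.app W₀)) (e' i)) = X.basicOpen (e i) :=
    congrArg _ h2
  rw [h3]
  exact hirr i

end Groth.Agent.Lib.Helper3.ConeNormal
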