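import Groth.Agent.Lib.Helper3.ProjQGlue

/-!
# Existence and uniqueness of `Spec(u)` for a morphism of quasi-coherent algebras over a morphism
of bases
-/

set_option autoImplicit false
universe u
open CategoryTheory CategoryTheory.Limits AlgebraicGeometry TopologicalSpace Opposite

namespace Groth.Agent.Lib.Helper3.SpecQMap

variable {S S' : Scheme.{u}} {q : S' ⟶ S} {A : RelSpec.QCAlg S} {B : RelSpec.QCAlg S'}

/-- the index of a standard chart -/
structure Idx (u : RelSpec.QHom q A B) where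
  U : S.Opens
  hU : IsAffineOpen U
  U' : S'.Opens
  hU' : IsAffineOpen U'
  hle : U' ≤ q ⁻¹ᵁ U

variable {u : RelSpec.QHom q A B}

/-- the source of the chart -/
noncomputable abbrev Idx.X (i : Idx u) : Scheme.{u} := Spec (B.presheaf.obj (op i.U'))

/-- the chart -/
noncomputable abbrev Idx.c (i : Idx u) : i.X ⟶ B.spec := B.ι i.U' i.hU'

/-- the prescribed morphism on the chart -/
noncomputable abbrev Idx.g (i : Idx u) : i.X ⟶ A.spec :=
  Spec.map (u.appLE i.U i.U' i.hle) ≫ A.ι i.U i.hU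

/-- the chart `k` refines the chart `i` -/
def Ref (k i : Idx u) : Prop :=
  ∃ a : k.X ⟶ i.X, a ≫ i.c = k.c ∧ a ≫ i.g = k.g

theorem Ref.trans {k j i : Idx u} (h1 : Ref k j) (h2 : Ref j i) : Ref k i := by
  obtain ⟨a, ha1, ha2⟩ := h1
  obtain ⟨b, hb1, hb2⟩ := h2
  exact ⟨a ≫ b, by rw [Category.assoc, hb1, ha1], by rw [Category.assoc, hb2, ha2]⟩

theorem mem_range_ι_iff (C : RelSpec.QCAlg S) (U : S.Opens) (hU : IsAffineOpen U) (t : C.spec) :
    t ∈ Set.range (C.ι U hU) ↔ C.π t ∈ U := by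
  have h := C.π_preimage U hU
  constructor
  · intro ht
    have : t ∈ (C.ι U hU).opensRange := ht
    rw [← h] at this
    exact this
  · intro ht
    have : t ∈ C.π ⁻¹ᵁ U := ht
    rw [h] at this
    exact this

/-- shrinking the source affine open to a basic open refines the chart -/
theorem ref_shrink_source (i : Idx u) (V' : S'.Opens) (hV' : IsAffineOpen V') (r : Γ(S', i.U'))
    (e : V' = S'.basicOpen r) :
    Ref ⟨i.U, i.hU, V', hV', (e.le.trans (S'.basicOpen_le r)).trans i.hle⟩ i := by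
  subst e
  refine ⟨Spec.map (B.presheaf.map (homOfLE (S'.basicOpen_le r)).op), ?_, ?_⟩
  · let V0 : S'.AffineZariskiSite := ⟨S'.basicOpen r, hV'⟩
    let U0 : S'.AffineZariskiSite := ⟨i.U', i.hU'⟩
    have hle : V0 ≤ U0 := ⟨r, rfl⟩
    exact B.ι_res (homOfLE hle)
  · change _ ≫ Spec.map (u.appLE i.U i.U' i.hle) ≫ A.ι i.U i.hU =
      Spec.map (u.appLE i.U (S'.basicOpen r) _) ≫ A.ι i.U i.hU
    rw [← Spec.map_comp_assoc, u.appLE_map i.hle (S'.basicOpen_le r)]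

/-- shrinking the target affine open to a basic open refines the chart -/
theorem ref_shrink_target (i : Idx u) (W : S.Opens) (hW : IsAffineOpen W) (s : Γ(S, i.U))
    (e : W = S.basicOpen s) (hle : i.U' ≤ q ⁻¹ᵁ W) :
    Ref ⟨W, hW, i.U', i.hU', hle⟩ i := by
  subst e
  refine ⟨𝟙 _, Category.id_comp _, ?_⟩
  rw [Category.id_comp]
  change Spec.map (u.appLE i.U i.U' i.hle) ≫ A.ι i.U i.hU =
    Spec.map (u.appLE (S.basicOpen s) i.U' hle) ≫ A.ι (S.basicOpen s) hW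
  let V0 : S.AffineZariskiSite := ⟨S.basicOpen s, hW⟩
  let U0 : S.AffineZariskiSite := ⟨i.U, i.hU⟩
  have hle0 : V0 ≤ U0 := ⟨s, rfl⟩
  have h := A.ι_res (homOfLE hle0)
  change Spec.map (A.presheaf.map (homOfLE (S.basicOpen_le s)).op) ≫ A.ι i.U i.hU =
    A.ι (S.basicOpen s) hW at h
  rw [← h, ← Spec.map_comp_assoc, u.map_appLE (S.basicOpen_le s) hle]

/-- two charts have a common refinement around every common point -/
theorem exists_common_ref (i i' : Idx u) (t : B.spec) (h : t ∈ Set.range i.c)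
    (h' : t ∈ Set.range i'.c) :
    ∃ k : Idx u, Ref k i ∧ Ref k i' ∧ t ∈ Set.range k.c := by
  have hptU : B.π t ∈ i.U' := (mem_range_ι_iff B i.U' i.hU' t).1 h
  have hptU' : B.π t ∈ i'.U' := (mem_range_ι_iff B i'.U' i'.hU' t).1 h'
  have hgU : q (B.π t) ∈ i.U := i.hle hptU
  have hgU' : q (B.π t) ∈ i'.U := i'.hle hptU'
  obtain ⟨s, s', hst, hxs⟩ := exists_basicOpen_le_affine_inter i.hU i'.hU (q (B.π t)) ⟨hgU, hgU'⟩
  have hW := i.hU.basicOpen s
  have eU1 := Scheme.basicOpen_appLE q i.U' i.U i.hle s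
  have eU2 := Scheme.basicOpen_appLE q i'.U' i'.U i'.hle s'
  have hU1 := i.hU'.basicOpen (q.appLE i.U i.U' i.hle s)
  have hU2 := i'.hU'.basicOpen (q.appLE i'.U i'.U' i'.hle s')
  have hpt1 : B.π t ∈ S'.basicOpen (q.appLE i.U i.U' i.hle s) := by
    rw [eU1]; exact ⟨hptU, hxs⟩
  have hpt2 : B.π t ∈ S'.basicOpen (q.appLE i'.U i'.U' i'.hle s') := by
    rw [eU2, ← hst]; exact ⟨hptU', hxs⟩
  obtain ⟨b1, b2, hb, hxb⟩ := exists_basicOpen_le_affine_inter hU1 hU2 (B.π t) ⟨hpt1, hpt2⟩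
  have hW' := hU1.basicOpen b1
  have hW'W : S'.basicOpen b1 ≤ q ⁻¹ᵁ S.basicOpen s :=
    (S'.basicOpen_le b1).trans (eU1.le.trans inf_le_right)
  -- the chain for `i`
  let i1 : Idx u := ⟨i.U, i.hU, S'.basicOpen (q.appLE i.U i.U' i.hle s), hU1,
    (S'.basicOpen_le _).trans i.hle⟩
  have r1 : Ref i1 i := ref_shrink_source i _ hU1 (q.appLE i.U i.U' i.hle s) rfl
  let i2 : Idx u := ⟨i.U, i.hU, S'.basicOpen b1, hW', (S'.basicOpen_le b1).trans i1.hle⟩
  have r2 : Ref i2 i1 := ref_shrink_source i1 _ hW' b1 rfl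
  let i3 : Idx u := ⟨S.basicOpen s, hW, S'.basicOpen b1, hW', hW'W⟩
  have r3 : Ref i3 i2 := ref_shrink_target i2 _ hW s rfl hW'W
  -- the chain for `i'`
  let i1' : Idx u := ⟨i'.U, i'.hU, S'.basicOpen (q.appLE i'.U i'.U' i'.hle s'), hU2,
    (S'.basicOpen_le _).trans i'.hle⟩
  have r1' : Ref i1' i' := ref_shrink_source i' _ hU2 (q.appLE i'.U i'.U' i'.hle s') rfl
  let i2' : Idx u := ⟨i'.U, i'.hU, S'.basicOpen b1, hW',
    (hb.le.trans (S'.basicOpen_le b2)).trans i1'.hle⟩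
  have r2' : Ref i2' i1' := ref_shrink_source i1' _ hW' b2 hb
  have r3' : Ref i3 i2' := ref_shrink_target i2' _ hW s' hst hW'W
  refine ⟨i3, r3.trans (r2.trans r1), r3'.trans (r2'.trans r1'), ?_⟩
  exact (mem_range_ι_iff B _ hW' t).2 hxb

theorem exists_mem_range_c (t : B.spec) : ∃ i : Idx u, t ∈ Set.range i.c := by
  obtain ⟨U, hU, hyU, -⟩ := (Opens.isBasis_iff_nbhd.mp S.isBasis_affineOpens)
    (show q (B.π t) ∈ (⊤ : S.Opens) from trivial)
  obtain ⟨U', hU', hyU', hle⟩ := (Opens.isBasis_iff_nbhd.mp S'.isBasis_affineOpens)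
    (show B.π t ∈ q ⁻¹ᵁ U from hyU)
  exact ⟨⟨U, hU, U', hU', hle⟩, (mem_range_ι_iff B U' hU' t).2 hyU'⟩

variable (u)

/-- existence of `Spec(u)` -/
theorem exists_isSpecQMap : ∃ h : B.spec ⟶ A.spec, RelSpec.IsSpecQMap u h := by
  obtain ⟨v, hv⟩ := ProjQGlue.exists_glue_of_refine (fun i : Idx u => i.X) (fun i => i.c)
    exists_mem_range_c (fun i => i.g) (by
      intro i i' z z' hzz
      obtain ⟨k, ⟨a, ha1, ha2⟩, ⟨a', ha1', ha2'⟩, hk⟩ :=
        exists_common_ref i i' (i.c z) ⟨z, rfl⟩ ⟨z', hzz.symm⟩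
      exact ⟨k, a, a', ha1, ha1', ha2, ha2', hk⟩)
  exact ⟨v, fun U hU U' hU' hle => hv ⟨U, hU, U', hU', hle⟩⟩

variable {u}

theorem eq_of_isSpecQMap (v v' : B.spec ⟶ A.spec) (hv : RelSpec.IsSpecQMap u v)
    (hv' : RelSpec.IsSpecQMap u v') : v = v' := by
  refine ProjQMapOn.hom_ext_of_covers _ _ (fun t => ?_)
  obtain ⟨i, hi⟩ := exists_mem_range_c (u := u) t
  refine ⟨_, i.c, inferInstance, hi, ?_⟩
  exact (hv i.U i.hU i.U' i.hU' i.hle).trans (hv' i.U i.hU i.U' i.hU' i.hle).symm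

theorem g_comp_π (i : Idx u) : i.g ≫ A.π = i.c ≫ B.π ≫ q := by
  change (Spec.map (u.appLE i.U i.U' i.hle) ≫ A.ι i.U i.hU) ≫ A.π = B.ι i.U' i.hU' ≫ B.π ≫ q
  rw [Category.assoc, A.ι_π, ← Category.assoc (B.ι i.U' i.hU'), B.ι_π, Category.assoc,
    ← IsAffineOpen.SpecMap_appLE_fromSpec q i.hU i.hU' i.hle, ← Spec.map_comp_assoc,
    ← Spec.map_comp_assoc, u.str_appLE]

theorem comp_π_of_isSpecQMap (v : B.spec ⟶ A.spec) (hv : RelSpec.IsSpecQMap u v) :
    v ≫ A.π = B.π ≫ q := by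
  refine ProjQMapOn.hom_ext_of_covers _ _ (fun t => ?_)
  obtain ⟨i, hi⟩ := exists_mem_range_c (u := u) t
  refine ⟨_, i.c, inferInstance, hi, ?_⟩
  have h1 : i.c ≫ v = i.g := hv i.U i.hU i.U' i.hU' i.hle
  rw [← Category.assoc, h1, g_comp_π]

/-- a natural transformation compatible with the structure maps is a `q`-morphism -/
def ofNatTrans (w : A.presheaf ⟶ q.base _* B.presheaf)
    (hw : A.str ≫ w = q.c ≫ (TopCat.Presheaf.pushforward CommRingCat.{u} q.base).map B.str) :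
    RelSpec.QHom q A B where
  app U := w.app (op U)
  naturality i := (w.naturality (homOfLE i).op).symm
  str_app U := NatTrans.congr_app hw (op U)

end Groth.Agent.Lib.Helper3.SpecQMap
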