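import Groth.Agent.Lib.Helper3.ProjCone2
import Groth.Agent.Lib.Helper3.SpecQMap

/-!
# Range of the cone immersion and of the immersion at infinity, chartwise
-/

set_option autoImplicit false
universe u
open CategoryTheory CategoryTheory.Limits AlgebraicGeometry TopologicalSpace Opposite
open scoped HomogeneousIdeal

namespace Groth.Agent.Lib.Helper3.ConeRange

open HomogeneousLocalization ProjQMap ProjQMapOn ProjCone ProjCone2
open Groth.Agent.Lib.Helper6.PointedProjCone Groth.Agent.Lib.Helper6.PolyConeAlg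
open Groth.Agent.Lib.Helper13

variable {Y PC : Scheme.{u}} {𝒮 𝒮h : RelProj.QCGrAlg Y}
  {ι : 𝒮.toQCAlg ⟶ 𝒮h.toQCAlg} {z : 𝒮h.presheaf.obj (op ⊤)} (hz : RelCone.IsPolyOver 𝒮 𝒮h ι z)
  {pC : PC ⟶ Y}
  {chartC : ∀ (U : Y.Opens) (hU : IsAffineOpen U),
    (((pC ⁻¹ᵁ U : PC.Opens) : Scheme.{u}) ≅ Proj (𝒮h.deg U hU))}

theorem z_notMem_kappa (U : Y.Opens) (hU : IsAffineOpen U) (P : Spec (𝒮.presheaf.obj (op U))) :
    RelCone.restrictTop 𝒮h z U ∉ ((kappa hz U hU).base P).asHomogeneousIdeal :=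
  notMem_awayι one_pos (hz.deg_z U hU) _

theorem exists_kappa_of_z_notMem (U : Y.Opens) (hU : IsAffineOpen U)
    (pt : Proj (𝒮h.deg U hU))
    (hzp : RelCone.restrictTop 𝒮h z U ∉ pt.asHomogeneousIdeal) :
    ∃ P : Spec (𝒮.presheaf.obj (op U)), (kappa hz U hU).base P = pt := by
  have hmem : pt ∈ (Proj.awayι (𝒮h.deg U hU) (RelCone.restrictTop 𝒮h z U) (hz.deg_z U hU)
      one_pos).opensRange := by
    rw [Proj.opensRange_awayι]
    exact (Proj.mem_basicOpen _ _ _).2 hzp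
  obtain ⟨q, hq⟩ := hmem
  have hiso : IsIso (CommRingCat.ofHom (hz.awayZToBase U hU)) := by
    rw [ConcreteCategory.isIso_iff_bijective]
    exact awayZ_bijective hz U hU
  obtain ⟨P, hP⟩ := (Spec.map (CommRingCat.ofHom (hz.awayZToBase U hU))).homeomorph.surjective q
  refine ⟨P, ?_⟩
  have hP' : (Spec.map (CommRingCat.ofHom (hz.awayZToBase U hU))).base P = q := hP
  change (Proj.awayι (𝒮h.deg U hU) (RelCone.restrictTop 𝒮h z U) (hz.deg_z U hU) one_pos).base
    ((Spec.map (CommRingCat.ofHom (hz.awayZToBase U hU))).base P) = pt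
  rw [hP']
  exact hq

theorem mem_range_coneImm_iff (hPC : RelProj.IsRelProj 𝒮h pC chartC) {i : 𝒮.toQCAlg.spec ⟶ PC}
    (hi : RelCone.IsConeImm 𝒮 hz pC chartC i) (U : Y.Opens) (hU : IsAffineOpen U)
    (pt : Proj (𝒮h.deg U hU)) :
    (RelProj.emb pC chartC U hU).base pt ∈ Set.range i.base ↔
      RelCone.restrictTop 𝒮h z U ∉ pt.asHomogeneousIdeal := by
  constructor
  · rintro ⟨c, hc⟩
    have hover := coneImm_over hz hPC hi
    have hcU : 𝒮.toQCAlg.π.base c ∈ U := by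
      have h1 : 𝒮.toQCAlg.π.base c = pC.base (i.base c) := by
        rw [← hover]; rfl
      rw [h1, hc]
      exact pC_emb_mem pC chartC U hU pt
    obtain ⟨P, hP⟩ := (SpecQMap.mem_range_ι_iff 𝒮.toQCAlg U hU c).mpr hcU
    have h2 := coneImm_apply hz hi U hU P
    have hP' : (𝒮.toQCAlg.ι U hU).base P = c := hP
    rw [hP', hc] at h2
    have h3 := emb_injective pC chartC U hU h2
    rw [h3]
    exact z_notMem_kappa hz U hU P
  · intro hzp
    obtain ⟨P, hP⟩ := exists_kappa_of_z_notMem hz U hU pt hzp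
    refine ⟨(𝒮.toQCAlg.ι U hU).base P, ?_⟩
    rw [coneImm_apply hz hi U hU P, hP]

section infinity

variable (θ : 𝒮h.toQCAlg ⟶ 𝒮.toQCAlg)

theorem θ_z_eq_zero (hθz : (θ.hom.app (op ⊤)).hom z = 0) (U : Y.Opens) :
    (θ.hom.app (op U)).hom (RelCone.restrictTop 𝒮h z U) = 0 := by
  have hnat := θ.hom.naturality (homOfLE (le_top : U ≤ ⊤)).op
  have h1 := congrArg (fun f => f.hom z) hnat
  simp only [CommRingCat.hom_comp, RingHom.comp_apply] at h1
  change (θ.hom.app (op U)).hom ((𝒮h.presheaf.map (homOfLE le_top).op).hom z) = 0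
  rw [h1, hθz, map_zero]

theorem θ_ι (hιθ : ι ≫ θ = 𝟙 _) (U : Y.Opens) (x : 𝒮.presheaf.obj (op U)) :
    (θ.hom.app (op U)).hom ((ι.hom.app (op U)).hom x) = x := by
  have := congrArg (fun φ : 𝒮.toQCAlg ⟶ 𝒮.toQCAlg => (φ.hom.app (op U)).hom x) hιθ
  exact this

include hz in
theorem eq_ι_θ_add (hιθ : ι ≫ θ = 𝟙 _) (hθz : (θ.hom.app (op ⊤)).hom z = 0)
    (U : Y.Opens) (hU : IsAffineOpen U) (b : 𝒮h.presheaf.obj (op U)) :
    ∃ b', b = (ι.hom.app (op U)).hom ((θ.hom.app (op U)).hom b) +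
      RelCone.restrictTop 𝒮h z U * b' := by
  obtain ⟨Q, hQ⟩ := (hz.bij U hU).2 b
  have hQ' : Polynomial.eval₂ (ι.hom.app (op U)).hom (RelCone.restrictTop 𝒮h z U) Q = b := hQ
  have hθb : (θ.hom.app (op U)).hom b = Q.coeff 0 := by
    rw [← hQ', Polynomial.hom_eval₂]
    have h1 : ((θ.hom.app (op U)).hom.comp (ι.hom.app (op U)).hom) = RingHom.id _ := by
      ext x; exact θ_ι θ hιθ U x
    rw [h1, θ_z_eq_zero θ hθz U, Polynomial.eval₂_id, ← Polynomial.coeff_zero_eq_eval_zero]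
  refine ⟨Polynomial.eval₂ (ι.hom.app (op U)).hom (RelCone.restrictTop 𝒮h z U) Q.divX, ?_⟩
  rw [hθb]
  conv_lhs => rw [← hQ', ← Polynomial.X_mul_divX_add Q]
  rw [Polynomial.eval₂_add, Polynomial.eval₂_mul, Polynomial.eval₂_X, Polynomial.eval₂_C, add_comm]

variable {P : Scheme.{u}} {p : P ⟶ Y}
  {chart : ∀ (U : Y.Opens) (hU : IsAffineOpen U),
    (((p ⁻¹ᵁ U : P.Opens) : Scheme.{u}) ≅ Proj (𝒮.deg U hU))}

include hz in
theorem mem_range_infty_iff (hPC : RelProj.IsRelProj 𝒮h pC chartC)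
    (hP : RelProj.IsRelProj 𝒮 p chart) (hθ : RelProj.IsGradedHom θ) (hιθ : ι ≫ θ = 𝟙 _)
    (hθz : (θ.hom.app (op ⊤)).hom z = 0)
    (hirr : ∀ (U : Y.Opens) (hU : IsAffineOpen U),
      (𝒮.deg U hU)₊ ≤ ((𝒮h.deg U hU)₊).map (RelProj.gradedHomAt θ hθ U hU))
    (j : P ⟶ PC) (hj : RelProj.IsRelProjMap θ hθ hirr chartC chart j)
    (U : Y.Opens) (hU : IsAffineOpen U) (pt : Proj (𝒮h.deg U hU)) :
    (RelProj.emb pC chartC U hU).base pt ∈ Set.range j.base ↔
      RelCone.restrictTop 𝒮h z U ∈ pt.asHomogeneousIdeal := by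
  have hjU := emb_comp_of_isRelProjMap (pA := p) (pB := pC) θ hθ hirr j hj U hU
  constructor
  · rintro ⟨q, hq⟩
    have hover : j ≫ pC = p := RelProjMap.comp_eq hPC hP j hj
    have hqU : p.base q ∈ U := by
      have h1 : p.base q = pC.base (j.base q) := by
        rw [← hover]; rfl
      rw [h1, hq]
      exact pC_emb_mem pC chartC U hU pt
    obtain ⟨q', hq'⟩ := exists_emb_of_mem p chart U hU q hqU
    have h2 : j.base ((RelProj.emb p chart U hU).base q') =
        (RelProj.emb pC chartC U hU).base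
          ((Proj.map (RelProj.gradedHomAt θ hθ U hU) (hirr U hU)).base q') :=
      congrArg (fun f => f.base q') hjU
    rw [hq', hq] at h2
    have h3 := emb_injective pC chartC U hU h2
    rw [h3]
    change (RelProj.gradedHomAt θ hθ U hU) (RelCone.restrictTop 𝒮h z U) ∈
      q'.asHomogeneousIdeal
    have h4 : (RelProj.gradedHomAt θ hθ U hU) (RelCone.restrictTop 𝒮h z U) = 0 :=
      θ_z_eq_zero θ hθz U
    rw [h4]
    exact zero_mem _
  · intro hzp
    have hnot : ¬ (HomogeneousIdeal.irrelevant (𝒮.deg U hU) ≤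
        pt.asHomogeneousIdeal.comap (RelProj.gradedHomAt ι hz.graded U hU)) := by
      intro hle
      apply z_not_mem hz U hU pt _ hzp
      intro d hd a ha
      exact hle (HomogeneousIdeal.mem_irrelevant_of_mem _ hd ha)
    let q' : ProjectiveSpectrum (𝒮.deg U hU) :=
      ⟨pt.1.comap (RelProj.gradedHomAt ι hz.graded U hU),
        pt.2.comap (RelProj.gradedHomAt ι hz.graded U hU), hnot⟩
    have hmap : (Proj.map (RelProj.gradedHomAt θ hθ U hU) (hirr U hU)).base q' = pt := by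
      refine ProjectiveSpectrum.ext (HomogeneousIdeal.ext (Ideal.ext fun b => ?_))
      change (ι.hom.app (op U)).hom ((θ.hom.app (op U)).hom b) ∈ pt.asHomogeneousIdeal.toIdeal ↔
        b ∈ pt.asHomogeneousIdeal.toIdeal
      obtain ⟨b', hb'⟩ := eq_ι_θ_add hz θ hιθ hθz U hU b
      constructor
      · intro h
        rw [hb']
        exact Ideal.add_mem _ h (Ideal.mul_mem_right _ _ hzp)
      · intro h
        have h5 : (ι.hom.app (op U)).hom ((θ.hom.app (op U)).hom b) =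
            b - RelCone.restrictTop 𝒮h z U * b' := by
          rw [eq_sub_iff_add_eq]; exact hb'.symm
        rw [h5]
        exact Ideal.sub_mem _ h (Ideal.mul_mem_right _ _ hzp)
    refine ⟨(RelProj.emb p chart U hU).base q', ?_⟩
    have h2 : j.base ((RelProj.emb p chart U hU).base q') =
        (RelProj.emb pC chartC U hU).base
          ((Proj.map (RelProj.gradedHomAt θ hθ U hU) (hirr U hU)).base q') :=
      congrArg (fun f => f.base q') hjU
    rw [h2, hmap]

end infinity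

end Groth.Agent.Lib.Helper3.ConeRange
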