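import Groth.Agent.Lib.Helper3.TwistIso

/-!
# `P(E) ≅ P(E ⊗ L)`: the isomorphism matches the standard opens
-/

set_option autoImplicit false
set_option linter.unusedSectionVars false
universe u
open CategoryTheory CategoryTheory.Limits AlgebraicGeometry TopologicalSpace Opposite
open Scheme.Modules
open scoped HomogeneousIdeal

namespace Groth.Agent.Lib.Helper3.ConeSwapA

open QCSec InvGen InvTensor InvMonoidal PbBasic PbTensor PullLemmas RelChart SymGen TwistHom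
  TwistComp TwistIso ProjBundleUniq

section cancel

variable {X : Scheme.{u}}

/-- cancelling a generator from a generating pure tensor -/
theorem isGenAt_of_tm {M N : X.Modules} {V : X.Opens} {m : Γ(M, V)} {n : Γ(N, V)}
    (hn : IsGen N V n) (h : IsGenAt (CohB1.tensorMod M N) V (tm M N V m n)) : IsGenAt M V m := by
  have h1 := tm_gen_bijective M N hn V le_rfl
  have h2 : (fun a : Γ(X, V) => a • tm M N V m n) =
      (fun t : Γ(M, V) => tm M N V t (res N le_rfl n)) ∘ (fun a : Γ(X, V) => a • m) := by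
    funext a
    change _ = tm M N V (a • m) (res N le_rfl n)
    rw [tm_smul_left, res_self]
  unfold IsGenAt at h ⊢
  rw [h2] at h
  exact (Function.Bijective.of_comp_iff' h1 _).1 h

end cancel

section locus

variable {Y P : Scheme.{u}} {E : Y.Modules} [E.IsQuasicoherent]
  {𝒮 : RelProj.QCGrAlg Y} {j : E ⟶ 𝒮.toModule} (hj : RelProj.IsGrSymAlg E 𝒮 j) {p : P ⟶ Y}
  {chart : ∀ (U : Y.Opens) (hU : IsAffineOpen U),
    ((p ⁻¹ᵁ U : P.Opens) : Scheme.{u}) ≅ Proj (𝒮.deg U hU)}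
  {O1 : P.Modules}
  {lam : ∀ (U : Y.Opens) (hU : IsAffineOpen U),
    O1 ⟶ (Scheme.Modules.pushforward (RelProj.emb p chart U hU)).obj
      (GrTwist.twist (𝒮.deg U hU) 1)}
  (hO1 : RelProj.IsRelTwist 𝒮 p chart 1 O1 lam)
  {φ : E ⟶ (Scheme.Modules.pushforward p).obj O1}
  (hφ : ∀ (U : Y.Opens) (hU : IsAffineOpen U) (e : Γ(E, U)),
    Reads lam U hU (p ⁻¹ᵁ U) (up p O1 U (φ.app U e)) (jj 𝒮.toQCAlg j U e) 1)

include hj hO1 hφ in
/-- an open over which `φ(e)` generates `O(1)` lies in `AA e` -/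
theorem le_AA_of_isGen (U : Y.Opens) (hU : IsAffineOpen U) (e : Γ(E, U)) (W : P.Opens)
    (hW : W ≤ p ⁻¹ᵁ U) (hg : IsGen O1 W (res O1 hW (up p O1 U (φ.app U e)))) :
    W ≤ AA j chart U hU e := by
  intro x hx
  obtain ⟨y, hy⟩ := ProjQMap.exists_emb_eq p chart U hU x (hW hx)
  obtain ⟨e₀, he₀⟩ := SymGenProj.exists_jj_notMem hj hU y
  have hx0 : x ∈ AA j chart U hU e₀ := ⟨y, he₀, hy⟩
  have hW1 : W ⊓ AA j chart U hU e₀ ≤ W := inf_le_left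
  have hW2 : W ⊓ AA j chart U hU e₀ ≤ AA j chart U hU e₀ := inf_le_right
  have hg1 : IsGenAt O1 (W ⊓ AA j chart U hU e₀)
      (res O1 (hW1.trans hW) (up p O1 U (φ.app U e))) := by
    have := hg _ hW1
    rwa [res_res] at this
  have hg2 : IsGenAt O1 (W ⊓ AA j chart U hU e₀)
      (res O1 (hW1.trans hW) (up p O1 U (φ.app U e₀))) := by
    have := (isGen_phi hj hO1 hφ U hU e₀) _ hW2
    rwa [res_res] at this
  have hrel : res O1 (hW1.trans hW) (up p O1 U (φ.app U e)) =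
      rres P hW2 (cc hj chart U hU e₀ e) • res O1 (hW1.trans hW) (up p O1 U (φ.app U e₀)) := by
    have h := congrArg (res O1 hW2) (phi_rel hj hO1 hφ U hU e₀ e)
    rw [res_res, res_smul, res_res] at h
    exact h
  obtain ⟨v, hv, hv'⟩ := hg2.exists_unit hg1
  have hγ : rres P hW2 (cc hj chart U hU e₀ e) = v := hg2.smul_inj (hrel.symm.trans hv')
  have hb : P.basicOpen (rres P hW2 (cc hj chart U hU e₀ e)) = W ⊓ AA j chart U hU e₀ := by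
    rw [hγ]
    exact P.basicOpen_of_isUnit hv
  have hb2 : P.basicOpen (rres P hW2 (cc hj chart U hU e₀ e)) =
      (W ⊓ AA j chart U hU e₀) ⊓ P.basicOpen (cc hj chart U hU e₀ e) :=
    Scheme.basicOpen_res P _ (homOfLE hW2).op
  have hx3 : x ∈ (W ⊓ AA j chart U hU e₀) ⊓ P.basicOpen (cc hj chart U hU e₀ e) := by
    rw [← hb2, hb]
    exact ⟨hx, hx0⟩
  exact basicOpen_cc_le hj (chart := chart) U hU e₀ e hx3.2

end locus

section forward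

variable {Y P Q : Scheme.{u}} {E F : Y.Modules} [E.IsQuasicoherent] [F.IsQuasicoherent]
  {𝒮 : RelProj.QCGrAlg Y} {j : E ⟶ 𝒮.toModule} (hj : RelProj.IsGrSymAlg E 𝒮 j) {p : P ⟶ Y}
  {chart : ∀ (U : Y.Opens) (hU : IsAffineOpen U),
    ((p ⁻¹ᵁ U : P.Opens) : Scheme.{u}) ≅ Proj (𝒮.deg U hU)}
  {O1P : P.Modules}
  {lamP : ∀ (U : Y.Opens) (hU : IsAffineOpen U),
    O1P ⟶ (Scheme.Modules.pushforward (RelProj.emb p chart U hU)).obj
      (GrTwist.twist (𝒮.deg U hU) 1)}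
  (hO1P : RelProj.IsRelTwist 𝒮 p chart 1 O1P lamP)
  {φP : E ⟶ (Scheme.Modules.pushforward p).obj O1P}
  (hφP : ∀ (U : Y.Opens) (hU : IsAffineOpen U) (e : Γ(E, U)),
    Reads lamP U hU (p ⁻¹ᵁ U) (up p O1P U (φP.app U e)) (jj 𝒮.toQCAlg j U e) 1)
  {𝒯 : RelProj.QCGrAlg Y} {k : F ⟶ 𝒯.toModule} (hk : RelProj.IsGrSymAlg F 𝒯 k) {q : Q ⟶ Y}
  {chartQ : ∀ (U : Y.Opens) (hU : IsAffineOpen U),
    ((q ⁻¹ᵁ U : Q.Opens) : Scheme.{u}) ≅ Proj (𝒯.deg U hU)}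
  {O1Q : Q.Modules}
  {lamQ : ∀ (U : Y.Opens) (hU : IsAffineOpen U),
    O1Q ⟶ (Scheme.Modules.pushforward (RelProj.emb q chartQ U hU)).obj
      (GrTwist.twist (𝒯.deg U hU) 1)}
  (hO1Q : RelProj.IsRelTwist 𝒯 q chartQ 1 O1Q lamQ)
  {φQ : F ⟶ (Scheme.Modules.pushforward q).obj O1Q}
  (hφQ : ∀ (U : Y.Opens) (hU : IsAffineOpen U) (f : Γ(F, U)),
    Reads lamQ U hU (q ⁻¹ᵁ U) (up q O1Q U (φQ.app U f)) (jj 𝒯.toQCAlg k U f) 1)
  {L : Y.Modules} (ν : F ⟶ CohB1.tensorMod E L)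
  (i : P ⟶ Q) (hi : i ≫ q = p)
  (τ : (Scheme.Modules.pullback i).obj O1Q ≅
    CohB1.tensorMod O1P ((Scheme.Modules.pullback p).obj L))
  (hτ : ∀ (U : Y.Opens), IsAffineOpen U → ∀ f : Γ(F, U),
    τ.hom.app (p ⁻¹ᵁ U) (pullY i q p hi O1Q U (up q O1Q U (φQ.app U f))) =
      (sNu p φP ν).app (p ⁻¹ᵁ U) (pull p F U f))

include hj hO1P hφP hk hO1Q hφQ hτ in
/-- the twist morphism `P(E) → P(F)` pulls `AA f` back into `AA e` when `ν f = e ⊗ ℓ` -/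
theorem preimage_AA_le (U : Y.Opens) (hU : IsAffineOpen U) (ℓ : Γ(L, U)) (hg : IsGen L U ℓ)
    (e : Γ(E, U)) (f : Γ(F, U)) (h : ν.app U f = tm E L U e ℓ) :
    i ⁻¹ᵁ AA k chartQ U hU f ≤ AA j chart U hU e := by
  have hWp : i ⁻¹ᵁ AA k chartQ U hU f ≤ p ⁻¹ᵁ U := pre_le k chartQ p i hi U hU f
  apply le_AA_of_isGen hj hO1P hφP U hU e _ hWp
  intro V hV
  have h1 := isGenAt_sigma hk hO1Q hφQ p (sNu p φP ν) i hi τ hτ U hU f V hV
  rw [sNu_pull p φP ν U f e ℓ h, tm_res] at h1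
  rw [res_res]
  exact isGenAt_of_tm ((isGen_pull p hg).mono (hV.trans hWp)) h1

end forward

section main

variable {Y P Q : Scheme.{u}} {E F : Y.Modules} [E.IsQuasicoherent] [F.IsQuasicoherent]
  {𝒮 : RelProj.QCGrAlg Y} {j : E ⟶ 𝒮.toModule} (hj : RelProj.IsGrSymAlg E 𝒮 j) {p : P ⟶ Y}
  {chart : ∀ (U : Y.Opens) (hU : IsAffineOpen U),
    ((p ⁻¹ᵁ U : P.Opens) : Scheme.{u}) ≅ Proj (𝒮.deg U hU)}
  (hP : RelProj.IsRelProj 𝒮 p chart) {O1P : P.Modules}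
  {lamP : ∀ (U : Y.Opens) (hU : IsAffineOpen U),
    O1P ⟶ (Scheme.Modules.pushforward (RelProj.emb p chart U hU)).obj
      (GrTwist.twist (𝒮.deg U hU) 1)}
  (hO1P : RelProj.IsRelTwist 𝒮 p chart 1 O1P lamP)
  {𝒯 : RelProj.QCGrAlg Y} {k : F ⟶ 𝒯.toModule} (hk : RelProj.IsGrSymAlg F 𝒯 k) {q : Q ⟶ Y}
  {chartQ : ∀ (U : Y.Opens) (hU : IsAffineOpen U),
    ((q ⁻¹ᵁ U : Q.Opens) : Scheme.{u}) ≅ Proj (𝒯.deg U hU)}
  (hQ : RelProj.IsRelProj 𝒯 q chartQ) {O1Q : Q.Modules}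
  {lamQ : ∀ (U : Y.Opens) (hU : IsAffineOpen U),
    O1Q ⟶ (Scheme.Modules.pushforward (RelProj.emb q chartQ U hU)).obj
      (GrTwist.twist (𝒯.deg U hU) 1)}
  (hO1Q : RelProj.IsRelTwist 𝒯 q chartQ 1 O1Q lamQ)
  {L L' : Y.Modules} (hL : PicF.IsInvertible L) (hL' : PicF.IsInvertible L')
  (ε : CohB1.tensorMod L L' ≅ Coh.structureModule Y) (ν : F ≅ CohB1.tensorMod E L)

include hj hP hO1P hk hQ hO1Q hL hL' ν in
/-- `P(E) ≅ P(F)` for `F ≅ E ⊗ L`, matching `AA f` with `AA e` whenever `ν f = e ⊗ ℓ` -/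
theorem exists_iso_loci : ∃ i : P ≅ Q, i.hom ≫ q = p ∧
    ∀ (U : Y.Opens) (hU : IsAffineOpen U) (ℓ : Γ(L, U)) (ℓ' : Γ(L', U)), IsGen L U ℓ →
      IsGen L' U ℓ' → ε.hom.app U (tm L L' U ℓ ℓ') = ofFun U 1 →
      ∀ (e : Γ(E, U)) (f : Γ(F, U)), ν.hom.app U f = tm E L U e ℓ →
        i.hom ⁻¹ᵁ AA k chartQ U hU f = AA j chart U hU e := by
  classical
  have hgenP : 𝒮.IsGenDegOne := SymGenProj.isGenDegOne hj
  have hgenQ : 𝒯.IsGenDegOne := SymGenProj.isGenDegOne hk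
  have hO1Pi : PicF.IsInvertible O1P :=
    GrTwistGen.isInvertible_of_isRelTwist 𝒮 p chart hgenP _ O1P lamP hO1P.bijective
  have hO1Qi : PicF.IsInvertible O1Q :=
    GrTwistGen.isInvertible_of_isRelTwist 𝒯 q chartQ hgenQ _ O1Q lamQ hO1Q.bijective
  obtain ⟨φP, hφP0⟩ := CanonPhi.exists_phi hj.2 hP hO1P
  have hφP : ∀ (U : Y.Opens) (hU : IsAffineOpen U) (e : Γ(E, U)),
      Reads lamP U hU (p ⁻¹ᵁ U) (up p O1P U (φP.app U e)) (jj 𝒮.toQCAlg j U e) 1 :=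
    fun U hU e => ProjBundleUP.reads_of_fr (d := 1) U hU _ (hj.2 U hU e) _ (hφP0 U hU e)
  obtain ⟨φQ, hφQ0⟩ := CanonPhi.exists_phi hk.2 hQ hO1Q
  have hφQ : ∀ (U : Y.Opens) (hU : IsAffineOpen U) (f : Γ(F, U)),
      Reads lamQ U hU (q ⁻¹ᵁ U) (up q O1Q U (φQ.app U f)) (jj 𝒯.toQCAlg k U f) 1 :=
    fun U hU f => ProjBundleUP.reads_of_fr (d := 1) U hU _ (hk.2 U hU f) _ (hφQ0 U hU f)
  -- the morphism `i`
  haveI := epi_sNu hj hO1P hφP hL ν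
  obtain ⟨i, hi, τ, hτ0⟩ := ProjBundleUP.exists_hom F 𝒯 k hk q chartQ hQ O1Q lamQ hO1Q φQ hφQ p
    (CohB1.tensorMod O1P ((Scheme.Modules.pullback p).obj L))
    (isInvertible_tensorMod hO1Pi (isInvertible_pullback p hL)) (sNu p φP ν.hom)
  have hτc := compat_of_pull_local i q p hi φQ τ.hom (sNu p φP ν.hom) hτ0
  have hτ : ∀ (U : Y.Opens), IsAffineOpen U → ∀ f : Γ(F, U),
      τ.hom.app (p ⁻¹ᵁ U) (pullY i q p hi O1Q U (up q O1Q U (φQ.app U f))) =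
        (sNu p φP ν.hom).app (p ⁻¹ᵁ U) (pull p F U f) :=
    fun U _ f => pull_of_compat i q p hi φQ τ.hom _ hτc U f
  -- the morphism `i'`
  haveI := epi_sNu hk hO1Q hφQ hL' (nuPrime ε ν)
  obtain ⟨i', hi', τ', hτ0'⟩ := ProjBundleUP.exists_hom E 𝒮 j hj p chart hP O1P lamP hO1P φP hφP
    q (CohB1.tensorMod O1Q ((Scheme.Modules.pullback q).obj L'))
    (isInvertible_tensorMod hO1Qi (isInvertible_pullback q hL')) (sNu q φQ (nuPrime ε ν).hom)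
  have hτc' := compat_of_pull_local i' p q hi' φP τ'.hom (sNu q φQ (nuPrime ε ν).hom) hτ0'
  have hτ' : ∀ (U : Y.Opens), IsAffineOpen U → ∀ e : Γ(E, U),
      τ'.hom.app (q ⁻¹ᵁ U) (pullY i' p q hi' O1P U (up p O1P U (φP.app U e))) =
        (sNu q φQ (nuPrime ε ν).hom).app (q ⁻¹ᵁ U) (pull q E U e) :=
    fun U _ e => pull_of_compat i' p q hi' φP τ'.hom _ hτc' U e
  have c₁ : i ≫ i' = 𝟙 P :=
    comp_eq_id hj hP hO1P hφP hO1Qi hL hL' ε ν.hom (nuPrime ε ν).hom i hi τ i' hi' τ' hτ hτ'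
      (fun U _ ℓ ℓ' _ hg' hε e f h => rel₁ ε ν U ℓ ℓ' hg' hε e f h)
  have c₂ : i' ≫ i = 𝟙 Q :=
    comp_eq_id hk hQ hO1Q hφQ hO1Pi hL' hL (braid _ _ ≪≫ ε) (nuPrime ε ν).hom ν.hom i' hi' τ' i hi
      τ hτ' hτ
      (fun U _ ℓ' ℓ _ _ hε f e h => by
        have hε' : ε.hom.app U (tm L _ U ℓ ℓ') = ofFun U 1 := by
          rw [← hε]
          change _ = ε.hom.app U ((braid _ _).hom.app U _)
          rw [braid_hom_tm]
        exact rel₂ ε ν U ℓ ℓ' hε' e f h)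
  refine ⟨⟨i, i', c₁, c₂⟩, hi, ?_⟩
  intro U hU ℓ ℓ' hg hg' hε e f h
  apply le_antisymm
  · exact preimage_AA_le hj hO1P hφP hk hO1Q hφQ ν.hom i hi τ hτ U hU ℓ hg e f h
  · have h2 : (nuPrime ε ν).hom.app U e = tm F L' U f ℓ' := rel₂ ε ν U ℓ ℓ' hε e f h
    have h3 := preimage_AA_le hk hO1Q hφQ hj hO1P hφP (nuPrime ε ν).hom i' hi' τ' hτ' U hU ℓ' hg'
      f e h2
    intro x hx
    apply h3
    change i' (i x) ∈ AA j chart U hU e
    have hx' : i' (i x) = x := by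
      rw [← Scheme.Hom.comp_apply, c₁]
      rfl
    rw [hx']
    exact hx

end main

end Groth.Agent.Lib.Helper3.ConeSwapA
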