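import Groth.Agent.Lib.Helper3.ProjPoly

/-!
# The retraction of the pointed projective cone
-/

set_option autoImplicit false
universe u
open CategoryTheory CategoryTheory.Limits AlgebraicGeometry TopologicalSpace Opposite
open scoped HomogeneousIdeal

namespace Groth.Agent.Lib.Helper3.ProjCone

open HomogeneousLocalization ProjQMap ProjQMapOn ProjQGlue

section algebra

variable {B : Type u} [CommRing B] {ℬ : ℕ → AddSubgroup B} [GradedRing ℬ]

theorem mapTo_id_id (b b' : B) (h : b = b') :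
    (mapTo (GradedRingHom.id ℬ) b' b h.symm).comp (mapTo (GradedRingHom.id ℬ) b b' h) =
      RingHom.id _ := by
  subst h
  have : mapTo (GradedRingHom.id ℬ) b b rfl = RingHom.id _ := Away.map_id ℬ b
  rw [this]
  rfl

theorem specMap_mapTo_id_id (b b' : B) (h : b = b') :
    Spec.map (CommRingCat.ofHom (mapTo (GradedRingHom.id ℬ) b' b h.symm)) ≫
      Spec.map (CommRingCat.ofHom (mapTo (GradedRingHom.id ℬ) b b' h)) = 𝟙 _ := by
  rw [← Spec.map_comp, ← CommRingCat.ofHom_comp, mapTo_id_id]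
  exact Spec.map_id _

end algebra

section transport

variable {Y PA PB : Scheme.{u}} {𝒜 ℬ : RelProj.QCGrAlg Y} (φ : 𝒜.toQCAlg ⟶ ℬ.toQCAlg)
  (hφ : RelProj.IsGradedHom φ)
  {pA : PA ⟶ Y} {pB : PB ⟶ Y}
  {chartA : ∀ (U : Y.Opens) (hU : IsAffineOpen U),
    ((pA ⁻¹ᵁ U : PA.Opens) : Scheme.{u}) ≅ Proj (𝒜.deg U hU)}
  {chartB : ∀ (U : Y.Opens) (hU : IsAffineOpen U),
    ((pB ⁻¹ᵁ U : PB.Opens) : Scheme.{u}) ≅ Proj (ℬ.deg U hU)}

/-- the chart equations phrased with `gradedHomAt` -/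
def EqsG (pA : PA ⟶ Y) (pB : PB ⟶ Y)
    (chartA : ∀ (U : Y.Opens) (hU : IsAffineOpen U),
      ((pA ⁻¹ᵁ U : PA.Opens) : Scheme.{u}) ≅ Proj (𝒜.deg U hU))
    (chartB : ∀ (U : Y.Opens) (hU : IsAffineOpen U),
      ((pB ⁻¹ᵁ U : PB.Opens) : Scheme.{u}) ≅ Proj (ℬ.deg U hU))
    {T : Scheme.{u}} (j : T ⟶ PB) (r : T ⟶ PA) : Prop :=
  ∀ (U : Y.Opens) (hU : IsAffineOpen U) (d : ℕ) (hd : 0 < d) (f : 𝒜.presheaf.obj (op U))
    (hf : f ∈ 𝒜.deg U hU d)
    (g : Spec (CommRingCat.of (Away (ℬ.deg U hU) ((RelProj.gradedHomAt φ hφ U hU) f))) ⟶ T),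
    g ≫ j = Proj.awayι (ℬ.deg U hU) ((RelProj.gradedHomAt φ hφ U hU) f)
        ((RelProj.gradedHomAt φ hφ U hU).2 hf) hd ≫ RelProj.emb pB chartB U hU →
      g ≫ r = Spec.map (CommRingCat.ofHom (Away.map (RelProj.gradedHomAt φ hφ U hU) f)) ≫
        Proj.awayι (𝒜.deg U hU) f hf hd ≫ RelProj.emb pA chartA U hU

theorem ψU_eq (U : Y.Opens) (hU : IsAffineOpen U) (x : 𝒜.presheaf.obj (op U)) :
    ψU φ hφ U hU x = RelProj.gradedHomAt φ hφ U hU x := ψU_apply φ hφ U hU x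

theorem away_map_gH (U : Y.Opens) (hU : IsAffineOpen U) (f : 𝒜.presheaf.obj (op U)) :
    (mapTo (GradedRingHom.id (ℬ.deg U hU)) (ψU φ hφ U hU f) (RelProj.gradedHomAt φ hφ U hU f)
        (ψU_eq φ hφ U hU f)).comp (Away.map (ψU φ hφ U hU) f) =
      Away.map (RelProj.gradedHomAt φ hφ U hU) f := by
  have := mapTo_comp (ψU φ hφ U hU) (GradedRingHom.id (ℬ.deg U hU)) (RelProj.gradedHomAt φ hφ U hU)
    (fun x => (ψU_eq φ hφ U hU x).symm) f (ψU φ hφ U hU f) (RelProj.gradedHomAt φ hφ U hU f) rfl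
    (ψU_eq φ hφ U hU f)
  rw [mapTo_rfl] at this
  rw [this]
  rfl

variable {T : Scheme.{u}} (j : T ⟶ PB) (r : T ⟶ PA)

theorem eqsG_of_eqsOn (H : EqsOn φ hφ pA pB chartA chartB j r) :
    EqsG φ hφ pA pB chartA chartB j r := by
  intro U hU d hd f hf g hg
  have h := ψU_eq φ hφ U hU f
  have h1 : (Spec.map (CommRingCat.ofHom (mapTo (GradedRingHom.id (ℬ.deg U hU))
      (RelProj.gradedHomAt φ hφ U hU f) (ψU φ hφ U hU f) h.symm)) ≫ g) ≫ j =
      chB φ hφ pB chartB U hU hd f hf := by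
    rw [Category.assoc, hg, ← Category.assoc]
    congr 1
    exact awayι_congr hd _ _ h.symm _ _
  have h2 := H U hU d hd f hf _ h1
  have h3 := congrArg (fun m => Spec.map (CommRingCat.ofHom (mapTo (GradedRingHom.id (ℬ.deg U hU))
      (ψU φ hφ U hU f) (RelProj.gradedHomAt φ hφ U hU f) h)) ≫ m) h2
  beta_reduce at h3
  rw [← Category.assoc, ← Category.assoc, specMap_mapTo_id_id, Category.id_comp] at h3
  rw [h3, ← Spec.map_comp_assoc, ← CommRingCat.ofHom_comp, away_map_gH]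

theorem eqsOn_of_eqsG (H : EqsG φ hφ pA pB chartA chartB j r) :
    EqsOn φ hφ pA pB chartA chartB j r := by
  intro U hU d hd f hf ℓ hℓ
  have h := ψU_eq φ hφ U hU f
  have h1 : (Spec.map (CommRingCat.ofHom (mapTo (GradedRingHom.id (ℬ.deg U hU))
      (ψU φ hφ U hU f) (RelProj.gradedHomAt φ hφ U hU f) h)) ≫ ℓ) ≫ j =
      Proj.awayι (ℬ.deg U hU) ((RelProj.gradedHomAt φ hφ U hU) f)
        ((RelProj.gradedHomAt φ hφ U hU).2 hf) hd ≫ RelProj.emb pB chartB U hU := by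
    rw [Category.assoc, hℓ, ← Category.assoc]
    congr 1
    exact awayι_congr hd _ _ h _ _
  have h2 := H U hU d hd f hf _ h1
  have h3 := congrArg (fun m => Spec.map (CommRingCat.ofHom (mapTo (GradedRingHom.id (ℬ.deg U hU))
      (RelProj.gradedHomAt φ hφ U hU f) (ψU φ hφ U hU f) h.symm)) ≫ m) h2
  beta_reduce at h3
  have e := specMap_mapTo_id_id (ℬ := ℬ.deg U hU) (ψU φ hφ U hU f)
    (RelProj.gradedHomAt φ hφ U hU f) h
  rw [← Category.assoc, ← Category.assoc, e, Category.id_comp] at h3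
  rw [h3, ← away_map_gH φ hφ U hU f, CommRingCat.ofHom_comp, Spec.map_comp]
  simp only [Category.assoc]
  rw [reassoc_of% e]

end transport

section retraction

variable {A B : Type u} [CommRing A] [CommRing B] {𝒜 : ℕ → AddSubgroup A}
  {ℬ : ℕ → AddSubgroup B} [GradedRing 𝒜] [GradedRing ℬ]
  (ι : 𝒜 →+*ᵍ ℬ) (ι₀ : A →+* B) (hι₀ : ∀ a, ι₀ a = ι a) (z : B) (hz : z ∈ ℬ 1)
  (hbij : Function.Bijective (Polynomial.eval₂RingHom ι₀ z))

/-- "set `z = 0`" -/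
noncomputable def ε₀ : B →+* A :=
  (Polynomial.evalRingHom 0).comp (RingEquiv.ofBijective _ hbij).symm.toRingHom

theorem ε₀_apply (P : Polynomial A) : ε₀ ι₀ z hbij (Polynomial.eval₂ ι₀ z P) = P.coeff 0 := by
  have : (RingEquiv.ofBijective _ hbij).symm (Polynomial.eval₂ ι₀ z P) = P :=
    (RingEquiv.ofBijective _ hbij).symm_apply_apply P
  change Polynomial.eval 0 ((RingEquiv.ofBijective _ hbij).symm (Polynomial.eval₂ ι₀ z P)) = _
  rw [this, Polynomial.coeff_zero_eq_eval_zero]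

theorem ε₀_ι (a : A) : ε₀ ι₀ z hbij (ι₀ a) = a := by
  have := ε₀_apply ι₀ z hbij (Polynomial.C a)
  rwa [Polynomial.eval₂_C, Polynomial.coeff_C_zero] at this

theorem eq_add (b : B) : ∃ b', b = ι₀ (ε₀ ι₀ z hbij b) + z * b' := by
  obtain ⟨P, hP⟩ := hbij.2 b
  have hP' : Polynomial.eval₂ ι₀ z P = b := hP
  subst hP'
  refine ⟨Polynomial.eval₂ ι₀ z P.divX, ?_⟩
  rw [ε₀_apply]
  conv_lhs => rw [← Polynomial.X_mul_divX_add P]
  rw [Polynomial.eval₂_add, Polynomial.eval₂_mul, Polynomial.eval₂_X, Polynomial.eval₂_C, add_comm]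

include hbij in
theorem eq_zero_of_ι_eq_z_mul (a : A) (w : B) (h : ι₀ a = z * w) : a = 0 := by
  obtain ⟨Q, rfl⟩ := hbij.2 w
  have h1 : Polynomial.eval₂RingHom ι₀ z (Polynomial.C a) =
      Polynomial.eval₂RingHom ι₀ z (Polynomial.X * Q) := by
    change Polynomial.eval₂ ι₀ z (Polynomial.C a) = Polynomial.eval₂ ι₀ z (Polynomial.X * Q)
    rw [Polynomial.eval₂_C, Polynomial.eval₂_mul, Polynomial.eval₂_X]
    exact h
  have h2 := congrArg (fun P => Polynomial.coeff P 0) (hbij.1 h1)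
  simpa using h2

include hι₀ hz in
theorem ε₀_mem {n : ℕ} (b : B) (hb : b ∈ ℬ n) : ε₀ ι₀ z hbij b ∈ 𝒜 n := by
  classical
  obtain ⟨b', hb'⟩ := eq_add ι₀ z hbij b
  have key : ∀ m, m ≠ n → (DirectSum.decompose 𝒜 (ε₀ ι₀ z hbij b) m : A) = 0 := by
    intro m hm
    have h0 : (DirectSum.decompose ℬ b m : B) = 0 :=
      DirectSum.decompose_of_mem_ne ℬ hb (Ne.symm hm)
    rw [hb', DirectSum.decompose_add, DirectSum.add_apply, AddMemClass.coe_add] at h0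
    have h1 : (DirectSum.decompose ℬ (ι₀ (ε₀ ι₀ z hbij b)) m : B) =
        ι₀ (DirectSum.decompose 𝒜 (ε₀ ι₀ z hbij b) m) := by
      rw [hι₀, hι₀, GradedRingHom.map_directSumDecompose]
    have h2 : ∃ w, (DirectSum.decompose ℬ (z * b') m : B) = z * w := by
      by_cases h : 1 ≤ m
      · exact ⟨_, DirectSum.coe_decompose_mul_of_left_mem_of_le ℬ hz h⟩
      · exact ⟨0, by rw [DirectSum.coe_decompose_mul_of_left_mem_of_not_le ℬ hz h, mul_zero]⟩
    obtain ⟨w, hw⟩ := h2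
    rw [h1, hw] at h0
    refine eq_zero_of_ι_eq_z_mul ι₀ z hbij _ (-w) ?_
    rw [mul_neg]
    exact eq_neg_of_add_eq_zero_left h0
  rw [← DirectSum.sum_support_decompose 𝒜 (ε₀ ι₀ z hbij b)]
  refine sum_mem (fun m _ => ?_)
  by_cases hm : m = n
  · subst hm; exact SetLike.coe_mem _
  · rw [key m hm]; exact zero_mem _

/-- the graded retraction "set `z = 0`" of a polynomial extension in one variable of degree one -/
noncomputable def εG : ℬ →+*ᵍ 𝒜 :=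
  { ε₀ ι₀ z hbij with map_mem := fun hx => ε₀_mem ι ι₀ hι₀ z hz hbij _ hx }

theorem εG_ι (a : A) : εG ι ι₀ hι₀ z hz hbij (ι a) = a := by
  rw [← hι₀]
  exact ε₀_ι ι₀ z hbij a

theorem specMap_surjective_of_retraction (ψ : 𝒜 →+*ᵍ ℬ) (ε : ℬ →+*ᵍ 𝒜) (h : ∀ x, ε (ψ x) = x)
    (f : A) : Function.Surjective (Spec.map (CommRingCat.ofHom (Away.map ψ f))) := by
  have e := mapTo_comp ψ ε (GradedRingHom.id 𝒜) (fun x => (h x).symm) f (ψ f) f rfl (h f)
  rw [mapTo_rfl] at e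
  have e2 : mapTo (GradedRingHom.id 𝒜) f f rfl = RingHom.id _ := Away.map_id 𝒜 f
  have e3 : Spec.map (CommRingCat.ofHom (mapTo ε (ψ f) f (h f))) ≫
      Spec.map (CommRingCat.ofHom (Away.map ψ f)) = 𝟙 _ := by
    rw [← Spec.map_comp, ← CommRingCat.ofHom_comp, e]
    exact (congrArg (fun m => Spec.map (CommRingCat.ofHom m)) e2).trans (Spec.map_id _)
  intro w
  refine ⟨Spec.map (CommRingCat.ofHom (mapTo ε (ψ f) f (h f))) w, ?_⟩
  rw [← Scheme.Hom.comp_apply, e3]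
  rfl

end retraction

section geometry

variable {Y PA PB : Scheme.{u}} {𝒜 ℬ : RelProj.QCGrAlg Y} (φ : 𝒜.toQCAlg ⟶ ℬ.toQCAlg)
  (hφ : RelProj.IsGradedHom φ)
  {pA : PA ⟶ Y} {pB : PB ⟶ Y}
  {chartA : ∀ (U : Y.Opens) (hU : IsAffineOpen U),
    ((pA ⁻¹ᵁ U : PA.Opens) : Scheme.{u}) ≅ Proj (𝒜.deg U hU)}
  {chartB : ∀ (U : Y.Opens) (hU : IsAffineOpen U),
    ((pB ⁻¹ᵁ U : PB.Opens) : Scheme.{u}) ≅ Proj (ℬ.deg U hU)}

/-- the union of the chart images of the opens `G(φ(U))` is the domain of definition -/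
theorem iSup_eq_domQ (hB : RelProj.IsRelProj ℬ pB chartB) :
    (⨆ U : Y.affineOpens, (RelProj.emb pB chartB U.1 U.2) ''ᵁ
      RelCone.domOpen (RelProj.gradedHomAt φ hφ U.1 U.2)) =
    RelProj.domQ (RelProj.QGrHom.ofHom φ hφ) pB chartB := by
  apply le_antisymm
  · refine iSup_le (fun U => ?_)
    rw [← domQ_inf φ hφ hB U.1 U.2]
    exact inf_le_left
  · intro x hx
    obtain ⟨U, hU, hxU⟩ := exists_affine_mem (pB x)
    have h1 : x ∈ RelProj.domQ (RelProj.QGrHom.ofHom φ hφ) pB chartB ⊓ pB ⁻¹ᵁ U := ⟨hx, hxU⟩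
    rw [domQ_inf φ hφ hB U hU] at h1
    exact (le_iSup (fun U : Y.affineOpens => (RelProj.emb pB chartB U.1 U.2) ''ᵁ
      RelCone.domOpen (RelProj.gradedHomAt φ hφ U.1 U.2)) ⟨U, hU⟩) h1

theorem exists_eqsOn_of_eq (hA : RelProj.IsRelProj 𝒜 pA chartA)
    (hB : RelProj.IsRelProj ℬ pB chartB) (W : PB.Opens)
    (hW : W = RelProj.domQ (RelProj.QGrHom.ofHom φ hφ) pB chartB) :
    AllIn φ hφ pB chartB W.ι ∧ CovOn φ hφ pB chartB W.ι ∧
    ∃ r : (W : Scheme.{u}) ⟶ PA, EqsOn φ hφ pA pB chartA chartB W.ι r := by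
  subst hW
  obtain ⟨v, hv⟩ := exists_isProjQMapOn (u := RelProj.QGrHom.ofHom φ hφ) pA chartA pB chartB hA hB
  exact ⟨allIn_domQ φ hφ, covOn_domQ φ hφ hB, v, eqsOn_domQ φ hφ v hv⟩

variable {T : Scheme.{u}} (j : T ⟶ PB) [IsOpenImmersion j]

theorem eq_of_eqsOn (r r' : T ⟶ PA) (hall : AllIn φ hφ pB chartB j)
    (hcov : CovOn φ hφ pB chartB j)
    (h : EqsOn φ hφ pA pB chartA chartB j r) (h' : EqsOn φ hφ pA pB chartA chartB j r') :
    r = r' := by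
  refine hom_ext_of_covers r r' (fun t => ?_)
  obtain ⟨U, hU, htU⟩ := exists_affine_mem (pB (j t))
  obtain ⟨d, hd, f, hf, z, hz⟩ := exists_lft_eq φ hφ j hall hcov t U hU htU
  refine ⟨_, lft φ hφ j hall U hU hd f hf, inferInstance, ⟨z, hz⟩, ?_⟩
  rw [h U hU d hd f hf _ (lft_fac φ hφ j hall U hU hd f hf),
    h' U hU d hd f hf _ (lft_fac φ hφ j hall U hU hd f hf)]

theorem surjective_of_eqsOn (r : T ⟶ PA) (hall : AllIn φ hφ pB chartB j)
    (h : EqsOn φ hφ pA pB chartA chartB j r)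
    (H : ∀ (U : Y.Opens) (hU : IsAffineOpen U) (d : ℕ) (_ : 0 < d) (f : 𝒜.presheaf.obj (op U))
      (_ : f ∈ 𝒜.deg U hU d),
      Function.Surjective (Spec.map (CommRingCat.ofHom (Away.map (ψU φ hφ U hU) f)))) :
    Function.Surjective r := by
  intro x
  obtain ⟨U, hU, hxU⟩ := exists_affine_mem (pA x)
  obtain ⟨y, hy⟩ := exists_emb_eq pA chartA U hU x hxU
  obtain ⟨d, hd, f, hf, hfy⟩ := exists_pos_notMem y
  obtain ⟨w, hw⟩ := exists_awayι_eq hd hf y hfy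
  obtain ⟨w', hw'⟩ := H U hU d hd f hf w
  refine ⟨lft φ hφ j hall U hU hd f hf w', ?_⟩
  rw [← Scheme.Hom.comp_apply, h U hU d hd f hf _ (lft_fac φ hφ j hall U hU hd f hf)]
  change (RelProj.emb pA chartA U hU) ((Proj.awayι (𝒜.deg U hU) f hf hd)
    ((Spec.map (CommRingCat.ofHom (Away.map (ψU φ hφ U hU) f))) w')) = x
  rw [hw', hw, hy]

theorem emb_comp_of_isRelProjMap (θ : ℬ.toQCAlg ⟶ 𝒜.toQCAlg) (hθ : RelProj.IsGradedHom θ)
    (hirr : ∀ (U : Y.Opens) (hU : IsAffineOpen U),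
      (𝒜.deg U hU)₊ ≤ ((ℬ.deg U hU)₊).map (RelProj.gradedHomAt θ hθ U hU))
    (j₀ : PA ⟶ PB) (hj₀ : RelProj.IsRelProjMap θ hθ hirr chartB chartA j₀)
    (U : Y.Opens) (hU : IsAffineOpen U) :
    RelProj.emb pA chartA U hU ≫ j₀ =
      Proj.map (RelProj.gradedHomAt θ hθ U hU) (hirr U hU) ≫ RelProj.emb pB chartB U hU := by
  unfold RelProj.emb
  rw [Category.assoc, hj₀ U hU, Iso.inv_hom_id_assoc]

theorem retraction_of_eqsOn (r : T ⟶ PA) (hall : AllIn φ hφ pB chartB j)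
    (h : EqsOn φ hφ pA pB chartA chartB j r)
    (θ : ℬ.toQCAlg ⟶ 𝒜.toQCAlg) (hθ : RelProj.IsGradedHom θ)
    (hθφ : ∀ (U : Y.Opens) (hU : IsAffineOpen U) (x : 𝒜.presheaf.obj (op U)),
      RelProj.gradedHomAt θ hθ U hU (ψU φ hφ U hU x) = x)
    (hirr : ∀ (U : Y.Opens) (hU : IsAffineOpen U),
      (𝒜.deg U hU)₊ ≤ ((ℬ.deg U hU)₊).map (RelProj.gradedHomAt θ hθ U hU))
    (j₀ : PA ⟶ PB) (hj₀ : RelProj.IsRelProjMap θ hθ hirr chartB chartA j₀)
    (j' : PA ⟶ T) (hj' : j' ≫ j = j₀) : j' ≫ r = 𝟙 PA := by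
  refine hom_ext_of_covers (j' ≫ r) (𝟙 PA) (fun x => ?_)
  obtain ⟨U, hU, hxU⟩ := exists_affine_mem (pA x)
  obtain ⟨y, hy⟩ := exists_emb_eq pA chartA U hU x hxU
  obtain ⟨d, hd, f, hf, hfy⟩ := exists_pos_notMem y
  obtain ⟨w, hw⟩ := exists_awayι_eq hd hf y hfy
  refine ⟨_, Proj.awayι (𝒜.deg U hU) f hf hd ≫ RelProj.emb pA chartA U hU, inferInstance,
    ⟨w, ?_⟩, ?_⟩
  · rw [Scheme.Hom.comp_apply, hw, hy]
  · have hh := hθφ U hU f
    have h1 : (Proj.awayι (𝒜.deg U hU) f hf hd ≫ RelProj.emb pA chartA U hU) ≫ j' =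
        Spec.map (CommRingCat.ofHom (mapTo (RelProj.gradedHomAt θ hθ U hU)
          (ψU φ hφ U hU f) f hh)) ≫ lft φ hφ j hall U hU hd f hf := by
      rw [← cancel_mono j]
      simp only [Category.assoc]
      rw [hj', lft_fac, emb_comp_of_isRelProjMap θ hθ hirr j₀ hj₀ U hU, ← Category.assoc,
        awayι_mapTo (RelProj.gradedHomAt θ hθ U hU) (hirr U hU) hd (ψU φ hφ U hU f)
          ((ψU φ hφ U hU).2 hf) f hh hf, Category.assoc]
    rw [← Category.assoc, h1, Category.assoc,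
      h U hU d hd f hf _ (lft_fac φ hφ j hall U hU hd f hf), Category.comp_id]
    have e := mapTo_comp (ψU φ hφ U hU) (RelProj.gradedHomAt θ hθ U hU)
      (GradedRingHom.id (𝒜.deg U hU)) (fun x => (hθφ U hU x).symm) f (ψU φ hφ U hU f) f rfl hh
    rw [mapTo_rfl] at e
    have e2 : mapTo (GradedRingHom.id (𝒜.deg U hU)) f f rfl = RingHom.id _ :=
      Away.map_id (𝒜.deg U hU) f
    rw [← Spec.map_comp_assoc, ← CommRingCat.ofHom_comp, e]
    have e3 : Spec.map (CommRingCat.ofHom (mapTo (GradedRingHom.id (𝒜.deg U hU)) f f rfl)) =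
        𝟙 _ := (congrArg (fun m => Spec.map (CommRingCat.ofHom m)) e2).trans (Spec.map_id _)
    exact (congrArg (fun m => m ≫ Proj.awayι (𝒜.deg U hU) f hf hd ≫
      RelProj.emb pA chartA U hU) e3).trans (Category.id_comp _)

end geometry

end Groth.Agent.Lib.Helper3.ProjCone
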