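import Groth.Agent.Lib.Helper3.SymBiprod
import Groth.Prelude.Def_RelSpec2

/-!
# `Sym(E ⊕ O) = Sym(E)[z]`
-/

set_option autoImplicit false
set_option linter.unusedSectionVars false
universe u
open CategoryTheory CategoryTheory.Limits AlgebraicGeometry TopologicalSpace Opposite
open Scheme.Modules
open AlgebraicGeometry.Scheme AlgebraicGeometry.Scheme.AffineZariskiSite

namespace Groth.Agent.Lib.Helper3.SymPoly

open QCSec InvGen HomMk SymAlgLoc AffExt AffGr SymSheaf SymLocal SymGen SymBiprod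

variable {Y : Scheme.{u}} {E : Y.Modules}
  {𝒮 𝒮h : RelProj.QCGrAlg Y} {j : E ⟶ 𝒮.toModule}
  {ι : 𝒮.toQCAlg ⟶ 𝒮h.toQCAlg} {z : 𝒮h.presheaf.obj (op ⊤)}
  (hz : RelCone.IsPolyOver 𝒮 𝒮h ι z)
  (k : Coh.structureModule Y ⟶ 𝒮h.toModule)
  (hk : ∀ U : Y.Opens, (k.app U) (1 : Γ(Y, U)) = RelCone.restrictTop 𝒮h z U)

/-- the restriction of `z` -/
noncomputable abbrev zU (𝒮h : RelProj.QCGrAlg Y) (z : 𝒮h.presheaf.obj (op ⊤)) (U : Y.Opens) :
    𝒮h.presheaf.obj (op U) := RelCone.restrictTop 𝒮h z U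

theorem zU_res {U V : Y.Opens} (h : V ≤ U) :
    (𝒮h.presheaf.map (homOfLE h).op).hom (zU 𝒮h z U) = zU 𝒮h z V :=
  rs_rs 𝒮h.toQCAlg le_top h z

include hk in
theorem k_apply (U : Y.Opens) (a : Γ(Y, U)) :
    k.app U (ofFun U a) = (𝒮h.str.app (op U)).hom a * zU 𝒮h z U := by
  have h1 : ofFun U a = a • ofFun U 1 := by
    rw [smul_ofFun, mul_one]
  rw [h1]
  have h2 := jj_smul 𝒮h.toQCAlg k U a (ofFun U 1)
  change k.app U _ = _ at h2
  rw [h2]
  congr 1
  exact hk U

section lift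

variable (B : RelSpec.QCAlg Y) (χ : 𝒮.toQCAlg ⟶ B) (b : ∀ U : Y.Opens, B.presheaf.obj (op U))
  (hb : ∀ {U V : Y.Opens} (h : V ≤ U), (B.presheaf.map (homOfLE h).op).hom (b U) = b V)

/-- the local extension of a homomorphism `𝒮 → B` to `𝒮[z]`, sending `z` to `b` -/
noncomputable def DU (U : Y.AffineZariskiSite) :
    𝒮h.presheaf.obj (op U.1) →+* B.presheaf.obj (op U.1) :=
  (Polynomial.eval₂RingHom (χ.hom.app (op U.1)).hom (b U.1)).comp
    (hz.polyEquiv U.1 U.2).symm.toRingHom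

theorem polyEquiv_C (U : Y.AffineZariskiSite) (x : 𝒮.presheaf.obj (op U.1)) :
    hz.polyEquiv U.1 U.2 (Polynomial.C x) = (ι.hom.app (op U.1)).hom x := by
  rw [RelCone.IsPolyOver.polyEquiv_apply, Polynomial.eval₂_C]

theorem polyEquiv_X (U : Y.AffineZariskiSite) :
    hz.polyEquiv U.1 U.2 Polynomial.X = zU 𝒮h z U.1 := by
  rw [RelCone.IsPolyOver.polyEquiv_apply, Polynomial.eval₂_X]

theorem DU_ι (U : Y.AffineZariskiSite) (x : 𝒮.presheaf.obj (op U.1)) :
    DU hz B χ b U ((ι.hom.app (op U.1)).hom x) = (χ.hom.app (op U.1)).hom x := by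
  rw [← polyEquiv_C hz U x]
  change Polynomial.eval₂ _ _ ((hz.polyEquiv U.1 U.2).symm (hz.polyEquiv U.1 U.2 _)) = _
  rw [RingEquiv.symm_apply_apply, Polynomial.eval₂_C]

theorem DU_z (U : Y.AffineZariskiSite) :
    DU hz B χ b U (zU 𝒮h z U.1) = b U.1 := by
  rw [← polyEquiv_X hz U]
  change Polynomial.eval₂ _ _ ((hz.polyEquiv U.1 U.2).symm (hz.polyEquiv U.1 U.2 _)) = _
  rw [RingEquiv.symm_apply_apply, Polynomial.eval₂_X]

include hz in
/-- a ring homomorphism out of `𝒮h(U)` is determined on `ι(𝒮(U))` and `z` -/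
theorem ringHom_ext_poly (U : Y.AffineZariskiSite) {T : Type u} [CommRing T]
    (g g' : 𝒮h.presheaf.obj (op U.1) →+* T)
    (h1 : ∀ x : 𝒮.presheaf.obj (op U.1), g ((ι.hom.app (op U.1)).hom x) =
      g' ((ι.hom.app (op U.1)).hom x))
    (h2 : g (zU 𝒮h z U.1) = g' (zU 𝒮h z U.1)) : g = g' := by
  have h : g.comp (hz.polyEquiv U.1 U.2).toRingHom = g'.comp (hz.polyEquiv U.1 U.2).toRingHom := by
    apply Polynomial.ringHom_ext
    · intro x
      change g (hz.polyEquiv U.1 U.2 (Polynomial.C x)) = g' (hz.polyEquiv U.1 U.2 (Polynomial.C x))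
      rw [polyEquiv_C, h1]
    · change g (hz.polyEquiv U.1 U.2 Polynomial.X) = g' (hz.polyEquiv U.1 U.2 Polynomial.X)
      rw [polyEquiv_X, h2]
  refine RingHom.ext fun s => ?_
  have := congr($h ((hz.polyEquiv U.1 U.2).symm s))
  change g (hz.polyEquiv U.1 U.2 _) = g' (hz.polyEquiv U.1 U.2 _) at this
  rwa [RingEquiv.apply_symm_apply] at this

include hb in
theorem DU_res {U V : Y.AffineZariskiSite} (i : V ⟶ U) (s : 𝒮h.presheaf.obj (op U.1)) :
    (B.presheaf.map (homOfLE (toOpens_mono i.le)).op).hom (DU hz B χ b U s) =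
      DU hz B χ b V ((𝒮h.presheaf.map (homOfLE (toOpens_mono i.le)).op).hom s) := by
  have h : (B.presheaf.map (homOfLE (toOpens_mono i.le)).op).hom.comp (DU hz B χ b U) =
      (DU hz B χ b V).comp (𝒮h.presheaf.map (homOfLE (toOpens_mono i.le)).op).hom := by
    apply ringHom_ext_poly hz U
    · intro x
      rw [RingHom.comp_apply, RingHom.comp_apply, DU_ι]
      have h1 : (𝒮h.presheaf.map (homOfLE (toOpens_mono i.le)).op).hom
          ((ι.hom.app (op U.1)).hom x) = (ι.hom.app (op V.1)).hom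
            ((𝒮.presheaf.map (homOfLE (toOpens_mono i.le)).op).hom x) :=
        congr($(ι.hom.naturality (homOfLE (toOpens_mono i.le)).op) x).symm
      rw [h1, DU_ι]
      exact congr($(χ.hom.naturality (homOfLE (toOpens_mono i.le)).op) x).symm
    · rw [RingHom.comp_apply, RingHom.comp_apply, DU_z, zU_res, DU_z, hb]
  exact congr($h s)

end lift

section main

variable [E.IsQuasicoherent] (hS : RelProj.IsGrSymAlg E 𝒮 j)

include hz hk hS in
theorem isSymAlg : RelSpec.IsSymAlg (E ⊞ Coh.structureModule Y) 𝒮h.toQCAlg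
    (biprod.desc (j ≫ RelSpec.QCAlg.Hom.toModuleMap ι) k) := by
  intro B φ
  obtain ⟨χ, hχ, hχuniq⟩ := hS.1 B (biprod.inl ≫ φ)
  let b : ∀ U : Y.Opens, B.presheaf.obj (op U) :=
    fun U => (biprod.inr ≫ φ).app U (ofFun U 1)
  have hb : ∀ {U V : Y.Opens} (h : V ≤ U),
      (B.presheaf.map (homOfLE h).op).hom (b U) = b V := by
    intro U V h
    have h1 := QCExact.app_res' (biprod.inr ≫ φ) h (ofFun U 1)
    rw [res_ofFun, rres_one] at h1
    exact h1.symm
  have hχj : ∀ (U : Y.Opens) (e : Γ(E, U)),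
      (χ.hom.app (op U)).hom (j.app U e) = φ.app U ((biprod.inl : E ⟶ E ⊞ _).app U e) := by
    intro U e
    have := congr($(hχ).app U e)
    exact this
  have hφk : ∀ (U : Y.Opens) (a : Γ(Y, U)),
      φ.app U ((biprod.inr : Coh.structureModule Y ⟶ E ⊞ _).app U (ofFun U a)) =
        (B.str.app (op U)).hom a * b U := by
    intro U a
    have h1 : ofFun U a = a • ofFun U 1 := by
      rw [smul_ofFun, mul_one]
    rw [h1]
    exact jj_smul B (biprod.inr ≫ φ) U a (ofFun U 1)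
  obtain ⟨ψ, hψ⟩ := exists_algHom_of_affine (A := 𝒮h.toQCAlg) (B := B) (DU hz B χ b)
    (fun U a => by
      rw [← ψ_str ι, DU_ι, ψ_str])
    (fun {U V} i s => DU_res hz B χ b hb i s)
  have hJinl : ∀ (U : Y.Opens) (e : Γ(E, U)),
      (biprod.desc (j ≫ RelSpec.QCAlg.Hom.toModuleMap ι) k).app U
        ((biprod.inl : E ⟶ E ⊞ _).app U e) = (ι.hom.app (op U)).hom (j.app U e) := by
    intro U e
    have := congr($(biprod.inl_desc (j ≫ RelSpec.QCAlg.Hom.toModuleMap ι) k).app U e)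
    exact this
  have hJinr : ∀ (U : Y.Opens) (a : Γ(Y, U)),
      (biprod.desc (j ≫ RelSpec.QCAlg.Hom.toModuleMap ι) k).app U
        ((biprod.inr : Coh.structureModule Y ⟶ E ⊞ _).app U (ofFun U a)) =
        (𝒮h.str.app (op U)).hom a * zU 𝒮h z U := by
    intro U a
    have := congr($(biprod.inr_desc (j ≫ RelSpec.QCAlg.Hom.toModuleMap ι) k).app U (ofFun U a))
    exact this.trans (k_apply k hk U a)
  refine ⟨ψ, ?_, ?_⟩
  · refine hom_ext_of_affine _ _ (fun U x => ?_)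
    change (ψ.hom.app (op U.1)).hom
      ((biprod.desc (j ≫ RelSpec.QCAlg.Hom.toModuleMap ι) k).app U.1 x) = φ.app U.1 x
    rw [biprod_decomp U.1 x, QCExact.app_add, QCExact.app_add, hJinl]
    have h2 := hJinr U.1 (toFun U.1 ((biprod.snd : E ⊞ Coh.structureModule Y ⟶ _).app U.1 x))
    change (biprod.desc (j ≫ RelSpec.QCAlg.Hom.toModuleMap ι) k).app U.1
      ((biprod.inr : Coh.structureModule Y ⟶ E ⊞ _).app U.1
        ((biprod.snd : E ⊞ Coh.structureModule Y ⟶ _).app U.1 x)) = _ at h2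
    rw [h2]
    have h3 := hφk U.1 (toFun U.1 ((biprod.snd : E ⊞ Coh.structureModule Y ⟶ _).app U.1 x))
    change φ.app U.1 ((biprod.inr : Coh.structureModule Y ⟶ E ⊞ _).app U.1
        ((biprod.snd : E ⊞ Coh.structureModule Y ⟶ _).app U.1 x)) = _ at h3
    rw [h3, ← hχj]
    change (ψ.hom.app (op U.1)).hom ((ι.hom.app (op U.1)).hom _ + _ * _) = _ + _
    rw [map_add, map_mul, hψ, hψ, hψ, DU_ι, DU_z, ← ψ_str ι, DU_ι, ψ_str]
  · intro ψ' hψ'
    have hψ'E : ι ≫ ψ' = χ := by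
      apply hχuniq
      rw [toModuleMap_comp, ← hψ', ← Category.assoc, ← Category.assoc, biprod.inl_desc]
    refine algHom_ext_of_affine _ _ (fun U s => ?_)
    rw [hψ]
    have h : (ψ'.hom.app (op U.1)).hom = DU hz B χ b U := by
      apply ringHom_ext_poly hz U
      · intro x
        rw [DU_ι, ← hψ'E]
        rfl
      · rw [DU_z]
        have h1 := hJinr U.1 1
        rw [map_one, one_mul] at h1
        rw [← h1]
        have := congr($(hψ').app U.1 ((biprod.inr : Coh.structureModule Y ⟶ E ⊞ _).app U.1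
          (ofFun U.1 1)))
        exact this
    rw [h]

include hz hk hS in
theorem isGrSymAlg : RelProj.IsGrSymAlg (E ⊞ Coh.structureModule Y) 𝒮h
    (biprod.desc (j ≫ RelSpec.QCAlg.Hom.toModuleMap ι) k) := by
  refine ⟨isSymAlg hz k hk hS, fun U hU x => ?_⟩
  rw [biprod_decomp U x, QCExact.app_add]
  refine AddSubgroup.add_mem _ ?_ ?_
  · have h1 := congr($(biprod.inl_desc (j ≫ RelSpec.QCAlg.Hom.toModuleMap ι) k).app U
      ((biprod.fst : E ⊞ Coh.structureModule Y ⟶ _).app U x))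
    change (biprod.desc (j ≫ RelSpec.QCAlg.Hom.toModuleMap ι) k).app U
        ((biprod.inl : E ⟶ E ⊞ _).app U _) = (ι.hom.app (op U)).hom (j.app U _) at h1
    rw [h1]
    exact hz.graded U hU 1 _ (hS.2 U hU _)
  · have h1 := congr($(biprod.inr_desc (j ≫ RelSpec.QCAlg.Hom.toModuleMap ι) k).app U
      ((biprod.snd : E ⊞ Coh.structureModule Y ⟶ _).app U x))
    have h2 := k_apply k hk U (toFun U ((biprod.snd : E ⊞ Coh.structureModule Y ⟶ _).app U x))
    change k.app U ((biprod.snd : E ⊞ Coh.structureModule Y ⟶ _).app U x) = _ at h2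
    change (biprod.desc (j ≫ RelSpec.QCAlg.Hom.toModuleMap ι) k).app U
        ((biprod.inr : Coh.structureModule Y ⟶ E ⊞ _).app U _) = k.app U _ at h1
    rw [h1, h2]
    have h3 := SetLike.mul_mem_graded (𝒮h.str_mem U hU
      (toFun U ((biprod.snd : E ⊞ Coh.structureModule Y ⟶ _).app U x))) (hz.deg_z U hU)
    rwa [zero_add] at h3

end main

end Groth.Agent.Lib.Helper3.SymPoly
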