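import Groth.Agent.Lib.Helper3.ConeSwapA
import Groth.Agent.Lib.Helper3.SymPoly
import Groth.Agent.Lib.Helper3.ConeRange
import Groth.Agent.Lib.Helper3.ProjCone
import Groth.Agent.Lib.Helper3.InvAmple
import Groth.Agent.Lib.Helper3.InvCoh
import Groth.Agent.Lib.Helper3.QCLim
import Groth.Agent.Lib.Helper3.QCOpen
import Groth.Agent.Lib.Helper3.PbIsoCrit
import Groth.Agent.Lib.Helper3.RelTwistExist
import Groth.Agent.Lib.Helper6.PointedProjCone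

/-!
# `P(L ⊕ O) ≅ P(L⁻¹ ⊕ O)`, exchanging the zero section and the section at infinity
-/

set_option autoImplicit false
set_option linter.unusedSectionVars false
universe u
open CategoryTheory CategoryTheory.Limits AlgebraicGeometry TopologicalSpace Opposite
open Scheme.Modules
open scoped HomogeneousIdeal

namespace Groth.Agent.Lib.Helper3.ConeSwapB

open QCSec InvGen InvTensor InvMonoidal PbBasic PbTensor PullLemmas RelChart SymGen TwistHom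
  TwistComp TwistIso ProjBundleUniq ConeSwapA

section nu

variable {Y : Scheme.{u}} {L L' : Y.Modules}
  (ε₀ : CohB1.tensorMod L L' ≅ Coh.structureModule Y)

local notation "OY" => Coh.structureModule Y

variable (L L') in
noncomputable def nuA : L' ⟶ CohB1.tensorMod (L ⊞ OY) L' :=
  (unitorL L').inv ≫ tensorMap (biprod.inr : OY ⟶ L ⊞ OY) (𝟙 L')

noncomputable def nuB : OY ⟶ CohB1.tensorMod (L ⊞ OY) L' :=
  ε₀.inv ≫ tensorMap (biprod.inl : L ⟶ L ⊞ OY) (𝟙 L')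

noncomputable def nuHom : (L' ⊞ OY : Y.Modules) ⟶ CohB1.tensorMod (L ⊞ OY) L' :=
  biprod.desc (nuA L L') (nuB ε₀)

theorem nuA_app (U : Y.Opens) (x : Γ(L', U)) :
    (nuA L L').app U x =
      tm _ L' U ((biprod.inr : OY ⟶ L ⊞ OY).app U (ofFun U 1)) x := by
  have h := unitorL_hom_tm L' U x 1
  rw [one_smul] at h
  have h1 : (unitorL L').inv.app U x = tm _ L' U (ofFun U 1) x := by
    calc (unitorL L').inv.app U x
        = (unitorL L').inv.app U ((unitorL L').hom.app U (tm _ L' U (ofFun U 1) x)) := by rw [h]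
      _ = _ := iso_inv_hom_app _ U _
  change (tensorMap _ (𝟙 L')).app U ((unitorL L').inv.app U x) = _
  rw [h1, tensorMap_tm]
  rfl

theorem nuB_app (U : Y.Opens) (ℓ : Γ(L, U)) (ℓ' : Γ(L', U))
    (hε : ε₀.hom.app U (tm L L' U ℓ ℓ') = ofFun U 1) (c : Γ(Y, U)) :
    (nuB ε₀).app U (ofFun U c) =
      tm _ L' U (c • (biprod.inl : L ⟶ L ⊞ OY).app U ℓ) ℓ' := by
  have h0 : ofFun U c = c • ofFun U 1 := by rw [smul_ofFun, mul_one]
  have h2 : ε₀.inv.app U (ofFun U 1) = tm L L' U ℓ ℓ' := by rw [← hε, iso_inv_hom_app]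
  rw [h0, Scheme.Modules.Hom.app_smul]
  change c • (tensorMap _ (𝟙 L')).app U (ε₀.inv.app U (ofFun U 1)) = _
  rw [h2, tensorMap_tm, tm_smul_left]
  rfl

theorem nuHom_inl (U : Y.Opens) (x : Γ(L', U)) :
    (nuHom ε₀).app U ((biprod.inl : L' ⟶ L' ⊞ OY).app U x) = (nuA L L').app U x :=
  congr($(biprod.inl_desc (nuA L L') (nuB ε₀)).app U x)

theorem nuHom_inr (U : Y.Opens) (x : Γ(OY, U)) :
    (nuHom ε₀).app U ((biprod.inr : OY ⟶ L' ⊞ OY).app U x) = (nuB ε₀).app U x :=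
  congr($(biprod.inr_desc (nuA L L') (nuB ε₀)).app U x)

theorem nuHom_formula (U : Y.Opens) (ℓ : Γ(L, U)) (ℓ' : Γ(L', U))
    (hε : ε₀.hom.app U (tm L L' U ℓ ℓ') = ofFun U 1) (c₁ c₂ : Γ(Y, U)) :
    (nuHom ε₀).app U ((biprod.inl : L' ⟶ L' ⊞ OY).app U (c₁ • ℓ') +
        (biprod.inr : OY ⟶ L' ⊞ OY).app U (ofFun U c₂)) =
      tm _ L' U (c₁ • (biprod.inr : OY ⟶ L ⊞ OY).app U (ofFun U 1) +
        c₂ • (biprod.inl : L ⟶ L ⊞ OY).app U ℓ) ℓ' := by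
  rw [QCExact.app_add, nuHom_inl, nuHom_inr, nuA_app, nuB_app ε₀ U ℓ ℓ' hε, tm_add_left,
    ← tm_smul_comm]

theorem nuHom_bijective (U : Y.Opens) (ℓ : Γ(L, U)) (ℓ' : Γ(L', U)) (hg : IsGen L U ℓ)
    (hg' : IsGen L' U ℓ') (hε : ε₀.hom.app U (tm L L' U ℓ ℓ') = ofFun U 1) :
    Function.Bijective ((nuHom ε₀).app U) := by
  have hdec : ∀ x : Γ((L' ⊞ OY : Y.Modules), U), ∃ c₁ c₂ : Γ(Y, U),
      x = (biprod.inl : L' ⟶ L' ⊞ OY).app U (c₁ • ℓ') +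
        (biprod.inr : OY ⟶ L' ⊞ OY).app U (ofFun U c₂) := by
    intro x
    obtain ⟨c₁, hc₁⟩ := hg'.self.2 ((biprod.fst : L' ⊞ OY ⟶ L').app U x)
    refine ⟨c₁, toFun U ((biprod.snd : L' ⊞ OY ⟶ OY).app U x), ?_⟩
    dsimp only at hc₁
    rw [hc₁]
    exact SymBiprod.biprod_decomp U x
  have hzero : ∀ w : Γ((L' ⊞ OY : Y.Modules), U), (nuHom ε₀).app U w = 0 → w = 0 := by
    intro w hw
    obtain ⟨c₁, c₂, rfl⟩ := hdec w
    rw [nuHom_formula ε₀ U ℓ ℓ' hε] at hw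
    have h3 : c₁ • (biprod.inr : OY ⟶ L ⊞ OY).app U (ofFun U 1) +
        c₂ • (biprod.inl : L ⟶ L ⊞ OY).app U ℓ = 0 := by
      apply InvCoh.tm_gen_injective_self (L ⊞ OY) L' hg'
      dsimp only
      rw [hw, tm_zero_left]
    have h4 := congrArg ((biprod.snd : L ⊞ OY ⟶ OY).app U) h3
    rw [QCExact.app_add, Scheme.Modules.Hom.app_smul, Scheme.Modules.Hom.app_smul,
      SymBiprod.snd_inr, SymBiprod.snd_inl, smul_zero, add_zero, QCExact.app_zero] at h4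
    have hc₁ : c₁ = 0 := (isGenAt_one U).eq_zero h4
    have h5 := congrArg ((biprod.fst : L ⊞ OY ⟶ L).app U) h3
    rw [QCExact.app_add, Scheme.Modules.Hom.app_smul, Scheme.Modules.Hom.app_smul,
      SymBiprod.fst_inr, SymBiprod.fst_inl, smul_zero, zero_add, QCExact.app_zero] at h5
    have hc₂ : c₂ = 0 := hg.self.eq_zero h5
    have h0 : ofFun U (0 : Γ(Y, U)) = 0 := rfl
    rw [hc₁, hc₂, zero_smul, h0, QCExact.app_zero, QCExact.app_zero, add_zero]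
  constructor
  · intro x x' hxx'
    have := hzero (x - x') (by rw [QCExact.app_sub, hxx', sub_self])
    exact sub_eq_zero.1 this
  · intro y
    obtain ⟨t, ht⟩ := InvCoh.tm_gen_surjective_self (L ⊞ OY) L' hg' y
    dsimp only at ht
    obtain ⟨d₁, hd₁⟩ := hg.self.2 ((biprod.fst : L ⊞ OY ⟶ L).app U t)
    dsimp only at hd₁
    refine ⟨(biprod.inl : L' ⟶ L' ⊞ OY).app U
        (toFun U ((biprod.snd : L ⊞ OY ⟶ OY).app U t) • ℓ') +
      (biprod.inr : OY ⟶ L' ⊞ OY).app U (ofFun U d₁), ?_⟩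
    rw [nuHom_formula ε₀ U ℓ ℓ' hε, ← ht]
    have e1 : (biprod.inr : OY ⟶ L ⊞ OY).app U ((biprod.snd : L ⊞ OY ⟶ OY).app U t) =
        toFun U ((biprod.snd : L ⊞ OY ⟶ OY).app U t) •
          (biprod.inr : OY ⟶ L ⊞ OY).app U (ofFun U 1) := by
      rw [← Scheme.Modules.Hom.app_smul, smul_ofFun, mul_one]
      rfl
    have e2 : (biprod.inl : L ⟶ L ⊞ OY).app U ((biprod.fst : L ⊞ OY ⟶ L).app U t) =
        d₁ • (biprod.inl : L ⟶ L ⊞ OY).app U ℓ := by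
      rw [← Scheme.Modules.Hom.app_smul, hd₁]
    have e3 := SymBiprod.biprod_decomp U t
    rw [e1, e2] at e3
    rw [add_comm]
    exact congrArg (fun s => tm _ L' U s ℓ') e3.symm

variable [L.IsQuasicoherent] [L'.IsQuasicoherent]

theorem isIso_nuHom (hL : PicF.IsInvertible L) (hL' : PicF.IsInvertible L') :
    IsIso (nuHom ε₀) := by
  haveI : (L' ⊞ OY : Y.Modules).IsQuasicoherent := QCLim.isQuasicoherent_biprod L' OY
  haveI : (L ⊞ OY : Y.Modules).IsQuasicoherent := QCLim.isQuasicoherent_biprod L OY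
  haveI := InvCoh.isQuasicoherent_tensorMod (L ⊞ OY) L' hL'
  apply PbIsoCrit.isIso_of_bijective_on_affine_cover
  intro y
  obtain ⟨V, ⟨hV, ℓ, ℓ', hg, hg', hε⟩, hyV, -⟩ := TwistComp.small_cover hL hL' ε₀ ⊤ y trivial
  exact ⟨V, hV, hyV, nuHom_bijective ε₀ V ℓ ℓ' hg hg' hε⟩

end nu

section domOpen

variable {Y : Scheme.{u}} {L : Y.Modules} [L.IsQuasicoherent] {𝒮 𝒮h : RelProj.QCGrAlg Y}
  {j : L ⟶ 𝒮.toModule} (hS : RelProj.IsGrSymAlg L 𝒮 j)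
  {ι : 𝒮.toQCAlg ⟶ 𝒮h.toQCAlg} (hι : RelProj.IsGradedHom ι)

include hS in
/-- for a line bundle with a generator `ℓ` over `U`, the domain of definition is `D₊(ι(j ℓ))` -/
theorem domOpen_eq_basicOpen (U : Y.Opens) (hU : IsAffineOpen U) (ℓ : Γ(L, U))
    (hg : IsGenAt L U ℓ) :
    RelCone.domOpen (RelProj.gradedHomAt ι hι U hU) =
      Proj.basicOpen (𝒮h.deg U hU) ((ι.hom.app (op U)).hom (jj 𝒮.toQCAlg j U ℓ)) := by
  apply le_antisymm
  · intro y hy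
    obtain ⟨d, hd, f, hf, hfy⟩ := ProjQMapOn.exists_of_mem_domOpen _ y hy
    apply (Proj.mem_basicOpen _ _ _).2
    intro hℓy
    apply hfy
    have hall : ∀ e : Γ(L, U), (ι.hom.app (op U)).hom (jj 𝒮.toQCAlg j U e) ∈
        y.asHomogeneousIdeal.toIdeal := by
      intro e
      obtain ⟨c, hc⟩ := hg.2 e
      dsimp only at hc
      rw [← hc, jj_smul, map_mul]
      exact Ideal.mul_mem_left _ _ hℓy
    have key : ∀ x : 𝒮.presheaf.obj (op U), x ∈ G 𝒮.toQCAlg j U →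
        ∃ a : Γ(Y, U), (ι.hom.app (op U)).hom (x - st 𝒮.toQCAlg U a) ∈
          y.asHomogeneousIdeal.toIdeal := by
      intro x hx
      induction hx using Subring.closure_induction with
      | mem x hx =>
        rcases hx with ⟨r, rfl⟩ | ⟨e, rfl⟩
        · exact ⟨r, by rw [sub_self, map_zero]; exact zero_mem _⟩
        · exact ⟨0, by rw [map_zero, sub_zero]; exact hall e⟩
      | zero => exact ⟨0, by rw [map_zero, sub_zero, map_zero]; exact zero_mem _⟩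
      | one => exact ⟨1, by rw [map_one, sub_self, map_zero]; exact zero_mem _⟩
      | add x1 x2 _ _ h1 h2 =>
        obtain ⟨a1, h1⟩ := h1
        obtain ⟨a2, h2⟩ := h2
        refine ⟨a1 + a2, ?_⟩
        have : x1 + x2 - st 𝒮.toQCAlg U (a1 + a2) =
            (x1 - st 𝒮.toQCAlg U a1) + (x2 - st 𝒮.toQCAlg U a2) := by
          rw [map_add]; ring
        rw [this, map_add]
        exact add_mem h1 h2
      | neg x1 _ h1 =>
        obtain ⟨a1, h1⟩ := h1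
        refine ⟨-a1, ?_⟩
        have : -x1 - st 𝒮.toQCAlg U (-a1) = -(x1 - st 𝒮.toQCAlg U a1) := by
          rw [map_neg]; ring
        rw [this, map_neg]
        exact neg_mem h1
      | mul x1 x2 _ _ h1 h2 =>
        obtain ⟨a1, h1⟩ := h1
        obtain ⟨a2, h2⟩ := h2
        refine ⟨a1 * a2, ?_⟩
        have : x1 * x2 - st 𝒮.toQCAlg U (a1 * a2) =
            x1 * (x2 - st 𝒮.toQCAlg U a2) + st 𝒮.toQCAlg U a2 * (x1 - st 𝒮.toQCAlg U a1) := by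
          rw [map_mul]; ring
        rw [this, map_add, map_mul, map_mul]
        exact add_mem (Ideal.mul_mem_left _ _ h2) (Ideal.mul_mem_left _ _ h1)
    obtain ⟨a, ha⟩ := key f (by rw [G_eq_top 𝒮.toQCAlg j hS.1 hU]; trivial)
    rw [map_sub] at ha
    have h1 := y.asHomogeneousIdeal.isHomogeneous d ha
    rw [DirectSum.decompose_sub, DirectSum.sub_apply, AddSubgroupClass.coe_sub,
      DirectSum.decompose_of_mem_same _ (hι U hU d f hf),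
      DirectSum.decompose_of_mem_ne _ (hι U hU 0 _ (𝒮.str_mem U hU a)) (Nat.ne_of_lt hd),
      sub_zero] at h1
    exact h1
  · intro y hy
    exact ProjQMapOn.mem_domOpen_of_mem (RelProj.gradedHomAt ι hι U hU) one_pos (hS.2 U hU ℓ) y hy

end domOpen

section cone

variable {Y PC : Scheme.{u}} {L : Y.Modules} [L.IsQuasicoherent] {𝒮 𝒮h : RelProj.QCGrAlg Y}
  {j : L ⟶ 𝒮.toModule} (hS : RelProj.IsGrSymAlg L 𝒮 j)
  {ι : 𝒮.toQCAlg ⟶ 𝒮h.toQCAlg} {z : 𝒮h.presheaf.obj (op ⊤)} (hz : RelCone.IsPolyOver 𝒮 𝒮h ι z)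
  {pC : PC ⟶ Y}
  {chartC : ∀ (U : Y.Opens) (hU : IsAffineOpen U),
    (((pC ⁻¹ᵁ U : PC.Opens) : Scheme.{u}) ≅ Proj (𝒮h.deg U hU))}
  (hPC : RelProj.IsRelProj 𝒮h pC chartC)

local notation "OY" => Coh.structureModule Y

/-- multiplication by `z` -/
noncomputable def kz (𝒮h : RelProj.QCGrAlg Y) (z : 𝒮h.presheaf.obj (op ⊤)) : OY ⟶ 𝒮h.toModule :=
  InvAmple.globalHom 𝒮h.toModule z

theorem kz_one (U : Y.Opens) :
    ((kz 𝒮h z).app U) (1 : Γ(Y, U)) = RelCone.restrictTop 𝒮h z U :=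
  InvAmple.sec_globalHom 𝒮h.toModule z U

/-- the map `L ⊕ O → 𝒮[z]` -/
noncomputable abbrev jE (j : L ⟶ 𝒮.toModule) (ι : 𝒮.toQCAlg ⟶ 𝒮h.toQCAlg)
    (z : 𝒮h.presheaf.obj (op ⊤)) : (L ⊞ OY : Y.Modules) ⟶ 𝒮h.toModule :=
  biprod.desc (j ≫ RelSpec.QCAlg.Hom.toModuleMap ι) (kz 𝒮h z)

include hS hz in
theorem isGrSymAlg_jE : RelProj.IsGrSymAlg (L ⊞ OY) 𝒮h (jE j ι z) :=
  SymPoly.isGrSymAlg hz (kz 𝒮h z) kz_one hS

theorem jj_inr (U : Y.Opens) :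
    jj 𝒮h.toQCAlg (jE j ι z) U ((biprod.inr : OY ⟶ L ⊞ OY).app U (ofFun U 1)) =
      RelCone.restrictTop 𝒮h z U := by
  have h1 := congr($(biprod.inr_desc (j ≫ RelSpec.QCAlg.Hom.toModuleMap ι)
    (kz 𝒮h z)).app U (ofFun U 1))
  exact h1.trans (kz_one U)

theorem jj_inl (U : Y.Opens) (ℓ : Γ(L, U)) :
    jj 𝒮h.toQCAlg (jE j ι z) U ((biprod.inl : L ⟶ L ⊞ OY).app U ℓ) =
      (ι.hom.app (op U)).hom (jj 𝒮.toQCAlg j U ℓ) := by
  have h1 := congr($(biprod.inl_desc (j ≫ RelSpec.QCAlg.Hom.toModuleMap ι)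
    (kz 𝒮h z)).app U ℓ)
  exact h1

include hPC in
theorem mem_AA_inr_iff {i : 𝒮.toQCAlg.spec ⟶ PC} (hi : RelCone.IsConeImm 𝒮 hz pC chartC i)
    (U : Y.Opens) (hU : IsAffineOpen U) (x : PC) (hx : pC.base x ∈ U) :
    x ∈ AA (jE j ι z) chartC U hU ((biprod.inr : OY ⟶ L ⊞ OY).app U (ofFun U 1)) ↔
      x ∈ Set.range i.base := by
  obtain ⟨pt, rfl⟩ := ProjQMap.exists_emb_eq pC chartC U hU x hx
  have h1 := ConeRange.mem_range_coneImm_iff hz hPC hi U hU pt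
  constructor
  · rintro ⟨pt', hpt', he⟩
    have hpp : pt' = pt :=
      Groth.Agent.Lib.Helper6.PointedProjCone.emb_injective pC chartC U hU he
    subst hpp
    apply h1.2
    have := (Proj.mem_basicOpen _ _ _).1 hpt'
    rwa [jj_inr] at this
  · intro h
    refine ⟨pt, ?_, rfl⟩
    apply (Proj.mem_basicOpen _ _ _).2
    rw [jj_inr]
    exact h1.1 h

include hS hPC in
theorem mem_AA_inl_iff (U : Y.Opens) (hU : IsAffineOpen U) (ℓ : Γ(L, U)) (hg : IsGenAt L U ℓ)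
    (x : PC) (hx : pC.base x ∈ U) :
    x ∈ AA (jE j ι z) chartC U hU ((biprod.inl : L ⟶ L ⊞ OY).app U ℓ) ↔
      x ∈ RelCone.pointedProjCone 𝒮 hz pC chartC := by
  have hE : RelCone.pointedProjCone 𝒮 hz pC chartC =
      RelProj.domQ (RelProj.QGrHom.ofHom ι hz.graded) pC chartC :=
    ProjCone.iSup_eq_domQ ι hz.graded hPC
  have hinf := ProjQMapOn.domQ_inf ι hz.graded hPC U hU
  have hdom := domOpen_eq_basicOpen hS hz.graded U hU ℓ hg
  rw [hdom, ← jj_inl (j := j) (ι := ι) (z := z) U ℓ] at hinf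
  constructor
  · intro h
    have h2 : x ∈ RelProj.domQ (RelProj.QGrHom.ofHom ι hz.graded) pC chartC ⊓ pC ⁻¹ᵁ U := by
      rw [hinf]
      exact h
    rw [hE]
    exact h2.1
  · intro h
    rw [hE] at h
    have h2 : x ∈ RelProj.domQ (RelProj.QGrHom.ofHom ι hz.graded) pC chartC ⊓ pC ⁻¹ᵁ U :=
      ⟨h, hx⟩
    rw [hinf] at h2
    exact h2

end cone

section swap

variable {Y PC PC' : Scheme.{u}} {L L' : Y.Modules} [L.IsQuasicoherent] [L'.IsQuasicoherent]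
  (hL : PicF.IsInvertible L) (hL' : PicF.IsInvertible L')
  (ε₀ : CohB1.tensorMod L L' ≅ Coh.structureModule Y)
  {𝒮 𝒮h : RelProj.QCGrAlg Y} {j : L ⟶ 𝒮.toModule} (hS : RelProj.IsGrSymAlg L 𝒮 j)
  {ι : 𝒮.toQCAlg ⟶ 𝒮h.toQCAlg} {z : 𝒮h.presheaf.obj (op ⊤)} (hz : RelCone.IsPolyOver 𝒮 𝒮h ι z)
  {pC : PC ⟶ Y}
  {chartC : ∀ (U : Y.Opens) (hU : IsAffineOpen U),
    (((pC ⁻¹ᵁ U : PC.Opens) : Scheme.{u}) ≅ Proj (𝒮h.deg U hU))}
  (hPC : RelProj.IsRelProj 𝒮h pC chartC)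
  {i : 𝒮.toQCAlg.spec ⟶ PC} (hi : RelCone.IsConeImm 𝒮 hz pC chartC i)
  {𝒮' 𝒮h' : RelProj.QCGrAlg Y} {j' : L' ⟶ 𝒮'.toModule} (hS' : RelProj.IsGrSymAlg L' 𝒮' j')
  {ι' : 𝒮'.toQCAlg ⟶ 𝒮h'.toQCAlg} {z' : 𝒮h'.presheaf.obj (op ⊤)}
  (hz' : RelCone.IsPolyOver 𝒮' 𝒮h' ι' z')
  {pC' : PC' ⟶ Y}
  {chartC' : ∀ (U : Y.Opens) (hU : IsAffineOpen U),
    (((pC' ⁻¹ᵁ U : PC'.Opens) : Scheme.{u}) ≅ Proj (𝒮h'.deg U hU))}
  (hPC' : RelProj.IsRelProj 𝒮h' pC' chartC')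
  {i' : 𝒮'.toQCAlg.spec ⟶ PC'} (hi' : RelCone.IsConeImm 𝒮' hz' pC' chartC' i')

local notation "OY" => Coh.structureModule Y

include hL hL' ε₀ hS hz hPC hi hS' hz' hPC' hi' in
/-- `P(L ⊕ O) ≅ P(L' ⊕ O)` for `L ⊗ L' ≅ O`, exchanging the affine cone and the pointed
projective cone -/
theorem exists_swap : ∃ Φ : PC ≅ PC', Φ.hom ≫ pC' = pC ∧
    (∀ x : PC, Φ.hom.base x ∈ Set.range i'.base ↔
      x ∈ RelCone.pointedProjCone 𝒮 hz pC chartC) ∧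
    (∀ x : PC, Φ.hom.base x ∈ RelCone.pointedProjCone 𝒮' hz' pC' chartC' ↔
      x ∈ Set.range i.base) := by
  classical
  haveI qE : (L ⊞ OY : Y.Modules).IsQuasicoherent := QCLim.isQuasicoherent_biprod L OY
  haveI qF : (L' ⊞ OY : Y.Modules).IsQuasicoherent := QCLim.isQuasicoherent_biprod L' OY
  have hjE := isGrSymAlg_jE hS hz
  have hjF := isGrSymAlg_jE hS' hz'
  obtain ⟨O1P, lamP, hO1P⟩ := RelTwistExist.exists_isRelTwist hPC 1
  obtain ⟨O1Q, lamQ, hO1Q⟩ := RelTwistExist.exists_isRelTwist hPC' 1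
  haveI := isIso_nuHom ε₀ hL hL'
  let ν : (L' ⊞ OY : Y.Modules) ≅ CohB1.tensorMod (L ⊞ OY) L' := asIso (nuHom ε₀)
  let ε : CohB1.tensorMod L' L ≅ OY := braid L' L ≪≫ ε₀
  obtain ⟨Φ, hΦ, hloc⟩ := exists_iso_loci hjE hPC hO1P hjF hPC' hO1Q hL' hL ε ν
  have hlocal : ∀ x : PC, ∃ (V : Y.Opens) (hV : IsAffineOpen V) (ℓ : Γ(L, V)) (ℓ' : Γ(L', V)),
      pC.base x ∈ V ∧ IsGen L V ℓ ∧ IsGen L' V ℓ' ∧
      Φ.hom ⁻¹ᵁ AA (jE j' ι' z') chartC' V hV ((biprod.inr : OY ⟶ L' ⊞ OY).app V (ofFun V 1)) =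
        AA (jE j ι z) chartC V hV ((biprod.inl : L ⟶ L ⊞ OY).app V ℓ) ∧
      Φ.hom ⁻¹ᵁ AA (jE j' ι' z') chartC' V hV ((biprod.inl : L' ⟶ L' ⊞ OY).app V ℓ') =
        AA (jE j ι z) chartC V hV ((biprod.inr : OY ⟶ L ⊞ OY).app V (ofFun V 1)) := by
    intro x
    obtain ⟨V, ⟨hV, ℓ', ℓ, hg', hg, hε⟩, hxV, -⟩ :=
      TwistComp.small_cover hL' hL ε ⊤ (pC.base x) trivial
    have hε₀ : ε₀.hom.app V (tm L L' V ℓ ℓ') = ofFun V 1 := by
      rw [← hε]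
      change _ = ε₀.hom.app V ((braid L' L).hom.app V _)
      rw [braid_hom_tm]
    refine ⟨V, hV, ℓ, ℓ', hxV, hg, hg', ?_, ?_⟩
    · refine hloc V hV ℓ' ℓ hg' hg hε _ _ ?_
      change (nuHom ε₀).app V _ = _
      rw [nuHom_inr, nuB_app ε₀ V ℓ ℓ' hε₀, one_smul]
    · refine hloc V hV ℓ' ℓ hg' hg hε _ _ ?_
      change (nuHom ε₀).app V _ = _
      rw [nuHom_inl, nuA_app]
  have hpp : ∀ x : PC, pC'.base (Φ.hom.base x) = pC.base x := by
    intro x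
    exact congrArg (fun f : PC ⟶ Y => f.base x) hΦ
  refine ⟨Φ, hΦ, ?_, ?_⟩
  · intro x
    obtain ⟨V, hV, ℓ, ℓ', hxV, hg, hg', h1, h2⟩ := hlocal x
    have hxV' : pC'.base (Φ.hom.base x) ∈ V := by
      rw [hpp]
      exact hxV
    have a1 := mem_AA_inr_iff (L := L') (j := j') hz' hPC' hi' V hV (Φ.hom.base x) hxV'
    have a2 := mem_AA_inl_iff hS hz hPC V hV ℓ hg.self x hxV
    have a3 : Φ.hom.base x ∈ AA (jE j' ι' z') chartC' V hV
        ((biprod.inr : OY ⟶ L' ⊞ OY).app V (ofFun V 1)) ↔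
        x ∈ AA (jE j ι z) chartC V hV ((biprod.inl : L ⟶ L ⊞ OY).app V ℓ) := by
      rw [← h1]
      exact Iff.rfl
    exact a1.symm.trans (a3.trans a2)
  · intro x
    obtain ⟨V, hV, ℓ, ℓ', hxV, hg, hg', h1, h2⟩ := hlocal x
    have hxV' : pC'.base (Φ.hom.base x) ∈ V := by
      rw [hpp]
      exact hxV
    have b1 := mem_AA_inl_iff hS' hz' hPC' V hV ℓ' hg'.self (Φ.hom.base x) hxV'
    have b2 := mem_AA_inr_iff (L := L) (j := j) hz hPC hi V hV x hxV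
    have b3 : Φ.hom.base x ∈ AA (jE j' ι' z') chartC' V hV
        ((biprod.inl : L' ⟶ L' ⊞ OY).app V ℓ') ↔
        x ∈ AA (jE j ι z) chartC V hV ((biprod.inr : OY ⟶ L ⊞ OY).app V (ofFun V 1)) := by
      rw [← h2]
      exact Iff.rfl
    exact b1.symm.trans (b3.trans b2)

end swap

end Groth.Agent.Lib.Helper3.ConeSwapB
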