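import Mathlib.Topology.Constructible
import Mathlib.Topology.Spectral.Prespectral

/-! Constructible subsets of constructible subspaces of a prespectral space. -/

set_option autoImplicit false
universe u
open Set Topology

namespace Groth.Agent.Lib.Helper3.ConstrSub

variable {X : Type u} [TopologicalSpace X]

/-- induction principle: constructible sets are finite unions of differences of retrocompact
opens. -/
theorem sdiff_union_induction {P : Set X → Prop}
    (sdiff : ∀ U V : Set X, IsOpen U → IsRetrocompact U → IsOpen V → IsRetrocompact V → P (U \ V))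
    (union : ∀ s t : Set X, IsConstructible s → IsConstructible t → P s → P t → P (s ∪ t))
    (s : Set X) (hs : IsConstructible s) : P s := by
  induction s, hs using BooleanSubalgebra.closure_sdiff_sup_induction with
  | isSublattice =>
    exact ⟨fun s hs t ht ↦ ⟨hs.1.union ht.1, hs.2.union ht.2⟩,
      fun s hs t ht ↦ ⟨hs.1.inter ht.1, hs.2.inter_isOpen ht.2 ht.1⟩⟩
  | bot_mem => exact ⟨isOpen_empty, .empty⟩
  | top_mem => exact ⟨isOpen_univ, .univ⟩
  | sdiff U hU V hV => exact sdiff U V hU.1 hU.2 hV.1 hV.2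
  | sup s hs t ht hs' ht' => exact union s t hs ht hs' ht'

theorem isRetrocompact_of_isConstructible {s : Set X} (hs : IsConstructible s) :
    IsRetrocompact s := by
  refine sdiff_union_induction (P := IsRetrocompact) ?_ ?_ s hs
  · intro U V hUo hUr hVo hVr K hKc hKo
    have h1 : IsCompact (U ∩ K) := hUr hKc hKo
    have h2 : U \ V ∩ K = (U ∩ K) ∩ Vᶜ := by
      ext x; simp only [mem_inter_iff, mem_sdiff, mem_compl_iff]; tauto
    rw [h2]
    exact h1.inter_right hVo.isClosed_compl
  · intro s t _ _ hs ht
    exact hs.union ht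

/-- `RC E W`: the trace of the open `W` on `E` is retrocompact in `E`, phrased inside `X`. -/
def RC (E W : Set X) : Prop := ∀ K : Set X, IsCompact K → IsOpen K → IsCompact (E ∩ K ∩ W)

theorem rc_of_isRetrocompact_preimage {E W : Set X} (hE : IsRetrocompact E)
    (hW : IsRetrocompact ((Subtype.val : E → X) ⁻¹' W)) : RC E W := by
  intro K hKc hKo
  have h1 : IsCompact ((Subtype.val : E → X) ⁻¹' K) := by
    rw [Subtype.isCompact_iff, Subtype.image_preimage_coe]
    exact hE hKc hKo
  have h2 := hW h1 (hKo.preimage continuous_subtype_val)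
  rw [Subtype.isCompact_iff, ← preimage_inter, Subtype.image_preimage_coe] at h2
  have : E ∩ K ∩ W = E ∩ (W ∩ K) := by
    ext x; simp only [mem_inter_iff]; tauto
  rw [this]; exact h2

theorem isConstructible_inter_of_rc [PrespectralSpace X] (E : Set X) (hE : IsConstructible E) :
    ∀ W : Set X, IsOpen W → RC E W → IsConstructible (E ∩ W) := by
  refine sdiff_union_induction
    (P := fun E => ∀ W : Set X, IsOpen W → RC E W → IsConstructible (E ∩ W)) ?_ ?_ E hE
  · intro U V hUo hUr hVo hVr W hWo hrc
    -- G = U ∩ (W ∪ V) is a retrocompact open and (U \ V) ∩ W = G \ V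
    have hG : IsRetrocompact (U ∩ (W ∪ V)) := by
      intro K hKc hKo
      have hK'c : IsCompact (U ∩ K) := hUr hKc hKo
      have hK'o : IsOpen (U ∩ K) := hUo.inter hKo
      have h1 : IsCompact (U \ V ∩ (U ∩ K) ∩ W) := hrc _ hK'c hK'o
      have h2 : IsCompact (V ∩ (U ∩ K)) := hVr hK'c hK'o
      have h3 : U ∩ (W ∪ V) ∩ K = (U \ V ∩ (U ∩ K) ∩ W) ∪ (V ∩ (U ∩ K)) := by
        ext x
        simp only [mem_inter_iff, mem_union, mem_sdiff]
        by_cases hxV : x ∈ V <;> tauto
      rw [h3]
      exact h1.union h2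
    have hGo : IsOpen (U ∩ (W ∪ V)) := hUo.inter (hWo.union hVo)
    have h4 : U \ V ∩ W = (U ∩ (W ∪ V)) \ V := by
      ext x
      simp only [mem_inter_iff, mem_union, mem_sdiff]
      tauto
    rw [h4]
    exact (hG.isConstructible hGo).sdiff (hVr.isConstructible hVo)
  · intro s t hs ht ihs iht W hWo hrc
    have hst : IsRetrocompact (s ∪ t) := isRetrocompact_of_isConstructible (hs.union ht)
    have key : ∀ s' : Set X, s' ⊆ s ∪ t → IsRetrocompact s' → RC s' W := by
      intro s' hs' hs'r K hKc hKo
      have h1 : IsCompact ((s ∪ t) ∩ K ∩ W) := hrc K hKc hKo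
      obtain ⟨K₁, hK₁c, hK₁o, h2, h3⟩ := PrespectralSpace.exists_isCompact_and_isOpen_between h1
        (hKo.inter hWo) (by rintro x ⟨⟨-, hxK⟩, hxW⟩; exact ⟨hxK, hxW⟩)
      have h4 : s' ∩ K ∩ W = s' ∩ K₁ := by
        ext x
        simp only [mem_inter_iff]
        constructor
        · rintro ⟨⟨hxs, hxK⟩, hxW⟩
          exact ⟨hxs, h2 ⟨⟨hs' hxs, hxK⟩, hxW⟩⟩
        · rintro ⟨hxs, hxK₁⟩
          exact ⟨⟨hxs, (h3 hxK₁).1⟩, (h3 hxK₁).2⟩
      rw [h4]
      exact hs'r hK₁c hK₁o
    have h5 := ihs W hWo (key s subset_union_left (isRetrocompact_of_isConstructible hs))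
    have h6 := iht W hWo (key t subset_union_right (isRetrocompact_of_isConstructible ht))
    rw [union_inter_distrib_right]
    exact h5.union h6

/-- S7543 -/
theorem isConstructible_image_val [PrespectralSpace X] (E : Set X) (hE : IsConstructible E)
    (F : Set E) (hF : IsConstructible F) : IsConstructible ((Subtype.val : E → X) '' F) := by
  induction hF using IsConstructible.empty_union_induction with
  | open_retrocompact V hVo hVr =>
    obtain ⟨W, hWo, rfl⟩ := isOpen_induced_iff.1 hVo
    rw [Subtype.image_preimage_coe]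
    exact isConstructible_inter_of_rc E hE W hWo
      (rc_of_isRetrocompact_preimage (isRetrocompact_of_isConstructible hE) hVr)
  | union s hs t ht hs' ht' =>
    rw [image_union]; exact hs'.union ht'
  | compl s hs hs' =>
    have : (Subtype.val : E → X) '' sᶜ = E \ Subtype.val '' s := by
      ext x
      constructor
      · rintro ⟨y, hy, rfl⟩
        refine ⟨y.2, ?_⟩
        rintro ⟨z, hz, hzy⟩
        exact hy (Subtype.val_injective hzy ▸ hz)
      · rintro ⟨hxE, hx⟩
        exact ⟨⟨x, hxE⟩, fun h => hx ⟨_, h, rfl⟩, rfl⟩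
    rw [this]
    exact hE.sdiff hs'

end Groth.Agent.Lib.Helper3.ConstrSub
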