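import Groth.Agent.Lib.Helper3.ModGlue
import Groth.Agent.Lib.Helper3.InvRestrict
import Groth.Agent.Lib.Helper3.QCExact

/-!
# Gluing module homomorphisms over a disjoint open cover by two open immersions
-/

set_option autoImplicit false
set_option linter.unusedSectionVars false
universe u
open CategoryTheory CategoryTheory.Limits AlgebraicGeometry TopologicalSpace Opposite
open Scheme.Modules

namespace Groth.Agent.Lib.Helper3.CoprodMod

open QCSec InvRestrict

section glue

variable {Z X X' : Scheme.{u}} (a : X ⟶ Z) (b : X' ⟶ Z) [IsOpenImmersion a] [IsOpenImmersion b]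

theorem image_preimage_of_le {V : Z.Opens} (h : V ≤ a.opensRange) : a ''ᵁ (a ⁻¹ᵁ V) = V := by
  rw [Scheme.Hom.image_preimage_eq_opensRange_inf]
  exact inf_eq_right.mpr h

/-- definitional identification of sections of the restriction -/
def toR (M : Z.Modules) (W : X.Opens) (m : Γ(M, a ''ᵁ W)) : Γ(M.restrict a, W) := m

/-- definitional identification of sections of the restriction -/
def ofR (M : Z.Modules) (W : X.Opens) (m : Γ(M.restrict a, W)) : Γ(M, a ''ᵁ W) := m

theorem toR_add (M : Z.Modules) (W : X.Opens) (m m' : Γ(M, a ''ᵁ W)) :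
    toR a M W (m + m') = toR a M W m + toR a M W m' := rfl

theorem ofR_add (M : Z.Modules) (W : X.Opens) (m m' : Γ(M.restrict a, W)) :
    ofR a M W (m + m') = ofR a M W m + ofR a M W m' := rfl

theorem ofR_toR (M : Z.Modules) (W : X.Opens) (m : Γ(M, a ''ᵁ W)) :
    ofR a M W (toR a M W m) = m := rfl

theorem toR_ofR (M : Z.Modules) (W : X.Opens) (m : Γ(M.restrict a, W)) :
    toR a M W (ofR a M W m) = m := rfl

theorem toR_smul (M : Z.Modules) (W : X.Opens) (r : Γ(Z, a ''ᵁ W)) (m : Γ(M, a ''ᵁ W)) :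
    toR a M W (r • m) = ((a.appIso W).hom r) • toR a M W m :=
  (smul_X_eq a M W r (toR a M W m)).symm

theorem ofR_smul (M : Z.Modules) (W : X.Opens) (r : Γ(Z, a ''ᵁ W)) (m : Γ(M.restrict a, W)) :
    ofR a M W (((a.appIso W).hom r) • m) = r • ofR a M W m :=
  congrArg (ofR a M W) (smul_X_eq a M W r m)

theorem toR_res (M : Z.Modules) {W' W : X.Opens} (h : W' ≤ W) (m : Γ(M, a ''ᵁ W)) :
    toR a M W' (res M (a.image_mono h) m) = res (M.restrict a) h (toR a M W m) := rfl

theorem ofR_res (M : Z.Modules) {W' W : X.Opens} (h : W' ≤ W) (m : Γ(M.restrict a, W)) :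
    ofR a M W' (res (M.restrict a) h m) = res M (a.image_mono h) (ofR a M W m) := rfl

/-- transport of sections over an open inside the range of `a` along a morphism of the
restrictions -/
noncomputable def loc {M N : Z.Modules} (α : M.restrict a ⟶ N.restrict a) (V : Z.Opens)
    (h : V ≤ a.opensRange) (s : Γ(M, V)) : Γ(N, V) :=
  res N (le_of_eq (image_preimage_of_le a h).symm)
    (ofR a N (a ⁻¹ᵁ V) (α.app (a ⁻¹ᵁ V) (toR a M (a ⁻¹ᵁ V) (res M (a.image_preimage_le V) s))))

theorem loc_add {M N : Z.Modules} (α : M.restrict a ⟶ N.restrict a) (V : Z.Opens)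
    (h : V ≤ a.opensRange) (s s' : Γ(M, V)) :
    loc a α V h (s + s') = loc a α V h s + loc a α V h s' := by
  unfold loc
  rw [QCExact.res_add, toR_add, QCExact.app_add, ofR_add, QCExact.res_add]

theorem loc_smul {M N : Z.Modules} (α : M.restrict a ⟶ N.restrict a) (V : Z.Opens)
    (h : V ≤ a.opensRange) (c : Γ(Z, V)) (s : Γ(M, V)) :
    loc a α V h (c • s) = c • loc a α V h s := by
  unfold loc
  rw [res_smul, toR_smul, Scheme.Modules.Hom.app_smul, ofR_smul, res_smul, rres_rres, rres_self]

theorem loc_res {M N : Z.Modules} (α : M.restrict a ⟶ N.restrict a) {V' V : Z.Opens}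
    (hVV : V' ≤ V) (h : V ≤ a.opensRange) (s : Γ(M, V)) :
    res N hVV (loc a α V h s) = loc a α V' (hVV.trans h) (res M hVV s) := by
  have hW : a ⁻¹ᵁ V' ≤ a ⁻¹ᵁ V := fun _ hx => hVV hx
  have h1 : res M (a.image_preimage_le V') (res M hVV s) =
      res M (a.image_mono hW) (res M (a.image_preimage_le V) s) := by
    rw [res_res, res_res]
  unfold loc
  rw [h1, toR_res a M hW, QCExact.app_res', ofR_res, res_res, res_res]

theorem loc_comp {M N K : Z.Modules} (α : M.restrict a ⟶ N.restrict a)
    (α' : N.restrict a ⟶ K.restrict a) (V : Z.Opens) (h : V ≤ a.opensRange) (s : Γ(M, V)) :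
    loc a α' V h (loc a α V h s) = loc a (α ≫ α') V h s := by
  unfold loc
  rw [res_res, res_self]
  rfl

theorem loc_id {M : Z.Modules} (V : Z.Opens) (h : V ≤ a.opensRange) (s : Γ(M, V)) :
    loc a (𝟙 (M.restrict a)) V h s = s := by
  unfold loc
  change res M _ (res M _ s) = s
  rw [res_res, res_self]

/-- gluing two morphisms given on the two pieces of a disjoint open cover -/
theorem exists_hom_of_cover (hcov : a.opensRange ⊔ b.opensRange = ⊤)
    (hdisj : a.opensRange ⊓ b.opensRange = ⊥) {M N : Z.Modules}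
    (α : M.restrict a ⟶ N.restrict a) (β : M.restrict b ⟶ N.restrict b) :
    ∃ φ : M ⟶ N, (∀ (V : Z.Opens) (h : V ≤ a.opensRange) (s : Γ(M, V)),
        φ.app V s = loc a α V h s) ∧
      (∀ (V : Z.Opens) (h : V ≤ b.opensRange) (s : Γ(M, V)), φ.app V s = loc b β V h s) := by
  classical
  have hsub : ∀ (V : Z.Opens), V ≤ a.opensRange → V ≤ b.opensRange → Subsingleton Γ(N, V) := by
    intro V h1 h2
    have hV : V = ⊥ := le_bot_iff.mp (hdisj ▸ le_inf h1 h2)
    subst hV
    exact Module.subsingleton Γ(Z, ⊥) _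
  let Small : Z.Opens → Prop := fun V => V ≤ a.opensRange ∨ V ≤ b.opensRange
  let D : ∀ V : Z.Opens, Small V → Γ(M, V) → Γ(N, V) := fun V hV s =>
    if h : V ≤ a.opensRange then loc a α V h s else loc b β V (hV.resolve_left h) s
  have hDa : ∀ (V : Z.Opens) (hV : Small V) (h : V ≤ a.opensRange) (s : Γ(M, V)),
      D V hV s = loc a α V h s := fun V hV h s => dif_pos h
  have hDb : ∀ (V : Z.Opens) (hV : Small V) (h : V ≤ b.opensRange) (s : Γ(M, V)),
      D V hV s = loc b β V h s := by
    intro V hV h s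
    by_cases h' : V ≤ a.opensRange
    · haveI := hsub V h' h
      exact Subsingleton.elim _ _
    · exact dif_neg h'
  obtain ⟨φ, hφ⟩ := ModGlue.exists_hom_of_small (M := M) (N := N) Small
    (fun {V V'} hVV hV => hV.imp (le_trans hVV) (le_trans hVV))
    (fun x => by
      have hx : x ∈ a.opensRange ⊔ b.opensRange := by rw [hcov]; trivial
      rcases hx with hx | hx
      · exact ⟨a.opensRange, Or.inl le_rfl, hx⟩
      · exact ⟨b.opensRange, Or.inr le_rfl, hx⟩)
    D
    (fun V hV s s' => by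
      rcases id hV with h | h
      · rw [hDa V hV h, hDa V hV h, hDa V hV h, loc_add]
      · rw [hDb V hV h, hDb V hV h, hDb V hV h, loc_add])
    (fun V hV c s => by
      rcases id hV with h | h
      · rw [hDa V hV h, hDa V hV h, loc_smul]
      · rw [hDb V hV h, hDb V hV h, loc_smul])
    (fun {V V'} hVV hV hV' s => by
      rcases id hV with h | h
      · rw [hDa V hV h, hDa V' hV' (hVV.trans h), loc_res]
      · rw [hDb V hV h, hDb V' hV' (hVV.trans h), loc_res])
  exact ⟨φ, fun V h s => (hφ V (Or.inl h) s).trans (hDa V (Or.inl h) h s),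
    fun V h s => (hφ V (Or.inr h) s).trans (hDb V (Or.inr h) h s)⟩

/-- a morphism is determined by its values over the two pieces of an open cover -/
theorem hom_ext_of_cover (hcov : a.opensRange ⊔ b.opensRange = ⊤) {M N : Z.Modules}
    (φ ψ : M ⟶ N)
    (ha : ∀ (V : Z.Opens), V ≤ a.opensRange → ∀ s : Γ(M, V), φ.app V s = ψ.app V s)
    (hb : ∀ (V : Z.Opens), V ≤ b.opensRange → ∀ s : Γ(M, V), φ.app V s = ψ.app V s) :
    φ = ψ := by
  refine ModGlue.hom_ext_of_small (fun V => V ≤ a.opensRange ∨ V ≤ b.opensRange) ?_ φ ψ ?_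
  · intro W x hx
    have hx' : x ∈ a.opensRange ⊔ b.opensRange := by rw [hcov]; trivial
    rcases hx' with hx' | hx'
    · exact ⟨W ⊓ a.opensRange, Or.inl inf_le_right, ⟨hx, hx'⟩, inf_le_left⟩
    · exact ⟨W ⊓ b.opensRange, Or.inr inf_le_right, ⟨hx, hx'⟩, inf_le_left⟩
  · rintro V (h | h) s
    · exact ha V h s
    · exact hb V h s

/-- two modules which are isomorphic over the two pieces of a disjoint open cover are
isomorphic -/
theorem nonempty_iso_of_cover (hcov : a.opensRange ⊔ b.opensRange = ⊤)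
    (hdisj : a.opensRange ⊓ b.opensRange = ⊥) {M N : Z.Modules}
    (α : M.restrict a ≅ N.restrict a) (β : M.restrict b ≅ N.restrict b) :
    Nonempty (M ≅ N) := by
  obtain ⟨φ, hφa, hφb⟩ := exists_hom_of_cover a b hcov hdisj α.hom β.hom
  obtain ⟨ψ, hψa, hψb⟩ := exists_hom_of_cover a b hcov hdisj α.inv β.inv
  refine ⟨⟨φ, ψ, ?_, ?_⟩⟩
  · refine hom_ext_of_cover a b hcov _ _ (fun V h s => ?_) (fun V h s => ?_)
    · change ψ.app V (φ.app V s) = s
      rw [hφa V h, hψa V h, loc_comp, Iso.hom_inv_id, loc_id]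
    · change ψ.app V (φ.app V s) = s
      rw [hφb V h, hψb V h, loc_comp, Iso.hom_inv_id, loc_id]
  · refine hom_ext_of_cover a b hcov _ _ (fun V h s => ?_) (fun V h s => ?_)
    · change φ.app V (ψ.app V s) = s
      rw [hψa V h, hφa V h, loc_comp, Iso.inv_hom_id, loc_id]
    · change φ.app V (ψ.app V s) = s
      rw [hψb V h, hφb V h, loc_comp, Iso.inv_hom_id, loc_id]

end glue

/-- a module on a disjoint union of two schemes is determined by its inverse images on the two
pieces -/
theorem nonempty_iso_coprod {X X' : Scheme.{u}} (M N : (X ⨿ X').Modules)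
    (α : (Scheme.Modules.pullback (coprod.inl : X ⟶ X ⨿ X')).obj M ≅
      (Scheme.Modules.pullback (coprod.inl : X ⟶ X ⨿ X')).obj N)
    (β : (Scheme.Modules.pullback (coprod.inr : X' ⟶ X ⨿ X')).obj M ≅
      (Scheme.Modules.pullback (coprod.inr : X' ⟶ X ⨿ X')).obj N) :
    Nonempty (M ≅ N) := by
  have hc := isCompl_opensRange_inl_inr X X'
  refine nonempty_iso_of_cover (coprod.inl : X ⟶ X ⨿ X') (coprod.inr : X' ⟶ X ⨿ X')
    hc.sup_eq_top hc.inf_eq_bot ?_ ?_
  · exact (Scheme.Modules.restrictFunctorIsoPullback _).app M ≪≫ α ≪≫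
      ((Scheme.Modules.restrictFunctorIsoPullback _).app N).symm
  · exact (Scheme.Modules.restrictFunctorIsoPullback _).app M ≪≫ β ≪≫
      ((Scheme.Modules.restrictFunctorIsoPullback _).app N).symm

end Groth.Agent.Lib.Helper3.CoprodMod
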