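import Groth.Agent.Lib.Helper3.SymGen
import Groth.Agent.Lib.Helper3.QCExact

/-!
# Morphisms of relative spectra, chart by chart
-/

set_option autoImplicit false
set_option linter.unusedSectionVars false
universe u
open CategoryTheory CategoryTheory.Limits AlgebraicGeometry TopologicalSpace Opposite
open Scheme.Modules

namespace Groth.Agent.Lib.Helper3.SpecMapLocal

open QCSec SymGen

variable {S : Scheme.{u}} {A B : RelSpec.QCAlg S} (ψ : A ⟶ B)

/-- the square of charts of `specMap ψ` is cartesian -/
theorem isPullback_chart (U : S.Opens) (hU : IsAffineOpen U) :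
    IsPullback (Spec.map (ψ.hom.app (op U))) (B.ι U hU) (A.ι U hU)
      (RelSpec.QCAlg.specMap ψ) := by
  apply IsOpenImmersion.isPullback
  · exact RelSpec.QCAlg.ι_specMap U hU ψ
  · rw [← A.π_preimage U hU, ← B.π_preimage U hU, ← Scheme.Hom.comp_preimage,
      RelSpec.QCAlg.specMap_π]

/-- the cover of a relative spectrum by its charts -/
noncomputable def chartCover (A : RelSpec.QCAlg S) : A.spec.OpenCover := A.glueData.cover

/-- a property local on the target holds for `specMap ψ` if it holds chart by chart -/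
theorem specMap_of_charts (P : MorphismProperty Scheme.{u}) [IsZariskiLocalAtTarget P]
    (h : ∀ (U : S.Opens) (_ : IsAffineOpen U), P (Spec.map (ψ.hom.app (op U)))) :
    P (RelSpec.QCAlg.specMap ψ) := by
  refine IsZariskiLocalAtTarget.of_openCover (P := P) (chartCover A) ?_
  intro U
  have hsq := isPullback_chart ψ U.1 U.2
  have h2 : P (hsq.flip.isoPullback.inv ≫ Spec.map (ψ.hom.app (op U.1))) :=
    (P.cancel_left_of_respectsIso _ _).mpr (h U.1 U.2)
  have h1 : hsq.flip.isoPullback.inv ≫ Spec.map (ψ.hom.app (op U.1)) =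
      Scheme.Cover.pullbackHom (chartCover A) (RelSpec.QCAlg.specMap ψ) U := by
    rw [Iso.inv_comp_eq]
    exact hsq.flip.isoPullback_hom_snd.symm
  exact h1 ▸ h2


/-- an epimorphism of quasi-coherent modules induces a surjection of symmetric algebras, over
affine opens -/
theorem surjective_of_epi {E F : S.Modules} [E.IsQuasicoherent] [F.IsQuasicoherent]
    (u : E ⟶ F) [Epi u] (j : E ⟶ A.toModule) (k : F ⟶ B.toModule)
    (hB : RelSpec.IsSymAlg F B k)
    (hψ : j ≫ RelSpec.QCAlg.Hom.toModuleMap ψ = u ≫ k) {U : S.Opens} (hU : IsAffineOpen U) :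
    Function.Surjective (ψ.hom.app (op U)).hom := by
  have hsurj := (QCExact.epi_iff_surjective_on_affines u).mp inferInstance U hU
  rw [← RingHom.range_eq_top, eq_top_iff, ← G_eq_top B k hB hU]
  apply Subring.closure_le.mpr
  rintro y (⟨r, rfl⟩ | ⟨f, rfl⟩)
  · refine ⟨st A U r, ?_⟩
    have := congr($(NatTrans.congr_app ψ.comm (op U)) r)
    exact this
  · obtain ⟨e, rfl⟩ := hsurj f
    refine ⟨jj A j U e, ?_⟩
    have := congr($(hψ).app U e)
    exact this

theorem isClosedImmersion_specMap_of_epi {E F : S.Modules} [E.IsQuasicoherent]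
    [F.IsQuasicoherent] (u : E ⟶ F) [Epi u] (j : E ⟶ A.toModule) (k : F ⟶ B.toModule)
    (hB : RelSpec.IsSymAlg F B k)
    (hψ : j ≫ RelSpec.QCAlg.Hom.toModuleMap ψ = u ≫ k) :
    IsClosedImmersion (RelSpec.QCAlg.specMap ψ) := by
  apply specMap_of_charts ψ @IsClosedImmersion
  intro U hU
  exact IsClosedImmersion.spec_of_surjective _ (surjective_of_epi ψ u j k hB hψ hU)

end Groth.Agent.Lib.Helper3.SpecMapLocal
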