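import Groth.Agent.Lib.Helper3.SymLocal
import Groth.Agent.Lib.Helper3.SpecMapLocal
import Groth.Agent.Lib.Helper3.QCLim

/-!
# The symmetric algebra of a direct sum
-/

set_option autoImplicit false
set_option linter.unusedSectionVars false
universe u
open CategoryTheory CategoryTheory.Limits AlgebraicGeometry TopologicalSpace Opposite
open Scheme.Modules
open AlgebraicGeometry.Scheme AlgebraicGeometry.Scheme.AffineZariskiSite

namespace Groth.Agent.Lib.Helper3.SymBiprod

open QCSec InvGen HomMk SymAlgLoc AffExt AffGr SymSheaf SymLocal SymGen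

variable {S : Scheme.{u}} {E F : S.Modules}

theorem biprod_decomp (U : S.Opens) (x : Γ(E ⊞ F, U)) :
    x = (biprod.inl : E ⟶ E ⊞ F).app U ((biprod.fst : E ⊞ F ⟶ E).app U x) +
      (biprod.inr : F ⟶ E ⊞ F).app U ((biprod.snd : E ⊞ F ⟶ F).app U x) := by
  have h := congr($(biprod.total (X := E) (Y := F)).app U x)
  exact h.symm

theorem fst_inl (U : S.Opens) (e : Γ(E, U)) :
    (biprod.fst : E ⊞ F ⟶ E).app U ((biprod.inl : E ⟶ E ⊞ F).app U e) = e :=
  congr($(biprod.inl_fst (X := E) (Y := F)).app U e)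

theorem snd_inl (U : S.Opens) (e : Γ(E, U)) :
    (biprod.snd : E ⊞ F ⟶ F).app U ((biprod.inl : E ⟶ E ⊞ F).app U e) = 0 :=
  congr($(biprod.inl_snd (X := E) (Y := F)).app U e)

theorem fst_inr (U : S.Opens) (e : Γ(F, U)) :
    (biprod.fst : E ⊞ F ⟶ E).app U ((biprod.inr : F ⟶ E ⊞ F).app U e) = 0 :=
  congr($(biprod.inr_fst (X := E) (Y := F)).app U e)

theorem snd_inr (U : S.Opens) (e : Γ(F, U)) :
    (biprod.snd : E ⊞ F ⟶ F).app U ((biprod.inr : F ⟶ E ⊞ F).app U e) = e :=
  congr($(biprod.inr_snd (X := E) (Y := F)).app U e)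

section pushout

variable [E.IsQuasicoherent] [F.IsQuasicoherent]
  {AE AF A : RelSpec.QCAlg S} {jE : E ⟶ AE.toModule} {jF : F ⟶ AF.toModule}
  {j : E ⊞ F ⟶ A.toModule}
  (hAE : RelSpec.IsSymAlg E AE jE) (hAF : RelSpec.IsSymAlg F AF jF)
  (hA : RelSpec.IsSymAlg (E ⊞ F) A j)
  (ψE : AE ⟶ A) (ψF : AF ⟶ A)
  (hψE : jE ≫ RelSpec.QCAlg.Hom.toModuleMap ψE = biprod.inl ≫ j)
  (hψF : jF ≫ RelSpec.QCAlg.Hom.toModuleMap ψF = biprod.inr ≫ j)

include hψE in
theorem ψE_jE (U : S.Opens) (e : Γ(E, U)) :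
    (ψE.hom.app (op U)).hom (jE.app U e) = j.app U ((biprod.inl : E ⟶ E ⊞ F).app U e) := by
  have := congr($(hψE).app U e)
  exact this

include hψF in
theorem ψF_jF (U : S.Opens) (e : Γ(F, U)) :
    (ψF.hom.app (op U)).hom (jF.app U e) = j.app U ((biprod.inr : F ⟶ E ⊞ F).app U e) := by
  have := congr($(hψF).app U e)
  exact this

theorem ψ_str {B C : RelSpec.QCAlg S} (ψ : B ⟶ C) (U : S.Opens) (r : Γ(S, U)) :
    (ψ.hom.app (op U)).hom ((B.str.app (op U)).hom r) = (C.str.app (op U)).hom r :=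
  congr($(NatTrans.congr_app ψ.comm (op U)) r)

/-- the additive map `e ↦ a (j e)` -/
noncomputable def comp_jj {B : RelSpec.QCAlg S} {G : S.Modules} (k : G ⟶ B.toModule)
    (U : S.Opens) {T : Type u} [CommRing T] (a : B.presheaf.obj (op U) →+* T) : Γ(G, U) →+ T :=
  AddMonoidHom.mk' (fun e => a (jj B k U e)) (fun x y => by rw [jj_add, map_add])

theorem comp_jj_apply {B : RelSpec.QCAlg S} {G : S.Modules} (k : G ⟶ B.toModule)
    (U : S.Opens) {T : Type u} [CommRing T] (a : B.presheaf.obj (op U) →+* T) (e : Γ(G, U)) :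
    comp_jj k U a e = a (jj B k U e) := rfl

theorem comp_jj_smul {B : RelSpec.QCAlg S} {G : S.Modules} (k : G ⟶ B.toModule)
    (U : S.Opens) {T : Type u} [CommRing T] (a : B.presheaf.obj (op U) →+* T) (r : Γ(S, U))
    (e : Γ(G, U)) :
    comp_jj k U a (r • e) = a ((B.str.app (op U)).hom r) * comp_jj k U a e := by
  rw [comp_jj_apply, comp_jj_apply, jj_smul, map_mul]

include hAE hAF hA hψE hψF in
/-- over an affine open, `A(U)` is the coproduct of `AE(U)` and `AF(U)` as algebras -/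
theorem existsUnique_desc (U : S.AffineZariskiSite) {T : Type u} [CommRing T]
    (a : AE.presheaf.obj (op U.1) →+* T) (b : AF.presheaf.obj (op U.1) →+* T)
    (hab : ∀ r : Γ(S, U.1), a ((AE.str.app (op U.1)).hom r) = b ((AF.str.app (op U.1)).hom r)) :
    ∃! g : A.presheaf.obj (op U.1) →+* T,
      (∀ x, g ((ψE.hom.app (op U.1)).hom x) = a x) ∧
      (∀ y, g ((ψF.hom.app (op U.1)).hom y) = b y) := by
  haveI : SheafOfModules.IsQuasicoherent (R := S.ringCatSheaf) (E ⊞ F : S.Modules) :=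
    QCLim.isQuasicoherent_biprod E F
  let σ : Γ(S, U.1) →+* T := a.comp (AE.str.app (op U.1)).hom
  let f : Γ(E ⊞ F, U.1) →+ T :=
    ((comp_jj jE U.1 a).comp ((biprod.fst : E ⊞ F ⟶ E).app U.1).hom) +
      ((comp_jj jF U.1 b).comp ((biprod.snd : E ⊞ F ⟶ F).app U.1).hom)
  have hfdef : ∀ x, f x = comp_jj jE U.1 a ((biprod.fst : E ⊞ F ⟶ E).app U.1 x) +
      comp_jj jF U.1 b ((biprod.snd : E ⊞ F ⟶ F).app U.1 x) := fun x => rfl
  have hf : ∀ (r : Γ(S, U.1)) (x : Γ(E ⊞ F, U.1)), f (r • x) = σ r * f x := by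
    intro r x
    rw [hfdef, hfdef, Scheme.Modules.Hom.app_smul (biprod.fst : E ⊞ F ⟶ E),
      Scheme.Modules.Hom.app_smul (biprod.snd : E ⊞ F ⟶ F), comp_jj_smul, comp_jj_smul, mul_add,
      ← hab]
    rfl
  obtain ⟨g, ⟨hg1, hg2⟩, hguniq⟩ := existsUnique_lift hA U σ f hf
  have hgE : ∀ x, g ((ψE.hom.app (op U.1)).hom x) = a x := by
    obtain ⟨g₀, -, huniq⟩ := existsUnique_lift hAE U σ (comp_jj jE U.1 a)
      (fun r e => comp_jj_smul jE U.1 a r e)
    have e1 : g.comp (ψE.hom.app (op U.1)).hom = g₀ := by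
      apply huniq
      refine ⟨fun r => ?_, fun e => ?_⟩
      · change g ((ψE.hom.app (op U.1)).hom ((AE.str.app (op U.1)).hom r)) = _
        rw [ψ_str, hg1]
      · change g ((ψE.hom.app (op U.1)).hom (jE.app U.1 e)) = _
        rw [ψE_jE ψE hψE, hg2, hfdef, fst_inl, snd_inl, map_zero, add_zero]
    have e2 : a = g₀ := by
      apply huniq
      exact ⟨fun r => rfl, fun e => rfl⟩
    intro x
    have := congr($(e1.trans e2.symm) x)
    exact this
  have hgF : ∀ y, g ((ψF.hom.app (op U.1)).hom y) = b y := by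
    obtain ⟨g₀, -, huniq⟩ := existsUnique_lift hAF U σ (comp_jj jF U.1 b)
      (fun r e => by
        rw [comp_jj_smul, ← hab]
        rfl)
    have e1 : g.comp (ψF.hom.app (op U.1)).hom = g₀ := by
      apply huniq
      refine ⟨fun r => ?_, fun e => ?_⟩
      · change g ((ψF.hom.app (op U.1)).hom ((AF.str.app (op U.1)).hom r)) = _
        rw [ψ_str, hg1]
      · change g ((ψF.hom.app (op U.1)).hom (jF.app U.1 e)) = _
        rw [ψF_jF ψF hψF, hg2, hfdef, fst_inr, snd_inr, map_zero, zero_add]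
    have e2 : b = g₀ := by
      apply huniq
      exact ⟨fun r => (hab r).symm, fun e => rfl⟩
    intro y
    have := congr($(e1.trans e2.symm) y)
    exact this
  refine ⟨g, ⟨hgE, hgF⟩, ?_⟩
  rintro g' ⟨hg'E, hg'F⟩
  apply hguniq
  refine ⟨fun r => ?_, fun x => ?_⟩
  · rw [← ψ_str ψE, hg'E]
    rfl
  · have hx := biprod_decomp U.1 x
    have h1 : j.app U.1 x = (ψE.hom.app (op U.1)).hom (jE.app U.1
          ((biprod.fst : E ⊞ F ⟶ E).app U.1 x)) +
        (ψF.hom.app (op U.1)).hom (jF.app U.1 ((biprod.snd : E ⊞ F ⟶ F).app U.1 x)) := by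
      rw [ψE_jE ψE hψE, ψF_jF ψF hψF]
      conv_lhs => rw [hx]
      exact jj_add A j U.1 _ _
    rw [h1, map_add, hg'E, hg'F, hfdef]
    rfl

include hAE hAF hA hψE hψF in
theorem isPushout (U : S.AffineZariskiSite) :
    IsPushout (AE.str.app (op U.1)) (AF.str.app (op U.1)) (ψE.hom.app (op U.1))
      (ψF.hom.app (op U.1)) := by
  have w : AE.str.app (op U.1) ≫ ψE.hom.app (op U.1) =
      AF.str.app (op U.1) ≫ ψF.hom.app (op U.1) := by
    rw [← NatTrans.comp_app, ← NatTrans.comp_app, ψE.comm, ψF.comm]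
  have ex : ∀ s : PushoutCocone (AE.str.app (op U.1)) (AF.str.app (op U.1)),
      ∃! g : A.presheaf.obj (op U.1) →+* s.pt,
        (∀ x, g ((ψE.hom.app (op U.1)).hom x) = s.inl.hom x) ∧
        (∀ y, g ((ψF.hom.app (op U.1)).hom y) = s.inr.hom y) := fun s =>
    existsUnique_desc hAE hAF hA ψE ψF hψE hψF U s.inl.hom s.inr.hom
      (fun r => congr($(s.condition) r))
  refine ⟨⟨w⟩, ⟨PushoutCocone.IsColimit.mk w (fun s => CommRingCat.ofHom (ex s).exists.choose)
    ?_ ?_ ?_⟩⟩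
  · intro s
    refine CommRingCat.hom_ext (RingHom.ext fun x => ?_)
    exact (ex s).exists.choose_spec.1 x
  · intro s
    refine CommRingCat.hom_ext (RingHom.ext fun x => ?_)
    exact (ex s).exists.choose_spec.2 x
  · intro s m hm1 hm2
    refine CommRingCat.hom_ext ?_
    exact (ex s).unique ⟨fun x => congr($hm1 x), fun y => congr($hm2 y)⟩
      (ex s).exists.choose_spec

include hAE hAF hA hψE hψF in
theorem isPullback_spec (U : S.AffineZariskiSite) :
    IsPullback (Spec.map (ψF.hom.app (op U.1))) (Spec.map (ψE.hom.app (op U.1)))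
      (Spec.map (AF.str.app (op U.1))) (Spec.map (AE.str.app (op U.1))) :=
  ((isPushout hAE hAF hA ψE ψF hψE hψF U).op.map Scheme.Spec)

/-- the chart square of the structure morphism of a relative spectrum -/
theorem isPullback_π (B : RelSpec.QCAlg S) (U : S.Opens) (hU : IsAffineOpen U) :
    IsPullback (B.ι U hU) (Spec.map (B.str.app (op U))) B.π hU.fromSpec := by
  refine (IsOpenImmersion.isPullback (Spec.map (B.str.app (op U))) (B.ι U hU) hU.fromSpec B.π
    (B.ι_π U hU) ?_).flip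
  rw [hU.opensRange_fromSpec, B.π_preimage U hU]

include hAE hAF hA hψE hψF in
/-- `V(E ⊕ F) = V(E) ×_S V(F)` -/
theorem isPullback_specMap :
    IsPullback (RelSpec.QCAlg.specMap ψE) (RelSpec.QCAlg.specMap ψF) AE.π AF.π := by
  refine Scheme.isPullback_of_openCover _ _ _ _ (SpecMapLocal.chartCover AE) (fun U => ?_)
  have hsq := (SpecMapLocal.isPullback_chart ψE U.1 U.2).flip
  have h1 := (isPullback_spec hAE hAF hA ψE ψF hψE hψF U).paste_horiz (isPullback_π AF U.1 U.2)
  have h2 : IsPullback (Spec.map (ψE.hom.app (op U.1))) (A.ι U.1 U.2 ≫ RelSpec.QCAlg.specMap ψF)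
      (AE.ι U.1 U.2 ≫ AE.π) AF.π := by
    rw [RelSpec.QCAlg.ι_specMap, AE.ι_π]
    exact h1.flip
  refine IsPullback.of_iso h2 hsq.isoPullback (Iso.refl _) (Iso.refl _) (Iso.refl _) ?_ ?_ ?_ ?_
  · exact (Category.comp_id _).trans hsq.isoPullback_hom_snd.symm
  · exact (Category.comp_id _).trans (hsq.isoPullback_hom_fst_assoc _).symm
  · exact (Category.comp_id _).trans (Category.id_comp _).symm
  · exact (Category.comp_id _).trans (Category.id_comp _).symm

end pushout

end Groth.Agent.Lib.Helper3.SymBiprod
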