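import Groth.Agent.Lib.Helper3.SymGrading
import Groth.Agent.Lib.Helper3.SymSheaf
import Groth.Agent.Lib.Helper3.GrTransport
import Groth.Prelude.Def_RelProj2

/-!
# The graded symmetric algebra of a quasi-coherent module
-/

set_option autoImplicit false
set_option linter.unusedSectionVars false
universe u
open CategoryTheory CategoryTheory.Limits AlgebraicGeometry TopologicalSpace Opposite
open Scheme.Modules
open AlgebraicGeometry.Scheme AlgebraicGeometry.Scheme.AffineZariskiSite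

namespace Groth.Agent.Lib.Helper3.SymGr

open QCSec SymAlgLoc AffGr SymSheaf SymGrading

section ring

variable {R R' M M' : Type u} [CommRing R] [CommRing R'] [AddCommGroup M] [AddCommGroup M']
  [Module R M] [Module R' M']

theorem ι_mem (m : M) : SymmetricAlgebra.ι R M m ∈ piece R M 1 := by
  simpa only [piece, pow_one] using LinearMap.mem_range_self _ m

theorem algebraMap_mem (r : R) : algebraMap R (SymmetricAlgebra R M) r ∈ piece R M 0 := by
  rw [piece, pow_zero]
  exact Submodule.algebraMap_mem r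

theorem map_piece (Ψ : SymmetricAlgebra R M →+* SymmetricAlgebra R' M')
    (h0 : ∀ r : R, ∃ r' : R', Ψ (algebraMap _ _ r) = algebraMap _ _ r')
    (h1 : ∀ m : M, ∃ m' : M', Ψ (SymmetricAlgebra.ι R M m) = SymmetricAlgebra.ι R' M' m')
    {d : ℕ} {x : SymmetricAlgebra R M} (hx : x ∈ piece R M d) : Ψ x ∈ piece R' M' d := by
  induction hx using Submodule.pow_induction_on_left' with
  | algebraMap r =>
    obtain ⟨r', hr'⟩ := h0 r
    rw [hr']
    exact algebraMap_mem r'
  | add x y i hx hy ihx ihy =>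
    rw [map_add]
    exact add_mem ihx ihy
  | mem_mul m hm i x hx ih =>
    obtain ⟨m₀, rfl⟩ := hm
    obtain ⟨m', hm'⟩ := h1 m₀
    rw [map_mul, hm']
    have := Submodule.mul_mem_mul (ι_mem (R := R') m') ih
    rw [piece, piece, ← pow_add, add_comm] at this
    exact this

end ring

variable {S : Scheme.{u}} (E : S.Modules) [E.IsQuasicoherent]

/-- the grading by symmetric powers, as additive subgroups -/
noncomputable def 𝒢 (U : S.AffineZariskiSite) (d : ℕ) : AddSubgroup ((F E).obj (op U)) :=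
  GrTransport.tr (RingEquiv.refl (SA E U)) (piece Γ(S, U.1) Γ(E, U.1)) d

noncomputable instance (U : S.AffineZariskiSite) : GradedRing (𝒢 E U) :=
  GrTransport.gradedRing (RingEquiv.refl (SA E U)) (piece Γ(S, U.1) Γ(E, U.1))

theorem mem_𝒢 (U : S.AffineZariskiSite) (d : ℕ) (x : SA E U) :
    x ∈ 𝒢 E U d ↔ x ∈ piece Γ(S, U.1) Γ(E, U.1) d := Iff.rfl

theorem hmap (U V : S.AffineZariskiSite) (i : V ⟶ U) (d : ℕ) (x : (F E).obj (op U))
    (hx : x ∈ 𝒢 E U d) : ((F E).map i.op).hom x ∈ 𝒢 E V d := by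
  change tUV E i x ∈ piece Γ(S, V.1) Γ(E, V.1) d
  exact map_piece (tUV E i) (fun r => ⟨_, tUV_algebraMap E i r⟩) (fun m => ⟨_, tUV_ι E i m⟩) hx

theorem hstr (U : S.AffineZariskiSite) (r : Γ(S, U.1)) : ((α E).app (op U)).hom r ∈ 𝒢 E U 0 :=
  algebraMap_mem r

/-- the graded symmetric algebra -/
noncomputable def grSymAlg : RelProj.QCGrAlg S :=
  qcGrAlg (coequifibered E) (𝒢 E) (hmap E) (hstr E)

theorem isGrSymAlg : RelProj.IsGrSymAlg E (grSymAlg E) (j E) := by
  refine ⟨isSymAlg E, fun U hU x => ?_⟩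
  change epsU E ⟨U, hU⟩ ((j E).app U x) ∈ piece Γ(S, U) Γ(E, U) 1
  rw [j_app E ⟨U, hU⟩ x, RingEquiv.apply_symm_apply]
  exact ι_mem x

theorem exists_isGrSymAlg : ∃ (𝒮 : RelProj.QCGrAlg S) (j : E ⟶ 𝒮.toModule),
    RelProj.IsGrSymAlg E 𝒮 j :=
  ⟨grSymAlg E, j E, isGrSymAlg E⟩

end Groth.Agent.Lib.Helper3.SymGr
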