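import Groth.Agent.Lib.Helper3.LinEmb
import Groth.Agent.Lib.Helper3.CoprodMod
import Groth.Agent.Lib.Helper3.SymBiprod
import Groth.Agent.Lib.Helper3.QCLim
import Groth.Agent.Lib.Helper3.SymGr
import Groth.Agent.Lib.Helper3.RelProjExist
import Groth.Agent.Lib.Helper3.RelTwistExist

/-!
# Relative very ampleness on a disjoint union (EGA II 4.4.10 (v))
-/

set_option autoImplicit false
set_option linter.unusedSectionVars false
universe u
open CategoryTheory CategoryTheory.Limits AlgebraicGeometry TopologicalSpace Opposite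
open Scheme.Modules
open scoped HomogeneousIdeal

namespace Groth.Agent.Lib.Helper3.CoprodVA

open QCSec InvGen InvTensor InvMonoidal PbBasic PbTensor PullLemmas RelChart SymGen TwistHom
  ProjBundleUniq LinProj GrModQC HomogeneousLocalization LinEmb

section epi

variable {Y P Q X : Scheme.{u}} {E F : Y.Modules} [E.IsQuasicoherent] [F.IsQuasicoherent]
  {𝒮 : RelProj.QCGrAlg Y} {j : E ⟶ 𝒮.toModule} (hj : RelProj.IsGrSymAlg E 𝒮 j) {p : P ⟶ Y}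
  {chart : ∀ (U : Y.Opens) (hU : IsAffineOpen U),
    ((p ⁻¹ᵁ U : P.Opens) : Scheme.{u}) ≅ Proj (𝒮.deg U hU)}
  (hP : RelProj.IsRelProj 𝒮 p chart) {O1 : P.Modules}
  {lam : ∀ (U : Y.Opens) (hU : IsAffineOpen U),
    O1 ⟶ (Scheme.Modules.pushforward (RelProj.emb p chart U hU)).obj
      (GrTwist.twist (𝒮.deg U hU) 1)}
  (hO1 : RelProj.IsRelTwist 𝒮 p chart 1 O1 lam)
  {𝒯 : RelProj.QCGrAlg Y} {k : F ⟶ 𝒯.toModule} (hk : RelProj.IsGrSymAlg F 𝒯 k) {q : Q ⟶ Y}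
  {chartQ : ∀ (U : Y.Opens) (hU : IsAffineOpen U),
    ((q ⁻¹ᵁ U : Q.Opens) : Scheme.{u}) ≅ Proj (𝒯.deg U hU)}
  (hQ : RelProj.IsRelProj 𝒯 q chartQ) {O1Q : Q.Modules}
  {lamQ : ∀ (U : Y.Opens) (hU : IsAffineOpen U),
    O1Q ⟶ (Scheme.Modules.pushforward (RelProj.emb q chartQ U hU)).obj
      (GrTwist.twist (𝒯.deg U hU) 1)}
  (hO1Q : RelProj.IsRelTwist 𝒯 q chartQ 1 O1Q lamQ)

/-- the standard open of the zero section is empty -/
theorem not_mem_AA_zero (U : Y.Opens) (hU : IsAffineOpen U) (x : P) :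
    x ∉ AA j chart U hU (0 : Γ(E, U)) := by
  rintro ⟨y, hy, -⟩
  have h0 : jj 𝒮.toQCAlg j U (0 : Γ(E, U)) = 0 := QCExact.app_zero j U
  have hmem : jj 𝒮.toQCAlg j U (0 : Γ(E, U)) ∈
      (show ProjectiveSpectrum (𝒮.deg U hU) from y).asHomogeneousIdeal := by
    rw [h0]
    exact zero_mem _
  exact hy hmem

include hj hP hO1 hk hQ hO1Q in
/-- refined form of `LinEmb.exists_immersion_of_epi`: the standard opens correspond -/
theorem exists_immersion_of_epi' (ψ : F ⟶ E) [Epi ψ] (g : X ⟶ Y) (r : X ⟶ P) (hr : r ≫ p = g)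
    [IsImmersion r] :
    ∃ ς : X ⟶ Q, IsImmersion ς ∧ ς ≫ q = g ∧
      Nonempty ((Scheme.Modules.pullback ς).obj O1Q ≅ (Scheme.Modules.pullback r).obj O1) ∧
      ∀ (U : Y.Opens) (hU : IsAffineOpen U) (f : Γ(F, U)),
        ς ⁻¹ᵁ AA k chartQ U hU f = r ⁻¹ᵁ AA j chart U hU (ψ.app U f) := by
  classical
  have hO1i : PicF.IsInvertible O1 :=
    GrTwistGen.isInvertible_of_isRelTwist 𝒮 p chart (SymGenProj.isGenDegOne hj) _ O1 lam
      hO1.bijective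
  have hL : PicF.IsInvertible ((Scheme.Modules.pullback r).obj O1) :=
    isInvertible_pullback r hO1i
  obtain ⟨φ, hφ0⟩ := CanonPhi.exists_phi hj.2 hP hO1
  have hφ : ∀ (U : Y.Opens) (hU : IsAffineOpen U) (e : Γ(E, U)),
      Reads lam U hU (p ⁻¹ᵁ U) (up p O1 U (φ.app U e)) (jj 𝒮.toQCAlg j U e) 1 :=
    fun U hU e => ProjBundleUP.reads_of_fr (d := 1) U hU _ (hj.2 U hU e) _ (hφ0 U hU e)
  obtain ⟨φQ, hφQ0⟩ := CanonPhi.exists_phi hk.2 hQ hO1Q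
  have hφQ : ∀ (U : Y.Opens) (hU : IsAffineOpen U) (f : Γ(F, U)),
      Reads lamQ U hU (q ⁻¹ᵁ U) (up q O1Q U (φQ.app U f)) (jj 𝒯.toQCAlg k U f) 1 :=
    fun U hU f => ProjBundleUP.reads_of_fr (d := 1) U hU _ (hk.2 U hU f) _ (hφQ0 U hU f)
  obtain ⟨s, hs, hc⟩ := Segre.exists_sigma hj hO1 hφ g r hr
  let t : (Scheme.Modules.pullback g).obj F ⟶ (Scheme.Modules.pullback r).obj O1 :=
    (Scheme.Modules.pullback g).map ψ ≫ s
  have ht : ∀ (U : Y.Opens) (f : Γ(F, U)),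
      t.app (g ⁻¹ᵁ U) (pull g F U f) = s.app (g ⁻¹ᵁ U) (pull g E U (ψ.app U f)) := by
    intro U f
    change s.app _ (((Scheme.Modules.pullback g).map ψ).app _ (pull g F U f)) = _
    rw [pull_app]
  haveI : Epi t := by
    haveI := Functor.preservesEpimorphisms_of_adjunction
      (Scheme.Modules.pullbackPushforwardAdjunction g)
    haveI h1 : Epi ((Scheme.Modules.pullback g).map ψ) :=
      @Functor.map_epi _ _ _ _ (Scheme.Modules.pullback g) _ _ _ ψ inferInstance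
    haveI := hs
    exact epi_comp _ _
  obtain ⟨ς, hς, τQ, hτ0⟩ := ProjBundleUP.exists_hom F 𝒯 k hk q chartQ hQ
    O1Q lamQ hO1Q φQ hφQ g _ hL t
  have hτc := compat_of_pull_local ς q g hς φQ τQ.hom t hτ0
  have hcQ : ∀ (U : Y.Opens), IsAffineOpen U → ∀ f : Γ(F, U),
      τQ.hom.app (g ⁻¹ᵁ U) (res _ (preimage_le ς q g hς U)
        (pull ς O1Q (q ⁻¹ᵁ U) (up q O1Q U (φQ.app U f)))) = t.app (g ⁻¹ᵁ U) (pull g _ U f) :=
    fun U _ f => pull_of_compat ς q g hς φQ τQ.hom t hτc U f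
  have hpre : ∀ (U : Y.Opens) (hU : IsAffineOpen U) (f : Γ(F, U)),
      ς ⁻¹ᵁ AA k chartQ U hU f = r ⁻¹ᵁ AA j chart U hU (ψ.app U f) := by
    intro U hU f
    apply le_antisymm
    · refine le_preimage_AA_of_isGenAt hj hP hO1 hφ g s r hr (Iso.refl _) hc U hU (ψ.app U f) _
        (pre_le k chartQ g ς hς U hU f) (fun W' hW' => ?_)
      rw [← ht]
      exact isGenAt_sigma hk hO1Q hφQ g t ς hς τQ hcQ U hU f W' hW'
    · refine le_preimage_AA_of_isGenAt hk hQ hO1Q hφQ g t ς hς τQ hcQ U hU f _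
        (pre_le j chart g r hr U hU (ψ.app U f)) (fun W' hW' => ?_)
      rw [ht]
      exact isGenAt_sigma hj hO1 hφ g s r hr (Iso.refl _) hc U hU (ψ.app U f) W' hW'
  refine ⟨ς, ?_, hς, ⟨τQ⟩, hpre⟩
  refine isImmersion_of_linEmb hj hP hO1 hφ hk hQ hO1Q hφQ g s r hr (Iso.refl _) hc t ς hς τQ hcQ
    (fun x => ?_)
  obtain ⟨U, hU, hxU⟩ := ProjQMap.exists_affine_mem (g x)
  have hqx : q (ς x) ∈ U := by
    rw [← Scheme.Hom.comp_apply, hς]
    exact hxU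
  obtain ⟨y, hy⟩ := ProjQMap.exists_emb_eq q chartQ U hU (ς x) hqx
  obtain ⟨f₀, hf₀⟩ := SymGenProj.exists_jj_notMem hk hU y
  have hx1 : ς x ∈ AA k chartQ U hU f₀ := ⟨y, hf₀, hy⟩
  refine ⟨U, hU, f₀, AddMonoidHom.mk' (fun f₁ : Γ(F, U) => ψ.app U f₁)
    (fun a b => QCExact.app_add ψ U a b), ?_, ?_, hx1, ?_, ?_⟩
  · intro a f₁
    change ψ.app U (a • f₁) = a • ψ.app U f₁
    rw [Scheme.Modules.Hom.app_smul]
  · exact (QCExact.epi_iff_surjective_on_affines ψ).mp inferInstance U hU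
  · exact (hpre U hU f₀).le
  · intro hXV f₁ c hrel
    rw [ht, ht]
    exact hrel

end epi

/-- the morphism from a disjoint union induced by two immersions whose images can be separated
by opens is an immersion -/
theorem isImmersion_coprod_desc {X X' Z : Scheme.{u}} (a : X ⟶ Z) (b : X' ⟶ Z)
    [IsImmersion a] [IsImmersion b]
    (h₁ : ∀ x : X, ∃ U : Z.Opens, a x ∈ U ∧ ∀ x' : X', b x' ∉ U)
    (h₂ : ∀ x' : X', ∃ U : Z.Opens, b x' ∈ U ∧ ∀ x : X, a x ∉ U) :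
    IsImmersion (coprod.desc a b) := by
  haveI : MorphismProperty.RespectsRight @IsImmersion @IsOpenImmersion :=
    ⟨fun i hi f hf => by
      haveI := hi
      haveI := hf
      exact (inferInstance : IsImmersion (f ≫ i))⟩
  haveI : MorphismProperty.HasOfPostcompProperty @IsImmersion @IsOpenImmersion :=
    ⟨fun f g _ hfg => by
      haveI := hfg
      exact IsImmersion.of_comp f g⟩
  have hzl : ∀ x : X, (coprod.desc a b) (coprodMk X X' (Sum.inl x)) = a x := by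
    intro x
    rw [coprodMk_inl, ← Scheme.Hom.comp_apply, coprod.inl_desc]
  have hzr : ∀ x' : X', (coprod.desc a b) (coprodMk X X' (Sum.inr x')) = b x' := by
    intro x'
    rw [coprodMk_inr, ← Scheme.Hom.comp_apply, coprod.inr_desc]
  apply IsZariskiLocalAtTarget.of_forall_source_exists_preimage (P := @IsImmersion)
    (coprod.desc a b)
  intro z
  obtain ⟨w, rfl⟩ := (coprodMk X X').surjective z
  rcases w with x | x'
  · obtain ⟨U, hxU, hU⟩ := h₁ x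
    refine ⟨U, by rw [hzl]; exact hxU, ?_⟩
    have hle : Set.range ((coprod.desc a b ⁻¹ᵁ U).ι) ⊆
        Set.range (coprod.inl : X ⟶ X ⨿ X') := by
      rintro _ ⟨⟨z', hz'⟩, rfl⟩
      obtain ⟨w', rfl⟩ := (coprodMk X X').surjective z'
      rcases w' with x₁ | x₁'
      · exact ⟨x₁, (coprodMk_inl X X' x₁).symm⟩
      · exfalso
        apply hU x₁'
        rw [← hzr]
        exact hz'
    obtain ⟨κ, hκi, hκ⟩ : ∃ κ : ((coprod.desc a b ⁻¹ᵁ U : (X ⨿ X').Opens) : Scheme.{u}) ⟶ X,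
        IsOpenImmersion κ ∧ κ ≫ (coprod.inl : X ⟶ X ⨿ X') = (coprod.desc a b ⁻¹ᵁ U).ι := by
      have hl : IsOpenImmersion.lift (coprod.inl : X ⟶ X ⨿ X') (coprod.desc a b ⁻¹ᵁ U).ι hle ≫
          (coprod.inl : X ⟶ X ⨿ X') = (coprod.desc a b ⁻¹ᵁ U).ι :=
        IsOpenImmersion.lift_fac _ _ _
      haveI : IsOpenImmersion (IsOpenImmersion.lift (coprod.inl : X ⟶ X ⨿ X')
          (coprod.desc a b ⁻¹ᵁ U).ι hle ≫ (coprod.inl : X ⟶ X ⨿ X')) := by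
        rw [hl]
        infer_instance
      exact ⟨_, IsOpenImmersion.of_comp _ (coprod.inl : X ⟶ X ⨿ X'), hl⟩
    haveI := hκi
    have hfac : (coprod.desc a b ⁻¹ᵁ U).ι ≫ coprod.desc a b = κ ≫ a := by
      rw [← hκ, Category.assoc, coprod.inl_desc]
    rw [hfac]
    infer_instance
  · obtain ⟨U, hxU, hU⟩ := h₂ x'
    refine ⟨U, by rw [hzr]; exact hxU, ?_⟩
    have hle : Set.range ((coprod.desc a b ⁻¹ᵁ U).ι) ⊆
        Set.range (coprod.inr : X' ⟶ X ⨿ X') := by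
      rintro _ ⟨⟨z', hz'⟩, rfl⟩
      obtain ⟨w', rfl⟩ := (coprodMk X X').surjective z'
      rcases w' with x₁ | x₁'
      · exfalso
        apply hU x₁
        rw [← hzl]
        exact hz'
      · exact ⟨x₁', (coprodMk_inr X X' x₁').symm⟩
    obtain ⟨κ, hκi, hκ⟩ : ∃ κ : ((coprod.desc a b ⁻¹ᵁ U : (X ⨿ X').Opens) : Scheme.{u}) ⟶ X',
        IsOpenImmersion κ ∧ κ ≫ (coprod.inr : X' ⟶ X ⨿ X') = (coprod.desc a b ⁻¹ᵁ U).ι := by
      have hl : IsOpenImmersion.lift (coprod.inr : X' ⟶ X ⨿ X') (coprod.desc a b ⁻¹ᵁ U).ι hle ≫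
          (coprod.inr : X' ⟶ X ⨿ X') = (coprod.desc a b ⁻¹ᵁ U).ι :=
        IsOpenImmersion.lift_fac _ _ _
      haveI : IsOpenImmersion (IsOpenImmersion.lift (coprod.inr : X' ⟶ X ⨿ X')
          (coprod.desc a b ⁻¹ᵁ U).ι hle ≫ (coprod.inr : X' ⟶ X ⨿ X')) := by
        rw [hl]
        infer_instance
      exact ⟨_, IsOpenImmersion.of_comp _ (coprod.inr : X' ⟶ X ⨿ X'), hl⟩
    haveI := hκi
    have hfac : (coprod.desc a b ⁻¹ᵁ U).ι ≫ coprod.desc a b = κ ≫ b := by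
      rw [← hκ, Category.assoc, coprod.inr_desc]
    rw [hfac]
    infer_instance

/-- relative very ampleness restricts along an open immersion into the source -/
theorem isRelVeryAmple_precomp_openImmersion {X Z Y : Scheme.{u}} (a : X ⟶ Z)
    [IsOpenImmersion a] (f : Z ⟶ Y) (L : Z.Modules) (h : RelProj.IsRelVeryAmple f L) :
    RelProj.IsRelVeryAmple (a ≫ f) ((Scheme.Modules.pullback a).obj L) := by
  obtain ⟨E, hE, 𝒮, j, hj, P, p, chart, hP, O1, lam, hO1, i, hi, hip, ⟨eL⟩⟩ := h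
  haveI := hi
  refine ⟨E, hE, 𝒮, j, hj, P, p, chart, hP, O1, lam, hO1, a ≫ i, inferInstance,
    by rw [Category.assoc, hip], ⟨?_⟩⟩
  exact (Scheme.Modules.pullback a).mapIso eL ≪≫ (Scheme.Modules.pullbackComp a i).app O1

/-- **EGA II 4.4.10 (v)**, the converse: a module on a disjoint union whose restrictions to the two
pieces are relatively very ample is relatively very ample -/
theorem isRelVeryAmple_coprod {X X' Y : Scheme.{u}} (f'' : X ⨿ X' ⟶ Y)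
    (L'' : (X ⨿ X').Modules)
    (h₁ : RelProj.IsRelVeryAmple (coprod.inl ≫ f'')
      ((Scheme.Modules.pullback (coprod.inl : X ⟶ X ⨿ X')).obj L''))
    (h₂ : RelProj.IsRelVeryAmple (coprod.inr ≫ f'')
      ((Scheme.Modules.pullback (coprod.inr : X' ⟶ X ⨿ X')).obj L'')) :
    RelProj.IsRelVeryAmple f'' L'' := by
  obtain ⟨E₁, hE₁, 𝒮₁, j₁, hj₁, P₁, p₁, chart₁, hP₁, O1₁, lam₁, hO1₁, i₁, hi₁, hip₁, ⟨e₁⟩⟩ := h₁
  obtain ⟨E₂, hE₂, 𝒮₂, j₂, hj₂, P₂, p₂, chart₂, hP₂, O1₂, lam₂, hO1₂, i₂, hi₂, hip₂, ⟨e₂⟩⟩ := h₂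
  haveI : E₁.IsQuasicoherent := hE₁
  haveI : E₂.IsQuasicoherent := hE₂
  haveI hEE : (E₁ ⊞ E₂ : Y.Modules).IsQuasicoherent := QCLim.isQuasicoherent_biprod E₁ E₂
  obtain ⟨𝒯, k, hk⟩ := SymGr.exists_isGrSymAlg (E₁ ⊞ E₂ : Y.Modules)
  obtain ⟨Q, q, chartQ, hQ⟩ := RelProjExist.exists_isRelProj 𝒯
  obtain ⟨O1Q, lamQ, hO1Q⟩ := RelTwistExist.exists_isRelTwist hQ 1
  haveI := hi₁
  haveI := hi₂
  obtain ⟨ς₁, hς₁i, hς₁, ⟨ε₁⟩, hpre₁⟩ := exists_immersion_of_epi' hj₁ hP₁ hO1₁ hk hQ hO1Q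
    (biprod.fst : E₁ ⊞ E₂ ⟶ E₁) (coprod.inl ≫ f'') i₁ hip₁
  obtain ⟨ς₂, hς₂i, hς₂, ⟨ε₂⟩, hpre₂⟩ := exists_immersion_of_epi' hj₂ hP₂ hO1₂ hk hQ hO1Q
    (biprod.snd : E₁ ⊞ E₂ ⟶ E₂) (coprod.inr ≫ f'') i₂ hip₂
  haveI := hς₁i
  haveI := hς₂i
  refine ⟨(E₁ ⊞ E₂ : Y.Modules), hEE, 𝒯, k, hk, Q, q, chartQ, hQ, O1Q, lamQ, hO1Q,
    coprod.desc ς₁ ς₂, ?_, ?_, ?_⟩
  · apply isImmersion_coprod_desc
    · intro x
      obtain ⟨U, hU, hxU⟩ := ProjQMap.exists_affine_mem ((coprod.inl ≫ f'') x)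
      have hpx : p₁ (i₁ x) ∈ U := by
        rw [← Scheme.Hom.comp_apply, hip₁]
        exact hxU
      obtain ⟨y, hy⟩ := ProjQMap.exists_emb_eq p₁ chart₁ U hU (i₁ x) hpx
      obtain ⟨e, he⟩ := SymGenProj.exists_jj_notMem hj₁ hU y
      have hx1 : x ∈ i₁ ⁻¹ᵁ AA j₁ chart₁ U hU e := ⟨y, he, hy⟩
      refine ⟨AA k chartQ U hU ((biprod.inl : E₁ ⟶ E₁ ⊞ E₂).app U e), ?_, ?_⟩
      · have hx2 : x ∈ ς₁ ⁻¹ᵁ AA k chartQ U hU ((biprod.inl : E₁ ⟶ E₁ ⊞ E₂).app U e) := by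
          rw [hpre₁ U hU, SymBiprod.fst_inl]
          exact hx1
        exact hx2
      · intro x' hx'
        have hx2 : x' ∈ ς₂ ⁻¹ᵁ AA k chartQ U hU ((biprod.inl : E₁ ⟶ E₁ ⊞ E₂).app U e) := hx'
        rw [hpre₂ U hU, SymBiprod.snd_inl] at hx2
        have hx3 : i₂ x' ∈ AA j₂ chart₂ U hU (0 : Γ(E₂, U)) := hx2
        exact not_mem_AA_zero (j := j₂) (chart := chart₂) U hU (i₂ x') hx3
    · intro x'
      obtain ⟨U, hU, hxU⟩ := ProjQMap.exists_affine_mem ((coprod.inr ≫ f'') x')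
      have hpx : p₂ (i₂ x') ∈ U := by
        rw [← Scheme.Hom.comp_apply, hip₂]
        exact hxU
      obtain ⟨y, hy⟩ := ProjQMap.exists_emb_eq p₂ chart₂ U hU (i₂ x') hpx
      obtain ⟨e, he⟩ := SymGenProj.exists_jj_notMem hj₂ hU y
      have hx1 : x' ∈ i₂ ⁻¹ᵁ AA j₂ chart₂ U hU e := ⟨y, he, hy⟩
      refine ⟨AA k chartQ U hU ((biprod.inr : E₂ ⟶ E₁ ⊞ E₂).app U e), ?_, ?_⟩
      · have hx2 : x' ∈ ς₂ ⁻¹ᵁ AA k chartQ U hU ((biprod.inr : E₂ ⟶ E₁ ⊞ E₂).app U e) := by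
          rw [hpre₂ U hU, SymBiprod.snd_inr]
          exact hx1
        exact hx2
      · intro x hx
        have hx2 : x ∈ ς₁ ⁻¹ᵁ AA k chartQ U hU ((biprod.inr : E₂ ⟶ E₁ ⊞ E₂).app U e) := hx
        rw [hpre₁ U hU, SymBiprod.fst_inr] at hx2
        have hx3 : i₁ x ∈ AA j₁ chart₁ U hU (0 : Γ(E₁, U)) := hx2
        exact not_mem_AA_zero (j := j₁) (chart := chart₁) U hU (i₁ x) hx3
  · apply coprod.hom_ext
    · rw [coprod.inl_desc_assoc, hς₁]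
    · rw [coprod.inr_desc_assoc, hς₂]
  · refine CoprodMod.nonempty_iso_coprod L'' _ ?_ ?_
    · exact e₁ ≪≫ ε₁.symm ≪≫
        (Scheme.Modules.pullbackCongr (coprod.inl_desc ς₁ ς₂).symm).app O1Q ≪≫
        ((Scheme.Modules.pullbackComp (coprod.inl : X ⟶ X ⨿ X') (coprod.desc ς₁ ς₂)).app O1Q).symm
    · exact e₂ ≪≫ ε₂.symm ≪≫
        (Scheme.Modules.pullbackCongr (coprod.inr_desc ς₁ ς₂).symm).app O1Q ≪≫
        ((Scheme.Modules.pullbackComp (coprod.inr : X' ⟶ X ⨿ X') (coprod.desc ς₁ ς₂)).app O1Q).symm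

end Groth.Agent.Lib.Helper3.CoprodVA
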