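import Groth.Agent.Lib.Helper3.CurveVal
import Mathlib.AlgebraicGeometry.Birational.RationalMap
import Mathlib.AlgebraicGeometry.Morphisms.Separated

/-!
# Dominant morphisms from a normal curve to a complete curve and embeddings of function fields
-/

set_option autoImplicit false
universe u
open CategoryTheory CategoryTheory.Limits AlgebraicGeometry TopologicalSpace Opposite

namespace Groth.Agent.Lib.Helper3.CurveMor

open Groth.Agent.Lib.Helper3.CurveVal

attribute [local instance] Curv2.stalkAlgebra

section

variable (k : Type u) [Field k] {X Y : Scheme.{u}} [X.Over (Spec (CommRingCat.of k))]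
  [Y.Over (Spec (CommRingCat.of k))] [IsIntegral X] [IsIntegral Y]

theorem isDominant_fromSpecStalk_generic (X : Scheme.{u}) [IsIntegral X] :
    IsDominant (X.fromSpecStalk (genericPoint X)) := by
  refine ⟨?_⟩
  have h : genericPoint X ∈ Set.range (X.fromSpecStalk (genericPoint X)) :=
    ⟨_, Scheme.fromSpecStalk_closedPoint⟩
  have hd : Dense ({genericPoint X} : Set X) := dense_iff_closure_eq.mpr (genericPoint_spec X)
  exact hd.mono (Set.singleton_subset_iff.mpr h)

variable (φ : Y.functionField →ₐ[k] X.functionField)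

/-- the homomorphism of function fields, in `CommRingCat` -/
noncomputable def phi : Y.functionField ⟶ X.functionField :=
  CommRingCat.ofHom (φ : Y.functionField →+* X.functionField)

/-- the morphism `Spec K(X) ⟶ Y` attached to a `k`-embedding of function fields -/
noncomputable def f0 : Spec X.functionField ⟶ Y :=
  Spec.map (phi k φ) ≫ Y.fromSpecStalk (genericPoint Y)

theorem f0_over : f0 k φ ≫ (Y ↘ Spec (CommRingCat.of k)) =
    X.fromSpecStalk (genericPoint X) ≫ (X ↘ Spec (CommRingCat.of k)) := by
  have e : CommRingCat.ofHom (Curv2.stalkMap k Y (genericPoint Y)) ≫ phi k φ =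
      CommRingCat.ofHom (Curv2.stalkMap k X (genericPoint X)) := by
    ext c
    exact φ.commutes c
  rw [f0, Category.assoc, fromSpecStalk_over, fromSpecStalk_over, ← Spec.map_comp, e]

/-- the valuative square at a point `x` whose local ring is a valuation ring -/
noncomputable def sqx (x : X) [ValuationRing (X.presheaf.stalk x)] :
    ValuativeCommSq (Y ↘ Spec (CommRingCat.of k)) where
  R := X.presheaf.stalk x
  commRing := (X.presheaf.stalk x).commRing
  K := X.functionField
  i₁ := f0 k φ
  i₂ := X.fromSpecStalk x ≫ (X ↘ Spec (CommRingCat.of k))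
  commSq := ⟨by
    rw [f0_over, ← Category.assoc]
    congr 1
    exact (Scheme.SpecMap_stalkSpecializes_fromSpecStalk
      ((genericPoint_spec X).specializes trivial)).symm⟩

theorem exists_lift_at [UniversallyClosed (Y ↘ Spec (CommRingCat.of k))] (x : X)
    [ValuationRing (X.presheaf.stalk x)] :
    ∃ l : Spec (X.presheaf.stalk x) ⟶ Y,
      Spec.map (X.presheaf.stalkSpecializes ((genericPoint_spec X).specializes trivial)) ≫ l =
        f0 k φ ∧
      l ≫ (Y ↘ Spec (CommRingCat.of k)) = X.fromSpecStalk x ≫ (X ↘ Spec (CommRingCat.of k)) := by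
  have hex : ValuativeCriterion.Existence (Y ↘ Spec (CommRingCat.of k)) := by
    have : (ValuativeCriterion.Existence ⊓ @QuasiCompact) (Y ↘ Spec (CommRingCat.of k)) := by
      rw [← UniversallyClosed.eq_valuativeCriterion]; infer_instance
    exact this.1
  obtain ⟨⟨l⟩⟩ := hex (sqx k φ x)
  exact ⟨l.l, l.fac_left, l.fac_right⟩

omit [IsIntegral Y] [X.Over (Spec (CommRingCat.of k))] [Y.Over (Spec (CommRingCat.of k))] in
theorem fromSpecStalkOfMem_specializes (g : X.PartialMap Y) {x y : X} (h : x ⤳ y)
    (hy : y ∈ g.domain) (hx : x ∈ g.domain) :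
    Spec.map (X.presheaf.stalkSpecializes h) ≫ g.fromSpecStalkOfMem hy =
      g.fromSpecStalkOfMem hx := by
  rw [Scheme.PartialMap.fromSpecStalkOfMem, Scheme.PartialMap.fromSpecStalkOfMem,
    ← Category.assoc]
  congr 1
  rw [← cancel_mono g.domain.ι, Category.assoc, Scheme.Opens.fromSpecStalkOfMem_ι,
    Scheme.Opens.fromSpecStalkOfMem_ι, Scheme.SpecMap_stalkSpecializes_fromSpecStalk]

theorem exists_partialMap [LocallyOfFiniteType (Y ↘ Spec (CommRingCat.of k))] (x : X)
    (l : Spec (X.presheaf.stalk x) ⟶ Y)
    (h1 : Spec.map (X.presheaf.stalkSpecializes ((genericPoint_spec X).specializes trivial)) ≫ l =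
      f0 k φ)
    (h2 : l ≫ (Y ↘ Spec (CommRingCat.of k)) =
      X.fromSpecStalk x ≫ (X ↘ Spec (CommRingCat.of k))) :
    ∃ g : X.PartialMap Y, x ∈ g.domain ∧ g.toRationalMap =
      Scheme.RationalMap.ofFunctionField (X ↘ Spec (CommRingCat.of k))
        (Y ↘ Spec (CommRingCat.of k)) (f0 k φ) (f0_over k φ) := by
  refine ⟨Scheme.PartialMap.ofFromSpecStalk (X ↘ Spec (CommRingCat.of k))
    (Y ↘ Spec (CommRingCat.of k)) l h2,
    Scheme.PartialMap.mem_domain_ofFromSpecStalk _ _ l h2, ?_⟩
  apply Scheme.RationalMap.eq_of_fromFunctionField_eq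
  rw [Scheme.RationalMap.fromFunctionField_ofFunctionField,
    Scheme.RationalMap.fromFunctionField_toRationalMap]
  rw [← h1]
  conv_rhs => rw [← Scheme.PartialMap.fromSpecStalkOfMem_ofFromSpecStalk
    (X ↘ Spec (CommRingCat.of k)) (Y ↘ Spec (CommRingCat.of k)) l h2]
  exact (fromSpecStalkOfMem_specializes _ _ _ _).symm

theorem exists_hom [LocallyOfFiniteType (Y ↘ Spec (CommRingCat.of k))]
    [UniversallyClosed (Y ↘ Spec (CommRingCat.of k))] [Y.IsSeparated]
    (hv : ∀ x : X, ValuationRing (X.presheaf.stalk x)) :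
    ∃ u : X ⟶ Y, X.fromSpecStalk (genericPoint X) ≫ u = f0 k φ := by
  set r := Scheme.RationalMap.ofFunctionField (X ↘ Spec (CommRingCat.of k))
    (Y ↘ Spec (CommRingCat.of k)) (f0 k φ) (f0_over k φ) with hr
  have hdom : r.domain = ⊤ := by
    rw [eq_top_iff]
    intro x _
    haveI := hv x
    obtain ⟨l, h1, h2⟩ := exists_lift_at k φ x
    exact Scheme.RationalMap.mem_domain.mpr (exists_partialMap k φ x l h1 h2)
  have hp : r.toPartialMap.toRationalMap = r := Scheme.RationalMap.toRationalMap_toPartialMap r
  have hpd : r.toPartialMap.domain = ⊤ := hdom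
  have hle : (⊤ : X.Opens) ≤ r.toPartialMap.domain := le_of_eq hpd.symm
  have hη : genericPoint X ∈ r.toPartialMap.domain := by rw [hpd]; trivial
  have h1 : X.topIso.inv ≫ (⊤ : X.Opens).ι = 𝟙 X := by
    rw [← Scheme.topIso_hom, Iso.inv_hom_id]
  have hι : r.toPartialMap.domain.ι ≫ X.topIso.inv ≫ X.homOfLE hle = 𝟙 _ := by
    rw [← cancel_mono r.toPartialMap.domain.ι, Category.assoc, Category.assoc, Scheme.homOfLE_ι,
      h1, Category.comp_id, Category.id_comp]
  have e1 : r.fromFunctionField = f0 k φ :=
    Scheme.RationalMap.fromFunctionField_ofFunctionField _ _ _ _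
  have e2 : r.toPartialMap.fromFunctionField = f0 k φ := by
    rw [← Scheme.RationalMap.fromFunctionField_toRationalMap, hp, e1]
  refine ⟨X.topIso.inv ≫ X.homOfLE hle ≫ r.toPartialMap.hom, ?_⟩
  calc X.fromSpecStalk (genericPoint X) ≫ X.topIso.inv ≫ X.homOfLE hle ≫ r.toPartialMap.hom
      = (r.toPartialMap.domain.fromSpecStalkOfMem (genericPoint X) hη ≫
          r.toPartialMap.domain.ι) ≫ X.topIso.inv ≫ X.homOfLE hle ≫ r.toPartialMap.hom := by
        rw [Scheme.Opens.fromSpecStalkOfMem_ι]
    _ = r.toPartialMap.domain.fromSpecStalkOfMem (genericPoint X) hη ≫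
          (r.toPartialMap.domain.ι ≫ X.topIso.inv ≫ X.homOfLE hle) ≫ r.toPartialMap.hom := by
        simp only [Category.assoc]
    _ = r.toPartialMap.domain.fromSpecStalkOfMem (genericPoint X) hη ≫ r.toPartialMap.hom := by
        rw [hι, Category.id_comp]
    _ = f0 k φ := e2

omit [X.Over (Spec (CommRingCat.of k))] [Y.Over (Spec (CommRingCat.of k))] in
/-- the basic identity relating the stalk map at the generic point and `fromSpecStalk` -/
theorem specMap_stalk_generic (u : X ⟶ Y) (hu : u.base (genericPoint X) = genericPoint Y) :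
    Spec.map (Y.presheaf.stalkSpecializes (specializes_of_eq hu) ≫
      u.stalkMap (genericPoint X)) ≫ Y.fromSpecStalk (genericPoint Y) =
      X.fromSpecStalk (genericPoint X) ≫ u := by
  rw [Spec.map_comp, Category.assoc, Scheme.SpecMap_stalkSpecializes_fromSpecStalk,
    Scheme.SpecMap_stalkMap_fromSpecStalk]

theorem base_generic (u : X ⟶ Y) (hu : X.fromSpecStalk (genericPoint X) ≫ u = f0 k φ) :
    u.base (genericPoint X) = genericPoint Y := by
  have h1 : (X.fromSpecStalk (genericPoint X) ≫ u)
      (IsLocalRing.closedPoint (X.presheaf.stalk (genericPoint X))) = u (genericPoint X) := by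
    rw [Scheme.Hom.comp_apply, Scheme.fromSpecStalk_closedPoint]
  have h2 : (f0 k φ) (IsLocalRing.closedPoint (X.presheaf.stalk (genericPoint X))) =
      genericPoint Y := by
    rw [f0, Scheme.Hom.comp_apply]
    haveI : Subsingleton (PrimeSpectrum Y.functionField) := inferInstance
    have : (Spec.map (phi k φ)) (IsLocalRing.closedPoint (X.presheaf.stalk (genericPoint X))) =
        IsLocalRing.closedPoint (Y.presheaf.stalk (genericPoint Y)) :=
      Subsingleton.elim (α := PrimeSpectrum Y.functionField) _ _
    rw [this, Scheme.fromSpecStalk_closedPoint]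
  have h3 : u (genericPoint X) = genericPoint Y := by rw [← h1, hu, h2]
  exact h3

end

/-- **EGA II 7.4.9** (dominant morphisms of curves and embeddings of function fields) -/
theorem main (k : Type u) [Field k] (X Y : Scheme.{u})
    [X.Over (Spec (CommRingCat.of k))] [LocallyOfFiniteType (X ↘ (Spec (CommRingCat.of k)))]
    [QuasiCompact (X ↘ (Spec (CommRingCat.of k)))] [IsSeparated (X ↘ (Spec (CommRingCat.of k)))]
    [IsIntegral X]
    (hX : ∀ x : X, IsClosed ({x} : Set X) → ringKrullDim (X.presheaf.stalk x) = 1)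
    (hnorm : Pi1.IsNormalScheme X)
    [Y.Over (Spec (CommRingCat.of k))] [IsProper (Y ↘ (Spec (CommRingCat.of k)))] [IsIntegral Y]
    (φ : Y.functionField →ₐ[k] X.functionField) :
    ∃! u : X ⟶ Y, u ≫ (Y ↘ (Spec (CommRingCat.of k))) = X ↘ (Spec (CommRingCat.of k)) ∧
      ∃ hu : u.base (genericPoint X) = genericPoint Y,
        (Y.presheaf.stalkSpecializes (specializes_of_eq hu) ≫
          u.stalkMap (genericPoint X)).hom = (φ : Y.functionField →+* X.functionField) := by
  haveI : IsNoetherianRing (CommRingCat.of k) := inferInstanceAs (IsNoetherianRing k)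
  haveI : IsLocallyNoetherian X :=
    LocallyOfFiniteType.isLocallyNoetherian (X ↘ Spec (CommRingCat.of k))
  haveI : CompactSpace X :=
    QuasiCompact.compactSpace_of_compactSpace (X ↘ Spec (CommRingCat.of k))
  haveI : Y.IsSeparated :=
    (HasAffineProperty.iff_of_isAffine (P := @IsSeparated)
      (f := Y ↘ Spec (CommRingCat.of k))).mp inferInstance
  haveI := isDominant_fromSpecStalk_generic X
  have hv : ∀ x : X, ValuationRing (X.presheaf.stalk x) := by
    intro x
    by_cases hx : x = genericPoint X
    · subst hx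
      have : IsField (X.presheaf.stalk (genericPoint X)) :=
        Field.toIsField X.functionField
      letI := this.toField
      exact ValuationRing.of_field _
    · have hxc := isClosed_of_ne_genericPoint X hX x hx
      exact valuationRing_stalk X x (hX x hxc) (hnorm x).2
  obtain ⟨u, hu⟩ := exists_hom k φ hv
  have huo : u ≫ (Y ↘ (Spec (CommRingCat.of k))) = X ↘ (Spec (CommRingCat.of k)) := by
    apply ext_of_isDominant (ι := X.fromSpecStalk (genericPoint X))
    rw [← Category.assoc, hu, f0_over]
  have hub := base_generic k φ u hu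
  refine ⟨u, ⟨huo, hub, ?_⟩, ?_⟩
  · have e1 := specMap_stalk_generic u hub
    rw [hu, f0] at e1
    have e2 := Spec.map_injective ((cancel_mono (Y.fromSpecStalk (genericPoint Y))).mp e1)
    rw [e2]
    rfl
  · rintro u' ⟨-, hub', hst'⟩
    have e1 := specMap_stalk_generic u' hub'
    have e2 : Y.presheaf.stalkSpecializes (specializes_of_eq hub') ≫
        u'.stalkMap (genericPoint X) = phi k φ := CommRingCat.hom_ext hst'
    rw [e2] at e1
    apply ext_of_isDominant (ι := X.fromSpecStalk (genericPoint X))
    rw [← e1, hu]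
    rfl

end Groth.Agent.Lib.Helper3.CurveMor
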