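import Groth.Prelude.Def_CurvBase
import Groth.Prelude.Def_Pi1
import Mathlib.AlgebraicGeometry.ValuativeCriterion
import Mathlib.AlgebraicGeometry.FunctionField
import Mathlib.AlgebraicGeometry.Noetherian
import Mathlib.AlgebraicGeometry.Stalk
import Mathlib.AlgebraicGeometry.Morphisms.Proper
import Mathlib.RingTheory.DiscreteValuationRing.TFAE
import Mathlib.RingTheory.KrullDimension.LocalRing
import Mathlib.RingTheory.Valuation.ValuationSubring

/-!
# Local rings of a normal complete curve are the valuation rings of its function field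
-/

set_option autoImplicit false
universe u
open CategoryTheory CategoryTheory.Limits AlgebraicGeometry TopologicalSpace Opposite

namespace Groth.Agent.Lib.Helper3.CurveVal

attribute [local instance] Curv2.stalkAlgebra

section general

variable (X : Scheme.{u}) [IsIntegral X]

theorem algebraMap_stalk_eq (x : X) :
    algebraMap (X.presheaf.stalk x) X.functionField =
      (X.presheaf.stalkSpecializes ((genericPoint_spec X).specializes trivial)).hom := rfl

theorem isClosed_of_ne_genericPoint [CompactSpace X]
    (hX : ∀ x : X, IsClosed ({x} : Set X) → ringKrullDim (X.presheaf.stalk x) = 1) (x : X)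
    (hx : x ≠ genericPoint X) : IsClosed ({x} : Set X) := by
  obtain ⟨y, hy, hyc⟩ := IsClosed.exists_closed_singleton (isClosed_closure (s := ({x} : Set X)))
    ⟨x, subset_closure rfl⟩
  have hxy : x ⤳ y := specializes_iff_mem_closure.mpr hy
  have hdim := hX y hyc
  haveI : Ring.KrullDimLE 1 (X.presheaf.stalk y) := Ring.krullDimLE_iff.mpr (by simp [hdim])
  obtain ⟨p, hp⟩ : x ∈ Set.range (X.fromSpecStalk y) := by
    rw [Scheme.range_fromSpecStalk]; exact hxy
  have hηy : genericPoint X ⤳ y := (genericPoint_spec X).specializes trivial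
  obtain ⟨p₀, hp₀⟩ : genericPoint X ∈ Set.range (X.fromSpecStalk y) := by
    rw [Scheme.range_fromSpecStalk]; exact hηy
  have hpne : p.asIdeal ≠ ⊥ := by
    intro hbot
    apply hx
    have h1 : p ⤳ p₀ := (PrimeSpectrum.le_iff_specializes p p₀).mp (by
      change p.asIdeal ≤ p₀.asIdeal
      rw [hbot]; exact bot_le)
    have h2 : x ⤳ genericPoint X := by
      rw [← hp, ← hp₀]
      exact h1.map (X.fromSpecStalk y).continuous
    exact (h2.antisymm ((genericPoint_spec X).specializes trivial)).eq
  have hmax : p.asIdeal.IsMaximal := Ideal.IsPrime.isMaximal_of_ne_bot p.isPrime hpne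
  have hpc : p = IsLocalRing.closedPoint (X.presheaf.stalk y) :=
    PrimeSpectrum.ext (IsLocalRing.eq_maximalIdeal hmax)
  have : x = y := by rw [← hp, hpc, Scheme.fromSpecStalk_closedPoint]
  rw [this]; exact hyc

theorem valuationRing_stalk [IsLocallyNoetherian X] (x : X)
    (hdim : ringKrullDim (X.presheaf.stalk x) = 1)
    (hn : IsIntegrallyClosed (X.presheaf.stalk x)) : ValuationRing (X.presheaf.stalk x) := by
  have hnf : ¬ IsField (X.presheaf.stalk x) := fun h => by
    have := ringKrullDim_eq_zero_of_isField h
    rw [hdim] at this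
    exact one_ne_zero this
  haveI : Ring.KrullDimLE 1 (X.presheaf.stalk x) := Ring.krullDimLE_iff.mpr (by simp [hdim])
  have hm : IsLocalRing.maximalIdeal (X.presheaf.stalk x) ≠ ⊥ :=
    fun h => hnf (IsLocalRing.isField_iff_maximalIdeal_eq.mpr h)
  have h31 : (IsIntegrallyClosed (X.presheaf.stalk x) ∧
      ∃! P : Ideal (X.presheaf.stalk x), P ≠ ⊥ ∧ P.IsPrime) ↔
      ValuationRing (X.presheaf.stalk x) :=
    (IsDiscreteValuationRing.TFAE (X.presheaf.stalk x) hnf).out 3 1
  exact h31.mp ⟨hn, IsLocalRing.maximalIdeal _, ⟨hm, inferInstance⟩, fun P hP =>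
    IsLocalRing.eq_maximalIdeal (Ideal.IsPrime.isMaximal_of_ne_bot hP.2 hP.1)⟩

theorem range_ne_univ (x : X) (hdim : ringKrullDim (X.presheaf.stalk x) = 1) :
    Set.range (algebraMap (X.presheaf.stalk x) X.functionField) ≠ Set.univ := by
  intro h
  have hs : Function.Surjective (algebraMap (X.presheaf.stalk x) X.functionField) :=
    Set.range_eq_univ.mp h
  have hf : IsField (X.presheaf.stalk x) := IsFractionRing.surjective_iff_isField.mp hs
  have := ringKrullDim_eq_zero_of_isField hf
  rw [hdim] at this
  exact one_ne_zero this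

/-- the local ring at `x`, when it is a valuation ring, as a valuation subring of the function
field -/
noncomputable def stalkVS (x : X) (_h : ValuationRing (X.presheaf.stalk x)) :
    ValuationSubring X.functionField :=
  { (algebraMap (X.presheaf.stalk x) X.functionField).range with
    mem_or_inv_mem' := fun a => by
      rcases ValuationRing.isInteger_or_isInteger (X.presheaf.stalk x) a with ⟨b, hb⟩ | ⟨b, hb⟩
      · exact Or.inl ⟨b, hb⟩
      · exact Or.inr ⟨b, hb⟩ }

theorem coe_stalkVS (x : X) (h : ValuationRing (X.presheaf.stalk x)) :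
    ((stalkVS X x h : ValuationSubring X.functionField) : Set X.functionField) =
      Set.range (algebraMap (X.presheaf.stalk x) X.functionField) := rfl

theorem surjective_of_eq_genericPoint (x : X) (h : x = genericPoint X) :
    Function.Surjective (algebraMap (X.presheaf.stalk x) X.functionField) := by
  subst h
  intro a
  refine ⟨a, ?_⟩
  rw [algebraMap_stalk_eq]
  have : X.presheaf.stalkSpecializes ((genericPoint_spec X).specializes
      (trivial : genericPoint X ∈ (⊤ : Set X))) = 𝟙 _ :=
    TopCat.Presheaf.stalkSpecializes_refl _ _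
  rw [this]
  rfl

end general

section lift

variable {X : Scheme.{u}} [IsIntegral X] (k : Type u) [Field k] [X.Over (Spec (CommRingCat.of k))]

theorem fromSpecStalk_over (x : X) :
    X.fromSpecStalk x ≫ (X ↘ Spec (CommRingCat.of k)) =
      Spec.map (CommRingCat.ofHom (Curv2.stalkMap k X x)) := by
  have h1 : (X ↘ Spec (CommRingCat.of k)) = X.toSpecΓ ≫
      Spec.map ((Scheme.ΓSpecIso (CommRingCat.of k)).inv ≫
        (X ↘ Spec (CommRingCat.of k)).appTop) := by
    rw [Spec.map_comp, ← Category.assoc, ← Scheme.toSpecΓ_naturality, ← SpecMap_ΓSpecIso_hom,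
      Category.assoc, ← Spec.map_comp, Iso.inv_hom_id, Spec.map_id, Category.comp_id]
  rw [h1, ← Category.assoc, Scheme.fromSpecStalk_toSpecΓ, ← Spec.map_comp]
  rfl

variable (R : ValuationSubring X.functionField)

/-- the structure map `k → R` -/
noncomputable def gam (hk : ∀ c : k, algebraMap k X.functionField c ∈ R) : k →+* R := RingHom.codRestrict (algebraMap k X.functionField) R hk

/-- the valuative square attached to a valuation ring of the function field containing `k` -/
noncomputable def sq (hk : ∀ c : k, algebraMap k X.functionField c ∈ R) :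
    ValuativeCommSq (X ↘ Spec (CommRingCat.of k)) where
  R := R
  K := X.functionField
  i₁ := X.fromSpecStalk (genericPoint X)
  i₂ := Spec.map (CommRingCat.ofHom (gam k R hk))
  commSq := ⟨by
    rw [fromSpecStalk_over, ← Spec.map_comp, ← CommRingCat.ofHom_comp]
    rfl⟩

theorem exists_lift (hk : ∀ c : k, algebraMap k X.functionField c ∈ R)
    [UniversallyClosed (X ↘ Spec (CommRingCat.of k))] :
    ∃ l : Spec (CommRingCat.of R) ⟶ X,
      Spec.map (CommRingCat.ofHom (algebraMap R X.functionField)) ≫ l =
        X.fromSpecStalk (genericPoint X) := by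
  have hex : ValuativeCriterion.Existence (X ↘ Spec (CommRingCat.of k)) := by
    have : (ValuativeCriterion.Existence ⊓ @QuasiCompact) (X ↘ Spec (CommRingCat.of k)) := by
      rw [← UniversallyClosed.eq_valuativeCriterion]; infer_instance
    exact this.1
  obtain ⟨⟨l⟩⟩ := hex (sq k R hk)
  exact ⟨l.l, l.fac_left⟩

theorem over_of_incl (hk : ∀ c : k, algebraMap k X.functionField c ∈ R)
    (l : Spec (CommRingCat.of R) ⟶ X)
    (hl : Spec.map (CommRingCat.ofHom (algebraMap R X.functionField)) ≫ l =
      X.fromSpecStalk (genericPoint X)) :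
    l ≫ (X ↘ Spec (CommRingCat.of k)) = Spec.map (CommRingCat.ofHom (gam k R hk)) := by
  have h2 : Spec.map (CommRingCat.ofHom (algebraMap R X.functionField)) ≫ l ≫
      (X ↘ Spec (CommRingCat.of k)) =
      Spec.map (CommRingCat.ofHom (algebraMap R X.functionField)) ≫
        Spec.map (CommRingCat.ofHom (gam k R hk)) := by
    rw [← Category.assoc, hl]
    exact (sq k R hk).commSq.w
  obtain ⟨δ, hδ⟩ : ∃ δ : CommRingCat.of k ⟶ CommRingCat.of R,
      l ≫ (X ↘ Spec (CommRingCat.of k)) = Spec.map δ :=
    ⟨Spec.preimage _, (Spec.map_preimage _).symm⟩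
  rw [hδ] at h2 ⊢
  rw [← Spec.map_comp, ← Spec.map_comp] at h2
  have h3 := Spec.map_injective h2
  congr 1
  ext c
  have h4 := congrArg (fun f => f.hom c) h3
  exact h4

theorem lift_unique (hk : ∀ c : k, algebraMap k X.functionField c ∈ R)
    [IsSeparated (X ↘ Spec (CommRingCat.of k))]
    (l l' : Spec (CommRingCat.of R) ⟶ X)
    (hl : Spec.map (CommRingCat.ofHom (algebraMap R X.functionField)) ≫ l =
      X.fromSpecStalk (genericPoint X))
    (hl' : Spec.map (CommRingCat.ofHom (algebraMap R X.functionField)) ≫ l' =
      X.fromSpecStalk (genericPoint X)) : l = l' := by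
  have hun : ValuativeCriterion.Uniqueness (X ↘ Spec (CommRingCat.of k)) :=
    IsSeparated.valuativeCriterion _
  haveI := hun (sq k R hk)
  let l₁ : (sq k R hk).commSq.LiftStruct := ⟨l, hl, over_of_incl k R hk l hl⟩
  let l₂ : (sq k R hk).commSq.LiftStruct := ⟨l', hl', over_of_incl k R hk l' hl'⟩
  have : l₁ = l₂ := Subsingleton.elim _ _
  exact congrArg CommSq.LiftStruct.l this

/-- the morphism `Spec R ⟶ X` attached to a point `x` and a ring map `O_x → R` -/
noncomputable def lft (x : X) (θ : X.presheaf.stalk x →+* R) : Spec (CommRingCat.of R) ⟶ X :=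
  Spec.map (CommRingCat.ofHom θ) ≫ X.fromSpecStalk x

theorem incl_lft (x : X) (θ : X.presheaf.stalk x →+* R)
    (hθ : (algebraMap R X.functionField).comp θ =
      algebraMap (X.presheaf.stalk x) X.functionField) :
    Spec.map (CommRingCat.ofHom (algebraMap R X.functionField)) ≫ lft R x θ =
      X.fromSpecStalk (genericPoint X) := by
  rw [lft, ← Category.assoc, ← Spec.map_comp, ← CommRingCat.ofHom_comp, hθ,
    ← Scheme.SpecMap_stalkSpecializes_fromSpecStalk ((genericPoint_spec X).specializes trivial)]
  rfl

theorem lft_closedPoint (x : X) (θ : X.presheaf.stalk x →+* R) [IsLocalHom θ] :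
    (lft R x θ) (IsLocalRing.closedPoint R) = x := by
  haveI : IsLocalHom (CommRingCat.ofHom θ).hom := ‹IsLocalHom θ›
  rw [lft, Scheme.Hom.comp_apply, Spec_closedPoint, Scheme.fromSpecStalk_closedPoint]

theorem range_eq_of_lift [IsLocallyNoetherian X] [CompactSpace X]
    (hX : ∀ x : X, IsClosed ({x} : Set X) → ringKrullDim (X.presheaf.stalk x) = 1)
    (hnorm : ∀ x : X, IsIntegrallyClosed (X.presheaf.stalk x))
    (hR : R ≠ ⊤) (l : Spec (CommRingCat.of R) ⟶ X)
    (hl : Spec.map (CommRingCat.ofHom (algebraMap R X.functionField)) ≫ l =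
      X.fromSpecStalk (genericPoint X)) :
    (R : Set X.functionField) =
      Set.range (algebraMap (X.presheaf.stalk (l (IsLocalRing.closedPoint R))) X.functionField) := by
  have hφ : (algebraMap R X.functionField).comp (Scheme.stalkClosedPointTo l).hom =
      algebraMap (X.presheaf.stalk (l (IsLocalRing.closedPoint R))) X.functionField := by
    have e1 : Spec.map (Scheme.stalkClosedPointTo l ≫
        CommRingCat.ofHom (algebraMap R X.functionField)) ≫
          X.fromSpecStalk (l (IsLocalRing.closedPoint R)) =
        Spec.map (X.presheaf.stalkSpecializes ((genericPoint_spec X).specializes trivial)) ≫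
          X.fromSpecStalk (l (IsLocalRing.closedPoint R)) := by
      rw [Spec.map_comp, Category.assoc, Scheme.Spec_stalkClosedPointTo_fromSpecStalk,
        Scheme.SpecMap_stalkSpecializes_fromSpecStalk]
      exact hl
    have e2 := Spec.map_injective ((cancel_mono (X.fromSpecStalk _)).mp e1)
    exact congrArg CommRingCat.Hom.hom e2
  have hsub : ∀ b, algebraMap (X.presheaf.stalk (l (IsLocalRing.closedPoint R))) X.functionField b =
      (((Scheme.stalkClosedPointTo l).hom b : R) : X.functionField) :=
    fun b => (RingHom.congr_fun hφ b).symm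
  have hxη : l (IsLocalRing.closedPoint R) ≠ genericPoint X := by
    intro hxe
    apply hR
    rw [eq_top_iff]
    intro a _
    obtain ⟨b, hb⟩ := surjective_of_eq_genericPoint X _ hxe a
    rw [← hb, hsub]
    exact ((Scheme.stalkClosedPointTo l).hom b).2
  have hxc := isClosed_of_ne_genericPoint X hX _ hxη
  haveI hv : ValuationRing (X.presheaf.stalk (l (IsLocalRing.closedPoint R))) :=
    valuationRing_stalk X _ (hX _ hxc) (hnorm _)
  apply Set.Subset.antisymm
  · intro a ha
    rcases ValuationRing.isInteger_or_isInteger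
      (X.presheaf.stalk (l (IsLocalRing.closedPoint R))) a with ⟨b, hb⟩ | ⟨b, hb⟩
    · exact ⟨b, hb⟩
    · by_cases ha0 : a = 0
      · exact ⟨0, by rw [map_zero, ha0]⟩
      have hb' : (((Scheme.stalkClosedPointTo l).hom b : R) : X.functionField) = a⁻¹ := by
        rw [← hsub]; exact hb
      have hu : IsUnit ((Scheme.stalkClosedPointTo l).hom b) := by
        refine isUnit_iff_exists_inv.mpr ⟨⟨a, ha⟩, Subtype.ext ?_⟩
        change (((Scheme.stalkClosedPointTo l).hom b : R) : X.functionField) * a = 1
        rw [hb', inv_mul_cancel₀ ha0]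
      have hub : IsUnit b := IsLocalHom.map_nonunit b hu
      obtain ⟨c, hc⟩ := hub.exists_left_inv
      refine ⟨c, ?_⟩
      have h1 : algebraMap (X.presheaf.stalk (l (IsLocalRing.closedPoint R))) X.functionField c *
          a⁻¹ = 1 := by
        rw [← hb, ← map_mul, hc, map_one]
      exact (mul_inv_eq_one₀ ha0).mp h1
  · rintro _ ⟨b, rfl⟩
    rw [hsub]
    exact ((Scheme.stalkClosedPointTo l).hom b).2

theorem point_unique (hk : ∀ c : k, algebraMap k X.functionField c ∈ R)
    [IsSeparated (X ↘ Spec (CommRingCat.of k))] (x x' : X)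
    (hx : (R : Set X.functionField) =
      Set.range (algebraMap (X.presheaf.stalk x) X.functionField))
    (hx' : (R : Set X.functionField) =
      Set.range (algebraMap (X.presheaf.stalk x') X.functionField)) : x = x' := by
  have key : ∀ (y : X) (hy : (R : Set X.functionField) =
      Set.range (algebraMap (X.presheaf.stalk y) X.functionField)),
      ∃ l : Spec (CommRingCat.of R) ⟶ X,
        Spec.map (CommRingCat.ofHom (algebraMap R X.functionField)) ≫ l =
          X.fromSpecStalk (genericPoint X) ∧ l (IsLocalRing.closedPoint R) = y := by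
    intro y hy
    have hmem : ∀ b, algebraMap (X.presheaf.stalk y) X.functionField b ∈ R := fun b => by
      rw [← SetLike.mem_coe, hy]; exact ⟨b, rfl⟩
    let θ : X.presheaf.stalk y →+* R :=
      RingHom.codRestrict (algebraMap (X.presheaf.stalk y) X.functionField) R hmem
    have hθ : (algebraMap R X.functionField).comp θ =
        algebraMap (X.presheaf.stalk y) X.functionField := RingHom.ext fun b => rfl
    haveI : IsLocalHom θ := ⟨fun b hb => by
      obtain ⟨r, hr⟩ := hb.exists_right_inv
      have hr' : (r : X.functionField) ∈ (R : Set X.functionField) := r.2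
      rw [hy] at hr'
      obtain ⟨c, hc⟩ := hr'
      have h1 : algebraMap (X.presheaf.stalk y) X.functionField (b * c) =
          algebraMap (X.presheaf.stalk y) X.functionField 1 := by
        rw [map_mul, map_one, hc]
        exact congrArg Subtype.val hr
      exact IsUnit.of_mul_eq_one c (IsFractionRing.injective _ _ h1)⟩
    exact ⟨lft R y θ, incl_lft R y θ hθ, lft_closedPoint R y θ⟩
  obtain ⟨l, hl, hlx⟩ := key x hx
  obtain ⟨l', hl', hlx'⟩ := key x' hx'
  rw [← hlx, ← hlx', lift_unique k R hk l l' hl hl']

end lift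

/-- **EGA II 7.4.18 (local rings of a normal complete curve)** -/
theorem main (k : Type u) [Field k] (X : Scheme.{u})
    [X.Over (Spec (CommRingCat.of k))] [IsProper (X ↘ (Spec (CommRingCat.of k)))] [IsIntegral X]
    (hX : ∀ x : X, IsClosed ({x} : Set X) → ringKrullDim (X.presheaf.stalk x) = 1)
    (hnorm : Pi1.IsNormalScheme X) :
    (∀ x : X, x ≠ genericPoint X → ∃ R : ValuationSubring X.functionField, R ≠ ⊤ ∧
        (R : Set X.functionField) = Set.range (algebraMap (X.presheaf.stalk x) X.functionField)) ∧
      ∀ R : ValuationSubring X.functionField, R ≠ ⊤ →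
        (∀ c : k, algebraMap k X.functionField c ∈ R) →
        ∃! x : X, (R : Set X.functionField) =
          Set.range (algebraMap (X.presheaf.stalk x) X.functionField) := by
  haveI : IsNoetherianRing (CommRingCat.of k) := inferInstanceAs (IsNoetherianRing k)
  haveI : IsLocallyNoetherian X :=
    LocallyOfFiniteType.isLocallyNoetherian (X ↘ Spec (CommRingCat.of k))
  haveI : CompactSpace X :=
    QuasiCompact.compactSpace_of_compactSpace (X ↘ Spec (CommRingCat.of k))
  refine ⟨fun x hx => ?_, fun R hR hk => ?_⟩
  · have hxc := isClosed_of_ne_genericPoint X hX x hx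
    have hv := valuationRing_stalk X x (hX x hxc) (hnorm x).2
    refine ⟨stalkVS X x hv, ?_, rfl⟩
    intro htop
    apply range_ne_univ X x (hX x hxc)
    rw [← coe_stalkVS X x hv, htop]
    rfl
  · obtain ⟨l, hl⟩ := exists_lift k R hk
    refine ⟨l (IsLocalRing.closedPoint R),
      range_eq_of_lift R hX (fun x => (hnorm x).2) hR l hl, fun x' hx' => ?_⟩
    exact point_unique k R hk x' _ hx'
      (range_eq_of_lift R hX (fun x => (hnorm x).2) hR l hl)

end Groth.Agent.Lib.Helper3.CurveVal
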