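import Mathlib.RingTheory.DiscreteValuationRing.TFAE
import Mathlib.RingTheory.Filtration

/-!
# A Noetherian local ring whose maximal ideal is generated by a nonzerodivisor is a DVR
-/

set_option autoImplicit false

namespace Groth.Agent.Lib.Helper3

open IsLocalRing

variable {R : Type*} [CommRing R] [IsLocalRing R] [IsNoetherianRing R]

theorem exists_unit_mul_pow_of_maximalIdeal_eq_span (t : R)
    (hm : maximalIdeal R = Ideal.span {t}) (x : R) (hx : x ≠ 0) :
    ∃ (n : ℕ) (u : R), IsUnit u ∧ x = u * t ^ n := by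
  have hK : ⨅ i, (maximalIdeal R) ^ i = ⊥ :=
    Ideal.iInf_pow_eq_bot_of_isLocalRing _ (Ideal.IsMaximal.ne_top inferInstance)
  have hex : ∃ i, x ∉ (maximalIdeal R) ^ i := by
    by_contra hcon
    push Not at hcon
    have : x ∈ ⨅ i, (maximalIdeal R) ^ i := by
      rw [Ideal.mem_iInf]
      exact hcon
    rw [hK] at this
    exact hx this
  classical
  let i := Nat.find hex
  have hi : x ∉ (maximalIdeal R) ^ i := Nat.find_spec hex
  have hi0 : i ≠ 0 := by
    intro h0
    rw [h0, pow_zero, Ideal.one_eq_top] at hi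
    exact hi trivial
  obtain ⟨n, hn⟩ := Nat.exists_eq_succ_of_ne_zero hi0
  have hn' : x ∈ (maximalIdeal R) ^ n := by
    by_contra hcon
    have := Nat.find_min' hex hcon
    change i ≤ n at this
    omega
  rw [hm, Ideal.span_singleton_pow, Ideal.mem_span_singleton'] at hn'
  obtain ⟨u, hu⟩ := hn'
  refine ⟨n, u, ?_, hu.symm⟩
  by_contra hnu
  have hum : u ∈ maximalIdeal R := (IsLocalRing.mem_maximalIdeal u).mpr hnu
  apply hi
  rw [hn, hm, Ideal.span_singleton_pow, Ideal.mem_span_singleton']
  rw [hm, Ideal.mem_span_singleton'] at hum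
  obtain ⟨v, hv⟩ := hum
  refine ⟨v, ?_⟩
  rw [← hu, ← hv, pow_succ]
  ring

theorem isDomain_of_maximalIdeal_eq_span (t : R) (ht : t ∈ nonZeroDivisors R)
    (hm : maximalIdeal R = Ideal.span {t}) : IsDomain R := by
  have : NoZeroDivisors R := by
    constructor
    intro x y hxy
    by_contra hcon
    push Not at hcon
    obtain ⟨n, u, hu, rfl⟩ := exists_unit_mul_pow_of_maximalIdeal_eq_span t hm x hcon.1
    obtain ⟨k, v, hv, rfl⟩ := exists_unit_mul_pow_of_maximalIdeal_eq_span t hm y hcon.2
    have h1 : (u * v) * t ^ (n + k) = 0 := by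
      rw [← hxy, pow_add]; ring
    have h2 : t ^ (n + k) = 0 := by
      have := (hu.mul hv).mul_right_eq_zero.mp h1
      exact this
    have h3 : (1 : R) = 0 := by
      have := (pow_mem ht (n + k)).2 1
      rw [h2] at this
      exact this (by simp)
    exact one_ne_zero h3
  exact NoZeroDivisors.to_isDomain R

theorem isDiscreteValuationRing_of_maximalIdeal_eq_span (t : R) (ht : t ∈ nonZeroDivisors R)
    (hm : maximalIdeal R = Ideal.span {t}) :
    ∃ _ : IsDomain R, IsDiscreteValuationRing R := by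
  have hdom : IsDomain R := isDomain_of_maximalIdeal_eq_span t ht hm
  refine ⟨hdom, ?_⟩
  have ht0 : t ≠ 0 := nonZeroDivisors.ne_zero ht
  have hnf : ¬ IsField R := by
    rw [IsLocalRing.isField_iff_maximalIdeal_eq, hm]
    intro h
    rw [Ideal.span_singleton_eq_bot] at h
    exact ht0 h
  have hp : (maximalIdeal R).IsPrincipal := ⟨⟨t, by rw [hm]⟩⟩
  exact ((IsDiscreteValuationRing.TFAE R hnf).out 4 0).mp hp

end Groth.Agent.Lib.Helper3
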