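import Groth.Agent.Lib.Helper3.SecFam
import Groth.Agent.Lib.Helper3.AwayGen

/-!
# Base change of `M(n)~` along a homomorphism of graded rings, charts of degree one
-/

set_option autoImplicit false
set_option linter.unusedSectionVars false
universe u
open CategoryTheory CategoryTheory.Limits AlgebraicGeometry TopologicalSpace Opposite
open Scheme.Modules HomogeneousLocalization
open scoped HomogeneousIdeal

namespace Groth.Agent.Lib.Helper3.Deg1BC

open QCSec GrModSec GrModExact Groth.Agent.Lib.Helper17.UnitBC SecFam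

section abstractdeh

/-- Abstract criterion: base change along `ρ : T → T'` from the universal property of `v : M → N`
over `ψ : A → B`, through "dehomogenisation" maps. -/
theorem isBCHom_of_deh
    {A B T T' : Type u} [CommRing A] [CommRing B] [CommRing T] [CommRing T']
    {M N MT NT : Type u} [AddCommGroup M] [Module A M] [AddCommGroup N] [Module B N]
    [AddCommGroup MT] [Module T MT] [AddCommGroup NT] [Module T' NT]
    (ψ : A →+* B) (ρ : T →+* T') (δA : A →+* T) (δB : B →+* T')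
    (hsq : ∀ a, ρ (δA a) = δB (ψ a)) (hδB : Function.Surjective δB)
    (v : M →ₛₗ[ψ] N)
    (hbc : ∀ (Q : Type u) [AddCommGroup Q] [Module B Q] (w : M →ₛₗ[ψ] Q),
      ∃! g : N →ₗ[B] Q, ∀ m : M, g (v m) = w m)
    (β : MT →+ NT) (hβ : ∀ t m, β (t • m) = ρ t • β m)
    (H : M →+ MT) (hH : ∀ a m, H (a • m) = δA a • H m) (hHsurj : Function.Surjective H)
    (H' : N →+ NT) (hH' : ∀ b x, H' (b • x) = δB b • H' x) (hH'surj : Function.Surjective H')
    (hcomm : ∀ m, β (H m) = H' (v m))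
    (hker : ∀ x, H' x = 0 →
      x ∈ AddSubgroup.closure {y : N | ∃ (b : B) (z : N), δB b = 1 ∧ y = b • z - z}) :
    IsBCHom ρ (fun m => β m) := by
  letI algρ : Algebra T T' := ρ.toAlgebra
  letI mTN : Module T NT := Module.compHom NT ρ
  haveI st2 : IsScalarTower T T' NT := IsScalarTower.of_algebraMap_smul fun _ _ => rfl
  let lin : MT →ₗ[T] NT :=
    { toFun := β
      map_add' := map_add β
      map_smul' := fun t m => hβ t m }
  refine ⟨lin, fun m => rfl, ?_⟩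
  apply IsBaseChange.of_lift_unique
  intro Q _ _ _ _ g
  letI grpQ : AddCommGroup Q := Module.addCommMonoidToAddCommGroup T'
  letI mBQ : Module B Q := Module.compHom Q δB
  have hTQ : ∀ (t : T) (q : Q), t • q = ρ t • q := fun t q => (algebraMap_smul T' t q).symm
  let w : M →ₛₗ[ψ] Q :=
    { toFun := fun m => g (H m)
      map_add' := fun m m' => by rw [map_add, map_add]
      map_smul' := fun a m => by
        change g (H (a • m)) = δB (ψ a) • g (H m)
        rw [hH, g.map_smul, hTQ, hsq] }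
  obtain ⟨G, hG, hGuniq⟩ := hbc Q w
  have hG1 : ∀ b z, δB b = 1 → G (b • z - z) = 0 := by
    intro b z hb
    rw [map_sub, G.map_smul]
    change δB b • G z - G z = 0
    rw [hb, one_smul, sub_self]
  have hGker : ∀ x, H' x = 0 → G x = 0 := by
    intro x hx
    have hmem := hker x hx
    refine AddSubgroup.closure_induction (p := fun y _ => G y = 0) ?_ ?_ ?_ ?_ hmem
    · rintro y ⟨b, z, hb, rfl⟩
      exact hG1 b z hb
    · exact map_zero G
    · intro y y' _ _ hy hy'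
      rw [map_add, hy, hy', add_zero]
    · intro y _ hy
      rw [map_neg, hy, neg_zero]
  have hGwd : ∀ x x', H' x = H' x' → G x = G x' := by
    intro x x' h
    have h0 : G (x - x') = 0 := hGker _ (by rw [map_sub, h, sub_self])
    rw [map_sub] at h0
    exact sub_eq_zero.mp h0
  let sec : NT → N := fun s => (hH'surj s).choose
  have hsec : ∀ s, H' (sec s) = s := fun s => (hH'surj s).choose_spec
  have hg'H' : ∀ x, G (sec (H' x)) = G x := fun x => hGwd _ _ (hsec _)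
  let g' : NT →ₗ[T'] Q :=
    { toFun := fun s => G (sec s)
      map_add' := fun s s' => by
        have h1 : G (sec (s + s')) = G (sec s + sec s') :=
          hGwd _ _ (by rw [hsec, map_add, hsec, hsec])
        rw [h1, map_add]
      map_smul' := fun t' s => by
        obtain ⟨b, rfl⟩ := hδB t'
        have h1 : G (sec (δB b • s)) = G (b • sec s) := hGwd _ _ (by rw [hsec, hH', hsec])
        change G (sec (δB b • s)) = δB b • G (sec s)
        rw [h1, G.map_smul]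
        rfl }
  refine ⟨g', ?_, ?_⟩
  · ext m
    obtain ⟨m₀, rfl⟩ := hHsurj m
    change G (sec (β (H m₀))) = g (H m₀)
    rw [hcomm, hg'H', hG]
    rfl
  · intro g'' hg''
    have hg''m : ∀ m, g'' (β m) = g m := fun m => LinearMap.congr_fun hg'' m
    let G'' : N →ₗ[B] Q :=
      { toFun := fun x => g'' (H' x)
        map_add' := fun x x' => by rw [map_add, map_add]
        map_smul' := fun b x => by
          change g'' (H' (b • x)) = δB b • g'' (H' x)
          rw [hH', g''.map_smul] }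
    have hG'' : G'' = G := hGuniq G'' (fun m => by
      change g'' (H' (v m)) = g (H m)
      rw [← hcomm, hg''m])
    ext s
    change g'' s = G (sec s)
    rw [← hG'']
    change g'' s = g'' (H' (sec s))
    rw [hsec]

end abstractdeh

section idx

theorem k0_spec' (n : ℤ) : 0 ≤ (k0 n : ℤ) - n := by
  unfold k0
  omega

/-- exponent of the denominator -/
def cexp (n : ℤ) (i : ℕ) : ℕ := ((k0 n : ℤ) + i - n).toNat

theorem cexp_spec (n : ℤ) (i : ℕ) : ((cexp n i : ℕ) : ℤ) = (k0 n : ℤ) + i - n := by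
  unfold cexp
  have := k0_spec' n
  exact Int.toNat_of_nonneg (by omega)

theorem cexp_add (n : ℤ) (e i : ℕ) : cexp n (e + i) = e + cexp n i := by
  have h1 := cexp_spec n (e + i)
  have h2 := cexp_spec n i
  have : ((cexp n (e + i) : ℕ) : ℤ) = ((e + cexp n i : ℕ) : ℤ) := by
    rw [h1]
    push_cast
    rw [h2]
    ring
  exact_mod_cast this

end idx

section hh
variable {A σ : Type u} [CommRing A] [SetLike σ A] [AddSubgroupClass σ A] {𝒜 : ℕ → σ} [GradedRing 𝒜]
  {M τ : Type u} [AddCommGroup M] [Module A M] [SetLike τ M] [AddSubgroupClass τ M] (ℳ : ℕ → τ)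
  [SetLike.GradedSMul 𝒜 ℳ] [DirectSum.Decomposition ℳ]
  {f : A} (hf : f ∈ 𝒜 1) (n : ℤ)

theorem pow_mem1 {f : A} (hf : f ∈ 𝒜 1) (k : ℕ) : f ^ k ∈ 𝒜 k := by
  have := pow_mem' hf k
  rwa [mul_one] at this

/-- `m ↦ f^k₀ m / f^(k₀ + i - n)` on `ℳ i` -/
noncomputable def hh (i : ℕ) : ℳ i →+ Γ(GrMod.tilde 𝒜 ℳ n, Proj.basicOpen 𝒜 f) where
  toFun m := mfrac ℳ (Proj.basicOpen 𝒜 f)
    (⟨f ^ k0 n • m.1, SetLike.GradedSMul.smul_mem (pow_mem1 hf (k0 n)) m.2⟩ : ℳ (k0 n + i))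
    (⟨f ^ cexp n i, pow_mem1 hf (cexp n i)⟩ : 𝒜 (cexp n i))
    (fun x => pow_notMem (cexp n i) x) n (by rw [cexp_spec]; push_cast; ring)
  map_zero' := by
    refine val_ext (fun x => ?_)
    rw [val_mfrac, GrModExact.val_zero]
    change LocalizedModule.mk (f ^ k0 n • ((0 : ℳ i) : M)) _ = 0
    rw [ZeroMemClass.coe_zero, smul_zero, LocalizedModule.zero_mk]
  map_add' m m' := by
    refine val_ext (fun x => ?_)
    rw [val_add', val_mfrac, val_mfrac, val_mfrac]
    change LocalizedModule.mk (f ^ k0 n • ((m + m' : ℳ i) : M)) _ =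
      LocalizedModule.mk (f ^ k0 n • (m : M)) _ + LocalizedModule.mk (f ^ k0 n • (m' : M)) _
    rw [AddMemClass.coe_add, smul_add, mk_add_same]

theorem val_hh (i : ℕ) (m : ℳ i) (x : Proj.basicOpen 𝒜 f) :
    GrMod.val (hh ℳ hf n i m) x =
      LocalizedModule.mk (f ^ k0 n • (m : M)) ⟨f ^ cexp n i, pow_notMem (cexp n i) x⟩ := rfl

theorem hh_eq_zero (i : ℕ) (m : ℳ i) (h : hh ℳ hf n i m = 0) : ∃ L : ℕ, f ^ L • (m : M) = 0 := by
  have hfirr : f ∈ (HomogeneousIdeal.irrelevant 𝒜).toIdeal :=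
    HomogeneousIdeal.mem_irrelevant_of_mem 𝒜 Nat.one_pos hf
  have hw : f ^ k0 n • (m : M) ∈ ℳ (k0 n + i) :=
    SetLike.GradedSMul.smul_mem (pow_mem1 hf (k0 n)) m.2
  have hloc : ∀ x : ProjectiveSpectrum 𝒜, f ∉ x.asHomogeneousIdeal.toIdeal →
      ∃ u : A, u ∉ x.asHomogeneousIdeal.toIdeal ∧ u • (f ^ k0 n • (m : M)) = 0 := by
    intro x hx
    have hxU : x ∈ Proj.basicOpen 𝒜 f := (ProjectiveSpectrum.mem_basicOpen 𝒜 f x).mpr hx
    have e1 : GrMod.val (hh ℳ hf n i m) ⟨x, hxU⟩ = 0 := by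
      rw [h]
      rfl
    rw [val_hh, ← LocalizedModule.zero_mk (⟨f ^ cexp n i,
        pow_notMem (cexp n i) (⟨x, hxU⟩ : Proj.basicOpen 𝒜 f)⟩ :
          x.asHomogeneousIdeal.toIdeal.primeCompl), LocalizedModule.mk_eq] at e1
    obtain ⟨c, hc⟩ := e1
    refine ⟨(c : A) * f ^ cexp n i, fun hmem => ?_, ?_⟩
    · rcases x.isPrime.mem_or_mem hmem with h' | h'
      · exact c.2 h'
      · exact pow_notMem (cexp n i) (⟨x, hxU⟩ : Proj.basicOpen 𝒜 f) h'
    · have hc' : (c : A) • (f ^ cexp n i) • (f ^ k0 n • (m : M)) =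
          (c : A) • (f ^ cexp n i) • (0 : M) := hc
      rw [mul_smul, hc', smul_zero, smul_zero]
  obtain ⟨K, hK⟩ := exists_pow_smul_eq_zero_of_locally_killed 𝒜 ℳ hfirr hw hloc
  exact ⟨K + k0 n, by rw [pow_add, mul_smul]; exact hK⟩

/-- the total map `m ↦ Σ mᵢ / f^(i - n)` -/
noncomputable def Htot : M →+ Γ(GrMod.tilde 𝒜 ℳ n, Proj.basicOpen 𝒜 f) :=
  (DirectSum.toAddMonoid (hh ℳ hf n)).comp (DirectSum.decomposeAddEquiv ℳ).toAddMonoidHom

theorem Htot_of_mem {i : ℕ} {m : M} (hm : m ∈ ℳ i) : Htot ℳ hf n m = hh ℳ hf n i ⟨m, hm⟩ := by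
  unfold Htot
  rw [AddMonoidHom.comp_apply]
  change DirectSum.toAddMonoid (hh ℳ hf n) (DirectSum.decompose ℳ m) = _
  rw [DirectSum.decompose_of_mem ℳ hm, DirectSum.toAddMonoid_of]

/-- dehomogenisation into the sections of the structure sheaf -/
noncomputable def δ : A →+* Γ(Proj 𝒜, Proj.basicOpen 𝒜 f) :=
  (Proj.awayToSection 𝒜 f).hom.comp (AwayGen.deh hf)

theorem δ_of_mem {e : ℕ} {a : A} (ha : a ∈ 𝒜 e) :
    δ hf a = (Proj.awayToSection 𝒜 f).hom (Away.mk 𝒜 hf e a (AwayGen.mem_smul_one ha)) := by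
  unfold δ
  rw [RingHom.comp_apply, AwayGen.deh_of_mem hf ha]

theorem δ_self : δ hf f = 1 := by
  rw [δ_of_mem hf hf]
  have h1 : Away.mk 𝒜 hf 1 f (AwayGen.mem_smul_one hf) = 1 := by
    apply HomogeneousLocalization.val_injective
    rw [Away.val_mk, HomogeneousLocalization.val_one, ← Localization.mk_one,
      Localization.mk_eq_mk_iff, Localization.r_iff_exists]
    refine ⟨1, ?_⟩
    simp only [OneMemClass.coe_one, one_mul, mul_one, pow_one]
  rw [h1, map_one]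

theorem δ_surjective : Function.Surjective (δ (𝒜 := 𝒜) hf) := by
  intro t
  obtain ⟨k, a, ha, rfl⟩ := GrModQC.exists_awayToSection Nat.one_pos hf t
  have ha' : a ∈ 𝒜 k := by rwa [smul_eq_mul, mul_one] at ha
  exact ⟨a, δ_of_mem hf ha'⟩

theorem Htot_smul (a : A) (m : M) : Htot ℳ hf n (a • m) = δ hf a • Htot ℳ hf n m := by
  classical
  induction a using DirectSum.Decomposition.inductionOn 𝒜 with
  | zero => rw [zero_smul, map_zero, map_zero, zero_smul]
  | add a a' h h' => rw [add_smul, map_add, h, h', map_add, add_smul]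
  | @homogeneous e a =>
    induction m using DirectSum.Decomposition.inductionOn ℳ with
    | zero => rw [smul_zero, map_zero, smul_zero]
    | add m m' h h' => rw [smul_add, map_add, h, h', map_add, smul_add]
    | @homogeneous i m =>
      have hmem : (a : A) • (m : M) ∈ ℳ (e + i) := SetLike.GradedSMul.smul_mem a.2 m.2
      rw [Htot_of_mem ℳ hf n hmem, Htot_of_mem ℳ hf n m.2, δ_of_mem hf a.2]
      refine val_ext (fun x => ?_)
      have hxe : f ^ e ∉ x.1.asHomogeneousIdeal.toIdeal := pow_notMem e x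
      have e1 : GrMod.val ((Proj.awayToSection 𝒜 f).hom
            (Away.mk 𝒜 hf e a (AwayGen.mem_smul_one a.2)) • hh ℳ hf n i ⟨m, m.2⟩) x =
          GrModQC.fval ((Proj.awayToSection 𝒜 f).hom
            (Away.mk 𝒜 hf e a (AwayGen.mem_smul_one a.2))) x •
            GrMod.val (hh ℳ hf n i ⟨m, m.2⟩) x :=
        GrModQC.mval_smul _ _ x
      rw [e1, GrModQC.fval_mk_away hf e a (AwayGen.mem_smul_one a.2) x hxe, val_hh, val_hh,
        LocalizedModule.mk_smul_mk]
      apply mk_eq_of_smul_eq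
      change (f ^ e * f ^ cexp n i) • (f ^ k0 n • ((a : A) • (m : M))) =
        f ^ cexp n (e + i) • ((a : A) • (f ^ k0 n • (m : M)))
      rw [cexp_add, pow_add, smul_comm (f ^ k0 n) (a : A) (m : M)]

theorem Htot_surj : Function.Surjective (Htot ℳ hf n) := by
  intro s
  obtain ⟨k, i, m, hi, hform⟩ := exists_val_eq (𝒜 := 𝒜) (ℳ := ℳ) n Nat.one_pos hf s
  refine ⟨m.1, ?_⟩
  rw [Htot_of_mem ℳ hf n m.2]
  refine val_ext (fun x => ?_)
  rw [val_hh, hform x (pow_notMem k x)]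
  apply mk_eq_of_smul_eq
  change f ^ k • (f ^ k0 n • m.1) = f ^ cexp n i • m.1
  have hc : cexp n i = k0 n + k := by
    have h1 := cexp_spec n i
    have : ((cexp n i : ℕ) : ℤ) = ((k0 n + k : ℕ) : ℤ) := by
      rw [h1, hi]
      push_cast
      ring
    exact_mod_cast this
  rw [hc, ← mul_smul, ← pow_add, add_comm]

theorem Htot_kernel (x : M) (hx : Htot ℳ hf n x = 0) :
    x ∈ AddSubgroup.closure {y : M | ∃ (b : A) (z : M), δ hf b = 1 ∧ y = b • z - z} := by
  classical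
  set S := AddSubgroup.closure {y : M | ∃ (b : A) (z : M), δ hf b = 1 ∧ y = b • z - z} with hS
  have hpow : ∀ (K : ℕ) (z : M), f ^ K • z - z ∈ S := fun K z =>
    AddSubgroup.subset_closure ⟨f ^ K, z, by rw [map_pow, δ_self, one_pow], rfl⟩
  have hSker : ∀ y ∈ S, Htot ℳ hf n y = 0 := by
    intro y hy
    refine AddSubgroup.closure_induction (p := fun y _ => Htot ℳ hf n y = 0) ?_ ?_ ?_ ?_ hy
    · rintro y ⟨b, z, hb, rfl⟩
      rw [map_sub, Htot_smul, hb, one_smul, sub_self]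
    · exact map_zero _
    · intro y y' _ _ h h'
      rw [map_add, h, h', add_zero]
    · intro y _ h
      rw [map_neg, h, neg_zero]
  have key : ∀ y : M, ∃ K₀ : ℕ, ∀ K, K₀ ≤ K → ∃ z ∈ ℳ K, y - z ∈ S := by
    intro y
    induction y using DirectSum.Decomposition.inductionOn ℳ with
    | zero => exact ⟨0, fun K _ => ⟨0, zero_mem _, by rw [sub_zero]; exact zero_mem _⟩⟩
    | @homogeneous i m =>
      refine ⟨i, fun K hK => ⟨f ^ (K - i) • (m : M), ?_, ?_⟩⟩
      · have h' : f ^ (K - i) • (m : M) ∈ ℳ (K - i + i) :=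
          SetLike.GradedSMul.smul_mem (pow_mem1 hf (K - i)) m.2
        have hKi : K - i + i = K := Nat.sub_add_cancel hK
        rwa [hKi] at h'
      · have h1 := hpow (K - i) (m : M)
        have h2 : (m : M) - f ^ (K - i) • (m : M) = -(f ^ (K - i) • (m : M) - m) := by abel
        rw [h2]
        exact neg_mem h1
    | add y y' h h' =>
      obtain ⟨K₁, h₁⟩ := h
      obtain ⟨K₂, h₂⟩ := h'
      refine ⟨max K₁ K₂, fun K hK => ?_⟩
      obtain ⟨z₁, hz₁, hs₁⟩ := h₁ K (le_trans (le_max_left _ _) hK)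
      obtain ⟨z₂, hz₂, hs₂⟩ := h₂ K (le_trans (le_max_right _ _) hK)
      refine ⟨z₁ + z₂, add_mem hz₁ hz₂, ?_⟩
      have h3 : y + y' - (z₁ + z₂) = (y - z₁) + (y' - z₂) := by abel
      rw [h3]
      exact add_mem hs₁ hs₂
  obtain ⟨K₀, hK₀⟩ := key x
  obtain ⟨z, hz, hxz⟩ := hK₀ K₀ le_rfl
  have hHz : Htot ℳ hf n z = 0 := by
    have h1 := hSker _ hxz
    rw [map_sub, hx, zero_sub, neg_eq_zero] at h1
    exact h1
  rw [Htot_of_mem ℳ hf n hz] at hHz
  obtain ⟨L, hL⟩ := hh_eq_zero ℳ hf n K₀ ⟨z, hz⟩ hHz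
  have hzS : z ∈ S := by
    have h1 := hpow L z
    have hL' : f ^ L • z = 0 := hL
    rw [hL', zero_sub] at h1
    exact neg_mem_iff.mp h1
  have h4 : x = (x - z) + z := by abel
  rw [h4]
  exact add_mem hxz hzS

end hh

section comap
variable {A σ : Type u} [CommRing A] [SetLike σ A] [AddSubgroupClass σ A] {𝒜 : ℕ → σ} [GradedRing 𝒜]
  {B σ' : Type u} [CommRing B] [SetLike σ' B] [AddSubgroupClass σ' B] {ℬ : ℕ → σ'} [GradedRing ℬ]
  (ψ : 𝒜 →+*ᵍ ℬ) (hψ : ℬ₊ ≤ (𝒜₊).map ψ)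
  {M τ : Type u} [AddCommGroup M] [Module A M] [SetLike τ M] [AddSubgroupClass τ M] (ℳ : ℕ → τ)
  [SetLike.GradedSMul 𝒜 ℳ] [DirectSum.Decomposition ℳ]
  {N τ' : Type u} [AddCommGroup N] [Module B N] [SetLike τ' N] [AddSubgroupClass τ' N] (𝒩 : ℕ → τ')
  [SetLike.GradedSMul ℬ 𝒩] [DirectSum.Decomposition 𝒩]
  (v : M →ₛₗ[ψ.toRingHom] N) (hv : ∀ (i : ℕ) (m : M), m ∈ ℳ i → v m ∈ 𝒩 i)
  {f : A} (hf : f ∈ 𝒜 1) (n : ℤ)

theorem secMap_Htot (m : M) :
    GrComapCrit.secMap ψ hψ ℳ 𝒩 v hv n f (Htot ℳ hf n m) =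
      Htot 𝒩 (ψ.map_mem hf) n (v m) := by
  classical
  induction m using DirectSum.Decomposition.inductionOn ℳ with
  | zero => rw [map_zero, map_zero, map_zero, map_zero]
  | add m m' h h' => rw [map_add, map_add, h, h', map_add, map_add]
  | @homogeneous i m =>
    rw [Htot_of_mem ℳ hf n m.2, Htot_of_mem 𝒩 (ψ.map_mem hf) n (hv i m m.2)]
    refine val_ext (fun y => ?_)
    have e1 : GrMod.val (GrComapCrit.secMap ψ hψ ℳ 𝒩 v hv n f (hh ℳ hf n i ⟨m, m.2⟩)) y =
        GrMod.locModMap ψ hψ v y.1 (GrMod.val (hh ℳ hf n i ⟨m, m.2⟩)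
          ⟨ProjectiveSpectrum.comap ψ hψ y.1, y.2⟩) := rfl
    rw [e1, val_hh, GrMod.locModMap_mk, val_hh]
    apply mk_eq_of_smul_eq
    change (ψ f) ^ cexp n i • v (f ^ k0 n • (m : M)) =
      ψ (f ^ cexp n i) • ((ψ f) ^ k0 n • v m)
    have h1 : v (f ^ k0 n • (m : M)) = (ψ f) ^ k0 n • v m := by
      rw [LinearMap.map_smulₛₗ]
      change ψ (f ^ k0 n) • v m = _
      rw [map_pow]
    rw [h1, map_pow]

include hψ in
theorem appLE_δ (a : A) :
    ((Proj.map ψ hψ).appLE (Proj.basicOpen 𝒜 f) (Proj.basicOpen ℬ (ψ f)) (by rfl)).hom (δ hf a) =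
      δ (ψ.map_mem hf) (ψ.toRingHom a) := by
  classical
  induction a using DirectSum.Decomposition.inductionOn 𝒜 with
  | zero => rw [map_zero, map_zero, map_zero, map_zero]
  | add a a' h h' => rw [map_add, map_add, h, h', map_add, map_add]
  | @homogeneous e a =>
    rw [δ_of_mem hf a.2, appLE_awayToSection ψ hψ hf, Away.map_mk]
    exact (δ_of_mem (ψ.map_mem hf) (ψ.map_mem a.2)).symm

include hψ in
theorem exists_deg_one_map_notMem (hgen : (𝒜₊).toIdeal = Ideal.span (𝒜 1 : Set A))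
    (y : Proj ℬ) : ∃ f ∈ 𝒜 1, y ∈ Proj.basicOpen ℬ (ψ f) := by
  by_contra hcon
  push Not at hcon
  apply y.not_irrelevant_le
  intro x hx
  have h1 : x ∈ ((𝒜₊).map ψ).toIdeal := hψ hx
  rw [HomogeneousIdeal.toIdeal_map, hgen, Ideal.map_span] at h1
  have h2 : Ideal.span (ψ '' (𝒜 1 : Set A)) ≤ y.asHomogeneousIdeal.toIdeal := by
    apply Ideal.span_le.mpr
    rintro _ ⟨f, hf, rfl⟩
    by_contra hfy
    exact hcon f hf ((ProjectiveSpectrum.mem_basicOpen ℬ (ψ f) y).mpr hfy)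
  exact h2 h1

/-- **S8341**: if `𝒜₊` is generated in degree one and `N = M ⊗_A B`, then `Φ^*(M(n)~) ≅ N(n)~` -/
theorem isIso_adjunct_comap_of_deg_one
    (hgen : (𝒜₊).toIdeal = Ideal.span (𝒜 1 : Set A))
    (hbc : ∀ (Q : Type u) [AddCommGroup Q] [Module B Q] (w : M →ₛₗ[ψ.toRingHom] Q),
      ∃! g : N →ₗ[B] Q, ∀ m : M, g (v m) = w m) (n : ℤ) :
    IsIso (((pullbackPushforwardAdjunction (Proj.map ψ hψ)).homEquiv _ _).symm
      (GrMod.comap ψ hψ v hv n)) := by
  apply GrComapCrit.isIso_adjunct_comap ψ hψ ℳ 𝒩 v hv n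
  intro y
  obtain ⟨f, hf, hy⟩ := exists_deg_one_map_notMem ψ hψ hgen y
  refine ⟨1, Nat.one_pos, f, hf, hy, ?_⟩
  exact isBCHom_of_deh ψ.toRingHom _ (δ hf) (δ (ψ.map_mem hf)) (appLE_δ ψ hψ hf)
    (δ_surjective _) v hbc
    (GrComapCrit.secMap ψ hψ ℳ 𝒩 v hv n f) (GrComapCrit.secMap_smul ψ hψ ℳ 𝒩 v hv n f)
    (Htot ℳ hf n) (Htot_smul ℳ hf n) (Htot_surj ℳ hf n)
    (Htot 𝒩 (ψ.map_mem hf) n) (Htot_smul 𝒩 (ψ.map_mem hf) n) (Htot_surj 𝒩 (ψ.map_mem hf) n)
    (secMap_Htot ψ hψ ℳ 𝒩 v hv hf n) (Htot_kernel 𝒩 (ψ.map_mem hf) n)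

end comap

end Groth.Agent.Lib.Helper3.Deg1BC
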