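import Groth.Agent.Lib.Helper3.RelProjMap

set_option autoImplicit false
universe u
open CategoryTheory CategoryTheory.Limits AlgebraicGeometry TopologicalSpace Opposite
open scoped HomogeneousIdeal

namespace Groth.Agent.Lib.Helper3.RelProjGlue

/-- Two morphisms agree if they agree locally on the source. -/
theorem hom_ext_of_local {T Z : Scheme.{u}} (a b : T ⟶ Z)
    (H : ∀ x : T, ∃ O : T.Opens, x ∈ O ∧ O.ι ≫ a = O.ι ≫ b) : a = b := by
  choose O hxO hO using H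
  have hcov : ⨆ x, O x = ⊤ := by
    rw [eq_top_iff]
    intro x _
    exact Opens.mem_iSup.mpr ⟨x, hxO x⟩
  exact (T.openCoverOfIsOpenCover O hcov).hom_ext _ _ (fun x => hO x)

/-- Glue morphisms defined on an open cover which agree locally on the overlaps. -/
theorem exists_glue_of_local {X Z : Scheme.{u}} {κ : Type u} (V : κ → X.Opens)
    (hV : ⨆ i, V i = ⊤) (g : ∀ i, (V i).toScheme ⟶ Z)
    (H : ∀ i j (x : X), x ∈ V i → x ∈ V j → ∃ (W : X.Opens) (hi : W ≤ V i) (hj : W ≤ V j),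
      x ∈ W ∧ X.homOfLE hi ≫ g i = X.homOfLE hj ≫ g j) :
    ∃ h : X ⟶ Z, ∀ i, (V i).ι ≫ h = g i := by
  let 𝒰 := X.openCoverOfIsOpenCover V hV
  have hcompat : ∀ i j : κ, pullback.fst (𝒰.f i) (𝒰.f j) ≫ g i =
      pullback.snd (𝒰.f i) (𝒰.f j) ≫ g j := by
    intro i j
    change pullback.fst (V i).ι (V j).ι ≫ g i = pullback.snd (V i).ι (V j).ι ≫ g j
    refine hom_ext_of_local _ _ (fun t => ?_)
    let q : pullback (V i).ι (V j).ι ⟶ X := pullback.fst (V i).ι (V j).ι ≫ (V i).ι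
    have hq : q = pullback.snd (V i).ι (V j).ι ≫ (V j).ι := pullback.condition
    have hyi : q t ∈ V i := ((pullback.fst (V i).ι (V j).ι) t).2
    have hyj : q t ∈ V j := by
      rw [hq]
      exact ((pullback.snd (V i).ι (V j).ι) t).2
    obtain ⟨W, hi, hj, hyW, hW⟩ := H i j (q t) hyi hyj
    refine ⟨q ⁻¹ᵁ W, hyW, ?_⟩
    have hl : (q ∣_ W) ≫ W.ι = (q ⁻¹ᵁ W).ι ≫ q := morphismRestrict_ι _ _
    have h1 : (q ∣_ W) ≫ X.homOfLE hi = (q ⁻¹ᵁ W).ι ≫ pullback.fst (V i).ι (V j).ι := by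
      rw [← cancel_mono (V i).ι, Category.assoc, Scheme.homOfLE_ι, hl, Category.assoc]
    have h2 : (q ∣_ W) ≫ X.homOfLE hj = (q ⁻¹ᵁ W).ι ≫ pullback.snd (V i).ι (V j).ι := by
      rw [← cancel_mono (V j).ι, Category.assoc, Scheme.homOfLE_ι, hl, Category.assoc, hq]
    rw [← Category.assoc, ← h1, ← Category.assoc, ← h2, Category.assoc, Category.assoc, hW]
  exact ⟨𝒰.glueMorphisms g hcompat, fun i => 𝒰.ι_glueMorphisms g hcompat i⟩

section algebra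

variable {A B : Type u} [CommRing A] [CommRing B] {𝒜 : ℕ → AddSubgroup A}
  {ℬ : ℕ → AddSubgroup B} [GradedRing 𝒜] [GradedRing ℬ]

theorem map_congr {f f' : 𝒜 →+*ᵍ ℬ} (e : f = f') (hf : ℬ₊ ≤ 𝒜₊.map f) (hf' : ℬ₊ ≤ 𝒜₊.map f') :
    Proj.map f hf = Proj.map f' hf' := by
  subst e
  rfl

end algebra

variable {Y PA PB : Scheme.{u}} {𝒜 ℬ : RelProj.QCGrAlg Y}
  {pA : PA ⟶ Y} {pB : PB ⟶ Y}
  {chartA : ∀ (U : Y.Opens) (hU : IsAffineOpen U),
    ((pA ⁻¹ᵁ U : PA.Opens) : Scheme.{u}) ≅ Proj (𝒜.deg U hU)}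
  {chartB : ∀ (U : Y.Opens) (hU : IsAffineOpen U),
    ((pB ⁻¹ᵁ U : PB.Opens) : Scheme.{u}) ≅ Proj (ℬ.deg U hU)}

/-- The local piece of a chartwise defined morphism. -/
noncomputable def piece
    (chartA : ∀ (U : Y.Opens) (hU : IsAffineOpen U),
      ((pA ⁻¹ᵁ U : PA.Opens) : Scheme.{u}) ≅ Proj (𝒜.deg U hU))
    (chartB : ∀ (U : Y.Opens) (hU : IsAffineOpen U),
      ((pB ⁻¹ᵁ U : PB.Opens) : Scheme.{u}) ≅ Proj (ℬ.deg U hU))
    (m : ∀ (U : Y.Opens) (hU : IsAffineOpen U), Proj (ℬ.deg U hU) ⟶ Proj (𝒜.deg U hU))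
    (U : Y.Opens) (hU : IsAffineOpen U) : (pB ⁻¹ᵁ U).toScheme ⟶ PA :=
  (chartB U hU).hom ≫ m U hU ≫ (chartA U hU).inv ≫ (pA ⁻¹ᵁ U).ι

variable (m : ∀ (U : Y.Opens) (hU : IsAffineOpen U), Proj (ℬ.deg U hU) ⟶ Proj (𝒜.deg U hU))

/-- compatibility of a chartwise family with restrictions to basic opens -/
def Compat (m : ∀ (U : Y.Opens) (hU : IsAffineOpen U), Proj (ℬ.deg U hU) ⟶ Proj (𝒜.deg U hU)) :
    Prop :=
  ∀ (U : Y.Opens) (hU : IsAffineOpen U) (r : Γ(Y, U)),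
    Proj.map (ℬ.res hU (hU.basicOpen r) (Y.basicOpen_le r)) (ℬ.irrelevant_le_map U hU r) ≫ m U hU =
      m (Y.basicOpen r) (hU.basicOpen r) ≫
        Proj.map (𝒜.res hU (hU.basicOpen r) (Y.basicOpen_le r)) (𝒜.irrelevant_le_map U hU r)

theorem piece_res (hA : RelProj.IsRelProj 𝒜 pA chartA) (hB : RelProj.IsRelProj ℬ pB chartB)
    (hm : Compat m) (U : Y.Opens) (hU : IsAffineOpen U) (r : Γ(Y, U)) :
    PB.homOfLE (pB.preimage_mono (Y.basicOpen_le r)) ≫ piece chartA chartB m U hU =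
      piece chartA chartB m (Y.basicOpen r) (hU.basicOpen r) := by
  have h1 : Proj.map (𝒜.res hU (hU.basicOpen r) (Y.basicOpen_le r)) (𝒜.irrelevant_le_map U hU r) ≫
      (chartA U hU).inv = (chartA (Y.basicOpen r) (hU.basicOpen r)).inv ≫
        PA.homOfLE (pA.preimage_mono (Y.basicOpen_le r)) := by
    rw [Iso.eq_inv_comp, ← Category.assoc, Iso.comp_inv_eq]
    exact (hA.chart_res U hU r).symm
  unfold piece
  rw [← Category.assoc, hB.chart_res U hU r, Category.assoc, ← Category.assoc (Proj.map _ _),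
    hm U hU r, Category.assoc, ← Category.assoc (Proj.map _ _), h1, Category.assoc,
    Scheme.homOfLE_ι]

theorem piece_eq_of_eq {W W' : Y.Opens} (e : W = W') (hW : IsAffineOpen W)
    (hW' : IsAffineOpen W') :
    PB.homOfLE (le_of_eq (by rw [e]) : pB ⁻¹ᵁ W ≤ pB ⁻¹ᵁ W') ≫ piece chartA chartB m W' hW' =
      piece chartA chartB m W hW := by
  subst e
  rw [Scheme.homOfLE_rfl, Category.id_comp]

theorem exists_chartMap (hA : RelProj.IsRelProj 𝒜 pA chartA) (hB : RelProj.IsRelProj ℬ pB chartB)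
    (hm : Compat m) :
    ∃ h : PB ⟶ PA, ∀ (U : Y.Opens) (hU : IsAffineOpen U),
      (pB ⁻¹ᵁ U).ι ≫ h = piece chartA chartB m U hU := by
  refine (fun ⟨h, hh⟩ => ⟨h, fun U hU => hh ⟨U, hU⟩⟩ :
    (∃ h : PB ⟶ PA, ∀ U : Y.affineOpens, (pB ⁻¹ᵁ U.1).ι ≫ h = piece chartA chartB m U.1 U.2) → _)
    (exists_glue_of_local (fun U : Y.affineOpens => pB ⁻¹ᵁ U.1)
      (pB.iSup_preimage_eq_top (iSup_affineOpens_eq_top Y))
      (fun U => piece chartA chartB m U.1 U.2) ?_)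
  intro U V x hxU hxV
  obtain ⟨f, g, hfg, hxf⟩ := exists_basicOpen_le_affine_inter U.2 V.2 (pB x) ⟨hxU, hxV⟩
  refine ⟨pB ⁻¹ᵁ (Y.basicOpen f), pB.preimage_mono (Y.basicOpen_le f),
    pB.preimage_mono (hfg ▸ Y.basicOpen_le g), hxf, ?_⟩
  have e1 := piece_res m hA hB hm U.1 U.2 f
  have e2 := piece_res m hA hB hm V.1 V.2 g
  have e3 := piece_eq_of_eq (pB := pB) (chartA := chartA) (chartB := chartB) m hfg
    (U.2.basicOpen f) (V.2.basicOpen g)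
  change PB.homOfLE _ ≫ piece chartA chartB m U.1 U.2 =
    PB.homOfLE _ ≫ piece chartA chartB m V.1 V.2
  rw [e1, ← e3, ← e2, ← Category.assoc, Scheme.homOfLE_homOfLE]

theorem chartMap_unique (h h' : PB ⟶ PA)
    (hh : ∀ (U : Y.Opens) (hU : IsAffineOpen U), (pB ⁻¹ᵁ U).ι ≫ h = piece chartA chartB m U hU)
    (hh' : ∀ (U : Y.Opens) (hU : IsAffineOpen U),
      (pB ⁻¹ᵁ U).ι ≫ h' = piece chartA chartB m U hU) : h = h' := by
  let 𝒰 : PB.OpenCover := PB.openCoverOfIsOpenCover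
    (fun U : Y.affineOpens => pB ⁻¹ᵁ (U : Y.Opens))
    (pB.iSup_preimage_eq_top (iSup_affineOpens_eq_top Y))
  refine 𝒰.hom_ext _ _ (fun U => ?_)
  change (pB ⁻¹ᵁ U.1).ι ≫ h = (pB ⁻¹ᵁ U.1).ι ≫ h'
  rw [hh U.1 U.2, hh' U.1 U.2]

/-- the family `Proj.map (φ U)` is compatible with restrictions -/
theorem compat_map (φ : 𝒜.toQCAlg ⟶ ℬ.toQCAlg) (hφ : RelProj.IsGradedHom φ)
    (hirr : ∀ (U : Y.Opens) (hU : IsAffineOpen U),
      (ℬ.deg U hU)₊ ≤ ((𝒜.deg U hU)₊).map (RelProj.gradedHomAt φ hφ U hU)) :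
    Compat (fun U hU => Proj.map (RelProj.gradedHomAt φ hφ U hU) (hirr U hU)) := by
  intro U hU r
  change Proj.map _ _ ≫ Proj.map _ _ = Proj.map _ _ ≫ Proj.map _ _
  rw [← Proj.map_comp, ← Proj.map_comp]
  refine map_congr ?_ _ _
  refine GradedRingHom.ext (fun x => ?_)
  change (ℬ.presheaf.map (homOfLE (Y.basicOpen_le r)).op).hom ((φ.hom.app (op U)).hom x) =
    (φ.hom.app (op (Y.basicOpen r))).hom ((𝒜.presheaf.map (homOfLE (Y.basicOpen_le r)).op).hom x)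
  have := φ.hom.naturality (homOfLE (Y.basicOpen_le r)).op
  exact (congrArg (fun ψ => (CommRingCat.Hom.hom ψ) x) this).symm

/-- the identity family is compatible -/
theorem compat_id : Compat (𝒜 := 𝒜) (ℬ := 𝒜) (fun U hU => 𝟙 (Proj (𝒜.deg U hU))) := by
  intro U hU r
  rw [Category.comp_id, Category.id_comp]

theorem piece_id (U : Y.Opens) (hU : IsAffineOpen U)
    {pA' : PA ⟶ Y} {chartA' : ∀ (U : Y.Opens) (hU : IsAffineOpen U),
      ((pA' ⁻¹ᵁ U : PA.Opens) : Scheme.{u}) ≅ Proj (ℬ.deg U hU)} :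
    piece chartA' chartB (fun U hU => 𝟙 (Proj (ℬ.deg U hU))) U hU =
      (chartB U hU).hom ≫ (chartA' U hU).inv ≫ (pA' ⁻¹ᵁ U).ι := by
  unfold piece
  rw [Category.id_comp]

/-- a chartwise defined morphism is a morphism over the base, if the pieces are. -/
theorem comp_eq_of_piece (hA : RelProj.IsRelProj 𝒜 pA chartA) (hB : RelProj.IsRelProj ℬ pB chartB)
    (hm : ∀ (U : Y.Opens) (hU : IsAffineOpen U),
      m U hU ≫ Proj.toSpecZero (𝒜.deg U hU) ≫ Spec.map (𝒜.strZero U hU) =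
        Proj.toSpecZero (ℬ.deg U hU) ≫ Spec.map (ℬ.strZero U hU))
    (h : PB ⟶ PA)
    (hh : ∀ (U : Y.Opens) (hU : IsAffineOpen U), (pB ⁻¹ᵁ U).ι ≫ h = piece chartA chartB m U hU) :
    h ≫ pA = pB := by
  let 𝒰 : PB.OpenCover := PB.openCoverOfIsOpenCover
    (fun U : Y.affineOpens => pB ⁻¹ᵁ (U : Y.Opens))
    (pB.iSup_preimage_eq_top (iSup_affineOpens_eq_top Y))
  refine 𝒰.hom_ext _ _ (fun (U : Y.affineOpens) => ?_)
  change (pB ⁻¹ᵁ U.1).ι ≫ h ≫ pA = (pB ⁻¹ᵁ U.1).ι ≫ pB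
  rw [← Category.assoc, hh U.1 U.2]
  unfold piece
  simp only [Category.assoc]
  have hm' := hm U.1 U.2
  rw [← hA.chart_over U.1 U.2, Iso.inv_hom_id_assoc, ← hB.chart_over U.1 U.2,
    reassoc_of% hm']

theorem of_forall_piece {P : MorphismProperty Scheme.{u}} [IsZariskiLocalAtTarget P]
    (h : PB ⟶ PA) (hcomp : h ≫ pA = pB)
    (hh : ∀ (U : Y.Opens) (hU : IsAffineOpen U), (pB ⁻¹ᵁ U).ι ≫ h = piece chartA chartB m U hU)
    (H : ∀ (U : Y.Opens) (hU : IsAffineOpen U), P (m U hU)) : P h := by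
  let 𝒰 : PA.OpenCover := PA.openCoverOfIsOpenCover
    (fun U : Y.affineOpens => pA ⁻¹ᵁ (U : Y.Opens))
    (pA.iSup_preimage_eq_top (iSup_affineOpens_eq_top Y))
  refine RelProjMap.of_cover_isPullback 𝒰 (fun U => (pB ⁻¹ᵁ U.1).toScheme)
    (fun U => (pB ⁻¹ᵁ U.1).ι)
    (fun U => (chartB U.1 U.2).hom ≫ m U.1 U.2 ≫ (chartA U.1 U.2).inv)
    (fun U => ?_) (fun U => ?_)
  · refine (IsOpenImmersion.isPullback _ _ _ _ ?_ ?_).flip
    · rw [hh U.1 U.2]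
      unfold piece
      simp only [Category.assoc]
      rfl
    · change h ⁻¹ᵁ (pA ⁻¹ᵁ U.1).ι.opensRange = (pB ⁻¹ᵁ U.1).ι.opensRange
      rw [Scheme.Opens.opensRange_ι, Scheme.Opens.opensRange_ι, ← Scheme.Hom.comp_preimage, hcomp]
  · rw [P.cancel_left_of_respectsIso, P.cancel_right_of_respectsIso]
    exact H U.1 U.2

end Groth.Agent.Lib.Helper3.RelProjGlue
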