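import Groth.Agent.Lib.Helper3.RelTwistMap
import Groth.Agent.Lib.Helper3.GrTwistGen
import Groth.Agent.Lib.Helper3.PbTensor
import Groth.Agent.Lib.Helper3.CounitGG

/-!
# `h^* O_{Proj 𝒜}(n) ≅ O_{Proj ℬ}(n)` for the morphism of relative Proj's induced by `𝒜 → ℬ`,
`𝒜` generated in degree one
-/

set_option autoImplicit false
set_option linter.unusedSectionVars false
universe u
open CategoryTheory CategoryTheory.Limits AlgebraicGeometry TopologicalSpace Opposite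
open Scheme.Modules
open scoped HomogeneousIdeal

namespace Groth.Agent.Lib.Helper3.RelTwistPull

open QCSec InvGen GrModQC RelTwistMap

variable {Y PA PB : Scheme.{u}} {𝒜 ℬ : RelProj.QCGrAlg Y} (φ : 𝒜.toQCAlg ⟶ ℬ.toQCAlg)
  (hφ : RelProj.IsGradedHom φ)
  (hirr : ∀ (U : Y.Opens) (hU : IsAffineOpen U),
    (ℬ.deg U hU)₊ ≤ ((𝒜.deg U hU)₊).map (RelProj.gradedHomAt φ hφ U hU))
  {pA : PA ⟶ Y} {pB : PB ⟶ Y}
  {chartA : ∀ (U : Y.Opens) (hU : IsAffineOpen U),
    ((pA ⁻¹ᵁ U : PA.Opens) : Scheme.{u}) ≅ Proj (𝒜.deg U hU)}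
  {chartB : ∀ (U : Y.Opens) (hU : IsAffineOpen U),
    ((pB ⁻¹ᵁ U : PB.Opens) : Scheme.{u}) ≅ Proj (ℬ.deg U hU)}
  (h : PB ⟶ PA) (hh : RelProj.IsRelProjMap φ hφ hirr chartA chartB h) (n : ℤ)
  {LA : PA.Modules}
  {lamA : ∀ (U : Y.Opens) (hU : IsAffineOpen U),
    LA ⟶ (Scheme.Modules.pushforward (RelProj.emb pA chartA U hU)).obj
      (GrTwist.twist (𝒜.deg U hU) n)}
  {LB : PB.Modules}
  {lamB : ∀ (U : Y.Opens) (hU : IsAffineOpen U),
    LB ⟶ (Scheme.Modules.pushforward (RelProj.emb pB chartB U hU)).obj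
      (GrTwist.twist (ℬ.deg U hU) n)}
  (hA : RelProj.IsRelProj 𝒜 pA chartA) (hB : RelProj.IsRelProj ℬ pB chartB)
  (hLA : RelProj.IsRelTwist 𝒜 pA chartA n LA lamA)
  (hLB : RelProj.IsRelTwist ℬ pB chartB n LB lamB)

include hA hB hh hLA hLB in
theorem nonempty_iso (hgen : 𝒜.IsGenDegOne) :
    Nonempty ((Scheme.Modules.pullback h).obj LA ≅ LB) := by
  obtain ⟨θ, hθ, -⟩ := existsUnique_map φ hφ hirr h hh n hA hB hLA hLB
  let θs : (Scheme.Modules.pullback h).obj LA ⟶ LB :=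
    (Scheme.Modules.pullback h).map θ ≫ (pullbackPushforwardAdjunction h).counit.app LB
  have key : ∀ (V : PA.Opens) (e : Γ(LA, V)),
      θs.app (h ⁻¹ᵁ V) (PbBasic.pull h LA V e) = θ.app V e := by
    intro V e
    change ((pullbackPushforwardAdjunction h).counit.app LB).app (h ⁻¹ᵁ V)
      (((Scheme.Modules.pullback h).map θ).app (h ⁻¹ᵁ V) (PbBasic.pull h LA V e)) = _
    rw [PbBasic.pull_app]
    exact CounitGG.counit_pull h LB V _
  haveI : IsIso θs := by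
    apply PbTensor.isIso_of_isGen_cover
    intro x
    obtain ⟨U, hU, hxU⟩ := ProjQMap.exists_affine_mem (pB x)
    obtain ⟨y, rfl⟩ := ProjQMap.exists_emb_eq pB chartB U hU x hxU
    let y' := ProjectiveSpectrum.comap (RelProj.gradedHomAt φ hφ U hU) (hirr U hU) y
    obtain ⟨f, hf, hfy⟩ := GrTwistGen.exists_deg_one_notMem (hgen U hU) y'
    let V' : (Proj (𝒜.deg U hU)).Opens := Proj.basicOpen (𝒜.deg U hU) f
    let V : PA.Opens := RelProj.emb pA chartA U hU ''ᵁ V'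
    have hpre : RelProj.emb pA chartA U hU ⁻¹ᵁ V = V' :=
      (RelProj.emb pA chartA U hU).preimage_image_eq V'
    have hle : V ≤ (RelProj.emb pA chartA U hU).opensRange :=
      (RelProj.emb pA chartA U hU).image_le_opensRange V'
    have hle' : V ≤ pA ⁻¹ᵁ U := by rwa [ProjQMap.opensRange_emb] at hle
    have hmem : ∀ k : ℕ, f ^ k ∈ 𝒜.deg U hU k := fun k => by
      have := SetLike.pow_mem_graded k hf
      rwa [smul_eq_mul, mul_one] at this
    have hnot : ∀ (k : ℕ) (z : (RelProj.emb pA chartA U hU ⁻¹ᵁ V : (Proj (𝒜.deg U hU)).Opens)),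
        f ^ k ∉ z.1.asHomogeneousIdeal := by
      intro k z hz
      have hz' : z.1 ∈ V' := by rw [← hpre]; exact z.2
      exact hz' (z.1.isPrime.mem_of_pow_mem k hz)
    have hdeg : ((n.toNat : ℕ) : ℤ) = ((-n).toNat : ℕ) + n := by
      rcases le_total 0 n with h' | h'
      · rw [Int.toNat_of_nonneg h', Int.toNat_eq_zero.mpr (by omega)]
        simp
      · rw [Int.toNat_eq_zero.mpr h', Int.toNat_of_nonneg (by omega)]
        simp
    let t := frac (RelProj.emb pA chartA U hU ⁻¹ᵁ V) ⟨f ^ n.toNat, hmem _⟩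
      ⟨f ^ (-n).toNat, hmem _⟩ (hnot _) n hdeg
    obtain ⟨e, he⟩ := (hLA.bijective U hU V hle').2 t
    have hge : IsGen LA V e := by
      apply GrTwistGen.isGen_of_pushforward (RelProj.emb pA chartA U hU) _ (lamA U hU) V hle
        (fun W hW => hLA.bijective U hU W (hW.trans hle'))
      rw [he]
      exact GrTwistGen.isGen_frac _ _ _ (hnot _) (hnot _) _ _
    have hxV : h (RelProj.emb pB chartB U hU y) ∈ V := by
      rw [emb_comp_h_apply φ hφ hirr h hh U hU y]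
      exact ⟨y', hfy, rfl⟩
    refine ⟨h ⁻¹ᵁ V, PbBasic.pull h LA V e, hxV, PbBasic.isGen_pull h hge, ?_⟩
    rw [key]
    -- the image is a generator of `LB` over `h ⁻¹ V`
    have hleB' : h ⁻¹ᵁ V ≤ pB ⁻¹ᵁ U := preimage_le φ hφ hirr h hh hA hB U hle'
    have hleB : h ⁻¹ᵁ V ≤ (RelProj.emb pB chartB U hU).opensRange := by
      rw [ProjQMap.opensRange_emb]
      exact hleB'
    apply GrTwistGen.isGen_of_pushforward (RelProj.emb pB chartB U hU) _ (lamB U hU) _ hleB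
      (fun W hW => hLB.bijective U hU W (hW.trans hleB'))
    -- membership facts over `h ⁻¹ V`
    have hmemA : ∀ z : (RelProj.emb pB chartB U hU ⁻¹ᵁ (h ⁻¹ᵁ V) : (Proj (ℬ.deg U hU)).Opens),
        (RelProj.emb pA chartA U hU).base (ProjectiveSpectrum.comap
          (RelProj.gradedHomAt φ hφ U hU) (hirr U hU) z.1) ∈ V := by
      intro z
      rw [← emb_comp_h_apply φ hφ hirr h hh U hU z.1]
      exact z.2
    have hnotB : ∀ (k : ℕ)
        (z : (RelProj.emb pB chartB U hU ⁻¹ᵁ (h ⁻¹ᵁ V) : (Proj (ℬ.deg U hU)).Opens)),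
        (RelProj.gradedHomAt φ hφ U hU) (f ^ k) ∉ z.1.asHomogeneousIdeal := fun k z =>
      hnot k ⟨_, hmemA z⟩
    have hmemB : ∀ k : ℕ, (RelProj.gradedHomAt φ hφ U hU) (f ^ k) ∈ ℬ.deg U hU k := fun k =>
      (RelProj.gradedHomAt φ hφ U hU).map_mem (hmem k)
    have e1 : (lamB U hU).app (h ⁻¹ᵁ V) (θ.app V e) =
        frac (RelProj.emb pB chartB U hU ⁻¹ᵁ (h ⁻¹ᵁ V))
          ⟨(RelProj.gradedHomAt φ hφ U hU) (f ^ n.toNat), hmemB _⟩
          ⟨(RelProj.gradedHomAt φ hφ U hU) (f ^ (-n).toNat), hmemB _⟩ (hnotB _) n hdeg := by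
      refine val_ext (U := RelProj.emb pB chartB U hU ⁻¹ᵁ (h ⁻¹ᵁ V)) (fun z => ?_)
      refine (hθ U hU V e z.1 z.2 (hmemA z)).trans ?_
      rw [he]
      exact GrTwist.locMap_mk _ _ _ _ _
    rw [e1]
    exact GrTwistGen.isGen_frac _ _ _ (hnotB _) (hnotB _) _ _
  exact ⟨asIso θs⟩

end Groth.Agent.Lib.Helper3.RelTwistPull
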