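import Groth.Agent.Lib.Helper3.AffExtBasic
import Groth.Agent.Lib.Helper3.SymGr
import Groth.Agent.Lib.Helper3.RelProjExist
import Groth.Agent.Lib.Helper3.RelTwistExist
import Groth.Agent.Lib.Helper3.RelTwistPull
import Groth.Agent.Lib.Helper3.RelProjGlue
import Groth.Agent.Lib.Helper3.ProjProper
import Groth.Agent.Lib.Helper3.QCAlgGen
import Groth.Agent.Lib.Helper3.SymGenProj
import Groth.Agent.Lib.Helper3.SymBiprod

/-!
# `Proj(𝒮)` for `𝒮` generated in degree one is a closed subscheme of a projective bundle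
-/

set_option autoImplicit false
set_option linter.unusedSectionVars false
universe u
open CategoryTheory CategoryTheory.Limits AlgebraicGeometry TopologicalSpace Opposite
open Scheme.Modules
open scoped HomogeneousIdeal

namespace Groth.Agent.Lib.Helper3.DegOneBundle

open QCSec SymGen

section algebra

variable {A B : Type u} [CommRing A] [CommRing B] (𝒜 : ℕ → AddSubgroup A) (ℬ : ℕ → AddSubgroup B)
  [GradedRing 𝒜] [GradedRing ℬ]

/-- a ring homomorphism which respects degrees on generators of degrees zero and one is graded -/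
theorem map_mem_of_generators (ψ : A →+* B) (S₀ S₁ : Set A)
    (h0 : ∀ x ∈ S₀, x ∈ 𝒜 0) (h1 : ∀ x ∈ S₁, x ∈ 𝒜 1)
    (hgen : Subring.closure (S₀ ∪ S₁) = ⊤) (hψ0 : ∀ x ∈ S₀, ψ x ∈ ℬ 0)
    (hψ1 : ∀ x ∈ S₁, ψ x ∈ ℬ 1) {d : ℕ} {x : A} (hx : x ∈ 𝒜 d) : ψ x ∈ ℬ d := by
  classical
  have key : ∀ y : A, ∀ e : ℕ, ψ (DirectSum.decompose 𝒜 y e : A) ∈ ℬ e := by
    intro y
    have hy : y ∈ Subring.closure (S₀ ∪ S₁) := by rw [hgen]; trivial
    induction hy using Subring.closure_induction with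
    | mem y hy =>
      intro e
      rcases hy with hy | hy
      · by_cases h : 0 = e
        · subst h
          rw [DirectSum.decompose_of_mem_same 𝒜 (h0 y hy)]
          exact hψ0 y hy
        · rw [DirectSum.decompose_of_mem_ne 𝒜 (h0 y hy) h, map_zero]
          exact zero_mem _
      · by_cases h : 1 = e
        · subst h
          rw [DirectSum.decompose_of_mem_same 𝒜 (h1 y hy)]
          exact hψ1 y hy
        · rw [DirectSum.decompose_of_mem_ne 𝒜 (h1 y hy) h, map_zero]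
          exact zero_mem _
    | zero =>
      intro e
      rw [DirectSum.decompose_zero, DirectSum.zero_apply, ZeroMemClass.coe_zero, map_zero]
      exact zero_mem _
    | one =>
      intro e
      by_cases h : 0 = e
      · subst h
        rw [DirectSum.decompose_of_mem_same 𝒜 SetLike.GradedOne.one_mem, map_one]
        exact SetLike.GradedOne.one_mem
      · rw [DirectSum.decompose_of_mem_ne 𝒜 SetLike.GradedOne.one_mem h, map_zero]
        exact zero_mem _
    | add y z _ _ hy hz =>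
      intro e
      rw [DirectSum.decompose_add, DirectSum.add_apply, AddMemClass.coe_add, map_add]
      exact add_mem (hy e) (hz e)
    | neg y _ hy =>
      intro e
      rw [← GradedRing.proj_apply, map_neg, GradedRing.proj_apply, map_neg]
      exact neg_mem (hy e)
    | mul y z _ _ hy hz =>
      intro e
      rw [DirectSum.decompose_mul, DirectSum.coe_mul_apply, map_sum]
      refine sum_mem (fun ij hij => ?_)
      have hije : ij.1 + ij.2 = e := (Finset.mem_filter.mp hij).2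
      rw [map_mul, ← hije]
      exact SetLike.mul_mem_graded (hy _) (hz _)
  have := key x d
  rwa [DirectSum.decompose_of_mem_same 𝒜 hx] at this

/-- a graded homomorphism hitting the scalars and degree one is surjective in positive degrees -/
theorem surj_pos {R : Type u} [CommRing R] (ψ : 𝒜 →+*ᵍ ℬ) (φ : R →+* B)
    (hgen : Subring.closure ((ℬ 0 : Set B) ∪ (ℬ 1 : Set B)) = ⊤)
    (hφ : ∀ r, ∃ a, ψ a = φ r) (h1 : ∀ y ∈ ℬ 1, ∃ a, ψ a = y)
    (d : ℕ) (hd : 0 < d) (b : B) (hb : b ∈ ℬ d) : ∃ a ∈ 𝒜 d, ψ a = b := by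
  classical
  have hb' := ProjProper.mem_closure_of_pos ℬ φ hgen hd hb
  have hle : Subring.closure (Set.range φ ∪ (ℬ 1 : Set B)) ≤ (ψ : A →+* B).range := by
    apply Subring.closure_le.mpr
    rintro y (⟨r, rfl⟩ | hy)
    · exact hφ r
    · exact h1 y hy
  obtain ⟨a', ha'⟩ := hle hb'
  refine ⟨(DirectSum.decompose 𝒜 a' d : A), SetLike.coe_mem _, ?_⟩
  have ha'' : ψ a' = b := ha'
  rw [GradedRingHom.map_directSumDecompose, ha'', DirectSum.decompose_of_mem_same ℬ hb]

end algebra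

variable {Y : Scheme.{u}} (𝒮 : RelProj.QCGrAlg Y)

/-- the projection of `𝒮` onto its degree one part, as a module map -/
theorem exists_proj_one : ∃ k : 𝒮.toModule ⟶ 𝒮.toModule,
    ∀ (U : Y.Opens) (hU : IsAffineOpen U) (x : Γ(𝒮.toModule, U)),
      (show 𝒮.presheaf.obj (op U) from k.app U x) =
        (DirectSum.decompose (𝒮.deg U hU) (show 𝒮.presheaf.obj (op U) from x) 1 :
          𝒮.presheaf.obj (op U)) := by
  classical
  obtain ⟨k, hk⟩ := AffExtBasic.exists_hom_of_affine_basic (M := 𝒮.toModule) (N := 𝒮.toModule)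
    (fun U hU => AddMonoidHom.mk' (fun x : Γ(𝒮.toModule, U) =>
      (show Γ(𝒮.toModule, U) from
        (DirectSum.decompose (𝒮.deg U hU) (show 𝒮.presheaf.obj (op U) from x) 1 :
          𝒮.presheaf.obj (op U))))
      (fun x x' => by
        change ((DirectSum.decompose (𝒮.deg U hU)
          ((show 𝒮.presheaf.obj (op U) from x) + (show 𝒮.presheaf.obj (op U) from x')) 1 :
            𝒮.presheaf.obj (op U))) = _
        rw [DirectSum.decompose_add, DirectSum.add_apply, AddMemClass.coe_add]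
        rfl))
    (fun U hU a x => by
      change ((DirectSum.decompose (𝒮.deg U hU)
        ((𝒮.str.app (op U)).hom a * (show 𝒮.presheaf.obj (op U) from x)) 1 :
          𝒮.presheaf.obj (op U))) = _
      rw [DirectSum.coe_decompose_mul_of_left_mem_zero (𝒮.deg U hU) (𝒮.str_mem U hU a)]
      rfl)
    (fun U hU r x => by
      change (𝒮.res hU (hU.basicOpen r) (Y.basicOpen_le r))
        ((DirectSum.decompose (𝒮.deg U hU) (show 𝒮.presheaf.obj (op U) from x) 1 :
          𝒮.presheaf.obj (op U))) = _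
      rw [GradedRingHom.map_directSumDecompose]
      rfl)
  exact ⟨k, fun U hU x => congrArg (fun t => (show 𝒮.presheaf.obj (op U) from t)) (hk U hU x)⟩

/-- EGA II 4.4.? : if `X` immerses into `Proj(𝒮)` with `𝒮` generated in degree one and `L` is the
pullback of `O(1)`, then `L` is relatively very ample -/
theorem isRelVeryAmple_of_genDegOne {X P : Scheme.{u}} (q : X ⟶ Y) (L : X.Modules)
    (h𝒮 : 𝒮.IsGenDegOne) (p : P ⟶ Y)
    (chart : ∀ (U : Y.Opens) (hU : IsAffineOpen U),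
      ((p ⁻¹ᵁ U : P.Opens) : Scheme.{u}) ≅ Proj (𝒮.deg U hU))
    (hP : RelProj.IsRelProj 𝒮 p chart) (O1 : P.Modules)
    (lam : ∀ (U : Y.Opens) (hU : IsAffineOpen U),
      O1 ⟶ (Scheme.Modules.pushforward (RelProj.emb p chart U hU)).obj
        (GrTwist.twist (𝒮.deg U hU) 1))
    (hO1 : RelProj.IsRelTwist 𝒮 p chart 1 O1 lam) (i : X ⟶ P) [IsImmersion i] (hi : i ≫ p = q)
    (e : L ≅ (Scheme.Modules.pullback i).obj O1) : RelProj.IsRelVeryAmple q L := by
  classical
  haveI hq : SheafOfModules.IsQuasicoherent (R := Y.ringCatSheaf) 𝒮.toModule :=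
    QCAlgGen.isQuasicoherent_toModule 𝒮.toQCAlg
  obtain ⟨k, hk⟩ := exists_proj_one 𝒮
  obtain ⟨𝒯, jT, hjT⟩ := SymGr.exists_isGrSymAlg 𝒮.toModule
  obtain ⟨ψ, hψ, -⟩ := hjT.1 𝒮.toQCAlg k
  have hψj : ∀ (U : Y.Opens) (x : Γ(𝒮.toModule, U)),
      (ψ.hom.app (op U)).hom (jj 𝒯.toQCAlg jT U x) =
        (show 𝒮.presheaf.obj (op U) from k.app U x) := by
    intro U x
    have := congr($(hψ).app U x)
    exact this
  have hgr : RelProj.IsGradedHom ψ := by
    intro U hU d x hx
    refine map_mem_of_generators (𝒯.deg U hU) (𝒮.deg U hU) (ψ.hom.app (op U)).hom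
      (Set.range (st 𝒯.toQCAlg U)) (Set.range (jj 𝒯.toQCAlg jT U)) ?_ ?_
      (G_eq_top 𝒯.toQCAlg jT hjT.1 hU) ?_ ?_ hx
    · rintro _ ⟨r, rfl⟩
      exact 𝒯.str_mem U hU r
    · rintro _ ⟨m, rfl⟩
      exact hjT.2 U hU m
    · rintro _ ⟨r, rfl⟩
      rw [SymBiprod.ψ_str]
      exact 𝒮.str_mem U hU r
    · rintro _ ⟨m, rfl⟩
      rw [hψj, hk U hU]
      exact SetLike.coe_mem _
  have hsurj : ∀ (U : Y.Opens) (hU : IsAffineOpen U) (d : ℕ), 0 < d →
      ∀ b : 𝒮.presheaf.obj (op U), b ∈ 𝒮.deg U hU d →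
        ∃ a ∈ 𝒯.deg U hU d, RelProj.gradedHomAt ψ hgr U hU a = b := by
    intro U hU d hd b hb
    refine surj_pos (𝒯.deg U hU) (𝒮.deg U hU) (RelProj.gradedHomAt ψ hgr U hU)
      (st 𝒮.toQCAlg U) (h𝒮 U hU) ?_ ?_ d hd b hb
    · intro r
      exact ⟨st 𝒯.toQCAlg U r, SymBiprod.ψ_str ψ U r⟩
    · intro y hy
      refine ⟨jj 𝒯.toQCAlg jT U (show Γ(𝒮.toModule, U) from y), ?_⟩
      change (ψ.hom.app (op U)).hom _ = y
      rw [hψj, hk U hU]
      exact DirectSum.decompose_of_mem_same _ hy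
  have hirr : ∀ (U : Y.Opens) (hU : IsAffineOpen U),
      (𝒮.deg U hU)₊ ≤ ((𝒯.deg U hU)₊).map (RelProj.gradedHomAt ψ hgr U hU) :=
    fun U hU => ProjProper.irrelevant_le_of_surj_pos _ (hsurj U hU)
  obtain ⟨PT, pT, chartT, hPT⟩ := RelProjExist.exists_isRelProj 𝒯
  obtain ⟨OT, lamT, hOT⟩ := RelTwistExist.exists_isRelTwist hPT 1
  obtain ⟨h, hh⟩ := RelProjGlue.exists_chartMap _ hPT hP (RelProjGlue.compat_map ψ hgr hirr)
  have hh' : RelProj.IsRelProjMap ψ hgr hirr chartT chart h := hh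
  haveI : IsClosedImmersion h :=
    RelProjMap.of_forall_map (P := @IsClosedImmersion) hPT hP h hh'
      (fun U hU => ProjProper.isClosedImmersion_map_of_pos _ (hirr U hU) (hsurj U hU))
  have hcomp : h ≫ pT = p := RelProjMap.comp_eq hPT hP h hh'
  obtain ⟨τ⟩ := RelTwistPull.nonempty_iso ψ hgr hirr h hh' 1 hPT hP hOT hO1
    (SymGenProj.isGenDegOne hjT)
  refine ⟨𝒮.toModule, hq, 𝒯, jT, hjT, PT, pT, chartT, hPT, OT, lamT, hOT, i ≫ h, inferInstance,
    by rw [Category.assoc, hcomp, hi], ⟨?_⟩⟩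
  exact e ≪≫ (Scheme.Modules.pullback i).mapIso τ.symm ≪≫
    (Scheme.Modules.pullbackComp i h).app OT

end Groth.Agent.Lib.Helper3.DegOneBundle
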