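import Groth.Agent.Lib.Helper3.DegOneBundle
import Groth.Agent.Lib.Helper3.QCProps
import Groth.Agent.Lib.Helper3.QCExact

/-!
# `Proj(𝒮)`, for `𝒮` generated in degree one with degree one part of finite type, is a closed
subscheme of the projective bundle of a module of finite type
-/

set_option autoImplicit false
set_option linter.unusedSectionVars false
universe u
open CategoryTheory CategoryTheory.Limits AlgebraicGeometry TopologicalSpace Opposite
open Scheme.Modules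
open scoped HomogeneousIdeal

namespace Groth.Agent.Lib.Helper3.DegOneFT

open QCSec SymGen DegOneBundle

variable {Y : Scheme.{u}} (𝒮 : RelProj.QCGrAlg Y)

theorem sub_app' {M N : Y.Modules} (f g : M ⟶ N) (U : Y.Opens) (x : Γ(M, U)) :
    (f - g).app U x = f.app U x - g.app U x := rfl

theorem exists_closedImmersion_projBundle {P : Scheme.{u}} (p : P ⟶ Y)
    (chart : ∀ (U : Y.Opens) (hU : IsAffineOpen U),
      ((p ⁻¹ᵁ U : P.Opens) : Scheme.{u}) ≅ Proj (𝒮.deg U hU))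
    (hP : RelProj.IsRelProj 𝒮 p chart) (h𝒮 : 𝒮.IsGenDegOne) (hft : 𝒮.IsFTDeg 1) :
    ∃ (E : Y.Modules) (𝒯 : RelProj.QCGrAlg Y) (j : E ⟶ 𝒯.toModule) (PT : Scheme.{u})
      (pT : PT ⟶ Y)
      (chartT : ∀ (U : Y.Opens) (hU : IsAffineOpen U),
        ((pT ⁻¹ᵁ U : PT.Opens) : Scheme.{u}) ≅ Proj (𝒯.deg U hU)) (h : P ⟶ PT),
      E.IsQuasicoherent ∧ E.IsFiniteType ∧ RelProj.IsGrSymAlg E 𝒯 j ∧
        RelProj.IsRelProj 𝒯 pT chartT ∧ IsClosedImmersion h ∧ h ≫ pT = p := by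
  classical
  haveI hq : SheafOfModules.IsQuasicoherent (R := Y.ringCatSheaf) 𝒮.toModule :=
    QCAlgGen.isQuasicoherent_toModule 𝒮.toQCAlg
  obtain ⟨k, hk⟩ := exists_proj_one 𝒮
  haveI hEq : (kernel (𝟙 𝒮.toModule - k)).IsQuasicoherent :=
    QCProps.isQuasicoherent_kernel (𝟙 𝒮.toModule - k)
  have hιk : kernel.ι (𝟙 𝒮.toModule - k) ≫ k = kernel.ι (𝟙 𝒮.toModule - k) := by
    have h0 := kernel.condition (𝟙 𝒮.toModule - k)
    rw [Preadditive.comp_sub, Category.comp_id, sub_eq_zero] at h0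
    exact h0.symm
  -- the sections of the kernel are the elements of degree one
  have hι1 : ∀ (U : Y.Opens) (hU : IsAffineOpen U) (e : Γ(kernel (𝟙 𝒮.toModule - k), U)),
      (show 𝒮.presheaf.obj (op U) from (kernel.ι (𝟙 𝒮.toModule - k)).app U e) ∈
        𝒮.deg U hU 1 := by
    intro U hU e
    have h1 : k.app U ((kernel.ι (𝟙 𝒮.toModule - k)).app U e) =
        (kernel.ι (𝟙 𝒮.toModule - k)).app U e := congr($(hιk).app U e)
    have h2 := hk U hU ((kernel.ι (𝟙 𝒮.toModule - k)).app U e)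
    rw [h1] at h2
    rw [h2]
    exact SetLike.coe_mem _
  have hι2 : ∀ (U : Y.Opens) (hU : IsAffineOpen U) (y : 𝒮.presheaf.obj (op U)),
      y ∈ 𝒮.deg U hU 1 → ∃ e : Γ(kernel (𝟙 𝒮.toModule - k), U),
        (show 𝒮.presheaf.obj (op U) from (kernel.ι (𝟙 𝒮.toModule - k)).app U e) = y := by
    intro U hU y hy
    let S : ShortComplex Y.Modules :=
      ShortComplex.mk (kernel.ι (𝟙 𝒮.toModule - k)) (𝟙 𝒮.toModule - k) (kernel.condition _)
    have hS : S.Exact := ShortComplex.exact_kernel (𝟙 𝒮.toModule - k)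
    haveI : Mono S.f := inferInstanceAs (Mono (kernel.ι (𝟙 𝒮.toModule - k)))
    refine QCExact.exact_sections S hS U (show Γ(𝒮.toModule, U) from y) ?_
    change (𝟙 𝒮.toModule - k).app U (show Γ(𝒮.toModule, U) from y) = 0
    rw [sub_app', sub_eq_zero]
    have h2 := hk U hU (show Γ(𝒮.toModule, U) from y)
    have h3 : (DirectSum.decompose (𝒮.deg U hU) y 1 : 𝒮.presheaf.obj (op U)) = y :=
      DirectSum.decompose_of_mem_same _ hy
    exact (h2.trans h3).symm
  haveI hEft : (kernel (𝟙 𝒮.toModule - k)).IsFiniteType := by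
    rw [QCProps.isFiniteType_iff_finite_sections]
    intro U hU
    obtain ⟨T, hT1, hT⟩ := hft U hU
    choose e he using fun t : T => hι2 U hU t.1 (hT1 t.2)
    refine ⟨⟨Finset.univ.image e, ?_⟩⟩
    rw [eq_top_iff]
    intro x _
    obtain ⟨c, hc⟩ := hT _ (hι1 U hU x)
    have hx : x = ∑ t : T, c t.1 • e t := by
      apply QCExact.injective_sections (kernel.ι (𝟙 𝒮.toModule - k)) U
      have h1 : (kernel.ι (𝟙 𝒮.toModule - k)).app U (∑ t : T, c t.1 • e t) =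
          ∑ t : T, (kernel.ι (𝟙 𝒮.toModule - k)).app U (c t.1 • e t) :=
        map_sum ((kernel.ι (𝟙 𝒮.toModule - k)).app U).hom _ _
      rw [h1]
      refine hc.trans ?_
      rw [← Finset.sum_coe_sort T (fun t => (𝒮.str.app (op U)).hom (c t) * t)]
      refine Finset.sum_congr rfl (fun t _ => ?_)
      rw [Scheme.Modules.Hom.app_smul]
      exact congrArg (fun z => (𝒮.str.app (op U)).hom (c t.1) * z) (he t).symm
    rw [hx]
    refine Submodule.sum_mem _ (fun t _ => Submodule.smul_mem _ _ (Submodule.subset_span ?_))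
    exact Finset.mem_coe.mpr (Finset.mem_image_of_mem e (Finset.mem_univ t))
  obtain ⟨𝒯, jT, hjT⟩ := SymGr.exists_isGrSymAlg (kernel (𝟙 𝒮.toModule - k))
  obtain ⟨ψ, hψ, -⟩ := hjT.1 𝒮.toQCAlg (kernel.ι (𝟙 𝒮.toModule - k))
  have hψj : ∀ (U : Y.Opens) (x : Γ(kernel (𝟙 𝒮.toModule - k), U)),
      (ψ.hom.app (op U)).hom (jj 𝒯.toQCAlg jT U x) =
        (show 𝒮.presheaf.obj (op U) from (kernel.ι (𝟙 𝒮.toModule - k)).app U x) := by
    intro U x
    have := congr($(hψ).app U x)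
    exact this
  have hgr : RelProj.IsGradedHom ψ := by
    intro U hU d x hx
    refine map_mem_of_generators (𝒯.deg U hU) (𝒮.deg U hU) (ψ.hom.app (op U)).hom
      (Set.range (st 𝒯.toQCAlg U)) (Set.range (jj 𝒯.toQCAlg jT U)) ?_ ?_
      (G_eq_top 𝒯.toQCAlg jT hjT.1 hU) ?_ ?_ hx
    · rintro _ ⟨r, rfl⟩
      exact 𝒯.str_mem U hU r
    · rintro _ ⟨m, rfl⟩
      exact hjT.2 U hU m
    · rintro _ ⟨r, rfl⟩
      rw [SymBiprod.ψ_str]
      exact 𝒮.str_mem U hU r
    · rintro _ ⟨m, rfl⟩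
      rw [hψj]
      exact hι1 U hU m
  have hsurj : ∀ (U : Y.Opens) (hU : IsAffineOpen U) (d : ℕ), 0 < d →
      ∀ b : 𝒮.presheaf.obj (op U), b ∈ 𝒮.deg U hU d →
        ∃ a ∈ 𝒯.deg U hU d, RelProj.gradedHomAt ψ hgr U hU a = b := by
    intro U hU d hd b hb
    refine surj_pos (𝒯.deg U hU) (𝒮.deg U hU) (RelProj.gradedHomAt ψ hgr U hU)
      (st 𝒮.toQCAlg U) (h𝒮 U hU) ?_ ?_ d hd b hb
    · intro r
      exact ⟨st 𝒯.toQCAlg U r, SymBiprod.ψ_str ψ U r⟩
    · intro y hy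
      obtain ⟨e, he⟩ := hι2 U hU y hy
      refine ⟨jj 𝒯.toQCAlg jT U e, ?_⟩
      change (ψ.hom.app (op U)).hom _ = y
      rw [hψj]
      exact he
  have hirr : ∀ (U : Y.Opens) (hU : IsAffineOpen U),
      (𝒮.deg U hU)₊ ≤ ((𝒯.deg U hU)₊).map (RelProj.gradedHomAt ψ hgr U hU) :=
    fun U hU => ProjProper.irrelevant_le_of_surj_pos _ (hsurj U hU)
  obtain ⟨PT, pT, chartT, hPT⟩ := RelProjExist.exists_isRelProj 𝒯
  obtain ⟨h, hh⟩ := RelProjGlue.exists_chartMap _ hPT hP (RelProjGlue.compat_map ψ hgr hirr)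
  have hh' : RelProj.IsRelProjMap ψ hgr hirr chartT chart h := hh
  haveI : IsClosedImmersion h :=
    RelProjMap.of_forall_map (P := @IsClosedImmersion) hPT hP h hh'
      (fun U hU => ProjProper.isClosedImmersion_map_of_pos _ (hirr U hU) (hsurj U hU))
  have hcomp : h ≫ pT = p := RelProjMap.comp_eq hPT hP h hh'
  exact ⟨kernel (𝟙 𝒮.toModule - k), 𝒯, jT, PT, pT, chartT, h, hEq, hEft, hjT, hPT, inferInstance,
    hcomp⟩

end Groth.Agent.Lib.Helper3.DegOneFT
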