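import Groth.Agent.Lib.Helper4.Depth
import Groth.Agent.Lib.Helper28.DepthLoc

/-!
# Spreading out regular elements and lower semicontinuity of ideal depth
-/

set_option autoImplicit false
universe u
open LocCoh
open Groth.Agent.Lib.Helper4 Groth.Agent.Lib.Helper28

namespace Groth.Agent.Lib.Helper3

/-- spreading out regularity of an element -/
theorem exists_notMem_forall_isSMulRegular {A : Type u} [CommRing A] [IsNoetherianRing A]
    (M : Type u) [AddCommGroup M] [Module A M] [Module.Finite A M] (p : Ideal A) [p.IsPrime] (a : A)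
    (h : IsSMulRegular (LocalizedModule p.primeCompl M) (algebraMap A (Localization.AtPrime p) a)) :
    ∃ g ∉ p, ∀ (q : Ideal A) [q.IsPrime], g ∉ q →
      IsSMulRegular (LocalizedModule q.primeCompl M) (algebraMap A (Localization.AtPrime q) a) := by
  let K : Submodule A M := LinearMap.ker (LinearMap.lsmul A M a)
  have hK : ∀ k : M, k ∈ K ↔ a • k = 0 := fun k => Iff.rfl
  have hp : (⟨p, inferInstance⟩ : PrimeSpectrum A) ∉ Module.support A K := by
    rw [Module.notMem_support_iff']
    intro k
    have h1 : algebraMap A (Localization.AtPrime p) a • LocalizedModule.mk (k : M) (1 : p.primeCompl) = 0 := by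
      rw [algebraMap_smul, LocalizedModule.smul'_mk, (hK _).mp k.2, LocalizedModule.zero_mk]
    have h2 := (isSMulRegular_iff_right_eq_zero_of_smul.mp h) _ h1
    rw [← LocalizedModule.zero_mk (1 : p.primeCompl), LocalizedModule.mk_eq] at h2
    obtain ⟨u, hu⟩ := h2
    simp only [one_smul, smul_zero] at hu
    exact ⟨u, u.2, Subtype.ext hu⟩
  rw [Module.support_eq_zeroLocus] at hp
  obtain ⟨g, hgann, hgp⟩ := Set.not_subset.mp hp
  refine ⟨g, hgp, ?_⟩
  intro q _ hgq
  rw [isSMulRegular_iff_right_eq_zero_of_smul]
  intro x hx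
  induction x using LocalizedModule.induction_on with
  | h m t =>
    rw [algebraMap_smul, LocalizedModule.smul'_mk, ← LocalizedModule.zero_mk t,
      LocalizedModule.mk_eq] at hx
    obtain ⟨u, hu⟩ := hx
    simp only [smul_zero] at hu
    have h3 : (u : A) • (t : A) • m ∈ K := by
      rw [hK]
      rw [smul_comm a, smul_comm a]
      exact hu
    have h4 : g • ((u : A) • (t : A) • m) = 0 := by
      have := Module.mem_annihilator.mp hgann ⟨_, h3⟩
      exact congrArg Subtype.val this
    rw [← LocalizedModule.zero_mk t, LocalizedModule.mk_eq]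
    refine ⟨⟨g, hgq⟩ * u, ?_⟩
    rw [smul_zero, smul_zero, mul_smul]
    exact h4

theorem claim1742 {A : Type u} [CommRing A] [IsNoetherianRing A] (I : Ideal A) (p : PrimeSpectrum A) :
    ∀ (e : ℕ) (M : Type u) [AddCommGroup M] [Module A M] [Module.Finite A M],
      LocCoh.idealDepth (I.map (algebraMap A (Localization.AtPrime p.asIdeal)))
        (LocalizedModule p.asIdeal.primeCompl M) = e →
      ∃ U : Set (PrimeSpectrum A), IsOpen U ∧ p ∈ U ∧ ∀ q ∈ U,
        (e : ℕ∞) ≤ LocCoh.idealDepth (I.map (algebraMap A (Localization.AtPrime q.asIdeal)))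
          (LocalizedModule q.asIdeal.primeCompl M) := by
  intro e
  induction e with
  | zero =>
    intro M _ _ _ _
    exact ⟨Set.univ, isOpen_univ, Set.mem_univ _, fun q _ => by simp⟩
  | succ e ih =>
    intro M _ _ _ he
    set Ip := I.map (algebraMap A (Localization.AtPrime p.asIdeal)) with hIp
    have hne : Ip • (⊤ : Submodule (Localization.AtPrime p.asIdeal)
        (LocalizedModule p.asIdeal.primeCompl M)) ≠ ⊤ := by
      intro htop
      rw [idealDepth_of_smul_top_eq _ htop] at he
      exact ENat.top_ne_natCast _ he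
    have h1 : 1 ≤ LocCoh.idealDepth Ip (LocalizedModule p.asIdeal.primeCompl M) := by
      rw [he]; exact_mod_cast Nat.succ_le_succ (Nat.zero_le e)
    obtain ⟨x', hx'I, hx'reg⟩ := (one_le_idealDepth_iff Ip hne).mp h1
    obtain ⟨⟨a, s⟩, has⟩ := (IsLocalization.mem_map_algebraMap_iff p.asIdeal.primeCompl
      (Localization.AtPrime p.asIdeal)).mp hx'I
    simp only at has
    have hareg : IsSMulRegular (LocalizedModule p.asIdeal.primeCompl M)
        (algebraMap A (Localization.AtPrime p.asIdeal) a) := by
      rw [← has]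
      exact hx'reg.mul (IsUnit.isSMulRegular _ (IsLocalization.map_units (Localization.AtPrime p.asIdeal) s))
    have haI : algebraMap A (Localization.AtPrime p.asIdeal) (a : A) ∈ Ip :=
      Ideal.mem_map_of_mem _ a.2
    obtain ⟨g, hgp, hg⟩ := exists_notMem_forall_isSMulRegular M p.asIdeal a hareg
    have hquot : LocCoh.idealDepth Ip (LocalizedModule p.asIdeal.primeCompl (QuotSMulTop (a : A) M)) = e := by
      rw [Groth.Agent.Lib.Helper4.idealDepth_congr Ip (quotSMulTopLocalizedEquiv p.asIdeal (a : A))]
      have := idealDepth_quotSMulTop_add_one Ip _ haI hareg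
      rw [he] at this
      push_cast at this
      exact ENat.add_left_injective_of_ne_top (by simp) this
    obtain ⟨U', hU'open, hpU', hU'⟩ := ih (QuotSMulTop (a : A) M) hquot
    refine ⟨U' ∩ (PrimeSpectrum.basicOpen g : Set (PrimeSpectrum A)), hU'open.inter
      (PrimeSpectrum.basicOpen g).isOpen, ⟨hpU', hgp⟩, ?_⟩
    rintro q ⟨hqU', hgq⟩
    have hregq := hg q.asIdeal hgq
    have haIq : algebraMap A (Localization.AtPrime q.asIdeal) (a : A) ∈
        I.map (algebraMap A (Localization.AtPrime q.asIdeal)) := Ideal.mem_map_of_mem _ a.2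
    rw [← idealDepth_quotSMulTop_add_one _ _ haIq hregq,
      ← Groth.Agent.Lib.Helper4.idealDepth_congr _ (quotSMulTopLocalizedEquiv q.asIdeal (a : A))]
    push_cast
    gcongr
    exact hU' q hqU'

end Groth.Agent.Lib.Helper3
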