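import Groth.Prelude.Def_W4stktopologysheavesDim
import Mathlib.Topology.Sober
import Mathlib.Order.RelSeries

/-! Dimension functions on sober spaces: codimension formula. -/

set_option autoImplicit false
universe u
open TopologicalSpace Topology Set

namespace Groth.Agent.Lib.Helper3.DimFun

variable {X : Type u} [TopologicalSpace X] [QuasiSober X]

/-- The generic point of an irreducible closed subset. -/
noncomputable def gp (Z : IrreducibleCloseds X) : X := Z.isIrreducible.genericPoint

lemma gp_spec (Z : IrreducibleCloseds X) : closure {gp Z} = (Z : Set X) :=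
  (Z.isIrreducible.isGenericPoint_genericPoint Z.isClosed).def

lemma gp_mem (Z : IrreducibleCloseds X) : gp Z ∈ (Z : Set X) := by
  rw [← gp_spec]
  exact subset_closure rfl

lemma gp_specializes {Z Z' : IrreducibleCloseds X} (h : Z ≤ Z') : gp Z' ⤳ gp Z := by
  rw [specializes_iff_mem_closure, gp_spec]
  exact h (gp_mem Z)

lemma gp_injective {Z Z' : IrreducibleCloseds X} (h : gp Z = gp Z') : Z = Z' := by
  apply IrreducibleCloseds.ext
  rw [← gp_spec Z, ← gp_spec Z', h]

/-- The irreducible closed subset `closure {x}`. -/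
def cl (x : X) : IrreducibleCloseds X := ⟨closure {x}, isIrreducible_singleton.closure, isClosed_closure⟩

lemma gp_cl [T0Space X] (x : X) : gp (cl x) = x :=
  ((cl x).isIrreducible.isGenericPoint_genericPoint (cl x).isClosed).eq isGenericPoint_closure

lemma cl_gp (Z : IrreducibleCloseds X) : cl (gp Z) = Z := IrreducibleCloseds.ext (gp_spec Z)

variable {δ : X → ℤ} (hδ : PtTop.IsDimensionFunction δ)
include hδ

lemma D_lt {Z Z' : IrreducibleCloseds X} (h : Z < Z') : δ (gp Z) < δ (gp Z') :=
  hδ.1 (gp Z') (gp Z) (gp_specializes h.le) (fun e => h.ne (gp_injective e.symm))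

lemma D_le {Z Z' : IrreducibleCloseds X} (h : Z ≤ Z') : δ (gp Z) ≤ δ (gp Z') := by
  rcases h.eq_or_lt with rfl | h
  · exact le_rfl
  · exact (D_lt hδ h).le

lemma D_covBy [T0Space X] {Z Z' : IrreducibleCloseds X} (h : Z ⋖ Z') :
    δ (gp Z') = δ (gp Z) + 1 := by
  refine hδ.2 (gp Z') (gp Z) ⟨gp_specializes h.1.le, fun e => h.1.ne (gp_injective e.symm), ?_⟩
  intro z hz1 hz2
  have h1 : Z ≤ cl z := by
    intro w hw
    have : w ∈ closure {gp Z} := by rw [gp_spec]; exact hw
    exact (specializes_iff_mem_closure.1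
      (hz2.trans (specializes_iff_mem_closure.2 this)))
  have h2 : cl z ≤ Z' := by
    intro w hw
    have : w ∈ closure {gp Z'} :=
      specializes_iff_mem_closure.1 (hz1.trans (specializes_iff_mem_closure.2 hw))
    rw [gp_spec] at this
    exact this
  rcases h1.eq_or_lt with e | hlt
  · right
    rw [← gp_cl z, ← e]
  · left
    have : cl z = Z' := by
      rcases h2.eq_or_lt with e | hlt'
      · exact e
      · exact absurd hlt' (h.2 hlt)
    rw [← gp_cl z, this]

lemma length_le (s : LTSeries (IrreducibleCloseds X)) (i : Fin (s.length + 1)) :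
    δ (gp (s 0)) + (i : ℕ) ≤ δ (gp (s i)) := by
  induction i using Fin.induction with
  | zero => simp
  | succ i ih =>
    have := D_lt hδ (s.strictMono (Fin.castSucc_lt_succ (i := i)))
    rw [Fin.val_castSucc] at ih
    rw [Fin.val_succ]
    push_cast
    omega

lemma length_eq [T0Space X] (s : LTSeries (IrreducibleCloseds X))
    (hs : ∀ i : Fin s.length, s (Fin.castSucc i) ⋖ s (Fin.succ i)) (i : Fin (s.length + 1)) :
    δ (gp (s i)) = δ (gp (s 0)) + (i : ℕ) := by
  induction i using Fin.induction with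
  | zero => simp
  | succ i ih =>
    have := D_covBy hδ (hs i)
    rw [Fin.val_castSucc] at ih
    rw [Fin.val_succ]
    push_cast
    omega

lemma codim_le {T T' : IrreducibleCloseds X} :
    PtTop.codim T (T' : Set X) ≤ ((δ (gp T') - δ (gp T)).toNat : ℕ∞) := by
  refine iSup₂_le fun s hs => ?_
  have h1 := length_le hδ s (Fin.last _)
  have h2 : δ (gp s.last) ≤ δ (gp T') := D_le hδ (show s.last ≤ T' from hs.2)
  have h3 : s 0 = T := hs.1
  have h4 : s (Fin.last _) = s.last := rfl
  rw [h3, h4, Fin.val_last] at h1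
  have : s.length ≤ (δ (gp T') - δ (gp T)).toNat := by omega
  exact_mod_cast this

lemma exists_chain [T0Space X] : ∀ (n : ℕ) (T T' : IrreducibleCloseds X), T ≤ T' →
    δ (gp T') - δ (gp T) = n →
    ∃ s : LTSeries (IrreducibleCloseds X), s.head = T ∧ s.last = T' ∧ s.length = n := by
  intro n
  induction n with
  | zero =>
    intro T T' hle hn
    have : T = T' := by
      rcases hle.eq_or_lt with e | hlt
      · exact e
      · have := D_lt hδ hlt
        simp at hn
        omega
    subst this
    exact ⟨RelSeries.singleton _ T, rfl, rfl, rfl⟩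
  | succ n ih =>
    intro T T' hle hn
    have hlt : T < T' := by
      rcases hle.eq_or_lt with e | hlt
      · subst e
        simp at hn
        omega
      · exact hlt
    obtain ⟨W, hW, hmin⟩ := WellFounded.has_min
      (measure fun W : IrreducibleCloseds X => (δ (gp W) - δ (gp T)).toNat).wf
      {W | T < W ∧ W ≤ T'} ⟨T', hlt, le_rfl⟩
    have hcov : T ⋖ W := by
      refine ⟨hW.1, fun c hTc hcW => ?_⟩
      refine hmin c ⟨hTc, hcW.le.trans hW.2⟩ ?_
      have h1 := D_lt hδ hTc
      have h2 := D_lt hδ hcW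
      show (δ (gp c) - δ (gp T)).toNat < (δ (gp W) - δ (gp T)).toNat
      omega
    have hDW := D_covBy hδ hcov
    obtain ⟨s', hs'1, hs'2, hs'3⟩ := ih W T' hW.2 (by push_cast at hn; omega)
    refine ⟨s'.cons T (by rw [hs'1]; exact hW.1), RelSeries.head_cons _ _ _, ?_, ?_⟩
    · rw [RelSeries.last_cons, hs'2]
    · rw [RelSeries.cons_length, hs'3]

lemma codim_eq [T0Space X] {T T' : IrreducibleCloseds X} (h : T ≤ T') :
    PtTop.codim T (T' : Set X) = ((δ (gp T') - δ (gp T)).toNat : ℕ∞) := by
  apply le_antisymm (codim_le hδ)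
  have hnn : 0 ≤ δ (gp T') - δ (gp T) := by
    have := D_le hδ h
    omega
  obtain ⟨s, hs1, hs2, hs3⟩ := exists_chain hδ (δ (gp T') - δ (gp T)).toNat T T' h
    (Int.toNat_of_nonneg hnn).symm
  refine le_iSup₂_of_le s ⟨hs1, by rw [hs2]⟩ ?_
  rw [hs3]

end Groth.Agent.Lib.Helper3.DimFun
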