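import Mathlib
import Groth.Prelude
import Groth.Agent.Lib.Helper3.FEtFib
import Groth.Agent.Lib.Helper15.EtGlue

/-!
# Helper3: the sheaf of sets attached to a finite étale scheme is finite locally constant.
-/

set_option autoImplicit false
universe u
open CategoryTheory CategoryTheory.Limits AlgebraicGeometry Opposite

namespace H3.FEtConst
open H3.FEtSplit H3.FEtFib Groth.Agent.Lib.Helper15

/-- local splitting data for a finite étale morphism around a point of the base. -/
theorem exists_local_splitting {X S : Scheme.{u}} (f : X ⟶ S) [IsFinite f] [Etale f] (s : S) :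
    ∃ (Y : Scheme.{u}) (ψ : Y ⟶ S) (n : ℕ) (t : Fin n → (Y ⟶ X)), Etale ψ ∧
      s ∈ Set.range ψ ∧ (∀ i, t i ≫ f = ψ) ∧
      (∀ i j, i ≠ j → Distinct (t i) (t j)) ∧
      (∀ {W : Scheme.{u}} (g : W ⟶ Y) (h : W ⟶ X), h ≫ f = g ≫ ψ → ∀ w : W,
        ∃ (m : Fin n) (W' : W.Opens), w ∈ W' ∧ W'.ι ≫ h = W'.ι ≫ g ≫ t m) := by
  haveI : Flat f := inferInstance
  have hloc := Scheme.Hom.isLocallyConstant_finrank f
  obtain ⟨n, hn⟩ : ∃ n, f.finrank s = n := ⟨_, rfl⟩
  let V : S.Opens := ⟨{x | f.finrank x = n}, hloc.isOpen_fiber n⟩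
  have hsV : s ∈ V := hn
  have hVmem : ∀ v : V.toScheme, f.finrank (V.ι v) = n := fun v => by
    have h1 : V.ι v ∈ (V : Set S) := by
      have h2 := Set.mem_range_self (f := V.ι) v
      rwa [Scheme.Opens.range_ι] at h2
    exact h1
  obtain ⟨Y, ψ₀, t₀, h1, h2, h3, h4, h5⟩ := exists_splitting n (pullback.snd f V.ι)
    (fun v => by rw [Scheme.Hom.finrank_pullback_snd]; exact hVmem v)
  haveI := h1
  haveI := h2
  obtain ⟨ψ, hψ⟩ : ∃ ψ : Y ⟶ S, ψ = ψ₀ ≫ V.ι := ⟨_, rfl⟩
  obtain ⟨t, htdef⟩ : ∃ t : Fin n → (Y ⟶ X), t = fun i => t₀ i ≫ pullback.fst f V.ι := ⟨_, rfl⟩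
  haveI : Etale ψ := by rw [hψ]; infer_instance
  have ht : ∀ i, t i ≫ f = ψ := fun i => by
    rw [htdef, hψ]
    show (t₀ i ≫ pullback.fst f V.ι) ≫ f = ψ₀ ≫ V.ι
    rw [Category.assoc, pullback.condition, ← Category.assoc, h4 i]
  have hd : ∀ i j, i ≠ j → Distinct (t i) (t j) := by
    intro i j hij T ξ hT heq
    apply h5 i j hij T ξ hT
    rw [htdef] at heq
    have heq' : ξ ≫ t₀ i ≫ pullback.fst f V.ι = ξ ≫ t₀ j ≫ pullback.fst f V.ι := heq
    apply pullback.hom_ext
    · simpa only [Category.assoc] using heq'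
    · rw [Category.assoc, Category.assoc, h4 i, h4 j]
  have hψmem : ∀ y : Y, f.finrank (ψ y) = n := fun y => by
    rw [hψ, Scheme.Hom.comp_apply]
    exact hVmem (ψ₀ y)
  refine ⟨Y, ψ, n, t, inferInstance, ?_, ht, hd, ?_⟩
  · obtain ⟨y, hy⟩ := h3.surj (⟨s, hsV⟩ : V.toScheme)
    refine ⟨y, ?_⟩
    rw [hψ, Scheme.Hom.comp_apply, hy]
    rfl
  · intro W g h hcomm w
    let σ : Fin n → (Y ⟶ pullback f ψ) :=
      fun i => pullback.lift (t i) (𝟙 Y) (by rw [ht i, Category.id_comp])
    have hσ : ∀ i, σ i ≫ pullback.snd f ψ = 𝟙 Y := fun i => pullback.lift_snd _ _ _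
    have hσf : ∀ i, σ i ≫ pullback.fst f ψ = t i := fun i => pullback.lift_fst _ _ _
    have hiso : IsIso (Sigma.desc (f := fun _ : Fin n => Y) σ) :=
      isIso_sigmaDesc_of_sections (pullback.snd f ψ) n
        (fun y => by rw [Scheme.Hom.finrank_pullback_snd]; exact hψmem y) σ hσ
        (fun i j hij T ζ hT heq => hd i j hij T ζ hT (by
          rw [← hσf i, ← hσf j, ← Category.assoc, heq, Category.assoc]))
    let k : W ⟶ pullback f ψ := pullback.lift h g hcomm
    have hk1 : k ≫ pullback.snd f ψ = g := pullback.lift_snd _ _ _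
    have hk2 : k ≫ pullback.fst f ψ = h := pullback.lift_fst _ _ _
    obtain ⟨m, hm⟩ := exists_mem_range_of_isIso_sigmaDesc σ hiso (k w)
    haveI : IsOpenImmersion (σ m) :=
      isOpenImmersion_of_section (pullback.snd f ψ) (σ m) (hσ m)
    let W' : W.Opens := k ⁻¹ᵁ (σ m).opensRange
    have hwW' : w ∈ W' := hm
    have hr : Set.range (W'.ι ≫ k) ⊆ Set.range (σ m) := by
      rintro _ ⟨x, rfl⟩
      have hx : W'.ι x ∈ (W' : Set W) := by
        have h2 := Set.mem_range_self (f := W'.ι) x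
        rwa [Scheme.Opens.range_ι] at h2
      rw [Scheme.Hom.comp_apply]
      exact hx
    let l : W'.toScheme ⟶ Y := IsOpenImmersion.lift (σ m) (W'.ι ≫ k) hr
    have hl : l ≫ σ m = W'.ι ≫ k := IsOpenImmersion.lift_fac _ _ _
    have hg' : W'.ι ≫ g = l := by
      calc W'.ι ≫ g = W'.ι ≫ k ≫ pullback.snd f ψ := by rw [hk1]
        _ = (l ≫ σ m) ≫ pullback.snd f ψ := by rw [hl, Category.assoc]
        _ = l := by rw [Category.assoc, hσ m, Category.comp_id]
    have hh' : W'.ι ≫ h = l ≫ t m := by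
      calc W'.ι ≫ h = W'.ι ≫ k ≫ pullback.fst f ψ := by rw [hk2]
        _ = (l ≫ σ m) ≫ pullback.fst f ψ := by rw [hl, Category.assoc]
        _ = l ≫ t m := by rw [Category.assoc, hσf m]
    refine ⟨m, W', hwW', ?_⟩
    rw [hh', ← hg', Category.assoc]

section Sheaf

variable {S : Scheme.{u}}

/-- the lifted representable presheaf -/
abbrev rep (E : S.Etale) : S.Etaleᵒᵖ ⥤ Type (u + 1) := yoneda.obj E ⋙ uliftFunctor.{u + 1, u}

variable (E U : S.Etale) (n : ℕ) (t : Fin n → (U.left ⟶ E.left))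
  (ht : ∀ i, t i ≫ E.hom = U.hom)

/-- the section of `E` over `W → U` given by `t i`. -/
noncomputable def sec (W : Over U) (i : Fin n) : W.left ⟶ E :=
  MorphismProperty.Over.homMk (W.hom.left ≫ t i) (by
    rw [Category.assoc, ht i]; exact MorphismProperty.Over.w W.hom) trivial

/-- the comparison from the constant presheaf. -/
noncomputable def theta :
    (Over.forget U).op ⋙ (Functor.const S.Etaleᵒᵖ).obj (ULift.{u + 1} (Fin n)) ⟶
      (Over.forget U).op ⋙ rep E where
  app W := ↾(fun (m : ULift.{u + 1} (Fin n)) => ULift.up (sec E U n t ht W.unop (ULift.down m)))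
  naturality W W' φ := by
    apply ConcreteCategory.hom_ext
    intro m
    apply ULift.ext
    apply MorphismProperty.Over.Hom.ext
    have h1 : φ.unop.left.left ≫ W.unop.hom.left = W'.unop.hom.left := by
      have := congrArg (fun a => a.left) (Over.w φ.unop)
      exact this
    show W'.unop.hom.left ≫ t (ULift.down m) =
      φ.unop.left.left ≫ W.unop.hom.left ≫ t (ULift.down m)
    rw [← h1, Category.assoc]

theorem theta_locSurj
    (hB : ∀ {W : Scheme.{u}} (g : W ⟶ U.left) (h : W ⟶ E.left), h ≫ E.hom = g ≫ U.hom →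
      ∀ w : W, ∃ (m : Fin n) (W' : W.Opens), w ∈ W' ∧ W'.ι ≫ h = W'.ι ≫ g ≫ t m) :
    Presheaf.IsLocallySurjective (S.smallEtaleTopology.over U) (theta E U n t ht) where
  imageSieve_mem {W} s := by
    rw [GrothendieckTopology.mem_over_iff, EtGlue.mem_iff]
    intro x
    obtain ⟨a⟩ := s
    have ha : a.left ≫ E.hom = W.left.hom := MorphismProperty.Over.w a
    have hW : W.hom.left ≫ U.hom = W.left.hom := MorphismProperty.Over.w W.hom
    obtain ⟨m, W', hxW', hW'⟩ := hB W.hom.left a.left (ha.trans hW.symm) x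
    haveI : Etale W.left.hom := W.left.prop
    let Z : S.Etale := Scheme.Etale.mk (W'.ι ≫ W.left.hom)
    let g : Z ⟶ W.left := MorphismProperty.Over.homMk W'.ι rfl trivial
    refine ⟨Z, g, ⟨x, hxW'⟩, ?_, rfl⟩
    rw [Sieve.overEquiv_iff]
    refine ⟨ULift.up m, ?_⟩
    apply ULift.ext
    apply MorphismProperty.Over.Hom.ext
    show (W'.ι ≫ W.hom.left) ≫ t m = W'.ι ≫ a.left
    rw [Category.assoc]
    exact hW'.symm

theorem theta_locInj (hC : ∀ i j, i ≠ j → Distinct (t i) (t j)) :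
    Presheaf.IsLocallyInjective (S.smallEtaleTopology.over U) (theta E U n t ht) where
  equalizerSieve_mem {W} x y h := by
    by_cases hxy : x = y
    · subst hxy
      rw [Presheaf.equalizerSieve_self_eq_top]
      exact GrothendieckTopology.top_mem _ _
    · have hne : ULift.down x ≠ ULift.down y := fun h' => hxy (ULift.ext _ _ h')
      have h1 : W.unop.hom.left ≫ t (ULift.down x) = W.unop.hom.left ≫ t (ULift.down y) := by
        have h2 := congrArg (fun a : ULift.{u + 1} (W.unop.left ⟶ E) => (ULift.down a).left) h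
        exact h2
      have hempty : IsEmpty W.unop.left.left :=
        ⟨fun w => hC _ _ hne _ W.unop.hom.left ⟨w⟩ h1⟩
      rw [GrothendieckTopology.mem_over_iff, EtGlue.mem_iff]
      intro w
      exact (hempty.false w).elim

include ht in
theorem over_iso
    (hB : ∀ {W : Scheme.{u}} (g : W ⟶ U.left) (h : W ⟶ E.left), h ≫ E.hom = g ≫ U.hom →
      ∀ w : W, ∃ (m : Fin n) (W' : W.Opens), w ∈ W' ∧ W'.ι ≫ h = W'.ι ≫ g ≫ t m)
    (hC : ∀ i j, i ≠ j → Distinct (t i) (t j)) :
    Nonempty ((EtDesc.repSh E).over U ≅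
      (CohProp.constSh S (ULift.{u + 1} (Fin n))).over U) := by
  haveI := theta_locInj E U n t ht hC
  haveI := theta_locSurj E U n t ht hB
  have hW : (S.smallEtaleTopology.over U).W (theta E U n t ht) :=
    GrothendieckTopology.W_of_isLocallyBijective _ _
  haveI : IsIso ((presheafToSheaf (S.smallEtaleTopology.over U) (Type (u + 1))).map
      (theta E U n t ht)) := (GrothendieckTopology.W_iff _ _).1 hW
  let e1 : (EtDesc.repSh E).over U ≅
      (presheafToSheaf (S.smallEtaleTopology.over U) (Type (u + 1))).obj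
        ((Over.forget U).op ⋙ rep E) :=
    (((Over.forget U).pushforwardContinuousSheafificationCompatibility (Type (u + 1))
      (S.smallEtaleTopology.over U) S.smallEtaleTopology).app (rep E)).symm
  let e2 : (CohProp.constSh S (ULift.{u + 1} (Fin n))).over U ≅
      (presheafToSheaf (S.smallEtaleTopology.over U) (Type (u + 1))).obj
        ((Over.forget U).op ⋙ (Functor.const S.Etaleᵒᵖ).obj (ULift.{u + 1} (Fin n))) :=
    (((Over.forget U).pushforwardContinuousSheafificationCompatibility (Type (u + 1))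
      (S.smallEtaleTopology.over U) S.smallEtaleTopology).app
        ((Functor.const S.Etaleᵒᵖ).obj (ULift.{u + 1} (Fin n)))).symm
  exact ⟨e1 ≪≫ (asIso ((presheafToSheaf (S.smallEtaleTopology.over U) (Type (u + 1))).map
    (theta E U n t ht))).symm ≪≫ e2.symm⟩

end Sheaf

theorem main (S X : Scheme.{u}) (f : X ⟶ S) [Etale f] [IsFinite f] :
    CohProp.IsFinLocConstSet (EtDesc.repSh (Scheme.Etale.mk f)) := by
  choose Y ψ n t hψ hs ht hd hB using exists_local_splitting f
  haveI := hψ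
  refine ⟨S, fun s => Scheme.Etale.mk (ψ s), ?_, fun s => ?_⟩
  · intro x
    obtain ⟨y, hy⟩ := hs x
    exact ⟨x, y, hy⟩
  · exact ⟨ULift.{u + 1} (Fin (n s)), inferInstance,
      over_iso (Scheme.Etale.mk f) (Scheme.Etale.mk (ψ s)) (n s) (t s) (ht s) (@hB s) (hd s)⟩

end H3.FEtConst
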