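import Mathlib

set_option autoImplicit false
universe u
open CategoryTheory CategoryTheory.Limits

namespace Groth.Agent.Lib.H3.FEtFF

/-- `e` is a basis of `N` over `R` via the ring map `φ` (elementary formulation). -/
def IsBasisVia {R N : Type*} [CommRing R] [CommRing N] {ι : Type*} [Fintype ι]
    (φ : R →+* N) (e : ι → N) : Prop :=
  ∀ s : N, ∃! c : ι → R, ∑ k, φ (c k) * e k = s

section conv
variable {R N : Type*} [CommRing R] [CommRing N] [Algebra R N] {ι : Type*} [Fintype ι]

theorem IsBasisVia.of_basis (b : Module.Basis ι R N) : IsBasisVia (algebraMap R N) (⇑b) := by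
  intro s
  refine ⟨fun k => b.repr s k, ?_, ?_⟩
  · show ∑ k, algebraMap R N (b.repr s k) * b k = s
    simp_rw [← Algebra.smul_def]
    exact b.sum_repr s
  · intro c hc
    have hc' : ∑ k, c k • b k = s := by
      simp_rw [Algebra.smul_def]; exact hc
    rw [← hc']
    funext k
    rw [b.repr_sum_self]

theorem IsBasisVia.exists_basis {e : ι → N} (h : IsBasisVia (algebraMap R N) e) :
    ∃ b : Module.Basis ι R N, ⇑b = e := by
  have hli : LinearIndependent R e := by
    rw [Fintype.linearIndependent_iff]
    intro g hg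
    obtain ⟨c, -, hu⟩ := h 0
    have h1 : g = c := hu g (by simp_rw [← Algebra.smul_def]; exact hg)
    have h2 : (fun _ => (0 : R)) = c := hu _ (by simp)
    intro i
    rw [h1, ← h2]
  have hsp : ⊤ ≤ Submodule.span R (Set.range e) := by
    intro s _
    obtain ⟨c, hc, -⟩ := h s
    rw [← hc]
    refine Submodule.sum_mem _ fun k _ => ?_
    rw [← Algebra.smul_def]
    exact Submodule.smul_mem _ _ (Submodule.subset_span ⟨k, rfl⟩)
  exact ⟨Module.Basis.mk hli hsp, Module.Basis.coe_mk hli hsp⟩

end conv

/-- Lemma A. -/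
theorem bijective_of_isBasisVia {R B R' B' : Type*} [CommRing R] [CommRing B] [CommRing R']
    [CommRing B'] {ι : Type*} [Fintype ι] (φ : R →+* B) (φ' : R' →+* B') (ψ : R →+* R')
    (ψ' : B →+* B') (hcomm : ∀ x, ψ' (φ x) = φ' (ψ x)) (hψ : Function.Bijective ψ)
    (e : ι → B) (he : IsBasisVia φ e) (he' : IsBasisVia φ' (fun k => ψ' (e k))) :
    Function.Bijective ψ' := by
  have key : ∀ c : ι → R, ψ' (∑ k, φ (c k) * e k) = ∑ k, φ' (ψ (c k)) * ψ' (e k) := by
    intro c
    rw [map_sum]
    refine Finset.sum_congr rfl fun k _ => ?_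
    rw [map_mul, hcomm]
  constructor
  · intro b b' hbb'
    obtain ⟨c, hc, -⟩ := he b
    obtain ⟨c', hc', -⟩ := he b'
    rw [← hc, ← hc', key, key] at hbb'
    obtain ⟨d, -, hd⟩ := he' (∑ k, φ' (ψ (c k)) * ψ' (e k))
    have h1 : (fun k => ψ (c k)) = d := hd _ rfl
    have h2 : (fun k => ψ (c' k)) = d := hd _ hbb'.symm
    have h3 : c = c' := by
      funext k
      exact hψ.1 (congrFun (h1.trans h2.symm) k)
    rw [← hc, ← hc', h3]
  · intro s
    obtain ⟨d, hd, -⟩ := he' s
    choose c hc using fun k => hψ.2 (d k)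
    refine ⟨∑ k, φ (c k) * e k, ?_⟩
    rw [key, ← hd]
    refine Finset.sum_congr rfl fun k _ => ?_
    rw [hc]

/-- Lemma BC: base change of an elementary basis along a pushout square of commutative rings. -/
theorem IsBasisVia.of_isPushout {R R' B B' : CommRingCat.{u}} {ψ : R ⟶ R'} {φ : R ⟶ B}
    {φ' : R' ⟶ B'} {ψ' : B ⟶ B'} (h : IsPushout ψ φ φ' ψ') {ι : Type*} [Fintype ι]
    (e : ι → B) (he : IsBasisVia φ.hom e) : IsBasisVia φ'.hom (fun k => ψ'.hom (e k)) := by
  algebraize [ψ.hom, φ.hom, φ'.hom, ψ'.hom, φ'.hom.comp ψ.hom]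
  have : IsScalarTower R B B' := .of_algebraMap_eq' <| congr($(h.1.1).hom)
  have hp : Algebra.IsPushout R R' B B' := CommRingCat.isPushout_iff_isPushout.mp h
  obtain ⟨b, hb⟩ := IsBasisVia.exists_basis (R := R) (N := B) he
  have ibc : IsBaseChange R' (IsScalarTower.toAlgHom R B B').toLinearMap := hp.out
  have h2 := IsBasisVia.of_basis (ibc.basis b)
  have h3 : (⇑(ibc.basis b) : ι → B') = fun k => ψ'.hom (e k) := by
    funext k
    rw [IsBaseChange.basis_apply, hb]
    rfl
  rw [h3] at h2
  exact h2

/-- ALG1: finite flat finitely presented algebras are locally free. -/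
theorem exists_free_away {R B : Type u} [CommRing R] [CommRing B] [Algebra R B]
    [Module.Finite R B] [Module.Flat R B] [Algebra.FinitePresentation R B]
    (p : Ideal R) [p.IsPrime] :
    ∃ r : R, r ∉ p ∧ Module.Free (Localization.Away r) (LocalizedModule.Away r B) := by
  have : Module.FinitePresentation R B :=
    Module.FinitePresentation.of_finite_of_finitePresentation R B
  have : Module.Free (Localization.AtPrime p) (LocalizedModule p.primeCompl B) :=
    Module.free_of_flat_of_isLocalRing
  obtain ⟨r, hr, hfree, -⟩ := Module.FinitePresentation.exists_free_localizedModule_powers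
    p.primeCompl (LocalizedModule.mkLinearMap p.primeCompl B) (Localization.AtPrime p)
  exact ⟨r, hr, hfree⟩

/-- ALG2: transport of freeness to arbitrary models of the localizations. -/
theorem exists_basis_of_away {R B Rr Br : Type u} [CommRing R] [CommRing B] [CommRing Rr]
    [CommRing Br] [Algebra R B] [Algebra R Rr] [Algebra Rr Br] [Algebra B Br] [Algebra R Br]
    [IsScalarTower R B Br] [IsScalarTower R Rr Br] (r : R)
    [IsLocalization.Away r Rr] [IsLocalization.Away (algebraMap R B r) Br]
    [Module.Finite R B] [Module.Free (Localization.Away r) (LocalizedModule.Away r B)] :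
    ∃ (ι : Type u) (_ : Fintype ι), Nonempty (Module.Basis ι Rr Br) := by
  classical
  let I := Module.Free.ChooseBasisIndex (Localization.Away r) (LocalizedModule.Away r B)
  let b' : Module.Basis I (Localization.Away r) (LocalizedModule.Away r B) :=
    Module.Free.chooseBasis _ _
  haveI : Module.Finite (Localization.Away r) (LocalizedModule.Away r B) := inferInstance
  haveI : Fintype I := Module.Free.ChooseBasisIndex.fintype _ _
  let g : B →ₗ[R] Br := (IsScalarTower.toAlgHom R B Br).toLinearMap
  haveI : IsLocalization (Algebra.algebraMapSubmonoid B (Submonoid.powers r)) Br := by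
    have : Algebra.algebraMapSubmonoid B (Submonoid.powers r) =
        Submonoid.powers (algebraMap R B r) := Submonoid.map_powers _ _
    rw [this]
    infer_instance
  haveI : IsLocalizedModule (Submonoid.powers r) g :=
    isLocalizedModule_iff_isLocalization.mpr inferInstance
  let E1 : LocalizedModule.Away r B ≃ₗ[R] Br := IsLocalizedModule.iso (Submonoid.powers r) g
  let E2 : LocalizedModule.Away r B ≃ₗ[R] (I →₀ Localization.Away r) :=
    b'.repr.restrictScalars R
  let E3 : (I →₀ Localization.Away r) ≃ₗ[R] (I →₀ Rr) :=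
    Finsupp.mapRange.linearEquiv
      (IsLocalization.algEquiv (Submonoid.powers r) (Localization.Away r) Rr).toLinearEquiv
  let E : Br ≃ₗ[R] (I →₀ Rr) := E1.symm ≪≫ₗ E2 ≪≫ₗ E3
  let E' : Br ≃ₗ[Rr] (I →₀ Rr) := E.extendScalarsOfIsLocalization (Submonoid.powers r) Rr
  exact ⟨I, inferInstance, ⟨Module.Basis.ofRepr E'⟩⟩

end Groth.Agent.Lib.H3.FEtFF
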