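import Groth.Agent.Lib.Helper3.FEtFF1

set_option autoImplicit false
universe u
open CategoryTheory CategoryTheory.Limits AlgebraicGeometry TopologicalSpace Opposite

namespace Groth.Agent.Lib.H3.FEtFF

section LocalGlobal

variable {X : TopCat.{u}} {F N : TopCat.Presheaf CommRingCat.{u} X}

/-- restriction -/
abbrev rs (G : TopCat.Presheaf CommRingCat.{u} X) {V W : Opens X} (h : W ≤ V) :
    G.obj (op V) →+* G.obj (op W) := (G.map (homOfLE h).op).hom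

theorem rs_rs (G : TopCat.Presheaf CommRingCat.{u} X) {V W W' : Opens X} (h : W ≤ V)
    (h' : W' ≤ W) (x : G.obj (op V)) : rs G h' (rs G h x) = rs G (h'.trans h) x := by
  show (G.map (homOfLE h).op ≫ G.map (homOfLE h').op).hom x = _
  rw [← G.map_comp]; rfl

theorem rs_self (G : TopCat.Presheaf CommRingCat.{u} X) {V : Opens X} (h : V ≤ V)
    (x : G.obj (op V)) : rs G h x = x := by
  show (G.map (homOfLE h).op).hom x = x
  have : (homOfLE h).op = 𝟙 (op V) := Subsingleton.elim _ _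
  rw [this, G.map_id]; rfl

theorem rs_nat (γ : F ⟶ N) {V W : Opens X} (h : W ≤ V) (c : F.obj (op V)) :
    rs N h ((γ.app (op V)).hom c) = (γ.app (op W)).hom (rs F h c) := by
  have := γ.naturality (homOfLE h).op
  exact (congrArg (fun φ => φ.hom c) this).symm

theorem sec_ext (G : TopCat.Presheaf CommRingCat.{u} X) (hG : G.IsSheaf) (P : Opens X → Prop)
    (V : Opens X) (hP : ∀ x ∈ V, ∃ W, P W ∧ x ∈ W ∧ W ≤ V) (s t : G.obj (op V))
    (h : ∀ (W : Opens X) (_ : P W) (hWV : W ≤ V), rs G hWV s = rs G hWV t) : s = t := by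
  let J : Type u := {W : Opens X // P W ∧ W ≤ V}
  refine TopCat.Sheaf.eq_of_locally_eq' ⟨G, hG⟩ (fun j : J => j.1) V (fun j => homOfLE j.2.2) ?_
    s t (fun j => h j.1 j.2.1 j.2.2)
  intro x hx
  obtain ⟨W, hW, hxW, hWV⟩ := hP x hx
  exact Opens.mem_iSup.mpr ⟨⟨W, hW, hWV⟩, hxW⟩

/-- Lemma G: an elementary basis can be checked locally on a basis of opens. -/
theorem isBasisVia_of_local (hF : F.IsSheaf) (hN : N.IsSheaf) (γ : F ⟶ N) (P : Opens X → Prop)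
    (UX : Opens X)
    (hP : ∀ (V : Opens X), V ≤ UX → ∀ x ∈ V, ∃ W, P W ∧ x ∈ W ∧ W ≤ V)
    {ι : Type*} [Fintype ι] (ε : ι → N.obj (op UX))
    (h : ∀ (W : Opens X) (_ : P W) (hWU : W ≤ UX),
      IsBasisVia (γ.app (op W)).hom (fun k => rs N hWU (ε k))) :
    IsBasisVia (γ.app (op UX)).hom ε := by
  classical
  have hΦ : ∀ (V W : Opens X) (hV : V ≤ UX) (hWV : W ≤ V) (c : ι → F.obj (op V)),
      rs N hWV (∑ k, (γ.app (op V)).hom (c k) * rs N hV (ε k)) =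
        ∑ k, (γ.app (op W)).hom (rs F hWV (c k)) * rs N (hWV.trans hV) (ε k) := by
    intro V W hV hWV c
    rw [map_sum]
    refine Finset.sum_congr rfl fun k _ => ?_
    rw [map_mul, rs_nat, rs_rs]
  have hΦ' : ∀ (W : Opens X) (hWU : W ≤ UX) (c : ι → F.obj (op UX)),
      rs N hWU (∑ k, (γ.app (op UX)).hom (c k) * ε k) =
        ∑ k, (γ.app (op W)).hom (rs F hWU (c k)) * rs N hWU (ε k) := by
    intro W hWU c
    have := hΦ UX W le_rfl hWU c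
    simp only [rs_self] at this
    exact this
  intro s
  have hloc : ∀ (W : Opens X) (_ : P W) (hWU : W ≤ UX), ∃! c : ι → F.obj (op W),
      ∑ k, (γ.app (op W)).hom (c k) * rs N hWU (ε k) = rs N hWU s :=
    fun W hW hWU => h W hW hWU (rs N hWU s)
  let J : Type u := {W : Opens X // P W ∧ W ≤ UX}
  choose cW hcW using fun j : J => (hloc j.1 j.2.1 j.2.2).exists
  have hK : ∀ (j j' : J) (hjj : j'.1 ≤ j.1) (k : ι), rs F hjj (cW j k) = cW j' k := by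
    intro j j' hjj k
    have h1 : ∑ k, (γ.app (op j'.1)).hom (rs F hjj (cW j k)) * rs N j'.2.2 (ε k) =
        rs N j'.2.2 s := by
      have := hΦ j.1 j'.1 j.2.2 hjj (cW j)
      rw [hcW j, rs_rs] at this
      exact this.symm
    exact congrFun ((hloc j'.1 j'.2.1 j'.2.2).unique h1 (hcW j')) k
  have hglue : ∀ k : ι, ∃ c : F.obj (op UX), ∀ j : J, rs F j.2.2 c = cW j k := by
    intro k
    have hcov : UX ≤ ⨆ j : J, j.1 := by
      intro x hx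
      obtain ⟨W, hW, hxW, hWV⟩ := hP UX le_rfl x hx
      exact Opens.mem_iSup.mpr ⟨⟨W, hW, hWV⟩, hxW⟩
    have hcompat : TopCat.Presheaf.IsCompatible F (fun j : J => j.1) (fun j => cW j k) := by
      intro j₁ j₂
      refine sec_ext F hF P (j₁.1 ⊓ j₂.1) (hP _ (inf_le_left.trans j₁.2.2)) _ _ ?_
      intro W hW hWV
      show rs F hWV (rs F inf_le_left (cW j₁ k)) = rs F hWV (rs F inf_le_right (cW j₂ k))
      rw [rs_rs, rs_rs]
      have hWU : W ≤ UX := (hWV.trans inf_le_left).trans j₁.2.2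
      rw [hK j₁ ⟨W, hW, hWU⟩ (hWV.trans inf_le_left) k,
        hK j₂ ⟨W, hW, hWU⟩ (hWV.trans inf_le_right) k]
    obtain ⟨c, hc, -⟩ := TopCat.Sheaf.existsUnique_gluing' ⟨F, hF⟩ (fun j : J => j.1) UX
      (fun j => homOfLE j.2.2) hcov (fun j => cW j k) hcompat
    exact ⟨c, hc⟩
  choose c hc using hglue
  refine ⟨c, ?_, ?_⟩
  · refine sec_ext N hN P UX (hP UX le_rfl) _ _ ?_
    intro W hW hWU
    rw [hΦ' W hWU c, ← hcW ⟨W, hW, hWU⟩]
    refine Finset.sum_congr rfl fun k _ => ?_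
    rw [hc k ⟨W, hW, hWU⟩]
  · intro c' hc'
    funext k
    refine sec_ext F hF P UX (hP UX le_rfl) _ _ ?_
    intro W hW hWU
    rw [hc k ⟨W, hW, hWU⟩]
    have h1 : ∑ k, (γ.app (op W)).hom (rs F hWU (c' k)) * rs N hWU (ε k) = rs N hWU s := by
      rw [← hΦ' W hWU c', hc']
    exact congrFun ((hloc W hW hWU).unique h1 (hcW ⟨W, hW, hWU⟩)) k

end LocalGlobal

section Geometry

variable {X Y S T : Scheme.{u}}

theorem appLE_congr_hom {A B : Scheme.{u}} {m m' : A ⟶ B} (hm : m = m') (U : B.Opens)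
    (V : A.Opens) (e1 : V ≤ m ⁻¹ᵁ U) (e2 : V ≤ m' ⁻¹ᵁ U) : m.appLE U V e1 = m'.appLE U V e2 := by
  subst hm; rfl

theorem bijective_app_of_appLE {A B : Scheme.{u}} (a : A ⟶ B) (U : B.Opens) (V : A.Opens)
    (hV : V = a ⁻¹ᵁ U) (e : V ≤ a ⁻¹ᵁ U) (hb : Function.Bijective (a.appLE U V e).hom) :
    Function.Bijective (a.app U).hom := by
  subst hV
  rwa [Scheme.Hom.appLE_eq_app] at hb

/-- (C): the key computation. -/
theorem app_bijective_of_isBasisVia {π : T ⟶ S} {g : Y ⟶ X} {f : X ⟶ S} {a : Y ⟶ T}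
    (H : IsPullback g a f π) [IsAffineHom π]
    (hf : ∀ U : S.Opens, Function.Bijective (f.app U).hom) (US : S.Opens)
    (hUS : IsAffineOpen US) {ι : Type*} [Fintype ι] (e : ι → Γ(T, π ⁻¹ᵁ US))
    (he : IsBasisVia (π.app US).hom e) : Function.Bijective (a.app (π ⁻¹ᵁ US)).hom := by
  have hUT : IsAffineOpen (π ⁻¹ᵁ US) := hUS.preimage π
  have hopen : g ⁻¹ᵁ f ⁻¹ᵁ US = a ⁻¹ᵁ π ⁻¹ᵁ US := by
    show (g ≫ f) ⁻¹ᵁ US = (a ≫ π) ⁻¹ᵁ US
    rw [H.w]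
  have hle : g ⁻¹ᵁ f ⁻¹ᵁ US ≤ a ⁻¹ᵁ π ⁻¹ᵁ US := le_of_eq hopen
  refine bijective_app_of_appLE a (π ⁻¹ᵁ US) (g ⁻¹ᵁ f ⁻¹ᵁ US) hopen hle ?_
  let ε : ι → Γ(Y, g ⁻¹ᵁ f ⁻¹ᵁ US) := fun k => (a.appLE (π ⁻¹ᵁ US) (g ⁻¹ᵁ f ⁻¹ᵁ US) hle).hom (e k)
  have hε : IsBasisVia (g.app (f ⁻¹ᵁ US)).hom ε := by
    refine isBasisVia_of_local (X := X.carrier) (F := X.presheaf) (N := g.base _* Y.presheaf)
      X.sheaf.property (TopCat.Sheaf.pushforward_sheaf_of_sheaf _ Y.sheaf.property) g.c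
      (fun W => IsAffineOpen W) (f ⁻¹ᵁ US) ?_ ε ?_
    · intro V _ x hx
      obtain ⟨W, hW, hxW, hWV⟩ := Opens.isBasis_iff_nbhd.mp (X.isBasis_affineOpens) hx
      exact ⟨W, hW, hxW, hWV⟩
    · intro W hW hWU
      have hgW : g ⁻¹ᵁ W ≤ a ⁻¹ᵁ π ⁻¹ᵁ US := (g.preimage_mono hWU).trans hle
      have hUY : g ⁻¹ᵁ W = g ⁻¹ᵁ W ⊓ a ⁻¹ᵁ π ⁻¹ᵁ US := (inf_eq_left.mpr hgW).symm
      have hiso := isIso_pushoutSection_of_isAffineOpen H (US := US) (UT := π ⁻¹ᵁ US) (UX := W)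
        le_rfl hWU hUY hUS hUT hW
      have hpo := (isIso_pushoutSection_iff H (US := US) (UT := π ⁻¹ᵁ US) (UX := W)
        le_rfl hWU hUY).mp hiso
      have he' : IsBasisVia (π.appLE US (π ⁻¹ᵁ US) le_rfl).hom e := by
        rw [Scheme.Hom.appLE_eq_app]; exact he
      have h1 := IsBasisVia.of_isPushout hpo e he'
      have e1 : g.appLE W (g ⁻¹ᵁ W) le_rfl = g.c.app (op W) :=
        Scheme.Hom.appLE_eq_app g
      have e2 : ∀ k, (a.appLE (π ⁻¹ᵁ US) (g ⁻¹ᵁ W) hgW).hom (e k) =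
          rs (g.base _* Y.presheaf) hWU (ε k) := by
        intro k
        exact (congrArg (fun φ => φ.hom (e k)) (Scheme.Hom.appLE_map a hle
          (homOfLE (g.preimage_mono hWU)).op)).symm
      rw [e1] at h1
      simp only [e2] at h1
      exact h1
  refine bijective_of_isBasisVia (π.app US).hom (g.app (f ⁻¹ᵁ US)).hom (f.app US).hom
    (a.appLE (π ⁻¹ᵁ US) (g ⁻¹ᵁ f ⁻¹ᵁ US) hle).hom ?_ (hf US) e he hε
  intro x
  have h1 : π.app US ≫ a.appLE (π ⁻¹ᵁ US) (g ⁻¹ᵁ f ⁻¹ᵁ US) hle =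
      f.app US ≫ g.app (f ⁻¹ᵁ US) := by
    rw [Scheme.Hom.app_eq_appLE, Scheme.Hom.app_eq_appLE, Scheme.Hom.app_eq_appLE,
      Scheme.Hom.appLE_comp_appLE, Scheme.Hom.appLE_comp_appLE]
    exact appLE_congr_hom H.w.symm _ _ _ _
  exact congrArg (fun φ => φ.hom x) h1

/-- (B): existence of local bases for finite flat finitely presented morphisms. -/
theorem exists_basis_nbhd (π : T ⟶ S) [IsFinite π] [Flat π] [LocallyOfFinitePresentation π]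
    (V : S.Opens) (x : S) (hx : x ∈ V) :
    ∃ (U : S.Opens), IsAffineOpen U ∧ x ∈ U ∧ U ≤ V ∧
      ∃ (ι : Type u) (_ : Fintype ι) (e : ι → Γ(T, π ⁻¹ᵁ U)), IsBasisVia (π.app U).hom e := by
  obtain ⟨U₀, hU₀, hxU₀, hU₀V⟩ := Opens.isBasis_iff_nbhd.mp (S.isBasis_affineOpens) hx
  replace hU₀ : IsAffineOpen U₀ := hU₀
  have hT₀ : IsAffineOpen (π ⁻¹ᵁ U₀) := hU₀.preimage π
  have hfin : (π.app U₀).hom.Finite := IsFinite.finite_app π U₀ hU₀
  have hflat : (π.app U₀).hom.Flat := by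
    rw [Scheme.Hom.app_eq_appLE]
    exact HasRingHomProperty.appLE @Flat π inferInstance ⟨U₀, hU₀⟩ ⟨_, hT₀⟩ le_rfl
  have hfp : (π.app U₀).hom.FinitePresentation := by
    rw [Scheme.Hom.app_eq_appLE]
    exact HasRingHomProperty.appLE @LocallyOfFinitePresentation π inferInstance ⟨U₀, hU₀⟩
      ⟨_, hT₀⟩ le_rfl
  letI algRB : Algebra Γ(S, U₀) Γ(T, π ⁻¹ᵁ U₀) := (π.app U₀).hom.toAlgebra
  haveI : Module.Finite Γ(S, U₀) Γ(T, π ⁻¹ᵁ U₀) := hfin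
  haveI : Module.Flat Γ(S, U₀) Γ(T, π ⁻¹ᵁ U₀) := hflat
  haveI : Algebra.FinitePresentation Γ(S, U₀) Γ(T, π ⁻¹ᵁ U₀) := hfp
  let p := hU₀.primeIdealOf ⟨x, hxU₀⟩
  obtain ⟨r, hr, hfree⟩ := exists_free_away (R := Γ(S, U₀)) (B := Γ(T, π ⁻¹ᵁ U₀)) p.asIdeal
  refine ⟨S.basicOpen r, hU₀.basicOpen r, ?_, (S.basicOpen_le r).trans hU₀V, ?_⟩
  · have h1 := hU₀.fromSpec_primeIdealOf ⟨x, hxU₀⟩
    have h2 : p ∈ PrimeSpectrum.basicOpen r := hr
    rw [← hU₀.fromSpec_preimage_basicOpen] at h2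
    have h3 : hU₀.fromSpec p ∈ S.basicOpen r := h2
    rw [h1] at h3
    exact h3
  · haveI := hfree
    haveI : IsLocalization.Away r Γ(S, S.basicOpen r) := hU₀.isLocalization_basicOpen r
    let iT : π ⁻¹ᵁ S.basicOpen r ⟶ π ⁻¹ᵁ U₀ := homOfLE (π.preimage_mono (S.basicOpen_le r))
    letI algBBr : Algebra Γ(T, π ⁻¹ᵁ U₀) Γ(T, π ⁻¹ᵁ S.basicOpen r) :=
      (T.presheaf.map iT.op).hom.toAlgebra
    haveI : IsLocalization.Away (algebraMap Γ(S, U₀) Γ(T, π ⁻¹ᵁ U₀) r)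
        Γ(T, π ⁻¹ᵁ S.basicOpen r) :=
      hT₀.isLocalization_of_eq_basicOpen ((π.app U₀).hom r) iT (Scheme.preimage_basicOpen π r)
    letI algRrBr : Algebra Γ(S, S.basicOpen r) Γ(T, π ⁻¹ᵁ S.basicOpen r) :=
      (π.app (S.basicOpen r)).hom.toAlgebra
    letI algRBr : Algebra Γ(S, U₀) Γ(T, π ⁻¹ᵁ S.basicOpen r) :=
      ((π.app (S.basicOpen r)).hom.comp (algebraMap Γ(S, U₀) Γ(S, S.basicOpen r))).toAlgebra
    haveI : IsScalarTower Γ(S, U₀) Γ(S, S.basicOpen r) Γ(T, π ⁻¹ᵁ S.basicOpen r) :=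
      .of_algebraMap_eq' rfl
    haveI : IsScalarTower Γ(S, U₀) Γ(T, π ⁻¹ᵁ U₀) Γ(T, π ⁻¹ᵁ S.basicOpen r) := by
      refine .of_algebraMap_eq' ?_
      have := π.naturality (homOfLE (S.basicOpen_le r)).op
      exact congrArg CommRingCat.Hom.hom this
    obtain ⟨ι, hι, ⟨b⟩⟩ := exists_basis_of_away (R := Γ(S, U₀)) (B := Γ(T, π ⁻¹ᵁ U₀))
      (Rr := Γ(S, S.basicOpen r)) (Br := Γ(T, π ⁻¹ᵁ S.basicOpen r)) r
    exact ⟨ι, hι, ⇑b, IsBasisVia.of_basis b⟩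

end Geometry

end Groth.Agent.Lib.H3.FEtFF
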