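import Mathlib
import Groth.Prelude
import Groth.Agent.Lib.Helper3.FEtGalois
import Groth.Agent.Lib.Helper8.PiOneField

/-!
# Finite étale covers of a field and continuous Galois sets
-/

set_option autoImplicit false
universe u
open CategoryTheory CategoryTheory.Limits AlgebraicGeometry TopologicalSpace Opposite Pi1

namespace H3.FEtGalField

open Groth.Agent.Lib.Helper8.PiOneField H3.FEtGalPt H3.FEtGalois H3.FEtFib

variable (K : Type u) [Field K]

/-- the fibre functor with values in finite sets -/
noncomputable abbrev FK : FEt.Cat (Spec (CommRingCat.of K)) ⥤ FintypeCat.{u} := fibFin (ξ K)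

/-- the action of a Galois automorphism on the fibre functor -/
noncomputable def psiHom (σ : AlgebraicClosure K ≃ₐ[K] AlgebraicClosure K) : FK K ⟶ FK K where
  app Y := ObjectProperty.homMk ((actHom K σ).app Y)
  naturality Y Z φ := by
    apply ObjectProperty.hom_ext
    exact (actHom K σ).naturality φ

theorem psiHom_app_val (σ : AlgebraicClosure K ≃ₐ[K] AlgebraicClosure K)
    (Y : FEt.Cat (Spec (CommRingCat.of K))) (s : FEt.fiberObj (ξ K) Y) :
    ((psiHom K σ).app Y s : FEt.fiberObj (ξ K) Y).1 =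
      Spec.map (CommRingCat.ofHom (σ : AlgebraicClosure K →+* AlgebraicClosure K)) ≫ s.1 := rfl

theorem psiHom_comp (σ τ : AlgebraicClosure K ≃ₐ[K] AlgebraicClosure K) :
    psiHom K σ ≫ psiHom K τ = psiHom K (τ * σ) := by
  ext Y : 2
  apply ObjectProperty.hom_ext
  exact congrArg (fun α => α.app Y) (actHom_comp K σ τ)

theorem psiHom_one : psiHom K 1 = 𝟙 _ := by
  ext Y : 2
  apply ObjectProperty.hom_ext
  exact congrArg (fun α => α.app Y) (actHom_one K)

/-- the action as an automorphism -/
noncomputable def psiIso (σ : AlgebraicClosure K ≃ₐ[K] AlgebraicClosure K) : Aut (FK K) where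
  hom := psiHom K σ
  inv := psiHom K σ⁻¹
  hom_inv_id := by rw [psiHom_comp, inv_mul_cancel, psiHom_one]
  inv_hom_id := by rw [psiHom_comp, mul_inv_cancel, psiHom_one]

/-- the comparison homomorphism -/
noncomputable def Ψ : (AlgebraicClosure K ≃ₐ[K] AlgebraicClosure K) →* Aut (FK K) where
  toFun := psiIso K
  map_one' := by
    apply Iso.ext
    exact psiHom_one K
  map_mul' σ τ := by
    apply Iso.ext
    change psiHom K (σ * τ) = psiHom K τ ≫ psiHom K σ
    rw [psiHom_comp]

theorem Ψ_injective : Function.Injective (Ψ K) := by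
  intro σ τ h
  apply Φ_injective K
  apply Iso.ext
  have h1 : psiHom K σ = psiHom K τ := congrArg Iso.hom h
  ext Y s
  have h2 := congrArg (fun α => (α.app Y).hom) h1
  exact ConcreteCategory.congr_hom h2 s


theorem Ψ_surjective : Function.Surjective (Ψ K) := by
  intro τ
  obtain ⟨τ', hτ'⟩ : ∃ τ' : Aut (FEt.fiber (ξ K)), τ' =
      ((Functor.whiskeringRight _ _ _).obj FintypeCat.incl).mapIso τ := ⟨_, rfl⟩
  obtain ⟨σ, hσ⟩ := Φ_surjective K τ'
  refine ⟨σ, ?_⟩
  apply Iso.ext
  ext Y : 2
  apply ObjectProperty.hom_ext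
  have h := congrArg (fun a => a.hom.app Y) hσ
  rw [hτ'] at h
  exact h

/-- the comparison isomorphism of groups -/
noncomputable def ΨEquiv : (AlgebraicClosure K ≃ₐ[K] AlgebraicClosure K) ≃* Aut (FK K) :=
  MulEquiv.ofBijective (Ψ K) ⟨Ψ_injective K, Ψ_surjective K⟩


theorem actHom_fix (σ : AlgebraicClosure K ≃ₐ[K] AlgebraicClosure K) (i : FS K)
    (hσ : ∀ x ∈ i.L, σ x = x) : (actHom K σ).app (YL K i) (ιL K i) = ιL K i := by
  apply Subtype.ext
  rw [actHom_app_val]
  change Spec.map _ ≫ Spec.map _ = Spec.map _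
  rw [← Spec.map_comp]
  congr 1
  apply CommRingCat.hom_ext
  ext ⟨x, hx⟩
  exact hσ x hx

theorem fix_of_actHom (σ : AlgebraicClosure K ≃ₐ[K] AlgebraicClosure K) (i : FS K)
    (h : (actHom K σ).app (YL K i) (ιL K i) = ιL K i) : ∀ x ∈ i.L, σ x = x := by
  intro x hx
  have h3 := congrArg Subtype.val h
  rw [actHom_app_val] at h3
  change Spec.map _ ≫ Spec.map _ = Spec.map _ at h3
  rw [← Spec.map_comp] at h3
  have h4 := Spec.map_injective h3
  have h5 := congrArg (fun h => h.hom ⟨x, hx⟩) h4
  exact h5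

theorem actHom_fix_of_factor (σ : AlgebraicClosure K ≃ₐ[K] AlgebraicClosure K)
    (Y : FEt.Cat (Spec (CommRingCat.of K))) (i : FS K) (φ : YL K i ⟶ Y)
    (hσ : ∀ x ∈ i.L, σ x = x) :
    (actHom K σ).app Y ((FEt.fiber (ξ K)).map φ (ιL K i)) = (FEt.fiber (ξ K)).map φ (ιL K i) := by
  have e1 := NatTrans.naturality_apply (actHom K σ) φ (ιL K i)
  exact e1.trans (congrArg _ (actHom_fix K σ i hσ))

theorem fixes_of_fixes_sep (σ : AlgebraicClosure K ≃ₐ[K] AlgebraicClosure K)
    (E : IntermediateField K (AlgebraicClosure K))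
    (h : ∀ x ∈ E ⊓ separableClosure K (AlgebraicClosure K), σ x = x) : ∀ x ∈ E, σ x = x := by
  intro x hx
  obtain ⟨q, hq⟩ := ExpChar.exists K
  haveI : ExpChar (separableClosure K (AlgebraicClosure K)) q :=
    expChar_of_injective_algebraMap (algebraMap K _).injective q
  haveI : ExpChar (AlgebraicClosure K) q :=
    expChar_of_injective_algebraMap (algebraMap K _).injective q
  obtain ⟨n, y, hy⟩ := (isPurelyInseparable_iff_pow_mem
    (separableClosure K (AlgebraicClosure K)) q).mp
    (separableClosure.isPurelyInseparable K (AlgebraicClosure K)) x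
  have hmem : x ^ q ^ n ∈ E ⊓ separableClosure K (AlgebraicClosure K) :=
    ⟨pow_mem hx _, by rw [← hy]; exact y.2⟩
  have h1 := h _ hmem
  rw [map_pow] at h1
  exact iterateFrobenius_inj (AlgebraicClosure K) q n h1

/-- the finite separable part of a finite subextension -/
noncomputable def sepPart (E : IntermediateField K (AlgebraicClosure K))
    [FiniteDimensional K E] : FS K :=
  ⟨E ⊓ separableClosure K (AlgebraicClosure K),
    FiniteDimensional.of_injective
      (IntermediateField.inclusion (inf_le_left :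
        E ⊓ separableClosure K (AlgebraicClosure K) ≤ E)).toLinearMap
      (IntermediateField.inclusion_injective (inf_le_left :
        E ⊓ separableClosure K (AlgebraicClosure K) ≤ E)),
    (le_separableClosure_iff K (AlgebraicClosure K) _).mp inf_le_right⟩


theorem galoisCategory : GaloisCategory (FEt.Cat (Spec (CommRingCat.of K))) :=
  { H3.FEtG3.preGalois (Spec (CommRingCat.of K)) with
    hasFiberFunctor := ⟨FK K, ⟨fiberFunctor (ξ K)⟩⟩ }

attribute [local instance] galoisCategory

noncomputable local instance : PreGaloisCategory.FiberFunctor (FK K) := fiberFunctor (ξ K)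

open PreGaloisCategory

/-- a point of the fibre as an element of the finite set -/
def toPt (Y : FEt.Cat (Spec (CommRingCat.of K))) (s : FEt.fiberObj (ξ K) Y) : (FK K).obj Y := s

theorem Ψ_smul (σ : AlgebraicClosure K ≃ₐ[K] AlgebraicClosure K)
    (Y : FEt.Cat (Spec (CommRingCat.of K))) (s : FEt.fiberObj (ξ K) Y) :
    Ψ K σ • toPt K Y s = toPt K Y ((actHom K σ).app Y s) := rfl

theorem continuous_Ψ : Continuous (Ψ K) := by
  apply continuous_of_continuousAt_one
  rw [ContinuousAt, map_one]
  rw [(nhds_one_has_basis_stabilizers (FK K)).tendsto_right_iff]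
  intro X _
  rw [Filter.Eventually, krullTopology_mem_nhds_one_iff]
  obtain ⟨i, φ, hφ⟩ := exists_factor K X.obj X.pt
  refine ⟨i.L, inferInstance, fun σ hσ => ?_⟩
  have hσ' : ∀ x ∈ i.L, σ x = x := fun x hx => hσ ⟨x, hx⟩
  show Ψ K σ ∈ MulAction.stabilizer _ X.pt
  rw [MulAction.mem_stabilizer_iff]
  have h1 := actHom_fix_of_factor K σ X.obj i φ hσ'
  rw [hφ] at h1
  exact h1

theorem continuous_Ψ_symm : Continuous (ΨEquiv K).symm := by
  apply continuous_of_continuousAt_one (ΨEquiv K).symm.toMonoidHom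
  rw [ContinuousAt]
  show Filter.Tendsto (ΨEquiv K).symm (nhds 1) (nhds ((ΨEquiv K).symm 1))
  rw [map_one]
  intro A hA
  obtain ⟨E, hE, hEA⟩ := (krullTopology_mem_nhds_one_iff K (AlgebraicClosure K) A).mp hA
  rw [Filter.mem_map]
  have hopen : IsOpen (MulAction.stabilizer (Aut (FK K))
      (toPt K (YL K (sepPart K E)) (ιL K (sepPart K E))) : Set (Aut (FK K))) :=
    stabilizer_isOpen (Aut (FK K)) _
  refine Filter.mem_of_superset (hopen.mem_nhds (one_mem _)) ?_
  intro τ hτ
  show (ΨEquiv K).symm τ ∈ A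
  apply hEA
  obtain ⟨σ, rfl⟩ := (ΨEquiv K).surjective τ
  rw [MulEquiv.symm_apply_apply]
  have h1 : (actHom K σ).app (YL K (sepPart K E)) (ιL K (sepPart K E)) = ιL K (sepPart K E) :=
    MulAction.mem_stabilizer_iff.mp hτ
  have h2 := fix_of_actHom K σ (sepPart K E) h1
  have h3 := fixes_of_fixes_sep K σ E h2
  intro x
  exact h3 x.1 x.2

/-- the comparison is an isomorphism of topological groups -/
noncomputable def ΨHomeo : (AlgebraicClosure K ≃ₐ[K] AlgebraicClosure K) ≃ₜ* Aut (FK K) :=
  { ΨEquiv K with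
    continuous_toFun := continuous_Ψ K
    continuous_invFun := continuous_Ψ_symm K }


open scoped FintypeCatDiscrete in
theorem main : Nonempty (FEt.Cat (Spec (CommRingCat.of K)) ≌
    ContAction FintypeCat.{u} (Field.absoluteGaloisGroup K)) := by
  haveI : (functorToContAction (FK K)).IsEquivalence := inferInstance
  exact ⟨(functorToContAction (FK K)).asEquivalence.trans
    (ContAction.resEquiv FintypeCat (ΨHomeo K))⟩

end H3.FEtGalField
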