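import Groth.Agent.Lib.Helper3.QCExtend
import Groth.Agent.Lib.Helper3.IdealMod
import Groth.Agent.Lib.Helper3.GrModComap

/-!
# Extension of finitely presented modules: preliminaries
-/

set_option autoImplicit false
universe u
open CategoryTheory CategoryTheory.Limits AlgebraicGeometry TopologicalSpace Opposite
open Scheme.Modules

namespace Groth.Agent.Lib.Helper3.FPExt

open QCSec QCExtend

section Alg

/-- finite presentation is transported along a ring isomorphism and a compatible additive
isomorphism of modules -/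
theorem fp_of_semilinear {R R' M M' : Type u} [CommRing R] [CommRing R'] [AddCommGroup M]
    [Module R M] [AddCommGroup M'] [Module R' M'] (σ : R ≃+* R') (e : M ≃+ M')
    (he : ∀ (r : R) (m : M), e (r • m) = σ r • e m) [Module.FinitePresentation R M] :
    Module.FinitePresentation R' M' := by
  letI : Module R M' := Module.compHom M' (σ : R →+* R')
  have hsm : ∀ (r : R) (m' : M'), r • m' = σ r • m' := fun _ _ => rfl
  let eL : M ≃ₗ[R] M' := { e with map_smul' := fun r m => he r m }
  haveI : Module.FinitePresentation R M' := Module.FinitePresentation.of_equiv eL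
  letI : Algebra R' R := (σ.symm : R' →+* R).toAlgebra
  have halg : ∀ (r' : R') (r : R), r' • r = σ.symm r' * r := fun _ _ => rfl
  haveI : IsScalarTower R' R M' := ⟨fun r' r m => by
    rw [halg, hsm, hsm, map_mul, RingEquiv.apply_symm_apply, mul_smul]⟩
  let e2 : R' ≃ₗ[R'] R :=
    { σ.symm.toAddEquiv with
      map_smul' := fun a b => by
        change σ.symm (a * b) = a • σ.symm b
        rw [halg, map_mul] }
  haveI : Module.FinitePresentation R' R := Module.FinitePresentation.of_equiv e2
  exact Module.FinitePresentation.trans R' M' R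

end Alg

variable {X : Scheme.{u}}

section Conv

theorem bijective_app_of_isIso_restrict {M N : X.Modules} (φ : M ⟶ N)
    (U : X.Opens) [IsIso ((restrictFunctor U.ι).map φ)] {V : X.Opens} (hV : V ≤ U) :
    Function.Bijective (φ.app V) := by
  refine ⟨?_, IdealMod.surjective_app_of_isIso_restrict φ U hV⟩
  have hiso : IsIso (((restrictFunctor U.ι).map φ).app (U.ι ⁻¹ᵁ V)) :=
    Scheme.Modules.Hom.isIso_iff_isIso_app.mp inferInstance _
  have hbij := (ConcreteCategory.isIso_iff_bijective _).mp hiso
  have hVe : U.ι ''ᵁ (U.ι ⁻¹ᵁ V) = V := InvGen.ι_image_preimage_of_le hV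
  intro a b hab
  have h1 : φ.app (U.ι ''ᵁ (U.ι ⁻¹ᵁ V)) (res M (le_of_eq hVe) a) =
      φ.app (U.ι ''ᵁ (U.ι ⁻¹ᵁ V)) (res M (le_of_eq hVe) b) := by
    rw [QCExact.app_res', QCExact.app_res', hab]
  have h2 : res M (le_of_eq hVe) a = res M (le_of_eq hVe) b := hbij.1 h1
  have h3 := congrArg (res M (le_of_eq hVe.symm)) h2
  rwa [res_res, res_res, res_self, res_self] at h3

theorem isIso_restrict_of_bijective {M N : X.Modules} (φ : M ⟶ N) (U : X.Opens)
    (h : ∀ O : X.Opens, O ≤ U → Function.Bijective (φ.app O)) :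
    IsIso ((restrictFunctor U.ι).map φ) := by
  rw [Scheme.Modules.Hom.isIso_iff_isIso_app]
  intro V'
  exact (ConcreteCategory.isIso_iff_bijective
    (((restrictFunctor U.ι).map φ).app V')).mpr (h (U.ι ''ᵁ V') (U.ι_image_le V'))

theorem isIso_restrict_of_le {M N : X.Modules} (φ : M ⟶ N) {U W : X.Opens} (hUW : U ≤ W)
    [IsIso ((restrictFunctor W.ι).map φ)] : IsIso ((restrictFunctor U.ι).map φ) :=
  isIso_restrict_of_bijective φ U
    (fun _ hO => bijective_app_of_isIso_restrict φ W (hO.trans hUW))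

end Conv

section LocFP

/-- all affine opens inside `W` have finitely presented sections -/
def AllFP (M : X.Modules) (W : X.Opens) : Prop :=
  ∀ O : X.Opens, IsAffineOpen O → O ≤ W → Module.FinitePresentation Γ(X, O) Γ(M, O)

/-- every point of `W` has a neighbourhood all of whose affine opens have finitely presented
sections -/
def LocFP (M : X.Modules) (W : X.Opens) : Prop :=
  ∀ x ∈ W, ∃ W' : X.Opens, x ∈ W' ∧ AllFP M W'

theorem AllFP.locFP {M : X.Modules} {W : X.Opens} (h : AllFP M W) : LocFP M W :=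
  fun _ hx => ⟨W, hx, h⟩

theorem LocFP.mono {M : X.Modules} {W₁ W₂ : X.Opens} (h : W₁ ≤ W₂) (hM : LocFP M W₂) :
    LocFP M W₁ := fun x hx => hM x (h hx)

theorem LocFP.sup {M : X.Modules} {W₁ W₂ : X.Opens} (h₁ : LocFP M W₁) (h₂ : LocFP M W₂) :
    LocFP M (W₁ ⊔ W₂) := by
  intro x hx
  rcases hx with hx | hx
  · exact h₁ x hx
  · exact h₂ x hx

theorem LocFP.locFin {M : X.Modules} {W : X.Opens} (h : LocFP M W) : LocFin M W := by
  intro x hx
  obtain ⟨W', hxW', hW'⟩ := h x hx
  obtain ⟨O, hO, hxO, hOW'⟩ := Opens.isBasis_iff_nbhd.mp X.isBasis_affineOpens hxW'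
  haveI := hW' O hO hOW'
  exact ⟨O, hO, hxO, inferInstance⟩

theorem isFinitePresentation_of_locFP (M : X.Modules) [M.IsQuasicoherent] (h : LocFP M ⊤) :
    SheafOfModules.IsFinitePresentation (R := X.ringCatSheaf) M := by
  apply QCProps.isFinitePresentation_of_charts
  intro x
  obtain ⟨W', hxW', hW'⟩ := h x trivial
  obtain ⟨O, hO, hxO, hOW'⟩ := Opens.isBasis_iff_nbhd.mp X.isBasis_affineOpens hxW'
  exact ⟨O, hO, hxO, inferInstance, hW' O hO hOW'⟩

theorem allFP_of_restrict (M : X.Modules) (U : X.Opens)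
    (hfp : SheafOfModules.IsFinitePresentation (R := (U : Scheme.{u}).ringCatSheaf)
      (M.restrict U.ι)) : AllFP M U := by
  intro W hW hWU
  obtain ⟨l, hl, ⟨e⟩⟩ := QCOpen.exists_chart_lift M hW hWU
  haveI hfp' : SheafOfModules.IsFinitePresentation (R := (Spec Γ(X, W)).ringCatSheaf)
      ((M.restrict U.ι).restrict l) :=
    QCProps.isFinitePresentation_restrict l (M.restrict U.ι)
  haveI hfp'' : SheafOfModules.IsFinitePresentation (R := (Spec Γ(X, W)).ringCatSheaf)
      (M.restrict hW.fromSpec) :=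
    (SheafOfModules.isFinitePresentation (Spec Γ(X, W)).ringCatSheaf).prop_of_iso e hfp'
  have := QCTilde.finitePresentation_of_isFinitePresentation (M.restrict hW.fromSpec)
  exact Module.FinitePresentation.of_equiv (QCTilde.chartSectionsEquiv hW M)

theorem LocFP.of_isIso_restrict {H' H : X.Modules} (ψ : H' ⟶ H) (W : X.Opens)
    [IsIso ((restrictFunctor W.ι).map ψ)] (h : LocFP H W) : LocFP H' W := by
  intro x hx
  obtain ⟨W', hxW', hW'⟩ := h x hx
  refine ⟨W' ⊓ W, ⟨hxW', hx⟩, ?_⟩
  intro O hO hOW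
  haveI := hW' O hO (hOW.trans inf_le_left)
  have hb := bijective_app_of_isIso_restrict ψ W (hOW.trans inf_le_right)
  let e := LinearEquiv.ofBijective (QCProps.appₗ ψ O) hb
  exact Module.FinitePresentation.of_equiv e.symm

end LocFP

end Groth.Agent.Lib.Helper3.FPExt
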