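import Groth.Agent.Lib.Helper3.FPExtA

/-!
# Extension of finitely presented modules: the two constructions
-/

set_option autoImplicit false
universe u
open CategoryTheory CategoryTheory.Limits AlgebraicGeometry TopologicalSpace Opposite
open Scheme.Modules

namespace Groth.Agent.Lib.Helper3.FPExt

open QCSec QCExtend

variable {X : Scheme.{u}}

section Free

set_option backward.isDefEq.respectTransparency false in
theorem isFinitePresentation_freeMod (Y : Scheme.{u}) (I : Type u) [Finite I] :
    SheafOfModules.IsFinitePresentation (R := Y.ringCatSheaf) (freeMod Y I) := by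
  apply QCLocal.isFinitePresentation_of_forall_exists
  intro y
  let P₀ : (freeMod Y I).Presentation :=
    SheafOfModules.presentationOfIsCokernelFree (ι := PEmpty.{u+1}) (σ := I)
      (0 : SheafOfModules.free (R := Y.ringCatSheaf) PEmpty.{u+1} ⟶
        SheafOfModules.free (R := Y.ringCatSheaf) I) (𝟙 _) (by simp)
      (CokernelCofork.IsColimit.ofId _ rfl)
  haveI : P₀.IsFinite :=
    { isFiniteType_generators := ⟨inferInstanceAs (Finite I)⟩
      isFiniteType_relations := ⟨inferInstanceAs (Finite PEmpty.{u+1})⟩ }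
  refine ⟨⊤, trivial, presentationRestrict (⊤ : Y.Opens).ι P₀, ?_⟩
  exact
    { isFiniteType_generators := ⟨inferInstanceAs (Finite I)⟩
      isFiniteType_relations := ⟨inferInstanceAs (Finite PEmpty.{u+1})⟩ }

end Free

section Pullback

/-- The pullback construction: given `π : P ⟶ H|V`, the module `H' = j_* P ×_{j_* (H|V)} H`
restricts to `P` on `V` and agrees with `H` wherever `π` is an isomorphism. -/
theorem exists_pullback_extension (V : X.Opens) [QuasiCompact V.ι]
    (H : X.Modules) [H.IsQuasicoherent] (P : (V : Scheme.{u}).Modules) [P.IsQuasicoherent]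
    (π : P ⟶ H.restrict V.ι) :
    ∃ (H' : X.Modules) (ψ : H' ⟶ H) (e : H'.restrict V.ι ≅ P), H'.IsQuasicoherent ∧
      e.hom ≫ π = (restrictFunctor V.ι).map ψ ∧
      ∀ W : X.Opens, IsIso ((restrictFunctor (V.ι ⁻¹ᵁ W).ι).map π) →
        IsIso ((restrictFunctor W.ι).map ψ) := by
  let adj := Scheme.Modules.restrictAdjunction V.ι
  let a : (Scheme.Modules.pushforward V.ι).obj P ⟶
      (Scheme.Modules.pushforward V.ι).obj (H.restrict V.ι) :=
    (Scheme.Modules.pushforward V.ι).map π
  let b : H ⟶ (Scheme.Modules.pushforward V.ι).obj (H.restrict V.ι) := adj.unit.app H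
  haveI hA : ((Scheme.Modules.pushforward V.ι).obj P).IsQuasicoherent :=
    QCSec.isQuasicoherent_pushforward V.ι P
  haveI hFr : (H.restrict V.ι).IsQuasicoherent :=
    Scheme.Modules.isQuasicoherent_restrictFunctor V.ι H
  haveI hC : ((Scheme.Modules.pushforward V.ι).obj (H.restrict V.ι)).IsQuasicoherent :=
    QCSec.isQuasicoherent_pushforward V.ι (H.restrict V.ι)
  have hH : (pullback a b : X.Modules).IsQuasicoherent := QCLim.isQuasicoherent_pullback a b
  have hpb : IsPullback (pullback.fst a b) (pullback.snd a b) a b := IsPullback.of_hasPullback a b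
  have hpb' := hpb.map (Scheme.Modules.restrictFunctor V.ι)
  have htri : (Scheme.Modules.restrictFunctor V.ι).map b ≫
      adj.counit.app ((Scheme.Modules.restrictFunctor V.ι).obj H) = 𝟙 _ :=
    adj.left_triangle_components H
  haveI hcou : ∀ N, IsIso (adj.counit.app N) := fun N => inferInstance
  have hb : IsIso ((Scheme.Modules.restrictFunctor V.ι).map b) := by
    haveI : IsIso ((Scheme.Modules.restrictFunctor V.ι).map b ≫
        adj.counit.app ((Scheme.Modules.restrictFunctor V.ι).obj H)) := by
      rw [htri]; infer_instance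
    exact IsIso.of_isIso_comp_right _ (adj.counit.app ((Scheme.Modules.restrictFunctor V.ι).obj H))
  have hfst : IsIso ((Scheme.Modules.restrictFunctor V.ι).map (pullback.fst a b)) :=
    hpb'.isIso_fst_of_isIso hb
  let e1 : (Scheme.Modules.restrictFunctor V.ι).obj (pullback a b) ≅
      (Scheme.Modules.restrictFunctor V.ι).obj ((Scheme.Modules.pushforward V.ι).obj P) :=
    @asIso _ _ _ _ _ hfst
  let e2 : (Scheme.Modules.restrictFunctor V.ι).obj ((Scheme.Modules.pushforward V.ι).obj P) ≅
      P :=
    @asIso _ _ _ _ (adj.counit.app P) (hcou P)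
  refine ⟨pullback a b, pullback.snd a b, e1 ≪≫ e2, hH, ?_, ?_⟩
  · have hnat : (Scheme.Modules.restrictFunctor V.ι).map a ≫
        adj.counit.app ((Scheme.Modules.restrictFunctor V.ι).obj H) = adj.counit.app P ≫ π :=
      adj.counit.naturality π
    have hw := hpb'.w
    calc (e1 ≪≫ e2).hom ≫ π
        = (Scheme.Modules.restrictFunctor V.ι).map (pullback.fst a b) ≫
            (adj.counit.app P ≫ π) := by
          simp [e1, e2]
      _ = ((Scheme.Modules.restrictFunctor V.ι).map (pullback.fst a b) ≫
            (Scheme.Modules.restrictFunctor V.ι).map a) ≫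
            adj.counit.app ((Scheme.Modules.restrictFunctor V.ι).obj H) := by
          rw [← hnat, Category.assoc]
      _ = ((Scheme.Modules.restrictFunctor V.ι).map (pullback.snd a b) ≫
            (Scheme.Modules.restrictFunctor V.ι).map b) ≫
            adj.counit.app ((Scheme.Modules.restrictFunctor V.ι).obj H) := by
          rw [hw]
      _ = (Scheme.Modules.restrictFunctor V.ι).map (pullback.snd a b) := by
          rw [Category.assoc, htri, Category.comp_id]
  · intro W hW
    have hpbW := hpb.map (Scheme.Modules.restrictFunctor W.ι)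
    haveI : IsIso ((Scheme.Modules.restrictFunctor W.ι).map a) := by
      apply isIso_restrict_of_bijective
      intro O hO
      have hle : V.ι ⁻¹ᵁ O ≤ V.ι ⁻¹ᵁ W := Scheme.Hom.preimage_mono V.ι hO
      exact bijective_app_of_isIso_restrict π (V.ι ⁻¹ᵁ W) hle
    exact hpbW.isIso_snd_of_isIso

end Pullback

section Quotient

/-- Shrinking relations: a map `σ : L ⟶ M` from a finitely presented module which is surjective
on sections over small affine opens of a quasi-compact open `Ω`, where `M` has finitely presented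
sections, factors through a finitely presented quotient of `L` mapping isomorphically to `M`
over `Ω`. -/
theorem exists_fp_quotient {Y : Scheme.{u}} [CompactSpace Y] [QuasiSeparatedSpace Y]
    (L M : Y.Modules) [hL : SheafOfModules.IsFinitePresentation (R := Y.ringCatSheaf) L]
    [M.IsQuasicoherent] (σ : L ⟶ M) (Ω : Y.Opens) (hΩ : IsCompact (Ω : Set Y))
    (h : ∀ y ∈ Ω, ∀ O : Y.Opens, y ∈ O → ∃ D : Y.Opens, IsAffineOpen D ∧ y ∈ D ∧ D ≤ O ∧ D ≤ Ω ∧
      Module.FinitePresentation Γ(Y, D) Γ(M, D) ∧ Function.Surjective (σ.app D)) :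
    ∃ (P : Y.Modules) (q : L ⟶ P) (π : P ⟶ M),
      SheafOfModules.IsFinitePresentation (R := Y.ringCatSheaf) P ∧ Epi q ∧ q ≫ π = σ ∧
      IsIso ((restrictFunctor Ω.ι).map π) := by
  haveI : L.IsQuasicoherent := inferInstance
  haveI : L.IsFiniteType := inferInstance
  haveI hN : (kernel σ).IsQuasicoherent := QCProps.isQuasicoherent_kernel σ
  have hker : ∀ (O : Y.Opens) (y : Γ(L, O)), σ.app O y = 0 →
      ∃ n : Γ(kernel σ, O), (kernel.ι σ).app O n = y := by
    intro O y hy
    exact QCExact.exact_sections (ShortComplex.mk (kernel.ι σ) σ (kernel.condition σ))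
      (ShortComplex.exact_kernel σ) O y hy
  have hLF : LocFin (kernel σ) Ω := by
    intro y hy
    obtain ⟨D, hD, hyD, -, hDΩ, hfp, hsurj⟩ := h y hy ⊤ trivial
    refine ⟨D, hD, hyD, ?_⟩
    haveI := hfp
    haveI : Module.Finite Γ(Y, D) Γ(L, D) := QCProps.finite_sections L hD
    have hfg : (LinearMap.ker (QCProps.appₗ σ D)).FG :=
      Module.FinitePresentation.fg_ker (QCProps.appₗ σ D) hsurj
    have hinj : Function.Injective (QCProps.appₗ (kernel.ι σ) D) :=
      QCExact.injective_sections (kernel.ι σ) D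
    have hmap : (⊤ : Submodule Γ(Y, D) Γ(kernel σ, D)).map (QCProps.appₗ (kernel.ι σ) D) =
        LinearMap.ker (QCProps.appₗ σ D) := by
      ext y
      constructor
      · rintro ⟨n, -, rfl⟩
        exact QCExact.app_f_g_apply (ShortComplex.mk (kernel.ι σ) σ (kernel.condition σ)) D n
      · intro hy
        obtain ⟨n, hn⟩ := hker D y hy
        exact ⟨n, trivial, hn⟩
    have htop : (⊤ : Submodule Γ(Y, D) Γ(kernel σ, D)).FG :=
      Submodule.fg_of_fg_map_injective _ hinj (hmap ▸ hfg)
    exact ⟨htop⟩
  obtain ⟨K', m, hm, hK'q, hK'ft, hsurj⟩ := exists_finiteType_sub (kernel σ) Ω hΩ hLF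
  haveI := hm
  haveI := hK'q
  haveI := hK'ft
  haveI hc : Mono (m ≫ kernel.ι σ) := mono_comp _ _
  have hcσ : (m ≫ kernel.ι σ) ≫ σ = 0 := by simp
  have hS : (ShortComplex.mk (m ≫ kernel.ι σ) (cokernel.π (m ≫ kernel.ι σ))
      (cokernel.condition _)).ShortExact :=
    { exact := ShortComplex.exact_cokernel _
      mono_f := hc
      epi_g := inferInstanceAs (Epi (cokernel.π (m ≫ kernel.ι σ))) }
  haveI hPq : (cokernel (m ≫ kernel.ι σ)).IsQuasicoherent := QCProps.isQuasicoherent_cokernel _
  have hπsurj : ∀ D : Y.Opens, IsAffineOpen D →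
      Function.Surjective ((cokernel.π (m ≫ kernel.ι σ)).app D) :=
    fun D hD => QCExact.surjective_app_of_isAffineOpen _ hS hD
  have hπker : ∀ (O : Y.Opens) (y : Γ(L, O)), (cokernel.π (m ≫ kernel.ι σ)).app O y = 0 →
      ∃ k : Γ(K', O), (m ≫ kernel.ι σ).app O k = y :=
    fun O y hy => QCExact.exact_sections _ hS.exact O y hy
  have hπc : ∀ (O : Y.Opens) (k : Γ(K', O)),
      (cokernel.π (m ≫ kernel.ι σ)).app O ((m ≫ kernel.ι σ).app O k) = 0 :=
    fun O k => QCExact.app_f_g_apply
      (ShortComplex.mk (m ≫ kernel.ι σ) (cokernel.π (m ≫ kernel.ι σ)) (cokernel.condition _)) O k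
  have hdesc : ∀ (O : Y.Opens) (y : Γ(L, O)),
      (cokernel.desc (m ≫ kernel.ι σ) σ hcσ).app O ((cokernel.π (m ≫ kernel.ι σ)).app O y) =
        σ.app O y := by
    intro O y
    exact congrArg (fun f : L ⟶ M => f.app O y) (cokernel.π_desc (m ≫ kernel.ι σ) σ hcσ)
  refine ⟨cokernel (m ≫ kernel.ι σ), cokernel.π _, cokernel.desc _ σ hcσ, ?_, inferInstance,
    cokernel.π_desc _ _ _, ?_⟩
  · rw [QCProps.isFinitePresentation_iff_finitePresentation_sections]
    intro D hD
    haveI : Module.FinitePresentation Γ(Y, D) Γ(L, D) := QCProps.finitePresentation_sections L hD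
    haveI : Module.Finite Γ(Y, D) Γ(K', D) := QCProps.finite_sections K' hD
    refine Module.finitePresentation_of_surjective
      (QCProps.appₗ (cokernel.π (m ≫ kernel.ι σ)) D) (hπsurj D hD) ?_
    have hrange : LinearMap.ker (QCProps.appₗ (cokernel.π (m ≫ kernel.ι σ)) D) =
        LinearMap.range (QCProps.appₗ (m ≫ kernel.ι σ) D) := by
      ext y
      constructor
      · intro hy
        obtain ⟨k, hk⟩ := hπker D y hy
        exact ⟨k, hk⟩
      · rintro ⟨k, rfl⟩
        exact hπc D k
    rw [hrange, LinearMap.range_eq_map]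
    exact Submodule.FG.map _ Module.Finite.fg_top
  · apply GrModComap.isIso_of_bijective_on_basis
    intro W₀ x hx
    obtain ⟨D, hD, hxD, hDO, hDΩ, hfp, hσsurj⟩ := h x.1 x.2 (Ω.ι ''ᵁ W₀) ⟨x, hx, rfl⟩
    have hDe : Ω.ι ''ᵁ (Ω.ι ⁻¹ᵁ D) = D := InvGen.ι_image_preimage_of_le hDΩ
    refine ⟨Ω.ι ⁻¹ᵁ D, hxD, ?_, ?_⟩
    · have := Scheme.Hom.preimage_mono Ω.ι hDO
      rwa [Scheme.Hom.preimage_image_eq] at this
    · have hbD : Function.Bijective ((cokernel.desc (m ≫ kernel.ι σ) σ hcσ).app D) := by
        constructor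
        · have hinj : Function.Injective
              (QCProps.appₗ (cokernel.desc (m ≫ kernel.ι σ) σ hcσ) D) := by
            rw [injective_iff_map_eq_zero]
            intro p hp
            rw [QCProps.appₗ_apply] at hp
            obtain ⟨y, rfl⟩ := hπsurj D hD p
            rw [hdesc] at hp
            obtain ⟨n, hn⟩ := hker D y hp
            obtain ⟨k, hk⟩ := hsurj D hDΩ n
            have hy : (m ≫ kernel.ι σ).app D k = y := by
              rw [← hn, ← hk]; rfl
            rw [← hy]
            exact hπc D k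
          exact hinj
        · intro t
          obtain ⟨y, hy⟩ := hσsurj t
          exact ⟨(cokernel.π (m ≫ kernel.ι σ)).app D y, (hdesc D y).trans hy⟩
      have hb' : Function.Bijective
          ((cokernel.desc (m ≫ kernel.ι σ) σ hcσ).app (Ω.ι ''ᵁ (Ω.ι ⁻¹ᵁ D))) := by
        rw [hDe]; exact hbD
      exact hb'

end Quotient

end Groth.Agent.Lib.Helper3.FPExt
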