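import Groth.Agent.Lib.Helper3.FPExtB

/-!
# Extension of finitely presented modules (Stacks 01PJ / EGA I 9.4.8-type statement)
-/

set_option autoImplicit false
universe u
open CategoryTheory CategoryTheory.Limits AlgebraicGeometry TopologicalSpace Opposite
open Scheme.Modules

namespace Groth.Agent.Lib.Helper3.FPExt

open QCSec QCExtend

variable {X : Scheme.{u}}

section Sigma

variable (K : X.Modules) (V : X.Opens) {I : Type u} (s : I → Γ(K, V))

theorem sigmaMap_app_surjective_of_span (D' : (V : Scheme.{u}).Opens)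
    (hspan : Submodule.span Γ(X, V.ι ''ᵁ D')
      (Set.range fun i => res K (V.ι_image_le D') (s i)) = ⊤) :
    Function.Surjective ((sigmaMap K V s).app D') := by
  have key : ∀ t' : Γ(K, V.ι ''ᵁ D'), t' ∈ Submodule.span Γ(X, V.ι ''ᵁ D')
      (Set.range fun i => res K (V.ι_image_le D') (s i)) →
      ∃ y, (sigmaMap K V s).app D' y = toR K V D' t' := by
    intro t' ht'
    induction ht' using Submodule.span_induction with
    | mem x hx =>
      obtain ⟨i, rfl⟩ := hx
      exact ⟨_, sigmaMap_app_freeSection K V s i D'⟩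
    | zero => exact ⟨0, by rw [toR_zero]; exact map_zero _⟩
    | add x y _ _ hx hy =>
      obtain ⟨a, ha⟩ := hx
      obtain ⟨b, hb⟩ := hy
      exact ⟨a + b, by rw [toR_add, QCExact.app_add, ha, hb]⟩
    | smul r x _ hx =>
      obtain ⟨a, ha⟩ := hx
      exact ⟨((V.ι.appIso D').hom r) • a, by rw [toR_smul, Hom.app_smul, ha]⟩
  intro t
  exact key t (by rw [hspan]; exact Submodule.mem_top)

theorem fp_restrict_sections (D' : (V : Scheme.{u}).Opens)
    [Module.FinitePresentation Γ(X, V.ι ''ᵁ D') Γ(K, V.ι ''ᵁ D')] :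
    Module.FinitePresentation Γ((V : Scheme.{u}), D') Γ(K.restrict V.ι, D') := by
  let e : Γ(K, V.ι ''ᵁ D') ≃+ Γ(K.restrict V.ι, D') :=
    { toFun := toR K V D'
      invFun := fun t => t
      left_inv := fun _ => rfl
      right_inv := fun _ => rfl
      map_add' := toR_add K V D' }
  exact fp_of_semilinear (V.ι.appIso D').commRingCatIsoToRingEquiv e
    (fun r t => toR_smul K V D' r t)

end Sigma

section Step

set_option maxHeartbeats 400000 in
/-- The inductive step: modify `H` over the affine open `V`, keeping it over `W`, so that it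
becomes locally finitely presented over `W ∪ V`. -/
theorem exists_fp_step [QuasiSeparatedSpace X] (H : X.Modules) [H.IsQuasicoherent]
    {W V : X.Opens} (hW : IsCompact (W : Set X)) (hV : IsAffineOpen V) (hH : LocFP H W) :
    ∃ (H' : X.Modules) (ψ : H' ⟶ H), H'.IsQuasicoherent ∧
      IsIso ((restrictFunctor W.ι).map ψ) ∧ LocFP H' (W ⊔ V) := by
  classical
  haveI : CompactSpace (V : Scheme.{u}) := isCompact_iff_compactSpace.mp hV.isCompact
  haveI : QuasiCompact V.ι := inferInstance
  haveI : IsAffine (V : Scheme.{u}) := hV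
  haveI : QuasiSeparatedSpace (V : Scheme.{u}) := inferInstance
  have hWV : IsCompact ((W : Set X) ∩ V) :=
    QuasiSeparatedSpace.inter_isCompact _ _ W.2 hW V.2 hV.isCompact
  obtain ⟨T, hT⟩ := exists_cover_span H hWV hV hH.locFin
  have hTs : (T : Set Γ(H, V)) ⊆ Set.range (fun t : {x // x ∈ T} => t.1) :=
    fun z hz => ⟨⟨z, hz⟩, rfl⟩
  haveI hfree : SheafOfModules.IsFinitePresentation (R := (V : Scheme.{u}).ringCatSheaf)
      (freeMod (V : Scheme.{u}) {x // x ∈ T}) := isFinitePresentation_freeMod _ _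
  haveI : (H.restrict V.ι).IsQuasicoherent := Scheme.Modules.isQuasicoherent_restrictFunctor V.ι H
  have hΩ : IsCompact ((V.ι ⁻¹ᵁ W : (V : Scheme.{u}).Opens) : Set (V : Scheme.{u})) :=
    QuasiCompact.isCompact_preimage (f := V.ι) _ W.2 hW
  have hyp : ∀ y ∈ V.ι ⁻¹ᵁ W, ∀ O : (V : Scheme.{u}).Opens, y ∈ O →
      ∃ D : (V : Scheme.{u}).Opens, IsAffineOpen D ∧ y ∈ D ∧ D ≤ O ∧ D ≤ V.ι ⁻¹ᵁ W ∧
        Module.FinitePresentation Γ((V : Scheme.{u}), D) Γ(H.restrict V.ι, D) ∧
        Function.Surjective ((sigmaMap H V (fun t : {x // x ∈ T} => t.1)).app D) := by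
    intro y hy O hyO
    have hyW : V.ι y ∈ W := hy
    have hyV : V.ι y ∈ V := y.2
    obtain ⟨f, hyf, hspan⟩ := hT (V.ι y) ⟨hyW, hyV⟩
    obtain ⟨W', hyW', hW'⟩ := hH (V.ι y) hyW
    obtain ⟨h, hhle, hyh⟩ :=
      hV.exists_basicOpen_le (V := X.basicOpen f ⊓ (W' ⊓ W ⊓ V.ι ''ᵁ O))
        ⟨V.ι y, hyf, ⟨hyW', hyW⟩, ⟨y, hyO, rfl⟩⟩ hyV
    have hhf : X.basicOpen h ≤ X.basicOpen f := hhle.trans inf_le_left
    have hhW' : X.basicOpen h ≤ W' := hhle.trans (inf_le_right.trans (inf_le_left.trans inf_le_left))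
    have hhW : X.basicOpen h ≤ W := hhle.trans (inf_le_right.trans (inf_le_left.trans inf_le_right))
    have hhO : X.basicOpen h ≤ V.ι ''ᵁ O := hhle.trans (inf_le_right.trans inf_le_right)
    have hDh : X.basicOpen h = X.basicOpen (rres X (X.basicOpen_le f) h) :=
      ((Scheme.basicOpen_res X h (homOfLE (X.basicOpen_le f)).op).trans
        (inf_eq_right.mpr hhf)).symm
    have hspan' := span_res_eq_top H (hV.basicOpen f) (rres X (X.basicOpen_le f) h) hDh hhf _ hspan
    have hspan'' : Submodule.span Γ(X, X.basicOpen h)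
        (res H (X.basicOpen_le h) '' (T : Set Γ(H, V))) = ⊤ := by
      rw [eq_top_iff, ← hspan']
      apply Submodule.span_mono
      rintro _ ⟨_, ⟨z, hz, rfl⟩, rfl⟩
      exact ⟨z, hz, (res_res H _ _ z).symm⟩
    have hE : V.ι ''ᵁ (V.ι ⁻¹ᵁ X.basicOpen h) = X.basicOpen h := by
      rw [Scheme.Hom.image_preimage_eq_opensRange_inf, Scheme.Opens.opensRange_ι]
      exact inf_eq_right.mpr (X.basicOpen_le h)
    have hDaff : IsAffineOpen (V.ι ⁻¹ᵁ X.basicOpen h) :=
      (hV.basicOpen h).preimage_of_isOpenImmersion V.ι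
        (by rw [Scheme.Opens.opensRange_ι]; exact X.basicOpen_le h)
    refine ⟨V.ι ⁻¹ᵁ X.basicOpen h, hDaff, hyh, ?_, Scheme.Hom.preimage_mono V.ι hhW, ?_, ?_⟩
    · have := Scheme.Hom.preimage_mono V.ι hhO
      rwa [Scheme.Hom.preimage_image_eq] at this
    · haveI : Module.FinitePresentation Γ(X, V.ι ''ᵁ (V.ι ⁻¹ᵁ X.basicOpen h))
          Γ(H, V.ι ''ᵁ (V.ι ⁻¹ᵁ X.basicOpen h)) :=
        hW' _ (hDaff.image_of_isOpenImmersion V.ι) ((le_of_eq hE).trans hhW')
      exact fp_restrict_sections H V _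
    · apply sigmaMap_app_surjective_of_span
      exact span_range_res_eq_top H V _ hE (V.ι_image_le _) (X.basicOpen_le h) T hTs hspan''
  obtain ⟨P, q, π, hPfp, -, -, hπiso⟩ :=
    exists_fp_quotient (freeMod (V : Scheme.{u}) {x // x ∈ T}) (H.restrict V.ι)
      (sigmaMap H V (fun t : {x // x ∈ T} => t.1)) (V.ι ⁻¹ᵁ W) hΩ hyp
  haveI := hPfp
  haveI : P.IsQuasicoherent := inferInstance
  obtain ⟨H', ψ, e, hH'q, -, hWiso⟩ := exists_pullback_extension V H P π
  have hψ : IsIso ((restrictFunctor W.ι).map ψ) := hWiso W hπiso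
  refine ⟨H', ψ, hH'q, hψ, LocFP.sup ?_ ?_⟩
  · haveI := hψ
    exact LocFP.of_isIso_restrict ψ W hH
  · exact (allFP_of_restrict H' V
      ((SheafOfModules.isFinitePresentation (V : Scheme.{u}).ringCatSheaf).prop_of_iso
        e.symm hPfp)).locFP

end Step

section Main

/-- **Extension of finitely presented modules** (Stacks 01PJ-type statement): on a qcqs scheme,
a map from a finitely presented module on a quasi-compact open `U` to `F|U` (`F` quasi-coherent)
extends to a map from a finitely presented module on `X` to `F`. -/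
theorem exists_finitePresentation_extension [CompactSpace X] [QuasiSeparatedSpace X]
    (F : X.Modules) [F.IsQuasicoherent] (U : X.Opens) (hU : IsCompact (U : Set X))
    (G : (U : Scheme.{u}).Modules)
    (hG : SheafOfModules.IsFinitePresentation (R := (U : Scheme.{u}).ringCatSheaf) G)
    (φ : G ⟶ F.restrict U.ι) :
    ∃ (G' : X.Modules) (φ' : G' ⟶ F) (e : G'.restrict U.ι ≅ G),
      SheafOfModules.IsFinitePresentation (R := X.ringCatSheaf) G' ∧
      e.hom ≫ φ = (restrictFunctor U.ι).map φ' := by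
  classical
  haveI : CompactSpace (U : Scheme.{u}) := isCompact_iff_compactSpace.mp hU
  haveI : QuasiCompact U.ι := inferInstance
  haveI := hG
  haveI : G.IsQuasicoherent := inferInstance
  obtain ⟨E, ψ₀, e₀, hEq, hcompat, -⟩ := exists_pullback_extension U F G φ
  haveI := hEq
  have hEU : LocFP E U := (allFP_of_restrict E U
    ((SheafOfModules.isFinitePresentation (U : Scheme.{u}).ringCatSheaf).prop_of_iso
      e₀.symm hG)).locFP
  obtain ⟨ι, hι, V, hVa, -, hcov⟩ :=
    exists_finite_affine_cover (⊤ : X.Opens)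
      (by simpa using (isCompact_univ : IsCompact (Set.univ : Set X)))
  have := Fintype.ofFinite ι
  have hcompS : ∀ S : Finset ι, IsCompact ((U ⊔ S.sup V : X.Opens) : Set X) := by
    intro S
    induction S using Finset.induction_on with
    | empty => rw [Finset.sup_empty, sup_bot_eq]; exact hU
    | insert a S _ ih =>
      rw [Finset.sup_insert, sup_left_comm, Opens.coe_sup]
      exact (hVa a).isCompact.union ih
  have key : ∀ S : Finset ι, ∃ (H : X.Modules) (ψ : H ⟶ E), H.IsQuasicoherent ∧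
      IsIso ((restrictFunctor U.ι).map ψ) ∧ LocFP H (U ⊔ S.sup V) := by
    intro S
    induction S using Finset.induction_on with
    | empty =>
      refine ⟨E, 𝟙 E, hEq, ?_, hEU.mono (le_of_eq (by rw [Finset.sup_empty, sup_bot_eq]))⟩
      rw [CategoryTheory.Functor.map_id]; infer_instance
    | insert a S _ ih =>
      obtain ⟨H, ψ, hHq, hψ, hfp⟩ := ih
      haveI := hHq
      haveI := hψ
      obtain ⟨H', ψ', hH'q, hψ', hfp'⟩ := exists_fp_step H (hcompS S) (hVa a) hfp
      haveI := hψ'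
      haveI : IsIso ((restrictFunctor U.ι).map ψ') :=
        isIso_restrict_of_le ψ' (le_sup_left : U ≤ U ⊔ S.sup V)
      refine ⟨H', ψ' ≫ ψ, hH'q, ?_, hfp'.mono (le_of_eq ?_)⟩
      · rw [Functor.map_comp]; infer_instance
      · rw [Finset.sup_insert, sup_left_comm, sup_comm (V a)]
  obtain ⟨H, ψ, hHq, hψ, hfp⟩ := key Finset.univ
  haveI := hHq
  haveI := hψ
  refine ⟨H, ψ ≫ ψ₀, asIso ((restrictFunctor U.ι).map ψ) ≪≫ e₀, ?_, ?_⟩
  · apply isFinitePresentation_of_locFP
    refine hfp.mono (hcov.trans ?_)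
    rw [Finset.sup_univ_eq_iSup]
    exact le_sup_right
  · rw [Iso.trans_hom, asIso_hom, Category.assoc, hcompat, Functor.map_comp]

end Main

end Groth.Agent.Lib.Helper3.FPExt
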