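import Groth.Agent.Lib.Helper3.FPExtC

/-!
# Finite type quasi-coherent modules as quotients of finitely presented modules
-/

set_option autoImplicit false
universe u
open CategoryTheory CategoryTheory.Limits AlgebraicGeometry TopologicalSpace Opposite
open Scheme.Modules

namespace Groth.Agent.Lib.Helper3.FPExt

open QCSec QCExtend

variable {X : Scheme.{u}}

section Ext

/-- An extension of finitely presented modules is finitely presented. -/
theorem isFinitePresentation_of_shortExact (S : ShortComplex X.Modules) (hS : S.ShortExact)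
    [h1 : SheafOfModules.IsFinitePresentation (R := X.ringCatSheaf) S.X₁]
    [h3 : SheafOfModules.IsFinitePresentation (R := X.ringCatSheaf) S.X₃] :
    SheafOfModules.IsFinitePresentation (R := X.ringCatSheaf) S.X₂ := by
  haveI : S.X₁.IsQuasicoherent := inferInstance
  haveI : S.X₃.IsQuasicoherent := inferInstance
  haveI : S.X₂.IsQuasicoherent := QCExact.isQuasicoherent_of_shortExact S hS
  haveI := hS.mono_f
  rw [QCProps.isFinitePresentation_iff_finitePresentation_sections]
  intro D hD
  haveI : Module.FinitePresentation Γ(X, D) Γ(S.X₁, D) := QCProps.finitePresentation_sections _ hD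
  haveI : Module.FinitePresentation Γ(X, D) Γ(S.X₃, D) := QCProps.finitePresentation_sections _ hD
  have hsurj : Function.Surjective (QCProps.appₗ S.g D) :=
    QCExact.surjective_app_of_isAffineOpen S hS hD
  have hinj : Function.Injective (QCProps.appₗ S.f D) := QCExact.injective_sections S.f D
  have hrange : LinearMap.range (QCProps.appₗ S.f D) = LinearMap.ker (QCProps.appₗ S.g D) := by
    ext y
    constructor
    · rintro ⟨k, rfl⟩
      exact QCExact.app_f_g_apply S D k
    · intro hy
      obtain ⟨k, hk⟩ := QCExact.exact_sections S hS.exact D y hy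
      exact ⟨k, hk⟩
  haveI : Module.FinitePresentation Γ(X, D) (LinearMap.ker (QCProps.appₗ S.g D)) := by
    rw [← hrange]
    exact Module.FinitePresentation.of_equiv (LinearEquiv.ofInjective (QCProps.appₗ S.f D) hinj)
  exact Module.finitePresentation_of_ker (QCProps.appₗ S.g D) hsurj

theorem isFinitePresentation_biprod (A B : X.Modules)
    [SheafOfModules.IsFinitePresentation (R := X.ringCatSheaf) A]
    [SheafOfModules.IsFinitePresentation (R := X.ringCatSheaf) B] :
    SheafOfModules.IsFinitePresentation (R := X.ringCatSheaf) (A ⊞ B) :=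
  isFinitePresentation_of_shortExact
    (ShortComplex.mk (biprod.inl : A ⟶ A ⊞ B) (biprod.snd : A ⊞ B ⟶ B) (by simp))
    (ShortComplex.Splitting.ofHasBinaryBiproduct A B).shortExact

end Ext

section Epi

theorem exists_fp_surjective_on [CompactSpace X] [QuasiSeparatedSpace X] (F : X.Modules)
    [F.IsQuasicoherent] [F.IsFiniteType] {V : X.Opens} (hV : IsAffineOpen V) :
    ∃ (G : X.Modules) (φ : G ⟶ F),
      SheafOfModules.IsFinitePresentation (R := X.ringCatSheaf) G ∧
      Function.Surjective (φ.app V) := by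
  classical
  haveI : Module.Finite Γ(X, V) Γ(F, V) := QCProps.finite_sections F hV
  obtain ⟨T, hT⟩ := (Module.Finite.fg_top : (⊤ : Submodule Γ(X, V) Γ(F, V)).FG)
  have hTs : (T : Set Γ(F, V)) ⊆ Set.range (fun t : {x // x ∈ T} => t.1) :=
    fun z hz => ⟨⟨z, hz⟩, rfl⟩
  have hfree : SheafOfModules.IsFinitePresentation (R := (V : Scheme.{u}).ringCatSheaf)
      (freeMod (V : Scheme.{u}) {x // x ∈ T}) := isFinitePresentation_freeMod _ _
  obtain ⟨G, φ, e, hG, hcompat⟩ := exists_finitePresentation_extension F V hV.isCompact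
    (freeMod (V : Scheme.{u}) {x // x ∈ T}) hfree (sigmaMap F V (fun t : {x // x ∈ T} => t.1))
  refine ⟨G, φ, hG, ?_⟩
  have hE : V.ι ''ᵁ (⊤ : (V : Scheme.{u}).Opens) = V := by
    rw [Scheme.Hom.image_top_eq_opensRange, Scheme.Opens.opensRange_ι]
  have hT' : Submodule.span Γ(X, V) (res F (le_refl V) '' (T : Set Γ(F, V))) = ⊤ := by
    have : res F (le_refl V) '' (T : Set Γ(F, V)) = (T : Set Γ(F, V)) := by
      ext z
      constructor
      · rintro ⟨w, hw, rfl⟩
        rwa [res_self]
      · intro hz
        exact ⟨z, hz, res_self F _ z⟩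
    rw [this]; exact hT
  have hσ : Function.Surjective
      ((sigmaMap F V (fun t : {x // x ∈ T} => t.1)).app (⊤ : (V : Scheme.{u}).Opens)) :=
    sigmaMap_app_surjective_of_span F V _ ⊤
      (span_range_res_eq_top F V _ hE (V.ι_image_le _) (le_refl V) T hTs hT')
  have h1 : Function.Surjective
      (((restrictFunctor V.ι).map φ).app (⊤ : (V : Scheme.{u}).Opens)) := by
    rw [← hcompat]
    intro t
    obtain ⟨y, hy⟩ := hσ t
    refine ⟨e.inv.app ⊤ y, ?_⟩
    have h2 : e.hom.app ⊤ (e.inv.app ⊤ y) = y :=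
      congrArg (fun f : freeMod (V : Scheme.{u}) {x // x ∈ T} ⟶ _ => f.app ⊤ y) e.inv_hom_id
    change (sigmaMap F V (fun t : {x // x ∈ T} => t.1)).app ⊤ (e.hom.app ⊤ (e.inv.app ⊤ y)) = t
    rw [h2, hy]
  have h2 : Function.Surjective (φ.app (V.ι ''ᵁ (⊤ : (V : Scheme.{u}).Opens))) := h1
  rwa [hE] at h2

theorem exists_fp_epi [CompactSpace X] [QuasiSeparatedSpace X] (F : X.Modules)
    [F.IsQuasicoherent] [F.IsFiniteType] :
    ∃ (L : X.Modules) (σ : L ⟶ F),
      SheafOfModules.IsFinitePresentation (R := X.ringCatSheaf) L ∧ Epi σ := by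
  classical
  obtain ⟨ι, hι, V, hVa, -, hcov⟩ :=
    exists_finite_affine_cover (⊤ : X.Opens)
      (by simpa using (isCompact_univ : IsCompact (Set.univ : Set X)))
  have := Fintype.ofFinite ι
  have key : ∀ S : Finset ι, ∃ (L : X.Modules) (σ : L ⟶ F),
      SheafOfModules.IsFinitePresentation (R := X.ringCatSheaf) L ∧
      ∀ i ∈ S, Function.Surjective (σ.app (V i)) := by
    intro S
    induction S using Finset.induction_on with
    | empty =>
      exact ⟨freeMod X PEmpty.{u+1}, 0, isFinitePresentation_freeMod _ _,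
        fun i hi => absurd hi (Finset.notMem_empty i)⟩
    | insert a S _ ih =>
      obtain ⟨L, σ, hL, hs⟩ := ih
      obtain ⟨G, φ, hG, hφ⟩ := exists_fp_surjective_on F (hVa a)
      haveI := hL
      haveI := hG
      refine ⟨L ⊞ G, biprod.desc σ φ, isFinitePresentation_biprod L G, ?_⟩
      intro i hi
      rcases Finset.mem_insert.mp hi with rfl | hi
      · intro t
        obtain ⟨y, hy⟩ := hφ t
        refine ⟨(biprod.inr : G ⟶ L ⊞ G).app _ y, ?_⟩
        have := congrArg (fun f : G ⟶ F => f.app (V i) y) (biprod.inr_desc σ φ)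
        exact this.trans hy
      · intro t
        obtain ⟨y, hy⟩ := hs i hi t
        refine ⟨(biprod.inl : L ⟶ L ⊞ G).app _ y, ?_⟩
        have := congrArg (fun f : L ⟶ F => f.app (V i) y) (biprod.inl_desc σ φ)
        exact this.trans hy
  obtain ⟨L, σ, hL, hs⟩ := key Finset.univ
  refine ⟨L, σ, hL, ?_⟩
  apply QCExact.epi_of_surjective_on_affine_cover
  intro x
  have hx : x ∈ ⨆ i, V i := hcov (show x ∈ (⊤ : X.Opens) from trivial)
  obtain ⟨i, hxi⟩ := Opens.mem_iSup.mp hx
  exact ⟨V i, hVa i, hxi, hs i (Finset.mem_univ i)⟩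

/-- A finite type quasi-coherent module on a qcqs scheme which is finitely presented over a
quasi-compact open `U` is a quotient of a finitely presented module, isomorphically over `U`. -/
theorem exists_fp_epi_iso_on [CompactSpace X] [QuasiSeparatedSpace X] (F : X.Modules)
    [F.IsQuasicoherent] [F.IsFiniteType] (U : X.Opens) (hU : IsCompact (U : Set X))
    (hFU : SheafOfModules.IsFinitePresentation (R := (U : Scheme.{u}).ringCatSheaf)
      (F.restrict U.ι)) :
    ∃ (G : X.Modules) (φ : G ⟶ F),
      SheafOfModules.IsFinitePresentation (R := X.ringCatSheaf) G ∧ Epi φ ∧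
      IsIso ((restrictFunctor U.ι).map φ) := by
  obtain ⟨L, σ, hL, hσ⟩ := exists_fp_epi F
  haveI := hL
  haveI := hσ
  haveI : L.IsQuasicoherent := inferInstance
  have hall : AllFP F U := allFP_of_restrict F U hFU
  have hsurj := (QCExact.epi_iff_surjective_on_affines σ).mp hσ
  obtain ⟨P, q, π, hP, hq, hqπ, hπ⟩ := exists_fp_quotient L F σ U hU (by
    intro y hy O hyO
    obtain ⟨D, hD, hyD, hDle⟩ := Opens.isBasis_iff_nbhd.mp X.isBasis_affineOpens
      (show y ∈ O ⊓ U from ⟨hyO, hy⟩)
    exact ⟨D, hD, hyD, hDle.trans inf_le_left, hDle.trans inf_le_right,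
      hall D hD (hDle.trans inf_le_right), hsurj D hD⟩)
  refine ⟨P, π, hP, ?_, hπ⟩
  haveI : Epi (q ≫ π) := by rw [hqπ]; exact hσ
  exact epi_of_epi q π

end Epi

end Groth.Agent.Lib.Helper3.FPExt
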