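import Groth.Agent.Lib.Helper3.FPExtD
import Groth.Agent.Lib.Helper3.QCTilde

/-!
# Preliminaries for writing finite type modules as directed colimits of finitely presented ones
-/

set_option autoImplicit false
universe u
open CategoryTheory CategoryTheory.Limits AlgebraicGeometry TopologicalSpace Opposite
open Scheme.Modules

namespace Groth.Agent.Lib.Helper3.FPExt

open QCSec QCExtend

variable {X : Scheme.{u}}

section Through

/-- every section over an affine open of a quasi-coherent module on a qcqs scheme lies in a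
quasi-coherent submodule of finite type -/
theorem exists_ft_sub_through_section [CompactSpace X] [QuasiSeparatedSpace X] (F : X.Modules)
    [F.IsQuasicoherent] {V : X.Opens} (hV : IsAffineOpen V) (s : Γ(F, V)) :
    ∃ (G : X.Modules) (i : G ⟶ F), Mono i ∧ G.IsQuasicoherent ∧ G.IsFiniteType ∧
      ∃ g : Γ(G, V), i.app V g = s := by
  let s' : PUnit.{u+1} → Γ(F, V) := fun _ => s
  let σ := QCExtend.sigmaMap F V s'
  haveI : (QCExtend.freeMod (V : Scheme.{u}) PUnit.{u+1}).IsQuasicoherent :=
    QCExtend.isQuasicoherent_freeMod _ _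
  haveI : (QCExtend.freeMod (V : Scheme.{u}) PUnit.{u+1}).IsFiniteType :=
    QCExtend.isFiniteType_freeMod _ _
  haveI : (F.restrict V.ι).IsQuasicoherent := Scheme.Modules.isQuasicoherent_restrictFunctor V.ι F
  haveI hF'q : (Abelian.image σ).IsQuasicoherent := QCLim.isQuasicoherent_image σ
  have hF'ft : (Abelian.image σ).IsFiniteType :=
    QCProps.isFiniteType_of_epi (Abelian.factorThruImage σ)
  obtain ⟨G, i, e, hi, hGq, hGft, heq⟩ := QCExtend.exists_finiteType_extension V hV.isCompact F
    (Abelian.image σ) hF'ft (Abelian.image.ι σ)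
  refine ⟨G, i, hi, hGq, hGft, ?_⟩
  let e₀ : Γ(QCExtend.freeMod (V : Scheme.{u}) PUnit.{u+1}, ⊤) :=
    (SheafOfModules.freeSection PUnit.unit).val (op ⊤)
  let f₀ : Γ(Abelian.image σ, ⊤) := (Abelian.factorThruImage σ).app ⊤ e₀
  let g₀ : Γ(G, V.ι ''ᵁ ⊤) := e.inv.app ⊤ f₀
  have hle : V ≤ V.ι ''ᵁ ⊤ := le_of_eq V.ι_image_top.symm
  have h1 : σ.app ⊤ e₀ = res F (V.ι_image_le ⊤) s :=
    QCExtend.sigmaMap_app_freeSection F V s' PUnit.unit ⊤
  have h2 : (Abelian.image.ι σ).app ⊤ f₀ = σ.app ⊤ e₀ :=
    congrArg (fun φ => φ.app ⊤ e₀) (Abelian.image.fac σ)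
  have h3 : (Abelian.image.ι σ) = e.inv ≫ (Scheme.Modules.restrictFunctor V.ι).map i := by
    rw [← heq, Iso.inv_hom_id_assoc]
  have h4 : i.app (V.ι ''ᵁ ⊤) g₀ = res F (V.ι_image_le ⊤) s := by
    rw [← h1, ← h2, h3]; rfl
  refine ⟨res G hle g₀, ?_⟩
  have h5 : i.app V (res G hle g₀) = res F hle (i.app (V.ι ''ᵁ ⊤) g₀) :=
    QCExact.app_res' i hle g₀
  have h6 : res F hle (res F (V.ι_image_le ⊤) s) = s := QCTilde.mod_res_res_self F _ _ s
  exact (h5.trans (by rw [h4])).trans h6

end Through

section Eval

/-- evaluation of morphisms on a section, as an additive map -/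
noncomputable def evalHom {M N : X.Modules} (D : X.Opens) (t : Γ(M, D)) :
    (M ⟶ N) →+ Γ(N, D) where
  toFun f := f.app D t
  map_zero' := rfl
  map_add' _ _ := rfl

theorem sum_app {M N : X.Modules} {I : Type*} (s : Finset I) (f : I → (M ⟶ N)) (D : X.Opens)
    (t : Γ(M, D)) : (∑ j ∈ s, f j).app D t = ∑ j ∈ s, (f j).app D t :=
  map_sum (evalHom D t) f s

theorem sigma_total {I : Type u} [Fintype I] [DecidableEq I] (K : I → X.Modules) :
    ∑ a, Sigma.π K a ≫ Sigma.ι K a = 𝟙 (∐ K : X.Modules) := by
  apply Sigma.hom_ext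
  intro b
  rw [Preadditive.comp_sum, Category.comp_id]
  rw [Finset.sum_eq_single b]
  · rw [Sigma.ι_π_eq_id_assoc]
  · intro a _ hab
    rw [Sigma.ι_π_of_ne_assoc K (Ne.symm hab), zero_comp]
  · intro h
    exact absurd (Finset.mem_univ b) h

theorem finite_sections_sigma {I : Type u} [Fintype I] (K : I → X.Modules)
    [∀ a, (K a).IsQuasicoherent] [∀ a, (K a).IsFiniteType] {D : X.Opens}
    (hD : IsAffineOpen D) : Module.Finite Γ(X, D) Γ((∐ K : X.Modules), D) := by
  classical
  have htop : (⨆ a, LinearMap.range (QCProps.appₗ (Sigma.ι K a) D)) =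
      (⊤ : Submodule Γ(X, D) Γ((∐ K : X.Modules), D)) := by
    rw [eq_top_iff]
    rintro t -
    have h0 := congrArg (fun f : (∐ K : X.Modules) ⟶ (∐ K : X.Modules) => f.app D t)
      (sigma_total K)
    have h1 : (∑ a, Sigma.π K a ≫ Sigma.ι K a).app D t = t := h0
    rw [sum_app] at h1
    rw [← h1]
    exact Submodule.sum_mem _ (fun a _ => Submodule.mem_iSup_of_mem a
      ⟨(Sigma.π K a).app D t, rfl⟩)
  refine ⟨?_⟩
  rw [← htop]
  apply Submodule.fg_iSup
  intro a
  haveI : Module.Finite Γ(X, D) Γ(K a, D) := QCProps.finite_sections (K a) hD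
  rw [LinearMap.range_eq_map]
  exact Submodule.FG.map _ Module.Finite.fg_top

end Eval

section Coker

/-- the cokernel of a map from a quasi-coherent module with finite sections over affines to a
finitely presented module is finitely presented -/
theorem isFinitePresentation_cokernel {M G : X.Modules} (c : M ⟶ G) [M.IsQuasicoherent]
    [hG : SheafOfModules.IsFinitePresentation (R := X.ringCatSheaf) G]
    (hM : ∀ D : X.Opens, IsAffineOpen D → Module.Finite Γ(X, D) Γ(M, D)) :
    SheafOfModules.IsFinitePresentation (R := X.ringCatSheaf) (cokernel c : X.Modules) := by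
  haveI : G.IsQuasicoherent := inferInstance
  haveI : (cokernel c).IsQuasicoherent := QCProps.isQuasicoherent_cokernel c
  haveI hI : (Abelian.image c).IsQuasicoherent := QCLim.isQuasicoherent_image c
  haveI hK : (kernel (cokernel.π c)).IsQuasicoherent := QCProps.isQuasicoherent_kernel _
  have hS : (ShortComplex.mk (kernel.ι (cokernel.π c)) (cokernel.π c)
      (kernel.condition _)).ShortExact :=
    { exact := ShortComplex.exact_kernel _
      mono_f := inferInstanceAs (Mono (kernel.ι (cokernel.π c)))
      epi_g := inferInstanceAs (Epi (cokernel.π c)) }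
  rw [QCProps.isFinitePresentation_iff_finitePresentation_sections]
  intro D hD
  haveI : Module.FinitePresentation Γ(X, D) Γ(G, D) := QCProps.finitePresentation_sections G hD
  haveI := hM D hD
  have hπsurj : Function.Surjective ((cokernel.π c).app D) :=
    QCExact.surjective_app_of_isAffineOpen _ hS hD
  have hfti : Function.Surjective ((Abelian.factorThruImage c).app D) :=
    (QCExact.epi_iff_surjective_on_affines (Abelian.factorThruImage c)).mp inferInstance D hD
  refine Module.finitePresentation_of_surjective (QCProps.appₗ (cokernel.π c) D) hπsurj ?_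
  have hrange : LinearMap.ker (QCProps.appₗ (cokernel.π c) D) =
      LinearMap.range (QCProps.appₗ c D) := by
    ext y
    constructor
    · intro hy
      obtain ⟨n, hn⟩ := QCExact.exact_sections _ hS.exact D y hy
      obtain ⟨x, hx⟩ := hfti n
      refine ⟨x, ?_⟩
      have h2 : (Abelian.image.ι c).app D ((Abelian.factorThruImage c).app D x) = c.app D x :=
        congrArg (fun φ : M ⟶ G => φ.app D x) (Abelian.image.fac c)
      rw [QCProps.appₗ_apply, ← h2, hx]
      exact hn
    · rintro ⟨x, rfl⟩
      have h2 : (cokernel.π c).app D (c.app D x) = 0 :=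
        congrArg (fun φ : M ⟶ cokernel c => φ.app D x) (cokernel.condition c)
      exact h2
  rw [hrange, LinearMap.range_eq_map]
  exact Submodule.FG.map _ Module.Finite.fg_top

end Coker

end Groth.Agent.Lib.Helper3.FPExt
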