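import Groth.Agent.Lib.Helper3.FPExtE

/-!
# Finite type quasi-coherent modules are directed colimits of finitely presented modules
with surjective transition maps (Stacks 0G41-type statement)
-/

set_option autoImplicit false
universe u
open CategoryTheory CategoryTheory.Limits AlgebraicGeometry TopologicalSpace Opposite
open Scheme.Modules

namespace Groth.Agent.Lib.Helper3.FPExt

open QCSec QCExtend

variable {X : Scheme.{u}}

section Colim

variable {F G : X.Modules} (p : G ⟶ F) {A : Type u} (Kf : A → X.Modules)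
  (m : ∀ a, Kf a ⟶ kernel p)

/-- the sum of the submodules `Kf a`, `a ∈ S`, mapped to `G` -/
noncomputable def cS (S : Finset A) : (∐ fun a : {x // x ∈ S} => Kf a.1 : X.Modules) ⟶ G :=
  Sigma.desc (fun a => m a.1 ≫ kernel.ι p)

theorem ι_cS (S : Finset A) (a : {x // x ∈ S}) :
    Sigma.ι (fun a : {x // x ∈ S} => Kf a.1) a ≫ cS p Kf m S = m a.1 ≫ kernel.ι p := by
  unfold cS
  exact Sigma.ι_desc _ _

theorem cS_comp_p (S : Finset A) : cS p Kf m S ≫ p = 0 := by
  apply Sigma.hom_ext
  intro a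
  rw [← Category.assoc, ι_cS, Category.assoc, kernel.condition, comp_zero, comp_zero]

theorem cS_comp_π {S S' : Finset A} (h : S ≤ S') :
    cS p Kf m S ≫ cokernel.π (cS p Kf m S') = 0 := by
  apply Sigma.hom_ext
  intro a
  rw [← Category.assoc, ι_cS, comp_zero]
  have h1 := ι_cS p Kf m S' ⟨a.1, h a.2⟩
  rw [← h1, Category.assoc, cokernel.condition, comp_zero]

/-- the diagram of quotients `G / Σ_{a ∈ S} Kf a` -/
noncomputable def Dfun : Finset A ⥤ X.Modules where
  obj S := cokernel (cS p Kf m S)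
  map {S S'} h := cokernel.desc (cS p Kf m S) (cokernel.π (cS p Kf m S'))
    (cS_comp_π p Kf m (leOfHom h))
  map_id S := by
    rw [← cancel_epi (cokernel.π (cS p Kf m S)), cokernel.π_desc, Category.comp_id]
  map_comp {S S' S''} f g := by
    rw [← cancel_epi (cokernel.π (cS p Kf m S)), cokernel.π_desc, cokernel.π_desc_assoc,
      cokernel.π_desc]

/-- the projection `G ⟶ G / Σ_{a ∈ S} Kf a` -/
noncomputable def πS (S : Finset A) : G ⟶ (Dfun p Kf m).obj S := cokernel.π (cS p Kf m S)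

instance (S : Finset A) : Epi (πS p Kf m S) :=
  inferInstanceAs (Epi (cokernel.π (cS p Kf m S)))

@[reassoc]
theorem cS_πS (S : Finset A) : cS p Kf m S ≫ πS p Kf m S = 0 := cokernel.condition _

@[reassoc]
theorem πS_map {S S' : Finset A} (h : S ⟶ S') :
    πS p Kf m S ≫ (Dfun p Kf m).map h = πS p Kf m S' :=
  cokernel.π_desc _ _ _

theorem epi_Dmap {S S' : Finset A} (h : S ⟶ S') : Epi ((Dfun p Kf m).map h) := by
  haveI : Epi (πS p Kf m S ≫ (Dfun p Kf m).map h) := by
    rw [πS_map]; infer_instance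
  exact epi_of_epi (πS p Kf m S) _

/-- the components of the cocone to `F` -/
noncomputable def Dιapp (S : Finset A) : (Dfun p Kf m).obj S ⟶ F :=
  cokernel.desc (cS p Kf m S) p (cS_comp_p p Kf m S)

@[reassoc]
theorem πS_ιapp (S : Finset A) : πS p Kf m S ≫ Dιapp p Kf m S = p := cokernel.π_desc _ _ _

/-- the cocone to `F` -/
noncomputable def Dι : Dfun p Kf m ⟶ (Functor.const (Finset A)).obj F where
  app S := Dιapp p Kf m S
  naturality S S' h := by
    rw [← cancel_epi (πS p Kf m S), πS_map_assoc, πS_ιapp, πS_ιapp_assoc]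
    exact (Category.comp_id p).symm

section Cocone

variable (s : Cocone (Dfun p Kf m))

theorem τ_eq (S : Finset A) :
    πS p Kf m S ≫ s.ι.app S = πS p Kf m ∅ ≫ s.ι.app ∅ := by
  have h1 := s.w (homOfLE (Finset.empty_subset S))
  rw [← h1, πS_map_assoc]

theorem kernel_τ (hepi : Epi (Sigma.desc m : (∐ Kf : X.Modules) ⟶ kernel p)) :
    kernel.ι p ≫ (πS p Kf m ∅ ≫ s.ι.app ∅) = 0 := by
  rw [← cancel_epi (Sigma.desc m : (∐ Kf : X.Modules) ⟶ kernel p), comp_zero]
  apply Sigma.hom_ext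
  intro a
  rw [comp_zero, ← Category.assoc, Sigma.ι_desc, ← τ_eq p Kf m s {a}]
  have h1 := ι_cS p Kf m {a} ⟨a, Finset.mem_singleton_self a⟩
  rw [← Category.assoc, ← h1, Category.assoc, cS_πS_assoc, zero_comp, comp_zero]

/-- `F` is the colimit of the diagram of quotients -/
noncomputable def isColimitD [Epi p]
    (hepi : Epi (Sigma.desc m : (∐ Kf : X.Modules) ⟶ kernel p)) :
    IsColimit (Cocone.mk F (Dι p Kf m)) where
  desc s := Abelian.epiDesc p (πS p Kf m ∅ ≫ s.ι.app ∅) (kernel_τ p Kf m s hepi)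
  fac s S := by
    rw [← cancel_epi (πS p Kf m S)]
    show πS p Kf m S ≫ Dιapp p Kf m S ≫ _ = _
    rw [πS_ιapp_assoc, Abelian.comp_epiDesc]
    exact (τ_eq p Kf m s S).symm
  uniq s m' hm' := by
    rw [← cancel_epi p, Abelian.comp_epiDesc]
    have h1 : Dιapp p Kf m ∅ ≫ m' = s.ι.app ∅ := hm' ∅
    rw [← h1, πS_ιapp_assoc]

end Cocone

end Colim

section Main

set_option maxHeartbeats 400000 in
/-- On a qcqs scheme, a quasi-coherent module of finite type is a directed colimit of finitely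
presented modules with surjective transition maps. -/
theorem exists_directed_colimit_fp_epi [CompactSpace X] [QuasiSeparatedSpace X] (F : X.Modules)
    [F.IsQuasicoherent] [F.IsFiniteType] :
    ∃ (J : Type u) (_ : PartialOrder J) (_ : IsDirected J (· ≤ ·)) (_ : Nonempty J)
      (D : J ⥤ X.Modules) (ι : D ⟶ (Functor.const J).obj F),
      Nonempty (IsColimit (Cocone.mk F ι)) ∧
      (∀ j, SheafOfModules.IsFinitePresentation (R := X.ringCatSheaf) (D.obj j)) ∧
      ∀ (j j' : J) (h : j ⟶ j'), Epi (D.map h) := by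
  classical
  obtain ⟨G, p, hG, hp⟩ := exists_fp_epi F
  haveI := hG
  haveI := hp
  haveI : G.IsQuasicoherent := inferInstance
  haveI hKq : (kernel p).IsQuasicoherent := QCProps.isQuasicoherent_kernel p
  obtain ⟨ι₀, hι₀, V, hVa, -, hcov⟩ :=
    exists_finite_affine_cover (⊤ : X.Opens)
      (by simpa using (isCompact_univ : IsCompact (Set.univ : Set X)))
  have hch : ∀ a : (Σ i : ι₀, Γ(kernel p, V i)), ∃ (Ka : X.Modules) (ma : Ka ⟶ kernel p),
      Mono ma ∧ Ka.IsQuasicoherent ∧ Ka.IsFiniteType ∧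
      ∃ g : Γ(Ka, V a.1), ma.app (V a.1) g = a.2 :=
    fun a => exists_ft_sub_through_section (kernel p) (hVa a.1) a.2
  choose Kf m hm hKq' hKft hsec using hch
  haveI : ∀ a, (Kf a).IsQuasicoherent := hKq'
  haveI : ∀ a, (Kf a).IsFiniteType := hKft
  have hepi : Epi (Sigma.desc m : (∐ Kf : X.Modules) ⟶ kernel p) := by
    apply QCExact.epi_of_surjective_on_affine_cover
    intro x
    have hx : x ∈ ⨆ i, V i := hcov (show x ∈ (⊤ : X.Opens) from trivial)
    obtain ⟨i, hxi⟩ := Opens.mem_iSup.mp hx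
    refine ⟨V i, hVa i, hxi, ?_⟩
    intro t
    obtain ⟨g, hg⟩ := hsec ⟨i, t⟩
    refine ⟨(Sigma.ι Kf ⟨i, t⟩).app (V i) g, ?_⟩
    have h1 := congrArg (fun f : Kf ⟨i, t⟩ ⟶ kernel p => f.app (V i) g)
      (Sigma.ι_desc m ⟨i, t⟩)
    exact h1.trans hg
  refine ⟨Finset (Σ i : ι₀, Γ(kernel p, V i)), inferInstance, inferInstance, ⟨∅⟩,
    Dfun p Kf m, Dι p Kf m, ⟨isColimitD p Kf m hepi⟩, ?_, ?_⟩
  · intro S
    haveI : (∐ fun a : {x // x ∈ S} => Kf a.1 : X.Modules).IsQuasicoherent :=
      QCLim.isQuasicoherent_sigma _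
    exact isFinitePresentation_cokernel (cS p Kf m S)
      (fun D hD => finite_sections_sigma (fun a : {x // x ∈ S} => Kf a.1) hD)
  · intro S S' h
    exact epi_Dmap p Kf m h

end Main

end Groth.Agent.Lib.Helper3.FPExt
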