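import Groth.Agent.Lib.Helper3.FPExtF
import Groth.Agent.Lib.Helper14.TildeExact
import Mathlib.Algebra.Category.ModuleCat.FilteredColimits

/-!
# Sections over affine opens of filtered colimits of quasi-coherent modules
-/

set_option autoImplicit false
universe u
open CategoryTheory CategoryTheory.Limits AlgebraicGeometry TopologicalSpace Opposite
open Scheme.Modules

namespace Groth.Agent.Lib.Helper3.FPExt

open QCSec QCExtend

section Spec

variable {R : CommRingCat.{u}} {J : Type u} [SmallCategory J]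
  (F : J ⥤ (Spec R).Modules) (hF : ∀ j, (F.obj j).IsQuasicoherent)

/-- the comparison isomorphism `colim Γ(F_j) ≅ Γ(colim F_j)` for quasi-coherent modules on an
affine scheme -/
noncomputable def ΓcolimHom :
    colimit (F ⋙ moduleSpecΓFunctor) ⟶ moduleSpecΓFunctor.obj (colimit F) :=
  haveI : PreservesColimitsOfSize.{u, u} (tilde.functor R) :=
    (tilde.adjunction (R := R)).leftAdjoint_preservesColimits
  (tilde.adjunction (R := R)).unit.app (colimit (F ⋙ moduleSpecΓFunctor)) ≫
    moduleSpecΓFunctor.map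
      ((preservesColimitIso (tilde.functor R) (F ⋙ moduleSpecΓFunctor)).hom ≫
        (HasColimit.isoOfNatIso (Helper14.tildeΓIso F hF)).hom)

instance : IsIso (ΓcolimHom F hF) := by
  unfold ΓcolimHom
  infer_instance

theorem ι_ΓcolimHom (j : J) :
    colimit.ι (F ⋙ moduleSpecΓFunctor) j ≫ ΓcolimHom F hF =
      moduleSpecΓFunctor.map (colimit.ι F j) := by
  haveI : PreservesColimitsOfSize.{u, u} (tilde.functor R) :=
    (tilde.adjunction (R := R)).leftAdjoint_preservesColimits
  unfold ΓcolimHom
  have h1 := (tilde.adjunction (R := R)).unit.naturality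
    (colimit.ι (F ⋙ moduleSpecΓFunctor) j)
  have h2 : (tilde.functor R).map (colimit.ι (F ⋙ moduleSpecΓFunctor) j) ≫
      (preservesColimitIso (tilde.functor R) (F ⋙ moduleSpecΓFunctor)).hom =
      colimit.ι ((F ⋙ moduleSpecΓFunctor) ⋙ tilde.functor R) j :=
    ι_preservesColimitIso_hom _ _ _
  have h3 : colimit.ι ((F ⋙ moduleSpecΓFunctor) ⋙ tilde.functor R) j ≫
      (HasColimit.isoOfNatIso (Helper14.tildeΓIso F hF)).hom =
      (Helper14.tildeΓIso F hF).hom.app j ≫ colimit.ι F j :=
    HasColimit.isoOfNatIso_ι_hom _ _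
  have h4 : (tilde.adjunction (R := R)).unit.app (moduleSpecΓFunctor.obj (F.obj j)) ≫
      moduleSpecΓFunctor.map ((tilde.adjunction (R := R)).counit.app (F.obj j)) = 𝟙 _ :=
    (tilde.adjunction (R := R)).right_triangle_components (F.obj j)
  have h5 : (Helper14.tildeΓIso F hF).hom.app j =
      (tilde.adjunction (R := R)).counit.app (F.obj j) := rfl
  have key : (tilde.functor R).map (colimit.ι (F ⋙ moduleSpecΓFunctor) j) ≫
      (preservesColimitIso (tilde.functor R) (F ⋙ moduleSpecΓFunctor)).hom ≫
        (HasColimit.isoOfNatIso (Helper14.tildeΓIso F hF)).hom =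
      (tilde.adjunction (R := R)).counit.app (F.obj j) ≫ colimit.ι F j := by
    rw [← Category.assoc, h2, h3, h5]
  have h6 : colimit.ι (F ⋙ moduleSpecΓFunctor) j ≫
      (tilde.adjunction (R := R)).unit.app (colimit (F ⋙ moduleSpecΓFunctor)) =
      (tilde.adjunction (R := R)).unit.app (moduleSpecΓFunctor.obj (F.obj j)) ≫
        moduleSpecΓFunctor.map
          ((tilde.functor R).map (colimit.ι (F ⋙ moduleSpecΓFunctor) j)) := h1
  rw [← Category.assoc, h6, Category.assoc, ← Functor.map_comp, key, Functor.map_comp,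
    ← Category.assoc, h4]
  exact Category.id_comp _

include hF in
theorem exists_rep_spec [IsFiltered J] (t : ↑(moduleSpecΓFunctor.obj (colimit F))) :
    ∃ (j : J) (tj : ↑(moduleSpecΓFunctor.obj (F.obj j))),
      (moduleSpecΓFunctor.map (colimit.ι F j)).hom tj = t := by
  obtain ⟨j, tj, htj⟩ := Concrete.colimit_exists_rep (F ⋙ moduleSpecΓFunctor)
    ((inv (ΓcolimHom F hF)).hom t)
  refine ⟨j, tj, ?_⟩
  rw [← ι_ΓcolimHom F hF j]
  change (ΓcolimHom F hF).hom ((colimit.ι (F ⋙ moduleSpecΓFunctor) j).hom tj) = t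
  have h1 : (colimit.ι (F ⋙ moduleSpecΓFunctor) j).hom tj = (inv (ΓcolimHom F hF)).hom t := htj
  rw [h1]
  have h2 := congrArg (fun f : moduleSpecΓFunctor.obj (colimit F) ⟶ _ => f.hom t)
    (IsIso.inv_hom_id (ΓcolimHom F hF))
  exact h2

end Spec

section Affine

variable {X : Scheme.{u}} {J : Type u} [SmallCategory J] [IsFiltered J] (D : J ⥤ X.Modules)
  (hD : ∀ j, (D.obj j).IsQuasicoherent)

include hD in
/-- every section over an affine open of a filtered colimit of quasi-coherent modules comes from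
a stage of the colimit -/
theorem exists_rep_sections_colimit {V : X.Opens} (hV : IsAffineOpen V)
    (t : Γ((colimit D : X.Modules), V)) :
    ∃ (j : J) (tj : Γ(D.obj j, V)), (colimit.ι D j).app V tj = t := by
  haveI : PreservesColimitsOfSize.{u, u} (restrictFunctor hV.fromSpec) :=
    (restrictAdjunction hV.fromSpec).leftAdjoint_preservesColimits
  have hF : ∀ j, ((D ⋙ restrictFunctor hV.fromSpec).obj j).IsQuasicoherent := fun j => by
    haveI := hD j
    exact Scheme.Modules.isQuasicoherent_restrictFunctor hV.fromSpec (D.obj j)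
  have hle : V ≤ hV.fromSpec ''ᵁ ⊤ := QS.le_image_top hV
  have hle' : hV.fromSpec ''ᵁ ⊤ ≤ V := QS.image_le hV ⊤
  have key : ∀ t₁ : Γ((colimit D : X.Modules), hV.fromSpec ''ᵁ ⊤),
      ∃ (j : J) (tj : Γ(D.obj j, hV.fromSpec ''ᵁ ⊤)),
        (colimit.ι D j).app (hV.fromSpec ''ᵁ ⊤) tj = t₁ := by
    intro t₁
    obtain ⟨j, tj, htj⟩ := exists_rep_spec (D ⋙ restrictFunctor hV.fromSpec) hF
      ((preservesColimitIso (restrictFunctor hV.fromSpec) D).hom.app ⊤
        (show Γ((restrictFunctor hV.fromSpec).obj (colimit D), ⊤) from t₁))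
    refine ⟨j, tj, ?_⟩
    have h1 : (restrictFunctor hV.fromSpec).map (colimit.ι D j) ≫
        (preservesColimitIso (restrictFunctor hV.fromSpec) D).hom =
        colimit.ι (D ⋙ restrictFunctor hV.fromSpec) j := ι_preservesColimitIso_hom _ _ _
    have h2 : (preservesColimitIso (restrictFunctor hV.fromSpec) D).hom.app ⊤
        (show Γ((restrictFunctor hV.fromSpec).obj (colimit D), ⊤) from
          (colimit.ι D j).app (hV.fromSpec ''ᵁ ⊤) tj) =
        (preservesColimitIso (restrictFunctor hV.fromSpec) D).hom.app ⊤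
          (show Γ((restrictFunctor hV.fromSpec).obj (colimit D), ⊤) from t₁) := by
      have h0 := congrArg (fun f : (restrictFunctor hV.fromSpec).obj (D.obj j) ⟶ _ =>
        f.app ⊤ (show Γ((restrictFunctor hV.fromSpec).obj (D.obj j), ⊤) from tj)) h1
      exact h0.trans htj
    have h4 : ∀ x : Γ((restrictFunctor hV.fromSpec).obj (colimit D), ⊤),
        (preservesColimitIso (restrictFunctor hV.fromSpec) D).inv.app ⊤
          ((preservesColimitIso (restrictFunctor hV.fromSpec) D).hom.app ⊤ x) = x := fun x =>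
      congrArg (fun f : (restrictFunctor hV.fromSpec).obj (colimit D) ⟶ _ => f.app ⊤ x)
        (preservesColimitIso (restrictFunctor hV.fromSpec) D).hom_inv_id
    have h3 := congrArg ((preservesColimitIso (restrictFunctor hV.fromSpec) D).inv.app ⊤) h2
    rw [h4, h4] at h3
    exact h3
  obtain ⟨j, tj, htj⟩ := key (res _ hle' t)
  refine ⟨j, res (D.obj j) hle tj, ?_⟩
  rw [QCExact.app_res', htj, res_res, res_self]

end Affine

end Groth.Agent.Lib.Helper3.FPExt
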