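import Groth.Agent.Lib.Helper3.FPExtG
import Groth.Agent.Lib.Helper3.GrTildeIso

/-!
# Quasi-coherent modules as filtered colimits of finitely presented modules: preliminaries
-/

set_option autoImplicit false
universe u
open CategoryTheory CategoryTheory.Limits AlgebraicGeometry TopologicalSpace Opposite
open Scheme.Modules

namespace Groth.Agent.Lib.Helper3.FPExt

open QCSec QCExtend

variable {X : Scheme.{u}}

section SigmaFP

/-- a finite coproduct of finitely presented modules is finitely presented -/
theorem isFinitePresentation_sigma {I : Type u} [Fintype I] (K : I → X.Modules)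
    [hK : ∀ a, SheafOfModules.IsFinitePresentation (R := X.ringCatSheaf) (K a)] :
    SheafOfModules.IsFinitePresentation (R := X.ringCatSheaf) (∐ K : X.Modules) := by
  classical
  haveI : ∀ a, (K a).IsQuasicoherent := fun a => inferInstance
  haveI : (∐ K : X.Modules).IsQuasicoherent := QCLim.isQuasicoherent_sigma K
  rw [QCProps.isFinitePresentation_iff_finitePresentation_sections]
  intro D hD
  haveI : ∀ a, Module.FinitePresentation Γ(X, D) Γ(K a, D) :=
    fun a => QCProps.finitePresentation_sections (K a) hD
  let f : (∀ a, Γ(K a, D)) →ₗ[Γ(X, D)] Γ((∐ K : X.Modules), D) :=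
    ∑ a, (QCProps.appₗ (Sigma.ι K a) D) ∘ₗ (LinearMap.proj a)
  have hf : ∀ v : (∀ a, Γ(K a, D)), f v = ∑ a, (Sigma.ι K a).app D (v a) := by
    intro v
    simp only [f, LinearMap.sum_apply, LinearMap.comp_apply, LinearMap.proj_apply,
      QCProps.appₗ_apply]
  have hπ : ∀ (b : I) (v : (∀ a, Γ(K a, D))), (Sigma.π K b).app D (f v) = v b := by
    intro b v
    rw [hf]
    have h1 : (Sigma.π K b).app D (∑ a, (Sigma.ι K a).app D (v a)) =
        ∑ a, (Sigma.π K b).app D ((Sigma.ι K a).app D (v a)) :=
      map_sum (QCProps.appₗ (Sigma.π K b) D) _ _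
    rw [h1, Finset.sum_eq_single b]
    · exact congrArg (fun φ : K b ⟶ K b => φ.app D (v b)) (Sigma.ι_π_eq_id K b)
    · intro a _ hab
      have h2 := congrArg (fun φ : K a ⟶ K b => φ.app D (v a)) (Sigma.ι_π_of_ne K hab)
      exact h2
    · intro h
      exact absurd (Finset.mem_univ b) h
  have hinj : Function.Injective f := by
    intro v w hvw
    funext b
    rw [← hπ b v, ← hπ b w, hvw]
  have hsurj : Function.Surjective f := by
    intro t
    refine ⟨fun a => (Sigma.π K a).app D t, ?_⟩
    rw [hf]
    have h0 := congrArg (fun φ : (∐ K : X.Modules) ⟶ (∐ K : X.Modules) => φ.app D t)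
      (sigma_total K)
    have h1 : (∑ a, Sigma.π K a ≫ Sigma.ι K a).app D t = t := h0
    rw [sum_app] at h1
    exact h1
  exact Module.FinitePresentation.of_equiv (LinearEquiv.ofBijective f ⟨hinj, hsurj⟩)

end SigmaFP

section Through

/-- every section of a quasi-coherent module over an affine open of a qcqs scheme is in the image
of a map from a finitely presented module -/
theorem exists_fp_through_section [CompactSpace X] [QuasiSeparatedSpace X] (F : X.Modules)
    [F.IsQuasicoherent] {V : X.Opens} (hV : IsAffineOpen V) (s : Γ(F, V)) :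
    ∃ (G : X.Modules) (φ : G ⟶ F), SheafOfModules.IsFinitePresentation (R := X.ringCatSheaf) G ∧
      ∃ g : Γ(G, V), φ.app V g = s := by
  obtain ⟨F₁, i, hi, hq, hft, g₀, hg₀⟩ := exists_ft_sub_through_section F hV s
  haveI := hq
  haveI := hft
  obtain ⟨L, σ, hL, hσ⟩ := exists_fp_epi F₁
  haveI := hL
  haveI : L.IsQuasicoherent := inferInstance
  obtain ⟨g, hg⟩ := (QCExact.epi_iff_surjective_on_affines σ).mp hσ V hV g₀
  refine ⟨L, σ ≫ i, hL, g, ?_⟩
  change i.app V (σ.app V g) = s
  rw [hg, hg₀]

end Through

section CokerSurj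

theorem cokernel_π_app_surjective {M G : X.Modules} (c : M ⟶ G) [M.IsQuasicoherent]
    [G.IsQuasicoherent] {D : X.Opens} (hD : IsAffineOpen D) :
    Function.Surjective ((cokernel.π c).app D) := by
  haveI : (cokernel c : X.Modules).IsQuasicoherent := QCProps.isQuasicoherent_cokernel c
  haveI hK : (kernel (cokernel.π c) : X.Modules).IsQuasicoherent :=
    QCProps.isQuasicoherent_kernel _
  have hS : (ShortComplex.mk (kernel.ι (cokernel.π c)) (cokernel.π c)
      (kernel.condition _)).ShortExact :=
    { exact := ShortComplex.exact_kernel _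
      mono_f := inferInstanceAs (Mono (kernel.ι (cokernel.π c)))
      epi_g := inferInstanceAs (Epi (cokernel.π c)) }
  exact QCExact.surjective_app_of_isAffineOpen _ hS hD

/-- a map out of a quasi-coherent module which vanishes on the sections over the members of an
affine cover is zero -/
theorem hom_eq_zero_of_app_eq_zero {M N : X.Modules} [M.IsQuasicoherent] [N.IsQuasicoherent]
    (z : M ⟶ N)
    (h : ∀ x : X, ∃ (U : X.Opens) (_ : IsAffineOpen U), x ∈ U ∧ ∀ t : Γ(M, U), z.app U t = 0) :
    z = 0 := by
  haveI : (kernel z : X.Modules).IsQuasicoherent := QCProps.isQuasicoherent_kernel z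
  haveI : Epi (kernel.ι z) := by
    apply QCExact.epi_of_surjective_on_affine_cover
    intro x
    obtain ⟨U, hU, hxU, hz⟩ := h x
    refine ⟨U, hU, hxU, ?_⟩
    intro t
    exact QCExact.exact_sections (ShortComplex.mk (kernel.ι z) z (kernel.condition z))
      (ShortComplex.exact_kernel z) U t (hz t)
  rw [← cancel_epi (kernel.ι z), kernel.condition, comp_zero]

end CokerSurj

end Groth.Agent.Lib.Helper3.FPExt
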