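import Groth.Agent.Lib.Helper3.FPExtH1

/-!
# Quasi-coherent modules as filtered colimits of finitely presented modules: the diagram
-/

set_option autoImplicit false
universe u
open CategoryTheory CategoryTheory.Limits AlgebraicGeometry TopologicalSpace Opposite
open Scheme.Modules

namespace Groth.Agent.Lib.Helper3.FPExt

open QCSec QCExtend

variable {X : Scheme.{u}}

section Absorb

variable {F G : X.Modules} (p : G ⟶ F) {A : Type u} (Kf : A → X.Modules)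
  (m : ∀ a, Kf a ⟶ kernel p)

theorem isQuasicoherent_Dobj [G.IsQuasicoherent] [∀ a, (Kf a).IsQuasicoherent] (S : Finset A) :
    ((Dfun p Kf m).obj S).IsQuasicoherent := by
  haveI : (∐ fun a : {x // x ∈ S} => Kf a.1 : X.Modules).IsQuasicoherent :=
    QCLim.isQuasicoherent_sigma _
  exact QCProps.isQuasicoherent_cokernel (cS p Kf m S)

theorem πS_mono {M : X.Modules} (u : M ⟶ G) {S S' : Finset A} (h : S ≤ S')
    (hu : u ≫ πS p Kf m S = 0) : u ≫ πS p Kf m S' = 0 := by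
  rw [← πS_map p Kf m (homOfLE h), ← Category.assoc, hu, zero_comp]

theorem πS_app_surjective [G.IsQuasicoherent] [∀ a, (Kf a).IsQuasicoherent] (S : Finset A)
    {D : X.Opens} (hD : IsAffineOpen D) : Function.Surjective ((πS p Kf m S).app D) := by
  haveI : (∐ fun a : {x // x ∈ S} => Kf a.1 : X.Modules).IsQuasicoherent :=
    QCLim.isQuasicoherent_sigma _
  exact cokernel_π_app_surjective (cS p Kf m S) hD

end Absorb

section Absorb2

variable {F G : X.Modules} (p : G ⟶ F) {ι₀ : Type u} (V : ι₀ → X.Opens)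
  (Kf : (Σ i : ι₀, Γ(kernel p, V i)) → X.Modules) (m : ∀ a, Kf a ⟶ kernel p)

set_option maxHeartbeats 400000 in
theorem exists_absorb [Fintype ι₀] [G.IsQuasicoherent] [∀ a, (Kf a).IsQuasicoherent]
    (hVa : ∀ i, IsAffineOpen (V i)) (hcov : ∀ x : X, ∃ i, x ∈ V i)
    (hsec : ∀ a : (Σ i : ι₀, Γ(kernel p, V i)), ∃ g : Γ(Kf a, V a.1), (m a).app (V a.1) g = a.2)
    {M : X.Modules} [M.IsQuasicoherent] (hM : ∀ i, Module.Finite Γ(X, V i) Γ(M, V i))
    (u : M ⟶ G) (hu : u ≫ p = 0) :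
    ∃ S : Finset (Σ i : ι₀, Γ(kernel p, V i)), u ≫ πS p Kf m S = 0 := by
  classical
  have hfg : ∀ i, ∃ Ti : Finset Γ(M, V i),
      Submodule.span Γ(X, V i) (Ti : Set Γ(M, V i)) = ⊤ := fun i => (hM i).fg_top
  choose Ti hTi using hfg
  obtain ⟨ũ, hũ⟩ : ∃ ũ : M ⟶ kernel p, ũ ≫ kernel.ι p = u :=
    ⟨kernel.lift p u hu, kernel.lift_ι _ _ _⟩
  obtain ⟨S, hS⟩ : ∃ S : Finset (Σ i : ι₀, Γ(kernel p, V i)),
      ∀ (i : ι₀) (t : Γ(M, V i)), t ∈ Ti i → (⟨i, ũ.app (V i) t⟩ : Σ i : ι₀, Γ(kernel p, V i)) ∈ S := by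
    refine ⟨Finset.univ.biUnion (fun i => (Ti i).image
      (fun t => (⟨i, ũ.app (V i) t⟩ : Σ i : ι₀, Γ(kernel p, V i)))), ?_⟩
    intro i t ht
    exact Finset.mem_biUnion.mpr ⟨i, Finset.mem_univ i, Finset.mem_image.mpr ⟨t, ht, rfl⟩⟩
  refine ⟨S, ?_⟩
  haveI : ((Dfun p Kf m).obj S).IsQuasicoherent := isQuasicoherent_Dobj p Kf m S
  apply hom_eq_zero_of_app_eq_zero
  intro x
  obtain ⟨i, hxi⟩ := hcov x
  refine ⟨V i, hVa i, hxi, ?_⟩
  have hgen : ∀ t ∈ Ti i, (u ≫ πS p Kf m S).app (V i) t = 0 := by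
    intro t ht
    have ha := hS i t ht
    obtain ⟨g, hg⟩ : ∃ g : Γ(Kf ⟨i, ũ.app (V i) t⟩, V i),
        (m ⟨i, ũ.app (V i) t⟩).app (V i) g = ũ.app (V i) t := hsec ⟨i, ũ.app (V i) t⟩
    have h1 := ι_cS p Kf m S ⟨⟨i, ũ.app (V i) t⟩, ha⟩
    have e1 : u.app (V i) t = (kernel.ι p).app (V i) (ũ.app (V i) t) :=
      congrArg (fun φ : M ⟶ G => φ.app (V i) t) hũ.symm
    have e2 := congrArg (fun φ : Kf ⟨i, ũ.app (V i) t⟩ ⟶ G => φ.app (V i) g) h1
    have h2 : u.app (V i) t = (cS p Kf m S).app (V i)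
        ((Sigma.ι (fun a : {x // x ∈ S} => Kf a.1) ⟨⟨i, ũ.app (V i) t⟩, ha⟩).app (V i) g) :=
      e1.trans ((congrArg ((kernel.ι p).app (V i)) hg.symm).trans e2.symm)
    change (πS p Kf m S).app (V i) (u.app (V i) t) = 0
    rw [h2]
    exact congrArg (fun φ : (∐ fun a : {x // x ∈ S} => Kf a.1 : X.Modules) ⟶ _ =>
      φ.app (V i) _) (cS_πS p Kf m S)
  have hlin : QCProps.appₗ (u ≫ πS p Kf m S) (V i) = 0 :=
    LinearMap.ext_on (hTi i) (fun t ht => hgen t ht)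
  intro t
  exact LinearMap.congr_fun hlin t

end Absorb2

section Index

variable {F : X.Modules} {B : Type u} (Gb : B → X.Modules) (φb : ∀ b, Gb b ⟶ F)

/-- the finite sums of the `Gb b` -/
noncomputable abbrev GT (T : Finset B) : X.Modules := ∐ fun b : {x // x ∈ T} => Gb b.1

noncomputable def φT (T : Finset B) : GT Gb T ⟶ F := Sigma.desc (fun b => φb b.1)

noncomputable def jT {T T' : Finset B} (h : T ≤ T') : GT Gb T ⟶ GT Gb T' :=
  Sigma.desc (fun b => Sigma.ι (fun b : {x // x ∈ T'} => Gb b.1) ⟨b.1, h b.2⟩)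

@[reassoc]
theorem ι_jT {T T' : Finset B} (h : T ≤ T') (b : {x // x ∈ T}) :
    Sigma.ι (fun b : {x // x ∈ T} => Gb b.1) b ≫ jT Gb h =
      Sigma.ι (fun b : {x // x ∈ T'} => Gb b.1) ⟨b.1, h b.2⟩ := by
  unfold jT
  exact Sigma.ι_desc _ _

@[reassoc]
theorem ι_φT (T : Finset B) (b : {x // x ∈ T}) :
    Sigma.ι (fun b : {x // x ∈ T} => Gb b.1) b ≫ φT Gb φb T = φb b.1 := by
  unfold φT
  exact Sigma.ι_desc _ _

@[reassoc]
theorem jT_φT {T T' : Finset B} (h : T ≤ T') : jT Gb h ≫ φT Gb φb T' = φT Gb φb T := by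
  apply Sigma.hom_ext
  intro b
  rw [ι_jT_assoc, ι_φT, ι_φT]

theorem jT_refl (T : Finset B) : jT Gb (le_refl T) = 𝟙 _ := by
  apply Sigma.hom_ext
  intro b
  rw [ι_jT, Category.comp_id]

@[reassoc]
theorem jT_trans {T T' T'' : Finset B} (h : T ≤ T') (h' : T' ≤ T'') :
    jT Gb h ≫ jT Gb h' = jT Gb (h.trans h') := by
  apply Sigma.hom_ext
  intro b
  rw [ι_jT_assoc, ι_jT, ι_jT]

end Index

end Groth.Agent.Lib.Helper3.FPExt
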