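import Groth.Agent.Lib.Helper3.FPExtH2

/-!
# Quasi-coherent modules as filtered colimits of finitely presented modules: the index category
-/

set_option autoImplicit false
universe u
open CategoryTheory CategoryTheory.Limits AlgebraicGeometry TopologicalSpace Opposite
open Scheme.Modules

namespace Groth.Agent.Lib.Helper3.FPExt

open QCSec QCExtend

variable {X : Scheme.{u}}

section Diagram

variable {F : X.Modules} {B : Type u} (Gb : B → X.Modules) (φb : ∀ b, Gb b ⟶ F)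
  {ι₀ : Type u} (V : ι₀ → X.Opens)

/-- index type of the relations over `T` -/
abbrev AT (T : Finset B) : Type u := Σ i : ι₀, Γ(kernel (φT Gb φb T), V i)

/-- the index category: finite sets of generators and finite sets of relations -/
structure Idx (Kf : ∀ T, AT Gb φb V T → X.Modules)
    (m : ∀ (T : Finset B) (a : AT Gb φb V T), Kf T a ⟶ kernel (φT Gb φb T)) where
  T : Finset B
  S : Finset (AT Gb φb V T)

variable {Gb φb V}
variable {Kf : ∀ T, AT Gb φb V T → X.Modules}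
  {m : ∀ (T : Finset B) (a : AT Gb φb V T), Kf T a ⟶ kernel (φT Gb φb T)}

namespace Idx

/-- the object `G_T / Σ_{a ∈ S} K_a` -/
noncomputable abbrev obj (x : Idx Gb φb V Kf m) : X.Modules :=
  (Dfun (φT Gb φb x.T) (Kf x.T) (m x.T)).obj x.S

noncomputable abbrev c (x : Idx Gb φb V Kf m) :
    (∐ fun a : {a // a ∈ x.S} => Kf x.T a.1 : X.Modules) ⟶ GT Gb x.T :=
  cS (φT Gb φb x.T) (Kf x.T) (m x.T) x.S

noncomputable abbrev π (x : Idx Gb φb V Kf m) : GT Gb x.T ⟶ x.obj :=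
  πS (φT Gb φb x.T) (Kf x.T) (m x.T) x.S

noncomputable abbrev leg (x : Idx Gb φb V Kf m) : x.obj ⟶ F :=
  Dιapp (φT Gb φb x.T) (Kf x.T) (m x.T) x.S

@[reassoc]
theorem π_leg (x : Idx Gb φb V Kf m) : x.π ≫ x.leg = φT Gb φb x.T := πS_ιapp _ _ _ _

@[reassoc]
theorem c_π (x : Idx Gb φb V Kf m) : x.c ≫ x.π = 0 := cS_πS _ _ _ _

/-- the order relation -/
def le (x y : Idx Gb φb V Kf m) : Prop := ∃ h : x.T ≤ y.T, x.c ≫ jT Gb h ≫ y.π = 0

/-- the transition maps -/
noncomputable def dmapOf (x y : Idx Gb φb V Kf m) (h : x.T ≤ y.T)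
    (e : x.c ≫ jT Gb h ≫ y.π = 0) : x.obj ⟶ y.obj :=
  cokernel.desc x.c (jT Gb h ≫ y.π) e

@[reassoc]
theorem π_dmapOf (x y : Idx Gb φb V Kf m) (h : x.T ≤ y.T) (e : x.c ≫ jT Gb h ≫ y.π = 0) :
    x.π ≫ dmapOf x y h e = jT Gb h ≫ y.π := cokernel.π_desc _ _ _

theorem le_refl' (x : Idx Gb φb V Kf m) : le x x :=
  ⟨le_refl _, by rw [jT_refl, Category.id_comp]; exact c_π x⟩

theorem le_trans' {x y z : Idx Gb φb V Kf m} : le x y → le y z → le x z := by
  rintro ⟨h1, e1⟩ ⟨h2, e2⟩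
  refine ⟨h1.trans h2, ?_⟩
  rw [← jT_trans Gb h1 h2, Category.assoc, ← π_dmapOf y z h2 e2, ← Category.assoc,
    ← Category.assoc, Category.assoc x.c, e1, zero_comp]

instance : Preorder (Idx Gb φb V Kf m) where
  le := le
  le_refl := le_refl'
  le_trans := fun _ _ _ => le_trans'

theorem le_def {x y : Idx Gb φb V Kf m} (h : x ≤ y) :
    ∃ h : x.T ≤ y.T, x.c ≫ jT Gb h ≫ y.π = 0 := h

end Idx

open Idx

variable (Gb φb V Kf m)

/-- the diagram -/
noncomputable def Dfun2 : Idx Gb φb V Kf m ⥤ X.Modules where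
  obj x := x.obj
  map {x y} f := dmapOf x y (le_def (leOfHom f)).choose (le_def (leOfHom f)).choose_spec
  map_id x := by
    rw [← cancel_epi x.π, π_dmapOf, jT_refl, Category.id_comp, Category.comp_id]
  map_comp {x y z} f g := by
    rw [← cancel_epi x.π, π_dmapOf, π_dmapOf_assoc, π_dmapOf, jT_trans_assoc]

/-- the projection `G_T ⟶ D(T,S)` -/
noncomputable def π2 (x : Idx Gb φb V Kf m) : GT Gb x.T ⟶ (Dfun2 Gb φb V Kf m).obj x := x.π

instance (x : Idx Gb φb V Kf m) : Epi (π2 Gb φb V Kf m x) :=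
  inferInstanceAs (Epi (πS (φT Gb φb x.T) (Kf x.T) (m x.T) x.S))

theorem π2_app_surjective [hGq : ∀ T, (GT Gb T).IsQuasicoherent]
    [hKq : ∀ T a, (Kf T a).IsQuasicoherent] (x : Idx Gb φb V Kf m) {D : X.Opens}
    (hD : IsAffineOpen D) : Function.Surjective ((π2 Gb φb V Kf m x).app D) :=
  πS_app_surjective _ _ _ _ hD

/-- the legs of the cocone -/
noncomputable def leg2 (x : Idx Gb φb V Kf m) : (Dfun2 Gb φb V Kf m).obj x ⟶ F := x.leg

@[reassoc]
theorem π2_leg2 (x : Idx Gb φb V Kf m) :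
    π2 Gb φb V Kf m x ≫ leg2 Gb φb V Kf m x = φT Gb φb x.T := π_leg x

@[reassoc]
theorem c_π2 (x : Idx Gb φb V Kf m) : x.c ≫ π2 Gb φb V Kf m x = 0 := c_π x

@[reassoc]
theorem π2_map {x y : Idx Gb φb V Kf m} (f : x ⟶ y) :
    π2 Gb φb V Kf m x ≫ (Dfun2 Gb φb V Kf m).map f =
      jT Gb (le_def (leOfHom f)).choose ≫ π2 Gb φb V Kf m y :=
  π_dmapOf _ _ _ _

/-- the cocone with vertex `F` -/
noncomputable def cocone2 : Cocone (Dfun2 Gb φb V Kf m) where
  pt := F
  ι :=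
    { app := fun x => leg2 Gb φb V Kf m x
      naturality := fun x y f => by
        rw [← cancel_epi (π2 Gb φb V Kf m x), π2_map_assoc, π2_leg2, jT_φT, π2_leg2_assoc]
        exact (Category.comp_id _).symm }

/-- the comparison map from the colimit to `F` -/
noncomputable def γ : (colimit (Dfun2 Gb φb V Kf m) : X.Modules) ⟶ F :=
  colimit.desc (Dfun2 Gb φb V Kf m) (cocone2 Gb φb V Kf m)

@[reassoc]
theorem ι_γ (x : Idx Gb φb V Kf m) :
    colimit.ι (Dfun2 Gb φb V Kf m) x ≫ γ Gb φb V Kf m = leg2 Gb φb V Kf m x :=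
  colimit.ι_desc _ _

@[reassoc]
theorem π2_ι_γ (x : Idx Gb φb V Kf m) :
    π2 Gb φb V Kf m x ≫ colimit.ι (Dfun2 Gb φb V Kf m) x ≫ γ Gb φb V Kf m = φT Gb φb x.T := by
  rw [ι_γ, π2_leg2]


end Diagram

end Groth.Agent.Lib.Helper3.FPExt
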