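import Groth.Agent.Lib.Helper3.FPExtH3

/-!
# Quasi-coherent modules as filtered colimits of finitely presented modules (Stacks 01PJ)
-/

set_option autoImplicit false
universe u
open CategoryTheory CategoryTheory.Limits AlgebraicGeometry TopologicalSpace Opposite
open Scheme.Modules

namespace Groth.Agent.Lib.Helper3.FPExt

open QCSec QCExtend Idx

variable {X : Scheme.{u}}

section Filtered

variable {F : X.Modules} {B : Type u} (Gb : B → X.Modules) (φb : ∀ b, Gb b ⟶ F)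
  {ι₀ : Type u} [Fintype ι₀] (V : ι₀ → X.Opens)
  (Kf : ∀ T, AT Gb φb V T → X.Modules)
  (m : ∀ (T : Finset B) (a : AT Gb φb V T), Kf T a ⟶ kernel (φT Gb φb T))
  (hVa : ∀ i, IsAffineOpen (V i)) (hcov : ∀ x : X, ∃ i, x ∈ V i)
  (hsec : ∀ (T : Finset B) (a : AT Gb φb V T),
    ∃ g : Γ(Kf T a, V a.1), (m T a).app (V a.1) g = a.2)
  [hGq : ∀ T, (GT Gb T).IsQuasicoherent] [hKq : ∀ T a, (Kf T a).IsQuasicoherent]
  [hKft : ∀ T a, (Kf T a).IsFiniteType]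

include hVa hcov hsec in
set_option maxHeartbeats 400000 in
theorem directed_Idx (x y : Idx Gb φb V Kf m) : ∃ z, x ≤ z ∧ y ≤ z := by
  classical
  have hx : x.T ≤ x.T ∪ y.T := Finset.subset_union_left
  have hy : y.T ≤ x.T ∪ y.T := Finset.subset_union_right
  haveI : (∐ fun a : {a // a ∈ x.S} => Kf x.T a.1 : X.Modules).IsQuasicoherent :=
    QCLim.isQuasicoherent_sigma _
  haveI : (∐ fun a : {a // a ∈ y.S} => Kf y.T a.1 : X.Modules).IsQuasicoherent :=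
    QCLim.isQuasicoherent_sigma _
  obtain ⟨S₁, h₁⟩ := exists_absorb (φT Gb φb (x.T ∪ y.T)) V (Kf (x.T ∪ y.T)) (m (x.T ∪ y.T))
    hVa hcov (hsec _)
    (fun i => finite_sections_sigma (fun a : {a // a ∈ x.S} => Kf x.T a.1) (hVa i))
    (x.c ≫ jT Gb hx) (by rw [Category.assoc, jT_φT]; exact cS_comp_p _ _ _ _)
  obtain ⟨S₂, h₂⟩ := exists_absorb (φT Gb φb (x.T ∪ y.T)) V (Kf (x.T ∪ y.T)) (m (x.T ∪ y.T))
    hVa hcov (hsec _)
    (fun i => finite_sections_sigma (fun a : {a // a ∈ y.S} => Kf y.T a.1) (hVa i))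
    (y.c ≫ jT Gb hy) (by rw [Category.assoc, jT_φT]; exact cS_comp_p _ _ _ _)
  refine ⟨⟨x.T ∪ y.T, S₁ ∪ S₂⟩, ⟨hx, ?_⟩, ⟨hy, ?_⟩⟩
  · have h3 := πS_mono _ _ _ (x.c ≫ jT Gb hx)
      (Finset.subset_union_left : S₁ ≤ S₁ ∪ S₂) h₁
    rwa [Category.assoc] at h3
  · have h3 := πS_mono _ _ _ (y.c ≫ jT Gb hy)
      (Finset.subset_union_right : S₂ ≤ S₁ ∪ S₂) h₂
    rwa [Category.assoc] at h3

include hVa hcov hsec in
theorem isFiltered_Idx : IsFiltered (Idx Gb φb V Kf m) := by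
  haveI : IsDirected (Idx Gb φb V Kf m) (· ≤ ·) :=
    ⟨directed_Idx Gb φb V Kf m hVa hcov hsec⟩
  haveI : Nonempty (Idx Gb φb V Kf m) := ⟨⟨∅, ∅⟩⟩
  infer_instance

end Filtered

section AppComp

theorem app_comp_apply {M N P : X.Modules} (f : M ⟶ N) (g : N ⟶ P) (U : X.Opens) (t : Γ(M, U)) :
    (f ≫ g).app U t = g.app U (f.app U t) := rfl

end AppComp

section Colim

variable {F : X.Modules} {ι₀ : Type u} [Fintype ι₀] (V : ι₀ → X.Opens)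
  (Gb : (Σ i : ι₀, Γ(F, V i)) → X.Modules) (φb : ∀ b, Gb b ⟶ F)
  (Kf : ∀ T, AT Gb φb V T → X.Modules)
  (m : ∀ (T : Finset (Σ i : ι₀, Γ(F, V i))) (a : AT Gb φb V T),
    Kf T a ⟶ kernel (φT Gb φb T))
  (hVa : ∀ i, IsAffineOpen (V i)) (hcov : ∀ x : X, ∃ i, x ∈ V i)
  (hbsec : ∀ b : (Σ i : ι₀, Γ(F, V i)), ∃ g : Γ(Gb b, V b.1), (φb b).app (V b.1) g = b.2)
  (hsec : ∀ (T : Finset (Σ i : ι₀, Γ(F, V i))) (a : AT Gb φb V T),
    ∃ g : Γ(Kf T a, V a.1), (m T a).app (V a.1) g = a.2)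
  [hFq : F.IsQuasicoherent]
  [hGq : ∀ T, (GT Gb T).IsQuasicoherent] [hKq : ∀ T a, (Kf T a).IsQuasicoherent]
  [hKft : ∀ T a, (Kf T a).IsFiniteType]

end Colim

end Groth.Agent.Lib.Helper3.FPExt
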