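import Groth.Agent.Lib.Helper3.FPExtH5
import Mathlib.CategoryTheory.Limits.ConcreteCategory.WithAlgebraicStructures

/-!
# Sections over affine opens of filtered colimits of quasi-coherent modules: injectivity part
-/

set_option autoImplicit false
universe u
open CategoryTheory CategoryTheory.Limits AlgebraicGeometry TopologicalSpace Opposite
open Scheme.Modules

namespace Groth.Agent.Lib.Helper3.FPExt

open QCSec QCExtend

section Spec

variable {R : CommRingCat.{u}} {J : Type u} [SmallCategory J]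
  (F : J ⥤ (Spec R).Modules) (hF : ∀ j, (F.obj j).IsQuasicoherent)

include hF in
set_option maxHeartbeats 400000 in
theorem exists_map_eq_zero_spec [IsFiltered J] (j : J)
    (tj : ↑(moduleSpecΓFunctor.obj (F.obj j)))
    (h : (moduleSpecΓFunctor.map (colimit.ι F j)).hom tj = 0) :
    ∃ (k : J) (f : j ⟶ k), (moduleSpecΓFunctor.map (F.map f)).hom tj = 0 := by
  have h0 : (ΓcolimHom F hF).hom ((colimit.ι (F ⋙ moduleSpecΓFunctor) j).hom tj) = 0 := by
    have h3 := congrArg (fun φ : (F ⋙ moduleSpecΓFunctor).obj j ⟶ _ => φ.hom tj)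
      (ι_ΓcolimHom F hF j)
    exact h3.trans h
  have h1 : (colimit.ι (F ⋙ moduleSpecΓFunctor) j).hom tj = 0 := by
    have h4 := congrArg (fun f : colimit (F ⋙ moduleSpecΓFunctor) ⟶ _ =>
      f.hom ((colimit.ι (F ⋙ moduleSpecΓFunctor) j).hom tj)) (IsIso.hom_inv_id (ΓcolimHom F hF))
    have h5 : (inv (ΓcolimHom F hF)).hom
        ((ΓcolimHom F hF).hom ((colimit.ι (F ⋙ moduleSpecΓFunctor) j).hom tj)) =
        (colimit.ι (F ⋙ moduleSpecΓFunctor) j).hom tj := h4
    rw [← h5, h0, map_zero]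
  obtain ⟨k, f, hk⟩ := Concrete.colimit_rep_eq_zero (R := ↑R) (F ⋙ moduleSpecΓFunctor) j tj h1
  exact ⟨k, f, hk⟩

end Spec

section Affine

variable {X : Scheme.{u}} {J : Type u} [SmallCategory J] [IsFiltered J] (D : J ⥤ X.Modules)
  (hD : ∀ j, (D.obj j).IsQuasicoherent)

include hD in
set_option maxHeartbeats 400000 in
/-- a section over an affine open of a stage of a filtered system of quasi-coherent modules
which dies in the colimit dies at a later stage -/
theorem exists_map_eq_zero_sections_colimit {V : X.Opens} (hV : IsAffineOpen V) (j : J)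
    (tj : Γ(D.obj j, V)) (h : (colimit.ι D j).app V tj = 0) :
    ∃ (k : J) (f : j ⟶ k), (D.map f).app V tj = 0 := by
  haveI : PreservesColimitsOfSize.{u, u} (restrictFunctor hV.fromSpec) :=
    (restrictAdjunction hV.fromSpec).leftAdjoint_preservesColimits
  have hF : ∀ j, ((D ⋙ restrictFunctor hV.fromSpec).obj j).IsQuasicoherent := fun j => by
    haveI := hD j
    exact Scheme.Modules.isQuasicoherent_restrictFunctor hV.fromSpec (D.obj j)
  have hle : V ≤ hV.fromSpec ''ᵁ ⊤ := QS.le_image_top hV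
  have hle' : hV.fromSpec ''ᵁ ⊤ ≤ V := QS.image_le hV ⊤
  have key : ∀ t₁ : Γ(D.obj j, hV.fromSpec ''ᵁ ⊤),
      (colimit.ι D j).app (hV.fromSpec ''ᵁ ⊤) t₁ = 0 →
      ∃ (k : J) (f : j ⟶ k), (D.map f).app (hV.fromSpec ''ᵁ ⊤) t₁ = 0 := by
    intro t₁ ht₁
    have h1 : (restrictFunctor hV.fromSpec).map (colimit.ι D j) ≫
        (preservesColimitIso (restrictFunctor hV.fromSpec) D).hom =
        colimit.ι (D ⋙ restrictFunctor hV.fromSpec) j := ι_preservesColimitIso_hom _ _ _
    have h0 := congrArg (fun f : (restrictFunctor hV.fromSpec).obj (D.obj j) ⟶ _ =>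
        f.app ⊤ (show Γ((restrictFunctor hV.fromSpec).obj (D.obj j), ⊤) from t₁)) h1
    have h2 : (colimit.ι (D ⋙ restrictFunctor hV.fromSpec) j).app ⊤
        (show Γ((restrictFunctor hV.fromSpec).obj (D.obj j), ⊤) from t₁) = 0 := by
      rw [← h0]
      change (preservesColimitIso (restrictFunctor hV.fromSpec) D).hom.app ⊤
        (show Γ((restrictFunctor hV.fromSpec).obj (colimit D), ⊤) from
          (colimit.ι D j).app (hV.fromSpec ''ᵁ ⊤) t₁) = 0
      rw [ht₁]
      exact QCExact.app_zero _ _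
    obtain ⟨k, f, hk⟩ := exists_map_eq_zero_spec (D ⋙ restrictFunctor hV.fromSpec) hF j
      (show ↑(moduleSpecΓFunctor.obj ((D ⋙ restrictFunctor hV.fromSpec).obj j)) from t₁) h2
    exact ⟨k, f, hk⟩
  obtain ⟨k, f, hk⟩ := key (res _ hle' tj) (by rw [QCExact.app_res', h]; exact map_zero _)
  refine ⟨k, f, ?_⟩
  have h3 := congrArg (res (D.obj k) hle) hk
  rw [← QCExact.app_res', res_res, res_self] at h3
  rw [h3]
  exact map_zero _

end Affine

section Cocone

variable {X : Scheme.{u}} {J : Type u} [SmallCategory J] [IsFiltered J] (D : J ⥤ X.Modules)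
  (hD : ∀ j, (D.obj j).IsQuasicoherent) {c : Cocone D} (hc : IsColimit c)

include hD hc in
theorem exists_rep_sections_isColimit {V : X.Opens} (hV : IsAffineOpen V)
    (t : Γ(c.pt, V)) :
    ∃ (j : J) (tj : Γ(D.obj j, V)), (c.ι.app j).app V tj = t := by
  set e := colimit.isoColimitCocone ⟨c, hc⟩ with he
  obtain ⟨j, tj, htj⟩ := exists_rep_sections_colimit D hD hV (e.inv.app V t)
  refine ⟨j, tj, ?_⟩
  have h1 : colimit.ι D j ≫ e.hom = c.ι.app j := colimit.isoColimitCocone_ι_hom ⟨c, hc⟩ j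
  have h2 := congrArg (fun φ : D.obj j ⟶ c.pt => φ.app V tj) h1
  have h3 : e.hom.app V ((colimit.ι D j).app V tj) = (c.ι.app j).app V tj := h2
  rw [← h3, htj]
  exact congrArg (fun φ : c.pt ⟶ c.pt => φ.app V t) e.inv_hom_id

include hD hc in
theorem exists_map_eq_zero_sections_isColimit {V : X.Opens} (hV : IsAffineOpen V) (j : J)
    (tj : Γ(D.obj j, V)) (h : (c.ι.app j).app V tj = 0) :
    ∃ (k : J) (f : j ⟶ k), (D.map f).app V tj = 0 := by
  set e := colimit.isoColimitCocone ⟨c, hc⟩ with he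
  apply exists_map_eq_zero_sections_colimit D hD hV j tj
  have h1 : c.ι.app j ≫ e.inv = colimit.ι D j := colimit.isoColimitCocone_ι_inv ⟨c, hc⟩ j
  have h2 := congrArg (fun φ : D.obj j ⟶ colimit D => φ.app V tj) h1
  have h3 : e.inv.app V ((c.ι.app j).app V tj) = (colimit.ι D j).app V tj := h2
  rw [← h3, h]
  exact map_zero _

end Cocone

end Groth.Agent.Lib.Helper3.FPExt
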