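import Groth.Agent.Lib.Helper3.FPExtI1

/-!
# Morphisms from finitely presented modules into filtered colimits of quasi-coherent modules
-/

set_option autoImplicit false
universe u
open CategoryTheory CategoryTheory.Limits AlgebraicGeometry TopologicalSpace Opposite
open Scheme.Modules

namespace Groth.Agent.Lib.Helper3.FPExt

open QCSec QCExtend

section Cocone

variable {X : Scheme.{u}} {J : Type u} [SmallCategory J] [IsFiltered J] (D : J ⥤ X.Modules)
  (hD : ∀ j, (D.obj j).IsQuasicoherent) {c : Cocone D} (hc : IsColimit c)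

include hD hc in
set_option maxHeartbeats 400000 in
/-- a morphism from a module with finitely generated sections on a finite affine cover into a
stage of a filtered system of quasi-coherent modules which dies in the colimit dies at a later
stage -/
theorem exists_comp_map_eq_zero {ι₀ : Type u} [Finite ι₀] (V : ι₀ → X.Opens)
    (hVa : ∀ i, IsAffineOpen (V i)) (hcov : ∀ x : X, ∃ i, x ∈ V i)
    {N : X.Modules} [N.IsQuasicoherent] (hN : ∀ i, Module.Finite Γ(X, V i) Γ(N, V i))
    (j : J) (δ : N ⟶ D.obj j) (hδ : δ ≫ c.ι.app j = 0) :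
    ∃ (k : J) (f : j ⟶ k), δ ≫ D.map f = 0 := by
  classical
  have := Fintype.ofFinite ι₀
  have hfg : ∀ i, ∃ Ti : Finset Γ(N, V i),
      Submodule.span Γ(X, V i) (Ti : Set Γ(N, V i)) = ⊤ := fun i => (hN i).fg_top
  choose Ti hTi using hfg
  have step : ∀ S : Finset (Σ i : ι₀, {t // t ∈ Ti i}), ∃ (k : J) (f : j ⟶ k),
      ∀ a ∈ S, (D.map f).app (V a.1) (δ.app (V a.1) a.2.1) = 0 := by
    intro S
    induction S using Finset.induction_on with
    | empty => exact ⟨j, 𝟙 j, fun a ha => absurd ha (Finset.notMem_empty a)⟩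
    | insert a S _ ih =>
      obtain ⟨k₁, f₁, h₁⟩ := ih
      have h0 : (c.ι.app j).app (V a.1) (δ.app (V a.1) a.2.1) = 0 :=
        congrArg (fun φ : N ⟶ c.pt => φ.app (V a.1) a.2.1) hδ
      obtain ⟨k₂, f₂, h₂⟩ := exists_map_eq_zero_sections_isColimit D hD hc (hVa a.1) j _ h0
      obtain ⟨k, g₁, g₂, hg⟩ := IsFiltered.span f₁ f₂
      refine ⟨k, f₁ ≫ g₁, ?_⟩
      intro b hb
      rcases Finset.mem_insert.mp hb with rfl | hb
      · rw [hg, D.map_comp, app_comp_apply, h₂]
        exact map_zero _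
      · rw [D.map_comp, app_comp_apply, h₁ b hb]
        exact map_zero _
  obtain ⟨k, f, hk⟩ := step Finset.univ
  refine ⟨k, f, ?_⟩
  haveI := hD k
  apply hom_eq_zero_of_app_eq_zero
  intro x
  obtain ⟨i, hxi⟩ := hcov x
  refine ⟨V i, hVa i, hxi, ?_⟩
  have hlin : QCProps.appₗ (δ ≫ D.map f) (V i) = 0 :=
    LinearMap.ext_on (hTi i) (fun t ht => hk ⟨i, ⟨t, ht⟩⟩ (Finset.mem_univ _))
  intro t
  exact LinearMap.congr_fun hlin t

include hD hc in
set_option maxHeartbeats 400000 in
/-- on a qcqs scheme a morphism from a finitely presented module into a filtered colimit of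
quasi-coherent modules factors through a stage -/
theorem exists_lift_of_isColimit [CompactSpace X] [QuasiSeparatedSpace X]
    (M : X.Modules) [hM : SheafOfModules.IsFinitePresentation (R := X.ringCatSheaf) M]
    (φ : M ⟶ c.pt) : ∃ (j : J) (ψ : M ⟶ D.obj j), ψ ≫ c.ι.app j = φ := by
  classical
  haveI : M.IsQuasicoherent := inferInstance
  haveI hCq : c.pt.IsQuasicoherent :=
    (SheafOfModules.isQuasicoherent X.ringCatSheaf).prop_of_iso
      (colimit.isoColimitCocone ⟨c, hc⟩) (QCLim.isQuasicoherent_colimit D hD)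
  obtain ⟨ι₀, hι₀, V, hVa, -, hcov⟩ :=
    exists_finite_affine_cover (⊤ : X.Opens)
      (by simpa using (isCompact_univ : IsCompact (Set.univ : Set X)))
  have := Fintype.ofFinite ι₀
  have hcov' : ∀ x : X, ∃ i, x ∈ V i :=
    fun x => Opens.mem_iSup.mp (hcov (show x ∈ (⊤ : X.Opens) from trivial))
  have hfg : ∀ i, ∃ Ti : Finset Γ(M, V i),
      Submodule.span Γ(X, V i) (Ti : Set Γ(M, V i)) = ⊤ :=
    fun i => (QCProps.finite_sections M (hVa i)).fg_top
  choose Ti hTi using hfg
  -- Step 1: a common stage for the images of the generators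
  have step1 : ∀ S : Finset (Σ i : ι₀, {t // t ∈ Ti i}), ∃ j : J, ∀ a ∈ S,
      ∃ ta : Γ(D.obj j, V a.1), (c.ι.app j).app (V a.1) ta = φ.app (V a.1) a.2.1 := by
    intro S
    induction S using Finset.induction_on with
    | empty =>
      exact ⟨Classical.choice IsFiltered.nonempty, fun a ha => absurd ha (Finset.notMem_empty a)⟩
    | insert a S _ ih =>
      obtain ⟨j₁, h₁⟩ := ih
      obtain ⟨j₂, t₂, ht₂⟩ :=
        exists_rep_sections_isColimit D hD hc (hVa a.1) (φ.app (V a.1) a.2.1)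
      refine ⟨IsFiltered.max j₁ j₂, ?_⟩
      intro b hb
      rcases Finset.mem_insert.mp hb with rfl | hb
      · refine ⟨(D.map (IsFiltered.rightToMax j₁ j₂)).app _ t₂, ?_⟩
        rw [← app_comp_apply, c.w]
        exact ht₂
      · obtain ⟨tb, htb⟩ := h₁ b hb
        refine ⟨(D.map (IsFiltered.leftToMax j₁ j₂)).app _ tb, ?_⟩
        rw [← app_comp_apply, c.w]
        exact htb
  obtain ⟨j, hj⟩ := step1 Finset.univ
  haveI := hD j
  haveI hBq : (M ⊞ D.obj j : X.Modules).IsQuasicoherent := QCLim.isQuasicoherent_biprod _ _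
  -- Step 2: the fibre product, as a kernel
  obtain ⟨Φ, hΦ⟩ : ∃ Φ : (M ⊞ D.obj j : X.Modules) ⟶ c.pt,
      Φ = biprod.fst ≫ φ - biprod.snd ≫ c.ι.app j := ⟨_, rfl⟩
  haveI hPq : (kernel Φ : X.Modules).IsQuasicoherent := QCProps.isQuasicoherent_kernel Φ
  have hcond : (kernel.ι Φ ≫ biprod.fst) ≫ φ = (kernel.ι Φ ≫ biprod.snd) ≫ c.ι.app j := by
    have h0 : kernel.ι Φ ≫ (biprod.fst ≫ φ - biprod.snd ≫ c.ι.app j) = 0 := by
      rw [← hΦ]
      exact kernel.condition Φ
    rw [Preadditive.comp_sub] at h0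
    rw [Category.assoc, Category.assoc]
    exact sub_eq_zero.mp h0
  have hsec : ∀ a : (Σ i : ι₀, {t // t ∈ Ti i}), ∃ (G : X.Modules) (γ : G ⟶ kernel Φ),
      SheafOfModules.IsFinitePresentation (R := X.ringCatSheaf) G ∧
      ∃ g : Γ(G, V a.1), (γ ≫ kernel.ι Φ ≫ biprod.fst).app (V a.1) g = a.2.1 := by
    intro a
    obtain ⟨ta, hta⟩ := hj a (Finset.mem_univ a)
    have hx : Φ.app (V a.1) ((biprod.inl : M ⟶ M ⊞ D.obj j).app (V a.1) a.2.1 +
        (biprod.inr : D.obj j ⟶ M ⊞ D.obj j).app (V a.1) ta) = 0 := by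
      rw [QCExact.app_add, ← app_comp_apply, ← app_comp_apply, hΦ, Preadditive.comp_sub,
        Preadditive.comp_sub, biprod.inl_fst_assoc, biprod.inl_snd_assoc, biprod.inr_fst_assoc,
        biprod.inr_snd_assoc, zero_comp, zero_comp, sub_zero, zero_sub]
      have e1 : (-(c.ι.app j)).app (V a.1) ta = -((c.ι.app j).app (V a.1) ta) :=
        map_neg (evalHom (N := c.pt) (V a.1) ta) (c.ι.app j)
      rw [e1, hta]
      exact add_neg_cancel _
    obtain ⟨p, hp⟩ := QCExact.exact_sections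
      (ShortComplex.mk (kernel.ι Φ) Φ (kernel.condition Φ)) (ShortComplex.exact_kernel Φ)
      (V a.1) _ hx
    obtain ⟨G, γ, hG, g, hg⟩ := exists_fp_through_section (kernel Φ) (hVa a.1) p
    refine ⟨G, γ, hG, g, ?_⟩
    rw [app_comp_apply, app_comp_apply, hg]
    have hp' : (kernel.ι Φ).app (V a.1) p = (biprod.inl : M ⟶ M ⊞ D.obj j).app (V a.1) a.2.1 +
        (biprod.inr : D.obj j ⟶ M ⊞ D.obj j).app (V a.1) ta := hp
    rw [hp', QCExact.app_add, ← app_comp_apply, ← app_comp_apply, biprod.inl_fst, biprod.inr_fst]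
    change a.2.1 + 0 = a.2.1
    exact add_zero _
  choose G γ hG g hg using hsec
  haveI := hG
  haveI hQ : SheafOfModules.IsFinitePresentation (R := X.ringCatSheaf) (∐ G : X.Modules) :=
    isFinitePresentation_sigma G
  haveI hQq : (∐ G : X.Modules).IsQuasicoherent := inferInstance
  obtain ⟨q, hq⟩ : ∃ q : (∐ G : X.Modules) ⟶ kernel Φ, ∀ a, Sigma.ι G a ≫ q = γ a :=
    ⟨Sigma.desc γ, fun a => Sigma.ι_desc _ _⟩
  obtain ⟨e, he⟩ : ∃ e : (∐ G : X.Modules) ⟶ M, e = q ≫ kernel.ι Φ ≫ biprod.fst := ⟨_, rfl⟩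
  have hgen : ∀ i, ∀ t ∈ Ti i, t ∈ LinearMap.range (QCProps.appₗ e (V i)) := by
    intro i t ht
    refine ⟨(Sigma.ι G ⟨i, ⟨t, ht⟩⟩).app (V i) (g ⟨i, ⟨t, ht⟩⟩), ?_⟩
    change e.app (V i) ((Sigma.ι G ⟨i, ⟨t, ht⟩⟩).app (V i) (g ⟨i, ⟨t, ht⟩⟩)) = t
    rw [← app_comp_apply, he, ← Category.assoc, hq]
    exact hg ⟨i, ⟨t, ht⟩⟩
  have hsurj : ∀ i, Function.Surjective (e.app (V i)) := by
    intro i
    have h1 : LinearMap.range (QCProps.appₗ e (V i)) = ⊤ := by
      apply top_le_iff.mp
      rw [← hTi i]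
      exact Submodule.span_le.mpr (fun t ht => hgen i t ht)
    have h2 : Function.Surjective (QCProps.appₗ e (V i)) := LinearMap.range_eq_top.mp h1
    intro y
    obtain ⟨x, hx⟩ := h2 y
    exact ⟨x, hx⟩
  haveI hepi : Epi e := by
    apply QCExact.epi_of_surjective_on_affine_cover
    intro x
    obtain ⟨i, hxi⟩ := hcov' x
    exact ⟨V i, hVa i, hxi, hsurj i⟩
  -- Step 3: the kernel has finitely generated sections
  haveI hNq : (kernel e : X.Modules).IsQuasicoherent := QCProps.isQuasicoherent_kernel e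
  have hN : ∀ i, Module.Finite Γ(X, V i) Γ((kernel e : X.Modules), V i) := by
    intro i
    haveI : Module.Finite Γ(X, V i) Γ((∐ G : X.Modules), V i) :=
      QCProps.finite_sections _ (hVa i)
    haveI : Module.FinitePresentation Γ(X, V i) Γ(M, V i) :=
      QCProps.finitePresentation_sections M (hVa i)
    have hker : (LinearMap.ker (QCProps.appₗ e (V i))).FG :=
      Module.FinitePresentation.fg_ker (QCProps.appₗ e (V i)) (hsurj i)
    have hinj : Function.Injective (QCProps.appₗ (kernel.ι e) (V i)) :=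
      QCExact.injective_sections (kernel.ι e) (V i)
    have hrange : LinearMap.range (QCProps.appₗ (kernel.ι e) (V i)) =
        LinearMap.ker (QCProps.appₗ e (V i)) := by
      apply le_antisymm
      · rintro _ ⟨y, rfl⟩
        exact QCExact.app_f_g_apply (ShortComplex.mk (kernel.ι e) e (kernel.condition e))
          (V i) y
      · intro y hy
        exact QCExact.exact_sections (ShortComplex.mk (kernel.ι e) e (kernel.condition e))
          (ShortComplex.exact_kernel e) (V i) y hy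
    rw [Module.finite_def]
    apply Submodule.fg_of_fg_map_injective (QCProps.appₗ (kernel.ι e) (V i)) hinj
    rw [Submodule.map_top, hrange]
    exact hker
  -- Step 4
  have hu : (kernel.ι e ≫ q ≫ kernel.ι Φ ≫ biprod.snd) ≫ c.ι.app j = 0 := by
    have h1 : (q ≫ kernel.ι Φ ≫ biprod.snd) ≫ c.ι.app j = e ≫ φ := by
      rw [he]
      simp only [Category.assoc] at hcond ⊢
      rw [hcond]
    rw [Category.assoc, h1, ← Category.assoc, kernel.condition, zero_comp]
  obtain ⟨k, f, hk⟩ := exists_comp_map_eq_zero D hD hc V hVa hcov' hN j _ hu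
  have hk' : kernel.ι e ≫ (q ≫ kernel.ι Φ ≫ biprod.snd) ≫ D.map f = 0 := by
    rw [← Category.assoc]
    exact hk
  refine ⟨k, Abelian.epiDesc e ((q ≫ kernel.ι Φ ≫ biprod.snd) ≫ D.map f) hk', ?_⟩
  rw [← cancel_epi e, Abelian.comp_epiDesc_assoc, Category.assoc, c.w]
  rw [he]
  simp only [Category.assoc] at hcond ⊢
  rw [hcond]

end Cocone

end Groth.Agent.Lib.Helper3.FPExt
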