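import Groth.Agent.Lib.Helper3.FPExtI2
import Groth.Prelude.Def_QCohCat
import Mathlib.CategoryTheory.Presentable.Finite
import Mathlib.CategoryTheory.Limits.FullSubcategory

/-!
# Compact objects of `QCoh(X)` for `X` qcqs are the finitely presented modules
-/

set_option autoImplicit false
universe u
open CategoryTheory CategoryTheory.Limits AlgebraicGeometry TopologicalSpace Opposite
open Scheme.Modules

namespace Groth.Agent.Lib.Helper3.FPExt

open QCSec QCExtend

variable {X : Scheme.{u}}

set_option maxHeartbeats 400000 in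
/-- a retract of a finitely presented module is finitely presented -/
theorem isFinitePresentation_of_retract {F P : X.Modules}
    [hP : SheafOfModules.IsFinitePresentation (R := X.ringCatSheaf) P]
    (g : F ⟶ P) (r : P ⟶ F) (h : g ≫ r = 𝟙 F) :
    SheafOfModules.IsFinitePresentation (R := X.ringCatSheaf) F := by
  haveI : P.IsQuasicoherent := inferInstance
  obtain ⟨ε, hε⟩ : ∃ ε : P ⟶ P, ε = 𝟙 P - r ≫ g := ⟨_, rfl⟩
  have h1 : ε ≫ r = 0 := by
    rw [hε, Preadditive.sub_comp, Category.id_comp, Category.assoc, h, Category.comp_id, sub_self]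
  have h2 : r ≫ g = 𝟙 P - ε := by
    rw [hε]
    abel
  have hfp : SheafOfModules.IsFinitePresentation (R := X.ringCatSheaf)
      (cokernel ε : X.Modules) :=
    isFinitePresentation_cokernel ε (fun D hD => QCProps.finite_sections P hD)
  have e : (cokernel ε : X.Modules) ≅ F :=
    { hom := cokernel.desc ε r h1
      inv := g ≫ cokernel.π ε
      hom_inv_id := by
        rw [← cancel_epi (cokernel.π ε), cokernel.π_desc_assoc, ← Category.assoc, h2,
          Preadditive.sub_comp, Category.id_comp, cokernel.condition, sub_zero, Category.comp_id]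
      inv_hom_id := by
        rw [Category.assoc, cokernel.π_desc, h] }
  exact (SheafOfModules.isFinitePresentation X.ringCatSheaf).prop_of_iso e hfp

section Lift

variable {C : Type*} [Category C] (P : ObjectProperty C) {I : Type*} [Category I] (D : I ⥤ C)
  (hD : ∀ i, P (D.obj i)) (c : Cocone D) (hq : P c.pt)

/-- lift a cocone whose point satisfies `P` to the full subcategory -/
def liftCocone : Cocone (P.lift D hD) where
  pt := ⟨c.pt, hq⟩
  ι :=
    { app := fun i => ObjectProperty.homMk (c.ι.app i)
      naturality := fun i j f => by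
        apply ObjectProperty.hom_ext
        exact c.ι.naturality f }

/-- the lifted cocone of a colimit cocone is a colimit cocone -/
def isColimitLiftCocone (hc : IsColimit c) : IsColimit (liftCocone P D hD c hq) where
  desc := fun s => ObjectProperty.homMk (hc.desc (P.ι.mapCocone s))
  fac := fun s i => by
    apply ObjectProperty.hom_ext
    exact hc.fac (P.ι.mapCocone s) i
  uniq := fun s m hm => by
    apply ObjectProperty.hom_ext
    exact hc.uniq (P.ι.mapCocone s) m.hom
      (fun i => congrArg (fun φ => InducedCategory.Hom.hom φ) (hm i))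

end Lift

attribute [local instance] Cardinal.fact_isRegular_aleph0

set_option maxHeartbeats 400000 in
theorem isFinitePresentation_of_isFinitelyPresentable [CompactSpace X] [QuasiSeparatedSpace X]
    (F : QCohCat.QCoh X) (h : IsFinitelyPresentable.{u} F) :
    SheafOfModules.IsFinitePresentation (R := X.ringCatSheaf) F.obj := by
  haveI : F.obj.IsQuasicoherent := F.property
  obtain ⟨I, hI1, hI2, D, c, hc, hfp, hpt⟩ := exists_filtered_colimit_fp F.obj
  have hDq : ∀ i, QCohCat.isQCoh X (D.obj i) := fun i => by
    haveI := hfp i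
    exact (inferInstance : (D.obj i).IsQuasicoherent)
  have hq : QCohCat.isQCoh X c.pt := by
    rw [hpt]
    exact F.property
  haveI : IsCardinalFiltered I Cardinal.aleph0.{u} := by
    rw [isCardinalFiltered_aleph0_iff]
    exact hI2
  haveI : IsCardinalPresentable.{u} F Cardinal.aleph0.{u} := h
  obtain ⟨i, g, hg⟩ := IsCardinalPresentable.exists_hom_of_isColimit (κ := Cardinal.aleph0.{u})
    (isColimitLiftCocone (QCohCat.isQCoh X) D hDq c hq hc)
    (ObjectProperty.homMk (eqToHom hpt.symm) : F ⟶ (liftCocone (QCohCat.isQCoh X) D hDq c hq).pt)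
  have hg' : g.hom ≫ c.ι.app i = eqToHom hpt.symm :=
    congrArg (fun φ => InducedCategory.Hom.hom φ) hg
  haveI := hfp i
  refine isFinitePresentation_of_retract (P := D.obj i) g.hom (c.ι.app i ≫ eqToHom hpt) ?_
  rw [← Category.assoc, hg', eqToHom_trans, eqToHom_refl]

set_option maxHeartbeats 400000 in
theorem isFinitelyPresentable_of_isFinitePresentation [CompactSpace X] [QuasiSeparatedSpace X]
    (F : QCohCat.QCoh X)
    (h : SheafOfModules.IsFinitePresentation (R := X.ringCatSheaf) F.obj) :
    IsFinitelyPresentable.{u} F := by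
  classical
  haveI := h
  haveI : F.obj.IsQuasicoherent := F.property
  rw [isFinitelyPresentable_iff_preservesFilteredColimitsOfSize]
  refine ⟨fun J _ _ => ⟨fun {K} => ⟨fun {c} hc => ?_⟩⟩⟩
  have hKq : ∀ j, ((K ⋙ (QCohCat.isQCoh X).ι).obj j).IsQuasicoherent :=
    fun j => (K.obj j).property
  haveI : CreatesColimit K (QCohCat.isQCoh X).ι :=
    createsColimitFullSubcategoryInclusion K
      (QCLim.isQuasicoherent_colimit (K ⋙ (QCohCat.isQCoh X).ι) hKq)
  haveI : PreservesColimit K (QCohCat.isQCoh X).ι :=
    preservesColimit_of_createsColimit_and_hasColimit K _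
  have hc₀ : IsColimit ((QCohCat.isQCoh X).ι.mapCocone c) := isColimitOfPreserves _ hc
  obtain ⟨ι₀, hι₀, V, hVa, -, hcov⟩ :=
    exists_finite_affine_cover (⊤ : X.Opens)
      (by simpa using (isCompact_univ : IsCompact (Set.univ : Set X)))
  have hcov' : ∀ x : X, ∃ i, x ∈ V i :=
    fun x => Opens.mem_iSup.mp (hcov (show x ∈ (⊤ : X.Opens) from trivial))
  have hN : ∀ i, Module.Finite Γ(X, V i) Γ(F.obj, V i) :=
    fun i => QCProps.finite_sections F.obj (hVa i)
  refine ⟨Types.FilteredColimit.isColimitOf' _ _ ?_ ?_⟩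
  · intro x
    obtain ⟨j, ψ, hψ⟩ := exists_lift_of_isColimit (K ⋙ (QCohCat.isQCoh X).ι) hKq hc₀ F.obj
      (InducedCategory.Hom.hom (show F ⟶ c.pt from x))
    refine ⟨j, (ObjectProperty.homMk ψ : F ⟶ K.obj j), ?_⟩
    apply ObjectProperty.hom_ext
    exact hψ.symm
  · intro i x y hxy
    have hxy' : InducedCategory.Hom.hom (show F ⟶ K.obj i from x) ≫
        ((QCohCat.isQCoh X).ι.mapCocone c).ι.app i =
        InducedCategory.Hom.hom (show F ⟶ K.obj i from y) ≫
          ((QCohCat.isQCoh X).ι.mapCocone c).ι.app i :=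
      congrArg (fun φ : F ⟶ c.pt => InducedCategory.Hom.hom φ) hxy
    have hδ : (InducedCategory.Hom.hom (show F ⟶ K.obj i from x) -
        InducedCategory.Hom.hom (show F ⟶ K.obj i from y)) ≫
        ((QCohCat.isQCoh X).ι.mapCocone c).ι.app i = 0 := by
      rw [Preadditive.sub_comp, hxy', sub_self]
    obtain ⟨k, f, hk⟩ := exists_comp_map_eq_zero (K ⋙ (QCohCat.isQCoh X).ι) hKq hc₀ V hVa hcov'
      hN i _ hδ
    refine ⟨k, f, ?_⟩
    rw [Preadditive.sub_comp] at hk
    apply ObjectProperty.hom_ext
    exact sub_eq_zero.mp hk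

end Groth.Agent.Lib.Helper3.FPExt
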