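import Groth.Agent.Lib.Helper3.FPExtI3
import Groth.Agent.Lib.Helper17.UnitBC2
import Groth.Agent.Lib.Helper17.PbFinite

/-!
# Descent of finitely presented modules to a finite level: algebra and adjunction lemmas
-/

set_option autoImplicit false
universe u
open CategoryTheory CategoryTheory.Limits AlgebraicGeometry TopologicalSpace Opposite
open Scheme.Modules

namespace Groth.Agent.Lib.Helper3.FPLim

open QCSec QCExtend
open Groth.Agent.Lib.Helper17.UnitBC

section BCHom

variable {R S : Type*} [CommRing R] [CommRing S] {φ : R →+* S} {M N : Type*} [AddCommGroup M]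
  [Module R M] [AddCommGroup N] [Module S N] {β : M → N}

theorem bc_map_add (h : IsBCHom φ β) (m m' : M) : β (m + m') = β m + β m' := by
  letI := φ.toAlgebra
  letI : Module R N := Module.compHom N φ
  haveI : IsScalarTower R S N := IsScalarTower.of_algebraMap_smul fun _ _ => rfl
  obtain ⟨lin, hlin, -⟩ := h
  rw [← hlin, ← hlin, ← hlin, map_add]

theorem bc_map_smul (h : IsBCHom φ β) (r : R) (m : M) : β (r • m) = φ r • β m := by
  letI := φ.toAlgebra
  letI : Module R N := Module.compHom N φ
  haveI : IsScalarTower R S N := IsScalarTower.of_algebraMap_smul fun _ _ => rfl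
  obtain ⟨lin, hlin, -⟩ := h
  rw [← hlin, ← hlin, lin.map_smul]
  rfl

theorem bc_map_zero (h : IsBCHom φ β) : β 0 = 0 := by
  have := bc_map_smul h 0 0
  rwa [zero_smul, map_zero, zero_smul] at this

theorem bc_map_sum (h : IsBCHom φ β) {ι : Type*} (s : Finset ι) (f : ι → M) :
    β (∑ i ∈ s, f i) = ∑ i ∈ s, β (f i) := by
  classical
  induction s using Finset.induction_on with
  | empty => simpa using bc_map_zero h
  | insert a s ha ih => rw [Finset.sum_insert ha, Finset.sum_insert ha, bc_map_add h, ih]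

theorem bc_span_range (h : IsBCHom φ β) : Submodule.span S (Set.range β) = ⊤ := by
  letI := φ.toAlgebra
  letI : Module R N := Module.compHom N φ
  haveI : IsScalarTower R S N := IsScalarTower.of_algebraMap_smul fun _ _ => rfl
  obtain ⟨lin, hlin, hbc⟩ := h
  rw [eq_top_iff]
  intro x _
  exact hbc.inductionOn x (fun y => y ∈ Submodule.span S (Set.range β)) (Submodule.zero_mem _)
    (fun m => Submodule.subset_span ⟨m, (hlin m).symm⟩)
    (fun s n hn => Submodule.smul_mem _ s hn) (fun a b ha hb => Submodule.add_mem _ ha hb)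

end BCHom

section Kernel

variable {A Bj B : Type*} [CommRing A] [CommRing Bj] [CommRing B] {f₁ : A →+* Bj} {f₂ : Bj →+* B}
  {N Nj NB M : Type*} [AddCommGroup N] [Module A N] [AddCommGroup Nj] [Module Bj Nj]
  [AddCommGroup NB] [Module B NB] [AddCommGroup M] [Module B M]
  {ι₁ : N → Nj} {ι₂ : Nj → NB}

theorem span_comp_eq_top (h₁ : IsBCHom f₁ ι₁) (h₂ : IsBCHom f₂ ι₂) {g : ℕ} (n : Fin g → N)
    (hn : Submodule.span A (Set.range n) = ⊤) :
    Submodule.span B (Set.range fun i => ι₂ (ι₁ (n i))) = ⊤ := by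
  set T := Submodule.span B (Set.range fun i => ι₂ (ι₁ (n i))) with hT
  have hN : ∀ m : N, ι₂ (ι₁ m) ∈ T := by
    intro m
    have hm : m ∈ Submodule.span A (Set.range n) := by rw [hn]; trivial
    induction hm using Submodule.span_induction with
    | mem x hx =>
      obtain ⟨i, rfl⟩ := hx
      exact Submodule.subset_span ⟨i, rfl⟩
    | zero => rw [bc_map_zero h₁, bc_map_zero h₂]; exact T.zero_mem
    | add x y _ _ hx hy => rw [bc_map_add h₁, bc_map_add h₂]; exact T.add_mem hx hy
    | smul a x _ hx => rw [bc_map_smul h₁, bc_map_smul h₂]; exact T.smul_mem _ hx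
  have hNj : ∀ y : Nj, ι₂ y ∈ T := by
    intro y
    have hy : y ∈ Submodule.span Bj (Set.range ι₁) := by rw [bc_span_range h₁]; trivial
    induction hy using Submodule.span_induction with
    | mem x hx =>
      obtain ⟨m, rfl⟩ := hx
      exact hN m
    | zero => rw [bc_map_zero h₂]; exact T.zero_mem
    | add x y _ _ hx hy => rw [bc_map_add h₂]; exact T.add_mem hx hy
    | smul a x _ hx => rw [bc_map_smul h₂]; exact T.smul_mem _ hx
  rw [eq_top_iff, ← bc_span_range h₂]
  exact Submodule.span_le.mpr (fun z ⟨y, hy⟩ => hy ▸ hNj y)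

set_option maxHeartbeats 400000 in
/-- transfer of generators of a kernel along a composite of base changes -/
theorem ker_le_span (h₁ : IsBCHom f₁ ι₁) (h₂ : IsBCHom f₂ ι₂) {g : ℕ} (n : Fin g → N)
    (hn : Submodule.span A (Set.range n) = ⊤) (α : NB →ₗ[B] M) (x : Fin g → M)
    (hα : ∀ i, α (ι₂ (ι₁ (n i))) = x i) {h : ℕ} (w : Fin h → (Fin g → B))
    (hw : Submodule.span B (Set.range w) = LinearMap.ker (Fintype.linearCombination B x))
    (τ : Fin h → Fin g → Bj) (hτ : ∀ r i, f₂ (τ r i) = w r i) :
    LinearMap.ker α ≤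
      Submodule.span B (Set.range fun r => ι₂ (∑ i, τ r i • ι₁ (n i))) := by
  classical
  set ν : (Fin g → B) →ₗ[B] NB := Fintype.linearCombination B (fun i => ι₂ (ι₁ (n i))) with hν
  have hνsurj : Function.Surjective ν := by
    rw [hν, ← span_range_eq_top_iff_surjective_fintypeLinearCombination]
    exact span_comp_eq_top h₁ h₂ n hn
  have hαν : ∀ v, α (ν v) = Fintype.linearCombination B x v := by
    intro v
    rw [hν, Fintype.linearCombination_apply, Fintype.linearCombination_apply, _root_.map_sum]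
    refine Finset.sum_congr rfl (fun i _ => ?_)
    rw [_root_.map_smul, hα]
  have hνw : ∀ r, ν (w r) = ι₂ (∑ i, τ r i • ι₁ (n i)) := by
    intro r
    rw [hν, Fintype.linearCombination_apply, bc_map_sum h₂]
    refine Finset.sum_congr rfl (fun i _ => ?_)
    rw [bc_map_smul h₂, hτ]
  intro z hz
  obtain ⟨v, rfl⟩ := hνsurj z
  have hv : v ∈ LinearMap.ker (Fintype.linearCombination B x) := by
    rw [LinearMap.mem_ker, ← hαν]
    exact hz
  rw [← hw] at hv
  have h3 : ν v ∈ Submodule.map ν (Submodule.span B (Set.range w)) := ⟨v, hv, rfl⟩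
  rw [Submodule.map_span] at h3
  have h4 : ν '' Set.range w = Set.range fun r => ι₂ (∑ i, τ r i • ι₁ (n i)) := by
    ext y
    constructor
    · rintro ⟨_, ⟨r, rfl⟩, rfl⟩
      exact ⟨r, (hνw r).symm⟩
    · rintro ⟨r, rfl⟩
      exact ⟨w r, ⟨r, rfl⟩, hνw r⟩
  rw [h4] at h3
  exact h3

/-- the transferred generators lie in the kernel -/
theorem apply_gen_eq_zero (h₂ : IsBCHom f₂ ι₂) {g : ℕ} (n : Fin g → N)
    (α : NB →ₗ[B] M) (x : Fin g → M)
    (hα : ∀ i, α (ι₂ (ι₁ (n i))) = x i) {h : ℕ} (w : Fin h → (Fin g → B))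
    (hw : Submodule.span B (Set.range w) = LinearMap.ker (Fintype.linearCombination B x))
    (τ : Fin h → Fin g → Bj) (hτ : ∀ r i, f₂ (τ r i) = w r i) (r : Fin h) :
    α (ι₂ (∑ i, τ r i • ι₁ (n i))) = 0 := by
  have h1 : α (ι₂ (∑ i, τ r i • ι₁ (n i))) = Fintype.linearCombination B x (w r) := by
    rw [bc_map_sum h₂, _root_.map_sum, Fintype.linearCombination_apply]
    refine Finset.sum_congr rfl (fun i _ => ?_)
    rw [bc_map_smul h₂, _root_.map_smul, hτ, hα]
  rw [h1]
  have h2 : w r ∈ LinearMap.ker (Fintype.linearCombination B x) := by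
    rw [← hw]
    exact Submodule.subset_span ⟨r, rfl⟩
  exact h2

end Kernel

section Adj

variable {X Y : Scheme.{u}} (f : X ⟶ Y)

/-- the adjoint morphism evaluated on unit sections -/
theorem adj_symm_unitSec (M : Y.Modules) (N : X.Modules) (b : M ⟶ (pushforward f).obj N)
    (V : Y.Opens) (U : X.Opens) (e : U ≤ f ⁻¹ᵁ V) (σ : Γ(M, V)) :
    (((pullbackPushforwardAdjunction f).homEquiv M N).symm b).app U (unitSec f M V U e σ) =
      res N e (show Γ(N, f ⁻¹ᵁ V) from b.app V σ) := by
  set a := ((pullbackPushforwardAdjunction f).homEquiv M N).symm b with ha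
  have hb : b = (pullbackPushforwardAdjunction f).unit.app M ≫ (pushforward f).map a := by
    rw [ha]
    exact (Equiv.apply_symm_apply ((pullbackPushforwardAdjunction f).homEquiv M N) b).symm
  unfold unitSec
  rw [QCExact.app_res']
  congr 1
  rw [hb]
  rfl

end Adj

end Groth.Agent.Lib.Helper3.FPLim
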