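import Mathlib.AlgebraicGeometry.AffineTransitionLimit

/-!
# Sections over preimages of affine opens of a limit of schemes come from a finite level
-/

set_option autoImplicit false
universe u
open CategoryTheory CategoryTheory.Limits AlgebraicGeometry TopologicalSpace Opposite

namespace Groth.Agent.Lib.Helper3.FPLim

variable {I : Type u} [SmallCategory I] [IsCofiltered I] (D : I ⥤ Scheme.{u}) (c : Cone D)
  (hc : IsLimit c) [∀ {i j : I} (f : i ⟶ j), IsAffineHom (D.map f)]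

include hc in
set_option maxHeartbeats 400000 in
theorem exists_appLE_π_eq (i : I) {V : (D.obj i).Opens} (hV : IsAffineOpen V)
    (s : Γ(c.pt, c.π.app i ⁻¹ᵁ V)) :
    ∃ (j : I) (φ : j ⟶ i) (e : c.π.app i ⁻¹ᵁ V ≤ c.π.app j ⁻¹ᵁ (D.map φ ⁻¹ᵁ V))
      (t : Γ(D.obj j, D.map φ ⁻¹ᵁ V)),
      ((c.π.app j).appLE (D.map φ ⁻¹ᵁ V) (c.π.app i ⁻¹ᵁ V) e).hom t = s := by
  classical
  haveI : ∀ j : Over i, IsAffine ((opensDiagram D i V).obj j) :=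
    fun j => hV.preimage (D.map j.hom)
  have h₁ : (c.π.app i ⁻¹ᵁ V).ι ''ᵁ ⊤ ≤ c.π.app i ⁻¹ᵁ V :=
    (Scheme.Opens.ι_image_top (c.π.app i ⁻¹ᵁ V)).le
  have h₁' : c.π.app i ⁻¹ᵁ V ≤ (c.π.app i ⁻¹ᵁ V).ι ''ᵁ ⊤ :=
    (Scheme.Opens.ι_image_top (c.π.app i ⁻¹ᵁ V)).ge
  obtain ⟨j, t, ht⟩ := exists_appTop_π_eq_of_isAffine_of_isLimit (opensDiagram D i V)
    (opensCone D c i V) (isLimitOpensCone D c hc i V)
    (show Γ((opensCone D c i V).pt, ⊤) from (c.pt.presheaf.map (homOfLE h₁).op).hom s)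
  have hle : c.π.app i ⁻¹ᵁ V ≤ c.π.app j.left ⁻¹ᵁ (D.map j.hom ⁻¹ᵁ V) := by
    rw [← Scheme.Hom.comp_preimage, c.w]
  have h₂ : D.map j.hom ⁻¹ᵁ V ≤ (D.map j.hom ⁻¹ᵁ V).ι ''ᵁ ⊤ :=
    (Scheme.Opens.ι_image_top _).ge
  have hle' : (c.π.app i ⁻¹ᵁ V).ι ''ᵁ ⊤ ≤
      c.π.app j.left ⁻¹ᵁ ((D.map j.hom ⁻¹ᵁ V).ι ''ᵁ ⊤) := by
    rw [Scheme.Opens.ι_image_top, Scheme.Opens.ι_image_top]
    exact hle
  have e3 : ((opensCone D c i V).π.app j).appTop =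
      (c.π.app j.left).appLE ((D.map j.hom ⁻¹ᵁ V).ι ''ᵁ ⊤) ((c.π.app i ⁻¹ᵁ V).ι ''ᵁ ⊤) hle' := by
    change ((c.π.app j.left).resLE (D.map j.hom ⁻¹ᵁ V) (c.π.app i ⁻¹ᵁ V) hle).app ⊤ = _
    rw [Scheme.Hom.app_eq_appLE, Scheme.Hom.resLE_appLE]
    rfl
  have ht' : ((c.π.app j.left).appLE ((D.map j.hom ⁻¹ᵁ V).ι ''ᵁ ⊤)
      ((c.π.app i ⁻¹ᵁ V).ι ''ᵁ ⊤) hle').hom t = (c.pt.presheaf.map (homOfLE h₁).op).hom s := by
    rw [← e3]
    exact ht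
  refine ⟨j.left, j.hom, hle, ((D.obj j.left).presheaf.map (homOfLE h₂).op).hom t, ?_⟩
  have k1 := congrArg (fun ψ => ψ.hom t)
    (Scheme.Hom.map_appLE (c.π.app j.left) hle (homOfLE h₂).op)
  have k2 := congrArg (fun ψ => ψ.hom t)
    (Scheme.Hom.appLE_map (c.π.app j.left)
      (hle.trans ((Opens.map (c.π.app j.left).base).map (homOfLE h₂)).le) (homOfLE h₁).op)
  have k3 : (c.pt.presheaf.map (homOfLE h₁).op).hom
      (((c.π.app j.left).appLE (D.map j.hom ⁻¹ᵁ V) (c.π.app i ⁻¹ᵁ V) hle).hom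
        (((D.obj j.left).presheaf.map (homOfLE h₂).op).hom t)) =
      (c.pt.presheaf.map (homOfLE h₁).op).hom s := by
    have k1' : ((c.π.app j.left).appLE (D.map j.hom ⁻¹ᵁ V) (c.π.app i ⁻¹ᵁ V) hle).hom
        (((D.obj j.left).presheaf.map (homOfLE h₂).op).hom t) = _ := k1
    rw [k1']
    exact k2.trans ht'
  have hinj : ∀ x y : Γ(c.pt, c.π.app i ⁻¹ᵁ V),
      (c.pt.presheaf.map (homOfLE h₁).op).hom x = (c.pt.presheaf.map (homOfLE h₁).op).hom y →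
      x = y := by
    intro x y hxy
    have h4 : ∀ z : Γ(c.pt, c.π.app i ⁻¹ᵁ V), (c.pt.presheaf.map (homOfLE h₁').op).hom
        ((c.pt.presheaf.map (homOfLE h₁).op).hom z) = z := by
      intro z
      have h5 : c.pt.presheaf.map (homOfLE h₁).op ≫ c.pt.presheaf.map (homOfLE h₁').op = 𝟙 _ := by
        rw [← Functor.map_comp, ← op_comp]
        exact c.pt.presheaf.map_id _
      exact congrArg (fun ψ => ψ.hom z) h5
    rw [← h4 x, ← h4 y, hxy]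
  exact hinj _ _ k3

end Groth.Agent.Lib.Helper3.FPLim
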