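import Groth.Agent.Lib.Helper3.FPLimA
import Groth.Agent.Lib.Helper3.FPLimB

/-!
# Finitely many sections of a limit of schemes come from a common level
-/

set_option autoImplicit false
universe u
open CategoryTheory CategoryTheory.Limits AlgebraicGeometry TopologicalSpace Opposite
open Scheme.Modules

namespace Groth.Agent.Lib.Helper3.FPLim

open QCSec QCExtend

theorem appLE_congr_hom {X Y : Scheme.{u}} {f g : X ⟶ Y} (h : f = g) (U : Y.Opens) (V : X.Opens)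
    (e : V ≤ f ⁻¹ᵁ U) (e' : V ≤ g ⁻¹ᵁ U) : f.appLE U V e = g.appLE U V e' := by
  subst h
  rfl

section Levels

variable {I : Type u} [SmallCategory I] [IsCofiltered I] (D : I ⥤ Scheme.{u}) (c : Cone D)
  (hc : IsLimit c) [∀ {i j : I} (f : i ⟶ j), IsAffineHom (D.map f)] (i₀ : I)

/-- a section over the preimage of `V` comes from level `(j, φ)` -/
def ComesFrom (V : (D.obj i₀).Opens) (s : Γ(c.pt, c.π.app i₀ ⁻¹ᵁ V)) (j : I) (φ : j ⟶ i₀) : Prop :=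
  ∃ (e : c.π.app i₀ ⁻¹ᵁ V ≤ c.π.app j ⁻¹ᵁ (D.map φ ⁻¹ᵁ V)) (t : Γ(D.obj j, D.map φ ⁻¹ᵁ V)),
    ((c.π.app j).appLE (D.map φ ⁻¹ᵁ V) (c.π.app i₀ ⁻¹ᵁ V) e).hom t = s

variable {D c i₀}

omit [IsCofiltered I] [∀ {i j : I} (f : i ⟶ j), IsAffineHom (D.map f)] in
theorem ComesFrom.mono {V : (D.obj i₀).Opens} {s : Γ(c.pt, c.π.app i₀ ⁻¹ᵁ V)} {j : I}
    {φ : j ⟶ i₀} (h : ComesFrom D c i₀ V s j φ) {j' : I} (ψ : j' ⟶ j) :
    ComesFrom D c i₀ V s j' (ψ ≫ φ) := by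
  obtain ⟨e, t, ht⟩ := h
  have e'' : D.map (ψ ≫ φ) ⁻¹ᵁ V ≤ D.map ψ ⁻¹ᵁ (D.map φ ⁻¹ᵁ V) := by
    rw [D.map_comp, Scheme.Hom.comp_preimage]
  have e' : c.π.app i₀ ⁻¹ᵁ V ≤ c.π.app j' ⁻¹ᵁ (D.map (ψ ≫ φ) ⁻¹ᵁ V) := by
    rw [← Scheme.Hom.comp_preimage, c.w]
  refine ⟨e', ((D.map ψ).appLE (D.map φ ⁻¹ᵁ V) (D.map (ψ ≫ φ) ⁻¹ᵁ V) e'').hom t, ?_⟩
  have h1 := Scheme.Hom.appLE_comp_appLE (c.π.app j') (D.map ψ) (D.map φ ⁻¹ᵁ V)
    (D.map (ψ ≫ φ) ⁻¹ᵁ V) (c.π.app i₀ ⁻¹ᵁ V) e'' e'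
  have h2 := appLE_congr_hom (c.w ψ) (D.map φ ⁻¹ᵁ V) (c.π.app i₀ ⁻¹ᵁ V)
    (e'.trans ((Opens.map (c.π.app j').base).map (homOfLE e'')).le) e
  have h3 := congrArg (fun ξ => ξ.hom t) (h1.trans h2)
  exact h3.trans ht

include hc in
set_option maxHeartbeats 400000 in
theorem exists_common_level {κ : Type*} (T : Finset κ) (V : κ → (D.obj i₀).Opens)
    (hV : ∀ a, IsAffineOpen (V a)) (s : ∀ a, Γ(c.pt, c.π.app i₀ ⁻¹ᵁ V a)) :
    ∃ (j : I) (φ : j ⟶ i₀), ∀ a ∈ T, ComesFrom D c i₀ (V a) (s a) j φ := by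
  classical
  induction T using Finset.induction_on with
  | empty => exact ⟨i₀, 𝟙 i₀, fun a ha => absurd ha (Finset.notMem_empty a)⟩
  | insert a T _ ih =>
    obtain ⟨j₁, φ₁, h₁⟩ := ih
    obtain ⟨j₂, φ₂, e, t, ht⟩ := exists_appLE_π_eq D c hc i₀ (hV a) (s a)
    have h₂ : ComesFrom D c i₀ (V a) (s a) j₂ φ₂ := ⟨e, t, ht⟩
    obtain ⟨k, g₁, g₂, hg⟩ := IsCofiltered.cospan φ₁ φ₂
    refine ⟨k, g₁ ≫ φ₁, ?_⟩
    intro b hb
    rcases Finset.mem_insert.mp hb with rfl | hb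
    · rw [hg]
      exact h₂.mono g₂
    · exact (h₁ b hb).mono g₁

end Levels

section Hit

variable {X : Scheme.{u}}

/-- a finitely presented module mapping to a quasi-coherent module and hitting finitely many
given sections over affine opens -/
theorem exists_fp_hom_hitting [CompactSpace X] [QuasiSeparatedSpace X] (𝒢 : X.Modules)
    [𝒢.IsQuasicoherent] {κ : Type u} [Fintype κ] (V : κ → X.Opens)
    (hV : ∀ a, IsAffineOpen (V a)) (t : ∀ a, Γ(𝒢, V a)) :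
    ∃ (P : X.Modules) (b : P ⟶ 𝒢),
      SheafOfModules.IsFinitePresentation (R := X.ringCatSheaf) P ∧
      ∀ a, ∃ p : Γ(P, V a), b.app (V a) p = t a := by
  have hch := fun a => FPExt.exists_fp_through_section 𝒢 (hV a) (t a)
  choose G φ hG g hg using hch
  haveI := hG
  refine ⟨∐ G, Sigma.desc φ, FPExt.isFinitePresentation_sigma G, fun a => ?_⟩
  refine ⟨(Sigma.ι G a).app (V a) (g a), ?_⟩
  rw [← FPExt.app_comp_apply, Sigma.ι_desc]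
  exact hg a

end Hit

end Groth.Agent.Lib.Helper3.FPLim
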