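import Groth.Agent.Lib.Helper3.FPLimD

/-!
# Descent of a finitely presented quotient to a finite level: the construction (with the quotient map)
-/

set_option autoImplicit false
universe u
open CategoryTheory CategoryTheory.Limits AlgebraicGeometry TopologicalSpace Opposite
open Scheme.Modules

namespace Groth.Agent.Lib.Helper3.FPLim

open QCSec QCExtend
open Groth.Agent.Lib.Helper17.UnitBC

section Construct

variable {S Sj S₀ : Scheme.{u}} (πj : S ⟶ Sj) [IsAffineHom πj] (u : Sj ⟶ S₀) [IsAffineHom u]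
  [CompactSpace Sj] [QuasiSeparatedSpace Sj]
  (F : S.Modules) [F.IsQuasicoherent]
  [hF : SheafOfModules.IsFinitePresentation (R := S.ringCatSheaf) F]
  (P₀ : S₀.Modules) [hP₀ : SheafOfModules.IsFinitePresentation (R := S₀.ringCatSheaf) P₀]
  (b₀ : P₀ ⟶ (pushforward u).obj ((pushforward πj).obj F))
  {ι₀ : Type u} [Fintype ι₀] (V : ι₀ → S₀.Opens) (hVa : ∀ k, IsAffineOpen (V k))
  (hcov : ∀ x : S₀, ∃ k, x ∈ V k)
  (W : ι₀ → S.Opens) (hW : ∀ k, W k = πj ⁻¹ᵁ (u ⁻¹ᵁ V k))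
  (g : ι₀ → ℕ) (n : ∀ k, Fin (g k) → Γ(P₀, V k))
  (hn : ∀ k, Submodule.span Γ(S₀, V k) (Set.range (n k)) = ⊤)
  (x : ∀ k, Fin (g k) → Γ(F, W k))
  (hx : ∀ k i, x k i =
    res F (hW k).le (show Γ(F, πj ⁻¹ᵁ (u ⁻¹ᵁ V k)) from b₀.app (V k) (n k i)))
  (hxs : ∀ k, Submodule.span Γ(S, W k) (Set.range (x k)) = ⊤)
  (h : ι₀ → ℕ) (w : ∀ k, Fin (h k) → Fin (g k) → Γ(S, W k))
  (hw : ∀ k, Submodule.span Γ(S, W k) (Set.range (w k)) =
    LinearMap.ker (Fintype.linearCombination Γ(S, W k) (x k)))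
  (τ : ∀ k, Fin (h k) → Fin (g k) → Γ(Sj, u ⁻¹ᵁ V k))
  (hτ : ∀ k r i, (πj.appLE (u ⁻¹ᵁ V k) (W k) (hW k).le).hom (τ k r i) = w k r i)


include hVa hcov hn hx hxs hw hτ in
set_option maxHeartbeats 1000000 in
theorem exists_quotient_descent_of_level_data :
    ∃ (Fj : Sj.Modules) (pj : (Scheme.Modules.pullback u).obj P₀ ⟶ Fj)
      (e : (Scheme.Modules.pullback πj).obj Fj ≅ F), Fj.IsQuasicoherent ∧
      SheafOfModules.IsFinitePresentation (R := Sj.ringCatSheaf) Fj ∧ Epi pj ∧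
      (Scheme.Modules.pullback πj).map pj ≫ e.hom =
        ((pullbackPushforwardAdjunction πj).homEquiv ((Scheme.Modules.pullback u).obj P₀) F).symm
          (((pullbackPushforwardAdjunction u).homEquiv P₀ ((pushforward πj).obj F)).symm b₀) := by
  classical
  have hUa : ∀ k, IsAffineOpen (u ⁻¹ᵁ V k) := fun k => (hVa k).preimage u
  have hWa : ∀ k, IsAffineOpen (W k) := fun k => by
    rw [hW k]
    exact (hUa k).preimage πj
  have hWcov : ∀ y : S, ∃ k, y ∈ W k := fun y => by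
    obtain ⟨k, hk⟩ := hcov (u (πj y))
    refine ⟨k, ?_⟩
    rw [hW k]
    exact hk
  haveI : P₀.IsQuasicoherent := inferInstance
  haveI hPjfp : SheafOfModules.IsFinitePresentation (R := Sj.ringCatSheaf) ((Scheme.Modules.pullback u).obj P₀) :=
    Groth.Agent.Lib.Helper17.PbFinite.isFinitePresentation_pullback u P₀
  haveI : (((Scheme.Modules.pullback u).obj P₀)).IsQuasicoherent := inferInstance
  haveI h𝒢q : ((pushforward πj).obj F).IsQuasicoherent := isQuasicoherent_pushforward πj F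
  haveI hPBfp : SheafOfModules.IsFinitePresentation (R := S.ringCatSheaf)
      ((Scheme.Modules.pullback πj).obj ((Scheme.Modules.pullback u).obj P₀)) :=
    Groth.Agent.Lib.Helper17.PbFinite.isFinitePresentation_pullback πj ((Scheme.Modules.pullback u).obj P₀)
  haveI : ((Scheme.Modules.pullback πj).obj ((Scheme.Modules.pullback u).obj P₀)).IsQuasicoherent := inferInstance
  obtain ⟨bj, hbj⟩ : ∃ bj : ((Scheme.Modules.pullback u).obj P₀) ⟶ (pushforward πj).obj F,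
      bj = ((pullbackPushforwardAdjunction u).homEquiv P₀ ((pushforward πj).obj F)).symm b₀ :=
    ⟨_, rfl⟩
  obtain ⟨aj, haj⟩ : ∃ aj : (Scheme.Modules.pullback πj).obj ((Scheme.Modules.pullback u).obj P₀) ⟶ F,
      aj = ((pullbackPushforwardAdjunction πj).homEquiv ((Scheme.Modules.pullback u).obj P₀) F).symm bj := ⟨_, rfl⟩
  have hι₁ : ∀ k, IsBCHom (u.appLE (V k) (u ⁻¹ᵁ V k) le_rfl).hom
      (unitSec u P₀ (V k) (u ⁻¹ᵁ V k) le_rfl) :=
    fun k => isBCHom_unitSec u P₀ (hVa k) (hUa k) le_rfl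
  have hι₂ : ∀ k, IsBCHom (πj.appLE (u ⁻¹ᵁ V k) (W k) (hW k).le).hom
      (unitSec πj ((Scheme.Modules.pullback u).obj P₀) (u ⁻¹ᵁ V k) (W k) (hW k).le) :=
    fun k => isBCHom_unitSec πj ((Scheme.Modules.pullback u).obj P₀) (hUa k) (hWa k) (hW k).le
  have hα₁ : ∀ k (y : Γ(((Scheme.Modules.pullback u).obj P₀), u ⁻¹ᵁ V k)),
      aj.app (W k) (unitSec πj ((Scheme.Modules.pullback u).obj P₀) (u ⁻¹ᵁ V k) (W k) (hW k).le y) =
        res F (hW k).le (show Γ(F, πj ⁻¹ᵁ (u ⁻¹ᵁ V k)) from bj.app (u ⁻¹ᵁ V k) y) := by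
    intro k y
    rw [haj, adj_symm_unitSec]
  have hα₂ : ∀ k (m : Γ(P₀, V k)),
      bj.app (u ⁻¹ᵁ V k) (unitSec u P₀ (V k) (u ⁻¹ᵁ V k) le_rfl m) = b₀.app (V k) m := by
    intro k m
    rw [hbj, adj_symm_unitSec]
    exact res_self _ _ _
  have hα : ∀ k i, QCProps.appₗ aj (W k) (unitSec πj ((Scheme.Modules.pullback u).obj P₀) (u ⁻¹ᵁ V k) (W k) (hW k).le
      (unitSec u P₀ (V k) (u ⁻¹ᵁ V k) le_rfl (n k i))) = x k i := by
    intro k i
    rw [hx k i, QCProps.appₗ_apply, hα₁, hα₂]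
  have hker : ∀ k, LinearMap.ker (QCProps.appₗ aj (W k)) ≤
      Submodule.span Γ(S, W k) (Set.range fun r => unitSec πj ((Scheme.Modules.pullback u).obj P₀) (u ⁻¹ᵁ V k) (W k) (hW k).le
        (∑ i, τ k r i • unitSec u P₀ (V k) (u ⁻¹ᵁ V k) le_rfl (n k i))) := fun k =>
    ker_le_span (hι₁ k) (hι₂ k) (n k) (hn k) (QCProps.appₗ aj (W k)) (x k) (hα k) (w k) (hw k)
      (τ k) (hτ k)
  have hgen0 : ∀ k r, QCProps.appₗ aj (W k) (unitSec πj ((Scheme.Modules.pullback u).obj P₀) (u ⁻¹ᵁ V k) (W k) (hW k).le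
      (∑ i, τ k r i • unitSec u P₀ (V k) (u ⁻¹ᵁ V k) le_rfl (n k i))) = 0 := fun k r =>
    apply_gen_eq_zero (hι₂ k) (n k) (QCProps.appₗ aj (W k)) (x k) (hα k) (w k) (hw k)
      (τ k) (hτ k) r
  obtain ⟨κ, hκ⟩ : ∃ κ : ∀ k, Fin (h k) → Γ(((Scheme.Modules.pullback u).obj P₀), u ⁻¹ᵁ V k), ∀ k r, κ k r =
      ∑ i, τ k r i • unitSec u P₀ (V k) (u ⁻¹ᵁ V k) le_rfl (n k i) := ⟨_, fun _ _ => rfl⟩
  simp only [← hκ] at hker hgen0
  -- `bj` kills the `κ`
  have hbκ : ∀ k r, bj.app (u ⁻¹ᵁ V k) (κ k r) = 0 := by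
    intro k r
    have h1 := hα₁ k (κ k r)
    have h2 : aj.app (W k) (unitSec πj ((Scheme.Modules.pullback u).obj P₀) (u ⁻¹ᵁ V k) (W k) (hW k).le (κ k r)) = 0 :=
      hgen0 k r
    rw [h2] at h1
    have h3 := congrArg (res F (hW k).ge) h1
    rw [res_res, res_self] at h3
    exact h3.symm.trans (_root_.map_zero _)
  haveI : (kernel bj : Sj.Modules).IsQuasicoherent := QCProps.isQuasicoherent_kernel bj
  have hκ'ex : ∀ k r, ∃ κ' : Γ((kernel bj : Sj.Modules), u ⁻¹ᵁ V k),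
      (kernel.ι bj).app (u ⁻¹ᵁ V k) κ' = κ k r := fun k r =>
    QCExact.exact_sections (ShortComplex.mk (kernel.ι bj) bj (kernel.condition bj))
      (ShortComplex.exact_kernel bj) _ _ (hbκ k r)
  choose κ' hκ' using hκ'ex
  have hGex := fun a : (Σ k : ι₀, Fin (h k)) =>
    FPExt.exists_ft_sub_through_section (kernel bj : Sj.Modules) (hUa a.1) (κ' a.1 a.2)
  choose G iG hmono hGq hGft gG hgG using hGex
  haveI := hGq
  haveI := hGft
  obtain ⟨kK, hkK⟩ : ∃ kK : (∐ G : Sj.Modules) ⟶ ((Scheme.Modules.pullback u).obj P₀),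
      ∀ a, Sigma.ι G a ≫ kK = iG a ≫ kernel.ι bj := ⟨Sigma.desc _, fun a => Sigma.ι_desc _ _⟩
  haveI : (∐ G : Sj.Modules).IsQuasicoherent := QCLim.isQuasicoherent_sigma G
  have hkKb : kK ≫ bj = 0 := by
    apply Sigma.hom_ext
    intro a
    rw [← Category.assoc, hkK, Category.assoc, kernel.condition, comp_zero, comp_zero]
  have hFjfp : SheafOfModules.IsFinitePresentation (R := Sj.ringCatSheaf)
      (cokernel kK : Sj.Modules) :=
    FPExt.isFinitePresentation_cokernel kK (fun D hD => FPExt.finite_sections_sigma G hD)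
  -- `aj` is an epimorphism
  have hajsurj : ∀ k, Function.Surjective (aj.app (W k)) := by
    intro k y
    have h1 : Submodule.span Γ(S, W k) (Set.range (x k)) ≤
        LinearMap.range (QCProps.appₗ aj (W k)) :=
      Submodule.span_le.mpr (by rintro _ ⟨i, rfl⟩; exact ⟨_, hα k i⟩)
    have h2 : y ∈ LinearMap.range (QCProps.appₗ aj (W k)) := h1 (by rw [hxs k]; trivial)
    obtain ⟨z, hz⟩ := h2
    exact ⟨z, hz⟩
  haveI : Epi aj := QCExact.epi_of_surjective_on_affine_cover aj (fun y => by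
    obtain ⟨k, hk⟩ := hWcov y
    exact ⟨W k, hWa k, hk, hajsurj k⟩)
  have hzero : (Scheme.Modules.pullback πj).map kK ≫ aj = 0 := by
    rw [haj, ← Adjunction.homEquiv_naturality_left_symm, hkKb]
    change (Scheme.Modules.pullback πj).map 0 ≫ _ = 0
    rw [Functor.map_zero, zero_comp]
  haveI : (kernel aj : S.Modules).IsQuasicoherent := QCProps.isQuasicoherent_kernel aj
  obtain ⟨ℓ, hℓ⟩ : ∃ ℓ : (Scheme.Modules.pullback πj).obj (∐ G : Sj.Modules) ⟶ kernel aj,
      ℓ ≫ kernel.ι aj = (Scheme.Modules.pullback πj).map kK :=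
    ⟨kernel.lift aj _ hzero, kernel.lift_ι _ _ _⟩
  have hℓsurj : ∀ k, Function.Surjective (ℓ.app (W k)) := by
    intro k y
    have hz0 : aj.app (W k) ((kernel.ι aj).app (W k) y) = 0 :=
      QCExact.app_f_g_apply (ShortComplex.mk (kernel.ι aj) aj (kernel.condition aj)) (W k) y
    have hzker : (kernel.ι aj).app (W k) y ∈ LinearMap.ker (QCProps.appₗ aj (W k)) := hz0
    have hzspan := hker k hzker
    have hle : Submodule.span Γ(S, W k) (Set.range fun r =>
        unitSec πj ((Scheme.Modules.pullback u).obj P₀) (u ⁻¹ᵁ V k) (W k) (hW k).le (κ k r)) ≤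
        LinearMap.range (QCProps.appₗ ((Scheme.Modules.pullback πj).map kK) (W k)) := by
      apply Submodule.span_le.mpr
      rintro _ ⟨r, rfl⟩
      refine ⟨unitSec πj (∐ G : Sj.Modules) (u ⁻¹ᵁ V k) (W k) (hW k).le
        ((Sigma.ι G ⟨k, r⟩).app (u ⁻¹ᵁ V k) (gG ⟨k, r⟩)), ?_⟩
      change ((Scheme.Modules.pullback πj).map kK).app (W k)
        (unitSec πj (∐ G : Sj.Modules) (u ⁻¹ᵁ V k) (W k) (hW k).le
          ((Sigma.ι G ⟨k, r⟩).app (u ⁻¹ᵁ V k) (gG ⟨k, r⟩))) = _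
      rw [unitSec_app]
      congr 1
      rw [← FPExt.app_comp_apply, hkK, FPExt.app_comp_apply, hgG, hκ']
    obtain ⟨y', hy'⟩ := hle hzspan
    refine ⟨y', ?_⟩
    apply QCExact.injective_sections (kernel.ι aj) (W k)
    rw [← FPExt.app_comp_apply, hℓ]
    exact hy'
  haveI : Epi ℓ := QCExact.epi_of_surjective_on_affine_cover ℓ (fun y => by
    obtain ⟨k, hk⟩ := hWcov y
    exact ⟨W k, hWa k, hk, hℓsurj k⟩)
  have hk0 : kernel.ι aj ≫ cokernel.π ((Scheme.Modules.pullback πj).map kK) = 0 := by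
    rw [← cancel_epi ℓ, ← Category.assoc, hℓ, cokernel.condition, comp_zero]
  obtain ⟨e1, he1⟩ : ∃ e1 : cokernel ((Scheme.Modules.pullback πj).map kK) ≅ F,
      e1.hom = cokernel.desc _ aj hzero := ⟨
    { hom := cokernel.desc _ aj hzero
      inv := Abelian.epiDesc aj (cokernel.π _) hk0
      hom_inv_id := by
        rw [← cancel_epi (cokernel.π ((Scheme.Modules.pullback πj).map kK)),
          cokernel.π_desc_assoc, Abelian.comp_epiDesc, Category.comp_id]
      inv_hom_id := by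
        rw [← cancel_epi aj, Abelian.comp_epiDesc_assoc, cokernel.π_desc, Category.comp_id] }, rfl⟩
  haveI : PreservesColimitsOfSize.{0, 0} (Scheme.Modules.pullback πj) :=
    (pullbackPushforwardAdjunction πj).leftAdjoint_preservesColimits
  obtain ⟨e2, h1⟩ : ∃ e2 : (Scheme.Modules.pullback πj).obj (cokernel kK) ≅
      cokernel ((Scheme.Modules.pullback πj).map kK),
      (Scheme.Modules.pullback πj).map (cokernel.π kK) ≫ e2.hom =
        cokernel.π ((Scheme.Modules.pullback πj).map kK) :=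
    ⟨PreservesCokernel.iso (Scheme.Modules.pullback πj) kK,
      PreservesCokernel.π_iso_hom (Scheme.Modules.pullback πj) kK⟩
  haveI := hFjfp
  refine ⟨cokernel kK, cokernel.π kK, e2 ≪≫ e1, inferInstance, hFjfp, inferInstance, ?_⟩
  rw [Iso.trans_hom, ← Category.assoc]
  rw [h1, he1, cokernel.π_desc, haj, hbj]

end Construct

end Groth.Agent.Lib.Helper3.FPLim
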