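import Groth.Agent.Lib.Helper3.FPLimE
import Groth.Agent.Lib.Helper3.FPLimF

/-!
# Descent of finitely presented quotients along a cofiltered limit of schemes with affine
transition maps
-/

set_option autoImplicit false
universe u
open CategoryTheory CategoryTheory.Limits AlgebraicGeometry TopologicalSpace Opposite
open Scheme.Modules

namespace Groth.Agent.Lib.Helper3.FPLim

open QCSec QCExtend
open Groth.Agent.Lib.Helper17.UnitBC

section Mate

variable {C D : Type*} [Category C] [Category D] {L₁ L₂ : C ⥤ D} {R₁ R₂ : D ⥤ C}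

set_option maxHeartbeats 400000 in
/-- transposing along conjugate isomorphisms -/
theorem homEquiv_symm_comp_conj (adj₁ : L₁ ⊣ R₁) (adj₂ : L₂ ⊣ R₂) (t : L₁ ≅ L₂) (c₂ : R₁ ≅ R₂)
    (h : conjugateEquiv adj₁ adj₂ t.inv = c₂.hom) {M : C} {N : D} (p : L₂.obj M ⟶ N) :
    (adj₁.homEquiv M N).symm (adj₂.homEquiv M N p ≫ c₂.inv.app N) = t.hom.app M ≫ p := by
  obtain ⟨q, hq⟩ : ∃ q : M ⟶ R₁.obj N, q = adj₂.homEquiv M N p ≫ c₂.inv.app N := ⟨_, rfl⟩
  have hq2 : q ≫ c₂.hom.app N = adj₂.homEquiv M N p := by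
    rw [hq, Category.assoc, Iso.inv_hom_id_app, Category.comp_id]
  have h1 := conjugateEquiv_counit adj₁ adj₂ t.inv N
  rw [h] at h1
  have h2 : adj₁.counit.app N =
      t.hom.app (R₁.obj N) ≫ L₂.map (c₂.hom.app N) ≫ adj₂.counit.app N := by
    rw [h1, ← Category.assoc, Iso.hom_inv_id_app, Category.id_comp]
  rw [← hq, Adjunction.homEquiv_counit, h2, ← Category.assoc, t.hom.naturality q,
    Category.assoc, ← Category.assoc (L₂.map q), ← Functor.map_comp, hq2,
    ← Adjunction.homEquiv_counit, Equiv.symm_apply_apply]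

end Mate

section SchemeMate

variable {X Y Z : Scheme.{u}}

set_option maxHeartbeats 400000 in
theorem pushforwardCongr_rfl_hom_app (f : X ⟶ Y) (h : f = f) (N : X.Modules) :
    (pushforwardCongr h).hom.app N = 𝟙 _ := by
  ext U
  rw [pushforwardCongr_hom_app_app]
  simp

set_option maxHeartbeats 400000 in
theorem adj_symm_symm_eq (f : X ⟶ Y) (g : Y ⟶ Z) (h : X ⟶ Z) (hf : f ≫ g = h)
    (M : Z.Modules) (N : X.Modules) (p : (Scheme.Modules.pullback h).obj M ⟶ N) :
    ((pullbackPushforwardAdjunction f).homEquiv ((Scheme.Modules.pullback g).obj M) N).symm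
      (((pullbackPushforwardAdjunction g).homEquiv M ((pushforward f).obj N)).symm
        ((pullbackPushforwardAdjunction h).homEquiv M N p ≫
          (pushforwardCongr hf.symm).hom.app N ≫ (pushforwardComp f g).inv.app N)) =
      ((pullbackComp f g ≪≫ pullbackCongr hf).app M).hom ≫ p := by
  subst hf
  rw [pushforwardCongr_rfl_hom_app, Category.id_comp]
  have h1 : ((pullbackComp f g ≪≫ pullbackCongr rfl).app M).hom = (pullbackComp f g).hom.app M := by
    simp [pullbackCongr]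
  rw [h1]
  have h2 := homEquiv_symm_comp_conj
    ((pullbackPushforwardAdjunction g).comp (pullbackPushforwardAdjunction f))
    (pullbackPushforwardAdjunction (f ≫ g)) (pullbackComp f g) (pushforwardComp f g)
    (conjugateEquiv_pullbackComp_inv f g) p
  rw [← h2, Adjunction.comp_homEquiv]
  rfl

end SchemeMate

section MainQuot

variable {I : Type u} [SmallCategory I] [IsCofiltered I] (D : I ⥤ Scheme.{u}) (c : Cone D)
  (hc : IsLimit c) [∀ {i j : I} (f : i ⟶ j), IsAffineHom (D.map f)] (i₀ : I)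
  [CompactSpace (D.obj i₀)] [QuasiSeparatedSpace (D.obj i₀)]
  (F₀ : (D.obj i₀).Modules) [F₀.IsQuasicoherent]
  [hF₀ : SheafOfModules.IsFinitePresentation (R := (D.obj i₀).ringCatSheaf) F₀]
  (G : c.pt.Modules) [G.IsQuasicoherent]
  [hG : SheafOfModules.IsFinitePresentation (R := c.pt.ringCatSheaf) G]
  (p : (Scheme.Modules.pullback (c.π.app i₀)).obj F₀ ⟶ G) [Epi p]

include hc in
set_option maxHeartbeats 1000000 in
/-- **EGA IV 8.5.2 (ii), quotient version**: a finitely presented quotient of the pullback of a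
finitely presented module comes from a finitely presented quotient at a finite level -/
theorem exists_quotient_finitePresentation_descend :
    ∃ (j : I) (φ : j ⟶ i₀) (Gj : (D.obj j).Modules)
      (pj : (Scheme.Modules.pullback (D.map φ)).obj F₀ ⟶ Gj)
      (e : (Scheme.Modules.pullback (c.π.app j)).obj Gj ≅ G),
      Gj.IsQuasicoherent ∧
      SheafOfModules.IsFinitePresentation (R := (D.obj j).ringCatSheaf) Gj ∧ Epi pj ∧
        ((Scheme.Modules.pullbackComp (c.π.app j) (D.map φ) ≪≫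
          Scheme.Modules.pullbackCongr (c.w φ)).app F₀).inv ≫
          (Scheme.Modules.pullback (c.π.app j)).map pj ≫ e.hom = p := by
  classical
  haveI hπaff : IsAffineHom (c.π.app i₀) := isAffineHom_π_app D c hc i₀
  obtain ⟨ι₀, hι₀, V, hVa, -, hcov⟩ :=
    exists_finite_affine_cover (⊤ : (D.obj i₀).Opens)
      (by simpa using (isCompact_univ : IsCompact (Set.univ : Set (D.obj i₀))))
  have := Fintype.ofFinite ι₀
  have hcov' : ∀ x : D.obj i₀, ∃ k, x ∈ V k :=
    fun x => Opens.mem_iSup.mp (hcov (show x ∈ (⊤ : (D.obj i₀).Opens) from trivial))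
  have hWa : ∀ k, IsAffineOpen (c.π.app i₀ ⁻¹ᵁ V k) := fun k => (hVa k).preimage _
  haveI : G.IsFiniteType := inferInstance
  haveI : F₀.IsFiniteType := inferInstance
  haveI hPBfp : SheafOfModules.IsFinitePresentation (R := c.pt.ringCatSheaf)
      ((Scheme.Modules.pullback (c.π.app i₀)).obj F₀) :=
    Groth.Agent.Lib.Helper17.PbFinite.isFinitePresentation_pullback (c.π.app i₀) F₀
  haveI : ((Scheme.Modules.pullback (c.π.app i₀)).obj F₀).IsQuasicoherent := inferInstance
  have hNfin : ∀ k, Module.Finite Γ(D.obj i₀, V k) Γ(F₀, V k) :=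
    fun k => QCProps.finite_sections F₀ (hVa k)
  have hN := fun k => (hNfin k).exists_fin
  choose g n hn using hN
  obtain ⟨b₀, hb₀⟩ : ∃ b₀ : F₀ ⟶ (pushforward (c.π.app i₀)).obj G,
      b₀ = (pullbackPushforwardAdjunction (c.π.app i₀)).homEquiv F₀ G p := ⟨_, rfl⟩
  have hp : p = ((pullbackPushforwardAdjunction (c.π.app i₀)).homEquiv F₀ G).symm b₀ := by
    rw [hb₀, Equiv.symm_apply_apply]
  obtain ⟨x, hxdef⟩ : ∃ x : ∀ k, Fin (g k) → Γ(G, c.π.app i₀ ⁻¹ᵁ V k),
      ∀ k i, x k i = pushSec (c.π.app i₀) G (V k) (b₀.app (V k) (n k i)) := ⟨_, fun _ _ => rfl⟩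
  have hxs : ∀ k, Submodule.span Γ(c.pt, c.π.app i₀ ⁻¹ᵁ V k) (Set.range (x k)) = ⊤ := by
    intro k
    have hBC := isBCHom_unitSec (c.π.app i₀) F₀ (hVa k) (hWa k) le_rfl
    have hsurj : Function.Surjective (p.app (c.π.app i₀ ⁻¹ᵁ V k)) :=
      (QCExact.epi_iff_surjective_on_affines p).mp inferInstance _ (hWa k)
    have hpx : ∀ i, p.app (c.π.app i₀ ⁻¹ᵁ V k)
        (unitSec (c.π.app i₀) F₀ (V k) (c.π.app i₀ ⁻¹ᵁ V k) le_rfl (n k i)) = x k i := by
      intro i
      rw [hxdef k i]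
      conv_lhs => rw [hp]
      rw [adj_symm_unitSec]
      exact res_self _ _ _
    have hm : ∀ m : Γ(F₀, V k), p.app (c.π.app i₀ ⁻¹ᵁ V k)
        (unitSec (c.π.app i₀) F₀ (V k) (c.π.app i₀ ⁻¹ᵁ V k) le_rfl m) ∈
        Submodule.span Γ(c.pt, c.π.app i₀ ⁻¹ᵁ V k) (Set.range (x k)) := by
      intro m
      have hmm : m ∈ Submodule.span Γ(D.obj i₀, V k) (Set.range (n k)) := by
        rw [hn k]; trivial
      induction hmm using Submodule.span_induction with
      | mem y hy =>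
        obtain ⟨i, rfl⟩ := hy
        rw [hpx i]
        exact Submodule.subset_span ⟨i, rfl⟩
      | zero =>
        rw [bc_map_zero hBC, _root_.map_zero]
        exact Submodule.zero_mem _
      | add y z _ _ hy hz =>
        rw [bc_map_add hBC, _root_.map_add]
        exact Submodule.add_mem _ hy hz
      | smul a y _ hy =>
        rw [bc_map_smul hBC, Scheme.Modules.Hom.app_smul]
        exact Submodule.smul_mem _ _ hy
    rw [eq_top_iff]
    rintro y -
    obtain ⟨z, rfl⟩ := hsurj y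
    have hz : z ∈ Submodule.span Γ(c.pt, c.π.app i₀ ⁻¹ᵁ V k)
        (Set.range (unitSec (c.π.app i₀) F₀ (V k) (c.π.app i₀ ⁻¹ᵁ V k) le_rfl)) :=
      (bc_span_range hBC).ge Submodule.mem_top
    induction hz using Submodule.span_induction with
    | mem y hy =>
      obtain ⟨m, rfl⟩ := hy
      exact hm m
    | zero =>
      rw [_root_.map_zero]
      exact Submodule.zero_mem _
    | add y z _ _ hy hz =>
      rw [_root_.map_add]
      exact Submodule.add_mem _ hy hz
    | smul a y _ hy =>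
      rw [Scheme.Modules.Hom.app_smul]
      exact Submodule.smul_mem _ _ hy
  -- Stage 2
  have hMfp : ∀ k, Module.FinitePresentation Γ(c.pt, c.π.app i₀ ⁻¹ᵁ V k)
      Γ(G, c.π.app i₀ ⁻¹ᵁ V k) := fun k => QCProps.finitePresentation_sections G (hWa k)
  have hkerfg : ∀ k, ∃ (h : ℕ) (w : Fin h → (Fin (g k) → Γ(c.pt, c.π.app i₀ ⁻¹ᵁ V k))),
      Submodule.span Γ(c.pt, c.π.app i₀ ⁻¹ᵁ V k) (Set.range w) =
        LinearMap.ker (Fintype.linearCombination Γ(c.pt, c.π.app i₀ ⁻¹ᵁ V k) (x k)) := by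
    intro k
    haveI := hMfp k
    have hsurj : Function.Surjective
        (Fintype.linearCombination Γ(c.pt, c.π.app i₀ ⁻¹ᵁ V k) (x k)) :=
      (span_range_eq_top_iff_surjective_fintypeLinearCombination _ _).mp (hxs k)
    exact Submodule.fg_iff_exists_fin_generating_family.mp
      (Module.FinitePresentation.fg_ker _ hsurj)
  choose h w hw using hkerfg
  -- Stage 3
  obtain ⟨j, φ, hjφ⟩ := exists_common_level (D := D) (c := c) (i₀ := i₀) hc
    (Finset.univ : Finset (Σ k : ι₀, Fin (h k) × Fin (g k))) (fun a => V a.1)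
    (fun a => hVa a.1) (fun a => w a.1 a.2.1 a.2.2)
  have hτex : ∀ k (r : Fin (h k)) (i : Fin (g k)),
      ∃ (e : c.π.app i₀ ⁻¹ᵁ V k ≤ c.π.app j ⁻¹ᵁ (D.map φ ⁻¹ᵁ V k))
        (t : Γ(D.obj j, D.map φ ⁻¹ᵁ V k)),
        ((c.π.app j).appLE (D.map φ ⁻¹ᵁ V k) (c.π.app i₀ ⁻¹ᵁ V k) e).hom t = w k r i :=
    fun k r i => hjφ ⟨k, (r, i)⟩ (Finset.mem_univ _)
  choose eτ τ hτ using hτex
  -- Stage 4
  have hW : ∀ k, c.π.app i₀ ⁻¹ᵁ V k = c.π.app j ⁻¹ᵁ (D.map φ ⁻¹ᵁ V k) := fun k => by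
    rw [← Scheme.Hom.comp_preimage, c.w]
  haveI : IsAffineHom (c.π.app j) := isAffineHom_π_app D c hc j
  haveI : CompactSpace (D.obj j) := QuasiCompact.compactSpace_of_compactSpace (D.map φ)
  haveI : QuasiSeparatedSpace (D.obj j) := quasiSeparatedSpace_of_quasiSeparated (D.map φ)
  obtain ⟨b₀', hb₀'⟩ : ∃ b₀' : F₀ ⟶ (pushforward (D.map φ)).obj ((pushforward (c.π.app j)).obj G),
      b₀' = b₀ ≫ (pushforwardCongr (c.w φ).symm).hom.app G ≫
        (pushforwardComp (c.π.app j) (D.map φ)).inv.app G := ⟨_, rfl⟩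
  have hx : ∀ k i, x k i = res G (hW k).le
      (show Γ(G, c.π.app j ⁻¹ᵁ (D.map φ ⁻¹ᵁ V k)) from b₀'.app (V k) (n k i)) := by
    intro k i
    have h1 : (show Γ(G, c.π.app j ⁻¹ᵁ (D.map φ ⁻¹ᵁ V k)) from b₀'.app (V k) (n k i)) =
        res G (hW k).ge (x k i) := by
      rw [hb₀', hxdef k i]
      exact map_eq_res G (eqToHom (hW k).symm).op _
    rw [h1, res_res, res_self]
  obtain ⟨Gj, pj, e, hGjq, hGjfp, hpj, hcompat⟩ :=
    exists_quotient_descent_of_level_data (πj := c.π.app j)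
      (u := D.map φ) (F := G) (P₀ := F₀) (b₀ := b₀') (V := V) hVa hcov'
      (W := fun k => c.π.app i₀ ⁻¹ᵁ V k) hW g n hn x hx hxs h w hw τ
      (fun k r i => hτ k r i)
  refine ⟨j, φ, Gj, pj, e, hGjq, hGjfp, hpj, ?_⟩
  rw [hcompat, hb₀', hb₀, adj_symm_symm_eq (c.π.app j) (D.map φ) (c.π.app i₀) (c.w φ) F₀ G p,
    ← Category.assoc, Iso.inv_hom_id, Category.id_comp]

end MainQuot

end Groth.Agent.Lib.Helper3.FPLim
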