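import Groth.Agent.Lib.Helper3.AwayBC
import Groth.Agent.Lib.Helper17.UnitBC

/-!
# Base change along `T → T'` from base change along `R' → R` (family criterion)
-/

set_option autoImplicit false
universe u
open TensorProduct

namespace Groth.Agent.Lib.Helper3.FamilyBC

open Groth.Agent.Lib.Helper17.UnitBC

/-- Abstract criterion: `M → N` (semilinear over `ρ : T → T'`) is a base change along `ρ` provided
it is a base change along `R' → R` (checked through the family criterion) and `T'` is generated by
the images of `T` and `R`. -/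
theorem isBCHom_of_family
    {R' R : Type u} [CommRing R'] [CommRing R] [Algebra R' R]
    {B A : Type u} [AddCommGroup B] [Module R' B]
    [AddCommGroup A] [Module R A] [Module R' A] [IsScalarTower R' R A]
    {T T' : Type u} [CommRing T] [CommRing T']
    {M N : Type u} [AddCommGroup M] [Module T M] [AddCommGroup N] [Module T' N]
    (ι' : R' →+* T) (c : R →+* T') (ρ : T →+* T')
    (hsq : ∀ r, ρ (ι' r) = c (algebraMap R' R r))
    (hT : ∀ t' : T', t' ∈ Subsemiring.closure (Set.range ρ ∪ Set.range c))
    (j : B →ₗ[R'] A) (hj : IsBaseChange R j)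
    (β : M →+ N) (hβ : ∀ t m, β (t • m) = ρ t • β m)
    (ψ : ℕ → B →+ M) (hψlin : ∀ k r b, ψ k (r • b) = ι' r • ψ k b)
    (χ : ℕ → A →+ N) (hχlin : ∀ k r a, χ k (r • a) = c r • χ k a)
    (hμψ : ∀ k b, β (ψ k b) = χ k (j b))
    (hψsurj : ∀ x : M, ∃ k b, ψ k b = x) (hχsurj : ∀ y : N, ∃ k a, χ k a = y)
    (ν : ℕ → B →ₗ[R'] B) (hν : ∀ e k b, ψ (e + k) (ν e b) = ψ k b)
    (σ : ℕ → ℕ → B →ₗ[R'] B) (τ : ℕ → ℕ → A →ₗ[R] A)
    (hστ : ∀ e k b, j (σ e k b) = τ e k (j b))
    (hσ : ∀ e k b, ψ (e + k) (σ e k b) = ψ k b)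
    (hker : ∀ k a, χ k a = 0 → ∃ K, τ K k a = 0) :
    IsBCHom ρ (fun m => β m) := by
  letI mR'M : Module R' M := Module.compHom M ι'
  letI mRN : Module R N := Module.compHom N c
  letI mR'N : Module R' N := Module.compHom N (c.comp (algebraMap R' R))
  haveI st1 : IsScalarTower R' R N := ⟨fun r' r y => by
    change c (r' • r) • y = c (algebraMap R' R r') • (c r • y)
    rw [Algebra.smul_def, map_mul, mul_smul]⟩
  let μ : M →ₗ[R'] N :=
    { toFun := β
      map_add' := map_add β
      map_smul' := fun r m => by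
        change β (ι' r • m) = c (algebraMap R' R r) • β m
        rw [hβ, hsq] }
  let ψ' : ℕ → B →ₗ[R'] M := fun k =>
    { toFun := ψ k
      map_add' := map_add (ψ k)
      map_smul' := fun r b => hψlin k r b }
  let χ' : ℕ → A →ₗ[R] N := fun k =>
    { toFun := χ k
      map_add' := map_add (χ k)
      map_smul' := fun r a => hχlin k r a }
  have hbc : IsBaseChange R μ :=
    AwayBC.isBaseChange_of_family j hj μ ψ' χ' (fun k b => hμψ k b) (fun x => hψsurj x)
      (fun y => hχsurj y) ν (fun e k b => hν e k b) σ τ hστ (fun e k b => hσ e k b)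
      (fun k a h => hker k a h)
  -- step 2
  letI algρ : Algebra T T' := ρ.toAlgebra
  letI mTN : Module T N := Module.compHom N ρ
  haveI st2 : IsScalarTower T T' N := IsScalarTower.of_algebraMap_smul fun _ _ => rfl
  let lin : M →ₗ[T] N :=
    { toFun := β
      map_add' := map_add β
      map_smul' := fun t m => hβ t m }
  refine ⟨lin, fun m => rfl, ?_⟩
  apply IsBaseChange.of_lift_unique
  intro Q _ _ _ _ g
  letI mRQ : Module R Q := Module.compHom Q c
  letI mR'Q : Module R' Q := Module.compHom Q (c.comp (algebraMap R' R))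
  haveI st3 : IsScalarTower R' R Q := ⟨fun r' r y => by
    change c (r' • r) • y = c (algebraMap R' R r') • (c r • y)
    rw [Algebra.smul_def, map_mul, mul_smul]⟩
  have hTQ : ∀ (t : T) (q : Q), t • q = ρ t • q := fun t q => (algebraMap_smul T' t q).symm
  let g₀ : M →ₗ[R'] Q :=
    { toFun := g
      map_add' := map_add g
      map_smul' := fun r m => by
        change g (ι' r • m) = c (algebraMap R' R r) • g m
        rw [g.map_smul, hTQ, hsq] }
  let g₁ : N →ₗ[R] Q := hbc.lift g₀
  have hg₁ : ∀ m, g₁ (β m) = g m := fun m => hbc.lift_eq g₀ m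
  have hlin : ∀ (t' : T') (y : N), g₁ (t' • y) = t' • g₁ y := by
    intro t'
    refine Subsemiring.closure_induction
      (p := fun t' _ => ∀ y : N, g₁ (t' • y) = t' • g₁ y) ?_ ?_ ?_ ?_ ?_ (hT t')
    · rintro x (⟨t, rfl⟩ | ⟨r, rfl⟩)
      · let F₁ : N →ₗ[R] Q :=
          { toFun := fun y => g₁ (ρ t • y)
            map_add' := fun y y' => by rw [smul_add, map_add]
            map_smul' := fun r y => by
              change g₁ (ρ t • (c r • y)) = c r • g₁ (ρ t • y)
              rw [smul_comm (ρ t) (c r) y]
              exact g₁.map_smul r (ρ t • y) }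
        let F₂ : N →ₗ[R] Q :=
          { toFun := fun y => ρ t • g₁ y
            map_add' := fun y y' => by rw [map_add, smul_add]
            map_smul' := fun r y => by
              change ρ t • g₁ (r • y) = c r • (ρ t • g₁ y)
              rw [g₁.map_smul]
              change ρ t • (c r • g₁ y) = c r • (ρ t • g₁ y)
              rw [smul_comm] }
        have hF : F₁ = F₂ := hbc.algHom_ext F₁ F₂ (fun m => by
          change g₁ (ρ t • β m) = ρ t • g₁ (β m)
          rw [← hβ, hg₁, hg₁, g.map_smul, hTQ])
        intro y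
        exact LinearMap.congr_fun hF y
      · intro y
        exact g₁.map_smul r y
    · intro y
      rw [zero_smul, zero_smul, map_zero]
    · intro y
      rw [one_smul, one_smul]
    · intro x x' _ _ hx hx' y
      rw [add_smul, add_smul, map_add, hx, hx']
    · intro x x' _ _ hx hx' y
      rw [mul_smul, mul_smul, hx, hx']
  let g' : N →ₗ[T'] Q :=
    { toFun := g₁
      map_add' := map_add g₁
      map_smul' := fun t' y => hlin t' y }
  refine ⟨g', ?_, ?_⟩
  · ext m
    exact hg₁ m
  · intro g'' hg''
    have hg''m : ∀ m, g'' (β m) = g m := fun m => LinearMap.congr_fun hg'' m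
    let G : N →ₗ[R] Q :=
      { toFun := g''
        map_add' := map_add g''
        map_smul' := fun r y => g''.map_smul (c r) y }
    have hG : G = g₁ := hbc.algHom_ext G g₁ (fun m => by
      change g'' (β m) = g₁ (β m)
      rw [hg''m, hg₁])
    ext y
    exact LinearMap.congr_fun hG y

end Groth.Agent.Lib.Helper3.FamilyBC
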