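import Groth.Agent.Lib.Helper3.SecFam
import Groth.Agent.Lib.Helper3.ProjStruct

/-!
# Flatness of the sections of `O(n)` over `D_+(f)` when the graded pieces are eventually flat
-/

set_option autoImplicit false
set_option linter.unusedSectionVars false
universe u
open CategoryTheory CategoryTheory.Limits AlgebraicGeometry TopologicalSpace Opposite
open HomogeneousLocalization
open scoped HomogeneousIdeal

namespace Groth.Agent.Lib.Helper3.FlatFam

section abstract

variable {R : Type u} [CommRing R] {N : Type u} [AddCommGroup N] [Module R N]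
  {Q : Type u} [AddCommGroup Q] [Module R Q]
  (χ : ℕ → Q →+ N) (hχ : ∀ (k : ℕ) (r : R) (q : Q), χ k (r • q) = r • χ k q)
  (F : Q →ₗ[R] Q) (π : ℕ → Q →ₗ[R] Q)
  (hπ : ∀ k q, χ k (π k q) = χ k q)
  (hππ : ∀ k q, π k (π k q) = π k q)
  (hsurj : ∀ s : N, ∃ k q, χ k q = s)
  (hshift : ∀ e k q, χ (e + k) ((F ^ e) q) = χ k q)
  (hker : ∀ k q, χ k q = 0 → ∃ K, (F ^ K) (π k q) = 0)
  (hFπ : ∀ e k q, (F ^ e) (π k q) = π (e + k) ((F ^ e) q))
  (k₀ : ℕ) (hflat : ∀ k, k₀ ≤ k → ∃ P : Submodule R Q, Module.Flat R P ∧ ∀ q, π k q ∈ P)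

include hχ hπ hππ hsurj hshift hker hFπ hflat in
/-- a module which is a "colimit" of eventually flat pieces is flat -/
theorem flat_of_family : Module.Flat R N := by
  apply Module.Flat.of_forall_isTrivialRelation
  intro l c x hx
  choose kk qq hq using fun i => hsurj (x i)
  let K := k₀ + ∑ i, kk i
  have hK : ∀ i, kk i ≤ K := fun i =>
    le_trans (Finset.single_le_sum (fun _ _ => Nat.zero_le _) (Finset.mem_univ i))
      (Nat.le_add_left _ _)
  let q' : Fin l → Q := fun i => (F ^ (K - kk i)) (qq i)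
  have hq' : ∀ i, χ K (q' i) = x i := by
    intro i
    have h1 := hshift (K - kk i) (kk i) (qq i)
    rw [Nat.sub_add_cancel (hK i)] at h1
    exact h1.trans (hq i)
  let m : Fin l → Q := fun i => π K (q' i)
  have hm : ∀ i, χ K (m i) = x i := fun i => (hπ K _).trans (hq' i)
  have h0 : χ K (∑ i, c i • m i) = 0 := by
    rw [map_sum, ← hx]
    refine Finset.sum_congr rfl (fun i _ => ?_)
    rw [hχ, hm]
  obtain ⟨E, hE⟩ := hker K _ h0
  have hπm : π K (∑ i, c i • m i) = ∑ i, c i • m i := by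
    rw [map_sum]
    refine Finset.sum_congr rfl (fun i _ => ?_)
    rw [map_smul]
    congr 1
    exact hππ K (q' i)
  rw [hπm, map_sum] at hE
  have hKE : k₀ ≤ E + K := le_trans (Nat.le_add_right _ _) (Nat.le_add_left _ _)
  obtain ⟨P, hPflat, hP⟩ := hflat (E + K) hKE
  have hmem : ∀ i, (F ^ E) (m i) ∈ P := fun i => by
    have h1 : (F ^ E) (m i) = π (E + K) ((F ^ E) (q' i)) := hFπ E K (q' i)
    rw [h1]
    exact hP _
  let pp : Fin l → P := fun i => ⟨(F ^ E) (m i), hmem i⟩
  have hpp : ∑ i, c i • pp i = 0 := by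
    apply Subtype.ext
    rw [Submodule.coe_sum, Submodule.coe_zero, ← hE]
    refine Finset.sum_congr rfl (fun i _ => ?_)
    rw [Submodule.coe_smul, map_smul]
  haveI := hPflat
  obtain ⟨k, a, y, hy1, hy2⟩ := Module.Flat.isTrivialRelation_of_sum_smul_eq_zero hpp
  refine ⟨k, a, fun j => χ (E + K) (y j : Q), fun i => ?_, hy2⟩
  have h1 : x i = χ (E + K) ((F ^ E) (m i)) := by rw [hshift, hm]
  have h2 : (F ^ E) (m i) = ∑ j, a i j • (y j : Q) := by
    have h3 := congrArg (Subtype.val) (hy1 i)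
    rw [Submodule.coe_sum] at h3
    refine h3.trans (Finset.sum_congr rfl (fun j _ => ?_))
    rw [Submodule.coe_smul]
  rw [h1, h2, map_sum]
  exact Finset.sum_congr rfl (fun j _ => hχ _ _ _)

end abstract

section graded

open SecFam

variable {A σ : Type u} [CommRing A] [SetLike σ A] [AddSubgroupClass σ A] {𝒜 : ℕ → σ}
  [GradedRing 𝒜] {R : Type u} [CommRing R] (b : R →+* A) (hb : ∀ r, b r ∈ 𝒜 0) (n : ℤ)
  {d : ℕ} (hd : 0 < d) {f : A} (hf : f ∈ 𝒜 d)

theorem mulLeft_pow_apply {R A : Type u} [CommRing R] [CommRing A] [Algebra R A] (f : A) (e : ℕ)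
    (q : A) : ((LinearMap.mulLeft R f) ^ e) q = f ^ e * q := by
  induction e with
  | zero => simp
  | succ e ih =>
    rw [pow_succ', Module.End.mul_apply, ih, LinearMap.mulLeft_apply, pow_succ', mul_assoc]

include hd in
theorem le_idx (k : ℕ) : k ≤ idx n d k := by
  have h1 := idx_spec hd n k
  have h2 := k0_spec n
  have h3 : k + k0 n ≤ (k + k0 n) * d := Nat.le_mul_of_pos_right _ hd
  generalize (k + k0 n) * d = T at h1 h3
  omega

include hb hd hf in
/-- the sections of `O(n)` over `D_+(f)` are flat over `R` when the graded pieces are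
eventually flat -/
theorem flat_sections (d₀ : ℕ)
    (hflat : ∀ i, d₀ ≤ i → letI := b.toAlgebra
      Module.Flat R ↥(Submodule.span R (𝒜 i : Set A))) :
    letI : Module R Γ(GrMod.tilde 𝒜 𝒜 n, Proj.basicOpen 𝒜 f) :=
      Module.compHom _ (SecFam.ι f b hb)
    Module.Flat R Γ(GrMod.tilde 𝒜 𝒜 n, Proj.basicOpen 𝒜 f) := by
  letI alg : Algebra R A := b.toAlgebra
  letI : Module R Γ(GrMod.tilde 𝒜 𝒜 n, Proj.basicOpen 𝒜 f) :=
    Module.compHom _ (SecFam.ι f b hb)
  have hb0 : ∀ r : R, b r ∈ 𝒜 (0 • d) := fun r => by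
    rw [zero_smul]
    exact hb r
  let π : ℕ → A →ₗ[R] A := fun k =>
    { toFun := fun x => dec 𝒜 (idx n d k) x
      map_add' := fun x y => dec_add 𝒜 _ x y
      map_smul' := fun r x => by
        rw [RingHom.id_apply, Algebra.smul_def, Algebra.smul_def]
        change dec 𝒜 (idx n d k) (b r * x) = b r * dec 𝒜 (idx n d k) x
        exact dec_smul_zero 𝒜 (hb r) (idx n d k) x }
  refine flat_of_family (fun k => secFam 𝒜 hd hf n k) ?_ (LinearMap.mulLeft R f) π ?_ ?_ ?_ ?_ ?_
    ?_ d₀ ?_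
  · intro k r q
    change secFam 𝒜 hd hf n k (r • q) = SecFam.ι f b hb r • secFam 𝒜 hd hf n k q
    rw [Algebra.smul_def, ι_eq_mk hf _ hb r (hb0 r)]
    exact secFam_smul_zero 𝒜 hd hf n (hb0 r) k q
  · intro k q
    exact secFam_dec 𝒜 hd hf n k q
  · intro k q
    exact dec_dec 𝒜 _ q
  · intro s
    exact secFam_surj 𝒜 hd hf n s
  · intro e k q
    rw [mulLeft_pow_apply]
    exact secFam_pow_smul 𝒜 hd hf n e k q
  · intro k q h
    obtain ⟨K, hK⟩ := secFam_eq_zero 𝒜 hd hf n k q h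
    refine ⟨K, ?_⟩
    rw [mulLeft_pow_apply]
    exact hK
  · intro e k q
    rw [mulLeft_pow_apply, mulLeft_pow_apply]
    change f ^ e * dec 𝒜 (idx n d k) q = dec 𝒜 (idx n d (e + k)) (f ^ e * q)
    rw [idx_add hd n e k]
    exact (dec_smul 𝒜 (pow_mem' hf e) (idx n d k) q).symm
  · intro k hk
    refine ⟨Submodule.span R (𝒜 (idx n d k) : Set A),
      hflat (idx n d k) (hk.trans (le_idx n hd k)), fun q => ?_⟩
    exact Submodule.subset_span (dec_mem 𝒜 _ q)

end graded

end Groth.Agent.Lib.Helper3.FlatFam
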