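import Groth.Agent.Lib.Helper3.FpqcAmple

/-!
# fpqc descent of ampleness over an affine base, for a finite family of flat affine base changes

Family version of `FpqcAmple.isAmple_of_pullback_fpqc_aux` (no coproducts of schemes are needed).
-/

set_option autoImplicit false
universe u
open CategoryTheory CategoryTheory.Limits AlgebraicGeometry TopologicalSpace Opposite
open Scheme.Modules

namespace Groth.Agent.Lib.Helper3.FpqcAmpleFam

open InvGen InvTensor InvMonoidal InvCoh PbBasic IdealMod GlobGen InvAmple PbTensor FpqcAmple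

/-- joint surjectivity of the projections `p i` -/
theorem exists_preimage {X Y : Scheme.{u}} (f : X ⟶ Y) {n : ℕ} (Y' X' : Fin n → Scheme.{u})
    (g : ∀ i, Y' i ⟶ Y) (p : ∀ i, X' i ⟶ X) (f' : ∀ i, X' i ⟶ Y' i)
    (hc : ∀ i, IsPullback (p i) (f' i) f (g i))
    (hsurj : ∀ y : Y, ∃ (i : Fin n) (y' : Y' i), g i y' = y) (x : X) :
    ∃ (i : Fin n) (x' : X' i), p i x' = x := by
  obtain ⟨i, y', hy'⟩ := hsurj (f x)
  obtain ⟨z, hz1, -⟩ := Scheme.Pullback.exists_preimage_pullback (f := f) (g := g i) x y' hy'.symm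
  refine ⟨i, (hc i).isoPullback.inv z, ?_⟩
  have h1 : (hc i).isoPullback.inv ≫ p i = pullback.fst f (g i) := (hc i).isoPullback_inv_fst
  rw [← hz1, ← h1]
  rfl

/-- quasi-separatedness descends along a finite jointly surjective family of affine morphisms -/
theorem quasiSeparatedSpace_of_family {X : Scheme.{u}} {n : ℕ} (X' : Fin n → Scheme.{u})
    (p : ∀ i, X' i ⟶ X) [∀ i, IsAffineHom (p i)] [∀ i, QuasiSeparatedSpace (X' i)]
    (hsurj : ∀ x : X, ∃ (i : Fin n) (x' : X' i), p i x' = x) : QuasiSeparatedSpace X := by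
  rw [quasiSeparatedSpace_iff_forall_affineOpens]
  intro U V
  have hcomp : ∀ i, IsCompact (((p i) ⁻¹ᵁ U.1 : (X' i).Opens) ∩ ((p i) ⁻¹ᵁ V.1 : (X' i).Opens) :
      Set (X' i)) := fun i =>
    QuasiSeparatedSpace.inter_isCompact _ _ ((p i) ⁻¹ᵁ U.1).2 (U.2.preimage (p i)).isCompact
      ((p i) ⁻¹ᵁ V.1).2 (V.2.preimage (p i)).isCompact
  have hEq : ((U.1 : Set X) ∩ (V.1 : Set X)) =
      ⋃ i, (p i) '' ((((p i) ⁻¹ᵁ U.1 : (X' i).Opens) : Set (X' i)) ∩
        (((p i) ⁻¹ᵁ V.1 : (X' i).Opens) : Set (X' i))) := by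
    ext x
    constructor
    · rintro ⟨hxU, hxV⟩
      obtain ⟨i, x', rfl⟩ := hsurj x
      exact Set.mem_iUnion.mpr ⟨i, x', ⟨hxU, hxV⟩, rfl⟩
    · intro hx
      obtain ⟨i, x', ⟨h1, h2⟩, rfl⟩ := Set.mem_iUnion.mp hx
      exact ⟨h1, h2⟩
  rw [hEq]
  exact isCompact_iUnion (fun i => (hcomp i).image (p i).continuous)

set_option maxHeartbeats 1000000 in
/-- family version of the fpqc descent of ampleness over an affine base -/
theorem isAmple_of_pullback_family {X Y : Scheme.{u}} [IsAffine Y] (f : X ⟶ Y) [QuasiCompact f]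
    (L : X.Modules) (hL : PicF.IsInvertible L) {n : ℕ}
    (Y' X' : Fin n → Scheme.{u}) [∀ i, IsAffine (Y' i)] (g : ∀ i, Y' i ⟶ Y) (p : ∀ i, X' i ⟶ X)
    (f' : ∀ i, X' i ⟶ Y' i)
    (hc : ∀ i, IsPullback (p i) (f' i) f (g i)) [∀ i, Flat (g i)]
    (hsurj : ∀ y : Y, ∃ (i : Fin n) (y' : Y' i), g i y' = y)
    (h : ∀ i, CohB1.IsAmple ((Scheme.Modules.pullback (p i)).obj L))
    (hN1 : QuasiSeparated f → ∀ (G : X.Modules), G.IsQuasicoherent →
      (∀ i, Curv2.IsGloballyGenerated ((Scheme.Modules.pullback (p i)).obj G)) →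
      Curv2.IsGloballyGenerated G) :
    CohB1.IsAmple L := by
  haveI : CompactSpace X := QuasiCompact.compactSpace_of_compactSpace f
  have hsepX' : ∀ i, (X' i).IsSeparated := fun i => RelAmpleLib.isSeparated_of_isAmple (h i)
  haveI : ∀ i, QuasiSeparatedSpace (X' i) := fun i => by
    haveI := hsepX' i
    infer_instance
  haveI hpaff : ∀ i, IsAffineHom (p i) := fun i =>
    MorphismProperty.of_isPullback (P := @IsAffineHom) (hc i).flip inferInstance
  haveI : QuasiSeparatedSpace X :=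
    quasiSeparatedSpace_of_family X' p (exists_preimage f Y' X' g p f' hc hsurj)
  have hqs : QuasiSeparated f :=
    (HasAffineProperty.iff_of_isAffine (P := @QuasiSeparated) (f := f)).mpr ‹_›
  haveI : ∀ i, CompactSpace (X' i) := fun i => by
    haveI : QuasiCompact (f' i) :=
      MorphismProperty.of_isPullback (P := @QuasiCompact) (hc i) inferInstance
    exact QuasiCompact.compactSpace_of_compactSpace (f' i)
  apply IdealAmple.isAmple_of_ideal_twists hL
  intro U hU
  obtain ⟨J, j, hmono, hqc, hft, he, hdisj⟩ := exists_finiteType_ideal hU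
  refine ⟨J, j, hmono, he, hdisj, ?_⟩
  haveI : J.IsQuasicoherent := hqc
  haveI : J.IsFiniteType := hft
  have key : ∀ i, ∃ n₀ : ℕ, ∀ m, n₀ ≤ m → Curv2.IsGloballyGenerated
      ((Scheme.Modules.pullback (p i)).obj (CohB1.tensorMod J (CohB1.tensorPow L m))) := by
    intro i
    haveI : ((Scheme.Modules.pullback (p i)).obj J).IsQuasicoherent :=
      Groth.Agent.Lib.Helper17.PbStalk.isQuasicoherent_pullback _ J
    haveI : ((Scheme.Modules.pullback (p i)).obj J).IsFiniteType :=
      Groth.Agent.Lib.Helper17.PbFinite.isFiniteType_pullback _ J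
    obtain ⟨n₀, hn₀⟩ := exists_isGloballyGenerated_twist (h i)
      ((Scheme.Modules.pullback (p i)).obj J)
    exact ⟨n₀, fun m hm => isGloballyGenerated_of_iso (pbTwistIso (p i) J L hL m).symm (hn₀ m hm)⟩
  choose n₀ hn₀ using key
  refine ⟨Finset.univ.sup n₀, ?_⟩
  have hqc2 : (CohB1.tensorMod J
      (CohB1.tensorPow L (Finset.univ.sup n₀ + 1))).IsQuasicoherent :=
    isQuasicoherent_tensorMod J _ (isInvertible_tensorPow hL (Finset.univ.sup n₀ + 1))
  exact hN1 hqs _ hqc2 (fun i => hn₀ i _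
    (le_trans (Finset.le_sup (Finset.mem_univ i)) (Nat.le_succ _)))

end Groth.Agent.Lib.Helper3.FpqcAmpleFam
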