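import Groth.Agent.Lib.Helper3.GGSpreadA
import Groth.Agent.Lib.Helper3.GlobGen
import Groth.Agent.Lib.Helper3.InvCoh

/-!
# Global generation of a pulled-back invertible module in terms of coordinate functions
-/

set_option autoImplicit false
universe u
open CategoryTheory CategoryTheory.Limits AlgebraicGeometry TopologicalSpace Opposite
open Scheme.Modules

namespace Groth.Agent.Lib.Helper3.GGLim

open QCSec InvGen PbBasic GGSpread

section Basic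

variable {X : Scheme.{u}}

set_option maxHeartbeats 400000 in
theorem isGloballyGenerated_of_genAtPt_top (L : X.Modules) [L.IsQuasicoherent] {I : Type u}
    (σ : I → Γ(L, ⊤)) (h : ∀ x : X, ∃ i, GenAtPt L ⊤ (σ i) x) :
    Curv2.IsGloballyGenerated L := by
  apply GlobGen.isGloballyGenerated_of_span L σ
  intro x
  obtain ⟨i, D, hD, hxD, hg⟩ := h x
  obtain ⟨A, hA, hxA, hAD⟩ := Opens.isBasis_iff_nbhd.mp X.isBasis_affineOpens hxD
  refine ⟨A, hA, hxA, ?_⟩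
  have hgenA : IsGenAt L A (res L (le_top : A ≤ ⊤) (σ i)) := by
    have := hg A hAD
    rwa [res_res] at this
  rw [eq_top_iff]
  intro z _
  obtain ⟨a, ha⟩ := hgenA.2 z
  rw [← ha]
  exact Submodule.smul_mem _ _ (Submodule.subset_span ⟨i, rfl⟩)

end Basic

section Coord

variable {T₀ : Scheme.{u}} {B : Type u} (V : B → T₀.Opens) (g : ∀ b b', Γ(T₀, V b ⊓ V b'))

/-- a compatible family of coordinate functions of a section of `θ^* L₀` -/
def Compat {T' : Scheme.{u}} (θ : T' ⟶ T₀) (a : ∀ b, Γ(T', θ ⁻¹ᵁ V b)) : Prop :=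
  ∀ b b', rres T' (show θ ⁻¹ᵁ (V b ⊓ V b') ≤ θ ⁻¹ᵁ V b from fun _ hx => hx.1) (a b) =
    (θ.app (V b ⊓ V b')).hom (g b b') *
      rres T' (show θ ⁻¹ᵁ (V b ⊓ V b') ≤ θ ⁻¹ᵁ V b' from fun _ hx => hx.2) (a b')

/-- finitely many compatible coordinate families without common base point -/
def CoordGG {T' : Scheme.{u}} (θ : T' ⟶ T₀) : Prop :=
  ∃ (Λ : Type u) (_ : Finite Λ) (a : Λ → ∀ b, Γ(T', θ ⁻¹ᵁ V b)),
    (∀ l, Compat V g θ (a l)) ∧ ∀ x : T', ∃ l b, x ∈ T'.basicOpen (a l b)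

variable {V g}

theorem CoordGG.congr {T' : Scheme.{u}} {θ θ' : T' ⟶ T₀} (h : θ = θ') (hc : CoordGG V g θ) :
    CoordGG V g θ' := h ▸ hc

variable (V) in
/-- base change of a coordinate family -/
noncomputable def bc {T' T'' : Scheme.{u}} (u : T'' ⟶ T') (θ : T' ⟶ T₀)
    (a : ∀ b, Γ(T', θ ⁻¹ᵁ V b)) : ∀ b, Γ(T'', (u ≫ θ) ⁻¹ᵁ V b) :=
  fun b => (u.app (θ ⁻¹ᵁ V b)).hom (a b)

theorem app_rres {T' T'' : Scheme.{u}} (u : T'' ⟶ T') {A B' : T'.Opens} (h : A ≤ B')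
    (r : Γ(T', B')) :
    (u.app A).hom (rres T' h r) =
      rres T'' (show u ⁻¹ᵁ A ≤ u ⁻¹ᵁ B' from fun _ hx => h hx) ((u.app B').hom r) :=
  congr($(u.naturality (homOfLE h).op) r)

set_option maxHeartbeats 400000 in
theorem compat_bc_of {T' T'' : Scheme.{u}} (u : T'' ⟶ T') (θ : T' ⟶ T₀)
    (a : ∀ b, Γ(T', θ ⁻¹ᵁ V b))
    (h : ∀ b b', (u.app (θ ⁻¹ᵁ (V b ⊓ V b'))).hom
        (rres T' (show θ ⁻¹ᵁ (V b ⊓ V b') ≤ θ ⁻¹ᵁ V b from fun _ hx => hx.1) (a b)) =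
      (u.app (θ ⁻¹ᵁ (V b ⊓ V b'))).hom ((θ.app (V b ⊓ V b')).hom (g b b') *
        rres T' (show θ ⁻¹ᵁ (V b ⊓ V b') ≤ θ ⁻¹ᵁ V b' from fun _ hx => hx.2) (a b'))) :
    Compat V g (u ≫ θ) (bc V u θ a) := by
  intro b b'
  have h1 := h b b'
  rw [_root_.map_mul, app_rres, app_rres] at h1
  exact h1

theorem Compat.bc {T' T'' : Scheme.{u}} (u : T'' ⟶ T') {θ : T' ⟶ T₀}
    {a : ∀ b, Γ(T', θ ⁻¹ᵁ V b)} (ha : Compat V g θ a) : Compat V g (u ≫ θ) (bc V u θ a) :=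
  compat_bc_of u θ a (fun b b' => congrArg _ (ha b b'))

theorem basicOpen_bc {T' T'' : Scheme.{u}} (u : T'' ⟶ T') (θ : T' ⟶ T₀)
    (a : ∀ b, Γ(T', θ ⁻¹ᵁ V b)) (b : B) :
    T''.basicOpen (bc V u θ a b) = u ⁻¹ᵁ T'.basicOpen (a b) :=
  (Scheme.preimage_basicOpen u (a b)).symm

theorem CoordGG.comp {T' T'' : Scheme.{u}} (u : T'' ⟶ T') {θ : T' ⟶ T₀}
    (hc : CoordGG V g θ) : CoordGG V g (u ≫ θ) := by
  obtain ⟨Λ, hΛ, a, hcomp, hcov⟩ := hc
  refine ⟨Λ, hΛ, fun l => bc V u θ (a l), fun l => (hcomp l).bc u, fun x => ?_⟩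
  obtain ⟨l, b, hx⟩ := hcov (u x)
  refine ⟨l, b, ?_⟩
  rw [basicOpen_bc]
  exact hx

end Coord

section Module

variable {T₀ : Scheme.{u}} {B : Type u} {V : B → T₀.Opens} {g : ∀ b b', Γ(T₀, V b ⊓ V b')}
  (L₀ : T₀.Modules) (e : ∀ b, Γ(L₀, V b)) (hg : ∀ b, IsGen L₀ (V b) (e b))
  (hgg : ∀ b b', res L₀ (inf_le_right : V b ⊓ V b' ≤ V b') (e b') =
    g b b' • res L₀ (inf_le_left : V b ⊓ V b' ≤ V b) (e b))

include hgg in
set_option maxHeartbeats 400000 in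
/-- the restriction of the local generator `E b'` to the overlap in terms of `E b` -/
theorem res_pull_gen {T' : Scheme.{u}} (θ : T' ⟶ T₀) (b b' : B) :
    res ((Scheme.Modules.pullback θ).obj L₀)
      (show θ ⁻¹ᵁ (V b ⊓ V b') ≤ θ ⁻¹ᵁ V b' from fun _ hx => hx.2) (pull θ L₀ (V b') (e b')) =
    (θ.app (V b ⊓ V b')).hom (g b b') •
      res ((Scheme.Modules.pullback θ).obj L₀)
        (show θ ⁻¹ᵁ (V b ⊓ V b') ≤ θ ⁻¹ᵁ V b from fun _ hx => hx.1) (pull θ L₀ (V b) (e b)) := by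
  have h1 := res_pull θ L₀ (inf_le_right : V b ⊓ V b' ≤ V b') (e b')
  have h2 := res_pull θ L₀ (inf_le_left : V b ⊓ V b' ≤ V b) (e b)
  rw [h1, h2, hgg b b', pull_smul]

include hgg in
set_option maxHeartbeats 400000 in
theorem exists_glued_section {T' : Scheme.{u}} (θ : T' ⟶ T₀) (hcov : ∀ x : T', ∃ b, θ x ∈ V b)
    (a : ∀ b, Γ(T', θ ⁻¹ᵁ V b)) (ha : Compat V g θ a) :
    ∃ s : Γ((Scheme.Modules.pullback θ).obj L₀, ⊤), ∀ b,
      res _ (le_top : θ ⁻¹ᵁ V b ≤ ⊤) s = a b • pull θ L₀ (V b) (e b) := by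
  have hcov' : (⊤ : T'.Opens) ≤ ⨆ b, θ ⁻¹ᵁ V b := by
    intro x _
    obtain ⟨b, hb⟩ := hcov x
    exact Opens.mem_iSup.mpr ⟨b, hb⟩
  refine sec_glue ((Scheme.Modules.pullback θ).obj L₀) (fun b => θ ⁻¹ᵁ V b) ⊤ (fun _ => le_top) hcov'
    (fun b => a b • pull θ L₀ (V b) (e b)) ?_
  intro b b'
  show res ((Scheme.Modules.pullback θ).obj L₀)
      (show θ ⁻¹ᵁ (V b ⊓ V b') ≤ θ ⁻¹ᵁ V b from fun _ hx => hx.1) (a b • pull θ L₀ (V b) (e b)) =
    res ((Scheme.Modules.pullback θ).obj L₀)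
      (show θ ⁻¹ᵁ (V b ⊓ V b') ≤ θ ⁻¹ᵁ V b' from fun _ hx => hx.2) (a b' • pull θ L₀ (V b') (e b'))
  rw [res_smul, res_smul, res_pull_gen L₀ e hgg θ b b', smul_smul, ha b b', mul_comm]

include hg hgg in
set_option maxHeartbeats 400000 in
theorem isGloballyGenerated_of_coordGG (hL₀ : PicF.IsInvertible L₀) {T' : Scheme.{u}}
    (θ : T' ⟶ T₀) (h : CoordGG V g θ) :
    Curv2.IsGloballyGenerated ((Scheme.Modules.pullback θ).obj L₀) := by
  obtain ⟨Λ, _, a, hcomp, hcov⟩ := h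
  haveI : ((Scheme.Modules.pullback θ).obj L₀).IsQuasicoherent :=
    InvCoh.isQuasicoherent_of_isInvertible (isInvertible_pullback θ hL₀)
  have hcov' : ∀ x : T', ∃ b, θ x ∈ V b := by
    intro x
    obtain ⟨l, b, hx⟩ := hcov x
    exact ⟨b, T'.basicOpen_le _ hx⟩
  choose s hs using fun l => exists_glued_section L₀ e hgg θ hcov' (a l) (hcomp l)
  apply isGloballyGenerated_of_genAtPt_top _ s
  intro x
  obtain ⟨l, b, hx⟩ := hcov x
  refine ⟨l, T'.basicOpen (a l b), le_top, hx, ?_⟩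
  have h1 := isGen_basicOpen_smul (isGen_pull θ (hg b)) (a l b)
  rw [← hs l b, res_res] at h1
  exact h1

include hg hgg in
set_option maxHeartbeats 1000000 in
theorem coordGG_of_isGloballyGenerated (hL₀ : PicF.IsInvertible L₀) {T' : Scheme.{u}}
    [CompactSpace T'] (θ : T' ⟶ T₀) (hcov : ∀ x : T', ∃ b, θ x ∈ V b)
    (h : Curv2.IsGloballyGenerated ((Scheme.Modules.pullback θ).obj L₀)) : CoordGG V g θ := by
  classical
  have hM := isInvertible_pullback θ hL₀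
  choose t ht using fun x : T' => FreeSec.exists_mem_genLocus_of_isGloballyGenerated hM h x
  obtain ⟨F, hF⟩ := isCompact_univ.elim_finite_subcover
    (fun x : T' => ((CohB1.genLocus ((Scheme.Modules.pullback θ).obj L₀) (t x) : T'.Opens) : Set T'))
    (fun x => (CohB1.genLocus _ (t x)).isOpen)
    (fun x _ => Set.mem_iUnion.mpr ⟨x, ht x⟩)
  have hE : ∀ b, IsGen ((Scheme.Modules.pullback θ).obj L₀) (θ ⁻¹ᵁ V b) (pull θ L₀ (V b) (e b)) :=
    fun b => isGen_pull θ (hg b)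
  choose a ha using fun (l : {x // x ∈ F}) (b : B) =>
    (hE b).self.exists_coord (sec (t l.1) (θ ⁻¹ᵁ V b))
  refine ⟨{x // x ∈ F}, inferInstance, a, ?_, ?_⟩
  · intro l b b'
    have hO : IsGenAt ((Scheme.Modules.pullback θ).obj L₀) (θ ⁻¹ᵁ (V b ⊓ V b'))
        (res _ (show θ ⁻¹ᵁ (V b ⊓ V b') ≤ θ ⁻¹ᵁ V b from fun _ hx => hx.1)
          (pull θ L₀ (V b) (e b))) := hE b _ _
    apply hO.smul_inj
    have h1 : res ((Scheme.Modules.pullback θ).obj L₀)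
        (show θ ⁻¹ᵁ (V b ⊓ V b') ≤ θ ⁻¹ᵁ V b from fun _ hx => hx.1)
        (a l b • pull θ L₀ (V b) (e b)) =
      res ((Scheme.Modules.pullback θ).obj L₀)
        (show θ ⁻¹ᵁ (V b ⊓ V b') ≤ θ ⁻¹ᵁ V b' from fun _ hx => hx.2)
        (a l b' • pull θ L₀ (V b') (e b')) := by
      rw [ha l b, ha l b', res_sec, res_sec]
    rw [res_smul, res_smul, res_pull_gen L₀ e hgg θ b b', smul_smul] at h1
    rw [h1, mul_comm]
  · intro x
    obtain ⟨b, hb⟩ := hcov x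
    have hx := hF (Set.mem_univ x)
    obtain ⟨y, hy, hxy⟩ : ∃ y ∈ F, x ∈ CohB1.genLocus ((Scheme.Modules.pullback θ).obj L₀) (t y) := by
      simpa using hx
    refine ⟨⟨y, hy⟩, b, ?_⟩
    have h2 := genLocus_inf_eq_basicOpen (t y) (hE b) (a ⟨y, hy⟩ b) (ha ⟨y, hy⟩ b).symm
    rw [← h2]
    exact ⟨hxy, hb⟩

end Module

end Groth.Agent.Lib.Helper3.GGLim
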