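import Groth.Agent.Lib.Helper3.GGLimA
import Groth.Agent.Lib.Helper3.FPLimC

/-!
# Global generation of a pulled-back invertible module descends from a cofiltered limit to a stage
(function-level argument)
-/

set_option autoImplicit false
universe u
open CategoryTheory CategoryTheory.Limits AlgebraicGeometry TopologicalSpace Opposite
open Scheme.Modules

namespace Groth.Agent.Lib.Helper3.GGLim

open QCSec InvGen PbBasic GGSpread

theorem exists_forall_of_finite {J : Type*} [Category J] [IsCofiltered J] {κ : Type*} [Finite κ]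
    (P : κ → J → Prop) (hmono : ∀ a {j j' : J} (_ : j' ⟶ j), P a j → P a j')
    (hex : ∀ a, ∃ j, P a j) : ∃ j, ∀ a, P a j := by
  classical
  haveI := Fintype.ofFinite κ
  choose j hj using hex
  obtain ⟨S, hS⟩ := IsCofiltered.inf_objs_exists (Finset.univ.image j)
  exact ⟨S, fun a => (hS (Finset.mem_image_of_mem _ (Finset.mem_univ a))).elim
    fun ψ => hmono a ψ (hj a)⟩

theorem app_eq_of_eq {X Y : Scheme.{u}} {f f' : X ⟶ Y} (h : f = f') (U : Y.Opens)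
    (s t : Γ(Y, U)) (hst : (f.app U).hom s = (f.app U).hom t) :
    (f'.app U).hom s = (f'.app U).hom t := by
  subst h; exact hst

section Limit

variable {T₀ : Scheme.{u}} {B : Type u} [Finite B] {V : B → T₀.Opens}
  {g : ∀ b b', Γ(T₀, V b ⊓ V b')}
variable {J : Type u} [SmallCategory J] [IsCofiltered J] (D : J ⥤ Scheme.{u}) (c : Cone D)
  (hc : IsLimit c) [∀ {i j : J} (f : i ⟶ j), IsAffineHom (D.map f)] [∀ j, CompactSpace (D.obj j)]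

include hc in
set_option maxHeartbeats 1000000 in
theorem exists_stage_coordGG_aux {Λ : Type u} [Finite Λ] (p : c.pt ⟶ T₀) (j₁ : J)
    (θ₁ : D.obj j₁ ⟶ T₀) (hp : p = c.π.app j₁ ≫ θ₁)
    (a : Λ → ∀ b, Γ(c.pt, p ⁻¹ᵁ V b)) (hcomp : ∀ l, Compat V g p (a l))
    (hcov : ∀ x : c.pt, ∃ l b, x ∈ c.pt.basicOpen (a l b))
    (t : Λ → ∀ b, Γ(D.obj j₁, θ₁ ⁻¹ᵁ V b))
    (hR : ∀ l b, a l b = rres c.pt (le_of_eq (by rw [hp]; rfl))
      (((c.π.app j₁).app (θ₁ ⁻¹ᵁ V b)).hom (t l b)))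
    (hU : ∀ b b', IsCompact ((θ₁ ⁻¹ᵁ (V b ⊓ V b') : (D.obj j₁).Opens) : Set (D.obj j₁))) :
    ∃ (j : J) (ψ : j ⟶ j₁), CoordGG V g (D.map ψ ≫ θ₁) := by
  subst hp
  have ha : ∀ l, a l = bc V (c.π.app j₁) θ₁ (t l) := by
    intro l; funext b
    rw [hR l b]
    exact rres_self _ _
  -- Step 2: compatibility at a later stage
  obtain ⟨j₂, hj₂⟩ := exists_forall_of_finite (J := Over j₁) (κ := Λ × B × B)
    (fun k j => ((D.map j.hom).app (θ₁ ⁻¹ᵁ (V k.2.1 ⊓ V k.2.2))).hom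
        (rres (D.obj j₁) (show θ₁ ⁻¹ᵁ (V k.2.1 ⊓ V k.2.2) ≤ θ₁ ⁻¹ᵁ V k.2.1 from fun _ hx => hx.1)
          (t k.1 k.2.1)) =
      ((D.map j.hom).app (θ₁ ⁻¹ᵁ (V k.2.1 ⊓ V k.2.2))).hom
        ((θ₁.app (V k.2.1 ⊓ V k.2.2)).hom (g k.2.1 k.2.2) *
          rres (D.obj j₁) (show θ₁ ⁻¹ᵁ (V k.2.1 ⊓ V k.2.2) ≤ θ₁ ⁻¹ᵁ V k.2.2 from fun _ hx => hx.2)
            (t k.1 k.2.2)))
    (by
      intro k j j' ψ' h
      have h1 := congrArg ((D.map ψ'.left).app _).hom h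
      refine app_eq_of_eq (f := D.map ψ'.left ≫ D.map j.hom) ?_ _ _ _ h1
      rw [← D.map_comp, Over.w ψ'])
    (by
      rintro ⟨l, b, b'⟩
      have h1 := hcomp l b b'
      rw [ha l] at h1
      have h2 : ((c.π.app j₁).app (θ₁ ⁻¹ᵁ (V b ⊓ V b'))).hom
          (rres (D.obj j₁) (show θ₁ ⁻¹ᵁ (V b ⊓ V b') ≤ θ₁ ⁻¹ᵁ V b from fun _ hx => hx.1) (t l b)) =
        ((c.π.app j₁).app (θ₁ ⁻¹ᵁ (V b ⊓ V b'))).hom
          ((θ₁.app (V b ⊓ V b')).hom (g b b') *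
            rres (D.obj j₁) (show θ₁ ⁻¹ᵁ (V b ⊓ V b') ≤ θ₁ ⁻¹ᵁ V b' from fun _ hx => hx.2)
              (t l b')) := by
        rw [_root_.map_mul, app_rres, app_rres]
        exact h1
      obtain ⟨j, f, hf⟩ := exists_app_map_eq_map_of_isLimit D c hc (hU b b') _ _ h2
      exact ⟨Over.mk f, hf⟩)
  -- the family at stage `j₂`
  have hcomp₂ : ∀ l, Compat V g (D.map j₂.hom ≫ θ₁) (bc V (D.map j₂.hom) θ₁ (t l)) :=
    fun l => compat_bc_of (D.map j₂.hom) θ₁ (t l) (fun b b' => hj₂ (l, b, b'))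
  -- Step 3: the covering at a later stage
  classical
  haveI := Fintype.ofFinite Λ
  haveI := Fintype.ofFinite B
  obtain ⟨G, hG⟩ : ∃ G : (D.obj j₂.left).Opens,
      G = ⨆ k : Λ × B, (D.obj j₂.left).basicOpen (bc V (D.map j₂.hom) θ₁ (t k.1) k.2) := ⟨_, rfl⟩
  have hGtop : c.π.app j₂.left ⁻¹ᵁ G = ⊤ := by
    rw [eq_top_iff]
    intro x _
    obtain ⟨l, b, hx⟩ := hcov x
    rw [ha l, basicOpen_bc] at hx
    have hx' : (c.π.app j₁) x ∈ (D.obj j₁).basicOpen (t l b) := hx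
    have hw : c.π.app j₂.left ≫ D.map j₂.hom = c.π.app j₁ := c.w j₂.hom
    rw [← hw] at hx'
    show (c.π.app j₂.left) x ∈ G
    rw [hG]
    refine Opens.mem_iSup.mpr ⟨(l, b), ?_⟩
    rw [basicOpen_bc]
    exact hx'
  obtain ⟨j₃, f, hf⟩ := exists_map_eq_top D c hc G hGtop
  refine ⟨j₃, f ≫ j₂.hom, ?_⟩
  refine CoordGG.congr (θ := D.map f ≫ (D.map j₂.hom ≫ θ₁)) (by rw [D.map_comp, Category.assoc]) ?_
  refine ⟨Λ, inferInstance, fun l => bc V (D.map f) _ (bc V (D.map j₂.hom) θ₁ (t l)),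
    fun l => (hcomp₂ l).bc (D.map f), fun x => ?_⟩
  have hx : (D.map f) x ∈ G := by
    have : x ∈ D.map f ⁻¹ᵁ G := by rw [hf]; trivial
    exact this
  rw [hG] at hx
  obtain ⟨⟨l, b⟩, hlb⟩ := Opens.mem_iSup.mp hx
  refine ⟨l, b, ?_⟩
  rw [basicOpen_bc]
  exact hlb

include hc in
set_option maxHeartbeats 1000000 in
/-- if the coordinate description of global generation holds on the limit, it holds at a stage -/
theorem exists_stage_coordGG (j₀ : J) [QuasiSeparatedSpace (D.obj j₀)] (θ₀ : D.obj j₀ ⟶ T₀)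
    (hVaff : ∀ b, IsAffineOpen (θ₀ ⁻¹ᵁ V b)) (h : CoordGG V g (c.π.app j₀ ≫ θ₀)) :
    ∃ (j : J) (φ : j ⟶ j₀), CoordGG V g (D.map φ ≫ θ₀) := by
  classical
  obtain ⟨Λ, hΛ, a, hcomp, hcov⟩ := h
  haveI := hΛ
  haveI := Fintype.ofFinite Λ
  haveI := Fintype.ofFinite B
  obtain ⟨j₁, φ₁, h1⟩ := FPLim.exists_common_level (D := D) (c := c) hc (i₀ := j₀)
    (Finset.univ : Finset (Λ × B))
    (fun k => θ₀ ⁻¹ᵁ V k.2) (fun k => hVaff k.2) (fun k => a k.1 k.2)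
  choose e t ht using fun k : Λ × B => h1 k (Finset.mem_univ k)
  have hp : c.π.app j₀ ≫ θ₀ = c.π.app j₁ ≫ (D.map φ₁ ≫ θ₀) := by
    rw [← Category.assoc, c.w]
  have hU : ∀ b b', IsCompact
      (((D.map φ₁ ≫ θ₀) ⁻¹ᵁ (V b ⊓ V b') : (D.obj j₁).Opens) : Set (D.obj j₁)) := by
    intro b b'
    have h2 : IsCompact ((θ₀ ⁻¹ᵁ V b ⊓ θ₀ ⁻¹ᵁ V b' : (D.obj j₀).Opens) : Set (D.obj j₀)) :=
      QuasiSeparatedSpace.inter_isCompact _ _ (θ₀ ⁻¹ᵁ V b).isOpen (hVaff b).isCompact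
        (θ₀ ⁻¹ᵁ V b').isOpen (hVaff b').isCompact
    exact (D.map φ₁).isCompact_preimage h2
  obtain ⟨j, ψ, hj⟩ := exists_stage_coordGG_aux D c hc (c.π.app j₀ ≫ θ₀) j₁ (D.map φ₁ ≫ θ₀) hp
    a hcomp hcov (fun l b => t (l, b)) (fun l b => (ht (l, b)).symm) hU
  exact ⟨j, ψ ≫ φ₁, hj.congr (by rw [D.map_comp, Category.assoc])⟩

end Limit

end Groth.Agent.Lib.Helper3.GGLim
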