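import Groth.Agent.Lib.Helper3.GGLimB

/-!
# Global generation of a pulled-back invertible module descends from a cofiltered limit to a stage
-/

set_option autoImplicit false
universe u
open CategoryTheory CategoryTheory.Limits AlgebraicGeometry TopologicalSpace Opposite
open Scheme.Modules

namespace Groth.Agent.Lib.Helper3.GGLim

open QCSec InvGen PbBasic GGSpread

set_option maxHeartbeats 1000000 in
/-- a finite trivialising affine cover of an invertible module on a quasi-compact scheme, with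
transition functions -/
theorem exists_cover_data {T₀ : Scheme.{u}} [CompactSpace T₀] (L₀ : T₀.Modules)
    (hL₀ : PicF.IsInvertible L₀) :
    ∃ (B : Type u) (_ : Finite B) (V : B → T₀.Opens) (e : ∀ b, Γ(L₀, V b))
      (g : ∀ b b', Γ(T₀, V b ⊓ V b')),
      (∀ b, IsAffineOpen (V b)) ∧ (∀ b, IsGen L₀ (V b) (e b)) ∧
      (∀ b b', res L₀ (inf_le_right : V b ⊓ V b' ≤ V b') (e b') =
        g b b' • res L₀ (inf_le_left : V b ⊓ V b' ≤ V b) (e b)) ∧
      ∀ y : T₀, ∃ b, y ∈ V b := by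
  classical
  choose U e hUaff hxU hgen using fun x : T₀ => exists_affine_isGen hL₀ x
  obtain ⟨F, hF⟩ := isCompact_univ.elim_finite_subcover
    (fun x : T₀ => ((U x : T₀.Opens) : Set T₀)) (fun x => (U x).isOpen)
    (fun x _ => Set.mem_iUnion.mpr ⟨x, hxU x⟩)
  have hex : ∀ b b' : {x // x ∈ F}, ∃ u : Γ(T₀, U b.1 ⊓ U b'.1),
      res L₀ (inf_le_right : U b.1 ⊓ U b'.1 ≤ U b'.1) (e b'.1) =
        u • res L₀ (inf_le_left : U b.1 ⊓ U b'.1 ≤ U b.1) (e b.1) := by
    intro b b'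
    obtain ⟨u, -, hu⟩ := (hgen b.1 _ inf_le_left).exists_unit (hgen b'.1 _ inf_le_right)
    exact ⟨u, hu⟩
  choose g hg using hex
  refine ⟨{x // x ∈ F}, inferInstance, fun b => U b.1, fun b => e b.1, g, fun b => hUaff b.1,
    fun b => hgen b.1, hg, fun y => ?_⟩
  have hy := hF (Set.mem_univ y)
  obtain ⟨x, hx, hyx⟩ : ∃ x ∈ F, y ∈ U x := by simpa using hy
  exact ⟨⟨x, hx⟩, hyx⟩

section Limit

variable {T₀ : Scheme.{u}} [CompactSpace T₀] (L₀ : T₀.Modules) (hL₀ : PicF.IsInvertible L₀)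
variable {J : Type u} [SmallCategory J] [IsCofiltered J] (D : J ⥤ Scheme.{u}) (c : Cone D)
  (hc : IsLimit c) [∀ {i j : J} (f : i ⟶ j), IsAffineHom (D.map f)] [∀ j, CompactSpace (D.obj j)]

include hc hL₀ in
set_option maxHeartbeats 1000000 in
/-- **Global generation descends to a stage, and persists.**  `L₀` invertible on a quasi-compact
`T₀`, `θ₀ : D j₀ ⟶ T₀` affine; if the pullback of `L₀` to the limit is globally generated then, for
some stage `j → j₀`, the pullback of `L₀` along any morphism factoring through `D j ⟶ T₀` is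
globally generated. -/
theorem exists_stage_isGloballyGenerated (j₀ : J) [QuasiSeparatedSpace (D.obj j₀)]
    (θ₀ : D.obj j₀ ⟶ T₀) [IsAffineHom θ₀]
    (h : Curv2.IsGloballyGenerated ((Scheme.Modules.pullback (c.π.app j₀ ≫ θ₀)).obj L₀)) :
    ∃ (j : J) (φ : j ⟶ j₀), ∀ {T'' : Scheme.{u}} (u : T'' ⟶ D.obj j) (θ'' : T'' ⟶ T₀),
      θ'' = u ≫ D.map φ ≫ θ₀ →
      Curv2.IsGloballyGenerated ((Scheme.Modules.pullback θ'').obj L₀) := by
  obtain ⟨B, hB, V, e, g, hVaff, hg, hgg, hcov⟩ := exists_cover_data L₀ hL₀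
  haveI := hB
  haveI : CompactSpace c.pt := Scheme.compactSpace_of_isLimit D c hc
  have h1 : CoordGG V g (c.π.app j₀ ≫ θ₀) :=
    coordGG_of_isGloballyGenerated L₀ e hg hgg hL₀ (T' := c.pt) (c.π.app j₀ ≫ θ₀)
      (fun x => hcov _) h
  obtain ⟨j, φ, hj⟩ := exists_stage_coordGG D c hc j₀ θ₀ (fun b => (hVaff b).preimage θ₀) h1
  refine ⟨j, φ, fun u θ'' hθ => ?_⟩
  subst hθ
  exact isGloballyGenerated_of_coordGG L₀ e hg hgg hL₀ _ (hj.comp u)

end Limit

end Groth.Agent.Lib.Helper3.GGLim
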