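import Groth.Agent.Lib.Helper3.IdealMod
import Groth.Agent.Lib.Helper3.CounitGG
import Groth.Agent.Lib.Helper3.AmpleMisc

/-!
# Quasi-affineness criteria via global generation
-/

set_option autoImplicit false
universe u
open CategoryTheory CategoryTheory.Limits AlgebraicGeometry TopologicalSpace Opposite
open Scheme.Modules

namespace Groth.Agent.Lib.Helper3.QAffCrit

open QCSec InvGen FreeSec PbBasic InvRestrict IdealMod CounitGG AmpleMisc GlobGen

variable {X Y : Scheme.{u}}

/-- on a quasi-affine scheme every quasi-coherent module is globally generated -/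
theorem isGloballyGenerated_of_isQuasiAffine [X.IsQuasiAffine] (F : X.Modules)
    [F.IsQuasicoherent] : Curv2.IsGloballyGenerated F := by
  haveI : ((pushforward X.toSpecΓ).obj F).IsQuasicoherent :=
    isQuasicoherent_pushforward X.toSpecΓ F
  have h1 := isGloballyGenerated_of_isAffine ((pushforward X.toSpecΓ).obj F)
  have h2 := isGloballyGenerated_pullback X.toSpecΓ h1
  exact isGloballyGenerated_of_iso
    ((restrictFunctorIsoPullback X.toSpecΓ).symm.app _ ≪≫
      (restrictFunctorAdjCounitIso X.toSpecΓ).app F) h2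

/-- relative version of `IdealMod.exists_unit_coord` -/
theorem exists_unit_coord_on {M : X.Modules} {W : X.Opens} {I : Type u} {σ : I → Γ(M, W)}
    (h : IsLocSpannedOn M W σ) {V : X.Opens} (hVW : V ≤ W) {e : Γ(M, V)} (hg : IsGen M V e)
    (x : X) (hxV : x ∈ V) :
    ∃ (i : I) (W' : X.Opens) (hW'V : W' ≤ V) (a : Γ(X, W')), x ∈ X.basicOpen a ∧
      a • res M hW'V e = res M (hW'V.trans hVW) (σ i) := by
  obtain ⟨W', hWV, hxW, hspan⟩ := h V hVW e x hxV
  have hgW : IsGen M W' (res M hWV e) := hg.mono hWV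
  let P : Submodule Γ(X, W') Γ(M, W') :=
    { carrier := {m | ∀ a : Γ(X, W'), a • res M hWV e = m →
        X.presheaf.germ W' x hxW a ∈ IsLocalRing.maximalIdeal (X.presheaf.stalk x)}
      add_mem' := by
        intro m₁ m₂ h₁ h₂ a ha
        obtain ⟨a₁, ha₁⟩ := hgW.self.exists_coord m₁
        obtain ⟨a₂, ha₂⟩ := hgW.self.exists_coord m₂
        have : a = a₁ + a₂ := hgW.self.smul_inj (by rw [ha, add_smul, ha₁, ha₂])
        rw [this, map_add]
        exact Ideal.add_mem _ (h₁ a₁ ha₁) (h₂ a₂ ha₂)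
      zero_mem' := by
        intro a ha
        rw [hgW.self.eq_zero ha, map_zero]
        exact Ideal.zero_mem _
      smul_mem' := by
        intro r m hm a ha
        obtain ⟨a₁, ha₁⟩ := hgW.self.exists_coord m
        have : a = r * a₁ := hgW.self.smul_inj (by rw [ha, mul_smul, ha₁])
        rw [this, map_mul]
        exact Ideal.mul_mem_left _ _ (hm a₁ ha₁) }
  by_contra hcon
  push Not at hcon
  have hle : Submodule.span Γ(X, W') (Set.range (fun i => res M (hWV.trans hVW) (σ i))) ≤ P := by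
    rw [Submodule.span_le]
    rintro _ ⟨i, rfl⟩
    intro a ha
    rw [IsLocalRing.mem_maximalIdeal, mem_nonunits_iff]
    intro hu
    exact hcon i W' hWV a ((Scheme.mem_basicOpen _ _ _ hxW).mpr hu) ha
  have h1 : res M hWV e ∈ P := hle hspan
  have h2 := h1 1 (one_smul _ _)
  rw [map_one] at h2
  exact (IsLocalRing.mem_maximalIdeal _).mp h2 isUnit_one

theorem exists_section_of_isLocSpannedOn {J : X.Modules} (j : J ⟶ Coh.structureModule X) [Mono j]
    {W : X.Opens} {I : Type u} {σ : I → Γ(J, W)} (h : IsLocSpannedOn J W σ) {U : X.Opens}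
    (hUW : U ≤ W) (e : Γ(J, U)) (he : valOf j e = 1) (x : X) (hx : x ∈ U) :
    ∃ i, x ∈ X.basicOpen (valOf j (σ i)) := by
  obtain ⟨i, W', hWV, a, hxa, ha⟩ :=
    exists_unit_coord_on h hUW (isGen_of_valOf_eq_one j e he) x hx
  refine ⟨i, ?_⟩
  have h1 := congrArg (valOf j) ha
  rw [valOf_smul, valOf_res, valOf_res, he, rres_one, mul_one] at h1
  rw [h1] at hxa
  have h2 : X.basicOpen (rres X (hWV.trans hUW) (valOf j (σ i))) =
      W' ⊓ X.basicOpen (valOf j (σ i)) := Scheme.basicOpen_res _ _ _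
  rw [h2] at hxa
  exact hxa.2

theorem isAffineOpen_basicOpen_of_disjoint' {U W : X.Opens} (hU : IsAffineOpen U) (hUW : U ≤ W)
    (f : Γ(X, W)) (hf : Disjoint (X.basicOpen f : Set X) ((U : Set X)ᶜ)) :
    IsAffineOpen (X.basicOpen f) := by
  have hle : X.basicOpen f ≤ U := by
    intro x hx
    by_contra hxU
    exact Set.disjoint_left.mp hf hx hxU
  have h2 : X.basicOpen (X.presheaf.map (homOfLE hUW).op f) = U ⊓ X.basicOpen f :=
    Scheme.basicOpen_res _ _ _
  have h3 : U ⊓ X.basicOpen f = X.basicOpen f := inf_eq_right.mpr hle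
  rw [← h3, ← h2]
  exact hU.basicOpen _

/-- an open `W` of `X` such that every quasi-coherent module on `X` has globally generated
restriction to `W` is quasi-affine -/
theorem isQuasiAffine_of_forall_isGloballyGenerated_restrict (W : X.Opens)
    (hWc : IsCompact (W : Set X))
    (h : ∀ M : X.Modules, M.IsQuasicoherent → Curv2.IsGloballyGenerated (M.restrict W.ι)) :
    Scheme.IsQuasiAffine (W : Scheme.{u}) := by
  haveI : CompactSpace (W : Scheme.{u}) := isCompact_iff_compactSpace.mp hWc
  apply Scheme.IsQuasiAffine.of_forall_exists_mem_basicOpen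
  intro x
  obtain ⟨_, ⟨U, hU, rfl⟩, hxU, hUW⟩ :=
    X.isBasis_affineOpens.exists_subset_of_mem_open x.2 W.isOpen
  let Z : TopologicalSpace.Closeds X := ⟨(U : Set X)ᶜ, U.isOpen.isClosed_compl⟩
  let I := Scheme.IdealSheafData.vanishingIdeal Z
  have hsupp : (I.support : Set X) = (U : Set X)ᶜ :=
    Scheme.IdealSheafData.coe_support_vanishingIdeal Z
  obtain ⟨e, he⟩ := exists_val_eq_one I (U := U) (by rw [hsupp]; exact disjoint_compl_right)
  obtain ⟨J, σ, hσ⟩ := exists_isLocSpannedOn_of_isGloballyGenerated_restrict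
    (h _ (isQuasicoherent_idealMod I))
  obtain ⟨i, hi⟩ := exists_section_of_isLocSpannedOn (ClSub.idealModι I) hσ hUW e he x.1 hxU
  have haff : IsAffineOpen (X.basicOpen (val I (σ i))) := by
    apply isAffineOpen_basicOpen_of_disjoint' hU hUW
    rw [← hsupp]
    exact disjoint_basicOpen_val I (σ i)
  have himg := Scheme.Opens.ι_image_basicOpen_topIso_inv W (val I (σ i))
  refine ⟨W.topIso.inv (val I (σ i)), ?_, ?_⟩
  · rw [← Scheme.Hom.isAffineOpen_iff_of_isOpenImmersion W.ι, himg]
    exact haff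
  · have : x.1 ∈ W.ι ''ᵁ ((W : Scheme.{u}).basicOpen (W.topIso.inv (val I (σ i)))) := by
      rw [himg]; exact hi
    obtain ⟨y, hy, hyx⟩ := this
    have : y = x := Subtype.ext hyx
    rw [← this]; exact hy

theorem isGloballyGenerated_restrict_of_epi_counit (f : X ⟶ Y)
    [QuasiCompact f] [QuasiSeparated f] (M : X.Modules) [M.IsQuasicoherent]
    (hepi : Epi ((Scheme.Modules.pullbackPushforwardAdjunction f).counit.app M))
    (V : Y.Opens) (hV : IsAffineOpen V) :
    Curv2.IsGloballyGenerated (M.restrict (f ⁻¹ᵁ V).ι) := by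
  haveI : IsAffine (V : Scheme.{u}) := hV
  haveI hN : ((Scheme.Modules.pushforward f).obj M).IsQuasicoherent :=
    isQuasicoherent_pushforward f M
  haveI : (((Scheme.Modules.pushforward f).obj M).restrict V.ι).IsQuasicoherent :=
    Scheme.Modules.isQuasicoherent_restrictFunctor V.ι _
  have h1 := isGloballyGenerated_of_isAffine
    (((Scheme.Modules.pushforward f).obj M).restrict V.ι)
  have h2 := isGloballyGenerated_pullback (f ∣_ V) h1
  have h3 := isGloballyGenerated_of_iso
    ((pbRestrict f V).app ((Scheme.Modules.pushforward f).obj M)).symm h2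
  obtain ⟨I, p, hp⟩ := h3
  haveI := Functor.preservesEpimorphisms_of_adjunction
    (Scheme.Modules.restrictAdjunction (f ⁻¹ᵁ V).ι)
  have h4 : Epi ((Scheme.Modules.restrictFunctor (f ⁻¹ᵁ V).ι).map
      ((Scheme.Modules.pullbackPushforwardAdjunction f).counit.app M)) :=
    @Functor.map_epi _ _ _ _ (Scheme.Modules.restrictFunctor (f ⁻¹ᵁ V).ι) _ _ _ _ hepi
  exact ⟨I, p ≫ (Scheme.Modules.restrictFunctor (f ⁻¹ᵁ V).ι).map
      ((Scheme.Modules.pullbackPushforwardAdjunction f).counit.app M),
    @epi_comp _ _ _ _ _ _ hp _ h4⟩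

end Groth.Agent.Lib.Helper3.QAffCrit
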