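import Groth.Agent.Lib.Helper3.GGLimC
import Groth.Agent.Lib.Helper3.QAffCrit
import Groth.Agent.Lib.Helper12.PbDiag

/-!
# Relative global generation of an invertible module descends to a stage of a cofiltered limit
-/

set_option autoImplicit false
set_option linter.style.haveILetI false
universe u
open CategoryTheory CategoryTheory.Limits AlgebraicGeometry TopologicalSpace Opposite
open Scheme.Modules

namespace Groth.Agent.Lib.Helper3.GGLim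

open QCSec InvGen PbBasic GGSpread
open Groth.Agent.Lib.Helper12.PbDiag

section Restrict

variable {X X₀ : Scheme.{u}}

/-- global generation over the preimage of an open, in terms of the restricted morphism -/
theorem gg_restrict_iff (p : X ⟶ X₀) (U₀ : X₀.Opens) (L₀ : X₀.Modules) :
    Curv2.IsGloballyGenerated (((Scheme.Modules.pullback p).obj L₀).restrict (p ⁻¹ᵁ U₀).ι) ↔
      Curv2.IsGloballyGenerated ((Scheme.Modules.pullback (p ∣_ U₀)).obj (L₀.restrict U₀.ι)) :=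
  ⟨GlobGen.isGloballyGenerated_of_iso ((pbRestrict p U₀).app L₀),
    GlobGen.isGloballyGenerated_of_iso ((pbRestrict p U₀).app L₀).symm⟩

theorem gg_restrict_congr (M : X.Modules) {O O' : X.Opens} (h : O = O')
    (hM : Curv2.IsGloballyGenerated (M.restrict O.ι)) :
    Curv2.IsGloballyGenerated (M.restrict O'.ι) := by
  subst h; exact hM

theorem gg_pullback_congr {p p' : X ⟶ X₀} (h : p = p') (L₀ : X₀.Modules)
    (hM : Curv2.IsGloballyGenerated ((Scheme.Modules.pullback p).obj L₀)) :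
    Curv2.IsGloballyGenerated ((Scheme.Modules.pullback p').obj L₀) := by
  subst h; exact hM

end Restrict

section Main

variable {I : Type u} [SmallCategory I] [IsCofiltered I] (D : I ⥤ Scheme.{u}) (c : Cone D)
  (hc : IsLimit c) [∀ {i j : I} (f : i ⟶ j), IsAffineHom (D.map f)] (i₀ : I)
  [CompactSpace (D.obj i₀)] [QuasiSeparatedSpace (D.obj i₀)]
  {X₀ Y₀ : Scheme.{u}} (f₀ : X₀ ⟶ Y₀) (g₀ : Y₀ ⟶ D.obj i₀)
  (L₀ : X₀.Modules)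

/-- the stage property for one chart -/
def StageGG (W : Y₀.Opens) (j : Over i₀) : Prop :=
  ∀ (T'' : Scheme.{u}) (u : T'' ⟶ pullback ((f₀ ⁻¹ᵁ W).ι ≫ f₀ ≫ g₀) (D.map j.hom))
    (θ'' : T'' ⟶ (f₀ ⁻¹ᵁ W : Scheme.{u})),
    θ'' = u ≫ pullback.fst ((f₀ ⁻¹ᵁ W).ι ≫ f₀ ≫ g₀) (D.map j.hom) →
      Curv2.IsGloballyGenerated ((Scheme.Modules.pullback θ'').obj (L₀.restrict (f₀ ⁻¹ᵁ W).ι))

theorem StageGG.mono {W : Y₀.Opens} {j j' : Over i₀} (ψ : j' ⟶ j)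
    (h : StageGG D i₀ f₀ g₀ L₀ W j) : StageGG D i₀ f₀ g₀ L₀ W j' := by
  intro T'' u θ'' hθ
  refine h T'' (u ≫ (pbDiagram D i₀ ((f₀ ⁻¹ᵁ W).ι ≫ f₀ ≫ g₀)).map ψ) θ'' ?_
  exact hθ.trans ((Category.assoc _ _ _).trans
    (congrArg (u ≫ ·) (pbDiagram_map_fst D i₀ ((f₀ ⁻¹ᵁ W).ι ≫ f₀ ≫ g₀) ψ))).symm

variable [QuasiCompact g₀] [QuasiSeparated g₀] [QuasiCompact (f₀ ≫ g₀)] [QuasiSeparated (f₀ ≫ g₀)]
  (hL₀ : PicF.IsInvertible L₀)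
  {X Y : Scheme.{u}} (f : X ⟶ Y) (g : Y ⟶ c.pt) (qY : Y ⟶ Y₀) (qX : X ⟶ X₀)
  (hY : IsPullback qY g g₀ (c.π.app i₀)) (hX : IsPullback qX f f₀ qY)

include hc hL₀ hY hX in
set_option maxHeartbeats 1000000 in
theorem exists_stageGG (W : Y₀.Opens) (hW : IsAffineOpen W)
    (hgen : Epi ((pullbackPushforwardAdjunction f).counit.app
      ((Scheme.Modules.pullback qX).obj L₀))) :
    ∃ j : Over i₀, StageGG D i₀ f₀ g₀ L₀ W j := by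
  haveI : QuasiCompact f₀ := QuasiCompact.of_comp f₀ g₀
  haveI : QuasiSeparated f₀ := QuasiSeparated.of_comp f₀ g₀
  haveI : QuasiCompact f := MorphismProperty.of_isPullback (P := @QuasiCompact) hX inferInstance
  haveI : QuasiSeparated f :=
    MorphismProperty.of_isPullback (P := @QuasiSeparated) hX inferInstance
  haveI : IsAffineHom (c.π.app i₀) := isAffineHom_π_app D c hc i₀
  haveI : IsAffineHom qY :=
    MorphismProperty.of_isPullback (P := @IsAffineHom) hY.flip inferInstance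
  haveI : IsAffine (W : Scheme.{u}) := hW
  haveI : CompactSpace ((f₀ ⁻¹ᵁ W : X₀.Opens) : Scheme.{u}) :=
    isCompact_iff_compactSpace.mp (f₀.isCompact_preimage hW.isCompact)
  haveI : QuasiSeparatedSpace ((f₀ ⁻¹ᵁ W : X₀.Opens) : Scheme.{u}) :=
    quasiSeparatedSpace_of_quasiSeparated (f₀ ∣_ W)
  have hL₀' : PicF.IsInvertible (L₀.restrict (f₀ ⁻¹ᵁ W).ι) :=
    InvRestrict.isInvertible_restrict (f₀ ⁻¹ᵁ W).ι hL₀
  -- the pullback square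
  have hZ : IsPullback (qX ∣_ (f₀ ⁻¹ᵁ W)) ((qX ⁻¹ᵁ (f₀ ⁻¹ᵁ W)).ι ≫ f ≫ g)
      ((f₀ ⁻¹ᵁ W).ι ≫ f₀ ≫ g₀) (c.π.app i₀) := by
    simpa only [Category.assoc] using
      ((isPullback_morphismRestrict qX (f₀ ⁻¹ᵁ W)).paste_vert hX).paste_vert hY
  -- instances for the diagram
  haveI : ∀ j : Over i₀, CompactSpace ((pbDiagram D i₀ ((f₀ ⁻¹ᵁ W).ι ≫ f₀ ≫ g₀)).obj j) :=
    fun j => compactSpace_pbDiagram_obj' D i₀ _ j
  haveI : QuasiSeparatedSpace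
      ((pbDiagram D i₀ ((f₀ ⁻¹ᵁ W).ι ≫ f₀ ≫ g₀)).obj (Over.mk (𝟙 i₀))) :=
    quasiSeparatedSpace_pbDiagram_obj' D i₀ _ _
  haveI : @IsAffineHom ((pbDiagram D i₀ ((f₀ ⁻¹ᵁ W).ι ≫ f₀ ≫ g₀)).obj (Over.mk (𝟙 i₀))) _
      (pullback.fst ((f₀ ⁻¹ᵁ W).ι ≫ f₀ ≫ g₀) (D.map (Over.mk (𝟙 i₀)).hom)) :=
    isAffineHom_pbDiagram_fst D i₀ _ _
  -- the hypothesis at the limit
  haveI : ((Scheme.Modules.pullback qX).obj L₀).IsQuasicoherent :=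
    InvCoh.isQuasicoherent_of_isInvertible (isInvertible_pullback qX hL₀)
  have h1 := QAffCrit.isGloballyGenerated_restrict_of_epi_counit f
    ((Scheme.Modules.pullback qX).obj L₀) hgen (qY ⁻¹ᵁ W) (hW.preimage qY)
  have hopen : f ⁻¹ᵁ (qY ⁻¹ᵁ W) = qX ⁻¹ᵁ (f₀ ⁻¹ᵁ W) := by
    show (f ≫ qY) ⁻¹ᵁ W = (qX ≫ f₀) ⁻¹ᵁ W
    rw [hX.w]
  have h2 := (gg_restrict_iff qX (f₀ ⁻¹ᵁ W) L₀).mp (gg_restrict_congr _ hopen h1)
  have h3 : Curv2.IsGloballyGenerated ((Scheme.Modules.pullback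
      ((pbCone c (qX ∣_ (f₀ ⁻¹ᵁ W)) ((qX ⁻¹ᵁ (f₀ ⁻¹ᵁ W)).ι ≫ f ≫ g) hZ).π.app
          (Over.mk (𝟙 i₀)) ≫
        pullback.fst ((f₀ ⁻¹ᵁ W).ι ≫ f₀ ≫ g₀) (D.map (Over.mk (𝟙 i₀)).hom))).obj
      (L₀.restrict (f₀ ⁻¹ᵁ W).ι)) :=
    gg_pullback_congr (pbCone_π_fst c _ _ hZ (Over.mk (𝟙 i₀))).symm _ h2
  obtain ⟨j, φ, hj⟩ := exists_stage_isGloballyGenerated (L₀.restrict (f₀ ⁻¹ᵁ W).ι) hL₀'
    (pbDiagram D i₀ ((f₀ ⁻¹ᵁ W).ι ≫ f₀ ≫ g₀))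
    (pbCone c (qX ∣_ (f₀ ⁻¹ᵁ W)) ((qX ⁻¹ᵁ (f₀ ⁻¹ᵁ W)).ι ≫ f ≫ g) hZ)
    (isLimitPbCone c hc _ _ hZ) (Over.mk (𝟙 i₀))
    (pullback.fst ((f₀ ⁻¹ᵁ W).ι ≫ f₀ ≫ g₀) (D.map (Over.mk (𝟙 i₀)).hom)) h3
  refine ⟨j, fun T'' u θ'' hθ => hj u θ'' (hθ.trans ?_)⟩
  exact congrArg (u ≫ ·) (pbDiagram_map_fst D i₀ _ φ).symm

include hc hL₀ hY hX in
set_option maxHeartbeats 1000000 in
/-- **Relative global generation descends to a stage** (EGA IV 8.10.5.2-type statement for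
relative generation of an invertible module). -/
theorem exists_stage_counit_epi
    (hgen : Epi ((pullbackPushforwardAdjunction f).counit.app
      ((Scheme.Modules.pullback qX).obj L₀))) :
    ∃ (j : I) (φ : j ⟶ i₀), ∀ (k : I) (ψ : k ⟶ j) (Xk Yk : Scheme.{u}) (fk : Xk ⟶ Yk)
      (gk : Yk ⟶ D.obj k) (pY : Yk ⟶ Y₀) (pX : Xk ⟶ X₀),
      IsPullback pY gk g₀ (D.map (ψ ≫ φ)) → IsPullback pX fk f₀ pY →
        Epi ((pullbackPushforwardAdjunction fk).counit.app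
          ((Scheme.Modules.pullback pX).obj L₀)) := by
  haveI : CompactSpace Y₀ := QuasiCompact.compactSpace_of_compactSpace g₀
  obtain ⟨ι₀, hι₀, W, hWa, -, hcov⟩ :=
    exists_finite_affine_cover (⊤ : Y₀.Opens)
      (by simpa using (isCompact_univ : IsCompact (Set.univ : Set Y₀)))
  obtain ⟨j, hj⟩ := exists_forall_of_finite (J := Over i₀)
    (fun a j => StageGG D i₀ f₀ g₀ L₀ (W a) j)
    (fun a j j' ψ h => StageGG.mono D i₀ f₀ g₀ L₀ ψ h)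
    (fun a => exists_stageGG D c hc i₀ f₀ g₀ L₀ hL₀ f g qY qX hY hX (W a) (hWa a) hgen)
  refine ⟨j.left, j.hom, ?_⟩
  intro k ψ Xk Yk fk gk pY pX hYk hXk
  apply CounitGG.epi_counit_of_isGloballyGenerated_restrict
  intro x
  have hx : pY (fk x) ∈ (⨆ a, W a) := hcov (Opens.mem_top _)
  obtain ⟨a, ha⟩ := Opens.mem_iSup.mp hx
  refine ⟨pY ⁻¹ᵁ W a, ha, ?_⟩
  have hopen : pX ⁻¹ᵁ (f₀ ⁻¹ᵁ W a) = fk ⁻¹ᵁ (pY ⁻¹ᵁ W a) := by
    show (pX ≫ f₀) ⁻¹ᵁ W a = (fk ≫ pY) ⁻¹ᵁ W a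
    rw [hXk.w]
  refine gg_restrict_congr _ hopen ((gg_restrict_iff pX (f₀ ⁻¹ᵁ W a) L₀).mpr ?_)
  have comm : (pX ∣_ (f₀ ⁻¹ᵁ W a)) ≫ ((f₀ ⁻¹ᵁ W a).ι ≫ f₀ ≫ g₀) =
      ((pX ⁻¹ᵁ (f₀ ⁻¹ᵁ W a)).ι ≫ fk ≫ gk ≫ D.map ψ) ≫ D.map j.hom := by
    rw [morphismRestrict_ι_assoc, reassoc_of% hXk.w, hYk.w]
    simp only [Category.assoc, Functor.map_comp]
  exact hj a _ (pullback.lift (pX ∣_ (f₀ ⁻¹ᵁ W a))
      ((pX ⁻¹ᵁ (f₀ ⁻¹ᵁ W a)).ι ≫ fk ≫ gk ≫ D.map ψ) comm)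
    (pX ∣_ (f₀ ⁻¹ᵁ W a)) (pullback.lift_fst _ _ _).symm

end Main

end Groth.Agent.Lib.Helper3.GGLim
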