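import Groth.Agent.Lib.Helper3.PbBasic
import Groth.Agent.Lib.Helper3.FreeSec

/-!
# Generation of an invertible module near a point by a section over an open
-/

set_option autoImplicit false
universe u
open CategoryTheory CategoryTheory.Limits AlgebraicGeometry TopologicalSpace Opposite
open Scheme.Modules

namespace Groth.Agent.Lib.Helper3.GGSpread

open QCSec InvGen PbBasic

variable {X : Scheme.{u}}

/-- the section `s` of `L` over `W` generates `L` on a neighbourhood of `x` -/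
def GenAtPt (L : X.Modules) (W : X.Opens) (s : Γ(L, W)) (x : X) : Prop :=
  ∃ (D : X.Opens) (hD : D ≤ W), x ∈ D ∧ IsGen L D (res L hD s)

set_option maxHeartbeats 400000 in
theorem mem_basicOpen_of_sum {U : X.Opens} {ι : Type*} (S : Finset ι) (F : ι → Γ(X, U)) (x : X)
    (hx : x ∈ X.basicOpen (∑ k ∈ S, F k)) : ∃ k ∈ S, x ∈ X.basicOpen (F k) := by
  classical
  have hxU : x ∈ U := X.basicOpen_le _ hx
  by_contra hcon
  push_neg at hcon
  rw [Scheme.mem_basicOpen _ _ _ hxU] at hx
  rw [map_sum] at hx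
  have hmem : ∑ k ∈ S, (X.presheaf.germ U x hxU) (F k) ∈
      IsLocalRing.maximalIdeal (X.presheaf.stalk x) := by
    apply Ideal.sum_mem
    intro k hk
    rw [IsLocalRing.mem_maximalIdeal, mem_nonunits_iff, ← Scheme.mem_basicOpen _ _ _ hxU]
    exact hcon k hk
  exact (IsLocalRing.mem_maximalIdeal _).mp hmem hx

set_option maxHeartbeats 400000 in
theorem le_basicOpen_of_isGenAt {L : X.Modules} {D : X.Opens} {e : Γ(L, D)} (hg : IsGen L D e)
    (c : Γ(X, D)) {A : X.Opens} (hA : A ≤ D) (h : IsGenAt L A (res L hA (c • e))) :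
    A ≤ X.basicOpen c := by
  have hV2 : IsGenAt L A (res L hA e) := hg A hA
  obtain ⟨u, hu, hue⟩ := hV2.exists_unit h
  have h1 : res L hA (c • e) = rres X hA c • res L hA e := res_smul L hA c e
  have h2 : u = rres X hA c := hV2.smul_inj (hue.symm.trans h1)
  have h3 : X.basicOpen (rres X hA c) = A := X.basicOpen_of_isUnit (h2 ▸ hu)
  have h4 : X.basicOpen (rres X hA c) = A ⊓ X.basicOpen c :=
    Scheme.basicOpen_res X c (homOfLE hA).op
  rw [← h3, h4]
  exact inf_le_right

set_option maxHeartbeats 400000 in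
theorem isGen_basicOpen_smul {L : X.Modules} {D : X.Opens} {e : Γ(L, D)} (hg : IsGen L D e)
    (c : Γ(X, D)) : IsGen L (X.basicOpen c) (res L (X.basicOpen_le c) (c • e)) := by
  rw [res_smul]
  exact (hg.mono (X.basicOpen_le c)).smul_unit
    (RingedSpace.isUnit_res_basicOpen X.toRingedSpace c)

set_option maxHeartbeats 400000 in
/-- if the pullback of `s` generates near `x'`, then `s` generates near the image of `x'` -/
theorem genAtPt_of_pull {X' : Scheme.{u}} (φ : X' ⟶ X) {L : X.Modules}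
    (hL : PicF.IsInvertible L) (W : X.Opens) (s : Γ(L, W)) (x' : X') (hx : φ x' ∈ W)
    (h : GenAtPt ((Scheme.Modules.pullback φ).obj L) (φ ⁻¹ᵁ W) (pull φ L W s) x') :
    GenAtPt L W s (φ x') := by
  obtain ⟨D, e, -, hxD, hDW, hg⟩ := exists_affine_isGen_le hL (φ x') W hx
  obtain ⟨c, hc⟩ := hg.self.exists_coord (res L hDW s)
  obtain ⟨D', hD', hx'D', hgen'⟩ := h
  have hg' : IsGen ((Scheme.Modules.pullback φ).obj L) (φ ⁻¹ᵁ D) (pull φ L D e) := isGen_pull φ hg
  have hDW' : φ ⁻¹ᵁ D ≤ φ ⁻¹ᵁ W := fun _ hy => hDW hy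
  have hA1 : D' ⊓ φ ⁻¹ᵁ D ≤ D' := inf_le_left
  have hA2 : D' ⊓ φ ⁻¹ᵁ D ≤ φ ⁻¹ᵁ D := inf_le_right
  have hs' : res _ (hA1.trans hD') (pull φ L W s) =
      res _ hA2 (φ.app D c • pull φ L D e) := by
    rw [← pull_smul, hc, ← res_pull φ L hDW s, res_res]
  have hgenA : IsGenAt ((Scheme.Modules.pullback φ).obj L) (D' ⊓ φ ⁻¹ᵁ D)
      (res _ hA2 (φ.app D c • pull φ L D e)) := by
    rw [← hs']
    have := hgen' (D' ⊓ φ ⁻¹ᵁ D) hA1
    rwa [res_res] at this
  have hle := le_basicOpen_of_isGenAt hg' (φ.app D c) hA2 hgenA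
  have hx1 : x' ∈ X'.basicOpen (φ.app D c) := hle ⟨hx'D', hxD⟩
  rw [← Scheme.preimage_basicOpen] at hx1
  have hx2 : φ x' ∈ X.basicOpen c := hx1
  refine ⟨X.basicOpen c, (X.basicOpen_le c).trans hDW, hx2, ?_⟩
  have h3 := isGen_basicOpen_smul hg c
  rw [hc, res_res] at h3
  exact h3

theorem res_sum (M : X.Modules) {A B : X.Opens} (h : A ≤ B) {κ : Type*} (S : Finset κ)
    (F : κ → Γ(M, B)) : res M h (∑ k ∈ S, F k) = ∑ k ∈ S, res M h (F k) := by
  classical
  induction S using Finset.induction_on with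
  | empty => simp only [Finset.sum_empty]; exact res_zero M h
  | insert a S ha ih => rw [Finset.sum_insert ha, Finset.sum_insert ha, QCExact.res_add, ih]

set_option maxHeartbeats 400000 in
/-- if a finite combination of sections generates near `x`, one of them does -/
theorem exists_genAtPt_of_sum {L : X.Modules} (hL : PicF.IsInvertible L) (x : X) (U : X.Opens)
    {κ : Type*} (S : Finset κ) (a : κ → Γ(X, U)) (t : κ → Γ(L, U))
    (h : GenAtPt L U (∑ k ∈ S, a k • t k) x) : ∃ k ∈ S, GenAtPt L U (t k) x := by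
  classical
  obtain ⟨D', hD', hxD', hgen⟩ := h
  obtain ⟨A, e, -, hxA, hAD, hg⟩ := exists_affine_isGen_le hL x D' hxD'
  have hAU : A ≤ U := hAD.trans hD'
  have hcex := fun k => hg.self.exists_coord (res L hAU (t k))
  choose c hc using hcex
  have hsum : res L hAU (∑ k ∈ S, a k • t k) =
      (∑ k ∈ S, rres X hAU (a k) * c k) • e := by
    rw [res_sum, Finset.sum_smul]
    apply Finset.sum_congr rfl
    intro k _
    rw [res_smul, ← hc k, smul_smul]
  have hgenA : IsGenAt L A (res L (le_refl A) ((∑ k ∈ S, rres X hAU (a k) * c k) • e)) := by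
    rw [res_self, ← hsum]
    have := hgen A hAD
    rwa [res_res] at this
  have hle := le_basicOpen_of_isGenAt hg _ (le_refl A) hgenA
  obtain ⟨k, hk, hxk⟩ := mem_basicOpen_of_sum S _ x (hle hxA)
  rw [Scheme.basicOpen_mul] at hxk
  refine ⟨k, hk, X.basicOpen (c k), (X.basicOpen_le (c k)).trans hAU, hxk.2, ?_⟩
  have h3 := isGen_basicOpen_smul hg (c k)
  rw [hc k, res_res] at h3
  exact h3

/-- generation near a point is an open condition -/
theorem isOpen_setOf_genAtPt (L : X.Modules) (W : X.Opens) :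
    IsOpen {x : X | ∃ s : Γ(L, W), GenAtPt L W s x} := by
  rw [isOpen_iff_forall_mem_open]
  rintro x ⟨s, D, hD, hxD, hg⟩
  exact ⟨D, fun x₁ hx₁ => ⟨s, D, hD, hx₁, hg⟩, D.isOpen, hxD⟩

end Groth.Agent.Lib.Helper3.GGSpread
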