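import Groth.Agent.Lib.Helper3.GGSpreadA
import Groth.Agent.Lib.Helper17.FlatBC
import Groth.Agent.Lib.Helper3.FPLimA
import Groth.Agent.Lib.Helper3.Reduced

/-!
# Global generation spreads out from the local scheme at a point (point-level statement)
-/

set_option autoImplicit false
universe u
open CategoryTheory CategoryTheory.Limits AlgebraicGeometry TopologicalSpace Opposite
open Scheme.Modules

namespace Groth.Agent.Lib.Helper3.GGSpread

open QCSec InvGen PbBasic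
open Groth.Agent.Lib.Helper17.UnitBC

set_option maxHeartbeats 1000000 in
/-- if the pullback of the invertible module `L` to `X ×_Y Spec 𝒪_{Y,y}` is globally generated,
then every point of the fibre over `y` has a neighbourhood on which `L` is generated by a section
over `f⁻¹ V₀` (`V₀` an affine open neighbourhood of `y`) -/
theorem exists_genAtPt_of_fibre {X Y : Scheme.{u}} (f : X ⟶ Y) [QuasiCompact f]
    [QuasiSeparated f] (L : X.Modules) (hL : PicF.IsInvertible L) (y : Y)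
    (h : Curv2.IsGloballyGenerated
      ((Scheme.Modules.pullback (pullback.fst f (Y.fromSpecStalk y))).obj L))
    (V₀ : Y.Opens) (hV₀ : IsAffineOpen V₀) (hy : y ∈ V₀) (x : X) (hx : f x = y) :
    ∃ s : Γ(L, f ⁻¹ᵁ V₀), GenAtPt L (f ⁻¹ᵁ V₀) s x := by
  classical
  haveI : Flat (Y.fromSpecStalk y) := flat_fromSpecStalk Y y
  haveI : L.IsQuasicoherent := InvCoh.isQuasicoherent_of_isInvertible hL
  have hc : IsPullback (pullback.fst f (Y.fromSpecStalk y)) (pullback.snd f (Y.fromSpecStalk y))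
      f (Y.fromSpecStalk y) := IsPullback.of_hasPullback f _
  have hV'V : (⊤ : (Spec (Y.presheaf.stalk y)).Opens) ≤ (Y.fromSpecStalk y) ⁻¹ᵁ V₀ := by
    intro t _
    have h1 : (Y.fromSpecStalk y) t ∈ Set.range (Y.fromSpecStalk y) := ⟨t, rfl⟩
    rw [Scheme.range_fromSpecStalk] at h1
    exact (h1 : (Y.fromSpecStalk y) t ⤳ y).mem_open V₀.isOpen hy
  have hWc : IsCompact ((f ⁻¹ᵁ V₀ : X.Opens) : Set X) := f.isCompact_preimage hV₀.isCompact
  have hWqs : IsQuasiSeparated ((f ⁻¹ᵁ V₀ : X.Opens) : Set X) :=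
    f.isQuasiSeparated_preimage hV₀.isQuasiSeparated
  have hBC := isBCHom_cmp_of_qcqs hc L hV'V hV₀ (isAffineOpen_top _) (le_refl (f ⁻¹ᵁ V₀))
    hWc hWqs
  -- a point above `x`
  obtain ⟨x', hx'1, -⟩ := Scheme.Pullback.exists_preimage_pullback (f := f)
    (g := Y.fromSpecStalk y) x (IsLocalRing.closedPoint _)
    (by rw [Scheme.fromSpecStalk_closedPoint]; exact hx)
  have hL' := isInvertible_pullback (pullback.fst f (Y.fromSpecStalk y)) hL
  obtain ⟨t, ht⟩ := FreeSec.exists_mem_genLocus_of_isGloballyGenerated hL' h x'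
  obtain ⟨W', hx'W', hW'⟩ := (mem_genLocus_iff t x').mp ht
  have hφx' : (pullback.fst f (Y.fromSpecStalk y)) x' ∈ f ⁻¹ᵁ V₀ := by
    show f ((pullback.fst f (Y.fromSpecStalk y)) x') ∈ V₀
    rw [hx'1, hx]; exact hy
  have hx'Up : x' ∈ up (pullback.fst f (Y.fromSpecStalk y)) (pullback.snd f (Y.fromSpecStalk y))
      (⊤ : (Spec (Y.presheaf.stalk y)).Opens) (f ⁻¹ᵁ V₀) := ⟨hφx', trivial⟩
  have hspan := FPLim.bc_span_range hBC
  have hτ : (show SecA (pullback.snd f (Y.fromSpecStalk y)) ⊤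
        ((Scheme.Modules.pullback (pullback.fst f (Y.fromSpecStalk y))).obj L)
        (up (pullback.fst f (Y.fromSpecStalk y)) (pullback.snd f (Y.fromSpecStalk y)) ⊤
          (f ⁻¹ᵁ V₀)) inf_le_right from
      res _ (le_top : up (pullback.fst f (Y.fromSpecStalk y))
        (pullback.snd f (Y.fromSpecStalk y)) ⊤ (f ⁻¹ᵁ V₀) ≤ ⊤) (sec t ⊤)) ∈
      Submodule.span Γ(Spec (Y.presheaf.stalk y), (⊤ : (Spec (Y.presheaf.stalk y)).Opens))
        (Set.range (cmp (pullback.fst f (Y.fromSpecStalk y))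
        (pullback.snd f (Y.fromSpecStalk y)) ⊤ L (f ⁻¹ᵁ V₀) (le_refl (f ⁻¹ᵁ V₀)))) := by
    rw [hspan]; trivial
  obtain ⟨c, hcsum⟩ := Finsupp.mem_span_range_iff_exists_finsupp.mp hτ
  have hgenτ : GenAtPt ((Scheme.Modules.pullback (pullback.fst f (Y.fromSpecStalk y))).obj L)
      (up (pullback.fst f (Y.fromSpecStalk y)) (pullback.snd f (Y.fromSpecStalk y)) ⊤ (f ⁻¹ᵁ V₀))
      (res _ le_top (sec t ⊤)) x' := by
    refine ⟨W' ⊓ up (pullback.fst f (Y.fromSpecStalk y)) (pullback.snd f (Y.fromSpecStalk y)) ⊤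
      (f ⁻¹ᵁ V₀), inf_le_right, ⟨hx'W', hx'Up⟩, ?_⟩
    rw [res_res, res_sec]
    have h3 := hW'.mono (inf_le_left : W' ⊓ up (pullback.fst f (Y.fromSpecStalk y))
      (pullback.snd f (Y.fromSpecStalk y)) ⊤ (f ⁻¹ᵁ V₀) ≤ W')
    rwa [res_sec] at h3
  have hsum : (∑ k ∈ c.support,
      ((pullback.snd f (Y.fromSpecStalk y)).appLE ⊤
        (up (pullback.fst f (Y.fromSpecStalk y)) (pullback.snd f (Y.fromSpecStalk y)) ⊤
          (f ⁻¹ᵁ V₀)) inf_le_right).hom (c k) •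
        unitSec (pullback.fst f (Y.fromSpecStalk y)) L (f ⁻¹ᵁ V₀)
          (up (pullback.fst f (Y.fromSpecStalk y)) (pullback.snd f (Y.fromSpecStalk y)) ⊤
            (f ⁻¹ᵁ V₀)) inf_le_left (show Γ(L, f ⁻¹ᵁ V₀) from k)) =
      res _ le_top (sec t ⊤) := hcsum
  rw [← hsum] at hgenτ
  obtain ⟨k, -, hgen⟩ := exists_genAtPt_of_sum hL' x' _ c.support _ _ hgenτ
  obtain ⟨D, hD, hxD, hg⟩ := hgen
  have hgen2 : GenAtPt ((Scheme.Modules.pullback (pullback.fst f (Y.fromSpecStalk y))).obj L)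
      ((pullback.fst f (Y.fromSpecStalk y)) ⁻¹ᵁ (f ⁻¹ᵁ V₀))
      (pull (pullback.fst f (Y.fromSpecStalk y)) L (f ⁻¹ᵁ V₀) (show Γ(L, f ⁻¹ᵁ V₀) from k)) x' := by
    refine ⟨D, hD.trans inf_le_left, hxD, ?_⟩
    unfold unitSec at hg
    rwa [res_res] at hg
  have h4 := genAtPt_of_pull (pullback.fst f (Y.fromSpecStalk y)) hL (f ⁻¹ᵁ V₀)
    (show Γ(L, f ⁻¹ᵁ V₀) from k) x' hφx' hgen2
  rw [hx'1] at h4
  exact ⟨_, h4⟩

end Groth.Agent.Lib.Helper3.GGSpread
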