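import Groth.Agent.Lib.Helper3.GGSpreadB
import Groth.Agent.Lib.Helper3.InvRestrict
import Groth.Agent.Lib.Helper3.GlobGen

/-!
# Global generation spreads out from the local scheme at a point
-/

set_option autoImplicit false
universe u
open CategoryTheory CategoryTheory.Limits AlgebraicGeometry TopologicalSpace Opposite
open Scheme.Modules

namespace Groth.Agent.Lib.Helper3.GGSpread

open QCSec InvGen PbBasic

set_option maxHeartbeats 1000000 in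
theorem isGloballyGenerated_restrict_of_genAtPt {X : Scheme.{u}} (L : X.Modules)
    [L.IsQuasicoherent] (W U : X.Opens) (hUW : U ≤ W)
    (h : ∀ x ∈ U, ∃ s : Γ(L, W), GenAtPt L W s x) :
    Curv2.IsGloballyGenerated (L.restrict U.ι) := by
  haveI : (L.restrict U.ι).IsQuasicoherent :=
    Scheme.Modules.isQuasicoherent_restrictFunctor U.ι L
  have hιW : U.ι ''ᵁ ⊤ ≤ W := by rw [Scheme.Opens.ι_image_top]; exact hUW
  apply GlobGen.isGloballyGenerated_of_span (L.restrict U.ι)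
    (fun s : Γ(L, W) => (show Γ(L.restrict U.ι, ⊤) from res L hιW s))
  intro x
  obtain ⟨s, D, hD, hxD, hg⟩ := h x.1 x.2
  obtain ⟨A, hA, hxA, hAle⟩ := Opens.isBasis_iff_nbhd.mp X.isBasis_affineOpens
    (show x.1 ∈ D ⊓ U from ⟨hxD, x.2⟩)
  have hAU : A ≤ U := hAle.trans inf_le_right
  have hAD : A ≤ D := hAle.trans inf_le_left
  refine ⟨U.ι ⁻¹ᵁ A, hA.preimage_of_isOpenImmersion U.ι
    (by rw [Scheme.Opens.opensRange_ι]; exact hAU), hxA, ?_⟩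
  have himg : U.ι ''ᵁ (U.ι ⁻¹ᵁ A) = A := ι_image_preimage_of_le hAU
  have hle : U.ι ''ᵁ (U.ι ⁻¹ᵁ A) ≤ W := (le_of_eq himg).trans (hAD.trans hD)
  have hgenA : IsGenAt L (U.ι ''ᵁ (U.ι ⁻¹ᵁ A)) (res L hle s) := by
    have h1 : IsGenAt L A (res L (hAD.trans hD) s) := by
      have := hg A hAD
      rwa [res_res] at this
    have h2 := h1.of_eq himg
    rwa [res_res] at h2
  have hgenR : IsGenAt (L.restrict U.ι) (U.ι ⁻¹ᵁ A)
      (show Γ(L.restrict U.ι, U.ι ⁻¹ᵁ A) from res L hle s) :=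
    isGenAt_restrict_of L U _ _ hgenA
  rw [eq_top_iff]
  intro z _
  obtain ⟨a, ha⟩ := hgenR.2 z
  rw [← ha]
  apply Submodule.smul_mem
  apply Submodule.subset_span
  refine ⟨s, ?_⟩
  show res (L.restrict U.ι) (le_top : U.ι ⁻¹ᵁ A ≤ ⊤)
    (show Γ(L.restrict U.ι, ⊤) from res L hιW s) = _
  rw [InvRestrict.res_restrict]
  exact res_res L _ _ s

set_option maxHeartbeats 1000000 in
/-- **global generation spreads out**: `f : X ⟶ Y` proper, `L` invertible on `X`; if the pullback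
of `L` to `X ×_Y Spec 𝒪_{Y,y}` is globally generated, then `L` is globally generated over a
neighbourhood of `y` -/
theorem exists_open_nhd_isGloballyGenerated {X Y : Scheme.{u}} (f : X ⟶ Y) [IsProper f]
    (L : X.Modules) (hL : PicF.IsInvertible L) (y : Y)
    (h : Curv2.IsGloballyGenerated
      ((Scheme.Modules.pullback (pullback.fst f (Y.fromSpecStalk y))).obj L)) :
    ∃ V : Y.Opens, y ∈ V ∧ Curv2.IsGloballyGenerated (L.restrict (f ⁻¹ᵁ V).ι) := by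
  classical
  haveI : L.IsQuasicoherent := InvCoh.isQuasicoherent_of_isInvertible hL
  obtain ⟨V₀, hV₀, hy⟩ := QCProps.exists_affine_nbhd y
  have hGo : IsOpen {x : X | ∃ s : Γ(L, f ⁻¹ᵁ V₀), GenAtPt L (f ⁻¹ᵁ V₀) s x} :=
    isOpen_setOf_genAtPt L _
  have hfib : ∀ x : X, f x = y → x ∈ {x : X | ∃ s : Γ(L, f ⁻¹ᵁ V₀), GenAtPt L (f ⁻¹ᵁ V₀) s x} :=
    fun x hx => exists_genAtPt_of_fibre f L hL y h V₀ hV₀ hy x hx
  have hcl : IsClosed (f '' {x : X | ∃ s : Γ(L, f ⁻¹ᵁ V₀), GenAtPt L (f ⁻¹ᵁ V₀) s x}ᶜ) :=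
    f.isClosedMap _ hGo.isClosed_compl
  have hyZ : y ∉ f '' {x : X | ∃ s : Γ(L, f ⁻¹ᵁ V₀), GenAtPt L (f ⁻¹ᵁ V₀) s x}ᶜ := by
    rintro ⟨x, hxG, hxy⟩
    exact hxG (hfib x hxy)
  obtain ⟨V, hV⟩ : ∃ V : Y.Opens, V = V₀ ⊓ ⟨_, hcl.isOpen_compl⟩ := ⟨_, rfl⟩
  have hyV : y ∈ V := by rw [hV]; exact ⟨hy, hyZ⟩
  refine ⟨V, hyV, ?_⟩
  have hUW : f ⁻¹ᵁ V ≤ f ⁻¹ᵁ V₀ := by
    intro x hx
    have hx' : f x ∈ V := hx
    rw [hV] at hx'
    exact hx'.1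
  have hUG : ∀ x ∈ f ⁻¹ᵁ V, ∃ s : Γ(L, f ⁻¹ᵁ V₀), GenAtPt L (f ⁻¹ᵁ V₀) s x := by
    intro x hx
    have hx' : f x ∈ V := hx
    rw [hV] at hx'
    by_contra hcon
    exact hx'.2 ⟨x, hcon, rfl⟩
  exact isGloballyGenerated_restrict_of_genAtPt L (f ⁻¹ᵁ V₀) (f ⁻¹ᵁ V) hUW hUG

end Groth.Agent.Lib.Helper3.GGSpread
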