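import Groth.Agent.Lib.Helper3.RelNorm

/-!
# Descent of ampleness along a finite surjective morphism with a graded norm system
-/

set_option autoImplicit false
set_option linter.unusedSectionVars false
universe u
open CategoryTheory CategoryTheory.Limits AlgebraicGeometry TopologicalSpace Opposite
open Scheme.Modules

namespace Groth.Agent.Lib.H3.GNorm

open Groth.Agent.Lib.Helper3
open QCSec InvGen InvTensor InvMonoidal InvAmple PbBasic NormAlg FreeBasis RelNorm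

variable {X X' : Scheme.{u}}

/-- a norm system of locally constant degree for `g : X' ⟶ X`, for which functions divide the
pullbacks of their norms at the points of a set surjecting onto `X` -/
structure GNSys (g : X' ⟶ X) where
  /-- the norm maps -/
  nm : ∀ V : X.Opens, Γ(X', g ⁻¹ᵁ V) → Γ(X, V)
  nm_one : ∀ V : X.Opens, nm V 1 = 1
  nm_mul : ∀ (V : X.Opens) (b b' : Γ(X', g ⁻¹ᵁ V)), nm V (b * b') = nm V b * nm V b'
  nm_res : ∀ {V V' : X.Opens} (h : V' ≤ V) (b : Γ(X', g ⁻¹ᵁ V)),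
    rres X h (nm V b) = nm V' (rres X' (preimage_mono' g h) b)
  /-- the degree -/
  deg : X → ℕ
  nm_app : ∀ x : X, ∃ U : X.Opens, x ∈ U ∧ (∀ z ∈ U, deg z = deg x) ∧
    ∀ W : X.Opens, W ≤ U → ∀ a : Γ(X, W), nm W (g.app W a) = a ^ deg x
  /-- the good points -/
  S' : Set X'
  surj : ∀ x : X, ∃ x' ∈ S', g x' = x
  wdvd : ∀ (V : X.Opens) (b : Γ(X', g ⁻¹ᵁ V)) (x' : X'), x' ∈ S' →
    g x' ∈ X.basicOpen (nm V b) → x' ∈ X'.basicOpen b

variable {g : X' ⟶ X} (𝒩 : GNSys g)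

theorem isUnit_nm (V : X.Opens) {b : Γ(X', g ⁻¹ᵁ V)} (hb : IsUnit b) : IsUnit (𝒩.nm V b) := by
  obtain ⟨c, hc⟩ := hb.exists_right_inv
  apply IsUnit.of_mul_eq_one (𝒩.nm V c)
  rw [← 𝒩.nm_mul, hc, 𝒩.nm_one]

theorem deg_pos (x : X) : 0 < 𝒩.deg x := by
  obtain ⟨U, hxU, -, happ⟩ := 𝒩.nm_app x
  obtain ⟨x', hx'S, hx'⟩ := 𝒩.surj x
  by_contra h0
  have h00 : 𝒩.deg x = 0 := by omega
  have h1 : 𝒩.nm U (g.app U 0) = 1 := by rw [happ U le_rfl 0, h00, pow_zero]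
  have h2 : g x' ∈ X.basicOpen (𝒩.nm U (g.app U 0)) := by
    rw [h1, Scheme.basicOpen_of_isUnit _ isUnit_one, hx']
    exact hxU
  have h3 := 𝒩.wdvd U _ x' hx'S h2
  rw [map_zero, Scheme.basicOpen_zero] at h3
  exact h3.elim

variable (L : X.Modules)

/-- a chart trivialising `L` over which the degree is constant -/
structure Chart where
  /-- the open -/
  U : X.Opens
  /-- a generator of `L` -/
  ℓ : Γ(L, U)
  hℓ : IsGen L U ℓ
  /-- the degree -/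
  r : ℕ
  hr : ∀ z ∈ U, 𝒩.deg z = r
  happ : ∀ W : X.Opens, W ≤ U → ∀ a : Γ(X, W), 𝒩.nm W (g.app W a) = a ^ r

variable {𝒩 L}

/-- the generator of `(g^*L)^m` over `g⁻¹ U` -/
noncomputable def Chart.lam (c : Chart 𝒩 L) (m : ℕ) :
    Γ(CohB1.tensorPow ((Scheme.Modules.pullback g).obj L) m, g ⁻¹ᵁ c.U) :=
  lpow _ (pull g L c.U c.ℓ) m

theorem Chart.isGen_lam (c : Chart 𝒩 L) (m : ℕ) :
    IsGen (CohB1.tensorPow ((Scheme.Modules.pullback g).obj L) m) (g ⁻¹ᵁ c.U) (c.lam m) :=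
  isGen_lpow (isGen_pull g c.hℓ) m

variable {m : ℕ}
  (s' : Coh.structureModule X' ⟶ CohB1.tensorPow ((Scheme.Modules.pullback g).obj L) m)

/-- the coordinate of `s'` in a chart -/
noncomputable def Chart.coord (c : Chart 𝒩 L) : Γ(X', g ⁻¹ᵁ c.U) :=
  Classical.choose ((c.isGen_lam m).self.exists_coord (sec s' (g ⁻¹ᵁ c.U)))

theorem Chart.coord_spec (c : Chart 𝒩 L) : c.coord s' • c.lam m = sec s' (g ⁻¹ᵁ c.U) :=
  Classical.choose_spec ((c.isGen_lam m).self.exists_coord (sec s' (g ⁻¹ᵁ c.U)))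

/-- the local norm of `s'` in a chart -/
noncomputable def Chart.nsec (c : Chart 𝒩 L) (ρ : ℕ) : Γ(CohB1.tensorPow L (m * ρ), c.U) :=
  if c.r = ρ then 𝒩.nm c.U (c.coord s') • lpow L c.ℓ (m * ρ) else 0

theorem Chart.nsec_compat (c c' : Chart 𝒩 L) (ρ : ℕ) :
    res _ (inf_le_left : c.U ⊓ c'.U ≤ c.U) (c.nsec s' ρ) =
      res _ (inf_le_right : c.U ⊓ c'.U ≤ c'.U) (c'.nsec s' ρ) := by
  apply sec_eq_of_nonempty
  rintro z ⟨hz, hz'⟩
  have hr : c.r = c'.r := (c.hr z hz).symm.trans (c'.hr z hz')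
  unfold Chart.nsec
  by_cases hρ : c.r = ρ
  · have hρ' : c'.r = ρ := hr ▸ hρ
    rw [if_pos hρ, if_pos hρ']
    obtain ⟨u, hu, hue⟩ := (c.hℓ (c.U ⊓ c'.U) inf_le_left).exists_unit
      (c'.hℓ (c.U ⊓ c'.U) inf_le_right)
    have hlam : res _ (preimage_mono' g (inf_le_right : c.U ⊓ c'.U ≤ c'.U)) (c'.lam m) =
        (g.app (c.U ⊓ c'.U) u) ^ m •
          res _ (preimage_mono' g (inf_le_left : c.U ⊓ c'.U ≤ c.U)) (c.lam m) := by
      unfold Chart.lam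
      rw [lpow_res, lpow_res, res_pull g L (inf_le_right : c.U ⊓ c'.U ≤ c'.U),
        res_pull g L (inf_le_left : c.U ⊓ c'.U ≤ c.U), hue, pull_smul, lpow_smul]
    have hcoord : rres X' (preimage_mono' g (inf_le_left : c.U ⊓ c'.U ≤ c.U)) (c.coord s') =
        rres X' (preimage_mono' g (inf_le_right : c.U ⊓ c'.U ≤ c'.U)) (c'.coord s') *
          (g.app (c.U ⊓ c'.U) u) ^ m := by
      apply ((c.isGen_lam m) (g ⁻¹ᵁ (c.U ⊓ c'.U)) (preimage_mono' g inf_le_left)).smul_inj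
      rw [← res_smul, c.coord_spec, res_sec, mul_smul, ← hlam, ← res_smul, c'.coord_spec, res_sec]
    rw [res_smul, res_smul, 𝒩.nm_res inf_le_left, 𝒩.nm_res inf_le_right, hcoord, 𝒩.nm_mul,
      ← map_pow, c.happ _ inf_le_left, lpow_res, lpow_res, hue, lpow_smul, ← mul_smul, hρ,
      pow_mul]
  · have hρ' : ¬ c'.r = ρ := hr ▸ hρ
    rw [if_neg hρ, if_neg hρ', res_zero, res_zero]

/-- the local norms glue to a global section of `L^{mρ}` -/
theorem exists_normSec (hcov : ∀ x : X, ∃ c : Chart 𝒩 L, x ∈ c.U) (ρ : ℕ) :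
    ∃ s : Coh.structureModule X ⟶ CohB1.tensorPow L (m * ρ),
      ∀ c : Chart 𝒩 L, sec s c.U = c.nsec s' ρ := by
  obtain ⟨τ, hτ⟩ := sec_glue (CohB1.tensorPow L (m * ρ)) (fun c : Chart 𝒩 L => c.U) ⊤
    (fun _ => le_top)
    (fun x _ => by obtain ⟨c, hc⟩ := hcov x; exact Opens.mem_iSup.mpr ⟨c, hc⟩)
    (fun c => c.nsec s' ρ) (fun c c' => Chart.nsec_compat s' c c' ρ)
  refine ⟨globalHom _ τ, fun c => ?_⟩
  rw [sec_globalHom]
  exact hτ c

section locus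

variable {s'} {ρ : ℕ} {s : Coh.structureModule X ⟶ CohB1.tensorPow L (m * ρ)}
  (hs : ∀ c : Chart 𝒩 L, sec s c.U = c.nsec s' ρ)
include hs

theorem genLocus_inf_chart (c : Chart 𝒩 L) (hc : c.r = ρ) :
    CohB1.genLocus _ s ⊓ c.U = X.basicOpen (𝒩.nm c.U (c.coord s')) := by
  apply genLocus_inf_eq_basicOpen s (isGen_lpow c.hℓ (m * ρ))
  rw [hs c]
  unfold Chart.nsec
  rw [if_pos hc]

theorem genLocus_inf_chart_of_ne (c : Chart 𝒩 L) (hc : c.r ≠ ρ) :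
    CohB1.genLocus _ s ⊓ c.U = ⊥ := by
  rw [genLocus_inf_eq_basicOpen s (isGen_lpow c.hℓ (m * ρ)) 0, Scheme.basicOpen_zero]
  rw [hs c]
  unfold Chart.nsec
  rw [if_neg hc, zero_smul]

omit hs in
theorem genLocus_inf_preimage_chart (c : Chart 𝒩 L) :
    CohB1.genLocus _ s' ⊓ g ⁻¹ᵁ c.U = X'.basicOpen (c.coord s') :=
  genLocus_inf_eq_basicOpen s' (c.isGen_lam m) (c.coord s') (c.coord_spec s').symm

theorem mem_genLocus_of_mem (hcov : ∀ x : X, ∃ c : Chart 𝒩 L, x ∈ c.U) {z' : X'}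
    (hz'S : z' ∈ 𝒩.S') (hz' : g z' ∈ CohB1.genLocus _ s) : z' ∈ CohB1.genLocus _ s' := by
  obtain ⟨c, hc⟩ := hcov (g z')
  by_cases hr : c.r = ρ
  · have h1 : g z' ∈ X.basicOpen (𝒩.nm c.U (c.coord s')) := by
      rw [← genLocus_inf_chart hs c hr]
      exact ⟨hz', hc⟩
    have h2 : z' ∈ X'.basicOpen (c.coord s') := 𝒩.wdvd c.U _ z' hz'S h1
    have h3 : z' ∈ CohB1.genLocus _ s' ⊓ g ⁻¹ᵁ c.U := by
      rw [genLocus_inf_preimage_chart]
      exact h2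
    exact h3.1
  · have h1 : g z' ∈ CohB1.genLocus _ s ⊓ c.U := ⟨hz', hc⟩
    rw [genLocus_inf_chart_of_ne hs c hr] at h1
    exact h1.elim

theorem mem_genLocus_of_chart (c : Chart 𝒩 L) (hc : c.r = ρ)
    (hle : g ⁻¹ᵁ c.U ≤ CohB1.genLocus _ s') {x : X} (hx : x ∈ c.U) :
    x ∈ CohB1.genLocus _ s := by
  have h1 : IsGen _ (g ⁻¹ᵁ c.U) (sec s' (g ⁻¹ᵁ c.U)) := isGen_sec_of_le s' hle
  obtain ⟨u, hu, hue⟩ := (c.isGen_lam m).self.exists_unit h1.self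
  have h2 : c.coord s' = u := by
    apply (c.isGen_lam m).self.smul_inj
    rw [c.coord_spec, hue]
  have h3 : IsUnit (𝒩.nm c.U (c.coord s')) := by
    rw [h2]
    exact isUnit_nm 𝒩 c.U hu
  have h4 : x ∈ CohB1.genLocus _ s ⊓ c.U := by
    rw [genLocus_inf_chart hs c hc, Scheme.basicOpen_of_isUnit _ h3]
    exact hx
  exact h4.1

end locus

/-- **EGA II 6.6.1, abstract form**: if `g : X' ⟶ X` is finite surjective with a graded norm
system and `g^* L` is ample, then `L` is ample. -/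
theorem isAmple_of_isAmple_pullback (g : X' ⟶ X) [IsFinite g] [Surjective g] (𝒩 : GNSys g)
    {L : X.Modules} (hL : PicF.IsInvertible L)
    (hA : CohB1.IsAmple ((Scheme.Modules.pullback g).obj L)) :
    CohB1.IsAmple L := by
  haveI : CompactSpace X' := hA.2.1
  haveI := RelAmpleLib.isSeparated_of_isAmple hA
  haveI : CompactSpace X := ⟨by
    have := isCompact_range g.continuous
    rwa [g.surjective.range_eq] at this⟩
  have hcov : ∀ x : X, ∃ c : Chart 𝒩 L, x ∈ c.U := by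
    intro x
    obtain ⟨U, hxU, hdeg, happ⟩ := 𝒩.nm_app x
    obtain ⟨U₂, ℓ, hxU₂, hℓ⟩ := exists_isGen hL x
    exact ⟨⟨U ⊓ U₂, res L inf_le_right ℓ, hℓ.mono _, 𝒩.deg x, fun z hz => hdeg z hz.1,
      fun W hW a => happ W (hW.trans inf_le_left) a⟩, ⟨hxU, hxU₂⟩⟩
  apply isAmple_of_secLocus hL
  intro x
  obtain ⟨V, hV, hxV⟩ := QCProps.exists_affine_nbhd x
  have hfin : (g ⁻¹' {x}).Finite := g.finite_preimage_singleton x
  obtain ⟨n, s', hZs, hsV, -⟩ := Groth.Agent.S2324.result X' _ hA (g ⁻¹' {x}) hfin (g ⁻¹ᵁ V)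
    (by
      intro z hz
      have : g z = x := hz
      change g z ∈ V
      rw [this]
      exact hxV)
  have hclosed : IsClosed (g '' ((CohB1.genLocus _ s' : Set X')ᶜ)) :=
    g.isClosedMap _ (CohB1.genLocus _ s').2.isClosed_compl
  have hxC : x ∉ g '' ((CohB1.genLocus _ s' : Set X')ᶜ) := by
    rintro ⟨z, hz, hzx⟩
    exact hz (hZs hzx)
  let U₀ : X.Opens := ⟨(g '' ((CohB1.genLocus _ s' : Set X')ᶜ))ᶜ, hclosed.isOpen_compl⟩
  obtain ⟨c, hc⟩ := hcov x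
  let c₀ : Chart 𝒩 L := ⟨c.U ⊓ U₀, res L inf_le_left c.ℓ, c.hℓ.mono _, c.r,
    fun z hz => c.hr z hz.1, fun W hW a => c.happ W (hW.trans inf_le_left) a⟩
  have hx₀ : x ∈ c₀.U := ⟨hc, hxC⟩
  have hle : g ⁻¹ᵁ c₀.U ≤ CohB1.genLocus _ s' := by
    intro z hz
    by_contra hzs
    exact hz.2 ⟨z, hzs, rfl⟩
  have hρ : 0 < c₀.r := by
    have h1 : 𝒩.deg x = c₀.r := c.hr x hc
    rw [← h1]
    exact deg_pos 𝒩 x
  obtain ⟨s, hs⟩ := exists_normSec s' hcov c₀.r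
  have hxs : x ∈ CohB1.genLocus _ s := mem_genLocus_of_chart hs c₀ rfl hle hx₀
  have hsV' : CohB1.genLocus _ s ≤ V := by
    intro z hz
    obtain ⟨w, hwS, rfl⟩ := 𝒩.surj z
    exact hsV (mem_genLocus_of_mem hs hcov hwS hz)
  refine ⟨CohB1.genLocus _ s, secLocus_of_pos (Nat.mul_pos (Nat.succ_pos n) hρ) s, hxs, ?_⟩
  have := isAffineOpen_genLocus_inf (isInvertible_tensorPow hL _) s hV
  rwa [inf_eq_left.mpr hsV'] at this

end Groth.Agent.Lib.H3.GNorm
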