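import Groth.Agent.Lib.Helper3.RelTwistGG
import Groth.Agent.Lib.Helper3.PbAmple

/-!
# `O_P(1)` pulls back to a relatively ample module along topological embeddings
-/

set_option autoImplicit false
set_option linter.unusedSectionVars false
universe u
open CategoryTheory CategoryTheory.Limits AlgebraicGeometry TopologicalSpace Opposite
open Scheme.Modules
open scoped HomogeneousIdeal

namespace Groth.Agent.Lib.Helper3.SymGenAmple

open QCSec InvGen GrModQC RelProjBasic CounitGG RelTwistLocGen PbBasic InvAmple InvRestrict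
  RelTwistGG PbAmple InvTensor InvMonoidal

section ring

variable {A σ : Type u} [CommRing A] [SetLike σ A] [AddSubgroupClass σ A] {𝒜 : ℕ → σ}
  [GradedRing 𝒜]

/-- homogeneous basic opens of positive degree form a basis, when the ring is generated in
degrees `0` and `1` -/
theorem exists_pos_homogeneous_basicOpen
    (hgen : Subring.closure ((𝒜 0 : Set A) ∪ (𝒜 1 : Set A)) = ⊤)
    (x : Proj 𝒜) (U : (Proj 𝒜).Opens) (hx : x ∈ U) :
    ∃ (e : ℕ) (f : A), f ∈ 𝒜 (e + 1) ∧ x ∈ Proj.basicOpen 𝒜 f ∧ Proj.basicOpen 𝒜 f ≤ U := by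
  classical
  obtain ⟨_, ⟨f, rfl⟩, hxf, hfU⟩ := Opens.isBasis_iff_nbhd.mp (Proj.isBasis_basicOpen 𝒜) hx
  have hxf' := hxf
  rw [Proj.basicOpen_eq_iSup_proj] at hxf'
  obtain ⟨i, hi⟩ := Opens.mem_iSup.mp hxf'
  have hle : Proj.basicOpen 𝒜 (GradedRing.proj 𝒜 i f) ≤ U := by
    refine le_trans ?_ hfU
    rw [Proj.basicOpen_eq_iSup_proj 𝒜 f]
    exact le_iSup (fun i => Proj.basicOpen 𝒜 (GradedRing.proj 𝒜 i f)) i
  obtain ⟨g, hg1, hgx⟩ := GrTwistGen.exists_deg_one_notMem hgen x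
  refine ⟨i, GradedRing.proj 𝒜 i f * g,
    SetLike.mul_mem_graded (SetLike.coe_mem _) hg1, ?_, ?_⟩
  · rw [Proj.basicOpen_mul]
    exact ⟨hi, hgx⟩
  · rw [Proj.basicOpen_mul]
    exact inf_le_left.trans hle

end ring

variable {X Y : Scheme.{u}}

/-- the pullback along a topological embedding, with quasi-compact source, of an invertible module
whose loci `Y_s` form a basis at the points of the image is ample -/
theorem isAmple_pullback_of_isEmbedding' (i : X ⟶ Y) [CompactSpace X]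
    (hi : Topology.IsEmbedding i) {L : Y.Modules} (hL : PicF.IsInvertible L)
    (hb : ∀ (x : X) (W₀ : Y.Opens), i x ∈ W₀ → ∃ W ∈ SecLocus L, i x ∈ W ∧ W ≤ W₀) :
    CohB1.IsAmple ((Scheme.Modules.pullback i).obj L) := by
  have hinv := isInvertible_pullback i hL
  apply isAmple_of_secLocus hinv
  intro x
  obtain ⟨U, e, hU, hxU, hg⟩ := exists_affine_isGen hinv x
  obtain ⟨W₀, hW₀, hWU⟩ := hi.isInducing.isOpen_iff.mp U.2
  obtain ⟨W, hWsec, hxW, hWle⟩ := hb x ⟨W₀, hW₀⟩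
    (by
      have : x ∈ (i : X → Y) ⁻¹' W₀ := by rw [hWU]; exact hxU
      exact this)
  obtain ⟨n, s, hs⟩ := secLocus_pullback i hL hWsec
  have hle : i ⁻¹ᵁ W ≤ U := by
    intro y hy
    have : y ∈ (i : X → Y) ⁻¹' W₀ := hWle hy
    rw [hWU] at this
    exact this
  refine ⟨i ⁻¹ᵁ W, ⟨n, s, hs⟩, hxW, ?_⟩
  have h1 := isAffineOpen_genLocus_inf_of_isGen s hU
    (isGen_lpow (L := (Scheme.Modules.pullback i).obj L) hg (n + 1))
  rw [← hs, inf_eq_left.mpr hle] at h1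
  exact h1


variable {P : Scheme.{u}} {𝒮 : RelProj.QCGrAlg Y} {p : P ⟶ Y}
  {chart : ∀ (U : Y.Opens) (hU : IsAffineOpen U),
    ((p ⁻¹ᵁ U : P.Opens) : Scheme.{u}) ≅ Proj (𝒮.deg U hU)}
  (hP : RelProj.IsRelProj 𝒮 p chart) (hgen : 𝒮.IsGenDegOne)
  {O1 : P.Modules}
  {lam1 : ∀ (U : Y.Opens) (hU : IsAffineOpen U),
    O1 ⟶ (Scheme.Modules.pushforward (RelProj.emb p chart U hU)).obj
      (GrTwist.twist (𝒮.deg U hU) 1)}
  (hO1 : RelProj.IsRelTwist 𝒮 p chart 1 O1 lam1)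

include hP hgen hO1 in
/-- over the preimage of an affine open, the loci of the sections of the powers of `O_P(1)` form
a basis -/
theorem exists_secLocus_nbhd (V : Y.Opens) (hV : IsAffineOpen V)
    (y : ((p ⁻¹ᵁ V : P.Opens) : Scheme.{u})) (W₀ : ((p ⁻¹ᵁ V : P.Opens) : Scheme.{u}).Opens)
    (hy : y ∈ W₀) :
    ∃ W ∈ SecLocus (O1.restrict (p ⁻¹ᵁ V).ι), y ∈ W ∧ W ≤ W₀ := by
  obtain ⟨z, hz⟩ := ProjQMap.exists_emb_eq p chart V hV y.1 y.2
  have hzU : z ∈ RelProj.emb p chart V hV ⁻¹ᵁ ((p ⁻¹ᵁ V).ι ''ᵁ W₀) := by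
    change (RelProj.emb p chart V hV) z ∈ (p ⁻¹ᵁ V).ι ''ᵁ W₀
    rw [hz]
    exact ⟨y, hy, rfl⟩
  obtain ⟨e, h, hh, hzh, hhU⟩ := exists_pos_homogeneous_basicOpen (hgen V hV) z _ hzU
  obtain ⟨Ld, lamd, hLd⟩ := RelTwistExist.exists_isRelTwist hP ((e + 1 : ℕ) : ℤ)
  obtain ⟨a, ha⟩ := exists_sec hLd V hV h hh
  have hloc := genLocus_homOfSec hLd V hV h hh a ha hgen
  obtain ⟨φ⟩ := nonempty_pow_iso hP hgen hO1 (e + 1) Ld lamd hLd
  have e1 : CohB1.tensorPow (O1.restrict (p ⁻¹ᵁ V).ι) (e + 1) ≅ Ld.restrict (p ⁻¹ᵁ V).ι :=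
    restrictPowIso (p ⁻¹ᵁ V).ι O1 (e + 1) ≪≫ (restrictFunctor (p ⁻¹ᵁ V).ι).mapIso φ
  refine ⟨(p ⁻¹ᵁ V).ι ⁻¹ᵁ (RelProj.emb p chart V hV ''ᵁ Proj.basicOpen (𝒮.deg V hV) h),
    ⟨e, homOfSec Ld (p ⁻¹ᵁ V) a ≫ e1.inv, ?_⟩, ⟨z, hzh, hz⟩, ?_⟩
  · rw [genLocus_comp_iso, hloc]
  · rintro w ⟨z', hz', hzw⟩
    obtain ⟨w', hw', hww'⟩ := hhU hz'
    have : w' = w := (p ⁻¹ᵁ V).ι.isOpenEmbedding.injective (hww'.trans hzw)
    rwa [this] at hw'

include hP hgen hO1 in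
/-- EGA II 4.4.4 / 4.6.2 for a morphism into a relative `Proj` which is a topological embedding:
`O_P(1)` pulls back to a relatively ample module -/
theorem isRelAmple_pullback_of_isEmbedding (g : X ⟶ P) [QuasiCompact (g ≫ p)]
    (hemb : Topology.IsEmbedding g) :
    RelAmple.IsRelAmple (g ≫ p) ((Scheme.Modules.pullback g).obj O1) := by
  refine ⟨inferInstance, fun V => ?_⟩
  have hinv1 : PicF.IsInvertible O1 :=
    GrTwistGen.isInvertible_of_isRelTwist 𝒮 p chart hgen _ O1 lam1 hO1.bijective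
  haveI : IsAffine (V.1 : Scheme.{u}) := V.2
  haveI : CompactSpace (((g ≫ p) ⁻¹ᵁ V.1 : X.Opens) : Scheme.{u}) :=
    QuasiCompact.compactSpace_of_compactSpace ((g ≫ p) ∣_ V.1)
  haveI : CompactSpace ((g ⁻¹ᵁ (p ⁻¹ᵁ V.1) : X.Opens) : Scheme.{u}) :=
    inferInstanceAs (CompactSpace (((g ≫ p) ⁻¹ᵁ V.1 : X.Opens) : Scheme.{u}))
  have hemb' : Topology.IsEmbedding (g ∣_ (p ⁻¹ᵁ V.1)) := by
    rw [morphismRestrict_base]
    exact hemb.restrictPreimage _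
  have h1 := isAmple_pullback_of_isEmbedding' (g ∣_ (p ⁻¹ᵁ V.1)) hemb'
    (isInvertible_restrict (p ⁻¹ᵁ V.1).ι hinv1)
    (fun x W₀ hx => exists_secLocus_nbhd hP hgen hO1 V.1 V.2 _ W₀ hx)
  exact isAmple_of_iso ((pbRestrict g (p ⁻¹ᵁ V.1)).app O1).symm h1

end Groth.Agent.Lib.Helper3.SymGenAmple
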