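import Groth.Agent.S4419
import Groth.Agent.S4418
import Groth.Agent.S2260
import Groth.Agent.Lib.Helper3.RelAmpleLib

set_option autoImplicit false
universe u
open CategoryTheory CategoryTheory.Limits AlgebraicGeometry TopologicalSpace Opposite

/-!
# Generic projectivity vs. a dense quasi-projective open (assembly for S19377)
-/

namespace Groth.Agent.Lib.Helper3.GenProj

/-- integral (hence irreducible) open neighbourhoods -/
theorem exists_irreducible_open_nhd {S : Scheme.{u}} [IsLocallyNoetherian S]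
    (hS : ∀ s : S, IsDomain (S.presheaf.stalk s)) (s : S) :
    ∃ N : S.Opens, s ∈ N ∧ IsPreirreducible (N : Set S) := by
  haveI := hS s
  obtain ⟨N, hsN, hN⟩ := Groth.Agent.S2260.result S s
  refine ⟨N, hsN, ?_⟩
  haveI : IrreducibleSpace ↥(N : Scheme.{u}) := inferInstance
  have h1 : IsPreirreducible (Set.univ : Set ↥(N : Set S)) :=
    (inferInstance : PreirreducibleSpace ↥(N : Scheme.{u})).isPreirreducible_univ
  have h2 := h1.image (Subtype.val : ↥(N : Set S) → S) continuous_subtype_val.continuousOn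
  rwa [Set.image_univ, Subtype.range_coe] at h2

/-- (A2) -/
theorem dense_of_meets_connectedComponents {S : Scheme.{u}} [IsLocallyNoetherian S]
    (hS : ∀ s : S, IsDomain (S.presheaf.stalk s)) (V : S.Opens)
    (h : ∀ s : S, ∃ s' : S, s' ∈ connectedComponent s ∧ s' ∈ V) : Dense (V : Set S) := by
  have hopen : IsOpen (closure (V : Set S)) := by
    rw [isOpen_iff_forall_mem_open]
    intro s hs
    obtain ⟨N, hsN, hN⟩ := exists_irreducible_open_nhd hS s
    refine ⟨N, ?_, N.2, hsN⟩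
    -- `N ∩ V` is a nonempty open of the irreducible `N`, hence dense in it
    have hne : ((N : Set S) ∩ (V : Set S)).Nonempty := by
      obtain ⟨x, hxN, hxV⟩ := mem_closure_iff.mp hs N N.2 hsN
      exact ⟨x, hxN, hxV⟩
    intro y hyN
    rw [mem_closure_iff]
    intro W hW hyW
    obtain ⟨z, -, hzW, hzV⟩ := hN W (V : Set S) hW V.2 ⟨y, hyN, hyW⟩ hne
    exact ⟨z, hzW, hzV⟩
  have hclopen : IsClopen (closure (V : Set S)) := ⟨isClosed_closure, hopen⟩
  intro s
  obtain ⟨s', hs'1, hs'2⟩ := h s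
  have hsub : connectedComponent s' ⊆ closure (V : Set S) :=
    isPreconnected_connectedComponent.subset_isClopen hclopen
      ⟨s', mem_connectedComponent, subset_closure hs'2⟩
  rw [← connectedComponent_eq hs'1] at hsub
  exact hsub mem_connectedComponent

/-- a point of a dense open in every connected component -/
theorem exists_mem_connectedComponent_of_dense {S : Scheme.{u}} [IsLocallyNoetherian S]
    (hS : ∀ s : S, IsDomain (S.presheaf.stalk s)) (V : S.Opens) (hV : Dense (V : Set S)) (s : S) :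
    ∃ s' : S, s' ∈ connectedComponent s ∧ s' ∈ V := by
  obtain ⟨N, hsN, hN⟩ := exists_irreducible_open_nhd hS s
  obtain ⟨s', hs'N, hs'V⟩ := hV.inter_open_nonempty _ N.2 ⟨s, hsN⟩
  exact ⟨s', hN.isPreconnected.subset_connectedComponent hsN hs'N, hs'V⟩

theorem main {k : Type u} [Field k] {X S : Scheme.{u}} (f : X ⟶ S) (g : S ⟶ Spec (.of k))
    [Smooth g] [IsSeparated g] [QuasiCompact g] [IsProper f] [Smooth f]
    (hS : ∀ s : S, IsDomain (S.presheaf.stalk s))
    (hG2 : ∀ (U : X.Opens), RelProj.IsQuasiProjective (U.ι ≫ f) → ∀ V : S.Opens, f ⁻¹ᵁ V ≤ U →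
      RelProj.IsQuasiProjective (f ∣_ V))
    (hG3 : ∀ V : S.Opens, QuasiCompact V.ι → RelProj.IsQuasiProjective (f ∣_ V) →
      RelProj.IsQuasiProjective (f ∣_ V ≫ V.ι)) :
    (∃ U : X.Opens, Dense (U : Set X) ∧ RelProj.IsQuasiProjective (U.ι ≫ f) ∧
        ∀ s : S, ∃ s' : S, s' ∈ connectedComponent s ∧ s' ∉ ⇑f.base '' (U : Set X)ᶜ) ↔
      ∃ V : S.Opens, Dense (V : Set S) ∧ RelProj.IsProjective (f ∣_ V) := by
  haveI : IsLocallyNoetherian S := LocallyOfFiniteType.isLocallyNoetherian g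
  haveI : CompactSpace S := QuasiCompact.compactSpace_of_compactSpace g
  haveI : IsNoetherian S := ⟨⟩
  constructor
  · rintro ⟨U, -, hq, hcc⟩
    have hcl : IsClosed (⇑f.base '' (U : Set X)ᶜ) :=
      f.isClosedMap _ U.2.isClosed_compl
    obtain ⟨V, hV⟩ : ∃ V : S.Opens, (V : Set S) = (⇑f.base '' (U : Set X)ᶜ)ᶜ :=
      ⟨⟨_, hcl.isOpen_compl⟩, rfl⟩
    have hmem : ∀ s : S, s ∈ V ↔ s ∉ ⇑f.base '' (U : Set X)ᶜ := fun s => by
      rw [← SetLike.mem_coe, hV]; rfl
    refine ⟨V, ?_, ?_⟩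
    · apply dense_of_meets_connectedComponents hS V
      intro s
      obtain ⟨s', h1, h2⟩ := hcc s
      exact ⟨s', h1, (hmem s').mpr h2⟩
    · have hVU : f ⁻¹ᵁ V ≤ U := by
        intro x hx
        by_contra hxU
        exact (hmem (f x)).mp hx ⟨x, hxU, rfl⟩
      have hq' := hG2 U hq V hVU
      have hns : NoetherianSpace ↥(V : Scheme.{u}) :=
        (inferInstance : NoetherianSpace ↥(V : Set S))
      exact Groth.Agent.S4419.result (Or.inr hns) (f ∣_ V) hq'
  · rintro ⟨V, hVd, hproj⟩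
    obtain ⟨hq, -⟩ := Groth.Agent.S4418.result (f ∣_ V) hproj
    refine ⟨f ⁻¹ᵁ V, hVd.preimage f.isOpenMap, ?_, ?_⟩
    · rw [← morphismRestrict_ι]
      exact hG3 V inferInstance hq
    · intro s
      obtain ⟨s', hs'1, hs'2⟩ := exists_mem_connectedComponent_of_dense hS V hVd s
      refine ⟨s', hs'1, ?_⟩
      rintro ⟨x, hx, rfl⟩
      exact hx hs'2

end Groth.Agent.Lib.Helper3.GenProj
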