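import Groth.Agent.Lib.Helper3.GlobGen

/-!
# Modules spanned by finitely many global sections
-/

set_option autoImplicit false
universe u
open CategoryTheory CategoryTheory.Limits AlgebraicGeometry TopologicalSpace Opposite
open Scheme.Modules TensorProduct

namespace Groth.Agent.Lib.Helper3.GlobGenFin

open QCSec InvGen InvTensor InvTwist InvMonoidal InvCoh InvAmple InvSum QCExtend GlobGen

variable {X : Scheme.{u}}

/-- `M` is spanned, over the members of an affine cover, by finitely many global sections. -/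
def IsFinSpanned (M : X.Modules) : Prop :=
  ∃ (I : Type u) (_ : Finite I) (σ : I → Γ(M, ⊤)), IsSpannedBy M σ

theorem IsFinSpanned.isSpanned {M : X.Modules} (h : IsFinSpanned M) : IsSpanned M := by
  obtain ⟨I, _, σ, hσ⟩ := h
  exact ⟨I, σ, hσ⟩

theorem IsFinSpanned.of_iso {F G : X.Modules} (e : F ≅ G) (h : IsFinSpanned F) :
    IsFinSpanned G := by
  obtain ⟨I, hI, σ, hσ⟩ := h
  refine ⟨I, hI, fun i => e.hom.app ⊤ (σ i), fun x => ?_⟩
  obtain ⟨U, hU, hxU, hspan⟩ := hσ x
  refine ⟨U, hU, hxU, ?_⟩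
  have hsurj : Function.Surjective (appLin e.hom U) := by
    intro t
    exact ⟨e.inv.app U t, iso_hom_inv_app e U t⟩
  have h1 : Submodule.map (appLin e.hom U)
      (Submodule.span Γ(X, U) (Set.range (fun i => res F (le_top : U ≤ ⊤) (σ i)))) = ⊤ := by
    rw [hspan, Submodule.map_top]
    exact LinearMap.range_eq_top.mpr hsurj
  rw [Submodule.map_span] at h1
  rw [eq_top_iff, ← h1]
  apply Submodule.span_mono
  rintro _ ⟨_, ⟨i, rfl⟩, rfl⟩
  exact ⟨i, (QCExact.app_res' e.hom (le_top : U ≤ ⊤) (σ i)).symm⟩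

theorem exists_isFinSpanned_twist_aux [CompactSpace X] [QuasiSeparatedSpace X]
    {N : X.Modules} (hN : PicF.IsInvertible N) {ι : Type u} [Finite ι]
    (s : ι → (Coh.structureModule X ⟶ N)) (haff : ∀ i, IsAffineOpen (CohB1.genLocus N (s i)))
    (hcov : ∀ x : X, ∃ i, x ∈ CohB1.genLocus N (s i))
    (G : X.Modules) [G.IsQuasicoherent] [G.IsFiniteType] :
    ∃ k₀ : ℕ, ∀ k, k₀ ≤ k →
      IsFinSpanned (CohB1.tensorMod G (CohB1.tensorPow N k)) := by
  classical
  haveI := Fintype.ofFinite ι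
  have hfg : ∀ i, ∃ T : Finset Γ(G, CohB1.genLocus N (s i)),
      Submodule.span Γ(X, CohB1.genLocus N (s i)) (T : Set Γ(G, CohB1.genLocus N (s i))) = ⊤ := by
    intro i
    haveI := QCProps.finite_sections G (haff i)
    exact (Module.Finite.fg_top (R := Γ(X, CohB1.genLocus N (s i)))
      (M := Γ(G, CohB1.genLocus N (s i))))
  choose T hT using hfg
  have hext := fun (i : ι) (t : Γ(G, CohB1.genLocus N (s i))) =>
    exists_tm_lpow_extension hN (s i) G ⊤ (by simpa using isCompact_univ)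
      (fun U U' hU hU' _ _ => QuasiSeparatedSpace.inter_isCompact U.1 U'.1 U.2 hU.isCompact U'.2
        hU'.isCompact)
      (CohB1.genLocus N (s i)) le_top le_rfl inf_le_right t
  choose n₀ hn₀ using hext
  refine ⟨Finset.univ.sup (fun i => (T i).sup (n₀ i)), fun k hk => ?_⟩
  have hk' : ∀ i, ∀ t ∈ T i, n₀ i t ≤ k := fun i t ht =>
    (Finset.le_sup (f := n₀ i) ht).trans
      ((Finset.le_sup (f := fun i => (T i).sup (n₀ i)) (Finset.mem_univ i)).trans hk)
  have hσ : ∀ (j : Σ i, {t // t ∈ T i}),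
      ∃ t' : Γ(CohB1.tensorMod G (CohB1.tensorPow N k), ⊤),
        res _ le_top t' = tm G (CohB1.tensorPow N k) _ j.2.1 (lpow N (sec (s j.1) _) k) :=
    fun j => hn₀ j.1 j.2.1 k (hk' j.1 j.2.1 j.2.2)
  choose σ hσ using hσ
  refine ⟨_, inferInstance, σ, ?_⟩
  intro x
  obtain ⟨i, hxi⟩ := hcov x
  refine ⟨CohB1.genLocus N (s i), haff i, hxi, ?_⟩
  have hg : IsGen (CohB1.tensorPow N k) (CohB1.genLocus N (s i)) (lpow N (sec (s i) _) k) :=
    isGen_lpow (isGen_genLocus (s i)) k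
  have hsurj := tm_gen_surjective_self G _ hg
  rw [eq_top_iff]
  intro y _
  obtain ⟨g, rfl⟩ := hsurj y
  have hgT : g ∈ Submodule.span Γ(X, CohB1.genLocus N (s i))
      (T i : Set Γ(G, CohB1.genLocus N (s i))) := hT i ▸ Submodule.mem_top
  have h2 := Submodule.mem_map_of_mem (f := tmLin G (CohB1.tensorPow N k) _
    (lpow N (sec (s i) _) k)) hgT
  rw [Submodule.map_span] at h2
  refine Submodule.span_mono ?_ h2
  rintro _ ⟨t, ht, rfl⟩
  exact ⟨⟨i, t, ht⟩, hσ ⟨i, t, ht⟩⟩

end Groth.Agent.Lib.Helper3.GlobGenFin
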