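import Groth.Agent.Lib.Helper3.RelGlueHom

/-!
# Gluing morphisms of modules from local descriptions indexed by an arbitrary directed family
-/

set_option autoImplicit false
set_option linter.unusedSectionVars false
universe u v
open CategoryTheory CategoryTheory.Limits AlgebraicGeometry TopologicalSpace Opposite
open Scheme.Modules

namespace Groth.Agent.Lib.Helper3.GlueIdx

open QCSec InvGen

variable {P : Scheme.{u}} {F G : P.Modules} {I : Type v}
  (W : I → P.Opens) {T : I → P.Modules}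
  (lam' : ∀ i, G ⟶ T i) (κ : ∀ i, F ⟶ T i)
  (hbij : ∀ (i : I) (V : P.Opens), V ≤ W i → Function.Bijective ((lam' i).app V))

/-- the local definition of the glued morphism -/
noncomputable def Dmap (i : I) (V : P.Opens) (hV : V ≤ W i) (s : Γ(F, V)) : Γ(G, V) :=
  (Equiv.ofBijective _ (hbij i V hV)).symm ((κ i).app V s)

theorem Dmap_spec (i : I) (V : P.Opens) (hV : V ≤ W i) (s : Γ(F, V)) :
    (lam' i).app V (Dmap W lam' κ hbij i V hV s) = (κ i).app V s :=
  (Equiv.ofBijective _ (hbij i V hV)).apply_symm_apply _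

theorem Dmap_unique (i : I) (V : P.Opens) (hV : V ≤ W i) (s : Γ(F, V)) (t : Γ(G, V))
    (ht : (lam' i).app V t = (κ i).app V s) : t = Dmap W lam' κ hbij i V hV s :=
  (hbij i V hV).1 (ht.trans (Dmap_spec W lam' κ hbij i V hV s).symm)

theorem Dmap_add (i : I) (V : P.Opens) (hV : V ≤ W i) (s s' : Γ(F, V)) :
    Dmap W lam' κ hbij i V hV (s + s') =
      Dmap W lam' κ hbij i V hV s + Dmap W lam' κ hbij i V hV s' := by
  refine (Dmap_unique W lam' κ hbij i V hV _ _ ?_).symm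
  rw [map_add, map_add, Dmap_spec, Dmap_spec]

theorem Dmap_smul (i : I) (V : P.Opens) (hV : V ≤ W i) (a : Γ(P, V)) (s : Γ(F, V)) :
    Dmap W lam' κ hbij i V hV (a • s) = a • Dmap W lam' κ hbij i V hV s := by
  refine (Dmap_unique W lam' κ hbij i V hV _ _ ?_).symm
  rw [Scheme.Modules.Hom.app_smul, Scheme.Modules.Hom.app_smul, Dmap_spec]

theorem Dmap_res (i : I) {V V' : P.Opens} (h : V' ≤ V) (hV : V ≤ W i) (s : Γ(F, V)) :
    res G h (Dmap W lam' κ hbij i V hV s) =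
      Dmap W lam' κ hbij i V' (h.trans hV) (res F h s) := by
  refine Dmap_unique W lam' κ hbij i V' (h.trans hV) _ _ ?_
  rw [QCExact.app_res', QCExact.app_res', Dmap_spec]

variable (R : I → I → Prop) (hRW : ∀ i j, R i j → W j ≤ W i)
  (hbasic : ∀ i j, R i j → ∀ (V : P.Opens) (_ : V ≤ W j) (s : Γ(F, V)) (t : Γ(G, V)),
    (lam' i).app V t = (κ i).app V s → (lam' j).app V t = (κ j).app V s)
  (hdir : ∀ (i₁ i₂ : I) (x : P), x ∈ W i₁ → x ∈ W i₂ → ∃ j, R i₁ j ∧ R i₂ j ∧ x ∈ W j)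
  (hcov : ∀ x : P, ∃ i, x ∈ W i)

include hbasic in
theorem Dmap_refine (i j : I) (hR : R i j) (V : P.Opens) (hV : V ≤ W j) (s : Γ(F, V)) :
    Dmap W lam' κ hbij i V (hV.trans (hRW i j hR)) s = Dmap W lam' κ hbij j V hV s :=
  Dmap_unique W lam' κ hbij j V hV s _
    (hbasic i j hR V hV s _ (Dmap_spec W lam' κ hbij i V _ s))

include hbasic hdir hRW in
theorem Dmap_indep (i₁ i₂ : I) (V : P.Opens) (hV₁ : V ≤ W i₁) (hV₂ : V ≤ W i₂) (s : Γ(F, V)) :
    Dmap W lam' κ hbij i₁ V hV₁ s = Dmap W lam' κ hbij i₂ V hV₂ s := by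
  have h0 : Dmap W lam' κ hbij i₁ V hV₁ s - Dmap W lam' κ hbij i₂ V hV₂ s = 0 := by
    refine ModBasis.eq_zero_of_locally_zero G V _ (fun x hx => ?_)
    obtain ⟨j, hR₁, hR₂, hxj⟩ := hdir i₁ i₂ x (hV₁ hx) (hV₂ hx)
    have hVj : V ⊓ W j ≤ W j := inf_le_right
    refine ⟨V ⊓ W j, inf_le_left, ⟨hx, hxj⟩, ?_⟩
    rw [res_sub, Dmap_res, Dmap_res, Dmap_refine W lam' κ hbij R hRW hbasic i₁ j hR₁ _ hVj,
      Dmap_refine W lam' κ hbij R hRW hbasic i₂ j hR₂ _ hVj, sub_self]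
  exact sub_eq_zero.mp h0

include hbij hRW hbasic hdir hcov in
/-- existence of the glued morphism -/
theorem exists_hom : ∃ θ : F ⟶ G, ∀ (i : I) (V : P.Opens), V ≤ W i → ∀ s : Γ(F, V),
    (lam' i).app V (θ.app V s) = (κ i).app V s := by
  obtain ⟨φ, hφ⟩ := ModGlue.exists_hom_of_small (M := F) (N := G) (fun V => ∃ i, V ≤ W i)
    (fun {V V'} h hV => by
      obtain ⟨i, hi⟩ := hV
      exact ⟨i, h.trans hi⟩)
    (fun x => by
      obtain ⟨i, hi⟩ := hcov x
      exact ⟨W i, ⟨i, le_rfl⟩, hi⟩)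
    (fun V hV s => Dmap W lam' κ hbij hV.choose V hV.choose_spec s)
    (fun V hV s s' => Dmap_add W lam' κ hbij _ V _ s s')
    (fun V hV a s => Dmap_smul W lam' κ hbij _ V _ a s)
    (fun {V V'} h hV hV' s => by
      rw [Dmap_res]
      exact Dmap_indep W lam' κ hbij R hRW hbasic hdir _ _ V' _ _ _)
  refine ⟨φ, fun i V hV s => ?_⟩
  have e1 : φ.app V s = Dmap W lam' κ hbij i V hV s :=
    (hφ V ⟨i, hV⟩ s).trans (Dmap_indep W lam' κ hbij R hRW hbasic hdir _ _ V _ _ _)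
  rw [e1, Dmap_spec]

end Groth.Agent.Lib.Helper3.GlueIdx
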