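import Groth.Agent.Lib.Helper3.GrModSec
import Groth.Agent.Lib.Helper3.QCSec
import Groth.Agent.Lib.Helper3.QCProps
import Groth.Agent.Lib.Helper6.ProjMap

/-!
# Quasi-coherence of `GrMod.tilde` (general gradings)

Port of `Helper3.TwistBasic` (values of functions on `Proj`) and `Helper3.GrTildeQC` to gradings by
arbitrary additive subgroups.
-/

set_option autoImplicit false
set_option linter.unusedSectionVars false
universe u
open CategoryTheory CategoryTheory.Limits AlgebraicGeometry TopologicalSpace Opposite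
open Scheme.Modules

namespace Groth.Agent.Lib.Helper3.GrModQC

open QCSec

variable {A σ : Type u} [CommRing A] [SetLike σ A] [AddSubgroupClass σ A] {𝒜 : ℕ → σ} [GradedRing 𝒜]

/-- the value of a section of `O(n)` at a point, in the localization at that point -/
def val {n : ℤ} {U : (Proj 𝒜).Opens} (t : Γ(GrTwist.twist 𝒜 n, U)) (x : U) : GrTwist.Loc 𝒜 x.1 :=
  ((show GrTwist.sectN (𝒜 := 𝒜) n (op U) from t).1 x).1

/-- the value of a function at a point, in the localization at that point -/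
def fval {U : (Proj 𝒜).Opens} (c : Γ(Proj 𝒜, U)) (x : U) : GrTwist.Loc 𝒜 x.1 :=
  ((show GrTwist.O (𝒜 := 𝒜) (op U) from c).1 x).val

theorem val_ext {n : ℤ} {U : (Proj 𝒜).Opens} {t t' : Γ(GrTwist.twist 𝒜 n, U)}
    (h : ∀ x, val t x = val t' x) : t = t' :=
  Subtype.ext (funext fun x => Subtype.ext (h x))

theorem fval_ext {U : (Proj 𝒜).Opens} {c c' : Γ(Proj 𝒜, U)}
    (h : ∀ x, fval c x = fval c' x) : c = c' :=
  Subtype.ext (funext fun x => HomogeneousLocalization.val_injective _ (h x))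

theorem val_smul {n : ℤ} {U : (Proj 𝒜).Opens} (c : Γ(Proj 𝒜, U)) (t : Γ(GrTwist.twist 𝒜 n, U))
    (x : U) : val (c • t) x = fval c x * val t x :=
  GrTwist.coe_smul_val n x.1 _ _

theorem val_add {n : ℤ} {U : (Proj 𝒜).Opens} (t t' : Γ(GrTwist.twist 𝒜 n, U)) (x : U) :
    val (t + t') x = val t x + val t' x := rfl

theorem val_zero {n : ℤ} {U : (Proj 𝒜).Opens} (x : U) :
    val (0 : Γ(GrTwist.twist 𝒜 n, U)) x = 0 := rfl

theorem val_res {n : ℤ} {U V : (Proj 𝒜).Opens} (h : V ≤ U) (t : Γ(GrTwist.twist 𝒜 n, U))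
    (x : V) : val (res (GrTwist.twist 𝒜 n) h t) x = val t ⟨x.1, h x.2⟩ := rfl

theorem fval_res {U V : (Proj 𝒜).Opens} (h : V ≤ U) (c : Γ(Proj 𝒜, U))
    (x : V) : fval (rres (Proj 𝒜) h c) x = fval c ⟨x.1, h x.2⟩ := rfl

theorem fval_one {U : (Proj 𝒜).Opens} (x : U) : fval (1 : Γ(Proj 𝒜, U)) x = 1 :=
  HomogeneousLocalization.val_one

theorem fval_zero {U : (Proj 𝒜).Opens} (x : U) : fval (0 : Γ(Proj 𝒜, U)) x = 0 :=
  HomogeneousLocalization.val_zero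

theorem fval_mul {U : (Proj 𝒜).Opens} (c c' : Γ(Proj 𝒜, U)) (x : U) :
    fval (c * c') x = fval c x * fval c' x :=
  HomogeneousLocalization.val_mul _ _

theorem fval_add {U : (Proj 𝒜).Opens} (c c' : Γ(Proj 𝒜, U)) (x : U) :
    fval (c + c') x = fval c x + fval c' x :=
  HomogeneousLocalization.val_add _ _


/-- `v` is locally a homogeneous fraction of degree `n` -/
def IsLocFrac (n : ℤ) {U : (Proj 𝒜).Opens} (v : ∀ x : U, GrTwist.Loc 𝒜 x.1) : Prop :=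
  ∀ x : U, ∃ (V : (Proj 𝒜).Opens) (_ : x.1 ∈ V) (hVU : V ≤ U) (i j : ℕ) (a : 𝒜 i) (s : 𝒜 j)
    (hs : ∀ y : V, s.1 ∉ y.1.asHomogeneousIdeal), ((i : ℤ) = j + n ∨ a.1 = 0) ∧
      ∀ y : V, v ⟨y.1, hVU y.2⟩ = Localization.mk a.1 ⟨s.1, hs y⟩

theorem IsLocFrac.mem {n : ℤ} {U : (Proj 𝒜).Opens} {v : ∀ x : U, GrTwist.Loc 𝒜 x.1}
    (h : IsLocFrac n v) (x : U) : v x ∈ GrTwist.twistAt 𝒜 n x.1 := by
  obtain ⟨V, hxV, hVU, i, j, a, s, hs, hdeg, hv⟩ := h x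
  have h1 := hv ⟨x.1, hxV⟩
  change v x = _ at h1
  rw [h1]
  rcases hdeg with hd | h0
  · exact Submodule.subset_span ⟨i, j, a, s, hs ⟨x.1, hxV⟩, hd, rfl⟩
  · rw [h0, Localization.mk_zero]
    exact zero_mem _

theorem isLocFrac_val {n : ℤ} {U : (Proj 𝒜).Opens} (t : Γ(GrTwist.twist 𝒜 n, U)) :
    IsLocFrac n (val t) := by
  intro x
  obtain ⟨V, hxV, iV, i, j, a, s, hs, hdeg, hv⟩ :=
    (show GrTwist.sectN (𝒜 := 𝒜) n (op U) from t).2 x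
  exact ⟨V, hxV, leOfHom iV, i, j, a, s, hs, hdeg, fun y => hv y⟩

/-- the section of `O(n)` with prescribed values -/
def mkSec (n : ℤ) (U : (Proj 𝒜).Opens) (v : ∀ x : U, GrTwist.Loc 𝒜 x.1) (h : IsLocFrac n v) :
    Γ(GrTwist.twist 𝒜 n, U) :=
  (⟨fun x => ⟨v x, h.mem x⟩, fun x => by
    obtain ⟨V, hxV, hVU, i, j, a, s, hs, hdeg, hv⟩ := h x
    exact ⟨V, hxV, homOfLE hVU, i, j, a, s, hs, hdeg, fun y => hv y⟩⟩ :
      GrTwist.sectN (𝒜 := 𝒜) n (op U))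

theorem val_mkSec (n : ℤ) (U : (Proj 𝒜).Opens) (v : ∀ x : U, GrTwist.Loc 𝒜 x.1)
    (h : IsLocFrac n v) (x : U) : val (mkSec n U v h) x = v x := rfl

theorem IsLocFrac.exists_val {U : (Proj 𝒜).Opens} {v : ∀ x : U, GrTwist.Loc 𝒜 x.1}
    (h : IsLocFrac 0 v) (x : U) : ∃ c : GrTwist.A0 𝒜 x.1, c.val = v x := by
  obtain ⟨V, hxV, hVU, i, j, a, s, hs, hdeg, hv⟩ := h x
  have h1 := hv ⟨x.1, hxV⟩
  change v x = _ at h1
  rcases hdeg with hd | h0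
  · have hij : i = j := by simpa using hd
    subst hij
    exact ⟨HomogeneousLocalization.mk ⟨i, a, s, hs ⟨x.1, hxV⟩⟩, by
      rw [HomogeneousLocalization.val_mk, h1]⟩
  · refine ⟨0, ?_⟩
    rw [h1, h0, Localization.mk_zero, HomogeneousLocalization.val_zero]

/-- the function with prescribed values -/
noncomputable def mkFun (U : (Proj 𝒜).Opens) (v : ∀ x : U, GrTwist.Loc 𝒜 x.1)
    (h : IsLocFrac 0 v) : Γ(Proj 𝒜, U) :=
  (⟨fun x => (h.exists_val x).choose, fun x => by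
    obtain ⟨V, hxV, hVU, i, j, a, s, hs, hdeg, hv⟩ := h x
    rcases hdeg with hd | h0
    · have hij : i = j := by simpa using hd
      subst hij
      refine ⟨V, hxV, homOfLE hVU, i, a, s, hs, fun y => ?_⟩
      apply HomogeneousLocalization.val_injective
      rw [HomogeneousLocalization.val_mk]
      exact ((h.exists_val ⟨y.1, hVU y.2⟩).choose_spec).trans (hv y)
    · refine ⟨V, hxV, homOfLE hVU, j, ⟨0, zero_mem _⟩, s, hs, fun y => ?_⟩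
      apply HomogeneousLocalization.val_injective
      rw [HomogeneousLocalization.val_mk]
      refine ((h.exists_val ⟨y.1, hVU y.2⟩).choose_spec).trans ((hv y).trans ?_)
      rw [h0]⟩ : GrTwist.O (𝒜 := 𝒜) (op U))

theorem fval_mkFun (U : (Proj 𝒜).Opens) (v : ∀ x : U, GrTwist.Loc 𝒜 x.1)
    (h : IsLocFrac 0 v) (x : U) : fval (mkFun U v h) x = v x :=
  (h.exists_val x).choose_spec

theorem isLocFrac_fval {U : (Proj 𝒜).Opens} (c : Γ(Proj 𝒜, U)) : IsLocFrac 0 (fval c) := by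
  intro x
  obtain ⟨V, hxV, iV, i, a, s, hs, hv⟩ := (show GrTwist.O (𝒜 := 𝒜) (op U) from c).2 x
  refine ⟨V, hxV, leOfHom iV, i, i, a, s, hs, Or.inl (by simp), fun y => ?_⟩
  have := congrArg HomogeneousLocalization.val (hv y)
  rw [HomogeneousLocalization.val_mk] at this
  exact this

theorem IsLocFrac.cast {m n : ℤ} (hmn : m = n) {U : (Proj 𝒜).Opens}
    {v : ∀ x : U, GrTwist.Loc 𝒜 x.1} (h : IsLocFrac m v) : IsLocFrac n v := hmn ▸ h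

theorem IsLocFrac.mul {m n : ℤ} {U : (Proj 𝒜).Opens} {v w : ∀ x : U, GrTwist.Loc 𝒜 x.1}
    (hv : IsLocFrac m v) (hw : IsLocFrac n w) : IsLocFrac (m + n) (fun x => v x * w x) := by
  intro x
  obtain ⟨V, hxV, hVU, i, j, a, s, hs, hdeg, hv'⟩ := hv x
  obtain ⟨V', hxV', hVU', i', j', a', s', hs', hdeg', hw'⟩ := hw x
  have hnin : ∀ y : (V ⊓ V' : (Proj 𝒜).Opens), s.1 * s'.1 ∉ y.1.asHomogeneousIdeal :=
    fun y hmem => (y.1.isPrime.mem_or_mem hmem).elim (hs ⟨y.1, y.2.1⟩) (hs' ⟨y.1, y.2.2⟩)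
  refine ⟨V ⊓ V', ⟨hxV, hxV'⟩, inf_le_left.trans hVU, i + i', j + j',
    ⟨a.1 * a'.1, SetLike.mul_mem_graded a.2 a'.2⟩,
    ⟨s.1 * s'.1, SetLike.mul_mem_graded s.2 s'.2⟩, hnin, ?_, fun y => ?_⟩
  · rcases hdeg with hd | h0
    · rcases hdeg' with hd' | h0'
      · left; push_cast; omega
      · right; change a.1 * a'.1 = 0; rw [h0', mul_zero]
    · right; change a.1 * a'.1 = 0; rw [h0, zero_mul]
  · have e1 := hv' ⟨y.1, y.2.1⟩
    have e2 := hw' ⟨y.1, y.2.2⟩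
    change v ⟨y.1, _⟩ * w ⟨y.1, _⟩ = _
    rw [e1, e2, Localization.mk_mul]
    rfl


/-! ### fraction sections -/

theorem isLocFrac_frac {U : (Proj 𝒜).Opens} {i j : ℕ} (a : 𝒜 i) (b : 𝒜 j)
    (hb : ∀ x : U, b.1 ∉ x.1.asHomogeneousIdeal) (n : ℤ) (hn : (i : ℤ) = j + n) :
    IsLocFrac n (fun x : U => Localization.mk a.1 ⟨b.1, hb x⟩) :=
  fun x => ⟨U, x.2, le_rfl, i, j, a, b, hb, Or.inl hn, fun _ => rfl⟩

/-- the section `a / b` of `O(n)`, for `a`, `b` homogeneous with `deg a = deg b + n` and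
`b` vanishing nowhere on `U` -/
def frac (U : (Proj 𝒜).Opens) {i j : ℕ} (a : 𝒜 i) (b : 𝒜 j)
    (hb : ∀ x : U, b.1 ∉ x.1.asHomogeneousIdeal) (n : ℤ) (hn : (i : ℤ) = j + n) :
    Γ(GrTwist.twist 𝒜 n, U) :=
  mkSec n U _ (isLocFrac_frac a b hb n hn)

theorem val_frac (U : (Proj 𝒜).Opens) {i j : ℕ} (a : 𝒜 i) (b : 𝒜 j)
    (hb : ∀ x : U, b.1 ∉ x.1.asHomogeneousIdeal) (n : ℤ) (hn : (i : ℤ) = j + n) (x : U) :
    val (frac U a b hb n hn) x = Localization.mk a.1 ⟨b.1, hb x⟩ := rfl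

theorem res_frac {U V : (Proj 𝒜).Opens} (h : V ≤ U) {i j : ℕ} (a : 𝒜 i) (b : 𝒜 j)
    (hb : ∀ x : U, b.1 ∉ x.1.asHomogeneousIdeal) (n : ℤ) (hn : (i : ℤ) = j + n) :
    res (GrTwist.twist 𝒜 n) h (frac U a b hb n hn) =
      frac V a b (fun x => hb ⟨x.1, h x.2⟩) n hn :=
  val_ext (fun _ => rfl)

theorem mk_mul_mk_swap {x : ProjectiveSpectrum 𝒜} (a b : A)
    (ha : a ∉ x.asHomogeneousIdeal) (hb : b ∉ x.asHomogeneousIdeal) :
    (Localization.mk a ⟨b, hb⟩ : GrTwist.Loc 𝒜 x) * Localization.mk b ⟨a, ha⟩ = 1 := by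
  rw [Localization.mk_mul]
  have hba : b * a ∉ x.asHomogeneousIdeal.toIdeal := fun h =>
    (x.isPrime.mem_or_mem h).elim hb ha
  have hab : a * b ∉ x.asHomogeneousIdeal.toIdeal := by rwa [mul_comm]
  have : ((⟨b, hb⟩ : x.asHomogeneousIdeal.toIdeal.primeCompl) * ⟨a, ha⟩) =
      ⟨a * b, hab⟩ := Subtype.ext (mul_comm b a)
  rw [this]
  exact Localization.mk_self (⟨a * b, hab⟩ : x.asHomogeneousIdeal.toIdeal.primeCompl)


variable {M τ : Type u} [AddCommGroup M] [Module A M] [SetLike τ M] [AddSubgroupClass τ M]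
  {ℳ : ℕ → τ} [SetLike.GradedSMul 𝒜 ℳ]

/-- the value of a section of `M(n)~` at a point, in the localized module at that point -/
def mval {n : ℤ} {U : (Proj 𝒜).Opens} (t : Γ(GrMod.tilde 𝒜 ℳ n, U)) (x : U) :
    GrMod.LocMod 𝒜 (M := M) x.1 :=
  ((show GrMod.sect 𝒜 ℳ n (op U) from t).1 x).1

theorem mval_ext {n : ℤ} {U : (Proj 𝒜).Opens} {t t' : Γ(GrMod.tilde 𝒜 ℳ n, U)}
    (h : ∀ x, mval t x = mval t' x) : t = t' :=
  Subtype.ext (funext fun x => Subtype.ext (h x))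

theorem mval_smul {n : ℤ} {U : (Proj 𝒜).Opens} (c : Γ(Proj 𝒜, U))
    (t : Γ(GrMod.tilde 𝒜 ℳ n, U)) (x : U) : mval (c • t) x = fval c x • mval t x :=
  GrMod.coe_smul_val n x.1 _ _

theorem mval_add {n : ℤ} {U : (Proj 𝒜).Opens} (t t' : Γ(GrMod.tilde 𝒜 ℳ n, U)) (x : U) :
    mval (t + t') x = mval t x + mval t' x := rfl

theorem mval_zero {n : ℤ} {U : (Proj 𝒜).Opens} (x : U) :
    mval (0 : Γ(GrMod.tilde 𝒜 ℳ n, U)) x = 0 := rfl

theorem mval_res {n : ℤ} {U V : (Proj 𝒜).Opens} (h : V ≤ U) (t : Γ(GrMod.tilde 𝒜 ℳ n, U))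
    (x : V) : mval (res (GrMod.tilde 𝒜 ℳ n) h t) x = mval t ⟨x.1, h x.2⟩ := rfl

theorem fval_pow {U : (Proj 𝒜).Opens} (c : Γ(Proj 𝒜, U)) (k : ℕ) (x : U) :
    fval (c ^ k) x = fval c x ^ k := by
  induction k with
  | zero => rw [pow_zero, pow_zero]; exact fval_one x
  | succ k ih => rw [pow_succ, pow_succ, fval_mul, ih]

variable (ℳ) in
/-- `v` is locally a homogeneous fraction of degree `n` -/
def IsLocMFrac (n : ℤ) {U : (Proj 𝒜).Opens} (v : ∀ x : U, GrMod.LocMod 𝒜 (M := M) x.1) :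
    Prop :=
  ∀ x : U, ∃ (V : (Proj 𝒜).Opens) (_ : x.1 ∈ V) (hVU : V ≤ U) (i j : ℕ) (m : ℳ i) (s : 𝒜 j)
    (hs : ∀ y : V, s.1 ∉ y.1.asHomogeneousIdeal), ((i : ℤ) = j + n ∨ m.1 = 0) ∧
      ∀ y : V, v ⟨y.1, hVU y.2⟩ = LocalizedModule.mk m.1 ⟨s.1, hs y⟩

theorem IsLocMFrac.mem {n : ℤ} {U : (Proj 𝒜).Opens}
    {v : ∀ x : U, GrMod.LocMod 𝒜 (M := M) x.1}
    (h : IsLocMFrac ℳ n v) (x : U) : v x ∈ GrMod.tildeAt 𝒜 ℳ n x.1 := by
  obtain ⟨V, hxV, hVU, i, j, m, s, hs, hdeg, hv⟩ := h x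
  have h1 := hv ⟨x.1, hxV⟩
  change v x = _ at h1
  rw [h1]
  rcases hdeg with hd | h0
  · exact Submodule.subset_span ⟨i, j, m, s, hs ⟨x.1, hxV⟩, hd, rfl⟩
  · rw [h0, LocalizedModule.zero_mk]
    exact zero_mem _

theorem isLocMFrac_mval {n : ℤ} {U : (Proj 𝒜).Opens} (t : Γ(GrMod.tilde 𝒜 ℳ n, U)) :
    IsLocMFrac ℳ n (mval t) := by
  intro x
  obtain ⟨V, hxV, iV, i, j, m, s, hs, hdeg, hv⟩ :=
    (show GrMod.sect 𝒜 ℳ n (op U) from t).2 x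
  exact ⟨V, hxV, leOfHom iV, i, j, m, s, hs, hdeg, fun y => hv y⟩

variable (ℳ) in
/-- the section of `M(n)~` with prescribed values -/
def mkMSec (n : ℤ) (U : (Proj 𝒜).Opens) (v : ∀ x : U, GrMod.LocMod 𝒜 (M := M) x.1)
    (h : IsLocMFrac ℳ n v) : Γ(GrMod.tilde 𝒜 ℳ n, U) :=
  (⟨fun x => ⟨v x, h.mem x⟩, fun x => by
    obtain ⟨V, hxV, hVU, i, j, m, s, hs, hdeg, hv⟩ := h x
    exact ⟨V, hxV, homOfLE hVU, i, j, m, s, hs, hdeg, fun y => hv y⟩⟩ :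
      GrMod.sect 𝒜 ℳ n (op U))

theorem mval_mkMSec (n : ℤ) (U : (Proj 𝒜).Opens)
    (v : ∀ x : U, GrMod.LocMod 𝒜 (M := M) x.1)
    (h : IsLocMFrac ℳ n v) (x : U) : mval (mkMSec ℳ n U v h) x = v x := rfl

theorem isLocMFrac_mfrac {U : (Proj 𝒜).Opens} {i j : ℕ} (m : ℳ i) (b : 𝒜 j)
    (hb : ∀ x : U, b.1 ∉ x.1.asHomogeneousIdeal) (n : ℤ) (hn : (i : ℤ) = j + n) :
    IsLocMFrac ℳ n (fun x : U => LocalizedModule.mk m.1 ⟨b.1, hb x⟩) :=
  fun x => ⟨U, x.2, le_rfl, i, j, m, b, hb, Or.inl hn, fun _ => rfl⟩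

variable (ℳ) in
/-- the section `m / b` of `M(n)~` -/
def mfrac (U : (Proj 𝒜).Opens) {i j : ℕ} (m : ℳ i) (b : 𝒜 j)
    (hb : ∀ x : U, b.1 ∉ x.1.asHomogeneousIdeal) (n : ℤ) (hn : (i : ℤ) = j + n) :
    Γ(GrMod.tilde 𝒜 ℳ n, U) :=
  mkMSec ℳ n U _ (isLocMFrac_mfrac m b hb n hn)

theorem mval_mfrac (U : (Proj 𝒜).Opens) {i j : ℕ} (m : ℳ i) (b : 𝒜 j)
    (hb : ∀ x : U, b.1 ∉ x.1.asHomogeneousIdeal) (n : ℤ) (hn : (i : ℤ) = j + n) (x : U) :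
    mval (mfrac ℳ U m b hb n hn) x = LocalizedModule.mk m.1 ⟨b.1, hb x⟩ := rfl

theorem res_mfrac {U V : (Proj 𝒜).Opens} (h : V ≤ U) {i j : ℕ} (m : ℳ i) (b : 𝒜 j)
    (hb : ∀ x : U, b.1 ∉ x.1.asHomogeneousIdeal) (n : ℤ) (hn : (i : ℤ) = j + n) :
    res (GrMod.tilde 𝒜 ℳ n) h (mfrac ℳ U m b hb n hn) =
      mfrac ℳ V m b (fun x => hb ⟨x.1, h x.2⟩) n hn :=
  mval_ext (fun _ => rfl)

/-- a product of a fraction function and a fraction section -/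
theorem IsLocMFrac.smul {p n : ℤ} {U : (Proj 𝒜).Opens} {c : ∀ x : U, GrTwist.Loc 𝒜 x.1}
    {v : ∀ x : U, GrMod.LocMod 𝒜 (M := M) x.1}
    (hc : IsLocFrac p c) (hv : IsLocMFrac ℳ n v) :
    IsLocMFrac ℳ (p + n) (fun x => c x • v x) := by
  intro x
  obtain ⟨V, hxV, hVU, i, j, a, s, hs, hdeg, hc'⟩ := hc x
  obtain ⟨V', hxV', hVU', i', j', m, s', hs', hdeg', hv'⟩ := hv x
  have hnin : ∀ y : (V ⊓ V' : (Proj 𝒜).Opens), s.1 * s'.1 ∉ y.1.asHomogeneousIdeal :=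
    fun y hmem => (y.1.isPrime.mem_or_mem hmem).elim (hs ⟨y.1, y.2.1⟩) (hs' ⟨y.1, y.2.2⟩)
  refine ⟨V ⊓ V', ⟨hxV, hxV'⟩, inf_le_left.trans hVU, i + i', j + j',
    ⟨a.1 • m.1, SetLike.GradedSMul.smul_mem a.2 m.2⟩,
    ⟨s.1 * s'.1, SetLike.mul_mem_graded s.2 s'.2⟩, hnin, ?_, fun y => ?_⟩
  · rcases hdeg with hd | h0
    · rcases hdeg' with hd' | h0'
      · left; push_cast; omega
      · right; change a.1 • m.1 = 0; rw [h0', smul_zero]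
    · right; change a.1 • m.1 = 0; rw [h0, zero_smul]
  · have e1 := hc' ⟨y.1, y.2.1⟩
    have e2 := hv' ⟨y.1, y.2.2⟩
    change c ⟨y.1, _⟩ • v ⟨y.1, _⟩ = _
    rw [e1, e2, LocalizedModule.mk_smul_mk]
    rfl

theorem IsLocMFrac.cast {m n : ℤ} (hmn : m = n) {U : (Proj 𝒜).Opens}
    {v : ∀ x : U, GrMod.LocMod 𝒜 (M := M) x.1} (h : IsLocMFrac ℳ m v) : IsLocMFrac ℳ n v :=
  hmn ▸ h

theorem exists_mval_eq [DirectSum.Decomposition ℳ] (n : ℤ) {d : ℕ} (hd : 0 < d) {f : A}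
    (hf : f ∈ 𝒜 d) (t : Γ(GrMod.tilde 𝒜 ℳ n, Proj.basicOpen 𝒜 f)) :
    ∃ (k i : ℕ) (m : ℳ i), (i : ℤ) = k * d + n ∧
      ∀ (x : Proj.basicOpen 𝒜 f) (hx : f ^ k ∉ x.1.asHomogeneousIdeal.toIdeal),
        mval t x = LocalizedModule.mk m.1 ⟨f ^ k, hx⟩ := by
  obtain ⟨k, i, m, hi, h⟩ := GrModSec.sections_eq_fraction 𝒜 ℳ n hd hf
    (show GrMod.sect 𝒜 ℳ n (op (ProjectiveSpectrum.basicOpen 𝒜 f)) from t)
  exact ⟨k, i, m, hi, fun x hx => h x⟩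

/-! ### functions on `D₊(f)` -/

theorem fval_mk_away {d : ℕ} {f : A} (hf : f ∈ 𝒜 d) (k : ℕ) (a : A) (ha : a ∈ 𝒜 (k • d))
    (x : Proj.basicOpen 𝒜 f) (hx : f ^ k ∉ x.1.asHomogeneousIdeal.toIdeal) :
    fval ((Proj.awayToSection 𝒜 f).hom (HomogeneousLocalization.Away.mk 𝒜 hf k a ha)) x =
      Localization.mk a ⟨f ^ k, hx⟩ := rfl

theorem exists_awayToSection {d : ℕ} (hd : 0 < d) {f : A} (hf : f ∈ 𝒜 d)
    (g : Γ(Proj 𝒜, Proj.basicOpen 𝒜 f)) :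
    ∃ (k : ℕ) (a : A) (ha : a ∈ 𝒜 (k • d)),
      (Proj.awayToSection 𝒜 f).hom (HomogeneousLocalization.Away.mk 𝒜 hf k a ha) = g := by
  have h1 : (Proj.basicOpenIsoAway 𝒜 f hf hd).inv ≫ Proj.awayToSection 𝒜 f = 𝟙 _ := by
    have := (Proj.basicOpenIsoAway 𝒜 f hf hd).inv_hom_id
    rwa [Proj.basicOpenIsoAway_hom] at this
  obtain ⟨k, a, ha, hz⟩ := HomogeneousLocalization.Away.mk_surjective 𝒜 hf
    ((Proj.basicOpenIsoAway 𝒜 f hf hd).inv.hom g)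
  refine ⟨k, a, ha, ?_⟩
  rw [hz]
  exact congrArg (fun φ => φ.hom g) h1

theorem basicOpen_mk_away {d : ℕ} {f : A} (hf : f ∈ 𝒜 d) (k : ℕ) (a : A)
    (ha : a ∈ 𝒜 (k • d)) :
    (Proj 𝒜).basicOpen
        ((Proj.awayToSection 𝒜 f).hom (HomogeneousLocalization.Away.mk 𝒜 hf k a ha)) =
      Proj.basicOpen 𝒜 (f * a) := by
  set g := (Proj.awayToSection 𝒜 f).hom (HomogeneousLocalization.Away.mk 𝒜 hf k a ha) with hg
  have hfk : ∀ x : Proj.basicOpen 𝒜 f, f ^ k ∉ x.1.asHomogeneousIdeal.toIdeal :=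
    fun x h => x.2 (x.1.isPrime.mem_of_pow_mem k h)
  have hval : ∀ x : Proj.basicOpen 𝒜 f, fval g x = Localization.mk a ⟨f ^ k, hfk x⟩ :=
    fun x => fval_mk_away hf k a ha x _
  apply le_antisymm
  · intro x hx
    have hxU : x ∈ Proj.basicOpen 𝒜 f := (Proj 𝒜).basicOpen_le g hx
    have hu : IsUnit (rres (Proj 𝒜) ((Proj 𝒜).basicOpen_le g) g) :=
      RingedSpace.isUnit_res_basicOpen (Proj 𝒜).toRingedSpace g
    obtain ⟨c, hc⟩ := hu.exists_right_inv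
    have h1 : fval (rres (Proj 𝒜) ((Proj 𝒜).basicOpen_le g) g * c) ⟨x, hx⟩ = 1 := by
      rw [hc]; exact fval_one _
    rw [fval_mul, fval_res, hval ⟨x, hxU⟩] at h1
    have hu2 : IsUnit (Localization.mk a ⟨f ^ k, hfk ⟨x, hxU⟩⟩ : GrTwist.Loc 𝒜 x) :=
      IsUnit.of_mul_eq_one _ h1
    have e1 : (Localization.mk a ⟨f ^ k, hfk ⟨x, hxU⟩⟩ : GrTwist.Loc 𝒜 x) =
        algebraMap A (GrTwist.Loc 𝒜 x) a * Localization.mk 1 ⟨f ^ k, hfk ⟨x, hxU⟩⟩ := by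
      rw [← Localization.mk_one_eq_algebraMap, Localization.mk_mul, mul_one, one_mul]
    rw [e1] at hu2
    have hu3 := isUnit_of_mul_isUnit_left hu2
    have : x.asHomogeneousIdeal.toIdeal.IsPrime := x.isPrime
    have hax : a ∈ x.asHomogeneousIdeal.toIdeal.primeCompl :=
      (IsLocalization.AtPrime.isUnit_to_map_iff (GrTwist.Loc 𝒜 x)
        x.asHomogeneousIdeal.toIdeal a).mp hu3
    rw [Proj.basicOpen_mul]
    exact ⟨hxU, hax⟩
  · have hWU : Proj.basicOpen 𝒜 (f * a) ≤ Proj.basicOpen 𝒜 f := by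
      rw [Proj.basicOpen_mul]; exact inf_le_left
    have hax : ∀ x : Proj.basicOpen 𝒜 (f * a), a ∉ x.1.asHomogeneousIdeal :=
      fun x h => x.2 (Ideal.mul_mem_left _ _ h)
    have hfx : ∀ x : Proj.basicOpen 𝒜 (f * a), f ^ k ∉ x.1.asHomogeneousIdeal.toIdeal :=
      fun x h => hfk ⟨x.1, hWU x.2⟩ h
    have hw : IsLocFrac 0 (fun x : Proj.basicOpen 𝒜 (f * a) =>
        (Localization.mk (f ^ k) ⟨a, hax x⟩ : GrTwist.Loc 𝒜 x.1)) :=
      isLocFrac_frac (⟨f ^ k, SetLike.pow_mem_graded k hf⟩ : 𝒜 (k • d)) (⟨a, ha⟩ : 𝒜 (k • d))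
        hax 0 (by simp)
    have hunit : IsUnit (rres (Proj 𝒜) hWU g) := by
      apply IsUnit.of_mul_eq_one (mkFun _ _ hw)
      apply fval_ext
      intro x
      rw [fval_mul, fval_res, hval ⟨x.1, hWU x.2⟩, fval_mkFun, fval_one]
      exact mk_mul_mk_swap (x := x.1) a (f ^ k) (hax x) (hfx x)
    have h3 : (Proj 𝒜).basicOpen (rres (Proj 𝒜) hWU g) = Proj.basicOpen 𝒜 (f * a) :=
      (Proj 𝒜).basicOpen_of_isUnit hunit
    have h4 : (Proj 𝒜).basicOpen (rres (Proj 𝒜) hWU g) =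
        Proj.basicOpen 𝒜 (f * a) ⊓ (Proj 𝒜).basicOpen g :=
      Scheme.basicOpen_res (Proj 𝒜) g (homOfLE hWU).op
    rw [← h3, h4]
    exact inf_le_right

/-! ### quasi-coherence -/

theorem isLocSec_tilde [DirectSum.Decomposition ℳ] (n : ℤ) {d : ℕ} (hd : 0 < d) {f : A}
    (hf : f ∈ 𝒜 d) (k : ℕ) (a : A) (ha : a ∈ 𝒜 (k • d)) (W : (Proj 𝒜).Opens)
    (hW : W = Proj.basicOpen 𝒜 (f * a)) (hWU : W ≤ Proj.basicOpen 𝒜 f) :
    IsLocSec (GrMod.tilde 𝒜 ℳ n) (Proj.basicOpen 𝒜 f) W hWU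
      ((Proj.awayToSection 𝒜 f).hom (HomogeneousLocalization.Away.mk 𝒜 hf k a ha)) := by
  subst hW
  set g := (Proj.awayToSection 𝒜 f).hom (HomogeneousLocalization.Away.mk 𝒜 hf k a ha) with hg
  have hfa : f * a ∈ 𝒜 (d + k • d) := SetLike.mul_mem_graded hf ha
  have hpos : 0 < d + k • d := Nat.add_pos_left hd _
  have hfk : ∀ (x : Proj.basicOpen 𝒜 f) (j : ℕ), f ^ j ∉ x.1.asHomogeneousIdeal.toIdeal :=
    fun x j h => x.2 (x.1.isPrime.mem_of_pow_mem j h)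
  have hval : ∀ x : Proj.basicOpen 𝒜 f, fval g x = Localization.mk a ⟨f ^ k, hfk x k⟩ :=
    fun x => fval_mk_away hf k a ha x _
  constructor
  · intro t
    obtain ⟨K, i, m, hi, hm⟩ := exists_mval_eq n hpos hfa t
    have hdeg : (i : ℤ) = (((K * (k + 1)) • d : ℕ) : ℤ) + n := by
      rw [hi]
      simp only [smul_eq_mul]
      push_cast
      ring
    refine ⟨K, mfrac ℳ (Proj.basicOpen 𝒜 f) m
      (⟨f ^ (K * (k + 1)), SetLike.pow_mem_graded _ hf⟩ : 𝒜 ((K * (k + 1)) • d))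
      (fun x => hfk x _) n hdeg, ?_⟩
    apply mval_ext
    intro x
    have hxf : f * a ∉ x.1.asHomogeneousIdeal.toIdeal := x.2
    have hxU : x.1 ∈ Proj.basicOpen 𝒜 f := hWU x.2
    have hxK : (f * a) ^ K ∉ x.1.asHomogeneousIdeal.toIdeal :=
      fun h => hxf (x.1.isPrime.mem_of_pow_mem K h)
    rw [mval_smul, fval_pow, mval_res, mval_mfrac, hm x hxK, fval_res, hval ⟨x.1, hxU⟩,
      Localization.mk_pow, LocalizedModule.mk_smul_mk, LocalizedModule.mk_eq]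
    refine ⟨1, ?_⟩
    rw [one_smul, one_smul]
    show ((f ^ k) ^ K * (f * a) ^ K) • m.1 = f ^ (K * (k + 1)) • a ^ K • m.1
    rw [smul_smul]
    congr 1
    ring
  · intro s hs
    obtain ⟨K, i, m, hi, hm⟩ := exists_mval_eq n hd hf s
    have hkill : ∀ x : ProjectiveSpectrum 𝒜, f * a ∉ x.asHomogeneousIdeal.toIdeal →
        ∃ u : A, u ∉ x.asHomogeneousIdeal.toIdeal ∧ u • m.1 = 0 := by
      intro x hx
      have hxU : f ∉ x.asHomogeneousIdeal.toIdeal := fun h => hx (Ideal.mul_mem_right _ _ h)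
      have h0 : mval (res (GrMod.tilde 𝒜 ℳ n) hWU s)
          (⟨x, hx⟩ : Proj.basicOpen 𝒜 (f * a)) = 0 := by
        rw [hs, mval_zero]
      rw [mval_res, hm ⟨x, hxU⟩ (hfk ⟨x, hxU⟩ K),
        ← LocalizedModule.zero_mk (1 : x.asHomogeneousIdeal.toIdeal.primeCompl),
        LocalizedModule.mk_eq] at h0
      obtain ⟨u, hu⟩ := h0
      refine ⟨(u : A), u.2, ?_⟩
      have hu' : u • m.1 = 0 := by simpa using hu
      exact hu'
    obtain ⟨N, hN⟩ := GrModSec.exists_pow_smul_eq_zero_of_locally_killed 𝒜 ℳ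
      (HomogeneousIdeal.mem_irrelevant_of_mem 𝒜 hpos hfa) m.2 hkill
    refine ⟨N, ?_⟩
    apply mval_ext
    intro x
    rw [mval_smul, fval_pow, hval x, hm x (hfk x K), Localization.mk_pow,
      LocalizedModule.mk_smul_mk, mval_zero,
      ← LocalizedModule.zero_mk (1 : x.1.asHomogeneousIdeal.toIdeal.primeCompl),
      LocalizedModule.mk_eq]
    refine ⟨⟨f ^ N, hfk x N⟩, ?_⟩
    rw [smul_zero, smul_zero]
    show f ^ N • (1 : A) • a ^ N • m.1 = 0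
    rw [one_smul, smul_smul, ← mul_pow, hN]

/-- `M(n)~` is quasi-coherent -/
theorem isQuasicoherent_tilde [DirectSum.Decomposition ℳ] (n : ℤ) :
    (GrMod.tilde 𝒜 ℳ n).IsQuasicoherent := by
  apply QCProps.isQuasicoherent_of_charts
  intro x
  obtain ⟨d, hd, f, hf, hxf⟩ := Groth.Agent.Lib.Helper6.exists_homogeneous_mem_basicOpen 𝒜 x
  have hU := Proj.isAffineOpen_basicOpen 𝒜 f hf hd
  refine ⟨Proj.basicOpen 𝒜 f, hU, hxf, ?_⟩
  apply isQuasicoherent_chart_of_isLocSec _ hU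
  intro g
  obtain ⟨k, a, ha, rfl⟩ := exists_awayToSection hd hf g
  exact isLocSec_tilde n hd hf k a ha _
    ((hU.fromSpec_image_basicOpen _).trans (basicOpen_mk_away hf k a ha)) _

end Groth.Agent.Lib.Helper3.GrModQC
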