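import Groth.Agent.Lib.Helper3.GrModComap
import Groth.Agent.Lib.Helper3.GrModQC
import Groth.Agent.Lib.Helper3.PbIsoCrit

/-!
# When is the adjunct of `GrMod.comap` / `GrTwist.comap` an isomorphism?
-/

set_option autoImplicit false
set_option linter.unusedSectionVars false
universe u
open CategoryTheory CategoryTheory.Limits AlgebraicGeometry TopologicalSpace Opposite
open Scheme.Modules HomogeneousLocalization
open scoped HomogeneousIdeal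

namespace Groth.Agent.Lib.Helper3.GrComapCrit

open QCSec InvGen GrModSec GrModExact PullLemmas Groth.Agent.Lib.Helper17.UnitBC

section bridge

variable {A σ : Type u} [CommRing A] [SetLike σ A] [AddSubgroupClass σ A] {𝒜 : ℕ → σ} [GradedRing 𝒜]
  {B σ' : Type u} [CommRing B] [SetLike σ' B] [AddSubgroupClass σ' B] {ℬ : ℕ → σ'} [GradedRing ℬ]
  (ψ : 𝒜 →+*ᵍ ℬ) (hψ : ℬ₊ ≤ (𝒜₊).map ψ)

/-- `ψ` as a semilinear map -/
def ψlin : A →ₛₗ[ψ.toRingHom] B where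
  toFun := ψ
  map_add' := map_add ψ
  map_smul' := fun a b => map_mul ψ a b

theorem ψlin_apply (a : A) : ψlin ψ a = ψ a := rfl

theorem ψlin_mem (i : ℕ) (m : A) (hm : m ∈ 𝒜 i) : ψlin ψ m ∈ ℬ i := ψ.map_mem hm

theorem locMap_eq_locModMap (y : ProjectiveSpectrum ℬ)
    (q : GrTwist.Loc 𝒜 (ProjectiveSpectrum.comap ψ hψ y)) :
    GrTwist.locMap ψ hψ y q = GrMod.locModMap ψ hψ (ψlin ψ) y q := by
  induction q using Localization.induction_on with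
  | H as =>
    obtain ⟨a, s⟩ := as
    rw [GrTwist.locMap_mk]
    rfl

/-- the comap of twisting sheaves is the comap of the graded modules `A(n)`, `B(n)` -/
theorem comap_eq (n : ℤ) :
    GrTwist.comap ψ hψ n = GrMod.comap ψ hψ (ψlin ψ) (ψlin_mem ψ) n := by
  apply Scheme.Modules.hom_ext
  intro U
  ext s
  refine GrModExact.val_ext (fun y => ?_)
  exact locMap_eq_locModMap ψ hψ y.1 _

include hψ in
/-- the basic opens `D_+(ψ f)` cover `Proj ℬ` -/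
theorem exists_mem_basicOpen_map (y : Proj ℬ) :
    ∃ (d : ℕ) (_ : 0 < d) (f : A) (_ : f ∈ 𝒜 d), y ∈ Proj.basicOpen ℬ (ψ f) := by
  have h := (Proj.mapAffineOpenCover ψ hψ).covers y
  have h' : y ∈ (Proj.awayι ℬ (ψ ((Proj.mapAffineOpenCover ψ hψ).idx y).2)
      (ψ.2 ((Proj.mapAffineOpenCover ψ hψ).idx y).2.2)
      ((Proj.mapAffineOpenCover ψ hψ).idx y).1.2).opensRange := h
  rw [Proj.opensRange_awayι] at h'
  exact ⟨_, ((Proj.mapAffineOpenCover ψ hψ).idx y).1.2, _,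
    ((Proj.mapAffineOpenCover ψ hψ).idx y).2.2, h'⟩

include hψ in
/-- the ring map on sections over `D_+(f)` is bijective as soon as `Away.map` is -/
theorem appLE_bijective {d : ℕ} (hd : 0 < d) {f : A} (hf : f ∈ 𝒜 d)
    (h : Function.Bijective (Away.map ψ f)) :
    Function.Bijective ((Proj.map ψ hψ).appLE (Proj.basicOpen 𝒜 f) (Proj.basicOpen ℬ (ψ f))
      (by rfl)).hom := by
  have h1 := Proj.awayToSection_comp_appLE ψ hψ hf
  haveI hiso1 : IsIso (Proj.awayToSection 𝒜 f) :=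
    (Proj.basicOpenIsoAway 𝒜 f hf hd).isIso_hom
  haveI hiso2 : IsIso (Proj.awayToSection ℬ (ψ f)) :=
    (Proj.basicOpenIsoAway ℬ (ψ f) (ψ.map_mem hf) hd).isIso_hom
  haveI hiso3 : IsIso (CommRingCat.ofHom (Away.map ψ f)) :=
    (ConcreteCategory.isIso_iff_bijective _).mpr h
  have h2 : (Proj.map ψ hψ).appLE (Proj.basicOpen 𝒜 f) (Proj.basicOpen ℬ (ψ f)) (by rfl) =
      inv (Proj.awayToSection 𝒜 f) ≫ CommRingCat.ofHom (Away.map ψ f) ≫
        Proj.awayToSection ℬ (ψ f) := by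
    rw [IsIso.eq_inv_comp]
    exact h1
  have h3 : IsIso ((Proj.map ψ hψ).appLE (Proj.basicOpen 𝒜 f) (Proj.basicOpen ℬ (ψ f))
      (by rfl)) := by
    rw [h2]
    infer_instance
  exact (ConcreteCategory.isIso_iff_bijective _).mp h3

end bridge

section crit

variable {A σ : Type u} [CommRing A] [SetLike σ A] [AddSubgroupClass σ A] {𝒜 : ℕ → σ} [GradedRing 𝒜]
  {B σ' : Type u} [CommRing B] [SetLike σ' B] [AddSubgroupClass σ' B] {ℬ : ℕ → σ'} [GradedRing ℬ]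
  (ψ : 𝒜 →+*ᵍ ℬ) (hψ : ℬ₊ ≤ (𝒜₊).map ψ)
  {M τ : Type u} [AddCommGroup M] [Module A M] [SetLike τ M] [AddSubgroupClass τ M] (ℳ : ℕ → τ)
  [SetLike.GradedSMul 𝒜 ℳ] [DirectSum.Decomposition ℳ]
  {N τ' : Type u} [AddCommGroup N] [Module B N] [SetLike τ' N] [AddSubgroupClass τ' N] (𝒩 : ℕ → τ')
  [SetLike.GradedSMul ℬ 𝒩] [DirectSum.Decomposition 𝒩]
  (v : M →ₛₗ[ψ.toRingHom] N) (hv : ∀ (i : ℕ) (m : M), m ∈ ℳ i → v m ∈ 𝒩 i)

/-- the map on sections over `D_+(f)` -/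
noncomputable def secMap (n : ℤ) (f : A) :
    Γ(GrMod.tilde 𝒜 ℳ n, Proj.basicOpen 𝒜 f) →+ Γ(GrMod.tilde ℬ 𝒩 n, Proj.basicOpen ℬ (ψ f)) where
  toFun m := (GrMod.comap ψ hψ v hv n).app (Proj.basicOpen 𝒜 f) m
  map_zero' := map_zero ((GrMod.comap ψ hψ v hv n).app (Proj.basicOpen 𝒜 f)).hom
  map_add' := map_add ((GrMod.comap ψ hψ v hv n).app (Proj.basicOpen 𝒜 f)).hom

theorem secMap_smul (n : ℤ) (f : A) (r : Γ(Proj 𝒜, Proj.basicOpen 𝒜 f))
    (m : Γ(GrMod.tilde 𝒜 ℳ n, Proj.basicOpen 𝒜 f)) :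
    secMap ψ hψ ℳ 𝒩 v hv n f (r • m) =
      ((Proj.map ψ hψ).appLE (Proj.basicOpen 𝒜 f) (Proj.basicOpen ℬ (ψ f)) (by rfl)).hom r •
        secMap ψ hψ ℳ 𝒩 v hv n f m := by
  change (GrMod.comap ψ hψ v hv n).app (Proj.basicOpen 𝒜 f) (r • m) = _
  rw [Scheme.Modules.Hom.app_smul, PbTensor.pushforward_smul, Scheme.Hom.app_eq_appLE]
  rfl

/-- **criterion**: base change on the standard charts implies that the adjunct of `comap` is
an isomorphism -/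
theorem isIso_adjunct_comap (n : ℤ)
    (h : ∀ y : Proj ℬ, ∃ (d : ℕ) (_ : 0 < d) (f : A) (_ : f ∈ 𝒜 d), y ∈ Proj.basicOpen ℬ (ψ f) ∧
      IsBCHom ((Proj.map ψ hψ).appLE (Proj.basicOpen 𝒜 f) (Proj.basicOpen ℬ (ψ f))
        (by rfl)).hom (fun m => secMap ψ hψ ℳ 𝒩 v hv n f m)) :
    IsIso (((pullbackPushforwardAdjunction (Proj.map ψ hψ)).homEquiv _ _).symm
      (GrMod.comap ψ hψ v hv n)) := by
  haveI := GrModQC.isQuasicoherent_tilde (𝒜 := 𝒜) (ℳ := ℳ) n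
  haveI := GrModQC.isQuasicoherent_tilde (𝒜 := ℬ) (ℳ := 𝒩) n
  apply PbIsoCrit.isIso_adjunct_of_isBCHom
  intro y
  obtain ⟨d, hd, f, hf, hfy, hbc⟩ := h y
  refine ⟨Proj.basicOpen 𝒜 f, Proj.basicOpen ℬ (ψ f), Proj.isAffineOpen_basicOpen 𝒜 f hf hd,
    Proj.isAffineOpen_basicOpen ℬ (ψ f) (ψ.map_mem hf) hd, by rfl, hfy, ?_⟩
  refine hbc.congr (fun m => ?_)
  exact (res_self _ _ _).symm

end crit

section eventually

variable {A σ : Type u} [CommRing A] [SetLike σ A] [AddSubgroupClass σ A] {𝒜 : ℕ → σ} [GradedRing 𝒜]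
  {B σ' : Type u} [CommRing B] [SetLike σ' B] [AddSubgroupClass σ' B] {ℬ : ℕ → σ'} [GradedRing ℬ]
  (ψ : 𝒜 →+*ᵍ ℬ) (hψ : ℬ₊ ≤ (𝒜₊).map ψ)
  {M τ : Type u} [AddCommGroup M] [Module A M] [SetLike τ M] [AddSubgroupClass τ M] (ℳ : ℕ → τ)
  [SetLike.GradedSMul 𝒜 ℳ] [DirectSum.Decomposition ℳ]
  {N τ' : Type u} [AddCommGroup N] [Module B N] [SetLike τ' N] [AddSubgroupClass τ' N] (𝒩 : ℕ → τ')
  [SetLike.GradedSMul ℬ 𝒩] [DirectSum.Decomposition 𝒩]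
  (v : M →ₛₗ[ψ.toRingHom] N) (hv : ∀ (i : ℕ) (m : M), m ∈ ℳ i → v m ∈ 𝒩 i)
  (d₀ : ℕ)

theorem awayMap_bijective_of_eventually
    (hinjA : ∀ i, d₀ ≤ i → ∀ a ∈ 𝒜 i, ψ a = 0 → a = 0)
    (hsurjA : ∀ i, d₀ ≤ i → ∀ b ∈ ℬ i, ∃ a ∈ 𝒜 i, ψ a = b)
    {d : ℕ} (hd : 0 < d) {f : A} (hf : f ∈ 𝒜 d) : Function.Bijective (Away.map ψ f) := by
  have hψf : ψ f ∈ ℬ d := ψ.map_mem hf
  have hle : ∀ k j : ℕ, d₀ ≤ (d₀ + k) • d + j := by
    intro k j
    have h1 : d₀ + k ≤ (d₀ + k) * d := Nat.le_mul_of_pos_right _ hd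
    rw [smul_eq_mul]
    omega
  constructor
  · rw [injective_iff_map_eq_zero]
    intro x hx
    obtain ⟨k, a, ha, rfl⟩ := Away.mk_surjective 𝒜 hf x
    rw [Away.map_mk] at hx
    have hx' := congrArg HomogeneousLocalization.val hx
    rw [Away.val_mk, HomogeneousLocalization.val_zero, Localization.mk_eq_mk',
      IsLocalization.mk'_eq_zero_iff] at hx'
    obtain ⟨⟨_, N, rfl⟩, hN⟩ := hx'
    have hN' : ψ f ^ N * ψ a = 0 := hN
    have hmem : f ^ (d₀ + N) * a ∈ 𝒜 ((d₀ + N) • d + k • d) :=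
      SetLike.mul_mem_graded (SetLike.pow_mem_graded _ hf) ha
    have h0 : ψ (f ^ (d₀ + N) * a) = 0 := by
      rw [map_mul, map_pow, pow_add, mul_assoc, hN', mul_zero]
    have h1 := hinjA _ (hle N (k • d)) _ hmem h0
    apply HomogeneousLocalization.val_injective
    rw [Away.val_mk, HomogeneousLocalization.val_zero, Localization.mk_eq_mk',
      IsLocalization.mk'_eq_zero_iff]
    exact ⟨⟨f ^ (d₀ + N), ⟨d₀ + N, rfl⟩⟩, h1⟩
  · intro z
    obtain ⟨k, b, hb, rfl⟩ := Away.mk_surjective ℬ hψf z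
    have hmem : ψ f ^ d₀ * b ∈ ℬ (d₀ • d + k • d) :=
      SetLike.mul_mem_graded (SetLike.pow_mem_graded _ hψf) hb
    have hle' : d₀ ≤ d₀ • d + k • d := by
      have := hle 0 (k • d)
      simpa using this
    obtain ⟨a, ha, hab⟩ := hsurjA _ hle' _ hmem
    have ha' : a ∈ 𝒜 ((d₀ + k) • d) := by
      rw [add_smul]
      exact ha
    refine ⟨Away.mk 𝒜 hf (d₀ + k) a ha', ?_⟩
    rw [Away.map_mk]
    apply HomogeneousLocalization.val_injective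
    rw [Away.val_mk, Away.val_mk, Localization.mk_eq_mk_iff, Localization.r_iff_exists]
    refine ⟨1, ?_⟩
    change (1 : B) * (ψ f ^ k * ψ a) = 1 * (ψ f ^ (d₀ + k) * b)
    rw [hab]
    ring

variable (hinj : ∀ i, d₀ ≤ i → ∀ m ∈ ℳ i, v m = 0 → m = 0)
  (hsurj : ∀ i, d₀ ≤ i → ∀ m' ∈ 𝒩 i, ∃ m ∈ ℳ i, v m = m')

include hinj hsurj in
theorem comap_app_bijective_of_eventually (n : ℤ) {d : ℕ} (hd : 0 < d) (f : A)
    (hf : f ∈ 𝒜 d) :
    Function.Bijective ((GrMod.comap ψ hψ v hv n).app (Proj.basicOpen 𝒜 f)) := by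
  classical
  have hψf : ψ f ∈ ℬ d := ψ.map_mem hf
  have hfirr : ψ f ∈ (HomogeneousIdeal.irrelevant ℬ).toIdeal :=
    HomogeneousIdeal.mem_irrelevant_of_mem ℬ hd hψf
  have hV : (Proj.map ψ hψ ⁻¹ᵁ Proj.basicOpen 𝒜 f : (Proj ℬ).Opens) = Proj.basicOpen ℬ (ψ f) := rfl
  have hfk : ∀ k : ℕ, f ^ k ∈ 𝒜 (k * d) := by
    intro k
    have := SetLike.pow_mem_graded k hf
    rwa [smul_eq_mul] at this
  have hψfk : ∀ k : ℕ, ψ f ^ k ∈ ℬ (k * d) := by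
    intro k
    have := SetLike.pow_mem_graded k hψf
    rwa [smul_eq_mul] at this
  have hle : ∀ k j : ℕ, d₀ ≤ (k + d₀) * d + j := by
    intro k j
    have h1 : k + d₀ ≤ (k + d₀) * d := Nat.le_mul_of_pos_right _ hd
    omega
  constructor
  · -- injectivity
    intro s s' hss
    have hz : ∀ s₀ : Γ(GrMod.tilde 𝒜 ℳ n, Proj.basicOpen 𝒜 f),
        (GrMod.comap ψ hψ v hv n).app (Proj.basicOpen 𝒜 f) s₀ = 0 → s₀ = 0 := by
      intro s₀ h0
      obtain ⟨k, i, m, hi, hform⟩ := exists_val_eq (𝒜 := 𝒜) (ℳ := ℳ) n hd hf s₀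
      have hloc : ∀ y : ProjectiveSpectrum ℬ, ψ f ∉ y.asHomogeneousIdeal.toIdeal →
          ∃ c : B, c ∉ y.asHomogeneousIdeal.toIdeal ∧ c • v m.1 = 0 := by
        intro y hy
        have hyV : y ∈ (Proj.map ψ hψ ⁻¹ᵁ Proj.basicOpen 𝒜 f : (Proj ℬ).Opens) :=
          (ProjectiveSpectrum.mem_basicOpen ℬ (ψ f) y).mpr hy
        have hxk : f ^ k ∉ (ProjectiveSpectrum.comap ψ hψ y).asHomogeneousIdeal.toIdeal :=
          pow_notMem k ⟨ProjectiveSpectrum.comap ψ hψ y, hyV⟩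
        have e1 : GrMod.val ((GrMod.comap ψ hψ v hv n).app (Proj.basicOpen 𝒜 f) s₀) ⟨y, hyV⟩ = 0 := by
          rw [h0]; rfl
        rw [GrMod.comap_app_val, hform ⟨ProjectiveSpectrum.comap ψ hψ y, hyV⟩ hxk,
          GrMod.locModMap_mk] at e1
        rw [← LocalizedModule.zero_mk (⟨ψ (f ^ k), hxk⟩ : y.asHomogeneousIdeal.toIdeal.primeCompl),
          LocalizedModule.mk_eq] at e1
        obtain ⟨c, hc⟩ := e1
        refine ⟨(c : B) * ψ (f ^ k), fun hmem => ?_, ?_⟩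
        · rcases y.isPrime.mem_or_mem hmem with h | h
          · exact c.2 h
          · exact hxk h
        · have hc' : (c : B) • (ψ (f ^ k)) • v m.1 = (c : B) • (ψ (f ^ k)) • (0 : N) := hc
          rw [mul_smul, hc', smul_zero, smul_zero]
      obtain ⟨K, hK⟩ := exists_pow_smul_eq_zero_of_locally_killed ℬ 𝒩 hfirr (hv i m.1 m.2) hloc
      have hmem : f ^ (K + d₀) • m.1 ∈ ℳ ((K + d₀) * d + i) :=
        SetLike.GradedSMul.smul_mem (hfk (K + d₀)) m.2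
      have hker : v (f ^ (K + d₀) • m.1) = 0 := by
        rw [LinearMap.map_smulₛₗ]
        change ψ (f ^ (K + d₀)) • v m.1 = 0
        rw [map_pow, pow_add, mul_comm, mul_smul, hK, smul_zero]
      have hm0 : f ^ (K + d₀) • m.1 = 0 := hinj _ (hle K i) _ hmem hker
      refine val_ext (fun x => ?_)
      rw [hform x (pow_notMem k x), GrModExact.val_zero,
        ← LocalizedModule.zero_mk (⟨f ^ k, pow_notMem k x⟩ : x.1.asHomogeneousIdeal.toIdeal.primeCompl),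
        LocalizedModule.mk_eq]
      refine ⟨⟨f ^ (K + d₀), pow_notMem (K + d₀) x⟩, ?_⟩
      change f ^ (K + d₀) • f ^ k • m.1 = f ^ (K + d₀) • f ^ k • (0 : M)
      rw [smul_comm, hm0]
      simp only [smul_zero]
    have h1 : (GrMod.comap ψ hψ v hv n).app (Proj.basicOpen 𝒜 f) (s - s') = 0 := by
      rw [map_sub, hss, sub_self]
    exact sub_eq_zero.mp (hz _ h1)
  · -- surjectivity
    intro t
    obtain ⟨k, i, m', hi, hform⟩ := GrModComap.exists_val_eq' 𝒩 n hd hψf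
      (Proj.map ψ hψ ⁻¹ᵁ Proj.basicOpen 𝒜 f) hV t
    have hm'' : ψ f ^ (0 + d₀) • m'.1 ∈ 𝒩 ((0 + d₀) * d + i) :=
      SetLike.GradedSMul.smul_mem (hψfk (0 + d₀)) m'.2
    obtain ⟨m, hmi, hm⟩ := hsurj _ (hle 0 i) _ hm''
    have hdeg : (((0 + d₀) * d + i : ℕ) : ℤ) = (((d₀ + k) * d : ℕ) : ℤ) + n := by
      push_cast
      rw [hi]
      ring
    refine ⟨mfrac ℳ (Proj.basicOpen 𝒜 f) ⟨m, hmi⟩ ⟨f ^ (d₀ + k), hfk (d₀ + k)⟩
      (fun x => pow_notMem (d₀ + k) x) n hdeg, ?_⟩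
    refine val_ext (fun y => ?_)
    have hyk : ψ f ^ k ∉ y.1.asHomogeneousIdeal.toIdeal := by
      intro hmem
      exact (ProjectiveSpectrum.mem_basicOpen ℬ (ψ f) y.1).mp y.2 (y.1.isPrime.mem_of_pow_mem k hmem)
    rw [GrMod.comap_app_val, val_mfrac, GrMod.locModMap_mk, hform y hyk, LocalizedModule.mk_eq]
    refine ⟨1, ?_⟩
    rw [one_smul, one_smul]
    change ψ f ^ k • v m = ψ (f ^ (d₀ + k)) • m'.1
    rw [hm, map_pow, zero_add, pow_add, mul_smul]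
    exact smul_comm _ _ _

include hinj hsurj in
/-- if `v` is bijective in large degrees (and `ψ` too), the adjunct of `comap` is an iso -/
theorem isIso_adjunct_comap_of_eventually
    (hinjA : ∀ i, d₀ ≤ i → ∀ a ∈ 𝒜 i, ψ a = 0 → a = 0)
    (hsurjA : ∀ i, d₀ ≤ i → ∀ b ∈ ℬ i, ∃ a ∈ 𝒜 i, ψ a = b) (n : ℤ) :
    IsIso (((pullbackPushforwardAdjunction (Proj.map ψ hψ)).homEquiv _ _).symm
      (GrMod.comap ψ hψ v hv n)) := by
  apply isIso_adjunct_comap ψ hψ ℳ 𝒩 v hv n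
  intro y
  obtain ⟨d, hd, f, hf, hfy⟩ := exists_mem_basicOpen_map ψ hψ y
  refine ⟨d, hd, f, hf, hfy, ?_⟩
  exact PbIsoCrit.isBCHom_of_bijective
    (appLE_bijective ψ hψ hd hf (awayMap_bijective_of_eventually ψ d₀ hinjA hsurjA hd hf))
    (secMap ψ hψ ℳ 𝒩 v hv n f) (secMap_smul ψ hψ ℳ 𝒩 v hv n f)
    (comap_app_bijective_of_eventually ψ hψ ℳ 𝒩 v hv d₀ hinj hsurj n hd f hf)

end eventually

end Groth.Agent.Lib.Helper3.GrComapCrit
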