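import Mathlib.Algebra.Module.GradedModule
import Mathlib.RingTheory.GradedAlgebra.Basic

/-!
# Graded modules from graded action data on subgroups of a fixed group
-/

set_option autoImplicit false
set_option linter.unusedSectionVars false
universe u

namespace Groth.Agent.Lib.Helper3.GrExt

open DirectSum

variable {R A : Type u} [CommRing R] [CommRing A] [Algebra R A] (𝒜 : ℕ → Submodule R A)
  [GradedAlgebra 𝒜] (P : Type u) [AddCommGroup P]

/-- a graded action of the homogeneous elements of `A` on a group `P` -/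
structure ActData where
  act : ℕ → A → P → P
  act_add_right : ∀ (d : ℕ) (a : A) (p q : P), act d a (p + q) = act d a p + act d a q
  act_add_left : ∀ {d : ℕ} {a a' : A}, a ∈ 𝒜 d → a' ∈ 𝒜 d → ∀ p : P,
    act d (a + a') p = act d a p + act d a' p
  act_zero_left : ∀ (d : ℕ) (p : P), act d 0 p = 0
  act_one : ∀ p : P, act 0 1 p = p
  act_mul : ∀ {d d' : ℕ} {a a' : A}, a ∈ 𝒜 d → a' ∈ 𝒜 d' → ∀ p : P,
    act (d + d') (a * a') p = act d a (act d' a' p)

variable {𝒜 P}

theorem ActData.act_zero_right (T : ActData 𝒜 P) (d : ℕ) (a : A) : T.act d a 0 = 0 := by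
  have h := T.act_add_right d a 0 0
  rw [add_zero] at h
  exact left_eq_add.mp h

/-- a graded family of subgroups stable under the action -/
structure SubFam (T : ActData 𝒜 P) where
  N : ℕ → AddSubgroup P
  act_mem : ∀ {d n : ℕ} {a : A} {p : P}, a ∈ 𝒜 d → p ∈ N n → T.act d a p ∈ N (d + n)

namespace SubFam

variable {T : ActData 𝒜 P} (S : SubFam T)

/-- the total graded module -/
abbrev Tot : Type u := ⨁ n, S.N n

noncomputable instance gmodule : DirectSum.Gmodule (fun d => 𝒜 d) (fun n => S.N n) where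
  smul a p := ⟨T.act _ a.1 p.1, S.act_mem a.2 p.2⟩
  one_smul := fun ⟨n, p⟩ => Sigma.subtype_ext (zero_add n) (T.act_one p.1)
  mul_smul := fun ⟨d, a⟩ ⟨d', a'⟩ ⟨n, p⟩ =>
    Sigma.subtype_ext (add_assoc d d' n) (T.act_mul a.2 a'.2 p.1)
  smul_add a p q := Subtype.ext (T.act_add_right _ a.1 p.1 q.1)
  smul_zero a := Subtype.ext (T.act_zero_right _ a.1)
  add_smul a a' p := Subtype.ext (T.act_add_left a.2 a'.2 p.1)
  zero_smul p := Subtype.ext (T.act_zero_left _ p.1)

noncomputable instance modA : Module A S.Tot :=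
  Module.compHom _ ((DirectSum.decomposeRingEquiv 𝒜 : A ≃+* ⨁ i, 𝒜 i) : A →+* ⨁ i, 𝒜 i)

noncomputable instance modR : Module R S.Tot := Module.compHom _ (algebraMap R A)

instance tower : IsScalarTower R A S.Tot :=
  ⟨fun r a z => by
    change ((r • a : A) • (z : S.Tot)) = (algebraMap R A r : A) • ((a • z : S.Tot))
    rw [Algebra.smul_def, mul_smul]⟩

theorem smul_of {d n : ℕ} {a : A} (ha : a ∈ 𝒜 d) (p : S.N n) :
    a • (DirectSum.of (fun n => S.N n) n p) =
      DirectSum.of (fun n => S.N n) (d + n) ⟨T.act d a p.1, S.act_mem ha p.2⟩ := by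
  change ((DirectSum.decompose 𝒜 a : ⨁ i, 𝒜 i) •
    (DirectSum.of (fun n => S.N n) n p : ⨁ n, S.N n)) = _
  rw [DirectSum.decompose_of_mem 𝒜 ha, DirectSum.Gmodule.of_smul_of]
  rfl

theorem of_mem_range {n n' : ℕ} (h : n' = n) (q : S.N n') :
    DirectSum.of (fun n => S.N n) n' q ∈ Set.range (DirectSum.of (fun n => S.N n) n) := by
  subst h
  exact ⟨q, rfl⟩

/-- the homogeneous pieces of the total module -/
def piece (n : ℕ) : Submodule R S.Tot where
  carrier := Set.range (DirectSum.of (fun n => S.N n) n)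
  zero_mem' := ⟨0, map_zero _⟩
  add_mem' := by
    rintro _ _ ⟨p, rfl⟩ ⟨q, rfl⟩
    exact ⟨p + q, map_add _ _ _⟩
  smul_mem' := by
    rintro r _ ⟨p, rfl⟩
    change ((algebraMap R A r : A) • (DirectSum.of (fun n => S.N n) n p : S.Tot)) ∈ _
    rw [S.smul_of (SetLike.algebraMap_mem_graded 𝒜 r) p]
    exact S.of_mem_range (zero_add n) _

theorem mem_piece {n : ℕ} {z : S.Tot} :
    z ∈ S.piece n ↔ ∃ p : S.N n, DirectSum.of (fun n => S.N n) n p = z := Iff.rfl

noncomputable instance gradedSMul : SetLike.GradedSMul 𝒜 S.piece where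
  smul_mem := by
    rintro d n a _ ha ⟨p, rfl⟩
    rw [S.smul_of ha]
    exact ⟨_, rfl⟩

noncomputable instance decomposition : DirectSum.Decomposition S.piece :=
  DirectSum.Decomposition.ofAddHom S.piece
    (DirectSum.toAddMonoid (fun n => (DirectSum.of (fun n => S.piece n) n).comp
      ({ toFun := fun p => ⟨DirectSum.of (fun n => S.N n) n p, ⟨p, rfl⟩⟩
         map_zero' := Subtype.ext (map_zero _)
         map_add' := fun p q => Subtype.ext (map_add _ p q) } : S.N n →+ S.piece n)))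
    (by
      apply DirectSum.addHom_ext
      intro n p
      simp only [AddMonoidHom.comp_apply, DirectSum.toAddMonoid_of, AddMonoidHom.coe_mk,
        ZeroHom.coe_mk, DirectSum.coeAddMonoidHom_of, AddMonoidHom.id_apply])
    (by
      apply DirectSum.addHom_ext
      rintro n ⟨_, ⟨p, rfl⟩⟩
      simp only [AddMonoidHom.comp_apply, DirectSum.coeAddMonoidHom_of,
        DirectSum.toAddMonoid_of, AddMonoidHom.id_apply, AddMonoidHom.coe_mk, ZeroHom.coe_mk])

/-- the "forget the degree" map -/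
noncomputable def lamP : S.Tot →+ P := DirectSum.toAddMonoid (fun n => (S.N n).subtype)

theorem lamP_of (n : ℕ) (p : S.N n) : S.lamP (DirectSum.of (fun n => S.N n) n p) = p.1 :=
  DirectSum.toAddMonoid_of _ _ _

theorem lamP_smul {d n : ℕ} {a : A} (ha : a ∈ 𝒜 d) {z : S.Tot} (hz : z ∈ S.piece n) :
    S.lamP (a • z) = T.act d a (S.lamP z) := by
  obtain ⟨p, rfl⟩ := hz
  rw [S.smul_of ha, lamP_of, lamP_of]

theorem lamP_mem {n : ℕ} {z : S.Tot} (hz : z ∈ S.piece n) : S.lamP z ∈ S.N n := by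
  obtain ⟨p, rfl⟩ := hz
  rw [lamP_of]
  exact p.2

theorem eq_zero_of_lamP {n : ℕ} {z : S.Tot} (hz : z ∈ S.piece n) (h : S.lamP z = 0) :
    z = 0 := by
  obtain ⟨p, rfl⟩ := hz
  rw [lamP_of] at h
  have : p = 0 := Subtype.ext h
  rw [this, map_zero]

theorem exists_of_mem {n : ℕ} {p : P} (hp : p ∈ S.N n) :
    ∃ z : S.Tot, z ∈ S.piece n ∧ S.lamP z = p :=
  ⟨DirectSum.of (fun n => S.N n) n ⟨p, hp⟩, ⟨_, rfl⟩, S.lamP_of n ⟨p, hp⟩⟩

end SubFam

end Groth.Agent.Lib.Helper3.GrExt
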