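import Groth.Agent.Lib.Helper3.GrTildeIso
import Groth.Agent.Lib.Helper3.GrExt

/-!
# The graded module of compatible families of local sections of a sheaf on `Proj`
-/

set_option autoImplicit false
set_option linter.unusedSectionVars false
universe u
open CategoryTheory CategoryTheory.Limits AlgebraicGeometry TopologicalSpace Opposite
open Scheme.Modules

namespace Groth.Agent.Lib.Helper3.GrGamma

open QCSec InvGen TwistBasic GrTildeQC ProjFrac HomMk GrTildeHom GrExt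

variable {R A : Type u} [CommRing R] [CommRing A] [Algebra R A] {𝒜 : ℕ → Submodule R A}
  [GradedAlgebra 𝒜] {ι : Type u} (f : ι → A) (F : (Proj 𝒜).Modules)

theorem res_add {X : Scheme.{u}} (M : X.Modules) {A B : X.Opens} (h : A ≤ B) (a b : Γ(M, B)) :
    res M h (a + b) = res M h a + res M h b := _root_.map_add _ a b

theorem res_neg {X : Scheme.{u}} (M : X.Modules) {A B : X.Opens} (h : A ≤ B) (a : Γ(M, B)) :
    res M h (-a) = -res M h a := _root_.map_neg _ a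

/-- families of local sections on the `D₊(f i)` -/
abbrev P : Type u := ∀ i : ι, Γ(F, Proj.basicOpen 𝒜 (f i))

/-- compatibility in degree `n` -/
def Compat (n : ℕ) (p : P f F) : Prop :=
  ∀ i k : ι, res F (inf_le_left : Proj.basicOpen 𝒜 (f i) ⊓ Proj.basicOpen 𝒜 (f k) ≤
        Proj.basicOpen 𝒜 (f i)) (p i) =
      fn (Proj.basicOpen 𝒜 (f i) ⊓ Proj.basicOpen 𝒜 (f k)) (f k ^ n) (f i ^ n) •
        res F (inf_le_right : Proj.basicOpen 𝒜 (f i) ⊓ Proj.basicOpen 𝒜 (f k) ≤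
          Proj.basicOpen 𝒜 (f k)) (p k)

/-- degree `n` compatible families -/
def Mn (n : ℕ) : AddSubgroup (P f F) where
  carrier := {p | Compat f F n p}
  zero_mem' := fun i k => by
    change res F _ (0 : Γ(F, _)) = _ • res F _ (0 : Γ(F, _))
    rw [res_zero, res_zero, smul_zero]
  add_mem' := fun {p q} hp hq i k => by
    change res F _ (p i + q i) = _ • res F _ (p k + q k)
    rw [res_add, res_add, smul_add, hp i k, hq i k]
  neg_mem' := fun {p} hp i k => by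
    change res F _ (- p i) = _ • res F _ (- p k)
    rw [res_neg, res_neg, smul_neg, hp i k]

theorem mem_Mn {n : ℕ} {p : P f F} : p ∈ Mn f F n ↔ Compat f F n p := Iff.rfl

variable {f} (hf : ∀ i, f i ∈ 𝒜 1)

theorem good_one (U : (Proj 𝒜).Opens) : Good U (1 : A) 1 :=
  good_of_mem (SetLike.GradedOne.one_mem : (1 : A) ∈ 𝒜 0) SetLike.GradedOne.one_mem
    (fun x h => x.1.isPrime.ne_top ((Ideal.eq_top_iff_one _).mpr h))

/-- the graded action of `A` on families -/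
noncomputable def actData : ActData 𝒜 (P f F) where
  act d a p := fun i => fn (Proj.basicOpen 𝒜 (f i)) a (f i ^ d) • p i
  act_add_right d a p q := funext fun i => smul_add _ _ _
  act_add_left {d a a'} ha ha' p := funext fun i => by
    change fn (Proj.basicOpen 𝒜 (f i)) (a + a') (f i ^ d) • p i =
      fn (Proj.basicOpen 𝒜 (f i)) a (f i ^ d) • p i + fn (Proj.basicOpen 𝒜 (f i)) a' (f i ^ d) • p i
    rw [← add_smul, fn_add (good_q hf i le_rfl ha) (good_q hf i le_rfl ha')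
      (good_q hf i le_rfl (add_mem ha ha'))]
  act_zero_left d p := funext fun i => by
    change fn (Proj.basicOpen 𝒜 (f i)) 0 (f i ^ d) • p i = 0
    rw [fn_zero (good_q hf i le_rfl (zero_mem _)), zero_smul]
  act_one p := funext fun i => by
    rw [pow_zero, fn_self (good_one _), one_smul]
  act_mul {d d' a a'} ha ha' p := funext fun i => by
    change fn (Proj.basicOpen 𝒜 (f i)) (a * a') (f i ^ (d + d')) • p i =
      fn (Proj.basicOpen 𝒜 (f i)) a (f i ^ d) • fn (Proj.basicOpen 𝒜 (f i)) a' (f i ^ d') • p i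
    rw [← mul_smul, fn_mul (good_q hf i le_rfl ha) (good_q hf i le_rfl ha'), pow_add]

theorem actData_act (d : ℕ) (a : A) (p : P f F) (i : ι) :
    (actData F hf).act d a p i = fn (Proj.basicOpen 𝒜 (f i)) a (f i ^ d) • p i := rfl

theorem act_mem_Mn {d n : ℕ} {a : A} {p : P f F} (ha : a ∈ 𝒜 d) (hp : p ∈ Mn f F n) :
    (actData F hf).act d a p ∈ Mn f F (d + n) := by
  intro i k
  rw [actData_act, actData_act, res_smul, res_smul, rres_fn _ (good_q hf i le_rfl ha),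
    rres_fn _ (good_q hf k le_rfl ha), hp i k, ← mul_smul, ← mul_smul]
  congr 1
  have g1 : Good (Proj.basicOpen 𝒜 (f i) ⊓ Proj.basicOpen 𝒜 (f k)) a (f i ^ d) :=
    good_q hf i inf_le_left ha
  have g2 : Good (Proj.basicOpen 𝒜 (f i) ⊓ Proj.basicOpen 𝒜 (f k)) (f k ^ n) (f i ^ n) :=
    good_q hf i inf_le_left (pow_mem_of_mem_one (hf k) n)
  have g3 : Good (Proj.basicOpen 𝒜 (f i) ⊓ Proj.basicOpen 𝒜 (f k)) (f k ^ (d + n))
      (f i ^ (d + n)) := good_q hf i inf_le_left (pow_mem_of_mem_one (hf k) (d + n))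
  have g4 : Good (Proj.basicOpen 𝒜 (f i) ⊓ Proj.basicOpen 𝒜 (f k)) a (f k ^ d) :=
    good_q hf k inf_le_right ha
  rw [fn_mul g1 g2, fn_mul g3 g4]
  exact fn_eq (g1.mul g2) (g3.mul g4) (by ring)

/-- the full family of compatible sections -/
noncomputable def full : SubFam (actData F hf) where
  N := Mn f F
  act_mem := fun ha hp => act_mem_Mn F hf ha hp

variable {F hf}

/-- dehomogenization data from a sub-family of compatible families -/
noncomputable def dehom (S : SubFam (actData F hf)) (hS : ∀ n, S.N n ≤ Mn f F n) :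
    Dehom S.piece F f where
  lam i := (Pi.evalAddMonoidHom _ i).comp S.lamP
  lam_smul i {d n a} ha {m} hm := by
    change (S.lamP (a • m)) i = _ • (S.lamP m) i
    rw [S.lamP_smul ha hm]
    rfl
  lam_compat i k {n m} hm := hS n (S.lamP_mem hm) i k

theorem dehom_lam (S : SubFam (actData F hf)) (hS : ∀ n, S.N n ≤ Mn f F n) (i : ι)
    (m : S.Tot) : (dehom S hS).lam i m = S.lamP m i := rfl

/-- a sub-family of compatible families whose components exhaust all local sections computes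
`F` -/
theorem nonempty_iso (hcov : ∀ x : Proj 𝒜, ∃ i, x ∈ Proj.basicOpen 𝒜 (f i)) [Finite ι]
    [F.IsQuasicoherent] (S : SubFam (actData F hf)) (hS : ∀ n, S.N n ≤ Mn f F n)
    (hsurj : ∀ (i : ι) (t : Γ(F, Proj.basicOpen 𝒜 (f i))), ∃ n, ∃ p ∈ S.N n, p i = t) :
    Nonempty (GrTilde.tilde 𝒜 S.piece 0 ≅ F) := by
  haveI := GrTildeIso.isIso_hom hf hcov (dehom S hS)
    (fun {n m} hm h0 => S.eq_zero_of_lamP hm (funext fun i => h0 i))
    (fun i t => by
      obtain ⟨n, p, hp, hpt⟩ := hsurj i t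
      obtain ⟨z, hz, hzp⟩ := S.exists_of_mem hp
      exact ⟨n, z, hz, by rw [dehom_lam, hzp, hpt]⟩)
  exact ⟨asIso (hom hf hcov (dehom S hS))⟩

/-! ### extension of local sections to compatible families -/

theorem _root_.Groth.Agent.Lib.Helper3.QCSec.IsLocSec.surj_ge {X : Scheme.{u}} {M : X.Modules}
    {U W : X.Opens} {hWU : W ≤ U} {g : Γ(X, U)} (h : IsLocSec M U W hWU g) (t : Γ(M, W)) :
    ∃ n, ∀ m, n ≤ m → ∃ s : Γ(M, U), res M hWU s = (rres X hWU g) ^ m • t := by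
  obtain ⟨n, s, hs⟩ := h.surj t
  refine ⟨n, fun m hm => ⟨g ^ (m - n) • s, ?_⟩⟩
  rw [res_smul, rres_pow, hs, ← mul_smul, ← pow_add, Nat.sub_add_cancel hm]

theorem _root_.Groth.Agent.Lib.Helper3.QCSec.IsLocSec.inj_ge {X : Scheme.{u}} {M : X.Modules}
    {U W : X.Opens} {hWU : W ≤ U} {g : Γ(X, U)} (h : IsLocSec M U W hWU g) (s : Γ(M, U))
    (hs : res M hWU s = 0) : ∃ n, ∀ m, n ≤ m → g ^ m • s = 0 := by
  obtain ⟨n, hn⟩ := h.inj s hs
  refine ⟨n, fun m hm => ?_⟩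
  rw [← Nat.sub_add_cancel hm, pow_add, mul_smul, hn, smul_zero]

section Ext

variable (f F)

local notation "𝒰" k:max => Proj.basicOpen 𝒜 (f k)

/-- every local section on `D₊(f i)` is the `i`-th component of a compatible family of some
degree -/
theorem exists_extension [Finite ι] [F.IsQuasicoherent] (hf : ∀ i, f i ∈ 𝒜 1) (i : ι)
    (t : Γ(F, 𝒰 i)) : ∃ n, ∃ p ∈ Mn f F n, p i = t := by
  have hUa : ∀ k, IsAffineOpen (𝒰 k) := fun k =>
    Proj.isAffineOpen_basicOpen 𝒜 (f k) (hf k) Nat.one_pos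
  have hUa2 : ∀ k l, IsAffineOpen (𝒰 k ⊓ 𝒰 l) := fun k l => by
    rw [← Proj.basicOpen_mul]
    exact Proj.isAffineOpen_basicOpen 𝒜 (f k * f l) (SetLike.mul_mem_graded (hf k) (hf l))
      (by norm_num)
  have gd : ∀ (k : ι) {V : (Proj 𝒜).Opens} (_ : V ≤ 𝒰 k), Good V (f i) (f k) :=
    fun k V hV => good_of_mem (hf i) (hf k) (fun x => hV x.2)
  have gp : ∀ (k l : ι) (n : ℕ) {V : (Proj 𝒜).Opens} (_ : V ≤ 𝒰 k), Good V (f l ^ n) (f k ^ n) :=
    fun k l n V hV => good_q hf k hV (pow_mem_of_mem_one (hf l) n)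
  have hloc : ∀ k, IsLocSec F (𝒰 k) (𝒰 k ⊓ 𝒰 i) inf_le_left (fn (𝒰 k) (f i) (f k)) := fun k =>
    isLocSec_of_isQuasicoherent F (hUa k) _ _ (basicOpen_fn (gd k le_rfl)).symm inf_le_left
  have h1 : ∀ k, ∃ n, ∀ m, n ≤ m → ∃ s : Γ(F, 𝒰 k),
      res F (inf_le_left : 𝒰 k ⊓ 𝒰 i ≤ 𝒰 k) s = (fn (𝒰 k ⊓ 𝒰 i) (f i) (f k)) ^ m •
        res F (inf_le_right : 𝒰 k ⊓ 𝒰 i ≤ 𝒰 i) t := fun k => by
    obtain ⟨n, hn⟩ := (hloc k).surj_ge (res F inf_le_right t)
    refine ⟨n, fun m hm => ?_⟩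
    obtain ⟨s, hs⟩ := hn m hm
    rw [rres_fn inf_le_left (gd k le_rfl)] at hs
    exact ⟨s, hs⟩
  choose n1 hn1 using h1
  obtain ⟨n0, hn0⟩ := Finite.exists_le n1
  have h2 : ∀ k, ∃ s : Γ(F, 𝒰 k),
      res F (inf_le_left : 𝒰 k ⊓ 𝒰 i ≤ 𝒰 k) s = (fn (𝒰 k ⊓ 𝒰 i) (f i) (f k)) ^ n0 •
        res F (inf_le_right : 𝒰 k ⊓ 𝒰 i ≤ 𝒰 i) t := fun k => hn1 k n0 (hn0 k)
  choose s hs using h2
  have hsW : ∀ (k : ι) (W : (Proj 𝒜).Opens) (hWk : W ≤ 𝒰 k) (hWi : W ≤ 𝒰 i),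
      res F hWk (s k) = (fn W (f i) (f k)) ^ n0 • res F hWi t := by
    intro k W hWk hWi
    have h0 := congrArg (res F (le_inf hWk hWi)) (hs k)
    rw [res_res, res_smul, rres_pow, rres_fn _ (gd k inf_le_left), res_res] at h0
    exact h0
  have hdef : ∀ k l, ∃ N, ∀ m, N ≤ m → (fn (𝒰 k ⊓ 𝒰 l) (f i) (f k)) ^ m •
      (res F (inf_le_left : 𝒰 k ⊓ 𝒰 l ≤ 𝒰 k) (s k) -
        fn (𝒰 k ⊓ 𝒰 l) (f l ^ n0) (f k ^ n0) •
          res F (inf_le_right : 𝒰 k ⊓ 𝒰 l ≤ 𝒰 l) (s l)) = 0 := by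
    intro k l
    have hl : IsLocSec F (𝒰 k ⊓ 𝒰 l) (𝒰 k ⊓ 𝒰 l ⊓ 𝒰 i) inf_le_left
        (fn (𝒰 k ⊓ 𝒰 l) (f i) (f k)) :=
      isLocSec_of_isQuasicoherent F (hUa2 k l) _ _ (basicOpen_fn (gd k inf_le_left)).symm
        inf_le_left
    apply hl.inj_ge
    have hWk : 𝒰 k ⊓ 𝒰 l ⊓ 𝒰 i ≤ 𝒰 k := inf_le_left.trans inf_le_left
    have hWl : 𝒰 k ⊓ 𝒰 l ⊓ 𝒰 i ≤ 𝒰 l := inf_le_left.trans inf_le_right
    have hWi : 𝒰 k ⊓ 𝒰 l ⊓ 𝒰 i ≤ 𝒰 i := inf_le_right
    rw [res_sub, res_smul, res_res, res_res, hsW k _ hWk hWi, hsW l _ hWl hWi,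
      rres_fn _ (gp k l n0 inf_le_left), ← mul_smul, sub_eq_zero]
    congr 1
    rw [fn_pow (gd k hWk), fn_pow (gd l hWl), fn_mul (gp k l n0 hWk) ((gd l hWl).pow n0)]
    exact fn_eq ((gd k hWk).pow n0) ((gp k l n0 hWk).mul ((gd l hWl).pow n0)) (by ring)
  choose N1 hN1 using hdef
  obtain ⟨N0, hN0⟩ := Finite.exists_le (fun q : ι × ι => N1 q.1 q.2)
  refine ⟨n0 + N0, fun k => fn (𝒰 k) (f i) (f k) ^ N0 • s k, fun k l => ?_, ?_⟩
  · have hz := hN1 k l N0 (hN0 (k, l))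
    rw [smul_sub, sub_eq_zero, ← mul_smul] at hz
    change res F _ (fn (𝒰 k) (f i) (f k) ^ N0 • s k) =
      fn (𝒰 k ⊓ 𝒰 l) (f l ^ (n0 + N0)) (f k ^ (n0 + N0)) •
        res F _ (fn (𝒰 l) (f i) (f l) ^ N0 • s l)
    rw [res_smul, res_smul, rres_pow, rres_pow, rres_fn _ (gd k le_rfl),
      rres_fn _ (gd l le_rfl), hz, ← mul_smul]
    congr 1
    rw [fn_pow (gd k inf_le_left), fn_pow (gd l inf_le_right),
      fn_mul ((gd k inf_le_left).pow N0) (gp k l n0 inf_le_left),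
      fn_mul (gp k l (n0 + N0) inf_le_left) ((gd l inf_le_right).pow N0)]
    exact fn_eq (((gd k inf_le_left).pow N0).mul (gp k l n0 inf_le_left))
      ((gp k l (n0 + N0) inf_le_left).mul ((gd l inf_le_right).pow N0)) (by ring)
  · change fn (𝒰 i) (f i) (f i) ^ N0 • s i = t
    have h0 := hsW i (𝒰 i) le_rfl le_rfl
    rw [res_self, res_self, fn_self (gd i le_rfl), one_pow, one_smul] at h0
    rw [fn_self (gd i le_rfl), one_pow, one_smul]
    exact h0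

end Ext

end Groth.Agent.Lib.Helper3.GrGamma
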