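import Groth.Agent.Lib.Helper3.GrModSec

/-!
# Values of sections of `GrMod.tilde`, fraction sections, exactness over `D₊(f)`
-/

set_option autoImplicit false
set_option linter.unusedSectionVars false
universe u
open CategoryTheory CategoryTheory.Limits AlgebraicGeometry TopologicalSpace Opposite

namespace Groth.Agent.Lib.Helper3.GrModExact

open GrModSec

section
variable {A σ : Type u} [CommRing A] [SetLike σ A] [AddSubgroupClass σ A] {𝒜 : ℕ → σ} [GradedRing 𝒜]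
  {M τ : Type u} [AddCommGroup M] [Module A M] [SetLike τ M] [AddSubgroupClass τ M] {ℳ : ℕ → τ}
  [SetLike.GradedSMul 𝒜 ℳ]

theorem val_ext {n : ℤ} {U : (Proj 𝒜).Opens} {t t' : Γ(GrMod.tilde 𝒜 ℳ n, U)}
    (h : ∀ x, GrMod.val t x = GrMod.val t' x) : t = t' :=
  Subtype.ext (funext fun x => Subtype.ext (h x))

theorem val_zero {n : ℤ} {U : (Proj 𝒜).Opens} (x : U) :
    GrMod.val (0 : Γ(GrMod.tilde 𝒜 ℳ n, U)) x = 0 := rfl

variable (ℳ) in
/-- the section `m / b` of `M(n)~` -/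
def mfrac (U : (Proj 𝒜).Opens) {i j : ℕ} (m : ℳ i) (b : 𝒜 j)
    (hb : ∀ x : U, b.1 ∉ x.1.asHomogeneousIdeal) (n : ℤ) (hn : (i : ℤ) = j + n) :
    Γ(GrMod.tilde 𝒜 ℳ n, U) :=
  (⟨fun x => ⟨LocalizedModule.mk m.1 ⟨b.1, hb x⟩,
      Submodule.subset_span ⟨i, j, m, b, hb x, hn, rfl⟩⟩,
    fun x => ⟨U, x.2, 𝟙 _, i, j, m, b, hb, Or.inl hn, fun _ => rfl⟩⟩ :
      GrMod.sect 𝒜 ℳ n (op U))

theorem val_mfrac (U : (Proj 𝒜).Opens) {i j : ℕ} (m : ℳ i) (b : 𝒜 j)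
    (hb : ∀ x : U, b.1 ∉ x.1.asHomogeneousIdeal) (n : ℤ) (hn : (i : ℤ) = j + n) (x : U) :
    GrMod.val (mfrac ℳ U m b hb n hn) x = LocalizedModule.mk m.1 ⟨b.1, hb x⟩ := rfl

theorem exists_val_eq [DirectSum.Decomposition ℳ] (n : ℤ) {d : ℕ} (hd : 0 < d) {f : A}
    (hf : f ∈ 𝒜 d) (t : Γ(GrMod.tilde 𝒜 ℳ n, Proj.basicOpen 𝒜 f)) :
    ∃ (k i : ℕ) (m : ℳ i), (i : ℤ) = k * d + n ∧
      ∀ (x : Proj.basicOpen 𝒜 f) (hx : f ^ k ∉ x.1.asHomogeneousIdeal.toIdeal),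
        GrMod.val t x = LocalizedModule.mk m.1 ⟨f ^ k, hx⟩ := by
  obtain ⟨k, i, m, hi, h⟩ := sections_eq_fraction 𝒜 ℳ n hd hf
    (show GrMod.sect 𝒜 ℳ n (op (ProjectiveSpectrum.basicOpen 𝒜 f)) from t)
  exact ⟨k, i, m, hi, fun x hx => h x⟩

theorem pow_notMem {f : A} (k : ℕ) (x : Proj.basicOpen 𝒜 f) :
    f ^ k ∉ x.1.asHomogeneousIdeal.toIdeal :=
  fun h => (ProjectiveSpectrum.mem_basicOpen 𝒜 f x.1).mp x.2 (x.1.isPrime.mem_of_pow_mem k h)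

end

section exact

variable {A σ : Type u} [CommRing A] [SetLike σ A] [AddSubgroupClass σ A] (𝒜 : ℕ → σ) [GradedRing 𝒜]
  {M₁ τ₁ : Type u} [AddCommGroup M₁] [Module A M₁] [SetLike τ₁ M₁] [AddSubgroupClass τ₁ M₁]
  (ℳ₁ : ℕ → τ₁) [SetLike.GradedSMul 𝒜 ℳ₁] [DirectSum.Decomposition ℳ₁]
  {M₂ τ₂ : Type u} [AddCommGroup M₂] [Module A M₂] [SetLike τ₂ M₂] [AddSubgroupClass τ₂ M₂]
  (ℳ₂ : ℕ → τ₂) [SetLike.GradedSMul 𝒜 ℳ₂] [DirectSum.Decomposition ℳ₂]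

/-- a degree-preserving additive map commutes with taking homogeneous components -/
theorem coe_decompose_map {F : Type*} [FunLike F M₁ M₂] [AddMonoidHomClass F M₁ M₂] (u : F)
    (hu : ∀ (i : ℕ) (m : M₁), m ∈ ℳ₁ i → u m ∈ ℳ₂ i) (a : M₁) (j : ℕ) :
    ((DirectSum.decompose ℳ₂ (u a) j : ℳ₂ j) : M₂) =
      u ((DirectSum.decompose ℳ₁ a j : ℳ₁ j) : M₁) := by
  classical
  induction a using DirectSum.Decomposition.inductionOn ℳ₁ with
  | zero => simp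
  | @homogeneous k a =>
    by_cases hk : k = j
    · subst hk
      rw [DirectSum.decompose_of_mem_same ℳ₂ (hu k a a.2), DirectSum.decompose_coe,
        DirectSum.of_eq_same]
    · rw [DirectSum.decompose_of_mem_ne ℳ₂ (hu k a a.2) hk,
        DirectSum.decompose_of_mem_ne ℳ₁ a.2 hk, map_zero]
  | add a b ha hb =>
    rw [map_add, DirectSum.decompose_add, DirectSum.add_apply, AddMemClass.coe_add, ha, hb,
      DirectSum.decompose_add, DirectSum.add_apply, AddMemClass.coe_add, map_add]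

variable {M₃ τ₃ : Type u} [AddCommGroup M₃] [Module A M₃] [SetLike τ₃ M₃] [AddSubgroupClass τ₃ M₃]
  (ℳ₃ : ℕ → τ₃) [SetLike.GradedSMul 𝒜 ℳ₃] [DirectSum.Decomposition ℳ₃]

theorem map_app_basicOpen_exact
    (u : M₁ →ₗ[A] M₂) (hu : ∀ (i : ℕ) (m : M₁), m ∈ ℳ₁ i → u m ∈ ℳ₂ i)
    (v : M₂ →ₗ[A] M₃) (hv : ∀ (i : ℕ) (m : M₂), m ∈ ℳ₂ i → v m ∈ ℳ₃ i)
    (hex : Function.Exact u v) (n : ℤ) {d : ℕ} (hd : 0 < d) (f : A) (hf : f ∈ 𝒜 d) :
    Function.Exact ((GrMod.map 𝒜 u hu n).app (Proj.basicOpen 𝒜 f))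
      ((GrMod.map 𝒜 v hv n).app (Proj.basicOpen 𝒜 f)) := by
  classical
  have hfirr : f ∈ (HomogeneousIdeal.irrelevant 𝒜).toIdeal :=
    HomogeneousIdeal.mem_irrelevant_of_mem 𝒜 hd hf
  intro t₂
  constructor
  · intro h0
    obtain ⟨k, i, m, hi, hform⟩ := exists_val_eq (𝒜 := 𝒜) (ℳ := ℳ₂) n hd hf t₂
    -- `v m` is locally killed
    have hloc : ∀ x : ProjectiveSpectrum 𝒜, f ∉ x.asHomogeneousIdeal.toIdeal →
        ∃ c : A, c ∉ x.asHomogeneousIdeal.toIdeal ∧ c • v m.1 = 0 := by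
      intro x hx
      have hxU : x ∈ Proj.basicOpen 𝒜 f := (ProjectiveSpectrum.mem_basicOpen 𝒜 f x).mpr hx
      have hk : f ^ k ∉ x.asHomogeneousIdeal.toIdeal := fun h => hx (x.isPrime.mem_of_pow_mem k h)
      have e1 : GrMod.val ((GrMod.map 𝒜 v hv n).app (Proj.basicOpen 𝒜 f) t₂) ⟨x, hxU⟩ = 0 := by
        rw [h0]; rfl
      rw [GrMod.map_app_val, hform ⟨x, hxU⟩ hk, GrMod.locMap_mk,
        ← LocalizedModule.zero_mk (⟨f ^ k, hk⟩ : x.asHomogeneousIdeal.toIdeal.primeCompl),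
        LocalizedModule.mk_eq] at e1
      obtain ⟨c, hc⟩ := e1
      refine ⟨(c : A) * f ^ k, fun hmem => ?_, ?_⟩
      · rcases x.isPrime.mem_or_mem hmem with h | h
        · exact c.2 h
        · exact hk h
      · have hc' : (c : A) • (f ^ k) • v m.1 = (c : A) • (f ^ k) • (0 : M₃) := hc
        rw [mul_smul, hc', smul_zero, smul_zero]
    obtain ⟨K, hK⟩ := exists_pow_smul_eq_zero_of_locally_killed 𝒜 ℳ₃ hfirr (hv i m.1 m.2) hloc
    have hker : v (f ^ K • m.1) = 0 := by rw [map_smul, hK]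
    obtain ⟨m₁, hm₁⟩ := (hex (f ^ K • m.1)).1 hker
    have hfK : f ^ K ∈ 𝒜 (K * d) := by
      have := SetLike.pow_mem_graded K hf
      rwa [smul_eq_mul] at this
    have hmem : f ^ K • m.1 ∈ ℳ₂ (K * d + i) := SetLike.GradedSMul.smul_mem hfK m.2
    have hu' : u ((DirectSum.decompose ℳ₁ m₁ (K * d + i) : ℳ₁ (K * d + i)) : M₁) = f ^ K • m.1 := by
      rw [← coe_decompose_map ℳ₁ ℳ₂ u hu, hm₁, DirectSum.decompose_of_mem_same ℳ₂ hmem]
    have hfKk : f ^ (K + k) ∈ 𝒜 ((K + k) * d) := by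
      have := SetLike.pow_mem_graded (K + k) hf
      rwa [smul_eq_mul] at this
    have hdeg : ((K * d + i : ℕ) : ℤ) = ((K + k) * d : ℕ) + n := by
      push_cast
      rw [hi]
      ring
    refine ⟨mfrac ℳ₁ (Proj.basicOpen 𝒜 f) (DirectSum.decompose ℳ₁ m₁ (K * d + i))
      ⟨f ^ (K + k), hfKk⟩ (fun x => pow_notMem (K + k) x) n hdeg, ?_⟩
    refine val_ext (fun x => ?_)
    have hk : f ^ k ∉ x.1.asHomogeneousIdeal.toIdeal := pow_notMem k x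
    rw [GrMod.map_app_val, val_mfrac, GrMod.locMap_mk, hform x hk, hu', LocalizedModule.mk_eq]
    refine ⟨1, ?_⟩
    rw [one_smul, one_smul]
    change f ^ k • f ^ K • m.1 = f ^ (K + k) • m.1
    rw [smul_smul, pow_add, mul_comm]
  · rintro ⟨t₁, rfl⟩
    refine val_ext (fun x => ?_)
    rw [GrMod.map_app_val, GrMod.map_app_val, val_zero]
    induction (GrMod.val t₁ x) using LocalizedModule.induction_on with
    | h m s =>
      rw [GrMod.locMap_mk, GrMod.locMap_mk, hex.apply_apply_eq_zero, LocalizedModule.zero_mk]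

end exact

end Groth.Agent.Lib.Helper3.GrModExact
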