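import Groth.Agent.Lib.Helper3.GrModQC
import Groth.Agent.Lib.Helper3.GrModExact
import Groth.Agent.Lib.Helper3.InvGen
import Groth.Agent.Lib.Helper3.QCExact
import Groth.Prelude.Def_RelProj3

/-!
# `GrMod.comap` along a localization away from an element of degree zero
-/

set_option autoImplicit false
set_option linter.unusedSectionVars false
universe u
open CategoryTheory CategoryTheory.Limits AlgebraicGeometry TopologicalSpace Opposite
open Scheme.Modules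
open scoped HomogeneousIdeal

namespace Groth.Agent.Lib.Helper3.GrModLoc

open QCSec InvGen GrModQC

theorem mk_eq_zero_iff' {R M : Type*} [CommSemiring R] {S : Submonoid R} [AddCommMonoid M]
    [Module R M] (m : M) (s : S) :
    (LocalizedModule.mk m s : LocalizedModule S M) = 0 ↔ ∃ u : S, u • m = 0 := by
  rw [← LocalizedModule.zero_mk (1 : S), LocalizedModule.mk_eq]
  simp only [one_smul, smul_zero]

variable {A σ : Type u} [CommRing A] [SetLike σ A] [AddSubgroupClass σ A] {𝒜 : ℕ → σ} [GradedRing 𝒜]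
  {B σ' : Type u} [CommRing B] [SetLike σ' B] [AddSubgroupClass σ' B] {ℬ : ℕ → σ'} [GradedRing ℬ]
  (ψ : 𝒜 →+*ᵍ ℬ) (hirr : ℬ₊ ≤ (𝒜₊).map ψ)
  {M τ : Type u} [AddCommGroup M] [Module A M] [SetLike τ M] [AddSubgroupClass τ M] {ℳ : ℕ → τ}
  [SetLike.GradedSMul 𝒜 ℳ]
  {N τ' : Type u} [AddCommGroup N] [Module B N] [SetLike τ' N] [AddSubgroupClass τ' N]
  {𝒩 : ℕ → τ'} [SetLike.GradedSMul ℬ 𝒩]
  (v : M →ₛₗ[ψ.toRingHom] N) (hv : ∀ (i : ℕ) (m : M), m ∈ ℳ i → v m ∈ 𝒩 i)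
  (c : A) (hu : IsUnit (ψ c))
  (hsurj : ∀ b : B, ∃ (k : ℕ) (a : A), b * ψ c ^ k = ψ a)
  (hsurjM : ∀ x : N, ∃ (k : ℕ) (m : M), ψ c ^ k • x = v m)
  (hkerM : ∀ m : M, v m = 0 → ∃ k : ℕ, c ^ k • m = 0)

include hu in
theorem pow_notMem (y : ProjectiveSpectrum ℬ) (k : ℕ) :
    ψ c ^ k ∉ y.asHomogeneousIdeal.toIdeal := fun h =>
  y.isPrime.ne_top (Ideal.eq_top_of_isUnit_mem _ h (hu.pow k))

include hu in
theorem pow_notMem_comap (y : ProjectiveSpectrum ℬ) (k : ℕ) :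
    c ^ k ∉ (ProjectiveSpectrum.comap ψ hirr y).asHomogeneousIdeal.toIdeal := fun h => by
  have h1 : ψ (c ^ k) ∈ y.asHomogeneousIdeal.toIdeal := h
  rw [map_pow] at h1
  exact pow_notMem ψ c hu y k h1

include hu hsurj hkerM in
theorem locModMap_eq_zero (y : ProjectiveSpectrum ℬ)
    (q : GrMod.LocMod 𝒜 (M := M) (ProjectiveSpectrum.comap ψ hirr y))
    (hq : GrMod.locModMap ψ hirr v y q = 0) : q = 0 := by
  induction q using LocalizedModule.induction_on with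
  | h m s =>
    rw [GrMod.locModMap_mk, mk_eq_zero_iff'] at hq
    obtain ⟨t, ht⟩ := hq
    obtain ⟨k, t₀, hkt⟩ := hsurj t.1
    have ht₀ : t₀ ∉ (ProjectiveSpectrum.comap ψ hirr y).asHomogeneousIdeal.toIdeal := by
      intro hmem
      have h1 : ψ t₀ ∈ y.asHomogeneousIdeal.toIdeal := hmem
      rw [← hkt] at h1
      rcases y.isPrime.mem_or_mem h1 with h2 | h2
      · exact t.2 h2
      · exact pow_notMem ψ c hu y k h2
    have h0 : v (t₀ • m) = 0 := by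
      have ht' : t.1 • v m = 0 := ht
      rw [LinearMap.map_smulₛₗ]
      change ψ t₀ • v m = 0
      rw [← hkt, mul_comm, mul_smul, ht', smul_zero]
    obtain ⟨k', hk'⟩ := hkerM _ h0
    rw [mk_eq_zero_iff']
    refine ⟨⟨c ^ k' * t₀, fun hmem => ?_⟩, ?_⟩
    · rcases (ProjectiveSpectrum.comap ψ hirr y).isPrime.mem_or_mem hmem with h2 | h2
      · exact pow_notMem_comap ψ hirr c hu y k' h2
      · exact ht₀ h2
    · change (c ^ k' * t₀) • m = 0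
      rw [mul_smul, hk']

include hu hsurj hkerM in
theorem comap_app_injective (n : ℤ) (W' : (Proj 𝒜).Opens)
    (hW' : ∀ x ∈ W', ∃ y, ProjectiveSpectrum.comap ψ hirr y = x) :
    Function.Injective ((GrMod.comap (ℳ := ℳ) (𝒩 := 𝒩) ψ hirr v hv n).app W') := by
  intro t t' htt
  apply mval_ext
  rintro ⟨x, hx⟩
  obtain ⟨y, rfl⟩ := hW' x hx
  have h1 : GrMod.locModMap ψ hirr v y (mval t ⟨_, hx⟩) =
      GrMod.locModMap ψ hirr v y (mval t' ⟨_, hx⟩) := by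
    have := congrArg (fun s => mval (U := Proj.map ψ hirr ⁻¹ᵁ W') s ⟨y, hx⟩) htt
    exact this
  have h2 := locModMap_eq_zero ψ hirr v c hu hsurj hkerM y (mval t ⟨_, hx⟩ - mval t' ⟨_, hx⟩)
    (by rw [map_sub, h1, sub_self])
  exact sub_eq_zero.mp h2

include hsurj in
theorem exists_homogeneous_lift (hc : c ∈ 𝒜 0) {i : ℕ} {b : B} (hb : b ∈ ℬ i) :
    ∃ (k : ℕ) (a : A), a ∈ 𝒜 i ∧ b * ψ c ^ k = ψ a := by
  classical
  obtain ⟨k, a, hka⟩ := hsurj b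
  have hc0 : ψ c ^ k ∈ ℬ 0 := by
    have := SetLike.pow_mem_graded k (ψ.map_mem hc)
    rwa [smul_zero] at this
  have hbi : b * ψ c ^ k ∈ ℬ i := by
    simpa only [add_zero] using SetLike.mul_mem_graded (A := ℬ) hb hc0
  refine ⟨k, (DirectSum.decompose 𝒜 a i : A), SetLike.coe_mem _, ?_⟩
  rw [GradedRingHom.map_directSumDecompose, ← hka, DirectSum.decompose_of_mem_same _ hbi]

include hv hsurjM in
theorem exists_homogeneous_liftM [DirectSum.Decomposition ℳ] [DirectSum.Decomposition 𝒩]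
    (hc : c ∈ 𝒜 0) {i : ℕ} {x : N} (hx : x ∈ 𝒩 i) :
    ∃ (k : ℕ) (m : M), m ∈ ℳ i ∧ ψ c ^ k • x = v m := by
  classical
  obtain ⟨k, m, hkm⟩ := hsurjM x
  have hc0 : ψ c ^ k ∈ ℬ 0 := by
    have := SetLike.pow_mem_graded k (ψ.map_mem hc)
    rwa [smul_zero] at this
  have hxi : ψ c ^ k • x ∈ 𝒩 i := by
    have := SetLike.GradedSMul.smul_mem hc0 hx
    rwa [vadd_eq_add, zero_add] at this
  refine ⟨k, (DirectSum.decompose ℳ m i : M), SetLike.coe_mem _, ?_⟩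
  rw [← GrModExact.coe_decompose_map ℳ 𝒩 v hv, ← hkm, DirectSum.decompose_of_mem_same _ hxi]

include hu hsurj hsurjM hkerM in
theorem comap_app_surjective [DirectSum.Decomposition ℳ] [DirectSum.Decomposition 𝒩]
    (hc : c ∈ 𝒜 0) [IsOpenImmersion (Proj.map ψ hirr)] (n : ℤ)
    (W' : (Proj 𝒜).Opens)
    (hW' : ∀ x ∈ W', ∃ y, ProjectiveSpectrum.comap ψ hirr y = x) :
    Function.Surjective ((GrMod.comap (ℳ := ℳ) (𝒩 := 𝒩) ψ hirr v hv n).app W') := by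
  classical
  intro t'
  have hloc : ∀ x : {x : Proj 𝒜 // x ∈ W'}, ∃ (N' : (Proj 𝒜).Opens) (hN : N' ≤ W')
      (τ : Γ(GrMod.tilde 𝒜 ℳ n, N')), x.1 ∈ N' ∧
      (GrMod.comap (ℳ := ℳ) (𝒩 := 𝒩) ψ hirr v hv n).app N' τ =
        res ((Scheme.Modules.pushforward (Proj.map ψ hirr)).obj (GrMod.tilde ℬ 𝒩 n)) hN t' := by
    rintro ⟨x, hx⟩
    obtain ⟨y, rfl⟩ := hW' x hx
    obtain ⟨V', hyV', hV'W, i, j', b, g, hg, hdeg, hvv⟩ :=
      isLocMFrac_mval (U := Proj.map ψ hirr ⁻¹ᵁ W') t' ⟨y, hx⟩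
    have hNW : Proj.map ψ hirr ''ᵁ V' ≤ W' := by
      rintro _ ⟨z, hz, rfl⟩
      exact hV'W hz
    have hyN : ProjectiveSpectrum.comap ψ hirr y ∈ Proj.map ψ hirr ''ᵁ V' := ⟨y, hyV', rfl⟩
    have hpre : ∀ z : Proj ℬ, z ∈ Proj.map ψ hirr ⁻¹ᵁ (Proj.map ψ hirr ''ᵁ V') → z ∈ V' := by
      intro z hz
      rwa [(Proj.map ψ hirr).preimage_image_eq] at hz
    rcases hdeg with hd | h0
    · obtain ⟨k₁, b₀, hb₀, hkb⟩ := exists_homogeneous_liftM ψ v hv c hsurjM hc b.2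
      obtain ⟨k₂, g₀, hg₀, hkg⟩ := exists_homogeneous_lift ψ c hsurj hc g.2
      have hck : ∀ k : ℕ, c ^ k ∈ 𝒜 0 := fun k => by
        have := SetLike.pow_mem_graded k hc
        rwa [smul_zero] at this
      have hb₁ : c ^ k₂ • b₀ ∈ ℳ i := by
        have := SetLike.GradedSMul.smul_mem (hck k₂) hb₀
        rwa [vadd_eq_add, zero_add] at this
      have hg₁ : g₀ * c ^ k₁ ∈ 𝒜 j' := by
        simpa only [add_zero] using SetLike.mul_mem_graded (A := 𝒜) hg₀ (hck k₁)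
      have hψb : v (c ^ k₂ • b₀) = ψ c ^ k₂ • ψ c ^ k₁ • b.1 := by
        rw [LinearMap.map_smulₛₗ, ← hkb]
        change ψ (c ^ k₂) • _ = _
        rw [map_pow]
      have hψg : ψ (g₀ * c ^ k₁) = g.1 * ψ c ^ k₂ * ψ c ^ k₁ := by
        rw [map_mul, map_pow, ← hkg]
      have hgN : ∀ x : (Proj.map ψ hirr ''ᵁ V' : (Proj 𝒜).Opens),
          g₀ * c ^ k₁ ∉ x.1.asHomogeneousIdeal := by
        rintro ⟨_, z, hz, rfl⟩ hmem
        have h1 : ψ (g₀ * c ^ k₁) ∈ z.asHomogeneousIdeal.toIdeal := hmem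
        rw [hψg] at h1
        rcases z.isPrime.mem_or_mem h1 with h2 | h2
        · rcases z.isPrime.mem_or_mem h2 with h3 | h3
          · exact hg ⟨z, hz⟩ h3
          · exact pow_notMem ψ c hu z k₂ h3
        · exact pow_notMem ψ c hu z k₁ h2
      refine ⟨Proj.map ψ hirr ''ᵁ V', hNW,
        mfrac ℳ (Proj.map ψ hirr ''ᵁ V') ⟨c ^ k₂ • b₀, hb₁⟩ ⟨g₀ * c ^ k₁, hg₁⟩ hgN n hd, hyN, ?_⟩
      apply mval_ext (U := Proj.map ψ hirr ⁻¹ᵁ (Proj.map ψ hirr ''ᵁ V'))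
      rintro ⟨z, hz⟩
      have hzV' : z ∈ V' := hpre z hz
      have e1 := hvv ⟨z, hzV'⟩
      change mval (U := Proj.map ψ hirr ⁻¹ᵁ W') t' ⟨z, _⟩ = _ at e1
      change GrMod.locModMap ψ hirr v z
          (LocalizedModule.mk (c ^ k₂ • b₀) ⟨g₀ * c ^ k₁, _⟩) =
        mval (U := Proj.map ψ hirr ⁻¹ᵁ W') t' ⟨z, _⟩
      rw [e1, GrMod.locModMap_mk, LocalizedModule.mk_eq]
      refine ⟨1, ?_⟩
      rw [one_smul, one_smul]
      change g.1 • v (c ^ k₂ • b₀) = ψ (g₀ * c ^ k₁) • b.1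
      rw [hψb, hψg, smul_smul, smul_smul, mul_assoc]
    · refine ⟨Proj.map ψ hirr ''ᵁ V', hNW, 0, hyN, ?_⟩
      rw [map_zero]
      symm
      apply mval_ext (U := Proj.map ψ hirr ⁻¹ᵁ (Proj.map ψ hirr ''ᵁ V'))
      rintro ⟨z, hz⟩
      have hzV' : z ∈ V' := hpre z hz
      have e1 := hvv ⟨z, hzV'⟩
      change mval (U := Proj.map ψ hirr ⁻¹ᵁ W') t' ⟨z, _⟩ = _ at e1
      change mval (U := Proj.map ψ hirr ⁻¹ᵁ W') t' ⟨z, _⟩ = 0
      rw [e1, h0, LocalizedModule.zero_mk]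
  choose N' hN τ hxN hτ using hloc
  have hinj : ∀ (N'' : (Proj 𝒜).Opens), N'' ≤ W' →
      Function.Injective ((GrMod.comap (ℳ := ℳ) (𝒩 := 𝒩) ψ hirr v hv n).app N'') :=
    fun N'' hN'' =>
      comap_app_injective ψ hirr v hv c hu hsurj hkerM n N'' (fun x hx => hW' x (hN'' hx))
  obtain ⟨t, ht⟩ := sec_glue (GrMod.tilde 𝒜 ℳ n) N' W' hN
    (fun x hx => Opens.mem_iSup.mpr ⟨⟨x, hx⟩, hxN ⟨x, hx⟩⟩) τ (by
      intro x x'
      apply hinj (N' x ⊓ N' x') (inf_le_left.trans (hN x))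
      rw [QCExact.app_res', QCExact.app_res', hτ x, hτ x', res_res, res_res])
  refine ⟨t, ?_⟩
  refine sec_eq_of_locally_eq
    ((Scheme.Modules.pushforward (Proj.map ψ hirr)).obj (GrMod.tilde ℬ 𝒩 n)) N' W' hN
    (fun x hx => Opens.mem_iSup.mpr ⟨⟨x, hx⟩, hxN ⟨x, hx⟩⟩) _ _ (fun x => ?_)
  rw [← QCExact.app_res', ht x, hτ x]

include hu hsurj hsurjM hkerM in
theorem comap_app_bijective [DirectSum.Decomposition ℳ] [DirectSum.Decomposition 𝒩]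
    (hc : c ∈ 𝒜 0) [IsOpenImmersion (Proj.map ψ hirr)] (n : ℤ)
    (W' : (Proj 𝒜).Opens)
    (hW' : ∀ x ∈ W', ∃ y, ProjectiveSpectrum.comap ψ hirr y = x) :
    Function.Bijective ((GrMod.comap (ℳ := ℳ) (𝒩 := 𝒩) ψ hirr v hv n).app W') :=
  ⟨comap_app_injective ψ hirr v hv c hu hsurj hkerM n W' hW',
    comap_app_surjective ψ hirr v hv c hu hsurj hsurjM hkerM hc n W' hW'⟩

end Groth.Agent.Lib.Helper3.GrModLoc
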