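import Groth.Agent.Lib.Helper3.GrModExact

/-!
# `GrMod.map` on `D₊(f)` under (TN) hypotheses
-/

set_option autoImplicit false
set_option linter.unusedSectionVars false
universe u
open CategoryTheory CategoryTheory.Limits AlgebraicGeometry TopologicalSpace Opposite

namespace Groth.Agent.Lib.Helper3.GrModTN

open GrModSec GrModExact

variable {A σ : Type u} [CommRing A] [SetLike σ A] [AddSubgroupClass σ A] (𝒜 : ℕ → σ) [GradedRing 𝒜]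
  {M τ : Type u} [AddCommGroup M] [Module A M] [SetLike τ M] [AddSubgroupClass τ M]
  (ℳ : ℕ → τ) [SetLike.GradedSMul 𝒜 ℳ] [DirectSum.Decomposition ℳ]
  {N τ' : Type u} [AddCommGroup N] [Module A N] [SetLike τ' N] [AddSubgroupClass τ' N]
  (𝒩 : ℕ → τ') [SetLike.GradedSMul 𝒜 𝒩] [DirectSum.Decomposition 𝒩]

theorem pow_mem_graded' {d : ℕ} {f : A} (hf : f ∈ 𝒜 d) (k : ℕ) : f ^ k ∈ 𝒜 (k * d) := by
  have := SetLike.pow_mem_graded k hf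
  rwa [smul_eq_mul] at this

theorem mk_pow_smul {f : A} (x : Proj.basicOpen 𝒜 f) (m : M) (k K : ℕ) :
    (LocalizedModule.mk m ⟨f ^ k, pow_notMem k x⟩ :
      LocalizedModule x.1.asHomogeneousIdeal.toIdeal.primeCompl M) =
      LocalizedModule.mk (f ^ K • m) ⟨f ^ (K + k), pow_notMem (K + k) x⟩ := by
  rw [LocalizedModule.mk_eq]
  refine ⟨1, ?_⟩
  rw [one_smul, one_smul]
  change f ^ (K + k) • m = f ^ k • f ^ K • m
  rw [smul_smul, pow_add, mul_comm]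

/-- exactness over an open equal to `D₊(f)` -/
theorem map_app_exact_of_eq
    {M₃ τ₃ : Type u} [AddCommGroup M₃] [Module A M₃] [SetLike τ₃ M₃] [AddSubgroupClass τ₃ M₃]
    (ℳ₃ : ℕ → τ₃) [SetLike.GradedSMul 𝒜 ℳ₃] [DirectSum.Decomposition ℳ₃]
    (u : M →ₗ[A] N) (hu : ∀ (i : ℕ) (m : M), m ∈ ℳ i → u m ∈ 𝒩 i)
    (v : N →ₗ[A] M₃) (hv : ∀ (i : ℕ) (m : N), m ∈ 𝒩 i → v m ∈ ℳ₃ i)
    (hex : Function.Exact u v) (n : ℤ) {d : ℕ} (hd : 0 < d) (f : A) (hf : f ∈ 𝒜 d)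
    (V : (Proj 𝒜).Opens) (hV : V = Proj.basicOpen 𝒜 f) :
    Function.Exact ((GrMod.map 𝒜 u hu n).app V) ((GrMod.map 𝒜 v hv n).app V) := by
  subst hV
  exact map_app_basicOpen_exact 𝒜 ℳ 𝒩 ℳ₃ u hu v hv hex n hd f hf

/-- under (TN), all sections over `D₊(f)` vanish -/
theorem eq_zero_of_tn (n₀ : ℕ) (hTN : ∀ k, n₀ ≤ k → ∀ m ∈ ℳ k, m = 0) (n : ℤ) {d : ℕ}
    (hd : 0 < d) (f : A) (hf : f ∈ 𝒜 d) (V : (Proj 𝒜).Opens) (hV : V = Proj.basicOpen 𝒜 f)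
    (s : Γ(GrMod.tilde 𝒜 ℳ n, V)) : s = 0 := by
  subst hV
  obtain ⟨k, i, m, hi, hform⟩ := exists_val_eq (𝒜 := 𝒜) (ℳ := ℳ) n hd hf s
  have hmem : f ^ n₀ • m.1 ∈ ℳ (n₀ * d + i) :=
    SetLike.GradedSMul.smul_mem (pow_mem_graded' 𝒜 hf n₀) m.2
  have h0 : f ^ n₀ • m.1 = 0 :=
    hTN _ ((Nat.le_mul_of_pos_right n₀ hd).trans (Nat.le_add_right _ _)) _ hmem
  refine val_ext (fun x => ?_)
  rw [hform x (pow_notMem k x), val_zero, mk_pow_smul 𝒜 x m.1 k n₀, h0, LocalizedModule.zero_mk]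

variable (u : M →ₗ[A] N) (hu : ∀ (i : ℕ) (m : M), m ∈ ℳ i → u m ∈ 𝒩 i)

/-- a (TN)-injective homomorphism is injective on sections over `D₊(f)` -/
theorem map_app_eq_zero_of_tn (n₀ : ℕ)
    (hinj : ∀ k, n₀ ≤ k → ∀ m ∈ ℳ k, u m = 0 → m = 0) (n : ℤ) {d : ℕ}
    (hd : 0 < d) (f : A) (hf : f ∈ 𝒜 d) (V : (Proj 𝒜).Opens) (hV : V = Proj.basicOpen 𝒜 f)
    (s : Γ(GrMod.tilde 𝒜 ℳ n, V)) (hs : (GrMod.map 𝒜 u hu n).app V s = 0) : s = 0 := by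
  classical
  subst hV
  have hfirr : f ∈ (HomogeneousIdeal.irrelevant 𝒜).toIdeal :=
    HomogeneousIdeal.mem_irrelevant_of_mem 𝒜 hd hf
  obtain ⟨k, i, m, hi, hform⟩ := exists_val_eq (𝒜 := 𝒜) (ℳ := ℳ) n hd hf s
  have hloc : ∀ x : ProjectiveSpectrum 𝒜, f ∉ x.asHomogeneousIdeal.toIdeal →
      ∃ c : A, c ∉ x.asHomogeneousIdeal.toIdeal ∧ c • u m.1 = 0 := by
    intro x hx
    have hxU : x ∈ Proj.basicOpen 𝒜 f := (ProjectiveSpectrum.mem_basicOpen 𝒜 f x).mpr hx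
    have hk : f ^ k ∉ x.asHomogeneousIdeal.toIdeal := fun h => hx (x.isPrime.mem_of_pow_mem k h)
    have e1 : GrMod.val ((GrMod.map 𝒜 u hu n).app (Proj.basicOpen 𝒜 f) s) ⟨x, hxU⟩ = 0 := by
      rw [hs]; rfl
    rw [GrMod.map_app_val, hform ⟨x, hxU⟩ hk, GrMod.locMap_mk,
      ← LocalizedModule.zero_mk (⟨f ^ k, hk⟩ : x.asHomogeneousIdeal.toIdeal.primeCompl),
      LocalizedModule.mk_eq] at e1
    obtain ⟨c, hc⟩ := e1
    refine ⟨(c : A) * f ^ k, fun hmem => ?_, ?_⟩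
    · rcases x.isPrime.mem_or_mem hmem with h | h
      · exact c.2 h
      · exact hk h
    · have hc' : (c : A) • (f ^ k) • u m.1 = (c : A) • (f ^ k) • (0 : N) := hc
      rw [mul_smul, hc', smul_zero, smul_zero]
  obtain ⟨K, hK⟩ := exists_pow_smul_eq_zero_of_locally_killed 𝒜 𝒩 hfirr (hu i m.1 m.2) hloc
  have hmem : f ^ (n₀ + K) • m.1 ∈ ℳ ((n₀ + K) * d + i) :=
    SetLike.GradedSMul.smul_mem (pow_mem_graded' 𝒜 hf (n₀ + K)) m.2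
  have hle : n₀ ≤ (n₀ + K) * d + i :=
    ((Nat.le_add_right n₀ K).trans (Nat.le_mul_of_pos_right _ hd)).trans (Nat.le_add_right _ _)
  have hker : u (f ^ (n₀ + K) • m.1) = 0 := by
    rw [map_smul, pow_add, mul_smul, hK, smul_zero]
  have h0 : f ^ (n₀ + K) • m.1 = 0 := hinj _ hle _ hmem hker
  refine val_ext (fun x => ?_)
  rw [hform x (pow_notMem k x), val_zero, mk_pow_smul 𝒜 x m.1 k (n₀ + K), h0,
    LocalizedModule.zero_mk]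

/-- a (TN)-surjective homomorphism is surjective on sections over `D₊(f)` -/
theorem map_app_surjective_of_tn (n₀ : ℕ)
    (hsurj : ∀ k, n₀ ≤ k → ∀ m' ∈ 𝒩 k, ∃ m ∈ ℳ k, u m = m') (n : ℤ) {d : ℕ}
    (hd : 0 < d) (f : A) (hf : f ∈ 𝒜 d) (V : (Proj 𝒜).Opens) (hV : V = Proj.basicOpen 𝒜 f) :
    Function.Surjective ((GrMod.map 𝒜 u hu n).app V) := by
  subst hV
  intro t
  obtain ⟨k, i, m', hi, hform⟩ := exists_val_eq (𝒜 := 𝒜) (ℳ := 𝒩) n hd hf t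
  have hmem : f ^ n₀ • m'.1 ∈ 𝒩 (n₀ * d + i) :=
    SetLike.GradedSMul.smul_mem (pow_mem_graded' 𝒜 hf n₀) m'.2
  obtain ⟨m, hm, hum⟩ := hsurj _
    ((Nat.le_mul_of_pos_right n₀ hd).trans (Nat.le_add_right _ _)) _ hmem
  have hdeg : ((n₀ * d + i : ℕ) : ℤ) = (((n₀ + k) * d : ℕ) : ℤ) + n := by
    push_cast
    rw [hi]
    ring
  refine ⟨mfrac ℳ (Proj.basicOpen 𝒜 f) ⟨m, hm⟩ ⟨f ^ (n₀ + k), pow_mem_graded' 𝒜 hf (n₀ + k)⟩
    (fun x => pow_notMem (n₀ + k) x) n hdeg, ?_⟩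
  refine val_ext (fun x => ?_)
  rw [GrMod.map_app_val, val_mfrac, GrMod.locMap_mk, hform x (pow_notMem k x),
    mk_pow_smul 𝒜 x m'.1 k n₀]
  exact congrArg (fun z => LocalizedModule.mk z _) hum

end Groth.Agent.Lib.Helper3.GrModTN
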