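import Groth.Agent.Lib.Helper3.QCAlgSub
import Groth.Agent.Lib.Helper3.QCProps
import Groth.Prelude.Def_RelProj

/-!
# The graded subalgebra of a quasi-coherent graded algebra generated by a submodule of degree `n`
-/

set_option autoImplicit false
set_option linter.unusedSectionVars false
universe u
open CategoryTheory CategoryTheory.Limits AlgebraicGeometry TopologicalSpace Opposite
open Scheme.Modules

namespace Groth.Agent.Lib.Helper3.GrSubAlg

open QCSec QCAlgGen QCAlgSub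

section Alg

variable {A : Type u} [CommRing A] (𝒜 : ℕ → AddSubgroup A) [GradedRing 𝒜]

/-- the homogeneous components of an element of the subring generated by homogeneous elements
lie in a multiplicative family of subgroups containing the generators -/
theorem proj_mem_of_closure (M : ℕ → AddSubgroup A) (hone : (1 : A) ∈ M 0)
    (hmul : ∀ (i j : ℕ) (a b : A), a ∈ M i → b ∈ M j → a * b ∈ M (i + j))
    (s : Set A) (hs : ∀ x ∈ s, ∃ d, x ∈ 𝒜 d ∧ x ∈ M d) {x : A} (hx : x ∈ Subring.closure s)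
    (d : ℕ) : GradedRing.proj 𝒜 d x ∈ M d := by
  classical
  induction hx using Subring.closure_induction generalizing d with
  | mem y hy =>
    obtain ⟨e, hye, hyM⟩ := hs y hy
    rw [GradedRing.proj_apply]
    by_cases hde : e = d
    · subst hde
      rw [DirectSum.decompose_of_mem_same 𝒜 hye]
      exact hyM
    · rw [DirectSum.decompose_of_mem_ne 𝒜 hye hde]
      exact zero_mem _
  | zero =>
    rw [map_zero]
    exact zero_mem _
  | one =>
    rw [GradedRing.proj_apply]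
    by_cases hd : 0 = d
    · subst hd
      rw [DirectSum.decompose_of_mem_same 𝒜 SetLike.GradedOne.one_mem]
      exact hone
    · rw [DirectSum.decompose_of_mem_ne 𝒜 SetLike.GradedOne.one_mem hd]
      exact zero_mem _
  | add y z _ _ hy hz =>
    rw [map_add]
    exact add_mem (hy d) (hz d)
  | neg y _ hy =>
    rw [map_neg]
    exact neg_mem (hy d)
  | mul y z _ _ hy hz =>
    rw [GradedRing.proj_apply, DirectSum.decompose_mul, DirectSum.mul_eq_dfinsuppSum]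
    rw [DFinsupp.sum_apply, DFinsupp.sum, AddSubmonoidClass.coe_finsetSum]
    refine sum_mem fun j _ ↦ ?_
    rw [DFinsupp.sum_apply, DFinsupp.sum, AddSubmonoidClass.coe_finsetSum]
    refine sum_mem fun k _ ↦ ?_
    by_cases h : j + k = d
    · subst h
      rw [DirectSum.of_eq_same]
      have := hmul j k _ _ (hy j) (hz k)
      rw [GradedRing.proj_apply, GradedRing.proj_apply] at this
      exact this
    · rw [DirectSum.of_eq_of_ne _ _ _ (fun e => h e.symm)]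
      exact zero_mem _

/-- the subring generated by homogeneous elements is homogeneous -/
theorem decompose_mem_closure (s : Set A) (hs : ∀ x ∈ s, ∃ d, x ∈ 𝒜 d) {x : A}
    (hx : x ∈ Subring.closure s) (d : ℕ) :
    (DirectSum.decompose 𝒜 x d : A) ∈ Subring.closure s := by
  have := proj_mem_of_closure 𝒜 (fun _ => (Subring.closure s).toAddSubgroup)
    (Subring.closure s).one_mem (fun i j a b ha hb => (Subring.closure s).mul_mem ha hb) s
    (fun x hx => by
      obtain ⟨d, hd⟩ := hs x hx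
      exact ⟨d, hd, Subring.subset_closure hx⟩) hx d
  rwa [GradedRing.proj_apply] at this

/-- degree `0` in `P`, degree `n` in `Q`, nothing strictly in between -/
def Mfam (P Q : AddSubgroup A) (n d : ℕ) : AddSubgroup A :=
  if d = 0 then P else if d = n then Q else if d < n then ⊥ else ⊤

theorem Mfam_zero (P Q : AddSubgroup A) (n : ℕ) : Mfam P Q n 0 = P := if_pos rfl

theorem Mfam_self (P Q : AddSubgroup A) {n : ℕ} (hn : 0 < n) : Mfam P Q n n = Q := by
  unfold Mfam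
  rw [if_neg hn.ne', if_pos rfl]

theorem Mfam_lt (P Q : AddSubgroup A) {n d : ℕ} (hd : 0 < d) (hdn : d < n) :
    Mfam P Q n d = ⊥ := by
  unfold Mfam
  rw [if_neg hd.ne', if_neg hdn.ne, if_pos hdn]

theorem Mfam_gt (P Q : AddSubgroup A) {n d : ℕ} (hn : 0 < n) (hdn : n < d) :
    Mfam P Q n d = ⊤ := by
  unfold Mfam
  rw [if_neg (by omega), if_neg hdn.ne', if_neg (by omega)]

theorem Mfam_mul {P Q : AddSubgroup A} {n : ℕ} (hn : 0 < n)
    (hPP : ∀ a b, a ∈ P → b ∈ P → a * b ∈ P) (hPQ : ∀ a b, a ∈ P → b ∈ Q → a * b ∈ Q)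
    (i j : ℕ) (a b : A) (ha : a ∈ Mfam P Q n i) (hb : b ∈ Mfam P Q n j) :
    a * b ∈ Mfam P Q n (i + j) := by
  have key : ∀ (j : ℕ) (a b : A), a ∈ P → b ∈ Mfam P Q n j → a * b ∈ Mfam P Q n j := by
    clear ha hb
    intro j a b ha hb
    rcases Nat.eq_zero_or_pos j with rfl | hj
    · rw [Mfam_zero] at hb ⊢
      exact hPP a b ha hb
    · rcases lt_trichotomy j n with hlt | heq | hgt
      · rw [Mfam_lt P Q hj hlt] at hb ⊢
        rw [AddSubgroup.mem_bot] at hb ⊢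
        rw [hb, mul_zero]
      · rw [heq, Mfam_self P Q hn] at hb ⊢
        exact hPQ a b ha hb
      · rw [Mfam_gt P Q hn hgt]
        exact AddSubgroup.mem_top _
  rcases Nat.eq_zero_or_pos i with rfl | hi
  · rw [zero_add]
    rw [Mfam_zero] at ha
    exact key j a b ha hb
  · rcases Nat.eq_zero_or_pos j with rfl | hj
    · rw [add_zero, mul_comm]
      rw [Mfam_zero] at hb
      exact key i b a hb ha
    · by_cases hin : i < n
      · rw [Mfam_lt P Q hi hin, AddSubgroup.mem_bot] at ha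
        rw [ha, zero_mul]
        exact zero_mem _
      · rw [Mfam_gt P Q hn (by omega)]
        exact AddSubgroup.mem_top _

variable {R₀ M₀ : Type u} [CommRing R₀] [AddCommGroup M₀] [Module R₀ M₀] (φ : R₀ →+* A)
  (ψ : M₀ →+ A)

theorem proj_mem_Mfam {n : ℕ} (hn : 0 < n) (hψsmul : ∀ r m, ψ (r • m) = φ r * ψ m)
    (hφ : ∀ r, φ r ∈ 𝒜 0) (hψ : ∀ m, ψ m ∈ 𝒜 n) {x : A}
    (hx : x ∈ Subring.closure (Set.range φ ∪ Set.range ψ)) (d : ℕ) :
    GradedRing.proj 𝒜 d x ∈ Mfam φ.range.toAddSubgroup ψ.range n d := by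
  have hP : ∀ a, a ∈ φ.range.toAddSubgroup ↔ ∃ r, φ r = a := fun a => Iff.rfl
  have hQ : ∀ a, a ∈ ψ.range ↔ ∃ m, ψ m = a := fun a => Iff.rfl
  refine proj_mem_of_closure 𝒜 _ ?_ (Mfam_mul hn ?_ ?_) _ ?_ hx d
  · rw [Mfam_zero]
    exact (hP 1).mpr ⟨1, map_one φ⟩
  · intro a b ha hb
    obtain ⟨r, rfl⟩ := (hP a).mp ha
    obtain ⟨r', rfl⟩ := (hP b).mp hb
    exact (hP _).mpr ⟨r * r', map_mul φ r r'⟩
  · intro a b ha hb
    obtain ⟨r, rfl⟩ := (hP a).mp ha
    obtain ⟨m, rfl⟩ := (hQ b).mp hb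
    exact (hQ _).mpr ⟨r • m, hψsmul r m⟩
  · rintro y (⟨r, rfl⟩ | ⟨m, rfl⟩)
    · refine ⟨0, hφ r, ?_⟩
      rw [Mfam_zero]
      exact (hP _).mpr ⟨r, rfl⟩
    · refine ⟨n, hψ m, ?_⟩
      rw [Mfam_self _ _ hn]
      exact (hQ _).mpr ⟨m, rfl⟩

theorem exists_of_mem_zero {n : ℕ} (hn : 0 < n) (hψsmul : ∀ r m, ψ (r • m) = φ r * ψ m)
    (hφ : ∀ r, φ r ∈ 𝒜 0) (hψ : ∀ m, ψ m ∈ 𝒜 n) {x : A}
    (hx : x ∈ Subring.closure (Set.range φ ∪ Set.range ψ)) (hx0 : x ∈ 𝒜 0) :
    ∃ r, φ r = x := by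
  have h := proj_mem_Mfam 𝒜 φ ψ hn hψsmul hφ hψ hx 0
  rw [Mfam_zero, GradedRing.proj_apply, DirectSum.decompose_of_mem_same 𝒜 hx0] at h
  exact h

theorem exists_of_mem_n {n : ℕ} (hn : 0 < n) (hψsmul : ∀ r m, ψ (r • m) = φ r * ψ m)
    (hφ : ∀ r, φ r ∈ 𝒜 0) (hψ : ∀ m, ψ m ∈ 𝒜 n) {x : A}
    (hx : x ∈ Subring.closure (Set.range φ ∪ Set.range ψ)) (hxn : x ∈ 𝒜 n) :
    ∃ m, ψ m = x := by
  have h := proj_mem_Mfam 𝒜 φ ψ hn hψsmul hφ hψ hx n
  rw [Mfam_self _ _ hn, GradedRing.proj_apply, DirectSum.decompose_of_mem_same 𝒜 hxn] at h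
  exact h

variable (R : Subring A)

/-- the induced grading on a subring -/
def subDeg (d : ℕ) : AddSubgroup R := (𝒜 d).comap R.subtype.toAddMonoidHom

theorem mem_subDeg {d : ℕ} {x : R} : x ∈ subDeg 𝒜 R d ↔ (x : A) ∈ 𝒜 d := Iff.rfl

instance gradedMonoid_sub : SetLike.GradedMonoid (subDeg 𝒜 R) where
  one_mem := (SetLike.GradedOne.one_mem : (1 : A) ∈ 𝒜 0)
  mul_mem := fun _ _ _ _ ha hb => (SetLike.GradedMul.mul_mem ha hb : _ * _ ∈ 𝒜 _)

theorem isInternal_sub (hR : ∀ x ∈ R, ∀ d, (DirectSum.decompose 𝒜 x d : A) ∈ R) :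
    DirectSum.IsInternal (subDeg 𝒜 R) := by
  classical
  have hcomp : ∀ (z : DirectSum ℕ (fun i => subDeg 𝒜 R i)) (i : ℕ),
      (DirectSum.decompose 𝒜 ((DirectSum.coeAddMonoidHom (subDeg 𝒜 R) z : R) : A) i : A) =
        ((z i : R) : A) := by
    intro z i
    induction z using DirectSum.induction_on with
    | zero => simp
    | of k x =>
      rw [DirectSum.coeAddMonoidHom_of]
      by_cases hki : k = i
      · subst hki
        rw [DirectSum.decompose_of_mem_same 𝒜 (show ((x : R) : A) ∈ 𝒜 k from x.2),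
          DirectSum.of_eq_same]
      · rw [DirectSum.decompose_of_mem_ne 𝒜 (show ((x : R) : A) ∈ 𝒜 k from x.2) hki,
          DirectSum.of_eq_of_ne _ _ _ (fun e => hki e.symm)]
        rfl
    | add z z' hz hz' =>
      rw [map_add, Subring.coe_add, DirectSum.decompose_add, DirectSum.add_apply,
        AddMemClass.coe_add, hz, hz', DirectSum.add_apply]
      rfl
  constructor
  · intro z z' h
    refine DFinsupp.ext (fun i => Subtype.ext (Subtype.ext ?_))
    rw [← hcomp z i, ← hcomp z' i, h]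
  · intro x
    refine ⟨∑ i ∈ (DirectSum.decompose 𝒜 (x : A)).support,
      DirectSum.of (fun i => subDeg 𝒜 R i) i
        ⟨⟨(DirectSum.decompose 𝒜 (x : A) i : A), hR x x.2 i⟩,
          (mem_subDeg 𝒜 R).mpr (SetLike.coe_mem _)⟩, ?_⟩
    apply Subtype.ext
    rw [map_sum]
    simp only [DirectSum.coeAddMonoidHom_of]
    rw [AddSubmonoidClass.coe_finsetSum]
    exact DirectSum.sum_support_decompose 𝒜 (x : A)

/-- the induced grading on a homogeneous subring -/
@[instance_reducible]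
noncomputable def gradedSub (hR : ∀ x ∈ R, ∀ d, (DirectSum.decompose 𝒜 x d : A) ∈ R) :
    GradedRing (subDeg 𝒜 R) :=
  { gradedMonoid_sub 𝒜 R, (isInternal_sub 𝒜 R hR).chooseDecomposition with }

theorem closure_preimage_eq_top (R : Subring A) (s : Set A) (h : R = Subring.closure s) :
    Subring.closure (((↑) : R → A) ⁻¹' s) = ⊤ := by
  subst h
  rw [eq_top_iff]
  rintro ⟨x, hx⟩ -
  induction hx using Subring.closure_induction with
  | mem y hy => exact Subring.subset_closure hy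
  | zero => exact zero_mem _
  | one => exact one_mem _
  | add y z hy hz hy' hz' => exact add_mem hy' hz'
  | neg y hy hy' => exact neg_mem hy'
  | mul y z hy hz hy' hz' => exact mul_mem hy' hz'

end Alg

section Sch

variable {Y : Scheme.{u}} (𝒮 : RelProj.QCGrAlg Y) {E : Y.Modules} [E.IsQuasicoherent]
  (j : E ⟶ 𝒮.toQCAlg.toModule) {n : ℕ}
  (hjn : ∀ (U : Y.Opens) (hU : IsAffineOpen U) (e : Γ(E, U)),
    jmap 𝒮.toQCAlg j U e ∈ 𝒮.deg U hU n)

/-- `jmap` as an additive homomorphism -/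
noncomputable def jAdd (U : Y.Opens) : Γ(E, U) →+ 𝒮.presheaf.obj (op U) :=
  AddMonoidHom.mk' (jmap 𝒮.toQCAlg j U) (QCAlgSub.jmap_add 𝒮.toQCAlg j U)

theorem genSubring_eq (U : Y.Opens) :
    genSubring 𝒮.toQCAlg j U =
      Subring.closure (Set.range (𝒮.str.app (op U)).hom ∪ Set.range (jAdd 𝒮 j U)) := rfl

include hjn in
theorem homog {U : Y.Opens} (hU : IsAffineOpen U) :
    ∀ x ∈ locSub 𝒮.toQCAlg j U, ∀ d,
      (DirectSum.decompose (𝒮.deg U hU) x d : 𝒮.presheaf.obj (op U)) ∈ locSub 𝒮.toQCAlg j U := by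
  rw [locSub_eq_genSubring 𝒮.toQCAlg j hU, genSubring_eq]
  intro x hx d
  refine decompose_mem_closure (𝒮.deg U hU) _ ?_ hx d
  rintro y (⟨r, rfl⟩ | ⟨e, rfl⟩)
  · exact ⟨0, 𝒮.str_mem U hU r⟩
  · exact ⟨n, hjn U hU e⟩

/-- the graded subalgebra generated by a submodule of degree `n` -/
noncomputable def grSub : RelProj.QCGrAlg Y where
  toQCAlg := subAlg 𝒮.toQCAlg j
  deg U hU d := subDeg (𝒮.deg U hU) (locSub 𝒮.toQCAlg j U) d
  graded U hU := gradedSub (𝒮.deg U hU) (locSub 𝒮.toQCAlg j U) (homog 𝒮 j hjn hU)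
  map_mem := fun {U V} hU hV i {d x} hx => 𝒮.map_mem hU hV i hx
  str_mem := fun U hU r => 𝒮.str_mem U hU r

/-- the inclusion of the graded subalgebra -/
noncomputable def grIncl : (grSub 𝒮 j hjn).toQCAlg ⟶ 𝒮.toQCAlg := subIncl 𝒮.toQCAlg j

theorem grIncl_graded : RelProj.IsGradedHom (grIncl 𝒮 j hjn) := fun _ _ _ _ hx => hx

theorem grIncl_injective (U : Y.Opens) :
    Function.Injective ((grIncl 𝒮 j hjn).hom.app (op U)).hom :=
  fun a b h => subVal_ext 𝒮.toQCAlg j a b h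

theorem mem_deg_iff {U : Y.Opens} (hU : IsAffineOpen U) {d : ℕ}
    (x : (grSub 𝒮 j hjn).presheaf.obj (op U)) :
    x ∈ (grSub 𝒮 j hjn).deg U hU d ↔
      ((grIncl 𝒮 j hjn).hom.app (op U)).hom x ∈ 𝒮.deg U hU d := Iff.rfl

theorem grIncl_str (U : Y.Opens) (r : Γ(Y, U)) :
    ((grIncl 𝒮 j hjn).hom.app (op U)).hom (((grSub 𝒮 j hjn).str.app (op U)).hom r) =
      (𝒮.str.app (op U)).hom r := rfl

theorem grIncl_mem {U : Y.Opens} (hU : IsAffineOpen U) (x : (grSub 𝒮 j hjn).presheaf.obj (op U)) :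
    ((grIncl 𝒮 j hjn).hom.app (op U)).hom x ∈
      Subring.closure (Set.range (𝒮.str.app (op U)).hom ∪ Set.range (jAdd 𝒮 j U)) := by
  have h := subVal_mem 𝒮.toQCAlg j x
  rw [locSub_eq_genSubring 𝒮.toQCAlg j hU, genSubring_eq] at h
  exact h

/-- the sections of the generating module, as sections of the subalgebra -/
noncomputable def el (U : Y.Opens) (e : Γ(E, U)) : (grSub 𝒮 j hjn).presheaf.obj (op U) :=
  subMk 𝒮.toQCAlg j (jmap 𝒮.toQCAlg j U e)
    (genSubring_le_locSub 𝒮.toQCAlg j U (jmap_mem 𝒮.toQCAlg j U e))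

theorem grIncl_el (U : Y.Opens) (e : Γ(E, U)) :
    ((grIncl 𝒮 j hjn).hom.app (op U)).hom (el 𝒮 j hjn U e) = jmap 𝒮.toQCAlg j U e := rfl

theorem el_mem {U : Y.Opens} (hU : IsAffineOpen U) (e : Γ(E, U)) :
    el 𝒮 j hjn U e ∈ (grSub 𝒮 j hjn).deg U hU n := hjn U hU e

variable (hn : 0 < n)

include hn in
theorem deg_zero_eq {U : Y.Opens} (hU : IsAffineOpen U) :
    (((grSub 𝒮 j hjn).deg U hU 0 : AddSubgroup ((grSub 𝒮 j hjn).presheaf.obj (op U))) :
        Set ((grSub 𝒮 j hjn).presheaf.obj (op U))) =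
      Set.range ((grSub 𝒮 j hjn).str.app (op U)).hom := by
  ext x
  constructor
  · intro hx
    have hx0 : ((grIncl 𝒮 j hjn).hom.app (op U)).hom x ∈ 𝒮.deg U hU 0 := hx
    obtain ⟨r, hr⟩ := exists_of_mem_zero (𝒮.deg U hU) (𝒮.str.app (op U)).hom (jAdd 𝒮 j U) hn
      (jmap_smul 𝒮.toQCAlg j U) (𝒮.str_mem U hU) (hjn U hU) (grIncl_mem 𝒮 j hjn hU x) hx0
    exact ⟨r, grIncl_injective 𝒮 j hjn U hr⟩
  · rintro ⟨r, rfl⟩
    exact 𝒮.str_mem U hU r

include hn in
theorem exists_el_eq {U : Y.Opens} (hU : IsAffineOpen U)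
    {x : (grSub 𝒮 j hjn).presheaf.obj (op U)} (hx : x ∈ (grSub 𝒮 j hjn).deg U hU n) :
    ∃ e : Γ(E, U), el 𝒮 j hjn U e = x := by
  have hxn : ((grIncl 𝒮 j hjn).hom.app (op U)).hom x ∈ 𝒮.deg U hU n := hx
  obtain ⟨e, he⟩ := exists_of_mem_n (𝒮.deg U hU) (𝒮.str.app (op U)).hom (jAdd 𝒮 j U) hn
    (jmap_smul 𝒮.toQCAlg j U) (𝒮.str_mem U hU) (hjn U hU) (grIncl_mem 𝒮 j hjn hU x) hxn
  exact ⟨e, grIncl_injective 𝒮 j hjn U he⟩

theorem closure_eq_top {U : Y.Opens} (hU : IsAffineOpen U) :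
    Subring.closure
      ((((grSub 𝒮 j hjn).deg U hU 0 : AddSubgroup ((grSub 𝒮 j hjn).presheaf.obj (op U))) :
          Set ((grSub 𝒮 j hjn).presheaf.obj (op U))) ∪
        (((grSub 𝒮 j hjn).deg U hU n : AddSubgroup ((grSub 𝒮 j hjn).presheaf.obj (op U))) :
          Set ((grSub 𝒮 j hjn).presheaf.obj (op U)))) = ⊤ := by
  have h := closure_preimage_eq_top (locSub 𝒮.toQCAlg j U)
    (Set.range (𝒮.str.app (op U)).hom ∪ Set.range (jAdd 𝒮 j U))
    (locSub_eq_genSubring 𝒮.toQCAlg j hU)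
  refine eq_top_iff.mpr (le_trans (le_of_eq h.symm) (Subring.closure_mono ?_))
  rintro x (⟨r, hr⟩ | ⟨e, he⟩)
  · left
    show ((grIncl 𝒮 j hjn).hom.app (op U)).hom x ∈ 𝒮.deg U hU 0
    have hr' : (𝒮.str.app (op U)).hom r = ((grIncl 𝒮 j hjn).hom.app (op U)).hom x := hr
    rw [← hr']
    exact 𝒮.str_mem U hU r
  · right
    show ((grIncl 𝒮 j hjn).hom.app (op U)).hom x ∈ 𝒮.deg U hU n
    have he' : jmap 𝒮.toQCAlg j U e = ((grIncl 𝒮 j hjn).hom.app (op U)).hom x := he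
    rw [← he']
    exact hjn U hU e

include hn in
theorem isFTDeg [E.IsFiniteType] : (grSub 𝒮 j hjn).IsFTDeg n := by
  classical
  intro U hU
  haveI : Module.Finite Γ(Y, U) Γ(E, U) := QCProps.finite_sections E hU
  obtain ⟨T, hT⟩ := (Module.Finite.fg_top : (⊤ : Submodule Γ(Y, U) Γ(E, U)).FG)
  refine ⟨T.image (el 𝒮 j hjn U), ?_, ?_⟩
  · intro x hx
    obtain ⟨e, -, rfl⟩ := Finset.mem_image.mp hx
    exact el_mem 𝒮 j hjn hU e
  · intro x hx
    obtain ⟨e, rfl⟩ := exists_el_eq 𝒮 j hjn hn hU hx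
    have he : e ∈ Submodule.span Γ(Y, U) (T : Set Γ(E, U)) := by
      rw [hT]
      trivial
    obtain ⟨c, hc⟩ := (Submodule.mem_span_finset).mp he
    have hx' : el 𝒮 j hjn U e =
        ∑ t ∈ T, ((grSub 𝒮 j hjn).str.app (op U)).hom (c t) * el 𝒮 j hjn U t := by
      apply grIncl_injective 𝒮 j hjn U
      rw [map_sum]
      simp only [map_mul, grIncl_str, grIncl_el]
      rw [← hc.2]
      change (j.app U).hom (∑ t ∈ T, c t • t) = _
      rw [map_sum]
      exact Finset.sum_congr rfl (fun t _ => jmap_smul 𝒮.toQCAlg j U (c t) t)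
    refine ⟨fun y => ∑ t ∈ T.filter (fun t => el 𝒮 j hjn U t = y), c t, ?_⟩
    rw [hx']
    symm
    refine Finset.sum_image'
      (fun t => ((grSub 𝒮 j hjn).str.app (op U)).hom (c t) * el 𝒮 j hjn U t) (fun t _ => ?_)
    rw [map_sum, Finset.sum_mul]
    refine Finset.sum_congr rfl (fun t' ht' => ?_)
    rw [(Finset.mem_filter.mp ht').2]

end Sch

end Groth.Agent.Lib.Helper3.GrSubAlg
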