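import Groth.Agent.Lib.Helper3.ProjFrac

/-!
# Morphisms `M~ ⟶ F` on `Proj` from dehomogenization data
-/

set_option autoImplicit false
set_option linter.unusedSectionVars false
universe u
open CategoryTheory CategoryTheory.Limits AlgebraicGeometry TopologicalSpace Opposite
open Scheme.Modules

namespace Groth.Agent.Lib.Helper3.GrTildeHom

open QCSec InvGen TwistBasic GrTildeQC ProjFrac HomMk

variable {R A : Type u} [CommRing R] [CommRing A] [Algebra R A] {𝒜 : ℕ → Submodule R A}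
  [GradedAlgebra 𝒜] {M : Type u} [AddCommGroup M] [Module R M] [Module A M]
  {ℳ : ℕ → Submodule R M} [SetLike.GradedSMul 𝒜 ℳ]

/-- homogeneous witness of an equality of fractions -/
theorem exists_homogeneous_smul_eq [DirectSum.Decomposition ℳ] {j j' : ℕ} {m m' : M}
    (hm : m ∈ ℳ j) (hm' : m' ∈ ℳ j') {b b' : A} (hb : b ∈ 𝒜 j) (hb' : b' ∈ 𝒜 j')
    (y : ProjectiveSpectrum 𝒜) (nv : b ∉ y.asHomogeneousIdeal) (nv' : b' ∉ y.asHomogeneousIdeal)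
    (h : (LocalizedModule.mk m ⟨b, nv⟩ : GrTilde.LocMod 𝒜 (M := M) y) =
      LocalizedModule.mk m' ⟨b', nv'⟩) :
    ∃ (e : ℕ) (u : A), u ∈ 𝒜 e ∧ u ∉ y.asHomogeneousIdeal ∧ (u * b') • m = (u * b) • m' := by
  classical
  rw [LocalizedModule.mk_eq] at h
  obtain ⟨u₀, hu₀⟩ := h
  have hu₀' : (u₀ : A) • b' • m = (u₀ : A) • b • m' := hu₀
  have h1 : b' • m ∈ ℳ (j' + j) := SetLike.GradedSMul.smul_mem hb' hm
  have h2 : b • m' ∈ ℳ (j + j') := SetLike.GradedSMul.smul_mem hb hm'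
  have ejj : j + j' = j' + j := add_comm _ _
  rw [ejj] at h2
  have hw : b' • m - b • m' ∈ ℳ (j' + j) := sub_mem h1 h2
  have hz : (u₀ : A) • (b' • m - b • m') = 0 := by rw [smul_sub, hu₀', sub_self]
  obtain ⟨e, he⟩ : ∃ e, (DirectSum.decompose 𝒜 (u₀ : A) e : A) ∉
      y.asHomogeneousIdeal.toIdeal := by
    by_contra hcon
    push Not at hcon
    apply u₀.2
    rw [← DirectSum.sum_support_decompose 𝒜 (u₀ : A)]
    exact Ideal.sum_mem _ (fun k _ => hcon k)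
  refine ⟨e, _, SetLike.coe_mem _, he, ?_⟩
  have h3 := Groth.Agent.Lib.Helper6.decompose_smul_eq_zero_of_mem 𝒜 ℳ hw hz e
  rw [smul_sub, sub_eq_zero] at h3
  rw [mul_smul, mul_smul]
  exact h3

variable {ι : Type u}

/-- dehomogenization data: additive maps `M → Γ(F, D₊(f i))`, semilinear along
`a ↦ a / f_i^deg a`, compatible on overlaps -/
structure Dehom (ℳ : ℕ → Submodule R M) (F : (Proj 𝒜).Modules) (f : ι → A) where
  lam : ∀ i, M →+ Γ(F, Proj.basicOpen 𝒜 (f i))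
  lam_smul : ∀ (i : ι) {d n : ℕ} {a : A} (_ : a ∈ 𝒜 d) {m : M} (_ : m ∈ ℳ n),
    lam i (a • m) = fn (Proj.basicOpen 𝒜 (f i)) a (f i ^ d) • lam i m
  lam_compat : ∀ (i k : ι) {n : ℕ} {m : M} (_ : m ∈ ℳ n),
    res F (inf_le_left : Proj.basicOpen 𝒜 (f i) ⊓ Proj.basicOpen 𝒜 (f k) ≤
        Proj.basicOpen 𝒜 (f i)) (lam i m) =
      fn (Proj.basicOpen 𝒜 (f i) ⊓ Proj.basicOpen 𝒜 (f k)) (f k ^ n) (f i ^ n) •
        res F (inf_le_right : Proj.basicOpen 𝒜 (f i) ⊓ Proj.basicOpen 𝒜 (f k) ≤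
          Proj.basicOpen 𝒜 (f k)) (lam k m)

variable {F : (Proj 𝒜).Modules} {f : ι → A}

theorem good_q (hf : ∀ i, f i ∈ 𝒜 1) (i : ι) {V : (Proj 𝒜).Opens}
    (hV : V ≤ Proj.basicOpen 𝒜 (f i)) {d : ℕ} {a : A} (ha : a ∈ 𝒜 d) :
    Good V a (f i ^ d) :=
  good_of_mem ha (pow_mem_of_mem_one (hf i) d) (fun x => notMem_pow (hV x.2) d)

theorem good_c (hf : ∀ i, f i ∈ 𝒜 1) (i : ι) {V : (Proj 𝒜).Opens} {j : ℕ} {b : A}
    (hb : b ∈ 𝒜 j) (nv : ∀ x : V, b ∉ x.1.asHomogeneousIdeal) : Good V (f i ^ j) b :=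
  good_of_mem (pow_mem_of_mem_one (hf i) j) hb nv

theorem key_local (hf : ∀ i, f i ∈ 𝒜 1) (D : Dehom ℳ F f)
    (W W' : (Proj 𝒜).Opens) (hW'W : W' ≤ W) (i k : ι) (hWi : W ≤ Proj.basicOpen 𝒜 (f i))
    (hWk : W ≤ Proj.basicOpen 𝒜 (f k)) {j j' : ℕ} {m m' : M} (hm : m ∈ ℳ j) (hm' : m' ∈ ℳ j')
    {b b' : A} (hb : b ∈ 𝒜 j) (hb' : b' ∈ 𝒜 j')
    (nv : ∀ y : W, b ∉ y.1.asHomogeneousIdeal) (nv' : ∀ y : W, b' ∉ y.1.asHomogeneousIdeal)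
    {e : ℕ} {u : A} (hu : u ∈ 𝒜 e) (nvu : ∀ x : W', u ∉ x.1.asHomogeneousIdeal)
    (hueq : (u * b') • m = (u * b) • m') :
    res F hW'W (fn W (f i ^ j) b • res F hWi (D.lam i m)) =
      res F hW'W (fn W (f k ^ j') b' • res F hWk (D.lam k m')) := by
  have hW'i : W' ≤ Proj.basicOpen 𝒜 (f i) := hW'W.trans hWi
  have hW'k : W' ≤ Proj.basicOpen 𝒜 (f k) := hW'W.trans hWk
  have nvb : ∀ x : W', b ∉ x.1.asHomogeneousIdeal := fun x => nv ⟨x.1, hW'W x.2⟩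
  have nvb' : ∀ x : W', b' ∉ x.1.asHomogeneousIdeal := fun x => nv' ⟨x.1, hW'W x.2⟩
  have g1 : Good W (f i ^ j) b := good_c hf i hb nv
  have g2 : Good W (f k ^ j') b' := good_c hf k hb' nv'
  rw [res_smul, res_smul, rres_fn hW'W g1, rres_fn hW'W g2, res_res, res_res]
  -- step 1
  have s1 : res F hW'i (D.lam i m) =
      fn W' (f k ^ j) (f i ^ j) • res F hW'k (D.lam k m) := by
    have h0 := congrArg (res F (le_inf hW'i hW'k)) (D.lam_compat i k hm)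
    rw [res_res, res_smul, res_res, rres_fn (le_inf hW'i hW'k)
      (good_q hf i inf_le_left (pow_mem_of_mem_one (hf k) j))] at h0
    exact h0
  -- step 2
  have s2 : fn W' (u * b') (f k ^ (e + j')) • res F hW'k (D.lam k m) =
      fn W' (u * b) (f k ^ (e + j)) • res F hW'k (D.lam k m') := by
    have h0 : res F hW'k (D.lam k ((u * b') • m)) = res F hW'k (D.lam k ((u * b) • m')) := by
      rw [hueq]
    rw [D.lam_smul k (SetLike.mul_mem_graded hu hb') hm,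
      D.lam_smul k (SetLike.mul_mem_graded hu hb) hm', res_smul, res_smul,
      rres_fn hW'k (good_q hf k le_rfl (SetLike.mul_mem_graded hu hb')),
      rres_fn hW'k (good_q hf k le_rfl (SetLike.mul_mem_graded hu hb))] at h0
    exact h0
  -- step 3
  have gc0 : Good W' (f k ^ (e + j + j')) (u * b * b') :=
    good_c hf k (SetLike.mul_mem_graded (SetLike.mul_mem_graded hu hb) hb')
      (fun x => notMem_mul (notMem_mul (nvu x) (nvb x)) (nvb' x))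
  have gq1 : Good W' (u * b') (f k ^ (e + j')) :=
    good_q hf k hW'k (SetLike.mul_mem_graded hu hb')
  have gq2 : Good W' (u * b) (f k ^ (e + j)) :=
    good_q hf k hW'k (SetLike.mul_mem_graded hu hb)
  have gi : Good W' (f i ^ j) b := g1.mono hW'W
  have gk : Good W' (f k ^ j') b' := g2.mono hW'W
  have gik : Good W' (f k ^ j) (f i ^ j) :=
    good_q hf i hW'i (pow_mem_of_mem_one (hf k) j)
  have a1 : fn W' (f k ^ (e + j + j')) (u * b * b') * fn W' (u * b') (f k ^ (e + j')) =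
      fn W' (f i ^ j) b * fn W' (f k ^ j) (f i ^ j) := by
    rw [fn_mul gc0 gq1, fn_mul gi gik]
    exact fn_eq (gc0.mul gq1) (gi.mul gik) (by ring)
  have a2 : fn W' (f k ^ (e + j + j')) (u * b * b') * fn W' (u * b) (f k ^ (e + j)) =
      fn W' (f k ^ j') b' := by
    rw [fn_mul gc0 gq2]
    exact fn_eq (gc0.mul gq2) gk (by ring)
  rw [s1, ← mul_smul, ← a1, ← a2, mul_smul, mul_smul, s2]

/-- the key compatibility: two fraction representations of the same values give the same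
section of `F` -/
theorem key [DirectSum.Decomposition ℳ] (hf : ∀ i, f i ∈ 𝒜 1) (D : Dehom ℳ F f)
    (W : (Proj 𝒜).Opens) (i k : ι) (hWi : W ≤ Proj.basicOpen 𝒜 (f i))
    (hWk : W ≤ Proj.basicOpen 𝒜 (f k)) {j j' : ℕ} {m m' : M} (hm : m ∈ ℳ j) (hm' : m' ∈ ℳ j')
    {b b' : A} (hb : b ∈ 𝒜 j) (hb' : b' ∈ 𝒜 j')
    (nv : ∀ y : W, b ∉ y.1.asHomogeneousIdeal) (nv' : ∀ y : W, b' ∉ y.1.asHomogeneousIdeal)
    (h : ∀ y : W, (LocalizedModule.mk m ⟨b, nv y⟩ : GrTilde.LocMod 𝒜 (M := M) y.1) =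
      LocalizedModule.mk m' ⟨b', nv' y⟩) :
    fn W (f i ^ j) b • res F hWi (D.lam i m) = fn W (f k ^ j') b' • res F hWk (D.lam k m') := by
  classical
  choose e u hu hunv hueq using fun y : W =>
    exists_homogeneous_smul_eq hm hm' hb hb' y.1 (nv y) (nv' y) (h y)
  apply sec_eq_of_locally_eq F (fun y : W => W ⊓ Proj.basicOpen 𝒜 (u y)) W
    (fun y => inf_le_left)
    (fun x hx => Opens.mem_iSup.mpr ⟨⟨x, hx⟩, ⟨hx, hunv ⟨x, hx⟩⟩⟩)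
  intro y
  exact key_local hf D W _ inf_le_left i k hWi hWk hm hm' hb hb' nv nv' (hu y)
    (fun x => x.2.2) (hueq y)

/-- restricting the defining relation of a local representation -/
theorem res_eq_of_rep (hf : ∀ i, f i ∈ 𝒜 1) (D : Dehom ℳ F f) {U V W : (Proj 𝒜).Opens}
    (hVU : V ≤ U) (σ : Γ(F, U)) (i : ι) {j : ℕ} {m : M} {b : A} (hb : b ∈ 𝒜 j)
    (nv : ∀ y : V, b ∉ y.1.asHomogeneousIdeal)
    (hσ : res F ((inf_le_left : V ⊓ Proj.basicOpen 𝒜 (f i) ≤ V).trans hVU) σ =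
      fn (V ⊓ Proj.basicOpen 𝒜 (f i)) (f i ^ j) b •
        res F (inf_le_right : V ⊓ Proj.basicOpen 𝒜 (f i) ≤ Proj.basicOpen 𝒜 (f i)) (D.lam i m))
    (hWV : W ≤ V) (hWi : W ≤ Proj.basicOpen 𝒜 (f i)) :
    res F (hWV.trans hVU) σ = fn W (f i ^ j) b • res F hWi (D.lam i m) := by
  have h0 := congrArg (res F (le_inf hWV hWi)) hσ
  rw [res_res, res_smul, res_res, rres_fn (le_inf hWV hWi)
    (good_c hf i hb (fun y => nv ⟨y.1, y.2.1⟩))] at h0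
  exact h0

section hom

variable [DirectSum.Decomposition ℳ] (hf : ∀ i, f i ∈ 𝒜 1)
  (hcov : ∀ x : Proj 𝒜, ∃ i, x ∈ Proj.basicOpen 𝒜 (f i)) (D : Dehom ℳ F f)

/-- local fraction representations of sections of `M~` -/
theorem exists_rep {U : (Proj 𝒜).Opens} (t : Γ(GrTilde.tilde 𝒜 ℳ 0, U)) (x : U) :
    ∃ (V : (Proj 𝒜).Opens) (_ : x.1 ∈ V) (hVU : V ≤ U) (j : ℕ) (m : M) (b : A) (_ : m ∈ ℳ j)
      (_ : b ∈ 𝒜 j) (nv : ∀ y : V, b ∉ y.1.asHomogeneousIdeal),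
      ∀ y : V, mval t ⟨y.1, hVU y.2⟩ = LocalizedModule.mk m ⟨b, nv y⟩ := by
  obtain ⟨V, hxV, hVU, i, j, m, s, hs, hdeg, hv⟩ := isLocMFrac_mval t x
  rcases hdeg with hd | h0
  · have hij : i = j := by omega
    subst hij
    exact ⟨V, hxV, hVU, i, m.1, s.1, m.2, s.2, hs, hv⟩
  · refine ⟨V, hxV, hVU, j, 0, s.1, zero_mem _, s.2, hs, fun y => ?_⟩
    rw [hv y, h0]

/-- `σ` is the image of `t` -/
def Rel {U : (Proj 𝒜).Opens} (t : Γ(GrTilde.tilde 𝒜 ℳ 0, U)) (σ : Γ(F, U)) : Prop :=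
  ∀ x : U, ∃ (V : (Proj 𝒜).Opens) (_ : x.1 ∈ V) (hVU : V ≤ U) (j : ℕ) (m : M) (b : A)
    (_ : m ∈ ℳ j) (_ : b ∈ 𝒜 j) (nv : ∀ y : V, b ∉ y.1.asHomogeneousIdeal),
    (∀ y : V, mval t ⟨y.1, hVU y.2⟩ = LocalizedModule.mk m ⟨b, nv y⟩) ∧
    ∀ i : ι, res F ((inf_le_left : V ⊓ Proj.basicOpen 𝒜 (f i) ≤ V).trans hVU) σ =
      fn (V ⊓ Proj.basicOpen 𝒜 (f i)) (f i ^ j) b •
        res F (inf_le_right : V ⊓ Proj.basicOpen 𝒜 (f i) ≤ Proj.basicOpen 𝒜 (f i)) (D.lam i m)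

include hf hcov in
theorem Rel.unique {U : (Proj 𝒜).Opens} {t : Γ(GrTilde.tilde 𝒜 ℳ 0, U)} {σ σ' : Γ(F, U)}
    (h : Rel D t σ) (h' : Rel D t σ') : σ = σ' := by
  choose V hxV hVU j m b hm hb nv hrep hσ using h
  choose V' hxV' hVU' j' m' b' hm' hb' nv' hrep' hσ' using h'
  choose ix hix using fun x : U => hcov x.1
  apply sec_eq_of_locally_eq F (fun x : U => V x ⊓ V' x ⊓ Proj.basicOpen 𝒜 (f (ix x))) U
    (fun x => inf_le_left.trans (inf_le_left.trans (hVU x)))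
    (fun y hy => Opens.mem_iSup.mpr ⟨⟨y, hy⟩, ⟨⟨hxV _, hxV' _⟩, hix _⟩⟩)
  intro x
  have hWV : V x ⊓ V' x ⊓ Proj.basicOpen 𝒜 (f (ix x)) ≤ V x := inf_le_left.trans inf_le_left
  have hWV' : V x ⊓ V' x ⊓ Proj.basicOpen 𝒜 (f (ix x)) ≤ V' x :=
    inf_le_left.trans inf_le_right
  have hWi : V x ⊓ V' x ⊓ Proj.basicOpen 𝒜 (f (ix x)) ≤ Proj.basicOpen 𝒜 (f (ix x)) :=
    inf_le_right
  refine (res_eq_of_rep hf D (hVU x) σ (ix x) (hb x) (nv x) (hσ x (ix x)) hWV hWi).trans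
    (Eq.trans ?_
      (res_eq_of_rep hf D (hVU' x) σ' (ix x) (hb' x) (nv' x) (hσ' x (ix x)) hWV' hWi).symm)
  exact key hf D _ (ix x) (ix x) hWi hWi (hm x) (hm' x) (hb x) (hb' x)
    (fun y => nv x ⟨y.1, hWV y.2⟩) (fun y => nv' x ⟨y.1, hWV' y.2⟩)
    (fun y => (hrep x ⟨y.1, hWV y.2⟩).symm.trans (hrep' x ⟨y.1, hWV' y.2⟩))

include hf hcov in
theorem exists_rel {U : (Proj 𝒜).Opens} (t : Γ(GrTilde.tilde 𝒜 ℳ 0, U)) :
    ∃ σ : Γ(F, U), Rel D t σ := by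
  choose V hxV hVU j m b hm hb nv hrep using exists_rep (ℳ := ℳ) t
  obtain ⟨σ, hσ⟩ := sec_glue F (fun p : U × ι => V p.1 ⊓ Proj.basicOpen 𝒜 (f p.2)) U
    (fun p => inf_le_left.trans (hVU p.1))
    (fun y hy => by
      obtain ⟨i, hi⟩ := hcov y
      exact Opens.mem_iSup.mpr ⟨(⟨y, hy⟩, i), ⟨hxV _, hi⟩⟩)
    (fun p => fn (V p.1 ⊓ Proj.basicOpen 𝒜 (f p.2)) (f p.2 ^ j p.1) (b p.1) •
      res F inf_le_right (D.lam p.2 (m p.1)))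
    (fun p q => by
      have gp : Good (V p.1 ⊓ Proj.basicOpen 𝒜 (f p.2)) (f p.2 ^ j p.1) (b p.1) :=
        good_c hf p.2 (hb p.1) (fun y => nv p.1 ⟨y.1, y.2.1⟩)
      have gq : Good (V q.1 ⊓ Proj.basicOpen 𝒜 (f q.2)) (f q.2 ^ j q.1) (b q.1) :=
        good_c hf q.2 (hb q.1) (fun y => nv q.1 ⟨y.1, y.2.1⟩)
      rw [res_smul, res_smul, rres_fn _ gp, rres_fn _ gq, res_res, res_res]
      exact key hf D _ p.2 q.2 _ _ (hm p.1) (hm q.1) (hb p.1) (hb q.1)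
        (fun y => nv p.1 ⟨y.1, y.2.1.1⟩) (fun y => nv q.1 ⟨y.1, y.2.2.1⟩)
        (fun y => (hrep p.1 ⟨y.1, y.2.1.1⟩).symm.trans (hrep q.1 ⟨y.1, y.2.2.1⟩)))
  exact ⟨σ, fun x => ⟨V x, hxV x, hVU x, j x, m x, b x, hm x, hb x, nv x, hrep x,
    fun i => hσ (x, i)⟩⟩

include hf in
theorem Rel.add {U : (Proj 𝒜).Opens} {t t' : Γ(GrTilde.tilde 𝒜 ℳ 0, U)} {σ σ' : Γ(F, U)}
    (h : Rel D t σ) (h' : Rel D t' σ') : Rel D (t + t') (σ + σ') := by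
  intro x
  obtain ⟨V, hxV, hVU, j, m, b, hm, hb, nv, hrep, hσ⟩ := h x
  obtain ⟨V', hxV', hVU', j', m', b', hm', hb', nv', hrep', hσ'⟩ := h' x
  have hm1 : b' • m ∈ ℳ (j + j') := by
    have h0 : b' • m ∈ ℳ (j' + j) := SetLike.GradedSMul.smul_mem hb' hm
    rwa [add_comm] at h0
  have hm2 : b • m' ∈ ℳ (j + j') := SetLike.GradedSMul.smul_mem hb hm'
  refine ⟨V ⊓ V', ⟨hxV, hxV'⟩, inf_le_left.trans hVU, j + j', b' • m + b • m', b * b',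
    add_mem hm1 hm2, SetLike.mul_mem_graded hb hb',
    fun y => notMem_mul (nv ⟨y.1, y.2.1⟩) (nv' ⟨y.1, y.2.2⟩), fun y => ?_, fun i => ?_⟩
  · rw [mval_add]
    refine (congrArg₂ (· + ·) (hrep ⟨y.1, y.2.1⟩) (hrep' ⟨y.1, y.2.2⟩)).trans ?_
    rw [LocalizedModule.mk_add_mk]
    rfl
  · have hW1 : (V ⊓ V') ⊓ Proj.basicOpen 𝒜 (f i) ≤ V := inf_le_left.trans inf_le_left
    have hW2 : (V ⊓ V') ⊓ Proj.basicOpen 𝒜 (f i) ≤ V' := inf_le_left.trans inf_le_right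
    have hWi : (V ⊓ V') ⊓ Proj.basicOpen 𝒜 (f i) ≤ Proj.basicOpen 𝒜 (f i) := inf_le_right
    have r1 := res_eq_of_rep hf D hVU σ i hb nv (hσ i) hW1 hWi
    have r2 := res_eq_of_rep hf D hVU' σ' i hb' nv' (hσ' i) hW2 hWi
    have nvb : ∀ y : ((V ⊓ V') ⊓ Proj.basicOpen 𝒜 (f i) : (Proj 𝒜).Opens),
        b ∉ y.1.asHomogeneousIdeal := fun y => nv ⟨y.1, hW1 y.2⟩
    have nvb' : ∀ y : ((V ⊓ V') ⊓ Proj.basicOpen 𝒜 (f i) : (Proj 𝒜).Opens),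
        b' ∉ y.1.asHomogeneousIdeal := fun y => nv' ⟨y.1, hW2 y.2⟩
    have g0 : Good ((V ⊓ V') ⊓ Proj.basicOpen 𝒜 (f i)) (f i ^ (j + j')) (b * b') :=
      good_c hf i (SetLike.mul_mem_graded hb hb') (fun y => notMem_mul (nvb y) (nvb' y))
    have g1 : Good ((V ⊓ V') ⊓ Proj.basicOpen 𝒜 (f i)) (f i ^ j) b := good_c hf i hb nvb
    have g2 : Good ((V ⊓ V') ⊓ Proj.basicOpen 𝒜 (f i)) (f i ^ j') b' := good_c hf i hb' nvb'
    have gq1 : Good ((V ⊓ V') ⊓ Proj.basicOpen 𝒜 (f i)) b' (f i ^ j') := good_q hf i hWi hb'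
    have gq2 : Good ((V ⊓ V') ⊓ Proj.basicOpen 𝒜 (f i)) b (f i ^ j) := good_q hf i hWi hb
    have a1 : fn ((V ⊓ V') ⊓ Proj.basicOpen 𝒜 (f i)) (f i ^ (j + j')) (b * b') *
        fn ((V ⊓ V') ⊓ Proj.basicOpen 𝒜 (f i)) b' (f i ^ j') =
        fn ((V ⊓ V') ⊓ Proj.basicOpen 𝒜 (f i)) (f i ^ j) b := by
      rw [fn_mul g0 gq1]
      exact fn_eq (g0.mul gq1) g1 (by ring)
    have a2 : fn ((V ⊓ V') ⊓ Proj.basicOpen 𝒜 (f i)) (f i ^ (j + j')) (b * b') *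
        fn ((V ⊓ V') ⊓ Proj.basicOpen 𝒜 (f i)) b (f i ^ j) =
        fn ((V ⊓ V') ⊓ Proj.basicOpen 𝒜 (f i)) (f i ^ j') b' := by
      rw [fn_mul g0 gq2]
      exact fn_eq (g0.mul gq2) g2 (by ring)
    have e3 : res F hWi (D.lam i (b' • m + b • m')) =
        fn ((V ⊓ V') ⊓ Proj.basicOpen 𝒜 (f i)) b' (f i ^ j') • res F hWi (D.lam i m) +
        fn ((V ⊓ V') ⊓ Proj.basicOpen 𝒜 (f i)) b (f i ^ j) • res F hWi (D.lam i m') := by
      rw [map_add, D.lam_smul i hb' hm, D.lam_smul i hb hm', QCExact.res_add, res_smul,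
        res_smul, rres_fn hWi (good_q hf i le_rfl hb'), rres_fn hWi (good_q hf i le_rfl hb)]
    rw [e3, smul_add, ← mul_smul, ← mul_smul, a1, a2, ← r1, ← r2]
    exact QCExact.res_add F _ σ σ'

include hf in
theorem Rel.smul {U : (Proj 𝒜).Opens} (c : Γ(Proj 𝒜, U)) {t : Γ(GrTilde.tilde 𝒜 ℳ 0, U)}
    {σ : Γ(F, U)} (h : Rel D t σ) : Rel D (c • t) (c • σ) := by
  intro x
  obtain ⟨V, hxV, hVU, j, m, b, hm, hb, nv, hrep, hσ⟩ := h x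
  obtain ⟨V₁, hxV₁, hV₁U, a, b₁, hg, hc⟩ := exists_eq_fn c x
  obtain ⟨e, ha, hb₁⟩ := hg.1
  have nv₁ := hg.2
  refine ⟨V ⊓ V₁, ⟨hxV, hxV₁⟩, inf_le_left.trans hVU, e + j, a • m, b₁ * b,
    SetLike.GradedSMul.smul_mem ha hm, SetLike.mul_mem_graded hb₁ hb,
    fun y => notMem_mul (nv₁ ⟨y.1, y.2.2⟩) (nv ⟨y.1, y.2.1⟩), fun y => ?_, fun i => ?_⟩
  · rw [mval_smul]
    have e2 : fval c ⟨y.1, hV₁U y.2.2⟩ = Localization.mk a ⟨b₁, nv₁ ⟨y.1, y.2.2⟩⟩ := by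
      have h0 : fval (rres (Proj 𝒜) hV₁U c) ⟨y.1, y.2.2⟩ = fval (fn V₁ a b₁) ⟨y.1, y.2.2⟩ := by
        rw [hc]
      rw [fval_res, fval_fn hg] at h0
      exact h0
    refine (congrArg₂ (· • ·) e2 (hrep ⟨y.1, y.2.1⟩)).trans ?_
    rw [LocalizedModule.mk_smul_mk]
    rfl
  · have hW1 : (V ⊓ V₁) ⊓ Proj.basicOpen 𝒜 (f i) ≤ V := inf_le_left.trans inf_le_left
    have hW2 : (V ⊓ V₁) ⊓ Proj.basicOpen 𝒜 (f i) ≤ V₁ := inf_le_left.trans inf_le_right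
    have hWi : (V ⊓ V₁) ⊓ Proj.basicOpen 𝒜 (f i) ≤ Proj.basicOpen 𝒜 (f i) := inf_le_right
    have r1 := res_eq_of_rep hf D hVU σ i hb nv (hσ i) hW1 hWi
    have nvb : ∀ y : ((V ⊓ V₁) ⊓ Proj.basicOpen 𝒜 (f i) : (Proj 𝒜).Opens),
        b ∉ y.1.asHomogeneousIdeal := fun y => nv ⟨y.1, hW1 y.2⟩
    have nvb₁ : ∀ y : ((V ⊓ V₁) ⊓ Proj.basicOpen 𝒜 (f i) : (Proj 𝒜).Opens),
        b₁ ∉ y.1.asHomogeneousIdeal := fun y => nv₁ ⟨y.1, hW2 y.2⟩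
    have hcW : rres (Proj 𝒜) (hW1.trans hVU) c =
        fn ((V ⊓ V₁) ⊓ Proj.basicOpen 𝒜 (f i)) a b₁ := by
      rw [← rres_rres hW2 hV₁U, hc, rres_fn hW2 hg]
    have g0 : Good ((V ⊓ V₁) ⊓ Proj.basicOpen 𝒜 (f i)) (f i ^ (e + j)) (b₁ * b) :=
      good_c hf i (SetLike.mul_mem_graded hb₁ hb) (fun y => notMem_mul (nvb₁ y) (nvb y))
    have g1 : Good ((V ⊓ V₁) ⊓ Proj.basicOpen 𝒜 (f i)) (f i ^ j) b := good_c hf i hb nvb
    have gc : Good ((V ⊓ V₁) ⊓ Proj.basicOpen 𝒜 (f i)) a b₁ := hg.mono hW2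
    have gq : Good ((V ⊓ V₁) ⊓ Proj.basicOpen 𝒜 (f i)) a (f i ^ e) := good_q hf i hWi ha
    have a1 : fn ((V ⊓ V₁) ⊓ Proj.basicOpen 𝒜 (f i)) (f i ^ (e + j)) (b₁ * b) *
        fn ((V ⊓ V₁) ⊓ Proj.basicOpen 𝒜 (f i)) a (f i ^ e) =
        fn ((V ⊓ V₁) ⊓ Proj.basicOpen 𝒜 (f i)) a b₁ *
          fn ((V ⊓ V₁) ⊓ Proj.basicOpen 𝒜 (f i)) (f i ^ j) b := by
      rw [fn_mul g0 gq, fn_mul gc g1]
      exact fn_eq (g0.mul gq) (gc.mul g1) (by ring)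
    have e3 : res F hWi (D.lam i (a • m)) =
        fn ((V ⊓ V₁) ⊓ Proj.basicOpen 𝒜 (f i)) a (f i ^ e) • res F hWi (D.lam i m) := by
      rw [D.lam_smul i ha hm, res_smul, rres_fn hWi (good_q hf i le_rfl ha)]
    rw [e3, ← mul_smul, a1, mul_smul, ← r1, ← hcW]
    exact res_smul F _ c σ

include hf in
theorem Rel.res {U U' : (Proj 𝒜).Opens} (hU' : U' ≤ U) {t : Γ(GrTilde.tilde 𝒜 ℳ 0, U)}
    {σ : Γ(F, U)} (h : Rel D t σ) :
    Rel D (QCSec.res (GrTilde.tilde 𝒜 ℳ 0) hU' t) (QCSec.res F hU' σ) := by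
  intro x
  obtain ⟨V, hxV, hVU, j, m, b, hm, hb, nv, hrep, hσ⟩ := h ⟨x.1, hU' x.2⟩
  refine ⟨V ⊓ U', ⟨hxV, x.2⟩, inf_le_right, j, m, b, hm, hb, fun y => nv ⟨y.1, y.2.1⟩,
    fun y => ?_, fun i => ?_⟩
  · rw [mval_res]
    exact hrep ⟨y.1, y.2.1⟩
  · rw [res_res]
    exact res_eq_of_rep hf D hVU σ i hb nv (hσ i) (inf_le_left.trans inf_le_left) inf_le_right

/-- the value of the morphism on a section -/
noncomputable def homFun (U : (Proj 𝒜).Opens) (t : Γ(GrTilde.tilde 𝒜 ℳ 0, U)) : Γ(F, U) :=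
  (exists_rel hf hcov D t).choose

theorem rel_homFun (U : (Proj 𝒜).Opens) (t : Γ(GrTilde.tilde 𝒜 ℳ 0, U)) :
    Rel D t (homFun hf hcov D U t) :=
  (exists_rel hf hcov D t).choose_spec

/-- the morphism `M~ ⟶ F` defined by dehomogenization data -/
noncomputable def hom : GrTilde.tilde 𝒜 ℳ 0 ⟶ F :=
  homMk (homFun hf hcov D)
    (fun U s s' => Rel.unique hf hcov D (rel_homFun hf hcov D U (s + s'))
      ((rel_homFun hf hcov D U s).add hf D (rel_homFun hf hcov D U s')))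
    (fun U a s => Rel.unique hf hcov D (rel_homFun hf hcov D U (a • s))
      ((rel_homFun hf hcov D U s).smul hf D a))
    (fun {U V} h s => Rel.unique hf hcov D ((rel_homFun hf hcov D U s).res hf D h)
      (rel_homFun hf hcov D V (QCSec.res _ h s)))

theorem hom_app_eq {U : (Proj 𝒜).Opens} {t : Γ(GrTilde.tilde 𝒜 ℳ 0, U)} {σ : Γ(F, U)}
    (h : Rel D t σ) : (hom hf hcov D).app U t = σ :=
  Rel.unique hf hcov D (rel_homFun hf hcov D U t) h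

include hf in
theorem rel_mfrac (i : ι) {n : ℕ} {m : M} (hm : m ∈ ℳ n) :
    Rel D (mfrac ℳ (Proj.basicOpen 𝒜 (f i)) (⟨m, hm⟩ : ℳ n)
      (⟨f i ^ n, pow_mem_of_mem_one (hf i) n⟩ : 𝒜 n) (fun x => notMem_pow x.2 n) 0 (by simp))
      (D.lam i m) := by
  intro x
  refine ⟨Proj.basicOpen 𝒜 (f i), x.2, le_rfl, n, m, f i ^ n, hm,
    pow_mem_of_mem_one (hf i) n, fun y => notMem_pow y.2 n, fun y => rfl, fun k => ?_⟩
  exact D.lam_compat i k hm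

theorem hom_mfrac (i : ι) {n : ℕ} {m : M} (hm : m ∈ ℳ n) :
    (hom hf hcov D).app (Proj.basicOpen 𝒜 (f i))
      (mfrac ℳ (Proj.basicOpen 𝒜 (f i)) (⟨m, hm⟩ : ℳ n)
        (⟨f i ^ n, pow_mem_of_mem_one (hf i) n⟩ : 𝒜 n) (fun x => notMem_pow x.2 n) 0
        (by simp)) = D.lam i m :=
  hom_app_eq hf hcov D (rel_mfrac hf D i hm)

end hom

end Groth.Agent.Lib.Helper3.GrTildeHom
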