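import Groth.Agent.Lib.Helper3.TwistBasic
import Groth.Agent.Lib.Helper3.QCSec
import Groth.Agent.Lib.Helper3.HomMk
import Groth.Agent.Lib.Helper6.GrTildeFrac
import Groth.Prelude.Def_GrMod2

/-!
# The sheaf `M(n)~` on `Proj`: values, fraction sections, quasi-coherence
-/

set_option autoImplicit false
set_option linter.unusedSectionVars false
universe u
open CategoryTheory CategoryTheory.Limits AlgebraicGeometry TopologicalSpace Opposite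
open Scheme.Modules

namespace Groth.Agent.Lib.Helper3.GrTildeQC

open QCSec TwistBasic

variable {R A : Type u} [CommRing R] [CommRing A] [Algebra R A] {𝒜 : ℕ → Submodule R A}
  [GradedAlgebra 𝒜] {M : Type u} [AddCommGroup M] [Module R M] [Module A M]
  {ℳ : ℕ → Submodule R M} [SetLike.GradedSMul 𝒜 ℳ]

/-- the value of a section of `M(n)~` at a point, in the localized module at that point -/
def mval {n : ℤ} {U : (Proj 𝒜).Opens} (t : Γ(GrTilde.tilde 𝒜 ℳ n, U)) (x : U) :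
    GrTilde.LocMod 𝒜 (M := M) x.1 :=
  ((show GrTilde.sect 𝒜 ℳ n (op U) from t).1 x).1

theorem mval_ext {n : ℤ} {U : (Proj 𝒜).Opens} {t t' : Γ(GrTilde.tilde 𝒜 ℳ n, U)}
    (h : ∀ x, mval t x = mval t' x) : t = t' :=
  Subtype.ext (funext fun x => Subtype.ext (h x))

theorem mval_smul {n : ℤ} {U : (Proj 𝒜).Opens} (c : Γ(Proj 𝒜, U))
    (t : Γ(GrTilde.tilde 𝒜 ℳ n, U)) (x : U) : mval (c • t) x = fval c x • mval t x :=
  GrTilde.coe_smul_val n x.1 _ _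

theorem mval_add {n : ℤ} {U : (Proj 𝒜).Opens} (t t' : Γ(GrTilde.tilde 𝒜 ℳ n, U)) (x : U) :
    mval (t + t') x = mval t x + mval t' x := rfl

theorem mval_zero {n : ℤ} {U : (Proj 𝒜).Opens} (x : U) :
    mval (0 : Γ(GrTilde.tilde 𝒜 ℳ n, U)) x = 0 := rfl

theorem mval_res {n : ℤ} {U V : (Proj 𝒜).Opens} (h : V ≤ U) (t : Γ(GrTilde.tilde 𝒜 ℳ n, U))
    (x : V) : mval (res (GrTilde.tilde 𝒜 ℳ n) h t) x = mval t ⟨x.1, h x.2⟩ := rfl

theorem fval_pow {U : (Proj 𝒜).Opens} (c : Γ(Proj 𝒜, U)) (k : ℕ) (x : U) :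
    fval (c ^ k) x = fval c x ^ k := by
  induction k with
  | zero => rw [pow_zero, pow_zero]; exact fval_one x
  | succ k ih => rw [pow_succ, pow_succ, fval_mul, ih]

variable (ℳ) in
/-- `v` is locally a homogeneous fraction of degree `n` -/
def IsLocMFrac (n : ℤ) {U : (Proj 𝒜).Opens} (v : ∀ x : U, GrTilde.LocMod 𝒜 (M := M) x.1) :
    Prop :=
  ∀ x : U, ∃ (V : (Proj 𝒜).Opens) (_ : x.1 ∈ V) (hVU : V ≤ U) (i j : ℕ) (m : ℳ i) (s : 𝒜 j)
    (hs : ∀ y : V, s.1 ∉ y.1.asHomogeneousIdeal), ((i : ℤ) = j + n ∨ m.1 = 0) ∧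
      ∀ y : V, v ⟨y.1, hVU y.2⟩ = LocalizedModule.mk m.1 ⟨s.1, hs y⟩

theorem IsLocMFrac.mem {n : ℤ} {U : (Proj 𝒜).Opens}
    {v : ∀ x : U, GrTilde.LocMod 𝒜 (M := M) x.1}
    (h : IsLocMFrac ℳ n v) (x : U) : v x ∈ GrTilde.tildeAt 𝒜 ℳ n x.1 := by
  obtain ⟨V, hxV, hVU, i, j, m, s, hs, hdeg, hv⟩ := h x
  have h1 := hv ⟨x.1, hxV⟩
  change v x = _ at h1
  rw [h1]
  rcases hdeg with hd | h0
  · exact Submodule.subset_span ⟨i, j, m, s, hs ⟨x.1, hxV⟩, hd, rfl⟩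
  · rw [h0, LocalizedModule.zero_mk]
    exact zero_mem _

theorem isLocMFrac_mval {n : ℤ} {U : (Proj 𝒜).Opens} (t : Γ(GrTilde.tilde 𝒜 ℳ n, U)) :
    IsLocMFrac ℳ n (mval t) := by
  intro x
  obtain ⟨V, hxV, iV, i, j, m, s, hs, hdeg, hv⟩ :=
    (show GrTilde.sect 𝒜 ℳ n (op U) from t).2 x
  exact ⟨V, hxV, leOfHom iV, i, j, m, s, hs, hdeg, fun y => hv y⟩

variable (ℳ) in
/-- the section of `M(n)~` with prescribed values -/
def mkMSec (n : ℤ) (U : (Proj 𝒜).Opens) (v : ∀ x : U, GrTilde.LocMod 𝒜 (M := M) x.1)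
    (h : IsLocMFrac ℳ n v) : Γ(GrTilde.tilde 𝒜 ℳ n, U) :=
  (⟨fun x => ⟨v x, h.mem x⟩, fun x => by
    obtain ⟨V, hxV, hVU, i, j, m, s, hs, hdeg, hv⟩ := h x
    exact ⟨V, hxV, homOfLE hVU, i, j, m, s, hs, hdeg, fun y => hv y⟩⟩ :
      GrTilde.sect 𝒜 ℳ n (op U))

theorem mval_mkMSec (n : ℤ) (U : (Proj 𝒜).Opens)
    (v : ∀ x : U, GrTilde.LocMod 𝒜 (M := M) x.1)
    (h : IsLocMFrac ℳ n v) (x : U) : mval (mkMSec ℳ n U v h) x = v x := rfl

theorem isLocMFrac_mfrac {U : (Proj 𝒜).Opens} {i j : ℕ} (m : ℳ i) (b : 𝒜 j)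
    (hb : ∀ x : U, b.1 ∉ x.1.asHomogeneousIdeal) (n : ℤ) (hn : (i : ℤ) = j + n) :
    IsLocMFrac ℳ n (fun x : U => LocalizedModule.mk m.1 ⟨b.1, hb x⟩) :=
  fun x => ⟨U, x.2, le_rfl, i, j, m, b, hb, Or.inl hn, fun _ => rfl⟩

variable (ℳ) in
/-- the section `m / b` of `M(n)~` -/
def mfrac (U : (Proj 𝒜).Opens) {i j : ℕ} (m : ℳ i) (b : 𝒜 j)
    (hb : ∀ x : U, b.1 ∉ x.1.asHomogeneousIdeal) (n : ℤ) (hn : (i : ℤ) = j + n) :
    Γ(GrTilde.tilde 𝒜 ℳ n, U) :=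
  mkMSec ℳ n U _ (isLocMFrac_mfrac m b hb n hn)

theorem mval_mfrac (U : (Proj 𝒜).Opens) {i j : ℕ} (m : ℳ i) (b : 𝒜 j)
    (hb : ∀ x : U, b.1 ∉ x.1.asHomogeneousIdeal) (n : ℤ) (hn : (i : ℤ) = j + n) (x : U) :
    mval (mfrac ℳ U m b hb n hn) x = LocalizedModule.mk m.1 ⟨b.1, hb x⟩ := rfl

theorem res_mfrac {U V : (Proj 𝒜).Opens} (h : V ≤ U) {i j : ℕ} (m : ℳ i) (b : 𝒜 j)
    (hb : ∀ x : U, b.1 ∉ x.1.asHomogeneousIdeal) (n : ℤ) (hn : (i : ℤ) = j + n) :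
    res (GrTilde.tilde 𝒜 ℳ n) h (mfrac ℳ U m b hb n hn) =
      mfrac ℳ V m b (fun x => hb ⟨x.1, h x.2⟩) n hn :=
  mval_ext (fun _ => rfl)

/-- a product of a fraction function and a fraction section -/
theorem IsLocMFrac.smul {p n : ℤ} {U : (Proj 𝒜).Opens} {c : ∀ x : U, Twist.Loc 𝒜 x.1}
    {v : ∀ x : U, GrTilde.LocMod 𝒜 (M := M) x.1}
    (hc : IsLocFrac p c) (hv : IsLocMFrac ℳ n v) :
    IsLocMFrac ℳ (p + n) (fun x => c x • v x) := by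
  intro x
  obtain ⟨V, hxV, hVU, i, j, a, s, hs, hdeg, hc'⟩ := hc x
  obtain ⟨V', hxV', hVU', i', j', m, s', hs', hdeg', hv'⟩ := hv x
  have hnin : ∀ y : (V ⊓ V' : (Proj 𝒜).Opens), s.1 * s'.1 ∉ y.1.asHomogeneousIdeal :=
    fun y hmem => (y.1.isPrime.mem_or_mem hmem).elim (hs ⟨y.1, y.2.1⟩) (hs' ⟨y.1, y.2.2⟩)
  refine ⟨V ⊓ V', ⟨hxV, hxV'⟩, inf_le_left.trans hVU, i + i', j + j',
    ⟨a.1 • m.1, SetLike.GradedSMul.smul_mem a.2 m.2⟩,
    ⟨s.1 * s'.1, SetLike.mul_mem_graded s.2 s'.2⟩, hnin, ?_, fun y => ?_⟩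
  · rcases hdeg with hd | h0
    · rcases hdeg' with hd' | h0'
      · left; push_cast; omega
      · right; change a.1 • m.1 = 0; rw [h0', smul_zero]
    · right; change a.1 • m.1 = 0; rw [h0, zero_smul]
  · have e1 := hc' ⟨y.1, y.2.1⟩
    have e2 := hv' ⟨y.1, y.2.2⟩
    change c ⟨y.1, _⟩ • v ⟨y.1, _⟩ = _
    rw [e1, e2, LocalizedModule.mk_smul_mk]
    rfl

theorem IsLocMFrac.cast {m n : ℤ} (hmn : m = n) {U : (Proj 𝒜).Opens}
    {v : ∀ x : U, GrTilde.LocMod 𝒜 (M := M) x.1} (h : IsLocMFrac ℳ m v) : IsLocMFrac ℳ n v :=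
  hmn ▸ h

/-! ### sections over `D₊(f)` are fractions -/

/-- sections of `M(n)~` over `D₊(f)` are single fractions `m / f ^ k` (after helper6's S3586) -/
theorem sections_eq_fraction [DirectSum.Decomposition ℳ] (n : ℤ) {d : ℕ} (hd : 0 < d) {f : A}
    (hf : f ∈ 𝒜 d)
    (s : GrTilde.sect 𝒜 ℳ n (op (ProjectiveSpectrum.basicOpen 𝒜 f))) :
    ∃ (k i : ℕ) (m : ℳ i), (i : ℤ) = k * d + n ∧
      ∀ x : ProjectiveSpectrum.basicOpen 𝒜 f,
        ((s.1 x : GrTilde.tildeAt 𝒜 ℳ n x.1) : GrTilde.LocMod 𝒜 (M := M) x.1) =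
          (LocalizedModule.mk m.1 ⟨f ^ k, fun h => (ProjectiveSpectrum.mem_basicOpen 𝒜 f x.1).mp x.2
            (x.1.isPrime.mem_of_pow_mem k h)⟩ : GrTilde.LocMod 𝒜 (M := M) x.1) := by
  classical
  have hfirr : f ∈ (HomogeneousIdeal.irrelevant 𝒜).toIdeal :=
    HomogeneousIdeal.mem_irrelevant_of_mem 𝒜 hd hf
  choose j i h m hh hm hij hirr hhx hhf hform using
    fun x : ProjectiveSpectrum.basicOpen 𝒜 f =>
      Groth.Agent.Lib.Helper6.exists_local_fraction 𝒜 ℳ n hd hf s x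
  obtain ⟨N₀, hN₀⟩ := Groth.Agent.Lib.Helper6.exists_pow_mem_span_of_cover 𝒜 hfirr (Set.range h)
    (by rintro _ ⟨x, rfl⟩; exact ⟨j x, hh x⟩)
    (fun y hy => ⟨h ⟨y, hy⟩, ⟨_, rfl⟩, hhx ⟨y, hy⟩⟩)
  obtain ⟨c, hc⟩ := Finsupp.mem_span_range_iff_exists_finsupp.1 hN₀
  obtain ⟨T, hT⟩ : ∃ T : Finset (ProjectiveSpectrum.basicOpen 𝒜 f), T = c.support := ⟨_, rfl⟩
  have hcov : ∀ y : ProjectiveSpectrum 𝒜, f ∉ y.asHomogeneousIdeal.toIdeal →
      ∃ x ∈ T, h x ∉ y.asHomogeneousIdeal.toIdeal := by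
    intro y hy
    by_contra hcon
    push Not at hcon
    apply hy
    apply y.isPrime.mem_of_pow_mem N₀
    rw [← hc, Finsupp.sum, ← hT]
    exact Ideal.sum_mem _ (fun x hx => Ideal.mul_mem_left _ _ (hcon x hx))
  have hK : ∀ x x' : ProjectiveSpectrum.basicOpen 𝒜 f, ∃ K : ℕ,
      (h x * h x') ^ K • (h x' • m x - h x • m x') = 0 := by
    intro x x'
    have h1 : h x' • m x ∈ ℳ (j x' + i x) := SetLike.GradedSMul.smul_mem (hh x') (hm x)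
    have h2 : h x • m x' ∈ ℳ (j x + i x') := SetLike.GradedSMul.smul_mem (hh x) (hm x')
    have e : j x + i x' = j x' + i x := by
      have := hij x
      have := hij x'
      omega
    rw [e] at h2
    refine Groth.Agent.Lib.Helper6.exists_pow_smul_eq_zero_of_locally_killed 𝒜 ℳ
      (Ideal.mul_mem_right _ _ (hirr x)) (sub_mem h1 h2) ?_
    intro y hy
    have hy1 : h x ∉ y.asHomogeneousIdeal.toIdeal := fun hmem =>
      hy (Ideal.mul_mem_right _ _ hmem)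
    have hy2 : h x' ∉ y.asHomogeneousIdeal.toIdeal := fun hmem =>
      hy (Ideal.mul_mem_left _ _ hmem)
    have hyU : y ∈ ProjectiveSpectrum.basicOpen 𝒜 f := hhf x y hy1
    have e1 := hform x ⟨y, hyU⟩ hy1
    have e2 := hform x' ⟨y, hyU⟩ hy2
    rw [e1, LocalizedModule.mk_eq] at e2
    obtain ⟨u, hu⟩ := e2
    refine ⟨(u : A), u.2, ?_⟩
    have hu' : (u : A) • (h x' • m x) = (u : A) • (h x • m x') := hu
    rw [smul_sub, hu', sub_self]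
  choose Kf hKf using hK
  obtain ⟨K, hKdef⟩ : ∃ K : ℕ, K = T.sup (fun x => T.sup (fun x' => Kf x x')) := ⟨_, rfl⟩
  have hKle : ∀ x ∈ T, ∀ x' ∈ T, Kf x x' ≤ K := by
    intro x hx x' hx'
    rw [hKdef]
    exact (Finset.le_sup (f := fun x' => Kf x x') hx').trans
      (Finset.le_sup (f := fun x => T.sup (fun x' => Kf x x')) hx)
  have hcompat : ∀ x ∈ T, ∀ x' ∈ T,
      h x' ^ (K + 1) • h x ^ K • m x = h x ^ (K + 1) • h x' ^ K • m x' := by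
    intro x hx x' hx'
    have h0 : (h x * h x') ^ K • (h x' • m x - h x • m x') = 0 := by
      have hle := hKle x hx x' hx'
      rw [← Nat.sub_add_cancel hle, pow_add, mul_smul, hKf x x', smul_zero]
    rw [smul_sub, sub_eq_zero] at h0
    have e1 : h x' ^ (K + 1) • h x ^ K • m x = (h x * h x') ^ K • h x' • m x := by
      rw [smul_smul, smul_smul]
      congr 1
      ring
    have e2 : h x ^ (K + 1) • h x' ^ K • m x' = (h x * h x') ^ K • h x • m x' := by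
      rw [smul_smul, smul_smul]
      congr 1
      ring
    rw [e1, e2]
    exact h0
  have hform' : ∀ (x : ProjectiveSpectrum.basicOpen 𝒜 f)
      (y : ProjectiveSpectrum.basicOpen 𝒜 f)
      (hy : h x ^ (K + 1) ∉ y.1.asHomogeneousIdeal.toIdeal),
      ((s.1 y : GrTilde.tildeAt 𝒜 ℳ n y.1) : GrTilde.LocMod 𝒜 (M := M) y.1) =
        LocalizedModule.mk (h x ^ K • m x) ⟨h x ^ (K + 1), hy⟩ := by
    intro x y hy
    have hy1 : h x ∉ y.1.asHomogeneousIdeal.toIdeal := fun hmem =>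
      hy (Ideal.pow_mem_of_mem _ hmem _ (Nat.succ_pos K))
    rw [hform x y hy1, LocalizedModule.mk_eq]
    refine ⟨1, ?_⟩
    rw [one_smul, one_smul]
    show (h x ^ (K + 1)) • m x = h x • h x ^ K • m x
    rw [smul_smul, pow_succ']
  have hcov' : ∀ y : ProjectiveSpectrum 𝒜, f ∉ y.asHomogeneousIdeal.toIdeal →
      ∃ x ∈ T, h x ^ (K + 1) ∉ y.asHomogeneousIdeal.toIdeal := by
    intro y hy
    obtain ⟨x, hxT, hxy⟩ := hcov y hy
    exact ⟨x, hxT, fun hmem => hxy (y.isPrime.mem_of_pow_mem _ hmem)⟩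
  obtain ⟨N₁, hN₁⟩ := Groth.Agent.Lib.Helper6.exists_pow_mem_span_of_cover 𝒜 hfirr
    (Set.range (fun x : T => h x.1 ^ (K + 1)))
    (by
      rintro _ ⟨x, rfl⟩
      exact ⟨(K + 1) • j x.1, SetLike.pow_mem_graded (K + 1) (hh x.1)⟩)
    (fun y hy => by
      obtain ⟨x, hxT, hxy⟩ := hcov' y hy
      exact ⟨_, ⟨⟨x, hxT⟩, rfl⟩, hxy⟩)
  obtain ⟨a, han⟩ : ∃ a : ℕ, 0 ≤ (a : ℤ) + n := ⟨n.natAbs, by omega⟩
  obtain ⟨N, hNdef⟩ : ∃ N : ℕ, N = N₁ + a := ⟨_, rfl⟩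
  have hN : f ^ N ∈ Ideal.span (Set.range (fun x : T => h x.1 ^ (K + 1))) := by
    rw [hNdef, pow_add]
    exact Ideal.mul_mem_right _ _ hN₁
  obtain ⟨D, hD⟩ : ∃ D : ℕ, D = N * d := ⟨_, rfl⟩
  have haD : a ≤ D := by
    rw [hD, hNdef]
    exact le_trans (Nat.le_add_left a N₁) (Nat.le_mul_of_pos_right _ hd)
  have hfN : f ^ N ∈ 𝒜 D := by
    have := SetLike.pow_mem_graded N hf
    rwa [smul_eq_mul, ← hD] at this
  obtain ⟨I, hI⟩ : ∃ I : ℕ, (I : ℤ) = D + n :=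
    ⟨((D : ℤ) + n).toNat, Int.toNat_of_nonneg (by omega)⟩
  obtain ⟨mt, hmt, hglue⟩ := Groth.Agent.Lib.Helper6.exists_glue_numerator 𝒜 ℳ n hfN
    (fun x : T => h x.1 ^ (K + 1)) (fun x => (K + 1) * j x.1) (fun x => h x.1 ^ K • m x.1)
    (fun x => K * j x.1 + i x.1)
    (fun x => by
      have := SetLike.pow_mem_graded (K + 1) (hh x.1)
      rwa [smul_eq_mul] at this)
    (fun x => by
      have h1 : h x.1 ^ K ∈ 𝒜 (K * j x.1) := by
        have := SetLike.pow_mem_graded K (hh x.1)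
        rwa [smul_eq_mul] at this
      exact SetLike.GradedSMul.smul_mem h1 (hm x.1))
    (fun x => by
      have := hij x.1
      push_cast
      rw [this]
      ring)
    (fun x x' => hcompat x.1 x.2 x'.1 x'.2)
    I hI hN
  refine ⟨N, I, ⟨mt, hmt⟩, ?_, fun y => ?_⟩
  · rw [hI, hD, Nat.cast_mul]
  · obtain ⟨x, hxT, hxy⟩ := hcov' y.1 y.2
    rw [hform' x y hxy, LocalizedModule.mk_eq]
    refine ⟨1, ?_⟩
    rw [one_smul, one_smul]
    show f ^ N • (h x ^ K • m x) = h x ^ (K + 1) • mt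
    exact (hglue ⟨x, hxT⟩).symm

theorem exists_mval_eq [DirectSum.Decomposition ℳ] (n : ℤ) {d : ℕ} (hd : 0 < d) {f : A}
    (hf : f ∈ 𝒜 d) (t : Γ(GrTilde.tilde 𝒜 ℳ n, Proj.basicOpen 𝒜 f)) :
    ∃ (k i : ℕ) (m : ℳ i), (i : ℤ) = k * d + n ∧
      ∀ (x : Proj.basicOpen 𝒜 f) (hx : f ^ k ∉ x.1.asHomogeneousIdeal.toIdeal),
        mval t x = LocalizedModule.mk m.1 ⟨f ^ k, hx⟩ := by
  obtain ⟨k, i, m, hi, h⟩ := sections_eq_fraction (𝒜 := 𝒜) (ℳ := ℳ) n hd hf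
    (show GrTilde.sect 𝒜 ℳ n (op (ProjectiveSpectrum.basicOpen 𝒜 f)) from t)
  exact ⟨k, i, m, hi, fun x hx => h x⟩

/-! ### functions on `D₊(f)` -/

theorem fval_mk_away {d : ℕ} {f : A} (hf : f ∈ 𝒜 d) (k : ℕ) (a : A) (ha : a ∈ 𝒜 (k • d))
    (x : Proj.basicOpen 𝒜 f) (hx : f ^ k ∉ x.1.asHomogeneousIdeal.toIdeal) :
    fval ((Proj.awayToSection 𝒜 f).hom (HomogeneousLocalization.Away.mk 𝒜 hf k a ha)) x =
      Localization.mk a ⟨f ^ k, hx⟩ := rfl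

theorem exists_awayToSection {d : ℕ} (hd : 0 < d) {f : A} (hf : f ∈ 𝒜 d)
    (g : Γ(Proj 𝒜, Proj.basicOpen 𝒜 f)) :
    ∃ (k : ℕ) (a : A) (ha : a ∈ 𝒜 (k • d)),
      (Proj.awayToSection 𝒜 f).hom (HomogeneousLocalization.Away.mk 𝒜 hf k a ha) = g := by
  have h1 : (Proj.basicOpenIsoAway 𝒜 f hf hd).inv ≫ Proj.awayToSection 𝒜 f = 𝟙 _ := by
    have := (Proj.basicOpenIsoAway 𝒜 f hf hd).inv_hom_id
    rwa [Proj.basicOpenIsoAway_hom] at this
  obtain ⟨k, a, ha, hz⟩ := HomogeneousLocalization.Away.mk_surjective 𝒜 hf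
    ((Proj.basicOpenIsoAway 𝒜 f hf hd).inv.hom g)
  refine ⟨k, a, ha, ?_⟩
  rw [hz]
  exact congrArg (fun φ => φ.hom g) h1

theorem basicOpen_mk_away {d : ℕ} {f : A} (hf : f ∈ 𝒜 d) (k : ℕ) (a : A)
    (ha : a ∈ 𝒜 (k • d)) :
    (Proj 𝒜).basicOpen
        ((Proj.awayToSection 𝒜 f).hom (HomogeneousLocalization.Away.mk 𝒜 hf k a ha)) =
      Proj.basicOpen 𝒜 (f * a) := by
  set g := (Proj.awayToSection 𝒜 f).hom (HomogeneousLocalization.Away.mk 𝒜 hf k a ha) with hg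
  have hfk : ∀ x : Proj.basicOpen 𝒜 f, f ^ k ∉ x.1.asHomogeneousIdeal.toIdeal :=
    fun x h => x.2 (x.1.isPrime.mem_of_pow_mem k h)
  have hval : ∀ x : Proj.basicOpen 𝒜 f, fval g x = Localization.mk a ⟨f ^ k, hfk x⟩ :=
    fun x => fval_mk_away hf k a ha x _
  apply le_antisymm
  · intro x hx
    have hxU : x ∈ Proj.basicOpen 𝒜 f := (Proj 𝒜).basicOpen_le g hx
    have hu : IsUnit (rres (Proj 𝒜) ((Proj 𝒜).basicOpen_le g) g) :=
      RingedSpace.isUnit_res_basicOpen (Proj 𝒜).toRingedSpace g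
    obtain ⟨c, hc⟩ := hu.exists_right_inv
    have h1 : fval (rres (Proj 𝒜) ((Proj 𝒜).basicOpen_le g) g * c) ⟨x, hx⟩ = 1 := by
      rw [hc]; exact fval_one _
    rw [fval_mul, fval_res, hval ⟨x, hxU⟩] at h1
    have hu2 : IsUnit (Localization.mk a ⟨f ^ k, hfk ⟨x, hxU⟩⟩ : Twist.Loc 𝒜 x) :=
      IsUnit.of_mul_eq_one _ h1
    have e1 : (Localization.mk a ⟨f ^ k, hfk ⟨x, hxU⟩⟩ : Twist.Loc 𝒜 x) =
        algebraMap A (Twist.Loc 𝒜 x) a * Localization.mk 1 ⟨f ^ k, hfk ⟨x, hxU⟩⟩ := by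
      rw [← Localization.mk_one_eq_algebraMap, Localization.mk_mul, mul_one, one_mul]
    rw [e1] at hu2
    have hu3 := isUnit_of_mul_isUnit_left hu2
    have : x.asHomogeneousIdeal.toIdeal.IsPrime := x.isPrime
    have hax : a ∈ x.asHomogeneousIdeal.toIdeal.primeCompl :=
      (IsLocalization.AtPrime.isUnit_to_map_iff (Twist.Loc 𝒜 x)
        x.asHomogeneousIdeal.toIdeal a).mp hu3
    rw [Proj.basicOpen_mul]
    exact ⟨hxU, hax⟩
  · have hWU : Proj.basicOpen 𝒜 (f * a) ≤ Proj.basicOpen 𝒜 f := by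
      rw [Proj.basicOpen_mul]; exact inf_le_left
    have hax : ∀ x : Proj.basicOpen 𝒜 (f * a), a ∉ x.1.asHomogeneousIdeal :=
      fun x h => x.2 (Ideal.mul_mem_left _ _ h)
    have hfx : ∀ x : Proj.basicOpen 𝒜 (f * a), f ^ k ∉ x.1.asHomogeneousIdeal.toIdeal :=
      fun x h => hfk ⟨x.1, hWU x.2⟩ h
    have hw : IsLocFrac 0 (fun x : Proj.basicOpen 𝒜 (f * a) =>
        (Localization.mk (f ^ k) ⟨a, hax x⟩ : Twist.Loc 𝒜 x.1)) :=
      isLocFrac_frac (⟨f ^ k, SetLike.pow_mem_graded k hf⟩ : 𝒜 (k • d)) (⟨a, ha⟩ : 𝒜 (k • d))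
        hax 0 (by simp)
    have hunit : IsUnit (rres (Proj 𝒜) hWU g) := by
      apply IsUnit.of_mul_eq_one (mkFun _ _ hw)
      apply fval_ext
      intro x
      rw [fval_mul, fval_res, hval ⟨x.1, hWU x.2⟩, fval_mkFun, fval_one]
      exact mk_mul_mk_swap (x := x.1) a (f ^ k) (hax x) (hfx x)
    have h3 : (Proj 𝒜).basicOpen (rres (Proj 𝒜) hWU g) = Proj.basicOpen 𝒜 (f * a) :=
      (Proj 𝒜).basicOpen_of_isUnit hunit
    have h4 : (Proj 𝒜).basicOpen (rres (Proj 𝒜) hWU g) =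
        Proj.basicOpen 𝒜 (f * a) ⊓ (Proj 𝒜).basicOpen g :=
      Scheme.basicOpen_res (Proj 𝒜) g (homOfLE hWU).op
    rw [← h3, h4]
    exact inf_le_right

/-! ### quasi-coherence -/

theorem isLocSec_tilde [DirectSum.Decomposition ℳ] (n : ℤ) {d : ℕ} (hd : 0 < d) {f : A}
    (hf : f ∈ 𝒜 d) (k : ℕ) (a : A) (ha : a ∈ 𝒜 (k • d)) (W : (Proj 𝒜).Opens)
    (hW : W = Proj.basicOpen 𝒜 (f * a)) (hWU : W ≤ Proj.basicOpen 𝒜 f) :
    IsLocSec (GrTilde.tilde 𝒜 ℳ n) (Proj.basicOpen 𝒜 f) W hWU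
      ((Proj.awayToSection 𝒜 f).hom (HomogeneousLocalization.Away.mk 𝒜 hf k a ha)) := by
  subst hW
  set g := (Proj.awayToSection 𝒜 f).hom (HomogeneousLocalization.Away.mk 𝒜 hf k a ha) with hg
  have hfa : f * a ∈ 𝒜 (d + k • d) := SetLike.mul_mem_graded hf ha
  have hpos : 0 < d + k • d := Nat.add_pos_left hd _
  have hfk : ∀ (x : Proj.basicOpen 𝒜 f) (j : ℕ), f ^ j ∉ x.1.asHomogeneousIdeal.toIdeal :=
    fun x j h => x.2 (x.1.isPrime.mem_of_pow_mem j h)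
  have hval : ∀ x : Proj.basicOpen 𝒜 f, fval g x = Localization.mk a ⟨f ^ k, hfk x k⟩ :=
    fun x => fval_mk_away hf k a ha x _
  constructor
  · intro t
    obtain ⟨K, i, m, hi, hm⟩ := exists_mval_eq n hpos hfa t
    have hdeg : (i : ℤ) = (((K * (k + 1)) • d : ℕ) : ℤ) + n := by
      rw [hi]
      simp only [smul_eq_mul]
      push_cast
      ring
    refine ⟨K, mfrac ℳ (Proj.basicOpen 𝒜 f) m
      (⟨f ^ (K * (k + 1)), SetLike.pow_mem_graded _ hf⟩ : 𝒜 ((K * (k + 1)) • d))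
      (fun x => hfk x _) n hdeg, ?_⟩
    apply mval_ext
    intro x
    have hxf : f * a ∉ x.1.asHomogeneousIdeal.toIdeal := x.2
    have hxU : x.1 ∈ Proj.basicOpen 𝒜 f := hWU x.2
    have hxK : (f * a) ^ K ∉ x.1.asHomogeneousIdeal.toIdeal :=
      fun h => hxf (x.1.isPrime.mem_of_pow_mem K h)
    rw [mval_smul, fval_pow, mval_res, mval_mfrac, hm x hxK, fval_res, hval ⟨x.1, hxU⟩,
      Localization.mk_pow, LocalizedModule.mk_smul_mk, LocalizedModule.mk_eq]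
    refine ⟨1, ?_⟩
    rw [one_smul, one_smul]
    show ((f ^ k) ^ K * (f * a) ^ K) • m.1 = f ^ (K * (k + 1)) • a ^ K • m.1
    rw [smul_smul]
    congr 1
    ring
  · intro s hs
    obtain ⟨K, i, m, hi, hm⟩ := exists_mval_eq n hd hf s
    have hkill : ∀ x : ProjectiveSpectrum 𝒜, f * a ∉ x.asHomogeneousIdeal.toIdeal →
        ∃ u : A, u ∉ x.asHomogeneousIdeal.toIdeal ∧ u • m.1 = 0 := by
      intro x hx
      have hxU : f ∉ x.asHomogeneousIdeal.toIdeal := fun h => hx (Ideal.mul_mem_right _ _ h)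
      have h0 : mval (res (GrTilde.tilde 𝒜 ℳ n) hWU s)
          (⟨x, hx⟩ : Proj.basicOpen 𝒜 (f * a)) = 0 := by
        rw [hs, mval_zero]
      rw [mval_res, hm ⟨x, hxU⟩ (hfk ⟨x, hxU⟩ K),
        ← LocalizedModule.zero_mk (1 : x.asHomogeneousIdeal.toIdeal.primeCompl),
        LocalizedModule.mk_eq] at h0
      obtain ⟨u, hu⟩ := h0
      refine ⟨(u : A), u.2, ?_⟩
      have hu' : u • m.1 = 0 := by simpa using hu
      exact hu'
    obtain ⟨N, hN⟩ := Groth.Agent.Lib.Helper6.exists_pow_smul_eq_zero_of_locally_killed 𝒜 ℳ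
      (HomogeneousIdeal.mem_irrelevant_of_mem 𝒜 hpos hfa) m.2 hkill
    refine ⟨N, ?_⟩
    apply mval_ext
    intro x
    rw [mval_smul, fval_pow, hval x, hm x (hfk x K), Localization.mk_pow,
      LocalizedModule.mk_smul_mk, mval_zero,
      ← LocalizedModule.zero_mk (1 : x.1.asHomogeneousIdeal.toIdeal.primeCompl),
      LocalizedModule.mk_eq]
    refine ⟨⟨f ^ N, hfk x N⟩, ?_⟩
    rw [smul_zero, smul_zero]
    show f ^ N • (1 : A) • a ^ N • m.1 = 0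
    rw [one_smul, smul_smul, ← mul_pow, hN]

/-- `M(n)~` is quasi-coherent -/
theorem isQuasicoherent_tilde [DirectSum.Decomposition ℳ] (n : ℤ) :
    (GrTilde.tilde 𝒜 ℳ n).IsQuasicoherent := by
  apply QCProps.isQuasicoherent_of_charts
  intro x
  obtain ⟨d, hd, f, hf, hxf⟩ := Groth.Agent.Lib.Helper6.exists_homogeneous_mem_basicOpen 𝒜 x
  have hU := Proj.isAffineOpen_basicOpen 𝒜 f hf hd
  refine ⟨Proj.basicOpen 𝒜 f, hU, hxf, ?_⟩
  apply isQuasicoherent_chart_of_isLocSec _ hU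
  intro g
  obtain ⟨k, a, ha, rfl⟩ := exists_awayToSection hd hf g
  exact isLocSec_tilde n hd hf k a ha _
    ((hU.fromSpec_image_basicOpen _).trans (basicOpen_mk_away hf k a ha)) _

end Groth.Agent.Lib.Helper3.GrTildeQC
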