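import Groth.Agent.Lib.Helper3.GrModFT
import Groth.Agent.Lib.Helper3.GrModSec

/-!
# `O(n)` on `Proj S`, `S` Noetherian, has finitely generated sections over the `D₊(f)`
-/

set_option autoImplicit false
set_option linter.unusedSectionVars false
universe u
open CategoryTheory CategoryTheory.Limits AlgebraicGeometry TopologicalSpace Opposite
open Scheme.Modules

namespace Groth.Agent.Lib.Helper3.GrTwistNoethFT

open QCSec GrModQC GrModFT

variable {A σ : Type u} [CommRing A] [SetLike σ A] [AddSubgroupClass σ A] {𝒜 : ℕ → σ} [GradedRing 𝒜]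

theorem pow_mem' {d : ℕ} {f : A} (hf : f ∈ 𝒜 d) (k : ℕ) : f ^ k ∈ 𝒜 (k * d) := by
  have := SetLike.pow_mem_graded k hf
  rwa [smul_eq_mul] at this

/-- the sections of `O(n)` over `D₊(f)` are generated by finitely many sections when the ring is
Noetherian -/
theorem exists_generators [IsNoetherianRing A] {d : ℕ} (hd : 0 < d) {f : A} (hf : f ∈ 𝒜 d) (n : ℤ)
    (V : (Proj 𝒜).Opens) (hV : V = Proj.basicOpen 𝒜 f) :
    ∃ (G₀ : Finset A) (γ : A → Γ(GrMod.tilde 𝒜 𝒜 n, V)),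
      ∀ t : Γ(GrMod.tilde 𝒜 𝒜 n, V), ∃ c : A → Γ(Proj 𝒜, V), t = ∑ g ∈ G₀, c g • γ g := by
  classical
  subst hV
  let S : Set A := {a | ∃ k i : ℕ, (i : ℤ) = k * d + n ∧ a ∈ 𝒜 i}
  have hfg : (Ideal.span S).FG := IsNoetherian.noetherian _
  obtain ⟨G₀, hG₀sub, hG₀span⟩ := (Submodule.fg_span_iff_fg_span_finset_subset _).mp hfg
  have hdeg : ∀ g ∈ G₀, ∃ k i : ℕ, (i : ℤ) = k * d + n ∧ g ∈ 𝒜 i := fun g hg => hG₀sub hg
  choose! kk e he he_mem using hdeg
  have hnot : ∀ (k : ℕ) (x : Proj.basicOpen 𝒜 f), f ^ k ∉ x.1.asHomogeneousIdeal := by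
    intro k x hx
    exact x.2 (x.1.isPrime.mem_of_pow_mem k hx)
  let γ : A → Γ(GrMod.tilde 𝒜 𝒜 n, Proj.basicOpen 𝒜 f) := fun g =>
    if h : g ∈ G₀ then mfrac 𝒜 (Proj.basicOpen 𝒜 f) ⟨g, he_mem g h⟩
      ⟨f ^ kk g, pow_mem' hf (kk g)⟩ (hnot _) n (by rw [he g h]; push_cast; ring) else 0
  refine ⟨G₀, γ, fun t => ?_⟩
  obtain ⟨k, i, m, hi, hval⟩ := exists_mval_eq (ℳ := 𝒜) n hd hf t
  have hmspan : m.1 ∈ Submodule.span A (G₀ : Set A) := by
    have h1 : m.1 ∈ Ideal.span S := Ideal.subset_span ⟨k, i, hi, m.2⟩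
    have h2 : Ideal.span S = Submodule.span A (G₀ : Set A) := hG₀span
    rw [h2] at h1
    exact h1
  obtain ⟨a, -, ha⟩ := Submodule.mem_span_finset.mp hmspan
  let b : A → A := fun g => if e g ≤ i then (DirectSum.decompose 𝒜 (a g) (i - e g) : A) else 0
  have hsum : m.1 = ∑ g ∈ G₀, b g * g := by
    have h1 : ((DirectSum.decompose 𝒜 m.1 i : 𝒜 i) : A) = m.1 :=
      DirectSum.decompose_of_mem_same 𝒜 m.2
    rw [← h1, ← ha, GrModSec.coe_decompose_finset_sum]
    refine Finset.sum_congr rfl (fun g hg => ?_)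
    change ((DirectSum.decompose 𝒜 (a g * g) i : 𝒜 i) : A) = b g * g
    by_cases hle : e g ≤ i
    · rw [DirectSum.coe_decompose_mul_of_right_mem_of_le 𝒜 (he_mem g hg) hle]
      simp only [b, if_pos hle]
    · rw [DirectSum.coe_decompose_mul_of_right_mem_of_not_le 𝒜 (he_mem g hg) hle]
      simp only [b, if_neg hle, zero_mul]
  -- degrees
  have hkk : ∀ g ∈ G₀, e g ≤ i → kk g ≤ k ∧ i - e g = (k - kk g) * d := by
    intro g hg hle
    have h1 := he g hg
    have h2 : ((i : ℤ) - e g) = ((k : ℤ) - kk g) * d := by rw [hi, h1]; ring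
    have h3 : (0 : ℤ) ≤ (i : ℤ) - e g := by omega
    have hd' : (0 : ℤ) < d := by exact_mod_cast hd
    have h4 : kk g ≤ k := by
      by_contra hlt
      push Not at hlt
      have : ((k : ℤ) - kk g) * d < 0 := by
        apply mul_neg_of_neg_of_pos _ hd'
        omega
      omega
    refine ⟨h4, ?_⟩
    have : ((i - e g : ℕ) : ℤ) = (((k - kk g) * d : ℕ) : ℤ) := by
      rw [Nat.cast_sub hle, Nat.cast_mul, Nat.cast_sub h4]
      exact h2
    exact_mod_cast this
  let c : A → Γ(Proj 𝒜, Proj.basicOpen 𝒜 f) := fun g =>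
    if h : g ∈ G₀ ∧ e g ≤ i then
      mkFun (Proj.basicOpen 𝒜 f)
        (fun x => Localization.mk (b g) ⟨f ^ (k - kk g), hnot _ x⟩)
        (isLocFrac_frac (⟨b g, by
            have := (hkk g h.1 h.2).2
            simp only [b, if_pos h.2]
            rw [← this]
            exact SetLike.coe_mem _⟩ : 𝒜 ((k - kk g) * d))
          ⟨f ^ (k - kk g), pow_mem' hf _⟩ (hnot _) 0 (by simp))
    else 0
  refine ⟨c, ?_⟩
  apply mval_ext
  intro x
  rw [hval x (hnot k x), mval_sum]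
  have hterm : ∀ g ∈ G₀, mval (c g • γ g) x =
      LocalizedModule.mk (b g • g) ⟨f ^ k, hnot k x⟩ := by
    intro g hg
    by_cases hle : e g ≤ i
    · have hγ : γ g = mfrac 𝒜 (Proj.basicOpen 𝒜 f) ⟨g, he_mem g hg⟩
          ⟨f ^ kk g, pow_mem' hf (kk g)⟩ (hnot _) n (by rw [he g hg]; push_cast; ring) :=
        dif_pos hg
      have hc : c g = mkFun (Proj.basicOpen 𝒜 f)
          (fun x => Localization.mk (b g) ⟨f ^ (k - kk g), hnot _ x⟩) _ := dif_pos ⟨hg, hle⟩
      rw [mval_smul, hγ, mval_mfrac, hc, fval_mkFun, LocalizedModule.mk_smul_mk]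
      congr 1
      apply Subtype.ext
      change f ^ (k - kk g) * f ^ kk g = f ^ k
      rw [← pow_add, Nat.sub_add_cancel (hkk g hg hle).1]
    · have hc : c g = 0 := dif_neg (fun h => hle h.2)
      have hb : b g = 0 := by simp only [b, if_neg hle]
      rw [hc, zero_smul, mval_zero, hb, zero_smul, LocalizedModule.zero_mk]
  rw [Finset.sum_congr rfl hterm, ← mk_sum, hsum]
  rfl

end Groth.Agent.Lib.Helper3.GrTwistNoethFT
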