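import Groth.Agent.Lib.Helper3.HenselPair
import Mathlib.Algebra.Ring.GeomSum
import Mathlib.Order.Monotone.Basic

/-!
# Henselian pairs from complete separated filtrations with nil graded pieces
-/

namespace Groth.Agent.Lib.Helper3

open Polynomial

/-- Newton iteration: starting from an approximate root `a₀` with `f'(a₀)` a unit and `f(a₀)` in an
ideal contained in the Jacobson radical, one finds `a` with `a - a₀ ∈ (f(a₀))` and
`f(a) ∈ (f(a₀)^(2^n))`. -/
theorem exists_newton {B : Type*} [CommRing B] {N : Ideal B} (hN : N ≤ Ideal.jacobson ⊥)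
    (f : B[X]) (a₀ : B) (h₁ : f.eval a₀ ∈ N) (h₂ : IsUnit (f.derivative.eval a₀)) (n : ℕ) :
    ∃ a : B, a - a₀ ∈ Ideal.span {f.eval a₀} ∧ ∃ c : B, f.eval a = c * f.eval a₀ ^ (2 ^ n) := by
  induction n with
  | zero => exact ⟨a₀, by simp, 1, by simp⟩
  | succ n ih =>
    obtain ⟨a, haR, c, hc⟩ := ih
    have hspan : Ideal.span {f.eval a₀} ≤ N := (Ideal.span_singleton_le_iff_mem _).mpr h₁
    have hfa : f.eval a ∈ Ideal.span {f.eval a₀} := by
      rw [hc]
      exact Ideal.mul_mem_left _ _
        (Ideal.pow_mem_of_mem _ (Ideal.mem_span_singleton_self _) _ (by positivity))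
    have hu : IsUnit (f.derivative.eval a) := by
      apply isUnit_of_isUnit_mk hN
      have : Ideal.Quotient.mk N (f.derivative.eval a) =
          Ideal.Quotient.mk N (f.derivative.eval a₀) := by
        rw [Ideal.Quotient.eq]
        obtain ⟨z, hz⟩ := f.derivative.evalSubFactor a a₀
        rw [hz]
        exact Ideal.mul_mem_left _ _ (hspan haR)
      rw [this]
      exact h₂.map _
    obtain ⟨v, hv⟩ := hu.exists_right_inv
    obtain ⟨k, hk⟩ := f.binomExpansion a (-(f.eval a * v))
    refine ⟨a + -(f.eval a * v), ?_, k * v ^ 2 * c ^ 2, ?_⟩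
    · have : a + -(f.eval a * v) - a₀ = (a - a₀) - f.eval a * v := by ring
      rw [this]
      exact Ideal.sub_mem _ haR (Ideal.mul_mem_right _ _ hfa)
    · rw [hk]
      have : f.eval a + f.derivative.eval a * -(f.eval a * v) = 0 := by
        linear_combination (- f.eval a) * hv
      rw [this, hc, pow_succ 2 n, pow_mul]
      ring

/-- Dependent choice for sequences. -/
theorem exists_seq_of_step {A : Type*} (P : ℕ → A → Prop) (R : ℕ → A → A → Prop)
    (h0 : ∃ a, P 0 a) (hstep : ∀ j a, P j a → ∃ a', P (j + 1) a' ∧ R j a a') :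
    ∃ s : ℕ → A, (∀ j, P j (s j)) ∧ ∀ j, R j (s j) (s (j + 1)) := by
  classical
  choose F hF using hstep
  obtain ⟨a0, ha0⟩ := h0
  let s' : ∀ j, {a : A // P j a} := fun j =>
    Nat.rec (motive := fun j => {a : A // P j a}) ⟨a0, ha0⟩
      (fun j w => ⟨F j w.1 w.2, (hF j w.1 w.2).1⟩) j
  refine ⟨fun j => (s' j).1, fun j => (s' j).2, fun j => ?_⟩
  exact (hF j (s' j).1 (s' j).2).2

/-- A ring with a separated, complete, decreasing filtration by ideals `K j` such that
`K j ≤ rad (K (j+1))` is henselian along `K 0`. -/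
theorem henselianRing_of_filtration {A : Type*} [CommRing A] (K : ℕ → Ideal A)
    (hanti : ∀ j, K (j + 1) ≤ K j)
    (hsep : ∀ a : A, (∀ j, a ∈ K j) → a = 0)
    (hcomplete : ∀ s : ℕ → A, (∀ j, s (j + 1) - s j ∈ K j) → ∃ a : A, ∀ j, a - s j ∈ K j)
    (hnil : ∀ j, K j ≤ (K (j + 1)).radical) :
    HenselianRing A (K 0) := by
  have hanti' : ∀ j, K j ≤ K 0 := by
    intro j
    induction j with
    | zero => exact le_rfl
    | succ j ih => exact (hanti j).trans ih
  have hjac : K 0 ≤ Ideal.jacobson ⊥ := by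
    intro x hx
    rw [Ideal.mem_jacobson_bot]
    intro y
    set z := x * y with hz
    have hzK : z ∈ K 0 := Ideal.mul_mem_right _ _ hx
    obtain ⟨s, hsP, hsR⟩ := exists_seq_of_step (fun j w => 1 - (1 + z) * w ∈ K j)
      (fun j w w' => w' - w ∈ K j) ⟨1, by simpa using hzK⟩ (by
        intro j w hw
        obtain ⟨m, hm⟩ := hnil j hw
        set e := 1 - (1 + z) * w with he
        set g := ∑ i ∈ Finset.range m, e ^ i with hg
        have hge : g * (1 - e) = 1 - e ^ m := by
          rw [hg, mul_comm]; exact mul_neg_geom_sum e m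
        refine ⟨w * (1 + e * g), ?_, ?_⟩
        · have : 1 - (1 + z) * (w * (1 + e * g)) = e ^ m * e := by
            have h1 : (1 + z) * w = 1 - e := by rw [he]; ring
            calc 1 - (1 + z) * (w * (1 + e * g)) = 1 - ((1 + z) * w) * (1 + e * g) := by ring
              _ = 1 - (1 - e) * (1 + e * g) := by rw [h1]
              _ = e * (1 - g * (1 - e)) := by ring
              _ = e ^ m * e := by rw [hge]; ring
          rw [this]
          exact Ideal.mul_mem_right _ _ hm
        · have : w * (1 + e * g) - w = e * (w * g) := by ring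
          rw [this]
          exact Ideal.mul_mem_right _ _ hw)
    obtain ⟨w, hw⟩ := hcomplete s hsR
    have : 1 - (1 + z) * w = 0 := by
      apply hsep
      intro j
      have : 1 - (1 + z) * w = (1 - (1 + z) * s j) - (1 + z) * (w - s j) := by ring
      rw [this]
      exact Ideal.sub_mem _ (hsP j) (Ideal.mul_mem_left _ _ (hw j))
    have h1 : (z + 1) * w = 1 := by linear_combination -this
    exact IsUnit.of_mul_eq_one _ h1
  refine ⟨hjac, ?_⟩
  intro f hf a₀ h₁ h₂
  have hu₀ : IsUnit (f.derivative.eval a₀) := isUnit_of_isUnit_mk hjac h₂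
  obtain ⟨s, hsP, hsR⟩ := exists_seq_of_step (fun j a => a - a₀ ∈ K 0 ∧ f.eval a ∈ K j)
    (fun j a a' => a' - a ∈ K j) ⟨a₀, by simp, h₁⟩ (by
      rintro j a ⟨ha0, haj⟩
      have hu : IsUnit (f.derivative.eval a) := by
        apply isUnit_of_isUnit_mk hjac
        have : Ideal.Quotient.mk (K 0) (f.derivative.eval a) =
            Ideal.Quotient.mk (K 0) (f.derivative.eval a₀) := by
          rw [Ideal.Quotient.eq]
          obtain ⟨z, hz⟩ := f.derivative.evalSubFactor a a₀
          rw [hz]
          exact Ideal.mul_mem_left _ _ ha0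
        rw [this]
        exact h₂
      obtain ⟨m, hm⟩ := hnil j haj
      obtain ⟨a', ha', c, hc⟩ := exists_newton hjac f a (hanti' j haj) hu m
      have hspan : Ideal.span {f.eval a} ≤ K j := (Ideal.span_singleton_le_iff_mem _).mpr haj
      refine ⟨a', ⟨?_, ?_⟩, hspan ha'⟩
      · have : a' - a₀ = (a' - a) + (a - a₀) := by ring
        rw [this]
        exact Ideal.add_mem _ (hanti' j (hspan ha')) ha0
      · rw [hc]
        refine Ideal.mul_mem_left _ _ ?_
        have : m ≤ 2 ^ m := Nat.lt_two_pow_self.le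
        obtain ⟨d, hd⟩ := Nat.exists_eq_add_of_le this
        rw [hd, pow_add]
        exact Ideal.mul_mem_right _ _ hm)
  obtain ⟨a, ha⟩ := hcomplete s hsR
  refine ⟨a, ?_, ?_⟩
  · apply hsep
    intro j
    obtain ⟨z, hz⟩ := f.evalSubFactor a (s j)
    have : f.eval a = z * (a - s j) + f.eval (s j) := by rw [← hz]; ring
    rw [this]
    exact Ideal.add_mem _ (Ideal.mul_mem_left _ _ (ha j)) (hsP j).2
  · have : a - a₀ = (a - s 0) + (s 0 - a₀) := by ring
    rw [this]
    exact Ideal.add_mem _ (ha 0) (hsP 0).1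

end Groth.Agent.Lib.Helper3
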