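import Groth.Agent.Lib.Helper3.QAffCrit

/-!
# Ampleness criteria via twists of ideals (EGA II 4.5.2 (c), 4.6.8)
-/

set_option autoImplicit false
universe u
open CategoryTheory CategoryTheory.Limits AlgebraicGeometry TopologicalSpace Opposite
open Scheme.Modules

namespace Groth.Agent.Lib.Helper3.IdealAmple

open QCSec InvGen InvTensor InvMonoidal InvCoh FreeSec PbBasic InvRestrict IdealMod CounitGG AmpleMisc
  GlobGen InvAmple QAffCrit

variable {X : Scheme.{u}} {J : X.Modules} (j : J ⟶ Coh.structureModule X)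

/-- the multiplication map `J ⊗ N ⟶ N` of an ideal `J` -/
noncomputable def mulMap (N : X.Modules) : CohB1.tensorMod J N ⟶ N :=
  tensorMap j (𝟙 N) ≫ (unitorL N).hom

theorem mulMap_tm (N : X.Modules) (U : X.Opens) (t : Γ(J, U)) (n : Γ(N, U)) :
    (mulMap j N).app U (tm J N U t n) = valOf j t • n := by
  change (unitorL N).hom.app U ((tensorMap j (𝟙 N)).app U (tm J N U t n)) = _
  rw [tensorMap_tm]
  exact unitorL_hom_tm N U n (valOf j t)

theorem exists_section_twist [Mono j] {N : X.Modules} {U : X.Opens} {ℓ : Γ(N, U)}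
    (hℓ : IsGen N U ℓ) (e : Γ(J, U)) (he : valOf j e = 1)
    (hgg : Curv2.IsGloballyGenerated (CohB1.tensorMod J N)) (x : X) (hx : x ∈ U) :
    ∃ τ : Γ(CohB1.tensorMod J N, ⊤),
      x ∈ CohB1.genLocus N (globalHom N ((mulMap j N).app ⊤ τ)) := by
  obtain ⟨I, σ, hσ⟩ := exists_isLocSpannedBy_of_isGloballyGenerated hgg
  have hgen : IsGen (CohB1.tensorMod J N) U (tm J N U e ℓ) :=
    isGen_tm (isGen_of_valOf_eq_one j e he) hℓ
  obtain ⟨i, W, hWU, a, hxa, ha⟩ := exists_unit_coord hσ hgen x hx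
  refine ⟨σ i, ?_⟩
  have h1 := congrArg ((mulMap j N).app W) ha
  rw [Scheme.Modules.Hom.app_smul, tm_res, mulMap_tm, valOf_res, he, rres_one, one_smul,
    QCExact.app_res'] at h1
  have h2 : CohB1.genLocus N (globalHom N ((mulMap j N).app ⊤ (σ i))) ⊓ W = X.basicOpen a := by
    apply genLocus_inf_eq_basicOpen _ (hℓ.mono hWU) a
    rw [sec_globalHom]
    exact h1.symm
  have h3 : x ∈ X.basicOpen a := hxa
  rw [← h2] at h3
  exact h3.1

theorem genLocus_mulMap_le {N : X.Modules} (hN : PicF.IsInvertible N) {U : X.Opens}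
    (hdisj : ∀ (W' : X.Opens) (σ : Γ(J, W')),
      Disjoint (X.basicOpen (valOf j σ) : Set X) ((U : Set X)ᶜ))
    (τ : Γ(CohB1.tensorMod J N, ⊤)) :
    CohB1.genLocus N (globalHom N ((mulMap j N).app ⊤ τ)) ≤ U := by
  intro y hy
  by_contra hyU
  obtain ⟨V, ℓ', hyV, hg⟩ := exists_isGen hN y
  obtain ⟨t, ht⟩ := tm_gen_surjective_self J N hg (res _ (le_top : V ≤ ⊤) τ)
  have h1 : sec (globalHom N ((mulMap j N).app ⊤ τ)) V = valOf j t • ℓ' := by
    rw [sec_globalHom, ← QCExact.app_res']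
    have ht' : tm J N V t ℓ' = res _ (le_top : V ≤ ⊤) τ := ht
    rw [← ht', mulMap_tm]
  have h2 := genLocus_inf_eq_basicOpen _ hg (valOf j t) h1
  have h3 : y ∈ X.basicOpen (valOf j t) := by
    rw [← h2]; exact ⟨hy, hyV⟩
  exact Set.disjoint_left.mp (hdisj V t) h3 hyU

/-- **EGA II 4.5.2 (c) ⟹ (a)**, in pointwise form -/
theorem isAmple_of_ideal_twists [CompactSpace X] {L : X.Modules} (hL : PicF.IsInvertible L)
    (h : ∀ U : X.Opens, IsAffineOpen U → ∃ (J : X.Modules) (j : J ⟶ Coh.structureModule X),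
      Mono j ∧ (∃ e : Γ(J, U), valOf j e = 1) ∧
      (∀ (W' : X.Opens) (σ : Γ(J, W')),
        Disjoint (X.basicOpen (valOf j σ) : Set X) ((U : Set X)ᶜ)) ∧
      ∃ n : ℕ, Curv2.IsGloballyGenerated (CohB1.tensorMod J (CohB1.tensorPow L (n + 1)))) :
    CohB1.IsAmple L := by
  apply isAmple_of_secLocus hL
  intro x
  obtain ⟨U, ℓ, hU, hxU, hg⟩ := exists_affine_isGen hL x
  obtain ⟨J, j, hmono, ⟨e, he⟩, hdisj, n, hgg⟩ := h U hU
  haveI := hmono
  have hgn : IsGen (CohB1.tensorPow L (n + 1)) U (lpow L ℓ (n + 1)) := isGen_lpow hg (n + 1)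
  obtain ⟨τ, hτ⟩ := exists_section_twist j hgn e he hgg x hxU
  have hle := genLocus_mulMap_le j (isInvertible_tensorPow hL (n + 1)) hdisj τ
  refine ⟨_, ⟨n, _, rfl⟩, hτ, ?_⟩
  have := isAffineOpen_genLocus_inf_of_isGen
    (globalHom _ ((mulMap j (CohB1.tensorPow L (n + 1))).app ⊤ τ)) hU hgn
  rwa [inf_eq_left.mpr hle] at this

/-- ampleness on an open `W` from global generation of the restrictions of twisted ideals -/
theorem isAmple_restrict_of_ideal_twists {X : Scheme.{u}} [CompactSpace X]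
    [QuasiSeparatedSpace X] (W : X.Opens) (hWc : IsCompact (W : Set X)) (L : X.Modules)
    (hL : PicF.IsInvertible L)
    (h : ∀ (J : X.Modules) (i : J ⟶ Coh.structureModule X), Mono i → Coh.IsQCoh J → CohB1.IsFT J →
      ∃ n : ℕ, Curv2.IsGloballyGenerated
        ((CohB1.tensorMod J (CohB1.tensorPow L (n + 1))).restrict W.ι)) :
    CohB1.IsAmple (L.restrict W.ι) := by
  haveI : CompactSpace ((W : X.Opens) : Scheme.{u}) := isCompact_iff_compactSpace.mp hWc
  haveI : QuasiSeparatedSpace ((W : X.Opens) : Scheme.{u}) :=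
    quasiSeparatedSpace_of_quasiSeparated W.ι
  apply isAmple_of_ideal_twists (isInvertible_restrict W.ι hL)
  intro U' hU'
  obtain ⟨J', j', hmono', hqc', hft', he', hdisj'⟩ := exists_finiteType_ideal hU'
  haveI := hmono'
  haveI : J'.IsQuasicoherent := hqc'
  obtain ⟨F, i, eF, hmono, hqc, hft, hcomp⟩ := QCExtend.exists_finiteType_extension W hWc
    (Coh.structureModule X) J' hft' (j' ≫ (restrictUnitIso W.ι).inv)
  obtain ⟨n, hgg⟩ := h F i hmono hqc hft
  refine ⟨J', j', hmono', he', hdisj', n, ?_⟩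
  refine isGloballyGenerated_of_iso ?_ hgg
  exact (restrictTensorIso W.ι F (CohB1.tensorPow L (n + 1))).symm ≪≫
    tensorMapIso eF (restrictPowIso W.ι L (n + 1)).symm


end Groth.Agent.Lib.Helper3.IdealAmple
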