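import Mathlib.RingTheory.Length
import Mathlib.RingTheory.Ideal.Operations
import Mathlib.RingTheory.Flat.EquationalCriterion
import Mathlib.RingTheory.SimpleModule.Basic
import Mathlib.RingTheory.LocalRing.MaximalIdeal.Basic

/-!
# Independent families in the sense of Lech (general index type)
-/

namespace Groth.Agent.Lib.Helper3

universe u

open Function

variable {A : Type u} [CommRing A] {ι : Type*} [Fintype ι]

/-- Lech independence for a finite family. -/
def Indep (f : ι → A) : Prop :=
  ∀ a : ι → A, ∑ i, a i * f i = 0 → ∀ i, a i ∈ Ideal.span (Set.range f)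

variable [DecidableEq ι]

omit [Fintype ι] in
theorem span_update_mul_le (f : ι → A) (i₀ : ι) (g : A) :
    Ideal.span (Set.range (update f i₀ (f i₀ * g))) ≤ Ideal.span (Set.range f) := by
  rw [Ideal.span_le]
  rintro _ ⟨i, rfl⟩
  by_cases hi : i = i₀
  · subst hi
    simp only [update_self]
    exact Ideal.mul_mem_right _ _ (Ideal.subset_span ⟨i, rfl⟩)
  · simp only [update_of_ne hi]
    exact Ideal.subset_span ⟨i, rfl⟩

omit [Fintype ι] in
theorem span_update_mul_le' (f : ι → A) (i₀ : ι) (g : A) :
    Ideal.span (Set.range (update f i₀ (f i₀ * g))) ≤ Ideal.span (Set.range (update f i₀ g)) := by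
  rw [Ideal.span_le]
  rintro _ ⟨i, rfl⟩
  by_cases hi : i = i₀
  · subst hi
    simp only [update_self]
    refine Ideal.mul_mem_left _ _ (Ideal.subset_span ⟨i, ?_⟩)
    simp
  · simp only [update_of_ne hi]
    refine Ideal.subset_span ⟨i, ?_⟩
    simp [update_of_ne hi]

theorem sum_ite_ne_add (a : ι → A) (i₀ : ι) :
    ∑ i, (if i = i₀ then 0 else a i) + a i₀ = ∑ i, a i := by
  have : ∀ i, (if i = i₀ then 0 else a i) = a i - (if i = i₀ then a i₀ else 0) := by
    intro i
    by_cases hi : i = i₀
    · subst hi; simp
    · simp [hi]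
  simp only [this, Finset.sum_sub_distrib, Finset.sum_ite_eq', Finset.mem_univ, if_true]
  ring

theorem indep_of_update_mul (f : ι → A) (i₀ : ι) (g : A)
    (h : Indep (update f i₀ (f i₀ * g))) : Indep f := by
  intro a ha
  set f' := update f i₀ (f i₀ * g) with hf'
  have hJI := span_update_mul_le f i₀ g
  have hfi₀ : f' i₀ = f i₀ * g := by simp [hf']
  have hfi : ∀ i, i ≠ i₀ → f' i = f i := fun i hi => by simp [hf', update_of_ne hi]
  -- step 1
  have h1 : a i₀ ∈ Ideal.span (Set.range f') := by
    have := h (fun i => if i = i₀ then a i₀ else a i * g) ?_ i₀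
    · simpa using this
    · have : ∀ i, (if i = i₀ then a i₀ else a i * g) * f' i = (a i * f i) * g := by
        intro i
        by_cases hi : i = i₀
        · subst hi; rw [if_pos rfl, hfi₀]; ring
        · rw [if_neg hi, hfi i hi]; ring
      simp only [this, ← Finset.sum_mul, ha, zero_mul]
  obtain ⟨b, hb⟩ := Ideal.mem_span_range_iff_exists_fun.mp h1
  -- step 3
  have h3 := h (fun i => if i = i₀ then b i₀ * f i₀ else a i + b i * f i₀) ?_
  · intro i
    by_cases hi : i = i₀
    · subst hi; exact hJI h1
    · have := hJI (h3 i)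
      simp only [if_neg hi] at this
      have h4 : b i * f i₀ ∈ Ideal.span (Set.range f) :=
        Ideal.mul_mem_left _ _ (Ideal.subset_span ⟨i₀, rfl⟩)
      have := Ideal.sub_mem _ this h4
      simpa using this
  · have : ∀ i, (if i = i₀ then b i₀ * f i₀ else a i + b i * f i₀) * f' i =
        (if i = i₀ then 0 else a i * f i) + (b i * f' i) * f i₀ := by
      intro i
      by_cases hi : i = i₀
      · subst hi; rw [if_pos rfl, if_pos rfl, hfi₀]; ring
      · rw [if_neg hi, if_neg hi, hfi i hi]; ring
    simp only [this, Finset.sum_add_distrib, ← Finset.sum_mul, hb]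
    rw [sum_ite_ne_add (fun i => a i * f i) i₀, ha]

theorem indep_update_of_update_mul (f : ι → A) (i₀ : ι) (g : A)
    (h : Indep (update f i₀ (f i₀ * g))) : Indep (update f i₀ g) := by
  apply indep_of_update_mul (update f i₀ g) i₀ (f i₀)
  simpa [mul_comm] using h

/-- The key length formula. -/
theorem length_quotient_update_mul (f : ι → A) (i₀ : ι) (g : A)
    (h : Indep (update f i₀ (f i₀ * g))) :
    Module.length A (A ⧸ Ideal.span (Set.range (update f i₀ (f i₀ * g)))) =
      Module.length A (A ⧸ Ideal.span (Set.range f)) +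
        Module.length A (A ⧸ Ideal.span (Set.range (update f i₀ g))) := by
  set f' := update f i₀ (f i₀ * g) with hf'
  set f₂ := update f i₀ g with hf₂
  set J := Ideal.span (Set.range f') with hJ
  set I := Ideal.span (Set.range f) with hI
  set J' := Ideal.span (Set.range f₂) with hJ'
  have hJI : J ≤ I := span_update_mul_le f i₀ g
  have hJJ' : J ≤ J' := span_update_mul_le' f i₀ g
  have hfi₀ : f' i₀ = f i₀ * g := by simp [hf']
  have hfi : ∀ i, i ≠ i₀ → f' i = f i := fun i hi => by simp [hf', update_of_ne hi]
  have hf₂i₀ : f₂ i₀ = g := by simp [hf₂]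
  have hf₂i : ∀ i, i ≠ i₀ → f₂ i = f i := fun i hi => by simp [hf₂, update_of_ne hi]
  have hcomap : J' ≤ Submodule.comap (LinearMap.mulLeft A (f i₀)) J := by
    rw [hJ', Ideal.span_le]
    rintro _ ⟨i, rfl⟩
    change f i₀ * f₂ i ∈ J
    by_cases hi : i = i₀
    · subst hi
      rw [hf₂i₀, ← hfi₀]
      exact Ideal.subset_span ⟨i, rfl⟩
    · rw [hf₂i i hi, ← hfi i hi]
      exact Ideal.mul_mem_left _ _ (Ideal.subset_span ⟨i, rfl⟩)
  let φ : (A ⧸ J') →ₗ[A] (A ⧸ J) := Submodule.mapQ J' J (LinearMap.mulLeft A (f i₀)) hcomap
  let ψ : (A ⧸ J) →ₗ[A] (A ⧸ I) := Submodule.mapQ J I LinearMap.id (by simpa using hJI)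
  have hφ : Function.Injective φ := by
    rw [injective_iff_map_eq_zero]
    intro y hy
    obtain ⟨x, rfl⟩ := Submodule.Quotient.mk_surjective _ y
    have hx : f i₀ * x ∈ J := by
      have : φ (Submodule.Quotient.mk x) = Submodule.Quotient.mk (f i₀ * x) := rfl
      rw [this] at hy
      exact (Submodule.Quotient.mk_eq_zero _).mp hy
    obtain ⟨b, hb⟩ := Ideal.mem_span_range_iff_exists_fun.mp hx
    have key := h (fun i => if i = i₀ then b i₀ * g - x else g * b i) ?_ i₀
    · simp only [if_pos] at key
      rw [Submodule.Quotient.mk_eq_zero]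
      have h5 : b i₀ * g ∈ J' := Ideal.mul_mem_left _ _ (by rw [← hf₂i₀]; exact Ideal.subset_span ⟨i₀, rfl⟩)
      have := Ideal.sub_mem _ h5 (hJJ' key)
      simpa using this
    · have : ∀ i, (if i = i₀ then b i₀ * g - x else g * b i) * f' i =
          g * (b i * f' i) - (if i = i₀ then x * (f i₀ * g) else 0) := by
        intro i
        by_cases hi : i = i₀
        · subst hi; rw [if_pos rfl, if_pos rfl, hfi₀]; ring
        · rw [if_neg hi, if_neg hi]; ring
      simp only [this, Finset.sum_sub_distrib, ← Finset.mul_sum, hb, Finset.sum_ite_eq',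
        Finset.mem_univ, if_true]
      ring
  have hψ : Function.Surjective ψ := by
    intro y
    obtain ⟨x, rfl⟩ := Submodule.Quotient.mk_surjective _ y
    exact ⟨Submodule.Quotient.mk x, rfl⟩
  have hsup : I ≤ J ⊔ Ideal.span {f i₀} := by
    rw [hI, Ideal.span_le]
    rintro _ ⟨i, rfl⟩
    by_cases hi : i = i₀
    · subst hi
      exact (le_sup_right : _ ≤ J ⊔ Ideal.span {f i}) (Ideal.subset_span rfl)
    · rw [← hfi i hi]
      exact (le_sup_left : J ≤ J ⊔ Ideal.span {f i₀}) (Ideal.subset_span ⟨i, rfl⟩)
  have hex : Function.Exact φ ψ := by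
    intro y
    obtain ⟨a, rfl⟩ := Submodule.Quotient.mk_surjective _ y
    have hψa : ψ (Submodule.Quotient.mk a) = Submodule.Quotient.mk a := rfl
    rw [hψa, Submodule.Quotient.mk_eq_zero]
    constructor
    · intro ha
      obtain ⟨j, hj, t, ht, rfl⟩ := Submodule.mem_sup.mp (hsup ha)
      obtain ⟨c, rfl⟩ := Ideal.mem_span_singleton'.mp ht
      refine ⟨Submodule.Quotient.mk c, ?_⟩
      change Submodule.Quotient.mk (f i₀ * c) = _
      rw [Submodule.Quotient.eq]
      have : f i₀ * c - (j + c * f i₀) = -j := by ring
      rw [this]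
      exact J.neg_mem hj
    · rintro ⟨z, hz⟩
      obtain ⟨x, rfl⟩ := Submodule.Quotient.mk_surjective _ z
      change Submodule.Quotient.mk (f i₀ * x) = _ at hz
      rw [Submodule.Quotient.eq] at hz
      have h6 : f i₀ * x ∈ I := Ideal.mul_mem_right _ _ (Ideal.subset_span ⟨i₀, rfl⟩)
      have := I.sub_mem h6 (hJI hz)
      simpa using this
  rw [Module.length_eq_add_of_exact φ ψ hφ hψ hex, add_comm]

theorem length_powers (A : Type u) [CommRing A] [IsLocalRing A] {ι : Type} [Fintype ι] [DecidableEq ι]
    (x : ι → A) (hx : Ideal.span (Set.range x) = IsLocalRing.maximalIdeal A) :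
    ∀ (n : ℕ) (e : ι → ℕ), ∑ i, e i = n → (∀ i, 0 < e i) → Indep (fun i => x i ^ e i) →
      Module.length A (A ⧸ Ideal.span (Set.range (fun i => x i ^ e i))) = ((∏ i, e i : ℕ) : ℕ∞) := by
  intro n
  induction n using Nat.strong_induction_on with
  | _ n ih =>
    intro e hen he hind
    by_cases hall : ∀ i, e i = 1
    · have h1 : (fun i => x i ^ e i) = x := by
        funext i; rw [hall i, pow_one]
      rw [h1, hx]
      have h2 : ∏ i, e i = 1 := Finset.prod_eq_one fun i _ => hall i
      rw [h2, Nat.cast_one, Module.length_eq_one_iff]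
      exact isSimpleModule_iff_isCoatom.mpr (IsLocalRing.maximalIdeal.isMaximal A).out
    · push Not at hall
      obtain ⟨i₀, hi₀⟩ := hall
      have h2 : 2 ≤ e i₀ := by have := he i₀; omega
      set e' := update e i₀ (e i₀ - 1) with he'
      set e'' := update e i₀ 1 with he''
      set f : ι → A := fun i => x i ^ e' i with hf
      have hfe : update f i₀ (f i₀ * x i₀) = fun i => x i ^ e i := by
        funext i
        by_cases hi : i = i₀
        · subst hi
          simp only [update_self, hf, he']
          rw [← pow_succ]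
          congr 1; omega
        · simp only [update_of_ne hi, hf, he']
      have hfe'' : update f i₀ (x i₀) = fun i => x i ^ e'' i := by
        funext i
        by_cases hi : i = i₀
        · subst hi
          simp only [update_self, he'', pow_one]
        · simp only [update_of_ne hi, hf, he', he'']
      have hind' : Indep (update f i₀ (f i₀ * x i₀)) := by rw [hfe]; exact hind
      have hI1 : Indep f := indep_of_update_mul f i₀ (x i₀) hind'
      have hI2 : Indep (fun i => x i ^ e'' i) := by
        rw [← hfe'']; exact indep_update_of_update_mul f i₀ (x i₀) hind'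
      have hlen := length_quotient_update_mul f i₀ (x i₀) hind'
      rw [hfe, hfe''] at hlen
      have hpos' : ∀ i, 0 < e' i := by
        intro i
        by_cases hi : i = i₀
        · subst hi; simp only [he', update_self]; omega
        · simp only [he', update_of_ne hi]; exact he i
      have hpos'' : ∀ i, 0 < e'' i := by
        intro i
        by_cases hi : i = i₀
        · subst hi; simp only [he'', update_self]; omega
        · simp only [he'', update_of_ne hi]; exact he i
      have hlt' : ∑ i, e' i < n := by
        rw [← hen]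
        apply Finset.sum_lt_sum
        · intro i _
          by_cases hi : i = i₀
          · subst hi; simp only [he', update_self]; omega
          · simp only [he', update_of_ne hi]; exact le_rfl
        · exact ⟨i₀, Finset.mem_univ _, by simp only [he', update_self]; omega⟩
      have hlt'' : ∑ i, e'' i < n := by
        rw [← hen]
        apply Finset.sum_lt_sum
        · intro i _
          by_cases hi : i = i₀
          · subst hi; simp only [he'', update_self]; omega
          · simp only [he'', update_of_ne hi]; exact le_rfl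
        · exact ⟨i₀, Finset.mem_univ _, by simp only [he'', update_self]; omega⟩
      have ih1 := ih _ hlt' e' rfl hpos' hI1
      have ih2 := ih _ hlt'' e'' rfl hpos'' hI2
      rw [hlen, ih1, ih2, ← Nat.cast_add]
      congr 1
      rw [he', he'', Finset.prod_update_of_mem (Finset.mem_univ _),
        Finset.prod_update_of_mem (Finset.mem_univ _), ← add_mul,
        Finset.prod_eq_mul_prod_sdiff_singleton_of_mem (Finset.mem_univ i₀) e]
      congr 1; omega


end Groth.Agent.Lib.Helper3
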