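import Groth.Prelude.Def_Wider
import Mathlib.RingTheory.Filtration
import Mathlib.RingTheory.Flat.Basic
import Mathlib.RingTheory.TensorProduct.Basic
import Mathlib.RingTheory.LocalRing.ResidueField.Basic

/-!
# Injective hulls of residue fields of Noetherian local rings: basic facts
-/

namespace Groth.Agent.Lib.Helper3

universe u

open TensorProduct

/-- Restriction of scalars along a flat ring map preserves injective modules. -/
theorem injective_restrictScalars_of_flat (R S : Type u) [CommRing R] [CommRing S] [Algebra R S]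
    [Module.Flat R S] (E : Type u) [AddCommGroup E] [Module S E] [Module R E]
    [IsScalarTower R S E] [Module.Injective S E] : Module.Injective R E := by
  constructor
  intro X Y _ _ _ _ i hi g
  have hinj : Function.Injective (i.baseChange S) := by
    rw [LinearMap.baseChange_eq_ltensor]
    exact Module.Flat.lTensor_preserves_injective_linearMap i hi
  obtain ⟨h, hh⟩ := Module.Injective.extension_property S E (S ⊗[R] X) (S ⊗[R] Y)
    (i.baseChange S) hinj (g.liftBaseChange S)
  refine ⟨(h.restrictScalars R) ∘ₗ (TensorProduct.mk R S Y 1), fun x => ?_⟩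
  have := LinearMap.congr_fun hh ((1 : S) ⊗ₜ[R] x)
  simp only [LinearMap.comp_apply, LinearMap.baseChange_tmul, LinearMap.liftBaseChange_tmul,
    one_smul] at this
  simpa using this

section PowerTorsion

variable {S : Type u} [CommRing S] [IsLocalRing S] [IsNoetherianRing S]
  {E : Type u} [AddCommGroup E] [Module S E]

/-- An essential extension of the residue field of a Noetherian local ring is power torsion
for the maximal ideal. -/
theorem exists_pow_smul_eq_zero_of_isEssentialInj
    (f : IsLocalRing.ResidueField S →ₗ[S] E) (hf : InjHull.IsEssentialInj f) (x : E) :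
    ∃ n : ℕ, ∀ t ∈ IsLocalRing.maximalIdeal S ^ n, t • x = 0 := by
  set m := IsLocalRing.maximalIdeal S with hm
  set N : Submodule S E := Submodule.span S {x} with hN
  by_contra hcon
  push Not at hcon
  have hne : ∀ n : ℕ, m ^ n • N ≠ ⊥ := by
    intro n h0
    obtain ⟨t, ht, htx⟩ := hcon n
    apply htx
    have : t • x ∈ m ^ n • N := Submodule.smul_mem_smul ht (Submodule.mem_span_singleton_self x)
    rw [h0] at this
    exact (Submodule.mem_bot S).mp this
  have hmem : ∀ n : ℕ, f 1 ∈ m ^ n • N := by
    intro n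
    have h1 := hf.essential _ (hne n)
    obtain ⟨y, hy, hy0⟩ := Submodule.exists_mem_ne_zero_of_ne_bot h1
    obtain ⟨hyN, c, rfl⟩ := hy
    have hc : c ≠ 0 := by
      rintro rfl; exact hy0 (map_zero f)
    obtain ⟨s, hs⟩ := IsLocalRing.residue_surjective (c⁻¹)
    have h2 : s • f c = f 1 := by
      rw [← map_smul, Algebra.smul_def, IsLocalRing.ResidueField.algebraMap_eq, hs,
        inv_mul_cancel₀ hc]
    rw [← h2]
    exact Submodule.smul_mem _ s hyN
  have hf1N : f 1 ∈ N := by
    have := hmem 0
    rwa [pow_zero, Ideal.one_eq_top, Submodule.top_smul] at this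
  have hkrull := Ideal.iInf_pow_smul_eq_bot_of_isLocalRing (R := S) (M := N) m
    (IsLocalRing.maximalIdeal.isMaximal S).ne_top
  have h3 : (⟨f 1, hf1N⟩ : N) ∈ (⨅ i : ℕ, m ^ i • ⊤ : Submodule S N) := by
    rw [Submodule.mem_iInf]
    intro n
    rw [Submodule.mem_smul_top_iff]
    exact hmem n
  rw [hkrull, Submodule.mem_bot] at h3
  have h4 : f 1 = 0 := congrArg Subtype.val h3
  have h5 : (1 : IsLocalRing.ResidueField S) = 0 := hf.injective (by rw [h4, map_zero])
  exact one_ne_zero h5

end PowerTorsion

section Approx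

variable {R S : Type u} [CommRing R] [CommRing S] [IsLocalRing R] [IsLocalRing S] [Algebra R S]
  [IsLocalHom (algebraMap R S)]

/-- If `m_R S = m_S` and the residue field map is surjective then `S = R + m_S^n` for all `n`. -/
theorem exists_sub_algebraMap_mem_pow
    (hm : (IsLocalRing.maximalIdeal R).map (algebraMap R S) = IsLocalRing.maximalIdeal S)
    (hk : Function.Surjective (IsLocalRing.ResidueField.map (algebraMap R S))) (n : ℕ) (s : S) :
    ∃ r : R, s - algebraMap R S r ∈ IsLocalRing.maximalIdeal S ^ n := by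
  have h1 : ∀ s : S, ∃ r : R, s - algebraMap R S r ∈ IsLocalRing.maximalIdeal S := by
    intro s
    obtain ⟨c, hc⟩ := hk (IsLocalRing.residue S s)
    obtain ⟨r, rfl⟩ := IsLocalRing.residue_surjective c
    refine ⟨r, ?_⟩
    rw [← IsLocalRing.residue_eq_zero_iff, map_sub, ← hc, IsLocalRing.ResidueField.map_residue,
      sub_self]
  have hstep : ∀ n : ℕ, ∀ t ∈ IsLocalRing.maximalIdeal S ^ n,
      ∃ r : R, t - algebraMap R S r ∈ IsLocalRing.maximalIdeal S ^ (n + 1) := by
    intro n t ht
    have hpow : IsLocalRing.maximalIdeal S ^ n =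
        Ideal.span ((algebraMap R S) '' (IsLocalRing.maximalIdeal R ^ n : Ideal R)) := by
      rw [← hm, ← Ideal.map_pow]; rfl
    rw [hpow] at ht
    induction ht using Submodule.span_induction with
    | mem x hx =>
      obtain ⟨a, ha, rfl⟩ := hx
      exact ⟨a, by rw [sub_self]; exact Submodule.zero_mem _⟩
    | zero => exact ⟨0, by simp⟩
    | add x y hx hy ihx ihy =>
      obtain ⟨r₁, hr₁⟩ := ihx
      obtain ⟨r₂, hr₂⟩ := ihy
      refine ⟨r₁ + r₂, ?_⟩
      have : x + y - algebraMap R S (r₁ + r₂) = (x - algebraMap R S r₁) + (y - algebraMap R S r₂) := by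
        rw [map_add]; ring
      rw [this]
      exact Ideal.add_mem _ hr₁ hr₂
    | smul a x hx ihx =>
      obtain ⟨r₁, hr₁⟩ := ihx
      obtain ⟨r₀, hr₀⟩ := h1 a
      refine ⟨r₀ * r₁, ?_⟩
      have hx' : x ∈ IsLocalRing.maximalIdeal S ^ n := by rw [hpow]; exact hx
      have hr₁' : algebraMap R S r₁ ∈ IsLocalRing.maximalIdeal S ^ n := by
        have h2 : x - algebraMap R S r₁ ∈ IsLocalRing.maximalIdeal S ^ n :=
          Ideal.pow_le_pow_right (Nat.le_succ n) hr₁
        have := Ideal.sub_mem _ hx' h2
        simpa using this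
      have : a • x - algebraMap R S (r₀ * r₁) =
          a * (x - algebraMap R S r₁) + (a - algebraMap R S r₀) * algebraMap R S r₁ := by
        rw [map_mul, smul_eq_mul]; ring
      rw [this]
      refine Ideal.add_mem _ (Ideal.mul_mem_left _ _ hr₁) ?_
      rw [pow_succ']
      exact Ideal.mul_mem_mul hr₀ hr₁'
  induction n with
  | zero => exact ⟨0, by simp⟩
  | succ n ih =>
    obtain ⟨r, hr⟩ := ih
    obtain ⟨r', hr'⟩ := hstep n _ hr
    refine ⟨r + r', ?_⟩
    have : s - algebraMap R S (r + r') = s - algebraMap R S r - algebraMap R S r' := by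
      rw [map_add]; ring
    rw [this]; exact hr'

end Approx

end Groth.Agent.Lib.Helper3
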