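import Groth.Agent.Lib.Helper3.UnivEffEpi
import Mathlib.CategoryTheory.Limits.Shapes.Equalizers

/-! Inverse-image pair of a reflexive pair along an effective + universal epi: descent of
coequalizing maps and existence of coequalizers (SGA3 IV). -/

set_option autoImplicit false
universe w v₁ u₁
open CategoryTheory CategoryTheory.Limits

namespace Groth.Agent.Lib.Helper3.InvImagePair
open Groth.Agent.Lib.Helper3.UnivEffEpi

variable {C : Type u₁} [Category.{v₁} C] [HasPullbacks C]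
variable {X₁ X₀ Y₀ : C} (d₀ d₁ : X₁ ⟶ X₀) (f₀ : Y₀ ⟶ X₀)

/-- first projection of the inverse-image pair -/
noncomputable abbrev e₁ : pullback (pullback.snd f₀ d₁ ≫ d₀) f₀ ⟶ Y₀ :=
  pullback.fst (pullback.snd f₀ d₁ ≫ d₀) f₀ ≫ pullback.fst f₀ d₁

/-- second projection of the inverse-image pair -/
noncomputable abbrev e₀ : pullback (pullback.snd f₀ d₁ ≫ d₀) f₀ ⟶ Y₀ :=
  pullback.snd (pullback.snd f₀ d₁ ≫ d₀) f₀

/-- a triple `(a, x, b)` with `a f₀ = x d₁`, `x d₀ = b f₀` gives a point of the inverse image pair -/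
lemma exists_lift {Z : C} (a b : Z ⟶ Y₀) (x : Z ⟶ X₁) (h₁ : a ≫ f₀ = x ≫ d₁)
    (h₀ : x ≫ d₀ = b ≫ f₀) :
    ∃ l : Z ⟶ pullback (pullback.snd f₀ d₁ ≫ d₀) f₀, l ≫ e₁ d₀ d₁ f₀ = a ∧ l ≫ e₀ d₀ d₁ f₀ = b := by
  have hc : pullback.lift a x h₁ ≫ pullback.snd f₀ d₁ ≫ d₀ = b ≫ f₀ := by
    rw [pullback.lift_snd_assoc, h₀]
  refine ⟨pullback.lift (pullback.lift a x h₁) b hc, ?_, ?_⟩
  · rw [pullback.lift_fst_assoc, pullback.lift_fst]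
  · rw [pullback.lift_snd]

lemma comp_eq_of_lift {Z T : C} (l : Z ⟶ pullback (pullback.snd f₀ d₁ ≫ d₀) f₀) (a b : Z ⟶ Y₀)
    (hl₁ : l ≫ e₁ d₀ d₁ f₀ = a) (hl₀ : l ≫ e₀ d₀ d₁ f₀ = b) (g : Y₀ ⟶ T)
    (hg : e₁ d₀ d₁ f₀ ≫ g = e₀ d₀ d₁ f₀ ≫ g) : a ≫ g = b ≫ g :=
  calc a ≫ g = (l ≫ e₁ d₀ d₁ f₀) ≫ g := by rw [hl₁]
    _ = l ≫ (e₁ d₀ d₁ f₀ ≫ g) := Category.assoc _ _ _
    _ = l ≫ (e₀ d₀ d₁ f₀ ≫ g) := by rw [hg]
    _ = (l ≫ e₀ d₀ d₁ f₀) ≫ g := (Category.assoc _ _ _).symm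
    _ = b ≫ g := by rw [hl₀]

/-- `f₀ ≫ t` is equalized by the inverse image pair when `t` is equalized by `d₁,d₀` -/
lemma e_comp_of_eq {T : C} (t : X₀ ⟶ T) (ht : d₁ ≫ t = d₀ ≫ t) :
    e₁ d₀ d₁ f₀ ≫ f₀ ≫ t = e₀ d₀ d₁ f₀ ≫ f₀ ≫ t := by
  have c₁ : pullback.fst f₀ d₁ ≫ f₀ = pullback.snd f₀ d₁ ≫ d₁ := pullback.condition
  have c₂ : pullback.fst (pullback.snd f₀ d₁ ≫ d₀) f₀ ≫ pullback.snd f₀ d₁ ≫ d₀ =
      pullback.snd (pullback.snd f₀ d₁ ≫ d₀) f₀ ≫ f₀ := pullback.condition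
  rw [Category.assoc, reassoc_of% c₁, ht, ← reassoc_of% c₂]

variable {d₀ d₁ f₀}

/-- S5220 -/
theorem existsUnique_desc (s : X₀ ⟶ X₁) (hs₀ : s ≫ d₀ = 𝟙 X₀) (hs₁ : s ≫ d₁ = 𝟙 X₀)
    [EffectiveEpi f₀] (hf : UE f₀) {T : C} (g : Y₀ ⟶ T)
    (hg : e₁ d₀ d₁ f₀ ≫ g = e₀ d₀ d₁ f₀ ≫ g) :
    ∃! h : X₀ ⟶ T, d₁ ≫ h = d₀ ≫ h ∧ f₀ ≫ h = g := by
  have hco : ∀ {Z : C} (a b : Z ⟶ Y₀), a ≫ f₀ = b ≫ f₀ → a ≫ g = b ≫ g := by
    intro Z a b hab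
    obtain ⟨l, hl₁, hl₀⟩ := exists_lift d₀ d₁ f₀ a b (a ≫ f₀ ≫ s)
      (by rw [Category.assoc, Category.assoc, hs₁, Category.comp_id])
      (by rw [Category.assoc, Category.assoc, hs₀, Category.comp_id, hab])
    exact comp_eq_of_lift d₀ d₁ f₀ l a b hl₁ hl₀ g hg
  refine ⟨EffectiveEpi.desc f₀ g hco, ⟨?_, EffectiveEpi.fac f₀ g hco⟩, ?_⟩
  · -- cover X₁
    have hq₁ : Epi (pullback.fst d₁ f₀) := hf.epi_fst d₁
    have hq₂ : Epi (pullback.fst (pullback.fst d₁ f₀ ≫ d₀) f₀) := hf.epi_fst _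
    have c₁ : pullback.fst d₁ f₀ ≫ d₁ = pullback.snd d₁ f₀ ≫ f₀ := pullback.condition
    have c₂ : pullback.fst (pullback.fst d₁ f₀ ≫ d₀) f₀ ≫ pullback.fst d₁ f₀ ≫ d₀ =
        pullback.snd (pullback.fst d₁ f₀ ≫ d₀) f₀ ≫ f₀ := pullback.condition
    obtain ⟨l, hl₁, hl₀⟩ := exists_lift d₀ d₁ f₀
      (pullback.fst (pullback.fst d₁ f₀ ≫ d₀) f₀ ≫ pullback.snd d₁ f₀)
      (pullback.snd (pullback.fst d₁ f₀ ≫ d₀) f₀)
      (pullback.fst (pullback.fst d₁ f₀ ≫ d₀) f₀ ≫ pullback.fst d₁ f₀)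
      (by rw [Category.assoc, Category.assoc, c₁])
      (by rw [Category.assoc, c₂])
    have key : (pullback.fst (pullback.fst d₁ f₀ ≫ d₀) f₀ ≫ pullback.snd d₁ f₀) ≫ g =
        pullback.snd (pullback.fst d₁ f₀ ≫ d₀) f₀ ≫ g :=
      comp_eq_of_lift d₀ d₁ f₀ l _ _ hl₁ hl₀ g hg
    rw [← EffectiveEpi.fac f₀ g hco] at key
    rw [Category.assoc, ← reassoc_of% c₁, ← reassoc_of% c₂] at key
    exact (cancel_epi _).1 ((cancel_epi _).1 key)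
  · rintro h' ⟨-, h2⟩
    exact EffectiveEpi.uniq f₀ g hco h' h2


/-- S5221 -/
theorem hasCoequalizer_iff (s : X₀ ⟶ X₁) (hs₀ : s ≫ d₀ = 𝟙 X₀) (hs₁ : s ≫ d₁ = 𝟙 X₀)
    [EffectiveEpi f₀] (hf : UE f₀) :
    HasCoequalizer d₁ d₀ ↔ HasCoequalizer (e₁ d₀ d₁ f₀) (e₀ d₀ d₁ f₀) := by
  constructor
  · intro hco
    have hw : e₁ d₀ d₁ f₀ ≫ f₀ ≫ coequalizer.π d₁ d₀ = e₀ d₀ d₁ f₀ ≫ f₀ ≫ coequalizer.π d₁ d₀ :=
      e_comp_of_eq d₀ d₁ f₀ _ (coequalizer.condition d₁ d₀)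
    refine HasColimit.mk ⟨Cofork.ofπ (f₀ ≫ coequalizer.π d₁ d₀) hw, ?_⟩
    refine Cofork.IsColimit.mk _ (fun c => ?_) (fun c => ?_) (fun c m hm => ?_)
    · exact coequalizer.desc (existsUnique_desc s hs₀ hs₁ hf c.π c.condition).exists.choose
        (existsUnique_desc s hs₀ hs₁ hf c.π c.condition).exists.choose_spec.1
    · have h2 := (existsUnique_desc s hs₀ hs₁ hf c.π c.condition).exists.choose_spec.2
      simp only [Cofork.π_ofπ, Category.assoc, coequalizer.π_desc]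
      exact h2
    · have hu := (existsUnique_desc s hs₀ hs₁ hf c.π c.condition)
      have key : ∀ m' : coequalizer d₁ d₀ ⟶ c.pt, (f₀ ≫ coequalizer.π d₁ d₀) ≫ m' = c.π →
          m' = coequalizer.desc hu.exists.choose hu.exists.choose_spec.1 := by
        intro m' hm'
        have h1 : coequalizer.π d₁ d₀ ≫ m' = hu.exists.choose := by
          refine hu.unique ⟨?_, ?_⟩ hu.exists.choose_spec
          · rw [coequalizer.condition_assoc]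
          · simpa using hm'
        apply coequalizer.hom_ext
        rw [h1, coequalizer.π_desc]
      exact key m hm
  · intro hco
    obtain ⟨h, ⟨hh₁, hh₂⟩, -⟩ := existsUnique_desc s hs₀ hs₁ hf
      (coequalizer.π (e₁ d₀ d₁ f₀) (e₀ d₀ d₁ f₀)) (coequalizer.condition _ _)
    have hepi : Epi f₀ := inferInstance
    refine HasColimit.mk ⟨Cofork.ofπ h hh₁, ?_⟩
    refine Cofork.IsColimit.mk _ (fun c => ?_) (fun c => ?_) (fun c m hm => ?_)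
    · exact coequalizer.desc (f₀ ≫ c.π) (e_comp_of_eq d₀ d₁ f₀ c.π c.condition)
    · rw [← cancel_epi f₀]
      simp only [Cofork.π_ofπ]
      rw [reassoc_of% hh₂, coequalizer.π_desc]
    · have key : ∀ m' : coequalizer (e₁ d₀ d₁ f₀) (e₀ d₀ d₁ f₀) ⟶ c.pt, h ≫ m' = c.π →
          m' = coequalizer.desc (f₀ ≫ c.π) (e_comp_of_eq d₀ d₁ f₀ c.π c.condition) := by
        intro m' hm'
        apply coequalizer.hom_ext
        rw [coequalizer.π_desc, ← hh₂, Category.assoc, hm']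
      exact key m hm

end Groth.Agent.Lib.Helper3.InvImagePair
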