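import Groth.Agent.Lib.Helper3.InvIso
import Groth.Agent.Lib.Helper3.SecCoord
import Groth.Agent.Lib.Helper3.InvCoh

/-!
# Invertible modules on an affine scheme with generating sections satisfying the same relations
-/

set_option autoImplicit false
set_option linter.unusedSectionVars false
universe u
open CategoryTheory CategoryTheory.Limits AlgebraicGeometry TopologicalSpace Opposite
open Scheme.Modules

namespace Groth.Agent.Lib.Helper3.InvIsoAff

open QCSec InvGen InvIso SecCoord InvCoh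

theorem exists_iso_of_rel {X : Scheme.{u}} [IsAffine X] {N₁ N₂ : X.Modules}
    (hN₁ : PicF.IsInvertible N₁) {ι : Type u} [Fintype ι]
    (G₁ : ι → Γ(N₁, ⊤)) (G₂ : ι → Γ(N₂, ⊤))
    (hcov₁ : ∀ x : X, ∃ j, x ∈ locus N₁ (G₁ j)) (hcov₂ : ∀ x : X, ∃ j, x ∈ locus N₂ (G₂ j))
    (hrel : ∀ γ : ι → Γ(X, ⊤), ∑ i, γ i • G₁ i = 0 → ∑ i, γ i • G₂ i = 0) :
    ∃ τ : N₁ ≅ N₂, ∀ j, τ.hom.app ⊤ (G₁ j) = G₂ j := by
  classical
  haveI := isQuasicoherent_of_isInvertible hN₁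
  haveI : (Coh.structureModule X).IsQuasicoherent :=
    isQuasicoherent_of_isInvertible (isInvertible_structureModule X)
  have hTop : IsAffineOpen (⊤ : X.Opens) := isAffineOpen_top X
  have hrel2 : ∀ (j k : ι) (p q : Γ(X, ⊤)), p • G₁ k = q • G₁ j → p • G₂ k = q • G₂ j := by
    intro j k p q hpq
    have := hrel (fun i => (if i = k then p else 0) - (if i = j then q else 0)) (by
      simp only [sub_smul, Finset.sum_sub_distrib, ite_smul, zero_smul, Finset.sum_ite_eq',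
        Finset.mem_univ, if_true]
      rw [hpq, sub_self])
    simp only [sub_smul, Finset.sum_sub_distrib, ite_smul, zero_smul, Finset.sum_ite_eq',
      Finset.mem_univ, if_true] at this
    exact sub_eq_zero.mp this
  have claimA : ∀ (j : ι) (x : X), x ∈ locus N₁ (G₁ j) → ∃ g : Γ(X, ⊤), x ∈ X.basicOpen g ∧
      ∃ hle : X.basicOpen g ≤ locus N₁ (G₁ j), ∀ k,
        res N₂ (le_top : X.basicOpen g ≤ ⊤) (G₂ k) =
          rres X hle (ratio N₁ (G₁ j) (G₁ k)) • res N₂ (le_top : X.basicOpen g ≤ ⊤) (G₂ j) := by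
    intro j x hx
    obtain ⟨g, hgle, hxg⟩ := hTop.exists_basicOpen_le (V := locus N₁ (G₁ j)) ⟨x, hx⟩ trivial
    refine ⟨g, hxg, hgle, fun k => ?_⟩
    have hW : X.basicOpen g ≤ ⊤ := le_top
    obtain ⟨m, a, ha⟩ := (isLocSec_of_isQuasicoherent (Coh.structureModule X) hTop g
      (X.basicOpen g) rfl hW).surj (ofFun _ (rres X hgle (ratio N₁ (G₁ j) (G₁ k))))
    have ha' : rres X hW (toFun ⊤ a) =
        (rres X hW g) ^ m * rres X hgle (ratio N₁ (G₁ j) (G₁ k)) := ha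
    have h1 : res N₁ hW (G₁ k) = rres X hgle (ratio N₁ (G₁ j) (G₁ k)) • res N₁ hW (G₁ j) :=
      (ratio_smul_res N₁ (G₁ j) (G₁ k) hgle).symm
    have h2 : res N₁ hW (g ^ m • G₁ k - (toFun ⊤ a) • G₁ j) = 0 := by
      rw [res_sub, res_smul, res_smul, rres_pow, h1, ha', mul_smul, sub_self]
    obtain ⟨M, hM⟩ := (isLocSec_of_isQuasicoherent N₁ hTop g (X.basicOpen g) rfl hW).inj _ h2
    have h3 : (g ^ M * g ^ m) • G₁ k = (g ^ M * toFun ⊤ a) • G₁ j := by
      rw [smul_sub, ← mul_smul, ← mul_smul] at hM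
      exact sub_eq_zero.mp hM
    have h4 := hrel2 j k _ _ h3
    have h5 := congrArg (res N₂ hW) h4
    rw [res_smul, res_smul, rres_mul, rres_mul, rres_pow, rres_pow, ha', mul_smul, mul_smul,
      mul_smul] at h5
    have hu : IsUnit (rres X hW g) := RingedSpace.isUnit_res_basicOpen X.toRingedSpace g
    exact (hu.pow m).smul_left_cancel.mp ((hu.pow M).smul_left_cancel.mp h5)
  have hb : ∀ j k, res N₂ (le_top : locus N₁ (G₁ j) ≤ ⊤) (G₂ k) =
      ratio N₁ (G₁ j) (G₁ k) • res N₂ (le_top : locus N₁ (G₁ j) ≤ ⊤) (G₂ j) := by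
    intro j k
    choose g hxg hgle hg using claimA j
    apply sec_eq_of_locally_eq N₂
      (fun x : {x : X // x ∈ locus N₁ (G₁ j)} => X.basicOpen (g x.1 x.2)) (locus N₁ (G₁ j))
      (fun x => hgle x.1 x.2) (fun x hx => Opens.mem_iSup.mpr ⟨⟨x, hx⟩, hxg x hx⟩)
    intro x
    rw [res_res, res_smul, res_res]
    exact hg x.1 x.2 k
  have ha : ∀ j, IsGen N₂ (locus N₁ (G₁ j)) (res N₂ (le_top : locus N₁ (G₁ j) ≤ ⊤) (G₂ j)) := by
    intro j
    apply isGen_of_local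
    intro x hx
    obtain ⟨k, hk⟩ := hcov₂ x
    refine ⟨locus N₁ (G₁ j) ⊓ locus N₂ (G₂ k), inf_le_left, ⟨hx, hk⟩, ?_⟩
    intro V hV
    rw [res_res, res_res]
    have hVj : V ≤ locus N₁ (G₁ j) := hV.trans inf_le_left
    have hVk : V ≤ locus N₂ (G₂ k) := hV.trans inf_le_right
    have e1 : res N₂ (le_top : V ≤ ⊤) (G₂ k) =
        rres X hVj (ratio N₁ (G₁ j) (G₁ k)) • res N₂ (le_top : V ≤ ⊤) (G₂ j) := by
      have := congrArg (res N₂ hVj) (hb j k)
      rwa [res_res, res_smul, res_res] at this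
    have hgk : IsGenAt N₂ V (res N₂ (le_top : V ≤ ⊤) (G₂ k)) := isGenAt_of_le N₂ (G₂ k) hVk
    obtain ⟨b, hb'⟩ := hgk.exists_coord (res N₂ (le_top : V ≤ ⊤) (G₂ j))
    have e2 : (rres X hVj (ratio N₁ (G₁ j) (G₁ k)) * b) • res N₂ (le_top : V ≤ ⊤) (G₂ k) =
        (1 : Γ(X, V)) • res N₂ (le_top : V ≤ ⊤) (G₂ k) := by
      rw [mul_smul, hb', ← e1, one_smul]
    have e3 := hgk.smul_inj e2
    have hub : IsUnit b := IsUnit.of_mul_eq_one _ (by rw [mul_comm]; exact e3)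
    rw [← hb']
    exact hgk.smul_unit hub
  let D₁ : GenData N₁ (fun j => locus N₁ (G₁ j)) (fun j k => ratio N₁ (G₁ j) (G₁ k)) :=
    { G := G₁
      gen := fun j => isGen_locus N₁ (G₁ j)
      tr := fun j k => (ratio_smul N₁ (G₁ j) (G₁ k)).symm }
  let D₂ : GenData N₂ (fun j => locus N₁ (G₁ j)) (fun j k => ratio N₁ (G₁ j) (G₁ k)) :=
    { G := G₂
      gen := ha
      tr := hb }
  exact ⟨GenData.iso D₁ D₂ hcov₁, fun j => GenData.iso_hom_G D₁ D₂ hcov₁ j⟩

end Groth.Agent.Lib.Helper3.InvIsoAff
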