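import Mathlib
import Groth.Agent.Lib.Helper3.InvSpreadA
import Groth.Agent.Lib.Helper12.StalkLim
import Groth.Agent.Lib.Helper12.PbDiag

/-!
# Spreading out an invertible module from the fibre over `Spec 𝒪_{S,s}` to a neighbourhood
-/

set_option autoImplicit false
set_option linter.style.haveILetI false
set_option linter.unusedSectionVars false
universe u
open CategoryTheory CategoryTheory.Limits AlgebraicGeometry TopologicalSpace Opposite

namespace Groth.Agent.Lib.Helper3.InvSpread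

open Groth.Agent.Lib.Helper12.StalkLim Groth.Agent.Lib.Helper12.PbDiag

set_option maxHeartbeats 400000 in
theorem exists_isPullback_restrict {X S T : Scheme.{u}} (f : X ⟶ S) (U : S.Opens) (g : T ⟶ S)
    (g' : T ⟶ U) (hg : g' ≫ U.ι = g) :
    ∃ q : pullback f g ⟶ ↑(f ⁻¹ᵁ U), q ≫ (f ⁻¹ᵁ U).ι = pullback.fst f g ∧
      IsPullback q (pullback.snd f g) (f ∣_ U) g' := by
  have hP : IsPullback (f ⁻¹ᵁ U).ι (f ∣_ U) f U.ι := (isPullback_morphismRestrict f U).flip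
  have hw : pullback.fst f g ≫ f = (pullback.snd f g ≫ g') ≫ U.ι := by
    rw [Category.assoc, hg, pullback.condition]
  refine ⟨hP.lift (pullback.fst f g) (pullback.snd f g ≫ g') hw, hP.lift_fst _ _ _, ?_⟩
  refine IsPullback.of_right ?_ (hP.lift_snd _ _ _) hP
  rw [hP.lift_fst, hg]
  exact IsPullback.of_hasPullback f g

set_option maxHeartbeats 400000 in
theorem comp_lift_eq_pbCone_π {I : Type u} [SmallCategory I] {D : I ⥤ Scheme.{u}} {i₀ : I}
    {Z₀ : Scheme.{u}} {h₀ : Z₀ ⟶ D.obj i₀} (c : Cone D) {Z : Scheme.{u}} (q : Z ⟶ Z₀)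
    (h : Z ⟶ c.pt) (hZ : IsPullback q h h₀ (c.π.app i₀)) (j : Over i₀) {T : Scheme.{u}}
    (ι : Z ⟶ T) (a : T ⟶ Z₀) (b : T ⟶ D.obj j.left) (hab : a ≫ h₀ = b ≫ D.map j.hom)
    (h1 : ι ≫ a = q) (h2 : ι ≫ b = h ≫ c.π.app j.left) :
    ι ≫ pullback.lift a b hab = (pbCone c q h hZ).π.app j := by
  apply pullback.hom_ext
  · rw [Category.assoc, pullback.lift_fst]
    exact h1.trans (pbCone_π_fst c q h hZ j).symm
  · rw [Category.assoc, pullback.lift_snd]
    exact h2.trans (pbCone_π_snd c q h hZ j).symm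

set_option maxHeartbeats 400000 in
/-- **Spreading out invertible modules.**  For a quasi-compact quasi-separated `f : X ⟶ S`, a point
`s` of `S` and an invertible module `L` on `X ×_S Spec 𝒪_{S,s}`, there are an open neighbourhood
`V` of `s` and an invertible module on `f⁻¹ V` whose pullback to `X ×_S Spec 𝒪_{S,s}` is `L`. -/
theorem exists_invertible_extension_nhd {X S : Scheme.{u}} (f : X ⟶ S) [QuasiCompact f]
    [QuasiSeparated f] (s : S)
    (L : (pullback f (S.fromSpecStalk s)).Modules) (hL : PicF.IsInvertible L) :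
    ∃ (V : S.Opens) (_ : s ∈ V) (L' : (↑(f ⁻¹ᵁ V) : Scheme.{u}).Modules), PicF.IsInvertible L' ∧
      ∀ (ι : pullback f (S.fromSpecStalk s) ⟶ ↑(f ⁻¹ᵁ V)),
        ι ≫ (f ⁻¹ᵁ V).ι = pullback.fst f (S.fromSpecStalk s) →
        Nonempty ((Scheme.Modules.pullback ι).obj L' ≅ L) := by
  obtain ⟨W₀⟩ : Nonempty (AffNhd S s) := inferInstance
  obtain ⟨q, hq, hZ⟩ := exists_isPullback_restrict f W₀.U (S.fromSpecStalk s)
    (W₀.U.fromSpecStalkOfMem s W₀.mem) (Scheme.Opens.fromSpecStalkOfMem_ι _ _ _)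
  have hZ' : IsPullback q (pullback.snd f (S.fromSpecStalk s)) (f ∣_ W₀.U)
      ((Helper12.StalkLim.cone S s).π.app W₀) := hZ
  haveI : CompactSpace ↑(f ⁻¹ᵁ W₀.U) := isCompact_iff_compactSpace.mp
    (QuasiCompact.isCompact_preimage (f := f) _ W₀.U.isOpen W₀.isAffineOpen.isCompact)
  haveI : IsAffine ↑W₀.U := W₀.isAffineOpen
  haveI : QuasiSeparatedSpace ↑(f ⁻¹ᵁ W₀.U) := quasiSeparatedSpace_of_quasiSeparated (f ∣_ W₀.U)
  haveI : CompactSpace ((pbDiagram (Helper12.StalkLim.diag S s) W₀ (f ∣_ W₀.U)).obj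
      (Over.mk (𝟙 W₀))) := compactSpace_pbDiagram_obj' _ _ _ _
  haveI : QuasiSeparatedSpace ((pbDiagram (Helper12.StalkLim.diag S s) W₀ (f ∣_ W₀.U)).obj
      (Over.mk (𝟙 W₀))) := quasiSeparatedSpace_pbDiagram_obj' _ _ _ _
  obtain ⟨j, -, Lj, hLj, ⟨e⟩⟩ := exists_stage_invertible
    (pbDiagram (Helper12.StalkLim.diag S s) W₀ (f ∣_ W₀.U))
    (pbCone (Helper12.StalkLim.cone S s) q _ hZ')
    (isLimitPbCone (Helper12.StalkLim.cone S s) (isLimitCone S s) q _ hZ')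
    (Over.mk (𝟙 W₀)) L hL
  have hjle : j.left.U ≤ W₀.U := AffNhd.le_iff.mp j.hom.le
  have hle' : f ⁻¹ᵁ j.left.U ≤ f ⁻¹ᵁ W₀.U := fun x hx => hjle hx
  have hcomm : X.homOfLE hle' ≫ (f ∣_ W₀.U) = (f ∣_ j.left.U) ≫ S.homOfLE hjle := by
    rw [← cancel_mono W₀.U.ι, Category.assoc, Category.assoc, morphismRestrict_ι,
      Scheme.homOfLE_ι, morphismRestrict_ι, Scheme.homOfLE_ι_assoc]
  obtain ⟨ε, hε⟩ : ∃ ε : (↑(f ⁻¹ᵁ j.left.U) : Scheme.{u}) ⟶
      (pbDiagram (Helper12.StalkLim.diag S s) W₀ (f ∣_ W₀.U)).obj j,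
      ∀ (ι : pullback f (S.fromSpecStalk s) ⟶ ↑(f ⁻¹ᵁ j.left.U)),
        ι ≫ (f ⁻¹ᵁ j.left.U).ι = pullback.fst f (S.fromSpecStalk s) →
        ι ≫ ε = (pbCone (Helper12.StalkLim.cone S s) q _ hZ').π.app j := by
    refine ⟨pullback.lift (X.homOfLE hle') (f ∣_ j.left.U) hcomm, fun ι hι => ?_⟩
    have h1 : ι ≫ X.homOfLE hle' = q := by
      rw [← cancel_mono (f ⁻¹ᵁ W₀.U).ι, Category.assoc, Scheme.homOfLE_ι, hι, hq]
    have h2 : ι ≫ (f ∣_ j.left.U) = pullback.snd f (S.fromSpecStalk s) ≫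
        j.left.U.fromSpecStalkOfMem s j.left.mem := by
      rw [← cancel_mono j.left.U.ι, Category.assoc, Category.assoc, morphismRestrict_ι,
        Scheme.Opens.fromSpecStalkOfMem_ι, ← Category.assoc, hι, pullback.condition]
    exact comp_lift_eq_pbCone_π (Helper12.StalkLim.cone S s) q _ hZ' j ι _ _ hcomm h1 h2
  refine ⟨j.left.U, j.left.mem, (Scheme.Modules.pullback ε).obj Lj,
    PbBasic.isInvertible_pullback ε hLj, ?_⟩
  intro ι hι
  exact ⟨(Scheme.Modules.pullbackComp ι ε).app Lj ≪≫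
    (Scheme.Modules.pullbackCongr (hε ι hι)).app Lj ≪≫ e⟩

end Groth.Agent.Lib.Helper3.InvSpread
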