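import Groth.Agent.Lib.Helper3.GlobGen
import Groth.Agent.Lib.Helper3.InvCoh
import Groth.Agent.Lib.Helper3.FreeBasis
import Groth.Agent.Lib.Helper3.LocFreeCrit
import Groth.Agent.Lib.Helper3.QCExact
import Groth.Agent.Lib.Helper3.QCProps
import Groth.Agent.Lib.Helper3.TrivFin
import Groth.Prelude.Def_Curv2

/-!
# `ker(O^{n+1} ↠ L) ⊗ L` is globally generated (by the Koszul sections `e_j ⊗ s_i - e_i ⊗ s_j`)
-/

set_option autoImplicit false
set_option linter.style.haveILetI false
set_option linter.unusedSectionVars false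
universe u
open CategoryTheory CategoryTheory.Limits AlgebraicGeometry TopologicalSpace Opposite
open Scheme.Modules

namespace Groth.Agent.Lib.Helper3.KoszulGen

open QCSec InvGen InvTensor FreeBasis

variable {X : Scheme.{u}} {L : X.Modules} {n : ℕ}
  (s : Fin (n + 1) → (Coh.structureModule X ⟶ L))

/-- the map `O^{n+1} ⟶ L` -/
noncomputable abbrev φ : FlatMod.freeMod X (n + 1) ⟶ L := Sigma.desc s

theorem phi_bsec (i : Fin (n + 1)) (U : X.Opens) :
    (φ s).app U (bsec (n + 1) i U) = sec (s i) U := by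
  have h : inj X (n + 1) i ≫ φ s = s i := by
    unfold inj
    exact Sigma.ι_desc s i
  unfold bsec
  rw [← sec_comp, h]

theorem phi_sum (U : X.Opens) (c : Fin (n + 1) → Γ(X, U)) :
    (φ s).app U (∑ i, c i • bsec (n + 1) i U) = ∑ i, c i • sec (s i) U := by
  rw [app_sum]
  apply Finset.sum_congr rfl
  intro i _
  rw [Scheme.Modules.Hom.app_smul, phi_bsec]

/-- the kernel sequence -/
noncomputable def Sc : ShortComplex X.Modules :=
  ShortComplex.mk (kernel.ι (φ s)) (φ s) (kernel.condition (φ s))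

theorem exists_kernel_section (W : X.Opens) (y : Γ(FlatMod.freeMod X (n + 1), W))
    (hy : (φ s).app W y = 0) :
    ∃ κ : Γ(kernel (φ s), W), (kernel.ι (φ s)).app W κ = y := by
  haveI : Mono (Sc s).f := inferInstanceAs (Mono (kernel.ι (φ s)))
  exact QCExact.exact_sections (Sc s) (ShortComplex.exact_kernel (φ s)) W y hy

theorem phi_kernel (W : X.Opens) (κ : Γ(kernel (φ s), W)) :
    (φ s).app W ((kernel.ι (φ s)).app W κ) = 0 :=
  QCExact.app_f_g_apply (Sc s) W κ

section Local

variable {W : X.Opens} {ε : Γ(L, W)} (hε : IsGen L W ε)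

/-- coordinates of the sections with respect to a generator -/
noncomputable def A (i : Fin (n + 1)) : Γ(X, W) := (hε.self.2 (sec (s i) W)).choose

theorem A_spec (i : Fin (n + 1)) : A s hε i • ε = sec (s i) W :=
  (hε.self.2 (sec (s i) W)).choose_spec

theorem A_res {W' : X.Opens} (h : W' ≤ W) (i : Fin (n + 1)) :
    A s (hε.mono h) i = rres X h (A s hε i) := by
  apply (hε.mono h).self.smul_inj
  rw [A_spec, ← res_smul, A_spec, res_sec]

theorem phi_koszul (i j : Fin (n + 1)) :
    (φ s).app W (A s hε i • bsec (n + 1) j W - A s hε j • bsec (n + 1) i W) = 0 := by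
  rw [QCExact.app_sub, Scheme.Modules.Hom.app_smul, Scheme.Modules.Hom.app_smul, phi_bsec,
    phi_bsec, ← A_spec s hε i, ← A_spec s hε j, ← mul_smul, ← mul_smul,
    mul_comm (A s hε i) (A s hε j), sub_self]

/-- the local Koszul sections of the kernel -/
noncomputable def kap (i j : Fin (n + 1)) : Γ(kernel (φ s), W) :=
  (exists_kernel_section s W _ (phi_koszul s hε i j)).choose

theorem kap_spec (i j : Fin (n + 1)) :
    (kernel.ι (φ s)).app W (kap s hε i j) =
      A s hε i • bsec (n + 1) j W - A s hε j • bsec (n + 1) i W :=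
  (exists_kernel_section s W _ (phi_koszul s hε i j)).choose_spec

/-- the local Koszul section of `K ⊗ L` -/
noncomputable def T (i j : Fin (n + 1)) : Γ(CohB1.tensorMod (kernel (φ s)) L, W) :=
  tm (kernel (φ s)) L W (kap s hε i j) ε

theorem kap_res {W' : X.Opens} (h : W' ≤ W) (i j : Fin (n + 1)) :
    res (kernel (φ s)) h (kap s hε i j) = kap s (hε.mono h) i j := by
  apply QCExact.injective_sections (kernel.ι (φ s)) W'
  rw [QCExact.app_res', kap_spec, kap_spec, res_sub, res_smul, res_smul, res_bsec, res_bsec,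
    A_res, A_res]

theorem T_res {W' : X.Opens} (h : W' ≤ W) (i j : Fin (n + 1)) :
    res (CohB1.tensorMod (kernel (φ s)) L) h (T s hε i j) = T s (hε.mono h) i j := by
  unfold T
  rw [tm_res, kap_res]

theorem T_indep {ε' : Γ(L, W)} (hε' : IsGen L W ε') (i j : Fin (n + 1)) :
    T s hε i j = T s hε' i j := by
  obtain ⟨u, hu, hu'⟩ := hε.self.exists_unit hε'.self
  have hA : ∀ k, A s hε k = A s hε' k * u := by
    intro k
    apply hε.self.smul_inj
    rw [A_spec, mul_smul, ← hu', A_spec]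
  have hk : kap s hε i j = u • kap s hε' i j := by
    apply QCExact.injective_sections (kernel.ι (φ s)) W
    rw [Scheme.Modules.Hom.app_smul, kap_spec, kap_spec, hA i, hA j, smul_sub, ← mul_smul,
      ← mul_smul, mul_comm u, mul_comm u]
  unfold T
  rw [hk, tm_smul_comm, ← hu']

end Local

variable (hL : PicF.IsInvertible L)

include hL

theorem exists_global (i j : Fin (n + 1)) :
    ∃ t : Γ(CohB1.tensorMod (kernel (φ s)) L, ⊤),
      ∀ (W : X.Opens) (ε : Γ(L, W)) (hε : IsGen L W ε),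
        res (CohB1.tensorMod (kernel (φ s)) L) (le_top : W ≤ ⊤) t = T s hε i j := by
  let Idx := Σ W : X.Opens, {ε : Γ(L, W) // IsGen L W ε}
  have hcov : (⊤ : X.Opens) ≤ ⨆ k : Idx, k.1 := by
    intro x _
    obtain ⟨U, e, hxU, he⟩ := exists_isGen hL x
    exact Opens.mem_iSup.2 ⟨⟨U, e, he⟩, hxU⟩
  obtain ⟨b, hb⟩ := sec_glue (CohB1.tensorMod (kernel (φ s)) L) (fun k : Idx => k.1) ⊤
    (fun _ => le_top) hcov (fun k => T s k.2.2 i j) (by
      intro k l
      rw [T_res, T_res]
      exact T_indep s _ _ i j)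
  exact ⟨b, fun W ε hε => hb ⟨W, ε, hε⟩⟩

theorem span_eq_top [Epi (φ s)]
    (t : ULift.{u} (Fin (n + 1) × Fin (n + 1)) → Γ(CohB1.tensorMod (kernel (φ s)) L, ⊤))
    (ht : ∀ (p : ULift.{u} (Fin (n + 1) × Fin (n + 1))) (W : X.Opens) (ε : Γ(L, W))
      (hε : IsGen L W ε),
      res (CohB1.tensorMod (kernel (φ s)) L) (le_top : W ≤ ⊤) (t p) = T s hε p.down.1 p.down.2)
    (x : X) :
    ∃ U : X.Opens, IsAffineOpen U ∧ x ∈ U ∧
      Submodule.span Γ(X, U) (Set.range (fun p =>
        res (CohB1.tensorMod (kernel (φ s)) L) (le_top : U ≤ ⊤) (t p))) = ⊤ := by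
  classical
  obtain ⟨W, ε, hxW, hε⟩ := exists_isGen hL x
  obtain ⟨W', hW', hxW', y, hy⟩ := QCExact.exists_local_lift (φ s) W ε x hxW
  have hε' := hε.mono hW'
  obtain ⟨c, hy2⟩ : ∃ c : Fin (n + 1) → Γ(X, W'), y = ∑ i, c i • bsec (n + 1) i W' :=
    ⟨_, eq_sum_bsec (n + 1) W' y⟩
  have h2 : (φ s).app W' y = ∑ i, c i • sec (s i) W' := by
    rw [hy2]
    exact phi_sum s W' c
  have hy' : (φ s).app W' y = res L hW' ε := hy
  have hsum : ∑ i, c i * A s hε' i = 1 := by
    apply hε'.self.smul_inj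
    calc (∑ i, c i * A s hε' i) • res L hW' ε
        = ∑ i, (c i * A s hε' i) • res L hW' ε := Finset.sum_smul
      _ = ∑ i, c i • sec (s i) W' :=
          Finset.sum_congr rfl (fun i _ => by rw [mul_smul, A_spec])
      _ = (φ s).app W' y := h2.symm
      _ = res L hW' ε := hy'
      _ = (1 : Γ(X, W')) • res L hW' ε := (one_smul _ _).symm
  have hx1 : x ∈ X.basicOpen (∑ i, c i * A s hε' i) := by
    rw [hsum, X.basicOpen_of_isUnit isUnit_one]
    exact hxW'
  obtain ⟨k, hk⟩ := Opens.mem_iSup.1 (TrivFin.basicOpen_sum_le _ hx1)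
  rw [Scheme.basicOpen_mul] at hk
  obtain ⟨U, hU, hxU, hUle⟩ :=
    exists_isAffineOpen_mem_and_subset (x := x) (U := X.basicOpen (A s hε' k)) hk.2
  have hUW' : U ≤ W' := le_trans hUle (X.basicOpen_le _)
  have hεU := hε'.mono hUW'
  have hunit : IsUnit (A s hεU k) := by
    rw [A_res s hε' hUW' k]
    exact TrivFin.isUnit_rres_of_le_basicOpen _ hUW' hUle
  obtain ⟨v, hv⟩ := hunit.exists_left_inv
  refine ⟨U, hU, hxU, ?_⟩
  rw [eq_top_iff]
  intro z _
  obtain ⟨κ, hκ⟩ := InvCoh.tm_gen_surjective_self (kernel (φ s)) L hεU z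
  have hκ' : tm (kernel (φ s)) L U κ (res L hUW' (res L hW' ε)) = z := hκ
  have hy0 : (φ s).app U ((kernel.ι (φ s)).app U κ) = 0 := phi_kernel s U κ
  obtain ⟨bb, hyb⟩ : ∃ bb : Fin (n + 1) → Γ(X, U),
      (kernel.ι (φ s)).app U κ = ∑ j, bb j • bsec (n + 1) j U :=
    ⟨_, eq_sum_bsec (n + 1) U _⟩
  have hrel : ∑ j, bb j * A s hεU j = 0 := by
    apply hεU.self.smul_inj
    calc (∑ j, bb j * A s hεU j) • res L hUW' (res L hW' ε)
        = ∑ j, (bb j * A s hεU j) • res L hUW' (res L hW' ε) := Finset.sum_smul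
      _ = ∑ j, bb j • sec (s j) U :=
          Finset.sum_congr rfl (fun j _ => by rw [mul_smul, A_spec])
      _ = (φ s).app U (∑ j, bb j • bsec (n + 1) j U) := (phi_sum s U bb).symm
      _ = (φ s).app U ((kernel.ι (φ s)).app U κ) := by rw [hyb]
      _ = 0 := hy0
      _ = (0 : Γ(X, U)) • res L hUW' (res L hW' ε) := (zero_smul _ _).symm
  have hRHS : ∑ j, (bb j * v) •
      (A s hεU k • bsec (n + 1) j U - A s hεU j • bsec (n + 1) k U) =
      (kernel.ι (φ s)).app U κ := by
    have e1 : ∀ j, (bb j * v) •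
        (A s hεU k • bsec (n + 1) j U - A s hεU j • bsec (n + 1) k U) =
        bb j • bsec (n + 1) j U - (v * (bb j * A s hεU j)) • bsec (n + 1) k U := by
      intro j
      rw [smul_sub, ← mul_smul, ← mul_smul, mul_assoc, hv, mul_one]
      congr 2
      ring
    simp only [e1]
    rw [Finset.sum_sub_distrib, ← Finset.sum_smul, ← Finset.mul_sum, hrel, mul_zero, zero_smul,
      sub_zero]
    exact hyb.symm
  have hκ2 : κ = ∑ j, (bb j * v) • kap s hεU k j := by
    apply QCExact.injective_sections (kernel.ι (φ s)) U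
    rw [app_sum, ← hRHS]
    apply Finset.sum_congr rfl
    intro j _
    rw [Scheme.Modules.Hom.app_smul, kap_spec]
  rw [← hκ', hκ2, tm_sum_left]
  apply Submodule.sum_mem
  intro j _
  rw [tm_smul_left]
  apply Submodule.smul_mem
  apply Submodule.subset_span
  exact ⟨⟨(k, j)⟩, ht ⟨(k, j)⟩ U _ hεU⟩

omit hL in
theorem isQuasicoherent_freeMod (X : Scheme.{u}) (m : ℕ) :
    (FlatMod.freeMod X m).IsQuasicoherent :=
  LocFreeCrit.isQuasicoherent_of_isFinLocFree
    (LocFreeCrit.isFinLocFree_iff.2 (fun _ => ⟨⊤, m, fun i => bsec m i ⊤, trivial,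
      isBasis_bsec m ⊤⟩))

omit hL in
theorem main (hL : PicF.IsInvertible L) [Epi (φ s)] :
    Curv2.IsGloballyGenerated (CohB1.tensorMod (kernel (φ s)) L) := by
  haveI : L.IsQuasicoherent := InvCoh.isQuasicoherent_of_isInvertible hL
  haveI : (FlatMod.freeMod X (n + 1)).IsQuasicoherent := isQuasicoherent_freeMod X (n + 1)
  haveI : (kernel (φ s)).IsQuasicoherent := QCProps.isQuasicoherent_kernel (φ s)
  haveI : (CohB1.tensorMod (kernel (φ s)) L).IsQuasicoherent :=
    InvCoh.isQuasicoherent_tensorMod (kernel (φ s)) L hL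
  have hex : ∀ p : ULift.{u} (Fin (n + 1) × Fin (n + 1)),
      ∃ t : Γ(CohB1.tensorMod (kernel (φ s)) L, ⊤),
        ∀ (W : X.Opens) (ε : Γ(L, W)) (hε : IsGen L W ε),
          res (CohB1.tensorMod (kernel (φ s)) L) (le_top : W ≤ ⊤) t =
            T s hε p.down.1 p.down.2 :=
    fun p => exists_global s hL p.down.1 p.down.2
  choose t ht using hex
  exact GlobGen.isGloballyGenerated_of_span _ t (fun x => span_eq_top s hL t ht x)

end Groth.Agent.Lib.Helper3.KoszulGen
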