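import Groth.Prelude.Def_RelProj
import Mathlib

set_option autoImplicit false
universe u
open CategoryTheory CategoryTheory.Limits AlgebraicGeometry TopologicalSpace Opposite
open scoped HomogeneousIdeal

namespace Groth.Agent.Lib.Helper3.RelProjLoc

section algebra

variable {A : Type u} [CommRing A] (𝒜 : ℕ → AddSubgroup A) [GradedRing 𝒜]

/-- If the irrelevant ideal has no nonzero nilpotents, the degree zero localizations are reduced. -/
theorem away_isReduced
    (hred : ∀ x : A, x ∈ 𝒜₊ → IsNilpotent x → x = 0)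
    {d : ℕ} (hd : 0 < d) {f : A} (hf : f ∈ 𝒜 d) :
    IsReduced (HomogeneousLocalization.Away 𝒜 f) := by
  constructor
  intro z hz
  obtain ⟨n, a, ha, rfl⟩ := HomogeneousLocalization.Away.mk_surjective 𝒜 hf z
  obtain ⟨m, hm⟩ := hz
  have h1 : (Localization.mk a ⟨f ^ n, n, rfl⟩ : Localization.Away f) ^ m = 0 := by
    have := congrArg HomogeneousLocalization.val hm
    rwa [HomogeneousLocalization.val_pow, HomogeneousLocalization.Away.val_mk,
      HomogeneousLocalization.val_zero] at this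
  rw [Localization.mk_pow, Localization.mk_eq_mk', IsLocalization.mk'_eq_zero_iff] at h1
  obtain ⟨⟨_, N, rfl⟩, hN⟩ := h1
  have hN' : f ^ N * a ^ m = 0 := hN
  have hnil : IsNilpotent (f * a) := by
    refine ⟨N + m, ?_⟩
    have : (f * a) ^ (N + m) = (f ^ N * a ^ m) * (f ^ m * a ^ N) := by ring
    rw [this, hN', zero_mul]
  have hmem : f * a ∈ 𝒜₊ :=
    HomogeneousIdeal.mem_irrelevant_of_mem 𝒜 (Nat.add_pos_left hd _) (SetLike.mul_mem_graded hf ha)
  have hfa : f * a = 0 := hred _ hmem hnil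
  apply HomogeneousLocalization.val_injective
  rw [HomogeneousLocalization.Away.val_mk, HomogeneousLocalization.val_zero,
    Localization.mk_eq_mk', IsLocalization.mk'_eq_zero_iff]
  exact ⟨⟨f, 1, pow_one f⟩, hfa⟩

theorem proj_isReduced (hred : ∀ x : A, x ∈ 𝒜₊ → IsNilpotent x → x = 0) :
    IsReduced (Proj 𝒜) := by
  haveI : ∀ i, IsReduced ((Proj.affineOpenCover 𝒜).openCover.X i) := by
    intro i
    haveI := away_isReduced 𝒜 hred i.1.2 i.2.2
    change IsReduced (Spec (.of (HomogeneousLocalization.Away 𝒜 (i.2 : A))))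
    infer_instance
  exact IsReduced.of_openCover _ (Proj.affineOpenCover 𝒜).openCover

/-- A graded ring of finite type over a ring mapping to degree zero is of finite type over its
degree zero part. -/
theorem finiteType_zero {R : Type u} [CommRing R] (φ : R →+* A) (hφ0 : ∀ r, φ r ∈ 𝒜 0)
    (hft : φ.FiniteType) : Algebra.FiniteType (𝒜 0) A := by
  letI := φ.toAlgebra
  obtain ⟨s, hs⟩ := (show Algebra.FiniteType R A from hft).out
  refine ⟨⟨s, ?_⟩⟩
  rw [eq_top_iff]
  rintro x -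
  have hx : x ∈ Algebra.adjoin R (s : Set A) := by rw [hs]; trivial
  induction hx using Algebra.adjoin_induction with
  | mem x hx => exact Algebra.subset_adjoin hx
  | algebraMap r =>
    exact Subalgebra.algebraMap_mem (Algebra.adjoin (𝒜 0) (s : Set A)) (⟨φ r, hφ0 r⟩ : 𝒜 0)
  | add x y _ _ hx hy => exact add_mem hx hy
  | mul x y _ _ hx hy => exact mul_mem hx hy

end algebra

variable {Y P : Scheme.{u}} {𝒮 : RelProj.QCGrAlg Y} {p : P ⟶ Y}
  {chart : ∀ (U : Y.Opens) (hU : IsAffineOpen U),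
    ((p ⁻¹ᵁ U : P.Opens) : Scheme.{u}) ≅ Proj (𝒮.deg U hU)}

/-- the restriction of `p` over an affine open, in terms of the chart -/
theorem restrict_eq (hp : RelProj.IsRelProj 𝒮 p chart) (U : Y.Opens) (hU : IsAffineOpen U) :
    p ∣_ U = (chart U hU).hom ≫ Proj.toSpecZero (𝒮.deg U hU) ≫ Spec.map (𝒮.strZero U hU) ≫
      hU.isoSpec.inv := by
  rw [← cancel_mono U.ι, morphismRestrict_ι]
  simp only [Category.assoc]
  rw [IsAffineOpen.isoSpec_inv_ι]
  exact (hp.chart_over U hU).symm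

theorem of_affine_restrict {Q : MorphismProperty Scheme.{u}} [IsZariskiLocalAtTarget Q]
    (p : P ⟶ Y) (h : ∀ (U : Y.Opens), IsAffineOpen U → Q (p ∣_ U)) : Q p :=
  IsZariskiLocalAtTarget.of_iSup_eq_top (P := Q) (fun U : Y.affineOpens => (U : Y.Opens))
    (iSup_affineOpens_eq_top Y) (fun U => h U.1 U.2)

theorem isSeparated (hp : RelProj.IsRelProj 𝒮 p chart) : IsSeparated p := by
  refine of_affine_restrict (Q := @IsSeparated) p (fun U hU => ?_)
  rw [restrict_eq hp U hU]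
  infer_instance

theorem strZero_finiteType (U : Y.Opens) (hU : IsAffineOpen U)
    (hft : (𝒮.str.app (op U)).hom.FiniteType) : (𝒮.strZero U hU).hom.FiniteType := by
  have h1 : (𝒮.strZero U hU).hom =
      (GradedRing.projZeroRingHom' (𝒮.deg U hU)).comp (𝒮.str.app (op U)).hom := by
    ext r
    change ((𝒮.str.app (op U)).hom r : 𝒮.presheaf.obj (op U)) =
      GradedRing.projZeroRingHom (𝒮.deg U hU) ((𝒮.str.app (op U)).hom r)
    rw [GradedRing.projZeroRingHom_apply,
      DirectSum.decompose_of_mem_same _ (𝒮.str_mem U hU r)]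
  rw [h1]
  exact (RingHom.FiniteType.of_surjective _
    (GradedRing.projZeroRingHom'_surjective (𝒮.deg U hU))).comp hft

theorem finiteType_of_finiteType (hp : RelProj.IsRelProj 𝒮 p chart)
    (hft : ∀ (U : Y.Opens) (_ : IsAffineOpen U), (𝒮.str.app (op U)).hom.FiniteType) :
    LocallyOfFiniteType p ∧ QuasiCompact p := by
  have key : ∀ (U : Y.Opens) (hU : IsAffineOpen U),
      LocallyOfFiniteType (p ∣_ U) ∧ QuasiCompact (p ∣_ U) := by
    intro U hU
    haveI : Algebra.FiniteType (𝒮.deg U hU 0) (𝒮.presheaf.obj (op U)) :=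
      finiteType_zero (𝒮.deg U hU) (𝒮.str.app (op U)).hom (𝒮.str_mem U hU) (hft U hU)
    haveI : LocallyOfFiniteType (Spec.map (𝒮.strZero U hU)) :=
      (HasRingHomProperty.Spec_iff (P := @LocallyOfFiniteType)).mpr
        (strZero_finiteType U hU (hft U hU))
    rw [restrict_eq hp U hU]
    exact ⟨inferInstance, inferInstance⟩
  exact ⟨of_affine_restrict (Q := @LocallyOfFiniteType) p (fun U hU => (key U hU).1),
    of_affine_restrict (Q := @QuasiCompact) p (fun U hU => (key U hU).2)⟩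

theorem isReduced (hp : RelProj.IsRelProj 𝒮 p chart)
    (hred : ∀ (U : Y.Opens) (hU : IsAffineOpen U) (x : 𝒮.presheaf.obj (op U)),
      x ∈ (𝒮.deg U hU)₊ → IsNilpotent x → x = 0) : IsReduced P := by
  let 𝒰 : P.OpenCover := P.openCoverOfIsOpenCover (fun U : Y.affineOpens => p ⁻¹ᵁ (U : Y.Opens))
    (p.iSup_preimage_eq_top (iSup_affineOpens_eq_top Y))
  haveI : ∀ i, IsReduced (𝒰.X i) := by
    intro U
    haveI : IsReduced (Proj (𝒮.deg U.1 U.2)) := proj_isReduced _ (hred U.1 U.2)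
    exact isReduced_of_isOpenImmersion (chart U.1 U.2).hom
  exact IsReduced.of_openCover _ 𝒰

theorem iSup_eq_top (hP : RelProj.IsRelProj 𝒮 p chart) {ι : Type u} (d : ι → ℕ)
    (hd : ∀ a, 0 < d a) (f : ι → 𝒮.presheaf.obj (op ⊤))
    (hf : ∀ (a : ι) (U : Y.Opens) (hU : IsAffineOpen U),
      (𝒮.presheaf.map (homOfLE le_top).op).hom (f a) ∈ 𝒮.deg U hU (d a))
    (hgen : ∀ (U : Y.Opens) (hU : IsAffineOpen U), ∃ n₀ : ℕ, ∀ n, n₀ ≤ n →
      (𝒮.deg U hU n : Set (𝒮.presheaf.obj (op U))) ⊆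
        (Ideal.span (Set.range fun a =>
          (𝒮.presheaf.map (homOfLE (le_top : U ≤ ⊤)).op).hom (f a)) :
          Set (𝒮.presheaf.obj (op U))))
    (X : ι → P.Opens)
    (hX : ∀ (a : ι) (U : Y.Opens) (hU : IsAffineOpen U),
      X a ⊓ p ⁻¹ᵁ U =
        (p ⁻¹ᵁ U).ι ''ᵁ ((chart U hU).hom ⁻¹ᵁ
          Proj.basicOpen (𝒮.deg U hU) ((𝒮.presheaf.map (homOfLE le_top).op).hom (f a)))) :
    ⨆ a, X a = ⊤ := by
  rw [eq_top_iff]
  intro x _
  obtain ⟨_, ⟨U, hU, rfl⟩, hxU, -⟩ :=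
    Y.isBasis_affineOpens.exists_subset_of_mem_open (Set.mem_univ (p x)) isOpen_univ
  let x' : (p ⁻¹ᵁ U).toScheme := ⟨x, hxU⟩
  let y := (chart U hU).hom x'
  obtain ⟨n₀, hn₀⟩ := hgen U hU
  have hex : ∃ a, y ∈ Proj.basicOpen (𝒮.deg U hU)
      ((𝒮.presheaf.map (homOfLE (le_top : U ≤ ⊤)).op).hom (f a)) := by
    by_contra hcon
    push Not at hcon
    apply y.not_irrelevant_le
    rw [HomogeneousIdeal.irrelevant_le]
    intro i hi b hb
    have hspan : Ideal.span (Set.range fun a =>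
        (𝒮.presheaf.map (homOfLE (le_top : U ≤ ⊤)).op).hom (f a)) ≤
        y.asHomogeneousIdeal.toIdeal := by
      rw [Ideal.span_le]
      rintro _ ⟨a, rfl⟩
      have := hcon a
      rw [Proj.mem_basicOpen, not_not] at this
      exact this
    have hpow : b ^ (n₀ + 1) ∈ y.asHomogeneousIdeal.toIdeal := by
      apply hspan
      apply hn₀ ((n₀ + 1) • i)
      · calc n₀ ≤ (n₀ + 1) * 1 := by omega
          _ ≤ (n₀ + 1) * i := Nat.mul_le_mul_left _ hi
      · exact SetLike.pow_mem_graded (n₀ + 1) hb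
    exact y.isPrime.mem_of_pow_mem _ hpow
  obtain ⟨a, ha⟩ := hex
  refine Opens.mem_iSup.mpr ⟨a, ?_⟩
  have hmem : x ∈ X a ⊓ p ⁻¹ᵁ U := by
    rw [hX a U hU]
    exact ⟨x', ha, rfl⟩
  exact hmem.1

end Groth.Agent.Lib.Helper3.RelProjLoc
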