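import Groth.Agent.Lib.Helper3.RLSigmaImm
import Groth.Agent.Lib.Helper3.VAChart
import Groth.Agent.Lib.Helper3.InvRestrict
import Groth.Agent.Lib.Helper3.QCPush
import Groth.Agent.Lib.Helper3.RelProjLoc

/-!
# Relative very ampleness is local on the base
-/

set_option autoImplicit false
set_option linter.unusedSectionVars false
universe u
open CategoryTheory CategoryTheory.Limits AlgebraicGeometry TopologicalSpace Opposite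
open Scheme.Modules
open scoped HomogeneousIdeal

namespace Groth.Agent.Lib.Helper3.VALocal

open QCSec InvGen GrModQC RelChart SymGen PbBasic PullLemmas HomogeneousLocalization
  ProjBundleUniq LinProj

/-! ### the coordinate ring of a standard chart -/

section Away

variable {Y P : Scheme.{u}} {E : Y.Modules} [E.IsQuasicoherent]
  {𝒮 : RelProj.QCGrAlg Y} {j : E ⟶ 𝒮.toModule} (hj : RelProj.IsGrSymAlg E 𝒮 j) {p : P ⟶ Y}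
  {chart : ∀ (U : Y.Opens) (hU : IsAffineOpen U),
    ((p ⁻¹ᵁ U : P.Opens) : Scheme.{u}) ≅ Proj (𝒮.deg U hU)}

include hj in
theorem ringHom_ext_away (U : Y.Opens) (hU : IsAffineOpen U) (e : Γ(E, U)) {B : Type*}
    [Semiring B] (χ₁ χ₂ : Away (𝒮.deg U hU) (jj 𝒮.toQCAlg j U e) →+* B)
    (h : ∀ e' : Γ(E, U),
      χ₁ (Away.mk (𝒮.deg U hU) (jj_mem hj U hU e) 1 (jj 𝒮.toQCAlg j U e')
        (AwayGen.mem_smul_one (jj_mem hj U hU e'))) =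
      χ₂ (Away.mk (𝒮.deg U hU) (jj_mem hj U hU e) 1 (jj 𝒮.toQCAlg j U e')
        (AwayGen.mem_smul_one (jj_mem hj U hU e')))) : χ₁ = χ₂ := by
  apply AwayGen.hom_ext (𝒜 := 𝒮.deg U hU) (jj_mem hj U hU e) _ _
    (Set.range (st 𝒮.toQCAlg U) ∪ Set.range (jj 𝒮.toQCAlg j U))
    (G_eq_top 𝒮.toQCAlg j hj.1 hU)
  rintro x (⟨b, rfl⟩ | ⟨e', rfl⟩)
  · have hb0 : st 𝒮.toQCAlg U b ∈ 𝒮.deg U hU 0 := 𝒮.str_mem U hU b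
    rw [AwayGen.deh_of_mem _ hb0, AwayGen.mk_zero_eq (jj_mem hj U hU e) hb0,
      mk_congr (jj_mem hj U hU e) 1 (jj_smul 𝒮.toQCAlg j U b e).symm]
    exact h (b • e)
  · rw [AwayGen.deh_of_mem _ (jj_mem hj U hU e')]
    exact h e'

variable (j chart) in
/-- the coordinate ring map of a standard chart -/
noncomputable def iota0 (U : Y.Opens) (hU : IsAffineOpen U) (e : Γ(E, U)) :
    Away (𝒮.deg U hU) (jj 𝒮.toQCAlg j U e) →+* Γ(P, AA j chart U hU e) :=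
  (Proj.awayToSection (𝒮.deg U hU) (jj 𝒮.toQCAlg j U e) ≫
    ((RelProj.emb p chart U hU).appIso
      (Proj.basicOpen (𝒮.deg U hU) (jj 𝒮.toQCAlg j U e))).inv).hom

include hj in
theorem iota0_mk (U : Y.Opens) (hU : IsAffineOpen U) (e e' : Γ(E, U)) :
    iota0 j chart U hU e (Away.mk (𝒮.deg U hU) (jj_mem hj U hU e) 1 (jj 𝒮.toQCAlg j U e')
      (AwayGen.mem_smul_one (jj_mem hj U hU e'))) = cc hj chart U hU e e' := rfl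

include hj in
theorem iota0_surjective (U : Y.Opens) (hU : IsAffineOpen U) (e : Γ(E, U)) :
    Function.Surjective (iota0 j chart U hU e) := by
  intro c
  obtain ⟨n, a, ha, hz⟩ := exists_awayToSection (𝒜 := 𝒮.deg U hU) one_pos (jj_mem hj U hU e)
    (((RelProj.emb p chart U hU).appIso
      (Proj.basicOpen (𝒮.deg U hU) (jj 𝒮.toQCAlg j U e))).hom c)
  refine ⟨Away.mk (𝒮.deg U hU) (jj_mem hj U hU e) n a ha, ?_⟩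
  show chartFun chart U hU (jj 𝒮.toQCAlg j U e) _ = c
  unfold chartFun
  rw [hz]
  exact congrArg (fun m => m.hom c)
    (((RelProj.emb p chart U hU).appIso
      (Proj.basicOpen (𝒮.deg U hU) (jj 𝒮.toQCAlg j U e))).hom_inv_id)

include hj in
/-- the restriction of an immersion to the preimage of a standard chart, as a morphism to the
spectrum of the coordinate ring, is an immersion -/
theorem isImmersion_toSpecOfHom {X : Scheme.{u}} (r : X ⟶ P) [IsImmersion r] (U : Y.Opens)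
    (hU : IsAffineOpen U) (e : Γ(E, U)) (W : X.Opens) (hW : W ≤ r ⁻¹ᵁ AA j chart U hU e) :
    IsImmersion (VAChart.toSpecOfHom W
      ((r.appLE (AA j chart U hU e) W hW).hom.comp (iota0 j chart U hU e))) := by
  have hA : IsAffineOpen (AA j chart U hU e) := isAffineOpen_AA hj U hU e
  have h1 : VAChart.toSpecOfHom W
      ((r.appLE (AA j chart U hU e) W hW).hom.comp (iota0 j chart U hU e)) =
      VAChart.toSpecOfHom W (r.appLE (AA j chart U hU e) W hW).hom ≫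
        Spec.map (CommRingCat.ofHom (iota0 j chart U hU e)) :=
    (VAChart.toSpecOfHom_specMap W _ _).symm
  have h2 : r.resLE (AA j chart U hU e) W hW ≫
      VAChart.toSpecOfHom (AA j chart U hU e) (RingHom.id _) =
      VAChart.toSpecOfHom W (r.appLE (AA j chart U hU e) W hW).hom := by
    rw [VAChart.resLE_toSpecOfHom]
    rfl
  haveI : IsImmersion (r.resLE (AA j chart U hU e) W hW) := by
    haveI : IsImmersion (r.resLE (AA j chart U hU e) W hW ≫ (AA j chart U hU e).ι) := by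
      rw [Scheme.Hom.resLE_comp_ι]
      infer_instance
    exact IsImmersion.of_comp _ (AA j chart U hU e).ι
  haveI : IsIso (VAChart.toSpecOfHom (AA j chart U hU e) (RingHom.id Γ(P, AA j chart U hU e))) := by
    unfold VAChart.toSpecOfHom
    haveI : IsAffine (AA j chart U hU e).toScheme := hA
    haveI : IsIso (CommRingCat.ofHom (RingHom.id Γ(P, AA j chart U hU e)) ≫
        (AA j chart U hU e).topIso.inv) := by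
      change IsIso (𝟙 _ ≫ (AA j chart U hU e).topIso.inv)
      infer_instance
    infer_instance
  haveI : IsClosedImmersion (Spec.map (CommRingCat.ofHom (iota0 j chart U hU e))) := by
    apply IsClosedImmersion.spec_of_surjective
    exact iota0_surjective hj U hU e
  rw [h1, ← h2]
  infer_instance

end Away

/-! ### the ring map between standard charts over two bases -/

section ChartHom

variable {Y₁ : Scheme.{u}} {E₁ : Y₁.Modules} [E₁.IsQuasicoherent]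
  {𝒮₁ : RelProj.QCGrAlg Y₁} {j₁ : E₁ ⟶ 𝒮₁.toModule} (hj₁ : RelProj.IsGrSymAlg E₁ 𝒮₁ j₁)
  {Y Q : Scheme.{u}} {F : Y.Modules} [F.IsQuasicoherent]
  {𝒯 : RelProj.QCGrAlg Y} {k : F ⟶ 𝒯.toModule} (hk : RelProj.IsGrSymAlg F 𝒯 k) {q : Q ⟶ Y}
  {chartQ : ∀ (U : Y.Opens) (hU : IsAffineOpen U),
    ((q ⁻¹ᵁ U : Q.Opens) : Scheme.{u}) ≅ Proj (𝒯.deg U hU)}

include hj₁ hk in
theorem exists_chartHom (U₁ : Y₁.Opens) (hU₁ : IsAffineOpen U₁) (U : Y.Opens)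
    (hU : IsAffineOpen U) (β : Γ(Y₁, U₁) →+* Γ(Y, U)) (v : Γ(E₁, U₁) →+ Γ(F, U))
    (hv : ∀ (a : Γ(Y₁, U₁)) (e₁ : Γ(E₁, U₁)), v (a • e₁) = β a • v e₁) (e : Γ(E₁, U₁)) :
    ∃ θ : Away (𝒮₁.deg U₁ hU₁) (jj 𝒮₁.toQCAlg j₁ U₁ e) →+* Γ(Q, AA k chartQ U hU (v e)),
      ∀ e₁ : Γ(E₁, U₁),
        θ (Away.mk (𝒮₁.deg U₁ hU₁) (jj_mem hj₁ U₁ hU₁ e) 1 (jj 𝒮₁.toQCAlg j₁ U₁ e₁)
          (AwayGen.mem_smul_one (jj_mem hj₁ U₁ hU₁ e₁))) =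
          cc hk chartQ U hU (v e) (v e₁) := by
  classical
  obtain ⟨Θ, ⟨hΘ1, hΘ2⟩, -⟩ := SymLocal.existsUnique_lift hj₁.1 ⟨U₁, hU₁⟩
    (T := 𝒯.presheaf.obj (op U)) ((st 𝒯.toQCAlg U).comp β)
    (AddMonoidHom.mk' (fun e₁ : Γ(E₁, U₁) => jj 𝒯.toQCAlg k U (v e₁))
      (fun a b => by rw [map_add, jj_add]))
    (fun a e₁ => by
      show (jj 𝒯.toQCAlg k U (v (a • e₁)) : 𝒯.presheaf.obj (op U)) = _
      rw [hv]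
      exact jj_smul 𝒯.toQCAlg k U (β a) (v e₁))
  have hΘjj : ∀ e₁ : Γ(E₁, U₁), Θ (jj 𝒮₁.toQCAlg j₁ U₁ e₁) = jj 𝒯.toQCAlg k U (v e₁) :=
    fun e₁ => hΘ2 e₁
  have hdeg : ∀ {n : ℕ} {x : 𝒮₁.presheaf.obj (op U₁)}, x ∈ 𝒮₁.deg U₁ hU₁ n →
      Θ x ∈ 𝒯.deg U hU n := by
    intro n x hx
    refine SymQHom.map_mem_of_closure (𝒮₁.deg U₁ hU₁) (𝒯.deg U hU) Θ
      (Set.range (st 𝒮₁.toQCAlg U₁) ∪ Set.range (jj 𝒮₁.toQCAlg j₁ U₁))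
      (G_eq_top 𝒮₁.toQCAlg j₁ hj₁.1 hU₁) ?_ hx
    rintro y (⟨a, rfl⟩ | ⟨e₁, rfl⟩)
    · refine ⟨0, 𝒮₁.str_mem U₁ hU₁ a, ?_⟩
      rw [show Θ (st 𝒮₁.toQCAlg U₁ a) = st 𝒯.toQCAlg U (β a) from hΘ1 a]
      exact 𝒯.str_mem U hU (β a)
    · refine ⟨1, hj₁.2 U₁ hU₁ e₁, ?_⟩
      rw [hΘjj]
      exact hk.2 U hU (v e₁)
  let ΘG : 𝒮₁.deg U₁ hU₁ →+*ᵍ 𝒯.deg U hU := { Θ with map_mem := fun hx => hdeg hx }
  have hpow : Submonoid.powers (jj 𝒮₁.toQCAlg j₁ U₁ e) ≤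
      (Submonoid.powers (jj 𝒯.toQCAlg k U (v e))).comap ΘG := by
    rintro _ ⟨n, rfl⟩
    refine ⟨n, ?_⟩
    change _ = Θ (jj 𝒮₁.toQCAlg j₁ U₁ e ^ n)
    rw [map_pow, hΘjj]
  let θ₀ : Away (𝒮₁.deg U₁ hU₁) (jj 𝒮₁.toQCAlg j₁ U₁ e) →+*
      Away (𝒯.deg U hU) (jj 𝒯.toQCAlg k U (v e)) := HomogeneousLocalization.map ΘG hpow
  have hθ₀ : ∀ e₁ : Γ(E₁, U₁),
      θ₀ (Away.mk (𝒮₁.deg U₁ hU₁) (jj_mem hj₁ U₁ hU₁ e) 1 (jj 𝒮₁.toQCAlg j₁ U₁ e₁)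
        (AwayGen.mem_smul_one (jj_mem hj₁ U₁ hU₁ e₁))) =
      Away.mk (𝒯.deg U hU) (jj_mem hk U hU (v e)) 1 (jj 𝒯.toQCAlg k U (v e₁))
        (AwayGen.mem_smul_one (jj_mem hk U hU (v e₁))) := by
    intro e₁
    apply HomogeneousLocalization.val_injective
    exact loc_mk_congr (hΘjj e₁)
      (show Θ (jj 𝒮₁.toQCAlg j₁ U₁ e ^ 1) = jj 𝒯.toQCAlg k U (v e) ^ 1 by
        rw [map_pow, hΘjj]) _ _
  refine ⟨(iota0 k chartQ U hU (v e)).comp θ₀, fun e₁ => ?_⟩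
  change iota0 k chartQ U hU (v e) (θ₀ _) = _
  rw [hθ₀]
  rfl

end ChartHom

/-! ### the abstract immersion criterion -/

section Abstract

variable {X Q X₁ : Scheme.{u}}

theorem isImmersion_of_chart (ς : X ⟶ Q) (V : Q.Opens) (b : X₁ ⟶ X) [IsOpenImmersion b]
    (hV : ς ⁻¹ᵁ V ≤ b.opensRange) {R : Type u} [CommRing R] (θ : R →+* Γ(Q, V))
    (h : IsImmersion (VAChart.toSpecOfHom (b ⁻¹ᵁ ς ⁻¹ᵁ V)
      (((b ≫ ς).appLE V (b ⁻¹ᵁ ς ⁻¹ᵁ V) (Scheme.Hom.comp_preimage b ς V).ge).hom.comp θ))) :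
    IsImmersion ((ς ⁻¹ᵁ V).ι ≫ ς) := by
  rw [← VAChart.resLE_toSpecOfHom (b ≫ ς) V (b ⁻¹ᵁ ς ⁻¹ᵁ V)
    (Scheme.Hom.comp_preimage b ς V).ge θ] at h
  haveI := h
  haveI h1 : IsImmersion ((b ≫ ς).resLE V (b ⁻¹ᵁ ς ⁻¹ᵁ V)
      (Scheme.Hom.comp_preimage b ς V).ge) :=
    IsImmersion.of_comp _ (VAChart.toSpecOfHom V θ)
  haveI h2 : IsImmersion ((b ⁻¹ᵁ ς ⁻¹ᵁ V).ι ≫ b ≫ ς) := by
    rw [← Scheme.Hom.resLE_comp_ι (b ≫ ς) (Scheme.Hom.comp_preimage b ς V).ge]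
    infer_instance
  have hrange : Set.range (ς ⁻¹ᵁ V).ι = Set.range ((b ⁻¹ᵁ ς ⁻¹ᵁ V).ι ≫ b) := by
    ext x
    constructor
    · rintro ⟨⟨x', hx'⟩, rfl⟩
      obtain ⟨w, hw⟩ := hV hx'
      have hw' : w ∈ b ⁻¹ᵁ ς ⁻¹ᵁ V := by
        show b w ∈ ς ⁻¹ᵁ V
        rw [hw]
        exact hx'
      exact ⟨⟨w, hw'⟩, hw⟩
    · rintro ⟨⟨w, hw⟩, rfl⟩
      exact ⟨⟨b w, hw⟩, rfl⟩
  let e := IsOpenImmersion.isoOfRangeEq (ς ⁻¹ᵁ V).ι ((b ⁻¹ᵁ ς ⁻¹ᵁ V).ι ≫ b) hrange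
  have he : (ς ⁻¹ᵁ V).ι = e.hom ≫ (b ⁻¹ᵁ ς ⁻¹ᵁ V).ι ≫ b :=
    (IsOpenImmersion.isoOfRangeEq_hom_fac _ _ hrange).symm
  rw [he, Category.assoc, Category.assoc]
  infer_instance

end Abstract

/-! ### transport between an open subscheme and the ambient scheme -/

section Transport

variable {X Y : Scheme.{u}} (q : X ⟶ Y) (O : Y.Opens)

theorem le_image (U₁ : (O : Scheme.{u}).Opens) :
    q ⁻¹ᵁ (O.ι ''ᵁ U₁) ≤ (q ⁻¹ᵁ O).ι ''ᵁ ((q ∣_ O) ⁻¹ᵁ U₁) :=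
  (image_morphismRestrict_preimage q O U₁).ge

theorem image_le (U₁ : (O : Scheme.{u}).Opens) :
    (q ⁻¹ᵁ O).ι ''ᵁ ((q ∣_ O) ⁻¹ᵁ U₁) ≤ q ⁻¹ᵁ (O.ι ''ᵁ U₁) :=
  (image_morphismRestrict_preimage q O U₁).le

theorem key_ring (U₁ : (O : Scheme.{u}).Opens) (a : Γ((O : Scheme.{u}), U₁)) :
    rres X (le_image q O U₁)
      (((q ⁻¹ᵁ O).ι.appIso ((q ∣_ O) ⁻¹ᵁ U₁)).inv ((q ∣_ O).app U₁ a)) =
      q.app (O.ι ''ᵁ U₁) ((O.ι.appIso U₁).inv a) := by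
  have h1 := IsOpenImmersion.app_eq_appIso_inv_app_of_comp_eq (q ∣_ O) O.ι ((q ⁻¹ᵁ O).ι ≫ q)
    (morphismRestrict_ι q O).symm U₁
  have h3 : ((q ⁻¹ᵁ O).ι ≫ q).app (O.ι ''ᵁ U₁) ≫
      ((q ⁻¹ᵁ O : X.Opens) : Scheme.{u}).presheaf.map
        (eqToHom (IsOpenImmersion.app_eq_invApp_app_of_comp_eq_aux (q ∣_ O) O.ι
          ((q ⁻¹ᵁ O).ι ≫ q) (morphismRestrict_ι q O).symm U₁)).op =
      q.app (O.ι ''ᵁ U₁) ≫ (q ⁻¹ᵁ O).ι.appLE (q ⁻¹ᵁ (O.ι ''ᵁ U₁)) ((q ∣_ O) ⁻¹ᵁ U₁)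
        (le_of_eq (IsOpenImmersion.app_eq_invApp_app_of_comp_eq_aux (q ∣_ O) O.ι
          ((q ⁻¹ᵁ O).ι ≫ q) (morphismRestrict_ι q O).symm U₁)) := by
    exact Category.assoc _ _ _
  have h2 : (q ∣_ O).app U₁ ≫ ((q ⁻¹ᵁ O).ι.appIso ((q ∣_ O) ⁻¹ᵁ U₁)).inv =
      (O.ι.appIso U₁).inv ≫ q.app (O.ι ''ᵁ U₁) ≫
        X.presheaf.map (homOfLE (image_le q O U₁)).op := by
    rw [h1, h3, Category.assoc, Category.assoc, Scheme.Hom.appLE_appIso_inv]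
  have h4 : ((q ⁻¹ᵁ O).ι.appIso ((q ∣_ O) ⁻¹ᵁ U₁)).inv ((q ∣_ O).app U₁ a) =
      rres X (image_le q O U₁) (q.app (O.ι ''ᵁ U₁) ((O.ι.appIso U₁).inv a)) :=
    congr($h2 a)
  rw [h4, rres_rres, rres_self]

variable (L : X.Modules) {E₁ : (O : Scheme.{u}).Modules}
  (s₁ : (Scheme.Modules.pullback (q ∣_ O)).obj E₁ ⟶ L.restrict (q ⁻¹ᵁ O).ι)

/-- the image of a pulled back section, as a section of `L` -/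
noncomputable def sig (U₁ : (O : Scheme.{u}).Opens) (e₁ : Γ(E₁, U₁)) :
    Γ(L, (q ⁻¹ᵁ O).ι ''ᵁ ((q ∣_ O) ⁻¹ᵁ U₁)) :=
  s₁.app ((q ∣_ O) ⁻¹ᵁ U₁) (pull (q ∣_ O) E₁ U₁ e₁)

/-- the section of `L` over `q⁻¹(U)` defined by a section of `E₁` -/
noncomputable def ell (U₁ : (O : Scheme.{u}).Opens) (e₁ : Γ(E₁, U₁)) :
    Γ(L, q ⁻¹ᵁ (O.ι ''ᵁ U₁)) :=
  res L (le_image q O U₁) (sig q O L s₁ U₁ e₁)

theorem ell_add (U₁ : (O : Scheme.{u}).Opens) (e₁ e₂ : Γ(E₁, U₁)) :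
    ell q O L s₁ U₁ (e₁ + e₂) = ell q O L s₁ U₁ e₁ + ell q O L s₁ U₁ e₂ := by
  unfold ell sig
  rw [PbTensor.pull_add, QCExact.app_add]
  exact QCExact.res_add L _ _ _

theorem ell_smul (U₁ : (O : Scheme.{u}).Opens) (a : Γ((O : Scheme.{u}), U₁)) (e₁ : Γ(E₁, U₁)) :
    ell q O L s₁ U₁ (a • e₁) =
      q.app (O.ι ''ᵁ U₁) ((O.ι.appIso U₁).inv a) • ell q O L s₁ U₁ e₁ := by
  unfold ell sig
  rw [pull_smul, Scheme.Modules.Hom.app_smul, ← key_ring q O U₁ a]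
  exact res_smul L (le_image q O U₁) _ _

/-- as a section of the direct image -/
noncomputable def vv (U₁ : (O : Scheme.{u}).Opens) :
    Γ(E₁, U₁) →+ Γ((pushforward q).obj L, O.ι ''ᵁ U₁) :=
  AddMonoidHom.mk' (fun e₁ => (show Γ((pushforward q).obj L, O.ι ''ᵁ U₁) from
    ell q O L s₁ U₁ e₁)) (fun a b => ell_add q O L s₁ U₁ a b)

theorem vv_smul (U₁ : (O : Scheme.{u}).Opens) (a : Γ((O : Scheme.{u}), U₁)) (e₁ : Γ(E₁, U₁)) :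
    vv q O L s₁ U₁ (a • e₁) = ((O.ι.appIso U₁).inv.hom a) • vv q O L s₁ U₁ e₁ :=
  ell_smul q O L s₁ U₁ a e₁

theorem counit_vv (U₁ : (O : Scheme.{u}).Opens) (e₁ : Γ(E₁, U₁)) :
    ((pullbackPushforwardAdjunction q).counit.app L).app (q ⁻¹ᵁ (O.ι ''ᵁ U₁))
      (pull q _ (O.ι ''ᵁ U₁) (vv q O L s₁ U₁ e₁)) = ell q O L s₁ U₁ e₁ :=
  CounitGG.counit_pull q L (O.ι ''ᵁ U₁) (ell q O L s₁ U₁ e₁)

/-- restriction of `ell` to an open contained in the image of a small open -/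
theorem res_ell (U₁ : (O : Scheme.{u}).Opens) (e₁ : Γ(E₁, U₁)) (A : X.Opens)
    (hA : A ≤ q ⁻¹ᵁ (O.ι ''ᵁ U₁)) (A₁ : ((q ⁻¹ᵁ O : X.Opens) : Scheme.{u}).Opens)
    (hA₁ : A₁ ≤ (q ∣_ O) ⁻¹ᵁ U₁) (hAA : A ≤ (q ⁻¹ᵁ O).ι ''ᵁ A₁) :
    res L hA (ell q O L s₁ U₁ e₁) =
      res L hAA (show Γ(L, (q ⁻¹ᵁ O).ι ''ᵁ A₁) from
        res (L.restrict (q ⁻¹ᵁ O).ι) hA₁
          (s₁.app ((q ∣_ O) ⁻¹ᵁ U₁) (pull (q ∣_ O) E₁ U₁ e₁))) := by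
  unfold ell sig
  rw [res_res]
  show _ = res L hAA (res L ((q ⁻¹ᵁ O).ι.image_mono hA₁) _)
  rw [res_res]

end Transport

/-! ### the local step -/

section Local

variable {X Y : Scheme.{u}} (q : X ⟶ Y) (L : X.Modules)
  [((pushforward q).obj L).IsQuasicoherent]
  {Q : Scheme.{u}} {𝒯 : RelProj.QCGrAlg Y} {k : (pushforward q).obj L ⟶ 𝒯.toModule}
  (hk : RelProj.IsGrSymAlg ((pushforward q).obj L) 𝒯 k) {pQ : Q ⟶ Y}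
  {chartQ : ∀ (U : Y.Opens) (hU : IsAffineOpen U),
    ((pQ ⁻¹ᵁ U : Q.Opens) : Scheme.{u}) ≅ Proj (𝒯.deg U hU)}
  (hQ : RelProj.IsRelProj 𝒯 pQ chartQ) {O1Q : Q.Modules}
  {lamQ : ∀ (U : Y.Opens) (hU : IsAffineOpen U),
    O1Q ⟶ (Scheme.Modules.pushforward (RelProj.emb pQ chartQ U hU)).obj
      (GrTwist.twist (𝒯.deg U hU) 1)}
  (hO1Q : RelProj.IsRelTwist 𝒯 pQ chartQ 1 O1Q lamQ)
  {φQ : (pushforward q).obj L ⟶ (pushforward pQ).obj O1Q}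
  (hφQ : ∀ (U : Y.Opens) (hU : IsAffineOpen U) (f : Γ((pushforward q).obj L, U)),
    Reads lamQ U hU (pQ ⁻¹ᵁ U) (up pQ O1Q U (φQ.app U f)) (jj 𝒯.toQCAlg k U f) 1)
  (ς : X ⟶ Q) (hς : ς ≫ pQ = q) (τQ : (Scheme.Modules.pullback ς).obj O1Q ≅ L)
  (hcQ : ∀ (U : Y.Opens), IsAffineOpen U → ∀ f : Γ((pushforward q).obj L, U),
    τQ.hom.app (q ⁻¹ᵁ U) (res _ (preimage_le ς pQ q hς U)
      (pull ς O1Q (pQ ⁻¹ᵁ U) (up pQ O1Q U (φQ.app U f)))) =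
      ((pullbackPushforwardAdjunction q).counit.app L).app (q ⁻¹ᵁ U) (pull q _ U f))
  (O : Y.Opens)
  {P₁ : Scheme.{u}} {E₁ : (O : Scheme.{u}).Modules} [E₁.IsQuasicoherent]
  {𝒮₁ : RelProj.QCGrAlg (O : Scheme.{u})} {j₁ : E₁ ⟶ 𝒮₁.toModule}
  (hj₁ : RelProj.IsGrSymAlg E₁ 𝒮₁ j₁) {p₁ : P₁ ⟶ (O : Scheme.{u})}
  {chart₁ : ∀ (U : (O : Scheme.{u}).Opens) (hU : IsAffineOpen U),
    ((p₁ ⁻¹ᵁ U : P₁.Opens) : Scheme.{u}) ≅ Proj (𝒮₁.deg U hU)}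
  (hP₁ : RelProj.IsRelProj 𝒮₁ p₁ chart₁) {O1₁ : P₁.Modules}
  {lam₁ : ∀ (U : (O : Scheme.{u}).Opens) (hU : IsAffineOpen U),
    O1₁ ⟶ (Scheme.Modules.pushforward (RelProj.emb p₁ chart₁ U hU)).obj
      (GrTwist.twist (𝒮₁.deg U hU) 1)}
  (hO1₁ : RelProj.IsRelTwist 𝒮₁ p₁ chart₁ 1 O1₁ lam₁)
  {φ₁ : E₁ ⟶ (pushforward p₁).obj O1₁}
  (hφ₁ : ∀ (U : (O : Scheme.{u}).Opens) (hU : IsAffineOpen U) (e : Γ(E₁, U)),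
    Reads lam₁ U hU (p₁ ⁻¹ᵁ U) (up p₁ O1₁ U (φ₁.app U e)) (jj 𝒮₁.toQCAlg j₁ U e) 1)
  (s₁ : (Scheme.Modules.pullback (q ∣_ O)).obj E₁ ⟶ L.restrict (q ⁻¹ᵁ O).ι)
  (r₁ : ((q ⁻¹ᵁ O : X.Opens) : Scheme.{u}) ⟶ P₁) (hr₁ : r₁ ≫ p₁ = q ∣_ O)
  (τ₁ : (Scheme.Modules.pullback r₁).obj O1₁ ≅ L.restrict (q ⁻¹ᵁ O).ι)
  (hc₁ : ∀ (U : (O : Scheme.{u}).Opens), IsAffineOpen U → ∀ e : Γ(E₁, U),
    τ₁.hom.app ((q ∣_ O) ⁻¹ᵁ U) (res _ (preimage_le r₁ p₁ (q ∣_ O) hr₁ U)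
      (pull r₁ O1₁ (p₁ ⁻¹ᵁ U) (up p₁ O1₁ U (φ₁.app U e)))) =
      s₁.app ((q ∣_ O) ⁻¹ᵁ U) (pull (q ∣_ O) E₁ U e))

include hj₁ hO1₁ hφ₁ hc₁ in
/-- generation on the ambient scheme over the image of the preimage of a standard chart -/
theorem isGen_image (U₁ : (O : Scheme.{u}).Opens) (hU₁ : IsAffineOpen U₁) (e : Γ(E₁, U₁)) :
    IsGen L ((q ⁻¹ᵁ O).ι ''ᵁ (r₁ ⁻¹ᵁ AA j₁ chart₁ U₁ hU₁ e))
      (show Γ(L, (q ⁻¹ᵁ O).ι ''ᵁ (r₁ ⁻¹ᵁ AA j₁ chart₁ U₁ hU₁ e)) from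
        res (L.restrict (q ⁻¹ᵁ O).ι) (pre_le j₁ chart₁ (q ∣_ O) r₁ hr₁ U₁ hU₁ e)
          (s₁.app ((q ∣_ O) ⁻¹ᵁ U₁) (pull (q ∣_ O) E₁ U₁ e))) := by
  have hgenP : IsGen (L.restrict (q ⁻¹ᵁ O).ι) (r₁ ⁻¹ᵁ AA j₁ chart₁ U₁ hU₁ e)
      (res _ (pre_le j₁ chart₁ (q ∣_ O) r₁ hr₁ U₁ hU₁ e)
        (s₁.app ((q ∣_ O) ⁻¹ᵁ U₁) (pull (q ∣_ O) E₁ U₁ e))) := by
    intro W hW
    rw [res_res]
    exact isGenAt_sigma hj₁ hO1₁ hφ₁ (q ∣_ O) s₁ r₁ hr₁ τ₁ hc₁ U₁ hU₁ e W hW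
  exact (InvRestrict.isGen_restrict_iff (q ⁻¹ᵁ O).ι L _ _).mp hgenP

include hj₁ hO1₁ hφ₁ hc₁ in
/-- local generators of `L` coming from the local very ample data -/
theorem exists_isGen_ell (U₁ : (O : Scheme.{u}).Opens) (hU₁ : IsAffineOpen U₁) (e : Γ(E₁, U₁)) :
    ∃ hA : (q ⁻¹ᵁ O).ι ''ᵁ (r₁ ⁻¹ᵁ AA j₁ chart₁ U₁ hU₁ e) ≤ q ⁻¹ᵁ (O.ι ''ᵁ U₁),
      IsGen L ((q ⁻¹ᵁ O).ι ''ᵁ (r₁ ⁻¹ᵁ AA j₁ chart₁ U₁ hU₁ e))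
        (res L hA (ell q O L s₁ U₁ e)) := by
  have hA : (q ⁻¹ᵁ O).ι ''ᵁ (r₁ ⁻¹ᵁ AA j₁ chart₁ U₁ hU₁ e) ≤ q ⁻¹ᵁ (O.ι ''ᵁ U₁) :=
    ((q ⁻¹ᵁ O).ι.image_mono (pre_le j₁ chart₁ (q ∣_ O) r₁ hr₁ U₁ hU₁ e)).trans
      (image_le q O U₁)
  refine ⟨hA, ?_⟩
  rw [res_ell q O L s₁ U₁ e _ hA (r₁ ⁻¹ᵁ AA j₁ chart₁ U₁ hU₁ e)
    (pre_le j₁ chart₁ (q ∣_ O) r₁ hr₁ U₁ hU₁ e) le_rfl, res_self]
  exact isGen_image q L O hj₁ hO1₁ hφ₁ s₁ r₁ hr₁ τ₁ hc₁ U₁ hU₁ e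

include hk hQ hO1Q hφQ hcQ hj₁ hP₁ hO1₁ hφ₁ hc₁ in
/-- **the local step**: near a point of the preimage of a standard chart of the local projective
bundle, the global morphism is an immersion -/
theorem exists_chart_immersion [IsImmersion r₁] (x₁ : ((q ⁻¹ᵁ O : X.Opens) : Scheme.{u}))
    (U₁ : (O : Scheme.{u}).Opens) (hU₁ : IsAffineOpen U₁) (e : Γ(E₁, U₁))
    (hx₁ : x₁ ∈ r₁ ⁻¹ᵁ AA j₁ chart₁ U₁ hU₁ e) :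
    ∃ V : Q.Opens, ς ((q ⁻¹ᵁ O).ι x₁) ∈ V ∧ IsImmersion ((ς ⁻¹ᵁ V).ι ≫ ς) := by
  classical
  have hU : IsAffineOpen (O.ι ''ᵁ U₁) := hU₁.image_of_isOpenImmersion O.ι
  have key : ∀ e₁ : Γ(E₁, U₁),
      ((pullbackPushforwardAdjunction q).counit.app L).app (q ⁻¹ᵁ (O.ι ''ᵁ U₁))
        (pull q _ (O.ι ''ᵁ U₁) (vv q O L s₁ U₁ e₁)) = ell q O L s₁ U₁ e₁ :=
    fun e₁ => counit_vv q O L s₁ U₁ e₁
  -- the chart of the global bundle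
  obtain ⟨hA, hgenA⟩ := exists_isGen_ell q L O hj₁ hO1₁ hφ₁ s₁ r₁ hr₁ τ₁ hc₁ U₁ hU₁ e
  have hmem : (q ⁻¹ᵁ O).ι ''ᵁ (r₁ ⁻¹ᵁ AA j₁ chart₁ U₁ hU₁ e) ≤
      ς ⁻¹ᵁ AA k chartQ (O.ι ''ᵁ U₁) hU (vv q O L s₁ U₁ e) := by
    refine le_preimage_AA_of_isGenAt hk hQ hO1Q hφQ q _ ς hς τQ hcQ (O.ι ''ᵁ U₁) hU
      (vv q O L s₁ U₁ e) _ hA (fun W' hW' => ?_)
    rw [key]
    have := hgenA W' hW'
    rwa [res_res] at this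
  have hXV : ς ⁻¹ᵁ AA k chartQ (O.ι ''ᵁ U₁) hU (vv q O L s₁ U₁ e) ≤ q ⁻¹ᵁ (O.ι ''ᵁ U₁) :=
    pre_le k chartQ q ς hς (O.ι ''ᵁ U₁) hU (vv q O L s₁ U₁ e)
  have hrange : ς ⁻¹ᵁ AA k chartQ (O.ι ''ᵁ U₁) hU (vv q O L s₁ U₁ e) ≤
      (q ⁻¹ᵁ O).ι.opensRange := by
    intro x hx
    obtain ⟨w, -, rfl⟩ := le_image q O U₁ (hXV hx)
    exact ⟨w, rfl⟩
  have hWG : (q ⁻¹ᵁ O).ι ⁻¹ᵁ ς ⁻¹ᵁ AA k chartQ (O.ι ''ᵁ U₁) hU (vv q O L s₁ U₁ e) ≤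
      (q ∣_ O) ⁻¹ᵁ U₁ := by
    intro w hw
    obtain ⟨w', hw', hww⟩ := le_image q O U₁ (hXV hw)
    have h0 : w' = w := (q ⁻¹ᵁ O).ι.isOpenEmbedding.injective hww
    exact h0 ▸ hw'
  have hgenQ : ∀ (W'' : X.Opens)
      (hW'' : W'' ≤ ς ⁻¹ᵁ AA k chartQ (O.ι ''ᵁ U₁) hU (vv q O L s₁ U₁ e)),
      IsGenAt L W'' (res L (hW''.trans hXV) (ell q O L s₁ U₁ e)) := by
    intro W'' hW''
    have := isGenAt_sigma hk hO1Q hφQ q _ ς hς τQ hcQ (O.ι ''ᵁ U₁) hU (vv q O L s₁ U₁ e) W'' hW''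
    rwa [key] at this
  have hWle : (q ⁻¹ᵁ O).ι ⁻¹ᵁ ς ⁻¹ᵁ AA k chartQ (O.ι ''ᵁ U₁) hU (vv q O L s₁ U₁ e) ≤
      r₁ ⁻¹ᵁ AA j₁ chart₁ U₁ hU₁ e := by
    refine le_preimage_AA_of_isGenAt hj₁ hP₁ hO1₁ hφ₁ (q ∣_ O) s₁ r₁ hr₁ τ₁ hc₁ U₁ hU₁ e _ hWG
      (fun W' hW' => ?_)
    rw [InvRestrict.isGenAt_restrict_iff]
    have hle : (q ⁻¹ᵁ O).ι ''ᵁ W' ≤
        ς ⁻¹ᵁ AA k chartQ (O.ι ''ᵁ U₁) hU (vv q O L s₁ U₁ e) := by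
      rintro _ ⟨w, hw, rfl⟩
      exact hW' hw
    have h1 := hgenQ ((q ⁻¹ᵁ O).ι ''ᵁ W') hle
    rw [res_ell q O L s₁ U₁ e _ (hle.trans hXV) W' (hW'.trans hWG) le_rfl, res_self] at h1
    exact h1
  obtain ⟨θ, hθ⟩ := exists_chartHom hj₁ hk (chartQ := chartQ) U₁ hU₁ (O.ι ''ᵁ U₁) hU
    (O.ι.appIso U₁).inv.hom (vv q O L s₁ U₁) (vv_smul q O L s₁ U₁) e
  refine ⟨AA k chartQ (O.ι ''ᵁ U₁) hU (vv q O L s₁ U₁ e), hmem ⟨x₁, hx₁, rfl⟩, ?_⟩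
  apply isImmersion_of_chart ς _ (q ⁻¹ᵁ O).ι hrange θ
  have hP1 := isImmersion_toSpecOfHom hj₁ r₁ U₁ hU₁ e _ hWle
  have hX'W : ς ⁻¹ᵁ AA k chartQ (O.ι ''ᵁ U₁) hU (vv q O L s₁ U₁ e) ≤
      (q ⁻¹ᵁ O).ι ''ᵁ ((q ⁻¹ᵁ O).ι ⁻¹ᵁ ς ⁻¹ᵁ AA k chartQ (O.ι ''ᵁ U₁) hU (vv q O L s₁ U₁ e)) := by
    intro x hx
    obtain ⟨w, rfl⟩ := hrange hx
    exact ⟨w, hx, rfl⟩
  have hring : (((q ⁻¹ᵁ O).ι ≫ ς).appLE (AA k chartQ (O.ι ''ᵁ U₁) hU (vv q O L s₁ U₁ e))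
      ((q ⁻¹ᵁ O).ι ⁻¹ᵁ ς ⁻¹ᵁ AA k chartQ (O.ι ''ᵁ U₁) hU (vv q O L s₁ U₁ e))
      (Scheme.Hom.comp_preimage (q ⁻¹ᵁ O).ι ς _).ge).hom.comp θ =
      (r₁.appLE (AA j₁ chart₁ U₁ hU₁ e) _ hWle).hom.comp (iota0 j₁ chart₁ U₁ hU₁ e) := by
    apply ringHom_ext_away hj₁ U₁ hU₁ e
    intro e₁
    rw [RingHom.comp_apply, RingHom.comp_apply, hθ e₁, iota0_mk hj₁]
    -- the two coefficients
    have hQrel := sigma_rel hk hO1Q hφQ q _ ς hς τQ hcQ (O.ι ''ᵁ U₁) hU (vv q O L s₁ U₁ e)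
      (vv q O L s₁ U₁ e₁) _ le_rfl
    rw [key, key] at hQrel
    have hPrel := sigma_rel hj₁ hO1₁ hφ₁ (q ∣_ O) s₁ r₁ hr₁ τ₁ hc₁ U₁ hU₁ e e₁ _ hWle
    have hPrel' : (show Γ(L, (q ⁻¹ᵁ O).ι ''ᵁ ((q ⁻¹ᵁ O).ι ⁻¹ᵁ
          ς ⁻¹ᵁ AA k chartQ (O.ι ''ᵁ U₁) hU (vv q O L s₁ U₁ e))) from
        res (L.restrict (q ⁻¹ᵁ O).ι) hWG
          (s₁.app ((q ∣_ O) ⁻¹ᵁ U₁) (pull (q ∣_ O) E₁ U₁ e₁))) =
        (((q ⁻¹ᵁ O).ι.appIso _).inv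
          (r₁.appLE (AA j₁ chart₁ U₁ hU₁ e) _ hWle (cc hj₁ chart₁ U₁ hU₁ e e₁))) •
        (show Γ(L, (q ⁻¹ᵁ O).ι ''ᵁ ((q ⁻¹ᵁ O).ι ⁻¹ᵁ
          ς ⁻¹ᵁ AA k chartQ (O.ι ''ᵁ U₁) hU (vv q O L s₁ U₁ e))) from
        res (L.restrict (q ⁻¹ᵁ O).ι) hWG
          (s₁.app ((q ∣_ O) ⁻¹ᵁ U₁) (pull (q ∣_ O) E₁ U₁ e))) := hPrel
    have h3 := congrArg (res L hX'W) hPrel'
    rw [res_smul, ← res_ell q O L s₁ U₁ e₁ _ hXV _ hWG hX'W,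
      ← res_ell q O L s₁ U₁ e _ hXV _ hWG hX'W] at h3
    have hg := hgenQ _ le_rfl
    have hA := hg.smul_inj (hQrel.symm.trans h3)
    -- Claim B
    have hB : ((q ⁻¹ᵁ O).ι ≫ ς).appLE (AA k chartQ (O.ι ''ᵁ U₁) hU (vv q O L s₁ U₁ e))
        ((q ⁻¹ᵁ O).ι ⁻¹ᵁ ς ⁻¹ᵁ AA k chartQ (O.ι ''ᵁ U₁) hU (vv q O L s₁ U₁ e))
        (Scheme.Hom.comp_preimage (q ⁻¹ᵁ O).ι ς _).ge =
        ς.appLE (AA k chartQ (O.ι ''ᵁ U₁) hU (vv q O L s₁ U₁ e)) _ le_rfl ≫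
          (q ⁻¹ᵁ O).ι.appLE _ _ le_rfl :=
      (Scheme.Hom.appLE_comp_appLE _ _ _ _ _ _ _).symm
    rw [hB]
    change ((q ⁻¹ᵁ O).ι.appLE _ _ le_rfl).hom
      ((ς.appLE (AA k chartQ (O.ι ''ᵁ U₁) hU (vv q O L s₁ U₁ e)) _ le_rfl).hom
        (cc hk chartQ (O.ι ''ᵁ U₁) hU (vv q O L s₁ U₁ e) (vv q O L s₁ U₁ e₁))) = _
    rw [hA]
    have h5 : X.presheaf.map (homOfLE hX'W).op ≫ (q ⁻¹ᵁ O).ι.appLE
        (ς ⁻¹ᵁ AA k chartQ (O.ι ''ᵁ U₁) hU (vv q O L s₁ U₁ e)) _ le_rfl =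
        (q ⁻¹ᵁ O).ι.appLE _ _ ((q ⁻¹ᵁ O).ι.preimage_image_eq _).ge :=
      Scheme.Hom.map_appLE _ _ _
    have h6 := Scheme.Hom.appIso_inv_appLE (q ⁻¹ᵁ O).ι
      (U := (q ⁻¹ᵁ O).ι ⁻¹ᵁ ς ⁻¹ᵁ AA k chartQ (O.ι ''ᵁ U₁) hU (vv q O L s₁ U₁ e))
      (V := (q ⁻¹ᵁ O).ι ⁻¹ᵁ ς ⁻¹ᵁ AA k chartQ (O.ι ''ᵁ U₁) hU (vv q O L s₁ U₁ e))
      ((q ⁻¹ᵁ O).ι.preimage_image_eq _).ge
    have h7 := congr($h5 (((q ⁻¹ᵁ O).ι.appIso _).inv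
      (r₁.appLE (AA j₁ chart₁ U₁ hU₁ e) _ hWle (cc hj₁ chart₁ U₁ hU₁ e e₁))))
    refine h7.trans ?_
    have h8 := congr($h6 (r₁.appLE (AA j₁ chart₁ U₁ hU₁ e) _ hWle (cc hj₁ chart₁ U₁ hU₁ e e₁)))
    refine h8.trans ?_
    exact congr($(((q ⁻¹ᵁ O : X.Opens) : Scheme.{u}).presheaf.map_id _) _)
  rw [hring]
  exact hP1

end Local

/-! ### the global statement -/

section Global

variable {X Y : Scheme.{u}}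

/-- a morphism carrying a relatively very ample module is separated -/
theorem isSeparated_of_isRelVeryAmple (g : X ⟶ Y) (L : X.Modules)
    (h : RelProj.IsRelVeryAmple g L) : IsSeparated g := by
  obtain ⟨E, hE, 𝒮, j, hj, P, p, chart, hP, O1, lam, hO1, i, hi, hip, -⟩ := h
  haveI := hi
  haveI : IsSeparated p := RelProjLoc.isSeparated hP
  rw [← hip]
  infer_instance

/-- **relative very ampleness is local on the base** (for quasi-compact morphisms) -/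
theorem isRelVeryAmple_of_local (q : X ⟶ Y) [QuasiCompact q] (L : X.Modules)
    (hL : PicF.IsInvertible L)
    (h : ∀ y : Y, ∃ O : Y.Opens, y ∈ O ∧
      RelProj.IsRelVeryAmple (q ∣_ O) (L.restrict (q ⁻¹ᵁ O).ι)) :
    RelProj.IsRelVeryAmple q L := by
  classical
  haveI : L.IsQuasicoherent := InvCoh.isQuasicoherent_of_isInvertible hL
  haveI : IsSeparated q := by
    apply IsZariskiLocalAtTarget.of_forall_exists_morphismRestrict (P := @IsSeparated)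
    intro y
    obtain ⟨O, hy, hO⟩ := h y
    exact ⟨O, hy, isSeparated_of_isRelVeryAmple _ _ hO⟩
  haveI hFq : ((pushforward q).obj L).IsQuasicoherent := QCSec.isQuasicoherent_pushforward q L
  obtain ⟨𝒯, k, hk⟩ := SymGr.exists_isGrSymAlg ((pushforward q).obj L)
  obtain ⟨Q, pQ, chartQ, hQ⟩ := RelProjExist.exists_isRelProj 𝒯
  obtain ⟨O1Q, lamQ, hO1Q⟩ := RelTwistExist.exists_isRelTwist hQ 1
  obtain ⟨φQ, hφQ0⟩ := CanonPhi.exists_phi hk.2 hQ hO1Q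
  have hφQ : ∀ (U : Y.Opens) (hU : IsAffineOpen U) (f : Γ((pushforward q).obj L, U)),
      Reads lamQ U hU (pQ ⁻¹ᵁ U) (up pQ O1Q U (φQ.app U f)) (jj 𝒯.toQCAlg k U f) 1 :=
    fun U hU f => ProjBundleUP.reads_of_fr (d := 1) U hU _ (hk.2 U hU f) _ (hφQ0 U hU f)
  have hpt : ∀ x : X, ∃ (O : Y.Opens) (_ : x ∈ q ⁻¹ᵁ O),
      RelProj.IsRelVeryAmple (q ∣_ O) (L.restrict (q ⁻¹ᵁ O).ι) := by
    intro x
    obtain ⟨O, hy, hO⟩ := h (q x)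
    exact ⟨O, hy, hO⟩
  -- the counit is an epimorphism
  haveI : Epi ((pullbackPushforwardAdjunction q).counit.app L) := by
    apply TwistHom.epi_of_isGen
    intro x
    obtain ⟨O, hxO, hO⟩ := hpt x
    obtain ⟨E₁, hE₁, 𝒮₁, j₁, hj₁, P₁, p₁, chart₁, hP₁, O1₁, lam₁, hO1₁, φ₁, hφ₁, r₁, hr₁i, hr₁,
      τ₁, s₁, hs₁, hc₁⟩ := RLSigmaImm.exists_data (q ∣_ O) (L.restrict (q ⁻¹ᵁ O).ι) hO
    haveI := hE₁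
    let x₁ : ((q ⁻¹ᵁ O : X.Opens) : Scheme.{u}) := ⟨x, hxO⟩
    obtain ⟨U₁, hU₁, hxU₁⟩ := ProjQMap.exists_affine_mem ((q ∣_ O) x₁)
    have hpx : p₁ (r₁ x₁) ∈ U₁ := by
      rw [← Scheme.Hom.comp_apply, hr₁]
      exact hxU₁
    obtain ⟨y, hy⟩ := ProjQMap.exists_emb_eq p₁ chart₁ U₁ hU₁ (r₁ x₁) hpx
    obtain ⟨e, he⟩ := SymGenProj.exists_jj_notMem hj₁ hU₁ y
    have hx1 : x₁ ∈ r₁ ⁻¹ᵁ AA j₁ chart₁ U₁ hU₁ e := ⟨y, he, hy⟩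
    obtain ⟨hA, hgenA⟩ := exists_isGen_ell q L O hj₁ hO1₁ hφ₁ s₁ r₁ hr₁ τ₁ hc₁ U₁ hU₁ e
    refine ⟨(q ⁻¹ᵁ O).ι ''ᵁ (r₁ ⁻¹ᵁ AA j₁ chart₁ U₁ hU₁ e),
      res _ hA (pull q _ (O.ι ''ᵁ U₁) (vv q O L s₁ U₁ e)), ⟨x₁, hx1, rfl⟩, ?_⟩
    rw [QCExact.app_res', counit_vv]
    exact hgenA
  obtain ⟨ς, hς, τQ, hτ0⟩ := ProjBundleUP.exists_hom ((pushforward q).obj L) 𝒯 k hk pQ chartQ hQ
    O1Q lamQ hO1Q φQ hφQ q L hL ((pullbackPushforwardAdjunction q).counit.app L)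
  have hτc := compat_of_pull_local ς pQ q hς φQ τQ.hom _ hτ0
  have hcQ : ∀ (U : Y.Opens), IsAffineOpen U → ∀ f : Γ((pushforward q).obj L, U),
      τQ.hom.app (q ⁻¹ᵁ U) (res _ (preimage_le ς pQ q hς U)
        (pull ς O1Q (pQ ⁻¹ᵁ U) (up pQ O1Q U (φQ.app U f)))) =
        ((pullbackPushforwardAdjunction q).counit.app L).app (q ⁻¹ᵁ U) (pull q _ U f) :=
    fun U _ f => pull_of_compat ς pQ q hς φQ τQ.hom _ hτc U f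
  haveI : IsImmersion ς := by
    haveI : MorphismProperty.RespectsRight @IsImmersion @IsOpenImmersion :=
      ⟨fun i hi f hf => by
        haveI := hi
        haveI := hf
        exact (inferInstance : IsImmersion (f ≫ i))⟩
    haveI : MorphismProperty.HasOfPostcompProperty @IsImmersion @IsOpenImmersion :=
      ⟨fun f g _ hfg => by
        haveI := hfg
        exact IsImmersion.of_comp f g⟩
    apply IsZariskiLocalAtTarget.of_forall_source_exists_preimage (P := @IsImmersion) ς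
    intro x
    obtain ⟨O, hxO, hO⟩ := hpt x
    obtain ⟨E₁, hE₁, 𝒮₁, j₁, hj₁, P₁, p₁, chart₁, hP₁, O1₁, lam₁, hO1₁, φ₁, hφ₁, r₁, hr₁i, hr₁,
      τ₁, s₁, hs₁, hc₁⟩ := RLSigmaImm.exists_data (q ∣_ O) (L.restrict (q ⁻¹ᵁ O).ι) hO
    haveI := hE₁
    haveI := hr₁i
    let x₁ : ((q ⁻¹ᵁ O : X.Opens) : Scheme.{u}) := ⟨x, hxO⟩
    obtain ⟨U₁, hU₁, hxU₁⟩ := ProjQMap.exists_affine_mem ((q ∣_ O) x₁)
    have hpx : p₁ (r₁ x₁) ∈ U₁ := by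
      rw [← Scheme.Hom.comp_apply, hr₁]
      exact hxU₁
    obtain ⟨y, hy⟩ := ProjQMap.exists_emb_eq p₁ chart₁ U₁ hU₁ (r₁ x₁) hpx
    obtain ⟨e, he⟩ := SymGenProj.exists_jj_notMem hj₁ hU₁ y
    have hx1 : x₁ ∈ r₁ ⁻¹ᵁ AA j₁ chart₁ U₁ hU₁ e := ⟨y, he, hy⟩
    exact exists_chart_immersion q L hk hQ hO1Q hφQ ς hς τQ hcQ O hj₁ hP₁ hO1₁ hφ₁ s₁ r₁ hr₁ τ₁
      hc₁ x₁ U₁ hU₁ e hx1
  exact ⟨_, hFq, 𝒯, k, hk, Q, pQ, chartQ, hQ, O1Q, lamQ, hO1Q, ς, inferInstance, hς, ⟨τQ.symm⟩⟩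

end Global

end Groth.Agent.Lib.Helper3.VALocal
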