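import Groth.Agent.Lib.Helper3.Segre
import Groth.Agent.Lib.Helper3.VALocal

/-!
# Linear embeddings between projective bundles: `P(E) ↪ P(F)` for an epimorphism `F → E`
-/

set_option autoImplicit false
set_option linter.unusedSectionVars false
universe u
open CategoryTheory CategoryTheory.Limits AlgebraicGeometry TopologicalSpace Opposite
open Scheme.Modules
open scoped HomogeneousIdeal

namespace Groth.Agent.Lib.Helper3.LinEmb

open QCSec InvGen InvTensor InvMonoidal PbBasic PbTensor PullLemmas RelChart SymGen TwistHom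
  ProjBundleUniq LinProj GrModQC HomogeneousLocalization

section algebra

variable {A B : Type u} [CommRing A] [CommRing B] (𝒜 : ℕ → AddSubgroup A) (ℬ : ℕ → AddSubgroup B)
  [GradedRing 𝒜] [GradedRing ℬ]

/-- a surjective graded ring homomorphism is surjective in each degree -/
theorem graded_surj (ψ : 𝒜 →+*ᵍ ℬ) (h : Function.Surjective ψ) (n : ℕ) (b : B)
    (hb : b ∈ ℬ n) : ∃ a ∈ 𝒜 n, ψ a = b := by
  classical
  obtain ⟨a', ha'⟩ := h b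
  refine ⟨(DirectSum.decompose 𝒜 a' n : A), SetLike.coe_mem _, ?_⟩
  rw [GradedRingHom.map_directSumDecompose, ha', DirectSum.decompose_of_mem_same ℬ hb]

end algebra

section two

variable {Y P Q X : Scheme.{u}} {E F : Y.Modules} [E.IsQuasicoherent] [F.IsQuasicoherent]
  {𝒮 : RelProj.QCGrAlg Y} {j : E ⟶ 𝒮.toModule} (hj : RelProj.IsGrSymAlg E 𝒮 j) {p : P ⟶ Y}
  {chart : ∀ (U : Y.Opens) (hU : IsAffineOpen U),
    ((p ⁻¹ᵁ U : P.Opens) : Scheme.{u}) ≅ Proj (𝒮.deg U hU)}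
  (hP : RelProj.IsRelProj 𝒮 p chart) {O1 : P.Modules}
  {lam : ∀ (U : Y.Opens) (hU : IsAffineOpen U),
    O1 ⟶ (Scheme.Modules.pushforward (RelProj.emb p chart U hU)).obj
      (GrTwist.twist (𝒮.deg U hU) 1)}
  (hO1 : RelProj.IsRelTwist 𝒮 p chart 1 O1 lam)
  {φ : E ⟶ (pushforward p).obj O1}
  (hφ : ∀ (U : Y.Opens) (hU : IsAffineOpen U) (e : Γ(E, U)),
    Reads lam U hU (p ⁻¹ᵁ U) (up p O1 U (φ.app U e)) (jj 𝒮.toQCAlg j U e) 1)
  {𝒯 : RelProj.QCGrAlg Y} {k : F ⟶ 𝒯.toModule} (hk : RelProj.IsGrSymAlg F 𝒯 k) {q : Q ⟶ Y}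
  {chartQ : ∀ (U : Y.Opens) (hU : IsAffineOpen U),
    ((q ⁻¹ᵁ U : Q.Opens) : Scheme.{u}) ≅ Proj (𝒯.deg U hU)}
  (hQ : RelProj.IsRelProj 𝒯 q chartQ) {O1Q : Q.Modules}
  {lamQ : ∀ (U : Y.Opens) (hU : IsAffineOpen U),
    O1Q ⟶ (Scheme.Modules.pushforward (RelProj.emb q chartQ U hU)).obj
      (GrTwist.twist (𝒯.deg U hU) 1)}
  (hO1Q : RelProj.IsRelTwist 𝒯 q chartQ 1 O1Q lamQ)
  {φQ : F ⟶ (pushforward q).obj O1Q}
  (hφQ : ∀ (U : Y.Opens) (hU : IsAffineOpen U) (f : Γ(F, U)),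
    Reads lamQ U hU (q ⁻¹ᵁ U) (up q O1Q U (φQ.app U f)) (jj 𝒯.toQCAlg k U f) 1)
  (g : X ⟶ Y) {L : X.Modules} (s : (Scheme.Modules.pullback g).obj E ⟶ L)
  (r : X ⟶ P) (hr : r ≫ p = g) (τ : (Scheme.Modules.pullback r).obj O1 ≅ L)
  (hc : ∀ (U : Y.Opens), IsAffineOpen U → ∀ e : Γ(E, U),
    τ.hom.app (g ⁻¹ᵁ U) (res _ (preimage_le r p g hr U)
      (pull r O1 (p ⁻¹ᵁ U) (up p O1 U (φ.app U e)))) = s.app (g ⁻¹ᵁ U) (pull g E U e))
  {M : X.Modules} (t : (Scheme.Modules.pullback g).obj F ⟶ M)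
  (ς : X ⟶ Q) (hς : ς ≫ q = g) (τQ : (Scheme.Modules.pullback ς).obj O1Q ≅ M)
  (hcQ : ∀ (U : Y.Opens), IsAffineOpen U → ∀ f : Γ(F, U),
    τQ.hom.app (g ⁻¹ᵁ U) (res _ (preimage_le ς q g hς U)
      (pull ς O1Q (q ⁻¹ᵁ U) (up q O1Q U (φQ.app U f)))) = t.app (g ⁻¹ᵁ U) (pull g F U f))

include hj hP hO1 hφ hc hk hQ hO1Q hφQ hcQ in
/-- the local statement: over the standard open of `f₀`, the morphism `ς` is an immersion -/
theorem isImmersion_local_emb [IsImmersion r] (U : Y.Opens) (hU : IsAffineOpen U) (f₀ : Γ(F, U))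
    (w : Γ(F, U) →+ Γ(E, U)) (hw : ∀ (a : Γ(Y, U)) (f₁ : Γ(F, U)), w (a • f₁) = a • w f₁)
    (hsurj : Function.Surjective w)
    (hle : ς ⁻¹ᵁ AA k chartQ U hU f₀ ≤ r ⁻¹ᵁ AA j chart U hU (w f₀))
    (hrel : ∀ (hXV : ς ⁻¹ᵁ AA k chartQ U hU f₀ ≤ g ⁻¹ᵁ U) (f₁ : Γ(F, U))
      (c : Γ(X, ς ⁻¹ᵁ AA k chartQ U hU f₀)),
      res L hXV (s.app (g ⁻¹ᵁ U) (pull g E U (w f₁))) =
        c • res L hXV (s.app (g ⁻¹ᵁ U) (pull g E U (w f₀))) →
      res M hXV (t.app (g ⁻¹ᵁ U) (pull g F U f₁)) =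
        c • res M hXV (t.app (g ⁻¹ᵁ U) (pull g F U f₀))) :
    IsImmersion ((ς ⁻¹ᵁ AA k chartQ U hU f₀).ι ≫ ς) := by
  classical
  -- the graded ring map
  obtain ⟨Θ, ⟨hΘ1, hΘ2⟩, -⟩ := SymLocal.existsUnique_lift hk.1 ⟨U, hU⟩
    (T := 𝒮.presheaf.obj (op U)) (st 𝒮.toQCAlg U)
    (AddMonoidHom.mk' (fun f₁ : Γ(F, U) => jj 𝒮.toQCAlg j U (w f₁))
      (fun a b => by rw [map_add, jj_add]))
    (fun a f₁ => by
      show (jj 𝒮.toQCAlg j U (w (a • f₁)) : 𝒮.presheaf.obj (op U)) = _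
      rw [hw]
      exact jj_smul 𝒮.toQCAlg j U a (w f₁))
  have hΘjj : ∀ f₁ : Γ(F, U), Θ (jj 𝒯.toQCAlg k U f₁) = jj 𝒮.toQCAlg j U (w f₁) :=
    fun f₁ => hΘ2 f₁
  have hdeg : ∀ {n : ℕ} {x : 𝒯.presheaf.obj (op U)}, x ∈ 𝒯.deg U hU n →
      Θ x ∈ 𝒮.deg U hU n := by
    intro n x hx
    refine SymQHom.map_mem_of_closure (𝒯.deg U hU) (𝒮.deg U hU) Θ
      (Set.range (st 𝒯.toQCAlg U) ∪ Set.range (jj 𝒯.toQCAlg k U))
      (G_eq_top 𝒯.toQCAlg k hk.1 hU) ?_ hx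
    rintro y (⟨a, rfl⟩ | ⟨f₁, rfl⟩)
    · refine ⟨0, 𝒯.str_mem U hU a, ?_⟩
      rw [show Θ (st 𝒯.toQCAlg U a) = st 𝒮.toQCAlg U a from hΘ1 a]
      exact 𝒮.str_mem U hU a
    · refine ⟨1, hk.2 U hU f₁, ?_⟩
      rw [hΘjj]
      exact hj.2 U hU (w f₁)
  let ΘG : 𝒯.deg U hU →+*ᵍ 𝒮.deg U hU := { Θ with map_mem := fun hx => hdeg hx }
  have hΘsurj : Function.Surjective Θ := by
    intro a
    have ha : a ∈ Subring.closure
        (Set.range (st 𝒮.toQCAlg U) ∪ Set.range (jj 𝒮.toQCAlg j U)) := by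
      have h : Subring.closure
          (Set.range (st 𝒮.toQCAlg U) ∪ Set.range (jj 𝒮.toQCAlg j U)) = ⊤ :=
        G_eq_top 𝒮.toQCAlg j hj.1 hU
      rw [h]
      trivial
    have hle' : Subring.closure
        (Set.range (st 𝒮.toQCAlg U) ∪ Set.range (jj 𝒮.toQCAlg j U)) ≤ Θ.range := by
      apply Subring.closure_le.mpr
      rintro y (⟨a, rfl⟩ | ⟨e₁, rfl⟩)
      · exact RingHom.mem_range.mpr ⟨st 𝒯.toQCAlg U a, hΘ1 a⟩
      · obtain ⟨f₁, rfl⟩ := hsurj e₁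
        exact RingHom.mem_range.mpr ⟨jj 𝒯.toQCAlg k U f₁, hΘjj f₁⟩
    exact RingHom.mem_range.mp (hle' ha)
  have hgrsurj : ∀ (n : ℕ) (a : 𝒮.presheaf.obj (op U)), a ∈ 𝒮.deg U hU n →
      ∃ b, b ∈ 𝒯.deg U hU n ∧ Θ b = a := by
    intro n a ha
    exact graded_surj (𝒯.deg U hU) (𝒮.deg U hU) ΘG hΘsurj n a ha
  have hpow : Submonoid.powers (jj 𝒯.toQCAlg k U f₀) ≤
      (Submonoid.powers (jj 𝒮.toQCAlg j U (w f₀))).comap ΘG := by
    rintro _ ⟨n, rfl⟩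
    refine ⟨n, ?_⟩
    change _ = Θ (jj 𝒯.toQCAlg k U f₀ ^ n)
    rw [map_pow, hΘjj]
  let θ₀ : Away (𝒯.deg U hU) (jj 𝒯.toQCAlg k U f₀) →+*
      Away (𝒮.deg U hU) (jj 𝒮.toQCAlg j U (w f₀)) := HomogeneousLocalization.map ΘG hpow
  have hθ₀ : ∀ f₁ : Γ(F, U),
      θ₀ (Away.mk (𝒯.deg U hU) (jj_mem hk U hU f₀) 1 (jj 𝒯.toQCAlg k U f₁)
        (AwayGen.mem_smul_one (jj_mem hk U hU f₁))) =
      Away.mk (𝒮.deg U hU) (jj_mem hj U hU (w f₀)) 1 (jj 𝒮.toQCAlg j U (w f₁))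
        (AwayGen.mem_smul_one (jj_mem hj U hU (w f₁))) := by
    intro f₁
    apply HomogeneousLocalization.val_injective
    exact loc_mk_congr (hΘjj f₁)
      (show Θ (jj 𝒯.toQCAlg k U f₀ ^ 1) = jj 𝒮.toQCAlg j U (w f₀) ^ 1 by
        rw [map_pow, hΘjj]) _ _
  have hθsurj : Function.Surjective θ₀ := by
    intro z
    obtain ⟨n, a, ha, rfl⟩ := Away.mk_surjective (𝒮.deg U hU) (jj_mem hj U hU (w f₀)) z
    obtain ⟨b, hb, hab⟩ := hgrsurj (n • 1) a ha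
    refine ⟨Away.mk (𝒯.deg U hU) (jj_mem hk U hU f₀) n b hb, ?_⟩
    apply HomogeneousLocalization.val_injective
    exact loc_mk_congr hab
      (show Θ (jj 𝒯.toQCAlg k U f₀ ^ n) = jj 𝒮.toQCAlg j U (w f₀) ^ n by
        rw [map_pow, hΘjj]) _ _
  -- the factorisation on coordinate rings
  have hXVU : ς ⁻¹ᵁ AA k chartQ U hU f₀ ≤ g ⁻¹ᵁ U := pre_le k chartQ g ς hς U hU f₀
  have hkey : ∀ f₁ : Γ(F, U),
      (ς.appLE (AA k chartQ U hU f₀) (ς ⁻¹ᵁ AA k chartQ U hU f₀) le_rfl).hom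
        (cc hk chartQ U hU f₀ f₁) =
      (r.appLE (AA j chart U hU (w f₀)) (ς ⁻¹ᵁ AA k chartQ U hU f₀) hle).hom
        (cc hj chart U hU (w f₀) (w f₁)) := by
    intro f₁
    have h1 := sigma_rel hk hO1Q hφQ g t ς hς τQ hcQ U hU f₀ f₁ _ le_rfl
    have h2 := sigma_rel hj hO1 hφ g s r hr τ hc U hU (w f₀) (w f₁) _ hle
    have h3 := hrel hXVU f₁ _ h2
    have hg := isGenAt_sigma hk hO1Q hφQ g t ς hς τQ hcQ U hU f₀ _ le_rfl
    exact hg.smul_inj (h1.symm.trans h3)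
  have hcomp : (ς.appLE (AA k chartQ U hU f₀) (ς ⁻¹ᵁ AA k chartQ U hU f₀) le_rfl).hom.comp
        (VALocal.iota0 k chartQ U hU f₀) =
      ((r.appLE (AA j chart U hU (w f₀)) (ς ⁻¹ᵁ AA k chartQ U hU f₀) hle).hom.comp
        (VALocal.iota0 j chart U hU (w f₀))).comp θ₀ := by
    apply VALocal.ringHom_ext_away hk U hU f₀
    intro f₁
    change (ς.appLE (AA k chartQ U hU f₀) (ς ⁻¹ᵁ AA k chartQ U hU f₀) le_rfl).hom
        (VALocal.iota0 k chartQ U hU f₀ _) =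
      (r.appLE (AA j chart U hU (w f₀)) (ς ⁻¹ᵁ AA k chartQ U hU f₀) hle).hom
        (VALocal.iota0 j chart U hU (w f₀) (θ₀ _))
    rw [hθ₀ f₁]
    exact hkey f₁
  have himm1 : IsImmersion (VAChart.toSpecOfHom (ς ⁻¹ᵁ AA k chartQ U hU f₀)
      ((r.appLE (AA j chart U hU (w f₀)) (ς ⁻¹ᵁ AA k chartQ U hU f₀) hle).hom.comp
        (VALocal.iota0 j chart U hU (w f₀)))) :=
    VALocal.isImmersion_toSpecOfHom hj r U hU (w f₀) _ hle
  haveI : IsClosedImmersion (Spec.map (CommRingCat.ofHom θ₀)) := by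
    apply IsClosedImmersion.spec_of_surjective
    exact hθsurj
  have himm2 : IsImmersion (VAChart.toSpecOfHom (ς ⁻¹ᵁ AA k chartQ U hU f₀)
      ((ς.appLE (AA k chartQ U hU f₀) (ς ⁻¹ᵁ AA k chartQ U hU f₀) le_rfl).hom.comp
        (VALocal.iota0 k chartQ U hU f₀))) := by
    rw [hcomp, ← VAChart.toSpecOfHom_specMap]
    haveI := himm1
    infer_instance
  rw [← VAChart.resLE_toSpecOfHom ς (AA k chartQ U hU f₀) (ς ⁻¹ᵁ AA k chartQ U hU f₀) le_rfl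
    (VALocal.iota0 k chartQ U hU f₀)] at himm2
  haveI := himm2
  haveI h1 : IsImmersion (ς.resLE (AA k chartQ U hU f₀) (ς ⁻¹ᵁ AA k chartQ U hU f₀) le_rfl) :=
    IsImmersion.of_comp _ (VAChart.toSpecOfHom (AA k chartQ U hU f₀)
      (VALocal.iota0 k chartQ U hU f₀))
  rw [← Scheme.Hom.resLE_comp_ι ς le_rfl]
  infer_instance

include hj hP hO1 hφ hc hk hQ hO1Q hφQ hcQ in
/-- **immersion criterion**: if `ς` is locally obtained from the immersion `r` by linear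
embeddings, then `ς` is an immersion -/
theorem isImmersion_of_linEmb [IsImmersion r]
    (h : ∀ x : X, ∃ (U : Y.Opens) (hU : IsAffineOpen U) (f₀ : Γ(F, U))
      (w : Γ(F, U) →+ Γ(E, U)),
      (∀ (a : Γ(Y, U)) (f₁ : Γ(F, U)), w (a • f₁) = a • w f₁) ∧ Function.Surjective w ∧
      ς x ∈ AA k chartQ U hU f₀ ∧
      ς ⁻¹ᵁ AA k chartQ U hU f₀ ≤ r ⁻¹ᵁ AA j chart U hU (w f₀) ∧
      ∀ (hXV : ς ⁻¹ᵁ AA k chartQ U hU f₀ ≤ g ⁻¹ᵁ U) (f₁ : Γ(F, U))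
        (c : Γ(X, ς ⁻¹ᵁ AA k chartQ U hU f₀)),
        res L hXV (s.app (g ⁻¹ᵁ U) (pull g E U (w f₁))) =
          c • res L hXV (s.app (g ⁻¹ᵁ U) (pull g E U (w f₀))) →
        res M hXV (t.app (g ⁻¹ᵁ U) (pull g F U f₁)) =
          c • res M hXV (t.app (g ⁻¹ᵁ U) (pull g F U f₀))) :
    IsImmersion ς := by
  haveI : MorphismProperty.RespectsRight @IsImmersion @IsOpenImmersion :=
    ⟨fun i hi f hf => by
      haveI := hi
      haveI := hf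
      exact (inferInstance : IsImmersion (f ≫ i))⟩
  haveI : MorphismProperty.HasOfPostcompProperty @IsImmersion @IsOpenImmersion :=
    ⟨fun f g _ hfg => by
      haveI := hfg
      exact IsImmersion.of_comp f g⟩
  apply IsZariskiLocalAtTarget.of_forall_source_exists_preimage (P := @IsImmersion) ς
  intro x
  obtain ⟨U, hU, f₀, w, hw, hsurj, hx, hle, hrel⟩ := h x
  exact ⟨AA k chartQ U hU f₀, hx,
    isImmersion_local_emb hj hP hO1 hφ hk hQ hO1Q hφQ g s r hr τ hc t ς hς τQ hcQ U hU f₀ w hw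
      hsurj hle hrel⟩

end two

section epi

variable {Y P Q X : Scheme.{u}} {E F : Y.Modules} [E.IsQuasicoherent] [F.IsQuasicoherent]
  {𝒮 : RelProj.QCGrAlg Y} {j : E ⟶ 𝒮.toModule} (hj : RelProj.IsGrSymAlg E 𝒮 j) {p : P ⟶ Y}
  {chart : ∀ (U : Y.Opens) (hU : IsAffineOpen U),
    ((p ⁻¹ᵁ U : P.Opens) : Scheme.{u}) ≅ Proj (𝒮.deg U hU)}
  (hP : RelProj.IsRelProj 𝒮 p chart) {O1 : P.Modules}
  {lam : ∀ (U : Y.Opens) (hU : IsAffineOpen U),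
    O1 ⟶ (Scheme.Modules.pushforward (RelProj.emb p chart U hU)).obj
      (GrTwist.twist (𝒮.deg U hU) 1)}
  (hO1 : RelProj.IsRelTwist 𝒮 p chart 1 O1 lam)
  {𝒯 : RelProj.QCGrAlg Y} {k : F ⟶ 𝒯.toModule} (hk : RelProj.IsGrSymAlg F 𝒯 k) {q : Q ⟶ Y}
  {chartQ : ∀ (U : Y.Opens) (hU : IsAffineOpen U),
    ((q ⁻¹ᵁ U : Q.Opens) : Scheme.{u}) ≅ Proj (𝒯.deg U hU)}
  (hQ : RelProj.IsRelProj 𝒯 q chartQ) {O1Q : Q.Modules}
  {lamQ : ∀ (U : Y.Opens) (hU : IsAffineOpen U),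
    O1Q ⟶ (Scheme.Modules.pushforward (RelProj.emb q chartQ U hU)).obj
      (GrTwist.twist (𝒯.deg U hU) 1)}
  (hO1Q : RelProj.IsRelTwist 𝒯 q chartQ 1 O1Q lamQ)

include hj hP hO1 hk hQ hO1Q in
/-- **EGA II 4.4.x**: an epimorphism `ψ : F → E` of quasi-coherent modules turns an immersion
`r : X → P(E)` over `Y` into an immersion `ς : X → P(F)` over `Y`, with the same inverse image
of the fundamental sheaf -/
theorem exists_immersion_of_epi (ψ : F ⟶ E) [Epi ψ] (g : X ⟶ Y) (r : X ⟶ P) (hr : r ≫ p = g)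
    [IsImmersion r] :
    ∃ ς : X ⟶ Q, IsImmersion ς ∧ ς ≫ q = g ∧
      Nonempty ((Scheme.Modules.pullback ς).obj O1Q ≅ (Scheme.Modules.pullback r).obj O1) := by
  classical
  have hO1i : PicF.IsInvertible O1 :=
    GrTwistGen.isInvertible_of_isRelTwist 𝒮 p chart (SymGenProj.isGenDegOne hj) _ O1 lam
      hO1.bijective
  have hL : PicF.IsInvertible ((Scheme.Modules.pullback r).obj O1) :=
    isInvertible_pullback r hO1i
  obtain ⟨φ, hφ0⟩ := CanonPhi.exists_phi hj.2 hP hO1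
  have hφ : ∀ (U : Y.Opens) (hU : IsAffineOpen U) (e : Γ(E, U)),
      Reads lam U hU (p ⁻¹ᵁ U) (up p O1 U (φ.app U e)) (jj 𝒮.toQCAlg j U e) 1 :=
    fun U hU e => ProjBundleUP.reads_of_fr (d := 1) U hU _ (hj.2 U hU e) _ (hφ0 U hU e)
  obtain ⟨φQ, hφQ0⟩ := CanonPhi.exists_phi hk.2 hQ hO1Q
  have hφQ : ∀ (U : Y.Opens) (hU : IsAffineOpen U) (f : Γ(F, U)),
      Reads lamQ U hU (q ⁻¹ᵁ U) (up q O1Q U (φQ.app U f)) (jj 𝒯.toQCAlg k U f) 1 :=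
    fun U hU f => ProjBundleUP.reads_of_fr (d := 1) U hU _ (hk.2 U hU f) _ (hφQ0 U hU f)
  obtain ⟨s, hs, hc⟩ := Segre.exists_sigma hj hO1 hφ g r hr
  let t : (Scheme.Modules.pullback g).obj F ⟶ (Scheme.Modules.pullback r).obj O1 :=
    (Scheme.Modules.pullback g).map ψ ≫ s
  have ht : ∀ (U : Y.Opens) (f : Γ(F, U)),
      t.app (g ⁻¹ᵁ U) (pull g F U f) = s.app (g ⁻¹ᵁ U) (pull g E U (ψ.app U f)) := by
    intro U f
    change s.app _ (((Scheme.Modules.pullback g).map ψ).app _ (pull g F U f)) = _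
    rw [pull_app]
  haveI : Epi t := by
    haveI := Functor.preservesEpimorphisms_of_adjunction
      (Scheme.Modules.pullbackPushforwardAdjunction g)
    haveI h1 : Epi ((Scheme.Modules.pullback g).map ψ) :=
      @Functor.map_epi _ _ _ _ (Scheme.Modules.pullback g) _ _ _ ψ inferInstance
    haveI := hs
    exact epi_comp _ _
  obtain ⟨ς, hς, τQ, hτ0⟩ := ProjBundleUP.exists_hom F 𝒯 k hk q chartQ hQ
    O1Q lamQ hO1Q φQ hφQ g _ hL t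
  have hτc := compat_of_pull_local ς q g hς φQ τQ.hom t hτ0
  have hcQ : ∀ (U : Y.Opens), IsAffineOpen U → ∀ f : Γ(F, U),
      τQ.hom.app (g ⁻¹ᵁ U) (res _ (preimage_le ς q g hς U)
        (pull ς O1Q (q ⁻¹ᵁ U) (up q O1Q U (φQ.app U f)))) = t.app (g ⁻¹ᵁ U) (pull g _ U f) :=
    fun U _ f => pull_of_compat ς q g hς φQ τQ.hom t hτc U f
  refine ⟨ς, ?_, hς, ⟨τQ⟩⟩
  refine isImmersion_of_linEmb hj hP hO1 hφ hk hQ hO1Q hφQ g s r hr (Iso.refl _) hc t ς hς τQ hcQ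
    (fun x => ?_)
  obtain ⟨U, hU, hxU⟩ := ProjQMap.exists_affine_mem (g x)
  have hqx : q (ς x) ∈ U := by
    rw [← Scheme.Hom.comp_apply, hς]
    exact hxU
  obtain ⟨y, hy⟩ := ProjQMap.exists_emb_eq q chartQ U hU (ς x) hqx
  obtain ⟨f₀, hf₀⟩ := SymGenProj.exists_jj_notMem hk hU y
  have hx1 : ς x ∈ AA k chartQ U hU f₀ := ⟨y, hf₀, hy⟩
  refine ⟨U, hU, f₀, AddMonoidHom.mk' (fun f₁ : Γ(F, U) => ψ.app U f₁)
    (fun a b => QCExact.app_add ψ U a b), ?_, ?_, hx1, ?_, ?_⟩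
  · intro a f₁
    change ψ.app U (a • f₁) = a • ψ.app U f₁
    rw [Scheme.Modules.Hom.app_smul]
  · exact (QCExact.epi_iff_surjective_on_affines ψ).mp inferInstance U hU
  · refine le_preimage_AA_of_isGenAt hj hP hO1 hφ g s r hr (Iso.refl _) hc U hU (ψ.app U f₀) _
      (pre_le k chartQ g ς hς U hU f₀) (fun W' hW' => ?_)
    rw [← ht]
    exact isGenAt_sigma hk hO1Q hφQ g t ς hς τQ hcQ U hU f₀ W' hW'
  · intro hXV f₁ c hrel
    rw [ht, ht]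
    exact hrel

end epi

end Groth.Agent.Lib.Helper3.LinEmb
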