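import Groth.Agent.Lib.Helper3.ProjBundleUniq
import Groth.Agent.Lib.Helper3.SymLocal
import Groth.Agent.Lib.Helper3.ToProj

/-!
# Linear projections between projective bundles: an immersion criterion
-/

set_option autoImplicit false
set_option linter.unusedSectionVars false
universe u
open CategoryTheory CategoryTheory.Limits AlgebraicGeometry TopologicalSpace Opposite
open Scheme.Modules
open scoped HomogeneousIdeal

namespace Groth.Agent.Lib.Helper3.LinProj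

open QCSec InvGen GrModQC RelChart SymGen PbBasic PullLemmas HomogeneousLocalization
  ProjBundleUniq

/-! ### morphisms into a chart of `Proj`, general gradings -/

section Chart

variable {A σ : Type u} [CommRing A] [SetLike σ A] [AddSubgroupClass σ A] {𝒜 : ℕ → σ}
  [GradedRing 𝒜] (t : A) {d : ℕ} (ht : t ∈ 𝒜 d) (hd : 0 < d) {Z : Scheme.{u}}
  (θ : CommRingCat.of (HomogeneousLocalization.Away 𝒜 t) ⟶ Γ(Z, ⊤))

/-- the morphism into the chart `D₊(t)` with prescribed map on functions -/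
noncomputable def toOpen : Z ⟶ (Proj.basicOpen 𝒜 t).toScheme :=
  Z.toSpecΓ ≫ Spec.map θ ≫ (Proj.basicOpenIsoSpec 𝒜 t ht hd).inv

theorem toOpen_appTop :
    Proj.awayToSection 𝒜 t ≫ (Proj.basicOpen 𝒜 t).topIso.inv ≫ (toOpen t ht hd θ).appTop = θ := by
  have h1 : (Proj.basicOpenIsoSpec 𝒜 t ht hd).hom.appTop =
      (Scheme.ΓSpecIso _).hom ≫ Proj.awayToSection 𝒜 t ≫ (Proj.basicOpen 𝒜 t).topIso.inv := by
    rw [Proj.basicOpenIsoSpec_hom]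
    exact Proj.basicOpenToSpec_app_top 𝒜 t
  have h2 : (Proj.basicOpenIsoSpec 𝒜 t ht hd).hom.appTop ≫
      (Proj.basicOpenIsoSpec 𝒜 t ht hd).inv.appTop = 𝟙 _ := by
    rw [← Scheme.Hom.comp_appTop, Iso.inv_hom_id, Scheme.Hom.id_appTop]
  have h3 : Proj.awayToSection 𝒜 t ≫ (Proj.basicOpen 𝒜 t).topIso.inv =
      (Scheme.ΓSpecIso _).inv ≫ (Proj.basicOpenIsoSpec 𝒜 t ht hd).hom.appTop := by
    rw [h1, Iso.inv_hom_id_assoc]
  unfold toOpen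
  rw [Scheme.Hom.comp_appTop, Scheme.Hom.comp_appTop, ← Category.assoc (Proj.awayToSection 𝒜 t),
    h3]
  simp only [Category.assoc]
  rw [reassoc_of% h2, Scheme.toSpecΓ_appTop, Scheme.ΓSpecIso_naturality, Iso.inv_hom_id_assoc]

/-- the morphism to `Proj` factoring through the chart `D₊(t)` -/
noncomputable def toProj : Z ⟶ Proj 𝒜 := toOpen t ht hd θ ≫ (Proj.basicOpen 𝒜 t).ι

theorem toProj_preimage : toProj t ht hd θ ⁻¹ᵁ Proj.basicOpen 𝒜 t = ⊤ := by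
  unfold toProj
  rw [Scheme.Hom.comp_preimage, Scheme.Opens.ι_preimage_self]
  rfl

theorem awayToSection_toProj_appLE
    (e : (⊤ : Z.Opens) ≤ toProj t ht hd θ ⁻¹ᵁ Proj.basicOpen 𝒜 t) :
    Proj.awayToSection 𝒜 t ≫ (toProj t ht hd θ).appLE (Proj.basicOpen 𝒜 t) ⊤ e = θ := by
  have h : (toProj t ht hd θ).appLE (Proj.basicOpen 𝒜 t) ⊤ e =
      (Proj.basicOpen 𝒜 t).topIso.inv ≫ (toOpen t ht hd θ).appTop :=
    ToProj.comp_ι_appLE _ _ e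
  rw [h, toOpen_appTop]

end Chart

/-! ### a single bundle -/

section one

variable {Y P X : Scheme.{u}} {E : Y.Modules} [E.IsQuasicoherent]
  {𝒮 : RelProj.QCGrAlg Y} {j : E ⟶ 𝒮.toModule} (hj : RelProj.IsGrSymAlg E 𝒮 j) {p : P ⟶ Y}
  {chart : ∀ (U : Y.Opens) (hU : IsAffineOpen U),
    ((p ⁻¹ᵁ U : P.Opens) : Scheme.{u}) ≅ Proj (𝒮.deg U hU)}
  (hP : RelProj.IsRelProj 𝒮 p chart) {O1 : P.Modules}
  {lam : ∀ (U : Y.Opens) (hU : IsAffineOpen U),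
    O1 ⟶ (Scheme.Modules.pushforward (RelProj.emb p chart U hU)).obj
      (GrTwist.twist (𝒮.deg U hU) 1)}
  (hO1 : RelProj.IsRelTwist 𝒮 p chart 1 O1 lam)
  {φ : E ⟶ (pushforward p).obj O1}
  (hφ : ∀ (U : Y.Opens) (hU : IsAffineOpen U) (e : Γ(E, U)),
    Reads lam U hU (p ⁻¹ᵁ U) (up p O1 U (φ.app U e)) (jj 𝒮.toQCAlg j U e) 1)

include hj in
/-- ring homomorphisms out of the coordinate ring of a standard chart are determined by their
values on the coordinate functions -/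
theorem ringHom_ext_AA (U : Y.Opens) (hU : IsAffineOpen U) (e : Γ(E, U)) {B : Type*} [Semiring B]
    (χ₁ χ₂ : Γ(P, AA j chart U hU e) →+* B)
    (h : ∀ e' : Γ(E, U), χ₁ (cc hj chart U hU e e') = χ₂ (cc hj chart U hU e e')) : χ₁ = χ₂ := by
  let ι₀ : Away (𝒮.deg U hU) (jj 𝒮.toQCAlg j U e) →+* Γ(P, AA j chart U hU e) :=
    (Proj.awayToSection (𝒮.deg U hU) (jj 𝒮.toQCAlg j U e) ≫
      ((RelProj.emb p chart U hU).appIso
        (Proj.basicOpen (𝒮.deg U hU) (jj 𝒮.toQCAlg j U e))).inv).hom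
  have hι₀ : ∀ z, ι₀ z = chartFun chart U hU (jj 𝒮.toQCAlg j U e) z := fun z => rfl
  have hsurj : Function.Surjective ι₀ := by
    intro c
    obtain ⟨k, a, ha, hz⟩ := exists_awayToSection (𝒜 := 𝒮.deg U hU) one_pos (jj_mem hj U hU e)
      (((RelProj.emb p chart U hU).appIso
        (Proj.basicOpen (𝒮.deg U hU) (jj 𝒮.toQCAlg j U e))).hom c)
    refine ⟨Away.mk (𝒮.deg U hU) (jj_mem hj U hU e) k a ha, ?_⟩
    rw [hι₀]
    unfold chartFun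
    rw [hz]
    exact congrArg (fun m => m.hom c)
      (((RelProj.emb p chart U hU).appIso
        (Proj.basicOpen (𝒮.deg U hU) (jj 𝒮.toQCAlg j U e))).hom_inv_id)
  have hχ : χ₁.comp ι₀ = χ₂.comp ι₀ := by
    apply AwayGen.hom_ext (𝒜 := 𝒮.deg U hU) (jj_mem hj U hU e) _ _
      (Set.range (st 𝒮.toQCAlg U) ∪ Set.range (jj 𝒮.toQCAlg j U))
      (G_eq_top 𝒮.toQCAlg j hj.1 hU)
    rintro x (⟨b, rfl⟩ | ⟨e', rfl⟩)
    · have hb0 : st 𝒮.toQCAlg U b ∈ 𝒮.deg U hU 0 := 𝒮.str_mem U hU b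
      rw [AwayGen.deh_of_mem _ hb0, AwayGen.mk_zero_eq (jj_mem hj U hU e) hb0,
        mk_congr (jj_mem hj U hU e) 1 (jj_smul 𝒮.toQCAlg j U b e).symm]
      exact h (b • e)
    · rw [AwayGen.deh_of_mem _ (jj_mem hj U hU e')]
      exact h e'
  ext c
  obtain ⟨z, rfl⟩ := hsurj c
  exact congr($hχ z)

variable (g : X ⟶ Y) {L : X.Modules} (s : (Scheme.Modules.pullback g).obj E ⟶ L)
  (r : X ⟶ P) (hr : r ≫ p = g) (τ : (Scheme.Modules.pullback r).obj O1 ≅ L)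
  (hc : ∀ (U : Y.Opens), IsAffineOpen U → ∀ e : Γ(E, U),
    τ.hom.app (g ⁻¹ᵁ U) (res _ (preimage_le r p g hr U)
      (pull r O1 (p ⁻¹ᵁ U) (up p O1 U (φ.app U e)))) = s.app (g ⁻¹ᵁ U) (pull g E U e))

include hj hP hO1 hφ hc in
/-- where `s(g^* e)` generates, the morphism lands in the standard open of `e` -/
theorem le_preimage_AA_of_isGenAt (U : Y.Opens) (hU : IsAffineOpen U) (e : Γ(E, U))
    (W : X.Opens) (hWU : W ≤ g ⁻¹ᵁ U)
    (hgen : ∀ (W' : X.Opens) (h : W' ≤ W),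
      IsGenAt L W' (res L (h.trans hWU) (s.app (g ⁻¹ᵁ U) (pull g E U e)))) :
    W ≤ r ⁻¹ᵁ AA j chart U hU e := by
  intro x hxW
  have hgx : g x ∈ U := hWU hxW
  have hrx : p (r x) ∈ U := by
    rw [← Scheme.Hom.comp_apply, hr]
    exact hgx
  obtain ⟨y₂, hy₂⟩ := ProjQMap.exists_emb_eq p chart U hU (r x) hrx
  obtain ⟨e', he'⟩ := SymGenProj.exists_jj_notMem hj hU y₂
  have hx2 : x ∈ r ⁻¹ᵁ AA j chart U hU e' := ⟨y₂, he', hy₂⟩
  have hW1 : W ⊓ r ⁻¹ᵁ AA j chart U hU e' ≤ W := inf_le_left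
  have hW2 : W ⊓ r ⁻¹ᵁ AA j chart U hU e' ≤ r ⁻¹ᵁ AA j chart U hU e' := inf_le_right
  have hg1 := hgen _ hW1
  have hg2 := isGenAt_sigma hj hO1 hφ g s r hr τ hc U hU e' _ hW2
  have hrel := sigma_rel hj hO1 hφ g s r hr τ hc U hU e' e _ hW2
  obtain ⟨v, hv, hv'⟩ := hg2.exists_unit hg1
  have hγ : r.appLE (AA j chart U hU e') _ hW2 (cc hj chart U hU e' e) = v :=
    hg2.smul_inj (hrel.symm.trans hv')
  have hb : X.basicOpen (r.appLE (AA j chart U hU e') _ hW2 (cc hj chart U hU e' e)) =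
      W ⊓ r ⁻¹ᵁ AA j chart U hU e' := by
    rw [hγ]
    exact X.basicOpen_of_isUnit hv
  have hb2 : X.basicOpen (r.appLE (AA j chart U hU e') _ hW2 (cc hj chart U hU e' e)) =
      (W ⊓ r ⁻¹ᵁ AA j chart U hU e') ⊓ r ⁻¹ᵁ P.basicOpen (cc hj chart U hU e' e) :=
    Scheme.basicOpen_appLE r _ (AA j chart U hU e') hW2 (cc hj chart U hU e' e)
  have hx3 : x ∈ (W ⊓ r ⁻¹ᵁ AA j chart U hU e') ⊓
      r ⁻¹ᵁ P.basicOpen (cc hj chart U hU e' e) := by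
    rw [← hb2, hb]
    exact ⟨hxW, hx2⟩
  have hfin : r x ∈ P.basicOpen (cc hj chart U hU e' e) := hx3.2
  have hle := basicOpen_cc_le hj (chart := chart) U hU e' e
  exact hle hfin

end one

/-! ### two bundles -/

section alg2

theorem loc_mk_congr {A : Type*} [CommRing A] {S : Submonoid A} {a a' b b' : A} (ha : a = a')
    (hb : b = b') (hbm : b ∈ S) (hbm' : b' ∈ S) :
    Localization.mk a ⟨b, hbm⟩ = Localization.mk a' ⟨b', hbm'⟩ := by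
  subst ha
  subst hb
  rfl

end alg2

section two

variable {Y P Q X : Scheme.{u}} {E F : Y.Modules} [E.IsQuasicoherent] [F.IsQuasicoherent]
  {𝒮 : RelProj.QCGrAlg Y} {j : E ⟶ 𝒮.toModule} (hj : RelProj.IsGrSymAlg E 𝒮 j) {p : P ⟶ Y}
  {chart : ∀ (U : Y.Opens) (hU : IsAffineOpen U),
    ((p ⁻¹ᵁ U : P.Opens) : Scheme.{u}) ≅ Proj (𝒮.deg U hU)}
  (hP : RelProj.IsRelProj 𝒮 p chart) {O1 : P.Modules}
  {lam : ∀ (U : Y.Opens) (hU : IsAffineOpen U),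
    O1 ⟶ (Scheme.Modules.pushforward (RelProj.emb p chart U hU)).obj
      (GrTwist.twist (𝒮.deg U hU) 1)}
  (hO1 : RelProj.IsRelTwist 𝒮 p chart 1 O1 lam)
  {φ : E ⟶ (pushforward p).obj O1}
  (hφ : ∀ (U : Y.Opens) (hU : IsAffineOpen U) (e : Γ(E, U)),
    Reads lam U hU (p ⁻¹ᵁ U) (up p O1 U (φ.app U e)) (jj 𝒮.toQCAlg j U e) 1)
  {𝒯 : RelProj.QCGrAlg Y} {k : F ⟶ 𝒯.toModule} (hk : RelProj.IsGrSymAlg F 𝒯 k) {q : Q ⟶ Y}
  {chartQ : ∀ (U : Y.Opens) (hU : IsAffineOpen U),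
    ((q ⁻¹ᵁ U : Q.Opens) : Scheme.{u}) ≅ Proj (𝒯.deg U hU)}
  (hQ : RelProj.IsRelProj 𝒯 q chartQ) {O1Q : Q.Modules}
  {lamQ : ∀ (U : Y.Opens) (hU : IsAffineOpen U),
    O1Q ⟶ (Scheme.Modules.pushforward (RelProj.emb q chartQ U hU)).obj
      (GrTwist.twist (𝒯.deg U hU) 1)}
  (hO1Q : RelProj.IsRelTwist 𝒯 q chartQ 1 O1Q lamQ)
  {φQ : F ⟶ (pushforward q).obj O1Q}
  (hφQ : ∀ (U : Y.Opens) (hU : IsAffineOpen U) (f : Γ(F, U)),
    Reads lamQ U hU (q ⁻¹ᵁ U) (up q O1Q U (φQ.app U f)) (jj 𝒯.toQCAlg k U f) 1)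
  (g : X ⟶ Y) {L : X.Modules} (s : (Scheme.Modules.pullback g).obj E ⟶ L)
  (r : X ⟶ P) (hr : r ≫ p = g) (τ : (Scheme.Modules.pullback r).obj O1 ≅ L)
  (hc : ∀ (U : Y.Opens), IsAffineOpen U → ∀ e : Γ(E, U),
    τ.hom.app (g ⁻¹ᵁ U) (res _ (preimage_le r p g hr U)
      (pull r O1 (p ⁻¹ᵁ U) (up p O1 U (φ.app U e)))) = s.app (g ⁻¹ᵁ U) (pull g E U e))
  {M : X.Modules} (t : (Scheme.Modules.pullback g).obj F ⟶ M)
  (ς : X ⟶ Q) (hς : ς ≫ q = g) (τQ : (Scheme.Modules.pullback ς).obj O1Q ≅ M)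
  (hcQ : ∀ (U : Y.Opens), IsAffineOpen U → ∀ f : Γ(F, U),
    τQ.hom.app (g ⁻¹ᵁ U) (res _ (preimage_le ς q g hς U)
      (pull ς O1Q (q ⁻¹ᵁ U) (up q O1Q U (φQ.app U f)))) = t.app (g ⁻¹ᵁ U) (pull g F U f))

include hj hP hO1 hφ hc hk hQ hO1Q hφQ hcQ in
/-- the local statement: over the standard open of `v e`, the morphism `ς` is an immersion -/
theorem isImmersion_local [IsImmersion r] (U : Y.Opens) (hU : IsAffineOpen U) (e : Γ(E, U))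
    (v : Γ(E, U) →+ Γ(F, U)) (hv : ∀ (a : Γ(Y, U)) (e₁ : Γ(E, U)), v (a • e₁) = a • v e₁)
    (hle : ς ⁻¹ᵁ AA k chartQ U hU (v e) ≤ r ⁻¹ᵁ AA j chart U hU e)
    (hrel : ∀ (hXV : ς ⁻¹ᵁ AA k chartQ U hU (v e) ≤ g ⁻¹ᵁ U) (e₁ : Γ(E, U))
      (c : Γ(X, ς ⁻¹ᵁ AA k chartQ U hU (v e))),
      res L hXV (s.app (g ⁻¹ᵁ U) (pull g E U e₁)) =
        c • res L hXV (s.app (g ⁻¹ᵁ U) (pull g E U e)) →
      res M hXV (t.app (g ⁻¹ᵁ U) (pull g F U (v e₁))) =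
        c • res M hXV (t.app (g ⁻¹ᵁ U) (pull g F U (v e)))) :
    IsImmersion ((ς ⁻¹ᵁ AA k chartQ U hU (v e)).ι ≫ ς) := by
  classical
  -- the graded ring map
  obtain ⟨Θ, ⟨hΘ1, hΘ2⟩, -⟩ := SymLocal.existsUnique_lift hj.1 ⟨U, hU⟩
    (T := 𝒯.presheaf.obj (op U)) (st 𝒯.toQCAlg U)
    (AddMonoidHom.mk' (fun e₁ : Γ(E, U) => jj 𝒯.toQCAlg k U (v e₁))
      (fun a b => by rw [map_add, jj_add]))
    (fun a e₁ => by
      show (jj 𝒯.toQCAlg k U (v (a • e₁)) : 𝒯.presheaf.obj (op U)) = _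
      rw [hv]
      exact jj_smul 𝒯.toQCAlg k U a (v e₁))
  have hΘjj : ∀ e₁ : Γ(E, U), Θ (jj 𝒮.toQCAlg j U e₁) = jj 𝒯.toQCAlg k U (v e₁) :=
    fun e₁ => hΘ2 e₁
  have hdeg : ∀ {n : ℕ} {x : 𝒮.presheaf.obj (op U)}, x ∈ 𝒮.deg U hU n →
      Θ x ∈ 𝒯.deg U hU n := by
    intro n x hx
    refine SymQHom.map_mem_of_closure (𝒮.deg U hU) (𝒯.deg U hU) Θ
      (Set.range (st 𝒮.toQCAlg U) ∪ Set.range (jj 𝒮.toQCAlg j U))
      (G_eq_top 𝒮.toQCAlg j hj.1 hU) ?_ hx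
    rintro y (⟨a, rfl⟩ | ⟨e₁, rfl⟩)
    · refine ⟨0, 𝒮.str_mem U hU a, ?_⟩
      rw [show Θ (st 𝒮.toQCAlg U a) = st 𝒯.toQCAlg U a from hΘ1 a]
      exact 𝒯.str_mem U hU a
    · refine ⟨1, hj.2 U hU e₁, ?_⟩
      rw [hΘjj]
      exact hk.2 U hU (v e₁)
  let ΘG : 𝒮.deg U hU →+*ᵍ 𝒯.deg U hU := { Θ with map_mem := fun hx => hdeg hx }
  have hpow : Submonoid.powers (jj 𝒮.toQCAlg j U e) ≤
      (Submonoid.powers (jj 𝒯.toQCAlg k U (v e))).comap ΘG := by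
    rintro _ ⟨n, rfl⟩
    refine ⟨n, ?_⟩
    change _ = Θ (jj 𝒮.toQCAlg j U e ^ n)
    rw [map_pow, hΘjj]
  let θ₀ : Away (𝒮.deg U hU) (jj 𝒮.toQCAlg j U e) →+*
      Away (𝒯.deg U hU) (jj 𝒯.toQCAlg k U (v e)) := HomogeneousLocalization.map ΘG hpow
  have hθ₀ : ∀ e₁ : Γ(E, U),
      θ₀ (Away.mk (𝒮.deg U hU) (jj_mem hj U hU e) 1 (jj 𝒮.toQCAlg j U e₁)
        (AwayGen.mem_smul_one (jj_mem hj U hU e₁))) =
      Away.mk (𝒯.deg U hU) (jj_mem hk U hU (v e)) 1 (jj 𝒯.toQCAlg k U (v e₁))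
        (AwayGen.mem_smul_one (jj_mem hk U hU (v e₁))) := by
    intro e₁
    apply HomogeneousLocalization.val_injective
    exact loc_mk_congr (hΘjj e₁)
      (show Θ (jj 𝒮.toQCAlg j U e ^ 1) = jj 𝒯.toQCAlg k U (v e) ^ 1 by rw [map_pow, hΘjj]) _ _
  -- the projection
  let cQ : Away (𝒯.deg U hU) (jj 𝒯.toQCAlg k U (v e)) →+* Γ(Q, AA k chartQ U hU (v e)) :=
    (Proj.awayToSection (𝒯.deg U hU) (jj 𝒯.toQCAlg k U (v e)) ≫
      ((RelProj.emb q chartQ U hU).appIso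
        (Proj.basicOpen (𝒯.deg U hU) (jj 𝒯.toQCAlg k U (v e)))).inv).hom
  let θ' : CommRingCat.of (Away (𝒮.deg U hU) (jj 𝒮.toQCAlg j U e)) ⟶
      Γ(((AA k chartQ U hU (v e) : Q.Opens) : Scheme.{u}), ⊤) :=
    CommRingCat.ofHom (((AA k chartQ U hU (v e)).topIso.inv.hom.comp cQ).comp θ₀)
  let π : ((AA k chartQ U hU (v e) : Q.Opens) : Scheme.{u}) ⟶ P :=
    toProj (jj 𝒮.toQCAlg j U e) (hj.2 U hU e) one_pos θ' ≫ RelProj.emb p chart U hU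
  have e₂ : (⊤ : ((AA k chartQ U hU (v e) : Q.Opens) : Scheme.{u}).Opens) ≤
      toProj (jj 𝒮.toQCAlg j U e) (hj.2 U hU e) one_pos θ' ⁻¹ᵁ
        Proj.basicOpen (𝒮.deg U hU) (jj 𝒮.toQCAlg j U e) := by
    rw [toProj_preimage]
  have hπtop : (⊤ : ((AA k chartQ U hU (v e) : Q.Opens) : Scheme.{u}).Opens) ≤
      π ⁻¹ᵁ AA j chart U hU e := by
    intro z hz
    exact ⟨_, e₂ hz, (Scheme.Hom.comp_apply _ _ z).symm⟩
  have e₁' : Proj.basicOpen (𝒮.deg U hU) (jj 𝒮.toQCAlg j U e) ≤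
      RelProj.emb p chart U hU ⁻¹ᵁ AA j chart U hU e :=
    (Scheme.Hom.preimage_image_eq _ _).ge
  have hπapp : ∀ z : Away (𝒮.deg U hU) (jj 𝒮.toQCAlg j U e),
      (π.appLE (AA j chart U hU e) ⊤ hπtop).hom (chartFun chart U hU (jj 𝒮.toQCAlg j U e) z) =
        θ'.hom z := by
    intro z
    have h1 : π.appLE (AA j chart U hU e) ⊤ hπtop =
        (RelProj.emb p chart U hU).appLE (AA j chart U hU e) _ e₁' ≫
          (toProj (jj 𝒮.toQCAlg j U e) (hj.2 U hU e) one_pos θ').appLE _ ⊤ e₂ :=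
      (Scheme.Hom.appLE_comp_appLE _ _ _ _ _ e₁' e₂).symm
    rw [h1]
    change ((toProj (jj 𝒮.toQCAlg j U e) (hj.2 U hU e) one_pos θ').appLE _ ⊤ e₂).hom
      ((RelProj.emb p chart U hU).appLE (AA j chart U hU e) _ e₁'
        (chartFun chart U hU (jj 𝒮.toQCAlg j U e) z)) = _
    rw [chartFun_appLE]
    exact congr($(awayToSection_toProj_appLE (jj 𝒮.toQCAlg j U e) (hj.2 U hU e) one_pos θ' e₂) z)
  -- the factorisation
  have hXVU : ς ⁻¹ᵁ AA k chartQ U hU (v e) ≤ g ⁻¹ᵁ U := pre_le k chartQ g ς hς U hU (v e)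
  have hkey : ∀ e₁ : Γ(E, U),
      (ς.appLE (AA k chartQ U hU (v e)) (ς ⁻¹ᵁ AA k chartQ U hU (v e)) le_rfl).hom
        (cc hk chartQ U hU (v e) (v e₁)) =
      (r.appLE (AA j chart U hU e) (ς ⁻¹ᵁ AA k chartQ U hU (v e)) hle).hom
        (cc hj chart U hU e e₁) := by
    intro e₁
    have h1 := sigma_rel hk hO1Q hφQ g t ς hς τQ hcQ U hU (v e) (v e₁) _ le_rfl
    have h2 := sigma_rel hj hO1 hφ g s r hr τ hc U hU e e₁ _ hle
    have h3 := hrel hXVU e₁ _ h2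
    have hg := isGenAt_sigma hk hO1Q hφQ g t ς hς τQ hcQ U hU (v e) _ le_rfl
    exact hg.smul_inj (h1.symm.trans h3)
  have hfac : ς.resLE (AA k chartQ U hU (v e)) (ς ⁻¹ᵁ AA k chartQ U hU (v e)) le_rfl ≫ π =
      (ς ⁻¹ᵁ AA k chartQ U hU (v e)).ι ≫ r := by
    refine ToProj.hom_ext_of_appLE _ _ (κ := PUnit.{u + 1}) (fun _ => AA j chart U hU e)
      (fun _ => isAffineOpen_AA hj U hU e) (fun _ => ⊤) (fun y => ⟨PUnit.unit, trivial⟩)
      (fun _ => ?_) (fun _ => ?_) (fun _ => ?_)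
    · intro y _
      exact hπtop (show (ς.resLE (AA k chartQ U hU (v e)) (ς ⁻¹ᵁ AA k chartQ U hU (v e)) le_rfl) y ∈
        (⊤ : ((AA k chartQ U hU (v e) : Q.Opens) : Scheme.{u}).Opens) from trivial)
    · intro y _
      exact hle y.2
    · apply CommRingCat.hom_ext
      apply ringHom_ext_AA hj U hU e
      intro e₁
      rw [ToProj.comp_appLE_top _ π (AA j chart U hU e) hπtop,
        ToProj.ι_comp_appLE _ r (AA j chart U hU e) hle]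
      change ((ς.resLE (AA k chartQ U hU (v e)) (ς ⁻¹ᵁ AA k chartQ U hU (v e)) le_rfl).app ⊤).hom
        ((π.appLE (AA j chart U hU e) ⊤ hπtop).hom (chartFun chart U hU (jj 𝒮.toQCAlg j U e)
          (Away.mk (𝒮.deg U hU) (jj_mem hj U hU e) 1 (jj 𝒮.toQCAlg j U e₁)
            (AwayGen.mem_smul_one (jj_mem hj U hU e₁))))) =
        (ς ⁻¹ᵁ AA k chartQ U hU (v e)).topIso.inv.hom
          ((r.appLE (AA j chart U hU e) _ hle).hom (cc hj chart U hU e e₁))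
      rw [hπapp, Scheme.Hom.resLE_app_top, ← hkey e₁]
      change (ς ⁻¹ᵁ AA k chartQ U hU (v e)).topIso.inv.hom
        ((ς.appLE (AA k chartQ U hU (v e)) _ le_rfl).hom
          ((AA k chartQ U hU (v e)).topIso.hom.hom
            ((AA k chartQ U hU (v e)).topIso.inv.hom (cQ (θ₀ _))))) = _
      rw [hθ₀]
      have hid : (AA k chartQ U hU (v e)).topIso.hom.hom
          ((AA k chartQ U hU (v e)).topIso.inv.hom (cQ (Away.mk (𝒯.deg U hU) (jj_mem hk U hU (v e)) 1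
            (jj 𝒯.toQCAlg k U (v e₁)) (AwayGen.mem_smul_one (jj_mem hk U hU (v e₁)))))) =
          cQ (Away.mk (𝒯.deg U hU) (jj_mem hk U hU (v e)) 1
            (jj 𝒯.toQCAlg k U (v e₁)) (AwayGen.mem_smul_one (jj_mem hk U hU (v e₁)))) :=
        congr($((AA k chartQ U hU (v e)).topIso.inv_hom_id) _)
      rw [hid]
      rfl
  haveI : IsImmersion ((ς ⁻¹ᵁ AA k chartQ U hU (v e)).ι ≫ r) := inferInstance
  haveI : IsImmersion (ς.resLE (AA k chartQ U hU (v e)) (ς ⁻¹ᵁ AA k chartQ U hU (v e)) le_rfl ≫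
      π) := by
    rw [hfac]
    infer_instance
  haveI : IsImmersion (ς.resLE (AA k chartQ U hU (v e)) (ς ⁻¹ᵁ AA k chartQ U hU (v e)) le_rfl) :=
    IsImmersion.of_comp _ π
  rw [← Scheme.Hom.resLE_comp_ι ς le_rfl]
  infer_instance

include hj hP hO1 hφ hc hk hQ hO1Q hφQ hcQ in
/-- **immersion criterion**: if the immersion `r` is locally obtained from `ς` by linear
projections, then `ς` is an immersion -/
theorem isImmersion_of_linProj [IsImmersion r]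
    (h : ∀ x : X, ∃ (U : Y.Opens) (hU : IsAffineOpen U) (e : Γ(E, U))
      (v : Γ(E, U) →+ Γ(F, U)),
      (∀ (a : Γ(Y, U)) (e₁ : Γ(E, U)), v (a • e₁) = a • v e₁) ∧
      ς x ∈ AA k chartQ U hU (v e) ∧
      ς ⁻¹ᵁ AA k chartQ U hU (v e) ≤ r ⁻¹ᵁ AA j chart U hU e ∧
      ∀ (hXV : ς ⁻¹ᵁ AA k chartQ U hU (v e) ≤ g ⁻¹ᵁ U) (e₁ : Γ(E, U))
        (c : Γ(X, ς ⁻¹ᵁ AA k chartQ U hU (v e))),
        res L hXV (s.app (g ⁻¹ᵁ U) (pull g E U e₁)) =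
          c • res L hXV (s.app (g ⁻¹ᵁ U) (pull g E U e)) →
        res M hXV (t.app (g ⁻¹ᵁ U) (pull g F U (v e₁))) =
          c • res M hXV (t.app (g ⁻¹ᵁ U) (pull g F U (v e)))) :
    IsImmersion ς := by
  haveI : MorphismProperty.RespectsRight @IsImmersion @IsOpenImmersion :=
    ⟨fun i hi f hf => by
      haveI := hi
      haveI := hf
      exact (inferInstance : IsImmersion (f ≫ i))⟩
  haveI : MorphismProperty.HasOfPostcompProperty @IsImmersion @IsOpenImmersion :=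
    ⟨fun f g _ hfg => by
      haveI := hfg
      exact IsImmersion.of_comp f g⟩
  apply IsZariskiLocalAtTarget.of_forall_source_exists_preimage (P := @IsImmersion) ς
  intro x
  obtain ⟨U, hU, e, v, hv, hx, hle, hrel⟩ := h x
  exact ⟨AA k chartQ U hU (v e), hx,
    isImmersion_local hj hP hO1 hφ hk hQ hO1Q hφQ g s r hr τ hc t ς hς τQ hcQ U hU e v hv hle hrel⟩

end two

end Groth.Agent.Lib.Helper3.LinProj
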