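import Groth.Agent.Lib.Helper3.PIso
import Groth.Agent.Lib.Helper3.ProjProper
import Groth.Agent.Lib.Helper3.PEmb5
import Groth.Agent.Lib.Helper3.ChowProd

/-!
# Projective morphisms are locally H-projective
-/

set_option autoImplicit false
set_option linter.unusedSectionVars false
universe u
open CategoryTheory CategoryTheory.Limits AlgebraicGeometry TopologicalSpace Opposite

namespace Groth.Agent.Lib.Helper3.LocHProj

open PEmb1 PEmb2 PIso ProjProper

/-- a closed subscheme of `Proj R[x]` is H-projective over `Spec R` -/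
theorem isHProjective_of_closedImmersion (n : ℕ) {R : Type u} [CommRing R] {Z : Scheme.{u}}
    (k : Z ⟶ Proj (CohB1.polyGrading n R)) [IsClosedImmersion k]
    (f : Z ⟶ Spec (CommRingCat.of R)) (hk : k ≫ CohB1.ProjSpace.toSpec n R = f) :
    RelProj.IsHProjective f := by
  have hP := IsPullback.of_hasPullback (CohB1.ProjSpace.toSpec n (ULift.{u} ℤ))
    (specULiftZIsTerminal.from (Spec (CommRingCat.of R)))
  haveI := isIso_lift n _ _ hP
  let c : Proj (CohB1.polyGrading n R) ⟶ pullback (CohB1.ProjSpace.toSpec n (ULift.{u} ℤ))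
      (specULiftZIsTerminal.from (Spec (CommRingCat.of R))) :=
    hP.lift (gmap n R) (CohB1.ProjSpace.toSpec n R) (specULiftZIsTerminal.hom_ext _ _)
  haveI : IsIso c := inferInstance
  have hc2 : c ≫ pullback.snd _ _ = CohB1.ProjSpace.toSpec n R := hP.lift_snd _ _ _
  have hcl : IsClosedImmersion (k ≫ c) := inferInstance
  refine ⟨n, k ≫ c, hcl, ?_⟩
  change (k ≫ c) ≫ pullback.snd _ _ = f
  rw [Category.assoc, hc2, hk]

/-- H-projectivity is invariant under isomorphisms of arrows -/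
theorem isHProjective_of_iso {X X' S S' : Scheme.{u}} (f : X ⟶ S) (f' : X' ⟶ S') (eX : X ⟶ X')
    (eS : S ⟶ S') [IsIso eX] [IsIso eS] (h : eX ≫ f' = f ≫ eS)
    (hf' : RelProj.IsHProjective f') : RelProj.IsHProjective f :=
  ChowProd.isHProjective_of_isPullback (IsPullback.of_horiz_isIso ⟨h⟩) hf'

section scheme

variable {Y P : Scheme.{u}} {𝒮 : RelProj.QCGrAlg Y} {p : P ⟶ Y}
  {chart : ∀ (U : Y.Opens) (hU : IsAffineOpen U),
    ((p ⁻¹ᵁ U : P.Opens) : Scheme.{u}) ≅ Proj (𝒮.deg U hU)}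

/-- the relative `Proj` of an algebra generated in degree one with degree one part of finite type
is H-projective over every affine open -/
theorem isHProjective_restrict (hp : RelProj.IsRelProj 𝒮 p chart)
    (hgen : 𝒮.IsGenDegOne) (hft : 𝒮.IsFTDeg 1) (U : Y.Opens) (hU : IsAffineOpen U) :
    RelProj.IsHProjective (p ∣_ U) := by
  obtain ⟨T, hT1, hT⟩ := hft U hU
  let f := polyHom (𝒮.deg U hU) (𝒮.str.app (op U)).hom (𝒮.str_mem U hU) T hT1
  have hsurj := polyHom_surj_pos (𝒮.deg U hU) (𝒮.str.app (op U)).hom (𝒮.str_mem U hU)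
    (hgen U hU) T hT1 hT
  have hirr := irrelevant_le_of_surj_pos f hsurj
  haveI : IsClosedImmersion (Proj.map f hirr) := isClosedImmersion_map_of_pos f hirr hsurj
  have tri : Proj.toSpecZero (𝒮.deg U hU) ≫ Spec.map (𝒮.strZero U hU) =
      Proj.map f hirr ≫ Proj.toSpecZero (CohB1.polyGrading T.card Γ(Y, U)) ≫
        Spec.map (CommRingCat.ofHom (algebraMap Γ(Y, U) (CohB1.polyGrading T.card Γ(Y, U) 0))) := by
    rw [GrTransport.map_toSpecZero_assoc, ← Spec.map_comp]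
    congr 2
    refine CommRingCat.hom_ext (RingHom.ext fun r => Subtype.ext ?_)
    change ((𝒮.str.app (op U)).hom r) =
      MvPolynomial.eval₂Hom (𝒮.str.app (op U)).hom (tt T) (MvPolynomial.C r)
    simp
  have hres := RelProjLoc.restrict_eq hp U hU
  rw [reassoc_of% tri] at hres
  let k : (p ⁻¹ᵁ U).toScheme ⟶ Proj (CohB1.polyGrading T.card Γ(Y, U)) :=
    (chart U hU).hom ≫ Proj.map f hirr
  haveI : IsClosedImmersion k := inferInstance
  have h1 : RelProj.IsHProjective (k ≫ CohB1.ProjSpace.toSpec T.card Γ(Y, U)) :=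
    isHProjective_of_closedImmersion T.card k _ rfl
  refine isHProjective_of_iso (p ∣_ U) _ (𝟙 _) hU.isoSpec.hom ?_ h1
  rw [Category.id_comp, hres]
  simp only [k, Category.assoc, Iso.inv_hom_id, Category.comp_id]
  rfl

end scheme

/-- a projective morphism is H-projective over a neighbourhood of every point -/
theorem exists_isHProjective_restrict {X S : Scheme.{u}} (f : X ⟶ S)
    (hf : RelProj.IsLocallyProjective f) (s : S) :
    ∃ U : S.Opens, s ∈ U ∧ RelProj.IsHProjective (f ∣_ U) := by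
  obtain ⟨U, hsU, 𝒮, P, p, chart, e, hgen, hft, hp, he⟩ := hf s
  obtain ⟨_, ⟨V, hV, rfl⟩, hsV, -⟩ :=
    U.toScheme.isBasis_affineOpens.exists_subset_of_mem_open
      (Set.mem_univ (⟨s, hsU⟩ : U.toScheme)) isOpen_univ
  have h1 : RelProj.IsHProjective (p ∣_ V) := isHProjective_restrict hp hgen hft V hV
  have h2 : RelProj.IsHProjective ((f ∣_ U) ∣_ V) := by
    rw [← he, morphismRestrict_comp]
    have key : ∀ {X₁ : Scheme.{u}} (a : X₁ ⟶ (p ⁻¹ᵁ V).toScheme) [IsIso a],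
        RelProj.IsHProjective (a ≫ p ∣_ V) := fun a _ =>
      isHProjective_of_iso (a ≫ p ∣_ V) (p ∣_ V) a (𝟙 _) (Category.comp_id _).symm h1
    exact key (e.hom ∣_ p ⁻¹ᵁ V)
  refine ⟨U.ι ''ᵁ V, ⟨⟨s, hsU⟩, hsV, rfl⟩, ?_⟩
  let φ := morphismRestrictRestrict f U V
  exact isHProjective_of_iso (f ∣_ U.ι ''ᵁ V) ((f ∣_ U) ∣_ V) φ.inv.left φ.inv.right
    (Arrow.w φ.inv) h2

/-- an H-projective morphism is projective -/
theorem isProjective_of_isHProjective {X S : Scheme.{u}} (f : X ⟶ S)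
    (hf : RelProj.IsHProjective f) : RelProj.IsProjective f := by
  obtain ⟨n, i, hi, rfl⟩ := hf
  let i' : X ⟶ Limits.pullback (CohB1.ProjSpace.toSpec n (ULift.{u} ℤ))
    (specULiftZIsTerminal.from S) := i
  haveI : IsClosedImmersion i' := hi
  exact PEmb5.isProjective n i'

/-- restrictions of base changes are base changes of restrictions -/
theorem isHProjective_restrict_of_isPullback {P X S S' : Scheme.{u}} {fst : P ⟶ X} {snd : P ⟶ S'}
    {f : X ⟶ S} {g : S' ⟶ S} (H : IsPullback fst snd f g) (U : S.Opens)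
    (hU : RelProj.IsHProjective (f ∣_ U)) : RelProj.IsHProjective (snd ∣_ g ⁻¹ᵁ U) := by
  have s1 : IsPullback (snd ⁻¹ᵁ g ⁻¹ᵁ U).ι (snd ∣_ g ⁻¹ᵁ U) snd (g ⁻¹ᵁ U).ι :=
    (isPullback_morphismRestrict snd (g ⁻¹ᵁ U)).flip
  have s2 : IsPullback (f ⁻¹ᵁ U).ι (f ∣_ U) f U.ι := (isPullback_morphismRestrict f U).flip
  have outer : IsPullback ((snd ⁻¹ᵁ g ⁻¹ᵁ U).ι ≫ fst) (snd ∣_ g ⁻¹ᵁ U) f ((g ⁻¹ᵁ U).ι ≫ g) :=
    s1.paste_horiz H
  have hg : (g ⁻¹ᵁ U).ι ≫ g = (g ∣_ U) ≫ U.ι := (morphismRestrict_ι g U).symm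
  rw [hg] at outer
  let top : (snd ⁻¹ᵁ g ⁻¹ᵁ U).toScheme ⟶ (f ⁻¹ᵁ U).toScheme :=
    s2.lift ((snd ⁻¹ᵁ g ⁻¹ᵁ U).ι ≫ fst) ((snd ∣_ g ⁻¹ᵁ U) ≫ (g ∣_ U)) (by
      rw [Category.assoc, Category.assoc, H.w, morphismRestrict_ι, ← Category.assoc,
        ← Category.assoc, morphismRestrict_ι])
  have h1 : top ≫ (f ⁻¹ᵁ U).ι = (snd ⁻¹ᵁ g ⁻¹ᵁ U).ι ≫ fst := s2.lift_fst _ _ _
  have h2 : top ≫ (f ∣_ U) = (snd ∣_ g ⁻¹ᵁ U) ≫ (g ∣_ U) := s2.lift_snd _ _ _
  rw [← h1] at outer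
  exact ChowProd.isHProjective_of_isPullback (IsPullback.of_right outer h2 s2) hU

end Groth.Agent.Lib.Helper3.LocHProj
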