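import Mathlib

/-!
# A local criterion of flatness by a nonzerodivisor

Let `B` be a Noetherian `R`-algebra, `t ∈ B` a nonzerodivisor in the Jacobson radical of `B`. If `B/(t)`
is flat over `R`, then `B` is flat over `R`.
-/

set_option autoImplicit false
universe u

namespace Groth.Agent.Lib.Helper3

open scoped TensorProduct
open Function

section

variable {R B : Type u} [CommRing R] [CommRing B] [Algebra R B]

theorem rTensor_mulLeft_eq_smul (t : B) (N : Type u) [AddCommGroup N] [Module R N]
    (z : B ⊗[R] N) : ((LinearMap.mulLeft R t).rTensor N) z = t • z := by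
  induction z using TensorProduct.induction_on with
  | zero => simp
  | tmul b n =>
    rw [LinearMap.rTensor_tmul, TensorProduct.smul_tmul']
    rfl
  | add x y hx hy => rw [map_add, hx, hy, smul_add]

theorem flat_of_flat_quotient_nzd [IsNoetherianRing B] (t : B) (ht : t ∈ nonZeroDivisors B)
    (hjac : t ∈ Ideal.jacobson (⊥ : Ideal B)) [Module.Flat R (B ⧸ Ideal.span {t})] :
    Module.Flat R B := by
  rw [Module.Flat.iff_lTensor_injective]
  intro I hI
  have hfin : Module.Finite R I := Module.Finite.iff_fg.mpr hI
  -- the `B`-linear version of the map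
  let Λ : B ⊗[R] I →ₗ[B] B ⊗[R] R := LinearMap.baseChange B I.subtype
  have hΛ : ∀ z, Λ z = (I.subtype.lTensor B) z := fun z => rfl
  let K : Submodule B (B ⊗[R] I) := LinearMap.ker Λ
  have hKfg : K.FG := IsNoetherian.noetherian K
  -- multiplication by `t` and the quotient map, `R`-linearly
  let μ : B →ₗ[R] B := LinearMap.mulLeft R t
  let q : B →ₗ[R] (B ⧸ Ideal.span {t}) := (Ideal.Quotient.mkₐ R (Ideal.span {t})).toLinearMap
  have hq : Surjective q := Ideal.Quotient.mk_surjective
  have hμinj : Injective μ := by
    intro x y hxy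
    have : t * x = t * y := hxy
    have h0 : (x - y) * t = 0 := by rw [sub_mul, mul_comm x, mul_comm y, this, sub_self]
    exact sub_eq_zero.mp (ht.2 _ h0)
  have hexact : Exact μ q := by
    intro y
    change Ideal.Quotient.mk _ y = 0 ↔ _
    rw [Ideal.Quotient.eq_zero_iff_mem, Ideal.mem_span_singleton']
    constructor
    · rintro ⟨c, rfl⟩; exact ⟨c, mul_comm _ _⟩
    · rintro ⟨c, rfl⟩; exact ⟨c, mul_comm _ _⟩
  have hKle : K ≤ (Ideal.span {t}) • K := by
    intro k hk
    have hk0 : (I.subtype.lTensor B) k = 0 := hk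
    have h1 : (I.subtype.lTensor (B ⧸ Ideal.span {t})) (q.rTensor I k) = 0 := by
      rw [← LinearMap.comp_apply, LinearMap.lTensor_comp_rTensor, ← LinearMap.rTensor_comp_lTensor,
        LinearMap.comp_apply, hk0, map_zero]
    have h2 : q.rTensor I k = 0 :=
      (injective_iff_map_eq_zero _).mp
        (Module.Flat.lTensor_preserves_injective_linearMap I.subtype I.subtype_injective) _ h1
    obtain ⟨k', rfl⟩ := (rTensor_exact I hexact hq k).mp h2
    have h3 : (μ.rTensor R) (I.subtype.lTensor B k') = 0 := by
      rw [← LinearMap.comp_apply, LinearMap.rTensor_comp_lTensor, ← LinearMap.lTensor_comp_rTensor,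
        LinearMap.comp_apply, hk0]
    have h4 : I.subtype.lTensor B k' = 0 :=
      (injective_iff_map_eq_zero _).mp
        (Module.Flat.rTensor_preserves_injective_linearMap μ hμinj) _ h3
    have hk' : k' ∈ K := h4
    rw [rTensor_mulLeft_eq_smul]
    exact Submodule.smul_mem_smul (Ideal.mem_span_singleton_self t) hk'
  have hK : K = ⊥ := Submodule.eq_bot_of_le_smul_of_le_jacobson_bot (Ideal.span {t}) K hKfg hKle
    ((Ideal.span_singleton_le_iff_mem _).mpr hjac)
  rw [injective_iff_map_eq_zero]
  intro z hz
  have : z ∈ K := hz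
  rw [hK] at this
  exact this

end

section ringHom

variable {R B C : Type u} [CommRing R] [CommRing B] [CommRing C]

/-- Ring-hom form: `ψ : R → B`, `π : B → C` surjective with kernel `(t)`, `t` a nonzerodivisor in the
maximal ideal of the Noetherian local ring `B`, `π ∘ ψ` flat ⇒ `ψ` flat. -/
theorem ringHom_flat_of_flat_comp_surjective [IsNoetherianRing B] [IsLocalRing B]
    (ψ : R →+* B) (π : B →+* C) (hπ : Surjective π) (t : B) (ht : t ∈ nonZeroDivisors B)
    (htm : t ∈ IsLocalRing.maximalIdeal B) (hker : RingHom.ker π = Ideal.span {t})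
    (hflat : (π.comp ψ).Flat) : ψ.Flat := by
  let _ := ψ.toAlgebra
  -- transport to the quotient
  let e : (B ⧸ RingHom.ker π) ≃+* C := RingHom.quotientKerEquivOfSurjective hπ
  have h1 : ((Ideal.Quotient.mk (RingHom.ker π)).comp ψ).Flat := by
    have : π.comp ψ = e.toRingHom.comp ((Ideal.Quotient.mk (RingHom.ker π)).comp ψ) := by
      ext r
      rfl
    rw [this] at hflat
    exact (RingHom.Flat.comp_iff_of_bijective_left e.bijective).mp hflat
  rw [hker] at h1
  have h2 : Module.Flat R (B ⧸ Ideal.span {t}) := by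
    rw [← RingHom.flat_algebraMap_iff]
    exact h1
  have hjac : t ∈ Ideal.jacobson (⊥ : Ideal B) := by
    rw [IsLocalRing.jacobson_eq_maximalIdeal ⊥ bot_ne_top]
    exact htm
  have := flat_of_flat_quotient_nzd (R := R) t ht hjac
  exact RingHom.flat_algebraMap_iff.mpr this

end ringHom

end Groth.Agent.Lib.Helper3
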