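import Mathlib

/-!
# Algebra for the norm along a finite morphism at normal points
-/

set_option autoImplicit false

namespace Groth.Agent.Lib.H3.MixAlg

open Polynomial

/-- the characteristic polynomial divides a power of any annihilating polynomial -/
theorem charpoly_dvd_pow {K M : Type*} [Field K] [AddCommGroup M] [Module K M] [Module.Finite K M]
    (f : Module.End K M) (P : K[X]) (hP : aeval f P = 0) :
    f.charpoly ∣ P ^ Module.finrank K M := by
  classical
  by_cases hP0 : P = 0
  · subst hP0
    rcases Nat.eq_zero_or_pos (Module.finrank K M) with h0 | hpos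
    · have : f.charpoly = 1 := by
        apply Polynomial.eq_one_of_monic_natDegree_zero (LinearMap.charpoly_monic f)
        rw [LinearMap.charpoly_natDegree, h0]
      rw [this]
      exact one_dvd _
    · rw [zero_pow (by omega)]
      exact dvd_zero _
  let Kb := AlgebraicClosure K
  have hchar : (f.baseChange Kb).charpoly = f.charpoly.map (algebraMap K Kb) :=
    LinearMap.charpoly_baseChange f Kb
  rw [← Polynomial.map_dvd_map' (algebraMap K Kb), Polynomial.map_pow]
  have hmonic : (f.charpoly.map (algebraMap K Kb)).Monic := (LinearMap.charpoly_monic f).map _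
  have hsplit : (f.charpoly.map (algebraMap K Kb)).Splits := IsAlgClosed.splits _
  apply hsplit.dvd_of_roots_le_roots hmonic.ne_zero
  rw [Polynomial.roots_pow, Multiset.le_iff_count]
  intro μ
  rw [Multiset.count_nsmul]
  by_cases hμ : μ ∈ (f.charpoly.map (algebraMap K Kb)).roots
  · have hann : aeval (f.baseChange Kb) (P.map (algebraMap K Kb)) = 0 := by
      rw [Polynomial.aeval_map_algebraMap]
      have h1 : aeval (Module.End.baseChangeHom K Kb M f) P =
          Module.End.baseChangeHom K Kb M (aeval f P) := Polynomial.aeval_algHom_apply _ f P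
      rw [hP, map_zero] at h1
      exact h1
    have hroot : (f.baseChange Kb).charpoly.IsRoot μ := by
      rw [hchar]
      exact (Polynomial.mem_roots hmonic.ne_zero).mp hμ
    have heig : Module.End.HasEigenvalue (f.baseChange Kb) μ :=
      (Module.End.hasEigenvalue_iff_isRoot_charpoly _ μ).mpr hroot
    have hmin : (minpoly Kb (f.baseChange Kb)).IsRoot μ := Module.End.isRoot_of_hasEigenvalue heig
    have hdvd : minpoly Kb (f.baseChange Kb) ∣ P.map (algebraMap K Kb) := minpoly.dvd _ _ hann
    have h1 : (P.map (algebraMap K Kb)).IsRoot μ := hmin.dvd hdvd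
    have hP0' : P.map (algebraMap K Kb) ≠ 0 :=
      (Polynomial.map_ne_zero_iff (algebraMap K Kb).injective).mpr hP0
    have h2 : 1 ≤ Multiset.count μ (P.map (algebraMap K Kb)).roots :=
      Multiset.one_le_count_iff_mem.mpr ((Polynomial.mem_roots hP0').mpr h1)
    have h3 : Multiset.count μ (f.charpoly.map (algebraMap K Kb)).roots ≤ Module.finrank K M := by
      refine (Multiset.count_le_card _ _).trans ((Polynomial.card_roots' _).trans ?_)
      rw [Polynomial.natDegree_map, LinearMap.charpoly_natDegree]
    calc Multiset.count μ (f.charpoly.map (algebraMap K Kb)).roots ≤ Module.finrank K M := h3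
      _ ≤ Module.finrank K M * Multiset.count μ (P.map (algebraMap K Kb)).roots :=
        Nat.le_mul_of_pos_right _ h2
  · rw [Multiset.count_eq_zero_of_notMem hμ]
    exact Nat.zero_le _

section normal

variable {R K B : Type*} [CommRing R] [IsDomain R] [IsIntegrallyClosed R]
  [Field K] [Algebra R K] [IsFractionRing R K] [CommRing B] [Algebra K B] [Algebra R B]
  [IsScalarTower R K B]

/-- the characteristic polynomial of an integral element has coefficients in the integrally closed
base -/
theorem exists_charpoly_eq_map [Module.Finite K B] (β : B) (hβ : IsIntegral R β) :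
    ∃ χ₀ : R[X], χ₀.Monic ∧ χ₀.map (algebraMap R K) = (Algebra.lmul K B β).charpoly := by
  obtain ⟨p, hp, hpβ⟩ := hβ
  have hann : aeval (Algebra.lmul K B β) (p.map (algebraMap R K)) = 0 := by
    have h1 : aeval (Algebra.lmul K B β) (p.map (algebraMap R K)) =
        Algebra.lmul K B (aeval β (p.map (algebraMap R K))) :=
      Polynomial.aeval_algHom_apply (Algebra.lmul K B) β _
    rw [h1, Polynomial.aeval_map_algebraMap, Polynomial.aeval_def, hpβ, map_zero]
  have hdvd := charpoly_dvd_pow (Algebra.lmul K B β) _ hann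
  rw [← Polynomial.map_pow] at hdvd
  obtain ⟨g', hg'⟩ := IsIntegrallyClosed.eq_map_mul_C_of_dvd K (hp.pow _) hdvd
  have hmon := LinearMap.charpoly_monic (Algebra.lmul K B β)
  rw [hmon.leadingCoeff, C_1, mul_one] at hg'
  refine ⟨g', ?_, hg'⟩
  apply Polynomial.monic_of_injective (IsFractionRing.injective R K)
  rw [hg']
  exact hmon

/-- the norm of an integral element lies in the integrally closed base -/
theorem exists_norm_eq (β : B) (hβ : IsIntegral R β) :
    ∃ α : R, algebraMap R K α = Algebra.norm K β := by
  by_cases hfin : Module.Finite K B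
  · obtain ⟨χ₀, -, h⟩ := exists_charpoly_eq_map (K := K) β hβ
    refine ⟨(-1) ^ Module.finrank K B * χ₀.coeff 0, ?_⟩
    rw [Algebra.norm_apply, LinearMap.det_eq_sign_charpoly_coeff, ← h, coeff_map]
    simp
  · refine ⟨1, ?_⟩
    rw [map_one, Algebra.norm_eq_one_of_not_module_finite hfin]

/-- the key step of "a function divides the pullback of its norm" at a normal point -/
theorem mem_maximalIdeal_of_norm [IsLocalRing R] [Module.Finite K B]
    {D E : Type*} [CommRing D] [IsLocalRing D] [CommRing E] [Nontrivial E]
    (ρ : R →+* D) [IsLocalHom ρ] (σ : D →+* E) (ψ : B →+* E)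
    (hcomp : ψ.comp (algebraMap R B) = σ.comp ρ)
    (β : B) (hβ : IsIntegral R β) (d : D) (hd : d ∈ IsLocalRing.maximalIdeal D)
    (hψ : ψ β = σ d) (α : R) (hα : algebraMap R K α = Algebra.norm K β) :
    α ∈ IsLocalRing.maximalIdeal R := by
  obtain ⟨χ₀, -, h⟩ := exists_charpoly_eq_map (K := K) β hβ
  have hCH : aeval β (Algebra.lmul K B β).charpoly = 0 := Algebra.aeval_self_charpoly_lmul β
  rw [← h, Polynomial.aeval_map_algebraMap, Polynomial.aeval_def] at hCH
  have h1 : σ (eval₂ ρ d χ₀) = 0 := by
    rw [Polynomial.hom_eval₂, ← hcomp, ← hψ, ← Polynomial.hom_eval₂, hCH, map_zero]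
  have h2 : eval₂ ρ d χ₀ ∈ IsLocalRing.maximalIdeal D := by
    rw [IsLocalRing.mem_maximalIdeal, mem_nonunits_iff]
    intro hu
    have := hu.map σ
    rw [h1] at this
    exact not_isUnit_zero this
  have h3 : eval₂ ρ d χ₀ = d * eval₂ ρ d (divX χ₀) + ρ (χ₀.coeff 0) := by
    conv_lhs => rw [← X_mul_divX_add χ₀]
    rw [eval₂_add, eval₂_mul, eval₂_X, eval₂_C]
  have h4 : ρ (χ₀.coeff 0) ∈ IsLocalRing.maximalIdeal D := by
    have : ρ (χ₀.coeff 0) = eval₂ ρ d χ₀ - d * eval₂ ρ d (divX χ₀) := by
      rw [h3]; ring
    rw [this]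
    exact Ideal.sub_mem _ h2 (Ideal.mul_mem_right _ _ hd)
  have h5 : χ₀.coeff 0 ∈ IsLocalRing.maximalIdeal R := by
    rw [IsLocalRing.mem_maximalIdeal, mem_nonunits_iff]
    intro hu
    have := hu.map ρ
    rw [IsLocalRing.mem_maximalIdeal, mem_nonunits_iff] at h4
    exact h4 this
  have h6 : α = (-1) ^ Module.finrank K B * χ₀.coeff 0 := by
    apply IsFractionRing.injective R K
    rw [hα, Algebra.norm_apply, LinearMap.det_eq_sign_charpoly_coeff, ← h, coeff_map]
    simp
  rw [h6]
  exact Ideal.mul_mem_left _ _ h5

end normal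

section primes

variable {A : Type*} [CommRing A]

/-- the localisation of a ring at a minimal prime is a field if it is reduced -/
theorem isField_of_mem_minimalPrimes {p : Ideal A} [p.IsPrime] (hp : p ∈ minimalPrimes A)
    (T : Type*) [CommRing T] [Algebra A T] [IsLocalization.AtPrime T p] [IsReduced T] :
    IsField T := by
  haveI : IsLocalRing T := IsLocalization.AtPrime.isLocalRing T p
  rw [IsLocalRing.isField_iff_maximalIdeal_eq]
  have h := IsLocalization.AtPrime.radical_map_of_mem_minimalPrimes (A := T) p ⊥ hp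
  rw [Ideal.map_bot, IsLocalization.AtPrime.map_eq_maximalIdeal p T] at h
  rw [← h]
  have h2 : nilradical T = 0 := nilradical_eq_zero T
  simpa [nilradical, Ideal.zero_eq_bot] using h2

/-- a prime at which the localisation is a field is minimal -/
theorem mem_minimalPrimes_of_isField {p : Ideal A} [p.IsPrime]
    (T : Type*) [CommRing T] [Algebra A T] [IsLocalization.AtPrime T p] (hT : IsField T) :
    p ∈ minimalPrimes A := by
  refine ⟨⟨inferInstance, bot_le⟩, ?_⟩
  rintro p'' ⟨hp'', -⟩ hle a ha
  have h1 : ¬ IsUnit (algebraMap A T a) := by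
    rw [IsLocalization.AtPrime.isUnit_to_map_iff T p]
    exact fun h => h ha
  have h2 : algebraMap A T a = 0 := by
    by_contra hne
    obtain ⟨b, hb⟩ := hT.mul_inv_cancel hne
    exact h1 (IsUnit.of_mul_eq_one b hb)
  rw [IsLocalization.map_eq_zero_iff p.primeCompl T] at h2
  obtain ⟨t, ht⟩ := h2
  have h3 : (t : A) * a ∈ p'' := by
    rw [ht]
    exact p''.zero_mem
  rcases hp''.mem_or_mem h3 with h | h
  · exact (t.2 (hle h)).elim
  · exact h

/-- a minimal prime contained in a prime at which the localisation is a domain is the kernel of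
the localisation map -/
theorem eq_ker_of_mem_minimalPrimes {p q : Ideal A} [q.IsPrime] (hp : p ∈ minimalPrimes A)
    (hpq : p ≤ q) (S : Type*) [CommRing S] [Algebra A S] [IsLocalization.AtPrime S q]
    [IsDomain S] : p = RingHom.ker (algebraMap A S) := by
  have hk : (RingHom.ker (algebraMap A S)).IsPrime := RingHom.ker_isPrime _
  have hle : RingHom.ker (algebraMap A S) ≤ p := by
    intro a ha
    rw [RingHom.mem_ker, IsLocalization.map_eq_zero_iff q.primeCompl S] at ha
    obtain ⟨t, ht⟩ := ha
    have h3 : (t : A) * a ∈ p := by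
      rw [ht]
      exact p.zero_mem
    rcases hp.1.1.mem_or_mem h3 with h | h
    · exact (t.2 (hpq h)).elim
    · exact h
  exact le_antisymm (hp.2 ⟨hk, bot_le⟩ hle) hle

/-- near a prime at which a noetherian ring is a domain there is only one minimal prime -/
theorem exists_avoid [IsNoetherianRing A] {q : Ideal A} [q.IsPrime]
    (S : Type*) [CommRing S] [Algebra A S] [IsLocalization.AtPrime S q] [IsDomain S] :
    ∃ f : A, f ∉ q ∧ ∀ p p' : Ideal A, p ∈ minimalPrimes A → p' ∈ minimalPrimes A →
      f ∉ p → f ∉ p' → p = p' := by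
  classical
  have hfin : (minimalPrimes A).Finite := minimalPrimes.finite_of_isNoetherianRing A
  let s : Finset (Ideal A) := hfin.toFinset.filter (fun p => ¬ p ≤ q)
  have hI : ¬ (s.prod id) ≤ q := by
    rw [Ideal.IsPrime.prod_le inferInstance]
    rintro ⟨p, hp, hpq⟩
    exact (Finset.mem_filter.mp hp).2 hpq
  obtain ⟨f, hf, hfq⟩ := SetLike.not_le_iff_exists.mp hI
  refine ⟨f, hfq, ?_⟩
  have key : ∀ p ∈ minimalPrimes A, f ∉ p → p ≤ q := by
    intro p hp hfp
    by_contra hpq
    have hps : p ∈ s := Finset.mem_filter.mpr ⟨hfin.mem_toFinset.mpr hp, hpq⟩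
    have : s.prod id ≤ p := Ideal.prod_le_inf.trans (Finset.inf_le hps)
    exact hfp (this hf)
  intro p p' hp hp' hfp hfp'
  rw [eq_ker_of_mem_minimalPrimes hp (key p hp hfp) S,
    eq_ker_of_mem_minimalPrimes hp' (key p' hp' hfp') S]

/-- the localisation at a minimal prime below a prime with domain localisation is its fraction
field -/
theorem isFractionRing_of_le {p q : Ideal A} [p.IsPrime] [q.IsPrime] (hpq : p ≤ q)
    (S T : Type*) [CommRing S] [CommRing T] [Algebra A S] [Algebra A T] [Algebra S T]
    [IsScalarTower A S T] [IsLocalization.AtPrime S q] [IsLocalization.AtPrime T p] [IsDomain S]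
    (hT : IsField T) : IsFractionRing S T := by
  have hle : q.primeCompl ≤ p.primeCompl := fun a ha h => ha (hpq h)
  haveI h1 : IsLocalization (p.primeCompl.map (algebraMap A S)) T :=
    IsLocalization.isLocalization_of_submonoid_le S T q.primeCompl p.primeCompl hle
  haveI : Nontrivial T := hT.nontrivial
  have h2 : p.primeCompl.map (algebraMap A S) ≤ nonZeroDivisors S := by
    rintro s ⟨a, ha, rfl⟩
    apply mem_nonZeroDivisors_of_ne_zero
    intro h0
    have hu : IsUnit (algebraMap A T a) := IsLocalization.map_units T (⟨a, ha⟩ : p.primeCompl)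
    rw [IsScalarTower.algebraMap_apply A S T, h0, map_zero] at hu
    exact not_isUnit_zero hu
  have hinj : Function.Injective (algebraMap S T) := IsLocalization.injective T h2
  exact IsLocalization.of_le (p.primeCompl.map (algebraMap A S)) (nonZeroDivisors S) h2 (by
    intro r hr
    have hr0 : algebraMap S T r ≠ 0 := by
      intro h
      exact nonZeroDivisors.ne_zero hr (hinj (by rw [h, map_zero]))
    obtain ⟨b, hb⟩ := hT.mul_inv_cancel hr0
    exact IsUnit.of_mul_eq_one b hb)

end primes

end Groth.Agent.Lib.H3.MixAlg
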