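import Groth.Agent.Lib.Helper3.MixStalk

/-!
# The norm at points where the direct image of the structure sheaf is free
-/

set_option autoImplicit false
universe u
open CategoryTheory CategoryTheory.Limits AlgebraicGeometry TopologicalSpace Opposite

namespace Groth.Agent.Lib.H3.MixFree

open Groth.Agent.Lib.Helper3
open QCSec InvGen RelNorm
open Groth.Agent.Lib.H3.MixStalk

variable {X X' : Scheme.{u}} (g : X' ⟶ X)

theorem rres_sum {Z : Scheme.{u}} {A B : Z.Opens} (h : A ≤ B) {ι : Type*} (s : Finset ι)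
    (f : ι → Γ(Z, B)) : rres Z h (∑ i ∈ s, f i) = ∑ i ∈ s, rres Z h (f i) :=
  map_sum (Z.presheaf.map (homOfLE h).op).hom f s

/-- common representatives for finitely many germs -/
theorem exists_common {r : ℕ} (η : X) (c : Fin r → X.presheaf.stalk η) (U : X.Opens)
    (hη : η ∈ U) :
    ∃ (V : X.Opens) (_ : V ≤ U) (hηV : η ∈ V) (a : Fin r → Γ(X, V)),
      ∀ i, X.presheaf.germ V η hηV (a i) = c i := by
  choose Wc hWc ac hac using fun i => TopCat.Presheaf.exists_germ_eq X.presheaf (c i)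
  let V : X.Opens := U ⊓ ⟨⋂ i, (Wc i : Set X), isOpen_iInter_of_finite fun i => (Wc i).2⟩
  have hVle : ∀ i, V ≤ Wc i := fun i y hy => Set.mem_iInter.mp hy.2 i
  have hηV : η ∈ V := ⟨hη, Set.mem_iInter.mpr hWc⟩
  refine ⟨V, inf_le_left, hηV, fun i => rres X (hVle i) (ac i), fun i => ?_⟩
  rw [← hac i]
  exact TopCat.Presheaf.germ_res_apply X.presheaf (homOfLE (hVle i)) η hηV (ac i)

variable {g}

theorem rres_comb {U : X.Opens} {r : ℕ} (e : Fin r → Γ(X', g ⁻¹ᵁ U)) {V V' : X.Opens}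
    (hV : V ≤ U) (hV' : V' ≤ V) (a : Fin r → Γ(X, V)) :
    rres X' (preimage_mono' g hV') (∑ i, g.app V (a i) * rres X' (preimage_mono' g hV) (e i)) =
      ∑ i, g.app V' (rres X hV' (a i)) * rres X' (preimage_mono' g (hV'.trans hV)) (e i) := by
  rw [rres_sum]
  refine Finset.sum_congr rfl fun i _ => ?_
  rw [rres_mul, rres_rres, app_rres]

theorem bijective_stalk {U : X.Opens} {r : ℕ} {e : Fin r → Γ(X', g ⁻¹ᵁ U)}
    (he : IsRelBasis g U e) (η : X) (hη : η ∈ U) :
    letI := algSt g η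
    Function.Bijective (fun c : Fin r → X.presheaf.stalk η => ∑ i, c i • gm g U η hη (e i)) := by
  letI := algSt g η
  have key : ∀ (V : X.Opens) (hV : V ≤ U) (hηV : η ∈ V) (a : Fin r → Γ(X, V)),
      ∑ i, X.presheaf.germ V η hηV (a i) • gm g U η hη (e i) =
        gm g V η hηV (∑ i, g.app V (a i) * rres X' (preimage_mono' g hV) (e i)) := by
    intro V hV hηV a
    rw [map_sum]
    refine Finset.sum_congr rfl fun i _ => ?_
    rw [gm_app_mul, gm_res g hV]
  constructor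
  · intro c c' hcc
    obtain ⟨V₁, hV₁, hηV₁, a, ha⟩ := exists_common η c U hη
    obtain ⟨V₂, hV₂, hηV₂, a', ha'⟩ := exists_common η c' U hη
    have h1 : ∑ i, c i • gm g U η hη (e i) =
        gm g V₁ η hηV₁ (∑ i, g.app V₁ (a i) * rres X' (preimage_mono' g hV₁) (e i)) := by
      rw [← key V₁ hV₁ hηV₁ a]
      simp only [ha]
    have h2 : ∑ i, c' i • gm g U η hη (e i) =
        gm g V₂ η hηV₂ (∑ i, g.app V₂ (a' i) * rres X' (preimage_mono' g hV₂) (e i)) := by
      rw [← key V₂ hV₂ hηV₂ a']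
      simp only [ha']
    have hcc' : gm g V₁ η hηV₁ (∑ i, g.app V₁ (a i) * rres X' (preimage_mono' g hV₁) (e i)) =
        gm g V₂ η hηV₂ (∑ i, g.app V₂ (a' i) * rres X' (preimage_mono' g hV₂) (e i)) := by
      rw [← h1, ← h2]
      exact hcc
    obtain ⟨V₃, hηV₃, hV₃₁, hV₃₂, heq⟩ := gm_eq g η hηV₁ hηV₂ _ _ hcc'
    rw [rres_comb e hV₁ hV₃₁ a, rres_comb e hV₂ hV₃₂ a'] at heq
    have h4 := (he V₃ (hV₃₁.trans hV₁)).1 heq
    funext i
    have h5 : rres X hV₃₁ (a i) = rres X hV₃₂ (a' i) := congrFun h4 i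
    rw [← ha i, ← ha' i]
    calc X.presheaf.germ V₁ η hηV₁ (a i)
        = X.presheaf.germ V₃ η hηV₃ (rres X hV₃₁ (a i)) :=
          (TopCat.Presheaf.germ_res_apply X.presheaf (homOfLE hV₃₁) η hηV₃ (a i)).symm
      _ = X.presheaf.germ V₃ η hηV₃ (rres X hV₃₂ (a' i)) := by rw [h5]
      _ = X.presheaf.germ V₂ η hηV₂ (a' i) :=
          TopCat.Presheaf.germ_res_apply X.presheaf (homOfLE hV₃₂) η hηV₃ (a' i)
  · intro β
    obtain ⟨W₁, hηW₁, b₁, rfl⟩ := gm_exists g η β
    obtain ⟨a, ha⟩ := (he (W₁ ⊓ U) inf_le_right).2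
      (rres X' (preimage_mono' g inf_le_left) b₁)
    refine ⟨fun i => X.presheaf.germ (W₁ ⊓ U) η ⟨hηW₁, hη⟩ (a i), ?_⟩
    have ha' : ∑ i, g.app (W₁ ⊓ U) (a i) * rres X' (preimage_mono' g inf_le_right) (e i) =
        rres X' (preimage_mono' g inf_le_left) b₁ := ha
    change ∑ i, X.presheaf.germ (W₁ ⊓ U) η ⟨hηW₁, hη⟩ (a i) • gm g U η hη (e i) = _
    rw [key (W₁ ⊓ U) inf_le_right ⟨hηW₁, hη⟩ a, ha', gm_res g inf_le_left]

/-- the basis of the stalk given by the germs of a relative basis -/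
noncomputable def stalkBasis {U : X.Opens} {r : ℕ} {e : Fin r → Γ(X', g ⁻¹ᵁ U)}
    (he : IsRelBasis g U e) (η : X) (hη : η ∈ U) :
    letI := algSt g η
    Module.Basis (Fin r) (X.presheaf.stalk η) (Bst g η) :=
  letI := algSt g η
  NormAlg.basisOfBijective (fun i => gm g U η hη (e i)) (bijective_stalk he η hη)

theorem stalkBasis_apply {U : X.Opens} {r : ℕ} {e : Fin r → Γ(X', g ⁻¹ᵁ U)}
    (he : IsRelBasis g U e) (η : X) (hη : η ∈ U) (i : Fin r) :
    stalkBasis he η hη i = gm g U η hη (e i) := by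
  letI := algSt g η
  exact NormAlg.basisOfBijective_apply _ _ i

theorem finrank_Bst {U : X.Opens} {r : ℕ} {e : Fin r → Γ(X', g ⁻¹ᵁ U)}
    (he : IsRelBasis g U e) (η : X) (hη : η ∈ U) :
    letI := algSt g η
    Module.finrank (X.presheaf.stalk η) (Bst g η) = r := by
  letI := algSt g η
  rw [Module.finrank_eq_card_basis (stalkBasis he η hη), Fintype.card_fin]

/-- over a chart where the direct image is free, the norm is the norm of the free algebra -/
theorem hasNm_relNorm {U : X.Opens} {r : ℕ} {e : Fin r → Γ(X', g ⁻¹ᵁ U)}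
    (he : IsRelBasis g U e) (W : X.Opens) (hW : W ≤ U) (b : Γ(X', g ⁻¹ᵁ W)) :
    HasNm g W b (relNorm g W b) := by
  intro η hη _
  letI := algSt g η
  letI := algW g W
  unfold Nst relNorm
  symm
  exact NormAlg.norm_map_of_bases (X.presheaf.germ W η hη).hom (gm g W η hη)
    (fun a => (algebraMap_germ g W η hη a).symm) (he.basis g W hW) (stalkBasis he η (hW hη))
    (fun i => by rw [stalkBasis_apply, he.basis_apply, gm_res g hW]) b

end Groth.Agent.Lib.H3.MixFree
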