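import Groth.Agent.Lib.Helper3.MixStalk

/-!
# The norm at points whose local ring is an integrally closed domain
-/

set_option autoImplicit false
universe u
open CategoryTheory CategoryTheory.Limits AlgebraicGeometry TopologicalSpace Opposite

namespace Groth.Agent.Lib.H3.MixNormal

open Groth.Agent.Lib.Helper3
open QCSec InvGen RelNorm
open Groth.Agent.Lib.H3.MixStalk

variable {X X' : Scheme.{u}} (g : X' ⟶ X)

/-- near a point whose local ring is a domain there is exactly one point whose local ring is a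
field, and that field is the fraction field -/
theorem exists_unique_FP_nbhd [IsLocallyNoetherian X] [IsReduced X] (x : X)
    [IsDomain (X.presheaf.stalk x)] :
    ∃ (W₀ : X.Opens) (η : X) (h : η ⤳ x), x ∈ W₀ ∧ IsFP η ∧ (∀ ζ ∈ W₀, IsFP ζ → ζ = η) ∧
      @IsFractionRing (X.presheaf.stalk x) _ (X.presheaf.stalk η) _
        (X.presheaf.stalkSpecializes h).hom.toAlgebra := by
  obtain ⟨W, hW, hxW⟩ := QCProps.exists_affine_nbhd x
  haveI : IsNoetherianRing Γ(X, W) := IsLocallyNoetherian.component_noetherian ⟨W, hW⟩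
  letI algx := X.presheaf.algebra_section_stalk ⟨x, hxW⟩
  haveI locx : IsLocalization.AtPrime (X.presheaf.stalk x) (hW.primeIdealOf ⟨x, hxW⟩).asIdeal :=
    hW.isLocalization_stalk ⟨x, hxW⟩
  obtain ⟨f, hfq, hf⟩ := MixAlg.exists_avoid (q := (hW.primeIdealOf ⟨x, hxW⟩).asIdeal)
    (X.presheaf.stalk x)
  obtain ⟨p, hp, hpq⟩ := Ideal.exists_minimalPrimes_le
    (bot_le : (⊥ : Ideal Γ(X, W)) ≤ (hW.primeIdealOf ⟨x, hxW⟩).asIdeal)
  haveI : p.IsPrime := hp.1.1
  let P : PrimeSpectrum Γ(X, W) := ⟨p, inferInstance⟩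
  have hηW : hW.fromSpec P ∈ W := by
    rw [← SetLike.mem_coe, ← hW.range_fromSpec]
    exact ⟨P, rfl⟩
  letI algη := X.presheaf.algebra_section_stalk ⟨hW.fromSpec P, hηW⟩
  haveI locη : IsLocalization.AtPrime (X.presheaf.stalk (hW.fromSpec P)) p :=
    hW.isLocalization_stalk' P hηW
  have hFP : IsFP (hW.fromSpec P) := MixAlg.isField_of_mem_minimalPrimes hp _
  have hspec : hW.fromSpec P ⤳ x := by
    have h1 : P ⤳ hW.primeIdealOf ⟨x, hxW⟩ := (PrimeSpectrum.le_iff_specializes _ _).mp hpq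
    have h2 := h1.map hW.fromSpec.continuous
    rwa [hW.fromSpec_primeIdealOf ⟨x, hxW⟩] at h2
  have hfp : f ∉ p := fun h => hfq (hpq h)
  refine ⟨X.basicOpen f, hW.fromSpec P, hspec, ?_, hFP, ?_, ?_⟩
  · rw [X.mem_basicOpen f x hxW]
    change IsUnit (algebraMap Γ(X, W) (X.presheaf.stalk x) f)
    exact (IsLocalization.AtPrime.isUnit_to_map_iff (X.presheaf.stalk x)
      (hW.primeIdealOf ⟨x, hxW⟩).asIdeal f).mpr hfq
  · intro ζ hζ hFPζ
    have hζW : ζ ∈ W := X.basicOpen_le f hζ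
    letI := X.presheaf.algebra_section_stalk ⟨ζ, hζW⟩
    haveI : IsLocalization.AtPrime (X.presheaf.stalk ζ) (hW.primeIdealOf ⟨ζ, hζW⟩).asIdeal :=
      hW.isLocalization_stalk ⟨ζ, hζW⟩
    have hmin : (hW.primeIdealOf ⟨ζ, hζW⟩).asIdeal ∈ minimalPrimes Γ(X, W) :=
      MixAlg.mem_minimalPrimes_of_isField (X.presheaf.stalk ζ) hFPζ
    have hfζ : f ∉ (hW.primeIdealOf ⟨ζ, hζW⟩).asIdeal := by
      have hu : IsUnit (algebraMap Γ(X, W) (X.presheaf.stalk ζ) f) :=
        (X.mem_basicOpen f ζ hζW).mp hζ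
      exact (IsLocalization.AtPrime.isUnit_to_map_iff (X.presheaf.stalk ζ) _ f).mp hu
    have heq : (hW.primeIdealOf ⟨ζ, hζW⟩).asIdeal = p := hf _ _ hmin hp hfζ hfp
    have hP : hW.primeIdealOf ⟨ζ, hζW⟩ = P := PrimeSpectrum.ext heq
    have h3 := hW.fromSpec_primeIdealOf ⟨ζ, hζW⟩
    rw [hP] at h3
    exact h3.symm
  · letI := (X.presheaf.stalkSpecializes hspec).hom.toAlgebra
    haveI : IsScalarTower Γ(X, W) (X.presheaf.stalk x) (X.presheaf.stalk (hW.fromSpec P)) :=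
      IsScalarTower.of_algebraMap_eq (fun a =>
        (congr($(TopCat.Presheaf.germ_stalkSpecializes X.presheaf hxW hspec) a)).symm)
    exact MixAlg.isFractionRing_of_le hpq (X.presheaf.stalk x)
      (X.presheaf.stalk (hW.fromSpec P)) hFP

/-- local existence of the norm at a point whose local ring is an integrally closed domain -/
theorem locEx_normal [IsLocallyNoetherian X] [IsReduced X] [IsFinite g] (x : X)
    (hdom : IsDomain (X.presheaf.stalk x)) (hic : IsIntegrallyClosed (X.presheaf.stalk x))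
    (V : X.Opens) (hxV : x ∈ V) (b : Γ(X', g ⁻¹ᵁ V)) :
    ∃ (W : X.Opens) (hW : W ≤ V), x ∈ W ∧
      ∃ a, HasNm g W (rres X' (preimage_mono' g hW) b) a := by
  haveI := hdom
  haveI := hic
  obtain ⟨W₀, η, h, hxW₀, hFP, huniq, hfrac⟩ := exists_unique_FP_nbhd x
  have hηV : η ∈ V := h.mem_open V.2 hxV
  have key : ∃ α : X.presheaf.stalk x,
      X.presheaf.stalkSpecializes h α = Nst g η (gm g V η hηV b) := by
    letI : Field (X.presheaf.stalk η) := hFP.toField
    letI algK : Algebra (X.presheaf.stalk x) (X.presheaf.stalk η) :=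
      (X.presheaf.stalkSpecializes h).hom.toAlgebra
    haveI : IsFractionRing (X.presheaf.stalk x) (X.presheaf.stalk η) := hfrac
    letI algB : Algebra (X.presheaf.stalk η) (Bst g η) := algSt g η
    letI algRB : Algebra (X.presheaf.stalk x) (Bst g η) :=
      ((stMap g η).hom.comp (X.presheaf.stalkSpecializes h).hom).toAlgebra
    haveI : IsScalarTower (X.presheaf.stalk x) (X.presheaf.stalk η) (Bst g η) :=
      IsScalarTower.of_algebraMap_eq (fun _ => rfl)
    have hint : IsIntegral (X.presheaf.stalk x) (gm g V η hηV b) := isIntegralElem_gm g h V hxV b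
    obtain ⟨α, hα⟩ := MixAlg.exists_norm_eq (K := X.presheaf.stalk η) (gm g V η hηV b) hint
    exact ⟨α, hα⟩
  obtain ⟨α, hα⟩ := key
  obtain ⟨W₁, hxW₁, a, ha⟩ := TopCat.Presheaf.exists_germ_eq X.presheaf α
  have hWV : V ⊓ W₀ ⊓ W₁ ≤ V := inf_le_left.trans inf_le_left
  refine ⟨V ⊓ W₀ ⊓ W₁, hWV, ⟨⟨hxV, hxW₀⟩, hxW₁⟩,
    rres X (inf_le_right : V ⊓ W₀ ⊓ W₁ ≤ W₁) a, ?_⟩
  intro ζ hζ hFPζ
  obtain rfl : ζ = η := huniq ζ hζ.1.2 hFPζ
  rw [gm_res g hWV, ← hα, ← ha]
  have h1 : X.presheaf.germ (V ⊓ W₀ ⊓ W₁) ζ hζ (rres X (inf_le_right : V ⊓ W₀ ⊓ W₁ ≤ W₁) a) =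
      X.presheaf.germ W₁ ζ hζ.2 a :=
    TopCat.Presheaf.germ_res_apply X.presheaf (homOfLE inf_le_right) ζ hζ a
  rw [h1]
  exact (congr($(TopCat.Presheaf.germ_stalkSpecializes X.presheaf hxW₁ h) a)).symm

/-- the weak form of "a function divides the pullback of its norm" at a point whose local ring
is an integrally closed domain -/
theorem wdvd_normal [IsLocallyNoetherian X] [IsReduced X] [IsFinite g] (x' : X')
    (hdom : IsDomain (X.presheaf.stalk (g x')))
    (hic : IsIntegrallyClosed (X.presheaf.stalk (g x')))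
    (ξ' : X') (hξ : ξ' ⤳ x') (hFP : IsFP (g ξ'))
    (V : X.Opens) (hxV : g x' ∈ V) (b : Γ(X', g ⁻¹ᵁ V)) (a : Γ(X, V)) (ha : HasNm g V b a)
    (hb : x' ∉ X'.basicOpen b) : g x' ∉ X.basicOpen a := by
  haveI := hdom
  haveI := hic
  obtain ⟨W₀, η, h, hxW₀, hFPη, huniq, hfrac⟩ := exists_unique_FP_nbhd (g x')
  have hspec : g ξ' ⤳ g x' := g.base.hom.map_specializes hξ
  have hξW₀ : g ξ' ∈ W₀ := hspec.mem_open W₀.2 hxW₀
  obtain rfl : η = g ξ' := (huniq (g ξ') hξW₀ hFP).symm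
  have hηV : g ξ' ∈ V := h.mem_open V.2 hxV
  letI : Field (X.presheaf.stalk (g ξ')) := hFP.toField
  letI algK : Algebra (X.presheaf.stalk (g x')) (X.presheaf.stalk (g ξ')) :=
    (X.presheaf.stalkSpecializes h).hom.toAlgebra
  haveI : IsFractionRing (X.presheaf.stalk (g x')) (X.presheaf.stalk (g ξ')) := hfrac
  letI algB : Algebra (X.presheaf.stalk (g ξ')) (Bst g (g ξ')) := algSt g (g ξ')
  letI algRB : Algebra (X.presheaf.stalk (g x')) (Bst g (g ξ')) :=
    ((stMap g (g ξ')).hom.comp (X.presheaf.stalkSpecializes h).hom).toAlgebra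
  haveI : IsScalarTower (X.presheaf.stalk (g x')) (X.presheaf.stalk (g ξ')) (Bst g (g ξ')) :=
    IsScalarTower.of_algebraMap_eq (fun _ => rfl)
  haveI : Module.Finite (X.presheaf.stalk (g ξ')) (Bst g (g ξ')) := finite_Bst g (g ξ')
  have hint : IsIntegral (X.presheaf.stalk (g x')) (gm g V (g ξ') hηV b) :=
    isIntegralElem_gm g h V hxV b
  intro hmem
  have hα : algebraMap (X.presheaf.stalk (g x')) (X.presheaf.stalk (g ξ'))
      (X.presheaf.germ V (g x') hxV a) =
      Algebra.norm (X.presheaf.stalk (g ξ')) (gm g V (g ξ') hηV b) := by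
    have h1 := ha (g ξ') hηV hFP
    have h2 : X.presheaf.stalkSpecializes h (X.presheaf.germ V (g x') hxV a) =
        X.presheaf.germ V (g ξ') hηV a :=
      congr($(TopCat.Presheaf.germ_stalkSpecializes X.presheaf hxV h) a)
    exact h2.trans h1
  have hd : X'.presheaf.germ (g ⁻¹ᵁ V) x' hxV b ∈
      IsLocalRing.maximalIdeal (X'.presheaf.stalk x') := by
    rw [IsLocalRing.mem_maximalIdeal, mem_nonunits_iff]
    intro hu
    exact hb ((X'.mem_basicOpen b x' hxV).mpr hu)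
  have hcomp : (psi g ξ').hom.comp (algebraMap (X.presheaf.stalk (g x')) (Bst g (g ξ'))) =
      (X'.presheaf.stalkSpecializes hξ).hom.comp (g.stalkMap x').hom := by
    ext r
    exact Scheme.Hom.stalkSpecializes_stalkMap_apply g ξ' x' hξ r
  have hψ : (psi g ξ').hom (gm g V (g ξ') hηV b) =
      (X'.presheaf.stalkSpecializes hξ).hom (X'.presheaf.germ (g ⁻¹ᵁ V) x' hxV b) := by
    have e1 : (psi g ξ').hom (gm g V (g ξ') hηV b) = X'.presheaf.germ (g ⁻¹ᵁ V) ξ' hηV b :=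
      psi_gm g ξ' V hηV b
    have e2 : X'.presheaf.stalkSpecializes hξ (X'.presheaf.germ (g ⁻¹ᵁ V) x' hxV b) =
        X'.presheaf.germ (g ⁻¹ᵁ V) ξ' hηV b :=
      congr($(TopCat.Presheaf.germ_stalkSpecializes X'.presheaf (U := g ⁻¹ᵁ V) hxV hξ) b)
    exact e1.trans e2.symm
  have key := MixAlg.mem_maximalIdeal_of_norm (K := X.presheaf.stalk (g ξ'))
    (g.stalkMap x').hom (X'.presheaf.stalkSpecializes hξ).hom (psi g ξ').hom hcomp
    (gm g V (g ξ') hηV b) hint _ hd hψ _ hα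
  rw [IsLocalRing.mem_maximalIdeal, mem_nonunits_iff] at key
  exact key ((X.mem_basicOpen a (g x') hxV).mp hmem)

end Groth.Agent.Lib.H3.MixNormal
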