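import Groth.Agent.Lib.Helper3.GNorm
import Groth.Agent.Lib.Helper3.MixFree
import Groth.Agent.Lib.Helper3.MixNormal
import Groth.Agent.Lib.Helper3.LocFreeCrit
import Groth.Agent.Lib.Helper3.GalTwQP

/-!
# EGA II 6.6.2: descent of ampleness along a finite surjective morphism, mixed case
-/

set_option autoImplicit false
universe u
open CategoryTheory CategoryTheory.Limits AlgebraicGeometry TopologicalSpace Opposite

namespace Groth.Agent.Lib.H3.MixMain

open Groth.Agent.Lib.Helper3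
open QCSec InvGen RelNorm FreeBasis
open Groth.Agent.Lib.H3.MixStalk Groth.Agent.Lib.H3.MixFree Groth.Agent.Lib.H3.MixNormal
open Groth.Agent.Lib.H3.GNorm

variable {X X' : Scheme.{u}} (g : X' ⟶ X)

/-- every point is normal or has a neighbourhood over which the direct image of the structure
sheaf is free -/
def Mixed : Prop :=
  ∀ x : X, (IsDomain (X.presheaf.stalk x) ∧ IsIntegrallyClosed (X.presheaf.stalk x)) ∨
    ∃ (U : X.Opens) (r : ℕ) (e : Fin r → Γ(X', g ⁻¹ᵁ U)), x ∈ U ∧ IsRelBasis g U e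

variable {g}

theorem locEx_of_mixed [IsLocallyNoetherian X] [IsReduced X] [IsFinite g] (h : Mixed g) :
    LocEx g := by
  intro x V hxV b
  rcases h x with ⟨hdom, hic⟩ | ⟨U, r, e, hxU, he⟩
  · exact locEx_normal g x hdom hic V hxV b
  · exact ⟨V ⊓ U, inf_le_left, ⟨hxV, hxU⟩, relNorm g (V ⊓ U) _,
      hasNm_relNorm he (V ⊓ U) inf_le_right _⟩

variable (g)

/-- the rank of the stalk of the direct image -/
noncomputable def fr (η : X) : ℕ :=
  letI := algSt g η
  Module.finrank (X.presheaf.stalk η) (Bst g η)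

/-- the degree at a point -/
noncomputable def deg [IsReduced X] (x : X) : ℕ := fr g (exists_isFP_specializes x).choose

variable {g}

theorem exists_const_fr [IsLocallyNoetherian X] [IsReduced X] (h : Mixed g) (x : X) :
    ∃ (U : X.Opens) (r : ℕ), x ∈ U ∧ ∀ ζ ∈ U, IsFP ζ → fr g ζ = r := by
  rcases h x with ⟨hdom, hic⟩ | ⟨U, r, e, hxU, he⟩
  · haveI := hdom
    obtain ⟨W₀, η, _, hxW₀, _, huniq, _⟩ := exists_unique_FP_nbhd x
    refine ⟨W₀, fr g η, hxW₀, fun ζ hζ hFP => ?_⟩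
    rw [huniq ζ hζ hFP]
  · exact ⟨U, r, hxU, fun ζ hζ _ => finrank_Bst he ζ hζ⟩

theorem deg_eq [IsReduced X] {U : X.Opens} {r : ℕ} (hU : ∀ ζ ∈ U, IsFP ζ → fr g ζ = r)
    {z : X} (hz : z ∈ U) : deg g z = r := by
  have hspec := (exists_isFP_specializes z).choose_spec
  exact hU _ (hspec.2.mem_open U.2 hz) hspec.1

theorem hasNm_app_pow {U : X.Opens} {r : ℕ} (hU : ∀ ζ ∈ U, IsFP ζ → fr g ζ = r)
    (W : X.Opens) (hW : W ≤ U) (a : Γ(X, W)) : HasNm g W (g.app W a) (a ^ r) := by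
  intro ζ hζ hFP
  rw [map_pow, ← algebraMap_germ, ← hU ζ (hW hζ) hFP]
  letI : Field (X.presheaf.stalk ζ) := hFP.toField
  letI := algSt g ζ
  exact (Algebra.norm_algebraMap (S := Bst g ζ) (X.presheaf.germ W ζ hζ a)).symm

/-- the good points: those with a generisation lying over a point whose local ring is a field -/
def good (g : X' ⟶ X) : Set X' := {x' | ∃ ξ' : X', ξ' ⤳ x' ∧ IsFP (g ξ')}

theorem exists_good [IsReduced X] [IsFinite g] [Surjective g] (x : X) :
    ∃ x' ∈ good g, g x' = x := by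
  obtain ⟨η, hFP, hspec⟩ := exists_isFP_specializes x
  obtain ⟨ξ', rfl⟩ := g.surjective η
  obtain ⟨x', hx', rfl⟩ := g.isClosedMap.specializingMap hspec
  exact ⟨x', ⟨ξ', hx', hFP⟩, rfl⟩

theorem wdvd [IsLocallyNoetherian X] [IsReduced X] [IsFinite g] (h : Mixed g) (V : X.Opens)
    (b : Γ(X', g ⁻¹ᵁ V)) (x' : X') (hx' : x' ∈ good g)
    (hmem : g x' ∈ X.basicOpen (nm g V b)) : x' ∈ X'.basicOpen b := by
  have hloc := locEx_of_mixed h
  have hxV : g x' ∈ V := X.basicOpen_le _ hmem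
  obtain ⟨ξ', hξ, hFP⟩ := hx'
  rcases h (g x') with ⟨hdom, hic⟩ | ⟨U, r, e, hxU, he⟩
  · by_contra hb
    exact wdvd_normal g x' hdom hic ξ' hξ hFP V hxV b _ (hasNm_nm hloc V b) hb hmem
  · have e1 : rres X (inf_le_left : V ⊓ U ≤ V) (nm g V b) =
        relNorm g (V ⊓ U) (rres X' (preimage_mono' g inf_le_left) b) := by
      rw [nm_res hloc]
      exact nm_eq hloc (hasNm_relNorm he (V ⊓ U) inf_le_right _)
    have h1 : g x' ∈ X.basicOpen (relNorm g (V ⊓ U) (rres X' (preimage_mono' g inf_le_left) b)) := by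
      rw [← e1, Scheme.basicOpen_res]
      exact ⟨⟨hxV, hxU⟩, hmem⟩
    have h2 : x' ∈ X'.basicOpen (g.app (V ⊓ U)
        (relNorm g (V ⊓ U) (rres X' (preimage_mono' g inf_le_left) b))) := by
      rw [← Scheme.preimage_basicOpen]
      exact h1
    obtain ⟨q, hq⟩ := dvd_app_relNorm g he (V ⊓ U) inf_le_right
      (rres X' (preimage_mono' g inf_le_left) b)
    rw [hq, Scheme.basicOpen_mul] at h2
    have h3 : x' ∈ X'.basicOpen (rres X' (preimage_mono' g (inf_le_left : V ⊓ U ≤ V)) b) := h2.1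
    rw [Scheme.basicOpen_res] at h3
    exact h3.2

/-- the graded norm system of a mixed finite surjective morphism -/
noncomputable def gnsys [IsLocallyNoetherian X] [IsReduced X] [IsFinite g] [Surjective g]
    (h : Mixed g) : GNSys g where
  nm := nm g
  nm_one := nm_one (locEx_of_mixed h)
  nm_mul := nm_mul (locEx_of_mixed h)
  nm_res := fun hV b => nm_res (locEx_of_mixed h) hV b
  deg := deg g
  nm_app := fun x => by
    obtain ⟨U, r, hxU, hU⟩ := exists_const_fr h x
    refine ⟨U, hxU, fun z hz => ?_, fun W hW a => ?_⟩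
    · rw [deg_eq hU hz, deg_eq hU hxU]
    · rw [deg_eq hU hxU]
      exact nm_eq (locEx_of_mixed h) (hasNm_app_pow hU W hW a)
  S' := good g
  surj := exists_good
  wdvd := wdvd h

/-- **EGA II 6.6.2 (absolute form)** -/
theorem isAmple_of_isAmple_pullback [IsLocallyNoetherian X] [IsReduced X] (g : X' ⟶ X)
    [IsFinite g] [Surjective g] (h : Mixed g) {L : X.Modules} (hL : PicF.IsInvertible L)
    (hA : CohB1.IsAmple ((Scheme.Modules.pullback g).obj L)) : CohB1.IsAmple L :=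
  GNorm.isAmple_of_isAmple_pullback g (gnsys h) hL hA

/-- the hypothesis of EGA II 6.6.2 gives `Mixed` -/
theorem mixed_of_hyp (g : X' ⟶ X)
    (hW : ∀ x : X, (IsDomain (X.presheaf.stalk x) ∧ IsIntegrallyClosed (X.presheaf.stalk x)) ∨
      ∃ T : X.Opens, x ∈ T ∧ FlatMod.IsFinLocFree
        (((Coh.push g).obj (Coh.structureModule X')).restrict T.ι)) : Mixed g := by
  intro x
  rcases hW x with hn | ⟨T, hxT, hfree⟩
  · exact Or.inl hn
  · right
    obtain ⟨U₁, n, hxU₁, ⟨φ⟩⟩ := hfree ⟨x, hxT⟩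
    obtain ⟨e, he⟩ := exists_isBasis_of_iso φ
    have he' := LocFreeCrit.isBasis_of_isBasis_restrict _ T he
    exact ⟨T.ι ''ᵁ U₁, n, _, ⟨⟨x, hxT⟩, hxU₁, rfl⟩, isRelBasis_of_isBasis g he'⟩

/-- **EGA II 6.6.2** -/
theorem relAmple_iff {Y : Scheme.{u}} [IsAffine Y] [IsNoetherian X] [IsReduced X] (f : X ⟶ Y)
    [QuasiCompact f] (g : X' ⟶ X) [IsFinite g] [Surjective g]
    (hW : ∀ x : X, (IsDomain (X.presheaf.stalk x) ∧ IsIntegrallyClosed (X.presheaf.stalk x)) ∨
      ∃ T : X.Opens, x ∈ T ∧ FlatMod.IsFinLocFree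
        (((Coh.push g).obj (Coh.structureModule X')).restrict T.ι))
    (L : X.Modules) (hL : PicF.IsInvertible L) :
    RelAmple.IsRelAmple f L ↔
      RelAmple.IsRelAmple (g ≫ f) ((Scheme.Modules.pullback g).obj L) := by
  constructor
  · intro h
    refine Groth.Agent.Lib.H3.GalTwQP.relAmple_pullback_quasiAffine f g inferInstance
      (fun V hV => ?_) L h
    haveI : IsAffine ((g ⁻¹ᵁ V : X'.Opens) : Scheme.{u}) := hV.preimage g
    infer_instance
  · intro h
    rw [RelAmpleLib.isRelAmple_iff_isAmple_of_isAffine] at h ⊢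
    exact isAmple_of_isAmple_pullback g (mixed_of_hyp g hW) hL h

end Groth.Agent.Lib.H3.MixMain
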