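import Groth.Agent.Lib.Helper3.RelNorm
import Groth.Agent.Lib.Helper3.MixAlg

/-!
# The norm along a finite morphism, via the points whose local ring is a field
-/

set_option autoImplicit false
universe u
open CategoryTheory CategoryTheory.Limits AlgebraicGeometry TopologicalSpace Opposite

namespace Groth.Agent.Lib.H3.MixStalk

open Groth.Agent.Lib.Helper3
open QCSec InvGen RelNorm

variable {X X' : Scheme.{u}} (g : X' ⟶ X)

/-- the direct image of the structure sheaf, as a presheaf of rings -/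
noncomputable abbrev pf : TopCat.Presheaf CommRingCat X := g.base _* X'.presheaf

/-- its stalk -/
noncomputable abbrev Bst (η : X) : CommRingCat := (pf g).stalk η

/-- the structure map of the stalk -/
noncomputable def stMap (η : X) : X.presheaf.stalk η ⟶ Bst g η :=
  (TopCat.Presheaf.stalkFunctor CommRingCat η).map g.c

/-- algebra structure -/
@[reducible] noncomputable def algSt (η : X) : Algebra (X.presheaf.stalk η) (Bst g η) :=
  (stMap g η).hom.toAlgebra

/-- the germ of a section of the direct image -/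
noncomputable def gm (V : X.Opens) (η : X) (hη : η ∈ V) : Γ(X', g ⁻¹ᵁ V) →+* Bst g η :=
  ((pf g).germ V η hη).hom

theorem gm_res {V V' : X.Opens} (h : V' ≤ V) (η : X) (hη : η ∈ V') (b : Γ(X', g ⁻¹ᵁ V)) :
    gm g V' η hη (rres X' (preimage_mono' g h) b) = gm g V η (h hη) b :=
  TopCat.Presheaf.germ_res_apply (pf g) (homOfLE h) η hη b

theorem algebraMap_germ (V : X.Opens) (η : X) (hη : η ∈ V) (a : Γ(X, V)) :
    letI := algSt g η
    algebraMap (X.presheaf.stalk η) (Bst g η) (X.presheaf.germ V η hη a) =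
      gm g V η hη (g.app V a) :=
  TopCat.Presheaf.stalkFunctor_map_germ_apply V η hη g.c a

theorem gm_exists (η : X) (β : Bst g η) :
    ∃ (V : X.Opens) (hη : η ∈ V) (b : Γ(X', g ⁻¹ᵁ V)), gm g V η hη b = β :=
  TopCat.Presheaf.exists_germ_eq (pf g) β

theorem gm_eq {V V' : X.Opens} (η : X) (hη : η ∈ V) (hη' : η ∈ V') (b : Γ(X', g ⁻¹ᵁ V))
    (b' : Γ(X', g ⁻¹ᵁ V')) (h : gm g V η hη b = gm g V' η hη' b') :
    ∃ (W : X.Opens) (_ : η ∈ W) (hW : W ≤ V) (hW' : W ≤ V'),
      rres X' (preimage_mono' g hW) b = rres X' (preimage_mono' g hW') b' := by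
  obtain ⟨W, hηW, iU, iV, e⟩ := TopCat.Presheaf.germ_eq (pf g) η hη hη' b b' h
  exact ⟨W, hηW, iU.le, iV.le, e⟩

/-- the norm on the stalk -/
noncomputable def Nst (η : X) (β : Bst g η) : X.presheaf.stalk η :=
  letI := algSt g η
  Algebra.norm (X.presheaf.stalk η) β

theorem Nst_mul (η : X) (β β' : Bst g η) : Nst g η (β * β') = Nst g η β * Nst g η β' := by
  letI := algSt g η
  exact map_mul (Algebra.norm (X.presheaf.stalk η)) β β'

theorem Nst_one (η : X) : Nst g η 1 = 1 := by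
  letI := algSt g η
  exact map_one (Algebra.norm (X.presheaf.stalk η))

/-- a point whose local ring is a field -/
def IsFP (η : X) : Prop := IsField (X.presheaf.stalk η)

theorem exists_isFP_specializes [IsReduced X] (x : X) : ∃ η : X, IsFP η ∧ η ⤳ x := by
  obtain ⟨W, hW, hxW⟩ := QCProps.exists_affine_nbhd x
  obtain ⟨p, hp, hpq⟩ := Ideal.exists_minimalPrimes_le
    (bot_le : (⊥ : Ideal Γ(X, W)) ≤ (hW.primeIdealOf ⟨x, hxW⟩).asIdeal)
  haveI : p.IsPrime := hp.1.1
  let P : PrimeSpectrum Γ(X, W) := ⟨p, inferInstance⟩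
  have hη : hW.fromSpec P ∈ W := by
    rw [← SetLike.mem_coe, ← hW.range_fromSpec]
    exact ⟨P, rfl⟩
  letI := X.presheaf.algebra_section_stalk ⟨hW.fromSpec P, hη⟩
  haveI : IsLocalization.AtPrime (X.presheaf.stalk (hW.fromSpec P)) p :=
    hW.isLocalization_stalk' P hη
  refine ⟨hW.fromSpec P, MixAlg.isField_of_mem_minimalPrimes hp _, ?_⟩
  have h1 : P ⤳ hW.primeIdealOf ⟨x, hxW⟩ := (PrimeSpectrum.le_iff_specializes _ _).mp hpq
  have h2 := h1.map hW.fromSpec.continuous
  rwa [hW.fromSpec_primeIdealOf ⟨x, hxW⟩] at h2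

theorem eq_of_germ_eq [IsReduced X] (V : X.Opens) (s t : Γ(X, V))
    (h : ∀ (η : X) (hη : η ∈ V), IsFP η →
      X.presheaf.germ V η hη s = X.presheaf.germ V η hη t) : s = t := by
  rw [← sub_eq_zero, ← basicOpen_eq_bot_iff]
  by_contra hne
  obtain ⟨x, hx⟩ : ∃ x, x ∈ X.basicOpen (s - t) := by
    by_contra hcon
    apply hne
    ext y
    constructor
    · intro hy
      exact (hcon ⟨y, hy⟩).elim
    · intro hy
      exact hy.elim
  obtain ⟨η, hFP, hηx⟩ := exists_isFP_specializes x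
  have hη : η ∈ X.basicOpen (s - t) := hηx.mem_open (X.basicOpen _).2 hx
  have hηV : η ∈ V := X.basicOpen_le _ hη
  have hu : IsUnit (X.presheaf.germ V η hηV (s - t)) := (X.mem_basicOpen _ η hηV).mp hη
  rw [map_sub, h η hηV hFP, sub_self] at hu
  exact not_isUnit_zero hu

/-- `a` is the norm of `b`: it has the right germ at every point whose local ring is a field -/
def HasNm (V : X.Opens) (b : Γ(X', g ⁻¹ᵁ V)) (a : Γ(X, V)) : Prop :=
  ∀ (η : X) (hη : η ∈ V), IsFP η → X.presheaf.germ V η hη a = Nst g η (gm g V η hη b)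

variable {g}

theorem HasNm.unique [IsReduced X] {V : X.Opens} {b : Γ(X', g ⁻¹ᵁ V)} {a a' : Γ(X, V)}
    (h : HasNm g V b a) (h' : HasNm g V b a') : a = a' :=
  eq_of_germ_eq V a a' fun η hη hFP => (h η hη hFP).trans (h' η hη hFP).symm

theorem HasNm.res {V V' : X.Opens} (hV : V' ≤ V) {b : Γ(X', g ⁻¹ᵁ V)} {a : Γ(X, V)}
    (h : HasNm g V b a) : HasNm g V' (rres X' (preimage_mono' g hV) b) (rres X hV a) := by
  intro η hη hFP
  rw [gm_res]
  have : X.presheaf.germ V' η hη (rres X hV a) = X.presheaf.germ V η (hV hη) a :=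
    TopCat.Presheaf.germ_res_apply X.presheaf (homOfLE hV) η hη a
  rw [this]
  exact h η (hV hη) hFP

theorem HasNm.one (V : X.Opens) : HasNm g V 1 1 := by
  intro η hη _
  rw [map_one, map_one, Nst_one]

theorem HasNm.mul {V : X.Opens} {b b' : Γ(X', g ⁻¹ᵁ V)} {a a' : Γ(X, V)}
    (h : HasNm g V b a) (h' : HasNm g V b' a') : HasNm g V (b * b') (a * a') := by
  intro η hη hFP
  rw [map_mul, map_mul, Nst_mul, h η hη hFP, h' η hη hFP]

theorem exists_hasNm_of_local [IsReduced X] (V : X.Opens) (b : Γ(X', g ⁻¹ᵁ V))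
    (hloc : ∀ x ∈ V, ∃ (W : X.Opens) (hW : W ≤ V), x ∈ W ∧
      ∃ a, HasNm g W (rres X' (preimage_mono' g hW) b) a) : ∃ a, HasNm g V b a := by
  choose W hW hxW a ha using fun x : {x : X // x ∈ V} => hloc x.1 x.2
  have hcov : V ≤ ⨆ i, W i := fun x hx => Opens.mem_iSup.mpr ⟨⟨x, hx⟩, hxW _⟩
  obtain ⟨a₀, ha₀⟩ := fun_glue W V hW hcov a (by
    intro i j
    apply HasNm.unique (g := g) (b := rres X' (preimage_mono' g (inf_le_left.trans (hW i))) b)
    · have := (ha i).res (inf_le_left : W i ⊓ W j ≤ W i)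
      rwa [rres_rres] at this
    · have := (ha j).res (inf_le_right : W i ⊓ W j ≤ W j)
      rwa [rres_rres] at this)
  refine ⟨a₀, fun η hη hFP => ?_⟩
  have h1 : X.presheaf.germ V η hη a₀ = X.presheaf.germ (W ⟨η, hη⟩) η (hxW _) (a ⟨η, hη⟩) := by
    rw [← ha₀ ⟨η, hη⟩]
    exact (TopCat.Presheaf.germ_res_apply X.presheaf (homOfLE (hW ⟨η, hη⟩)) η (hxW _) a₀).symm
  rw [h1, ha ⟨η, hη⟩ η (hxW _) hFP, gm_res g (hW ⟨η, hη⟩)]

variable (g)

/-- local existence of norms -/
def LocEx : Prop :=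
  ∀ (x : X) (V : X.Opens) (_ : x ∈ V) (b : Γ(X', g ⁻¹ᵁ V)),
    ∃ (W : X.Opens) (hW : W ≤ V), x ∈ W ∧ ∃ a, HasNm g W (rres X' (preimage_mono' g hW) b) a

open Classical in
/-- the norm of a section -/
noncomputable def nm (V : X.Opens) (b : Γ(X', g ⁻¹ᵁ V)) : Γ(X, V) :=
  if h : ∃ a, HasNm g V b a then h.choose else 0

variable {g}

theorem hasNm_nm [IsReduced X] (hloc : LocEx g) (V : X.Opens) (b : Γ(X', g ⁻¹ᵁ V)) :
    HasNm g V b (nm g V b) := by
  have h : ∃ a, HasNm g V b a := exists_hasNm_of_local V b fun x hx => hloc x V hx b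
  unfold nm
  rw [dif_pos h]
  exact h.choose_spec

theorem nm_eq [IsReduced X] (hloc : LocEx g) {V : X.Opens} {b : Γ(X', g ⁻¹ᵁ V)} {a : Γ(X, V)}
    (h : HasNm g V b a) : nm g V b = a :=
  (hasNm_nm hloc V b).unique h

theorem nm_one [IsReduced X] (hloc : LocEx g) (V : X.Opens) : nm g V 1 = 1 :=
  nm_eq hloc (HasNm.one V)

theorem nm_mul [IsReduced X] (hloc : LocEx g) (V : X.Opens) (b b' : Γ(X', g ⁻¹ᵁ V)) :
    nm g V (b * b') = nm g V b * nm g V b' :=
  nm_eq hloc ((hasNm_nm hloc V b).mul (hasNm_nm hloc V b'))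

theorem nm_res [IsReduced X] (hloc : LocEx g) {V V' : X.Opens} (h : V' ≤ V)
    (b : Γ(X', g ⁻¹ᵁ V)) :
    rres X h (nm g V b) = nm g V' (rres X' (preimage_mono' g h) b) :=
  (nm_eq hloc ((hasNm_nm hloc V b).res h)).symm

/-! ### finiteness and integrality -/

variable (g)

theorem gm_app_mul (V : X.Opens) (η : X) (hη : η ∈ V) (a : Γ(X, V)) (b : Γ(X', g ⁻¹ᵁ V)) :
    letI := algSt g η
    gm g V η hη (g.app V a * b) = X.presheaf.germ V η hη a • gm g V η hη b := by
  letI := algSt g η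
  rw [map_mul, ← algebraMap_germ, Algebra.smul_def]

/-- the stalk of the direct image of the structure sheaf along a finite morphism is finite -/
theorem finite_Bst [IsFinite g] (η : X) :
    letI := algSt g η
    Module.Finite (X.presheaf.stalk η) (Bst g η) := by
  classical
  letI := algSt g η
  obtain ⟨W, hW, hηW⟩ := QCProps.exists_affine_nbhd η
  have hfin : (g.app W).hom.Finite := IsFinite.finite_app g W hW
  letI := algW g W
  have hfin' : Module.Finite Γ(X, W) Γ(X', g ⁻¹ᵁ W) := hfin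
  obtain ⟨s, hs⟩ := hfin'.fg_top
  have hW' : IsAffineOpen (g ⁻¹ᵁ W) := hW.preimage g
  have hspan : ∀ y : Γ(X', g ⁻¹ᵁ W), gm g W η hηW y ∈
      Submodule.span (X.presheaf.stalk η) ((s.image (gm g W η hηW) : Finset _) : Set (Bst g η)) := by
      intro y
      have hyS : y ∈ Submodule.span Γ(X, W) (s : Set Γ(X', g ⁻¹ᵁ W)) := by
        rw [hs]
        trivial
      induction hyS using Submodule.span_induction with
      | mem z hz =>
        apply Submodule.subset_span
        rw [Finset.coe_image]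
        exact ⟨z, hz, rfl⟩
      | zero =>
        rw [map_zero]
        exact Submodule.zero_mem _
      | add z w _ _ hz hw =>
        rw [map_add]
        exact Submodule.add_mem _ hz hw
      | smul a z _ hz =>
        have : a • z = g.app W a * z := Algebra.smul_def a z
        rw [this, gm_app_mul]
        exact Submodule.smul_mem _ _ hz
  refine ⟨⟨s.image (gm g W η hηW), ?_⟩⟩
  rw [eq_top_iff]
  rintro β -
  obtain ⟨W₁, hηW₁, b₁, rfl⟩ := gm_exists g η β
  obtain ⟨f, hfle, hηf⟩ := hW.exists_basicOpen_le (V := W₁ ⊓ W) ⟨η, hηW₁, hηW⟩ hηW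
  have hD : g ⁻¹ᵁ X.basicOpen f = X'.basicOpen (g.app W f) := Scheme.preimage_basicOpen g f
  have hDW₁ : X.basicOpen f ≤ W₁ := hfle.trans inf_le_left
  have hDW : X.basicOpen f ≤ W := hfle.trans inf_le_right
  have hle1 : X'.basicOpen (g.app W f) ≤ g ⁻¹ᵁ W₁ := hD ▸ preimage_mono' g hDW₁
  obtain ⟨n, y, hy⟩ := exists_eq_pow_mul_of_isAffineOpen X' (g ⁻¹ᵁ W) hW' (g.app W f)
    (rres X' hle1 b₁)
  have hy' : rres X' (preimage_mono' g hDW) y =
      (g.app (X.basicOpen f) (rres X hDW f)) ^ n * rres X' (preimage_mono' g hDW₁) b₁ := by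
    have h0 := congrArg (rres X' (le_of_eq hD)) hy
    change rres X' (le_of_eq hD) (rres X' (X'.basicOpen_le _) y) =
      rres X' (le_of_eq hD) ((rres X' (X'.basicOpen_le _) (g.app W f)) ^ n * rres X' hle1 b₁) at h0
    rw [rres_rres, rres_mul, rres_pow, rres_rres, rres_rres] at h0
    rw [app_rres]
    exact h0
  have hu : IsUnit (X.presheaf.germ (X.basicOpen f) η hηf (rres X hDW f)) := by
    have h1 : X.presheaf.germ (X.basicOpen f) η hηf (rres X hDW f) = X.presheaf.germ W η hηW f :=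
      TopCat.Presheaf.germ_res_apply X.presheaf (homOfLE hDW) η hηf f
    rw [h1]
    exact (X.mem_basicOpen f η hηW).mp hηf
  have h2 : gm g W η hηW y =
      (X.presheaf.germ (X.basicOpen f) η hηf (rres X hDW f)) ^ n • gm g W₁ η hηW₁ b₁ := by
    have e1 := congrArg (gm g (X.basicOpen f) η hηf) hy'
    rw [gm_res g hDW η hηf y, map_mul, map_pow, ← algebraMap_germ g _ η hηf,
      gm_res g hDW₁ η hηf b₁, ← map_pow, ← Algebra.smul_def] at e1
    exact e1
  obtain ⟨u, hu⟩ := hu
  have h3 : gm g W₁ η hηW₁ b₁ =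
      (↑(u⁻¹ ^ n) : X.presheaf.stalk η) • gm g W η hηW y := by
    rw [h2, smul_smul, ← hu, ← Units.val_pow_eq_pow_val, ← Units.val_mul, ← mul_pow,
      inv_mul_cancel, one_pow, Units.val_one, one_smul]
  rw [h3]
  exact Submodule.smul_mem _ _ (hspan y)

/-- germs of sections of the direct image are integral over the local ring of any
specialisation -/
theorem isIntegralElem_gm [IsFinite g] {x η : X} (h : η ⤳ x) (V : X.Opens) (hx : x ∈ V)
    (b : Γ(X', g ⁻¹ᵁ V)) :
    ((stMap g η).hom.comp (X.presheaf.stalkSpecializes h).hom).IsIntegralElem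
      (gm g V η (h.mem_open V.2 hx) b) := by
  obtain ⟨_, ⟨W, hW, rfl⟩, hxW, hWV⟩ :=
    X.isBasis_affineOpens.exists_subset_of_mem_open hx V.2
  have hWV' : W ≤ V := hWV
  have hint : (g.app W).hom.IsIntegral := (IsFinite.finite_app g W hW).to_isIntegral
  obtain ⟨p, hp, hpb⟩ := hint (rres X' (preimage_mono' g hWV') b)
  have hηW : η ∈ W := h.mem_open W.2 hxW
  refine ⟨p.map (X.presheaf.germ W x hxW).hom, hp.map _, ?_⟩
  rw [Polynomial.eval₂_map]
  have hcomp : ((stMap g η).hom.comp (X.presheaf.stalkSpecializes h).hom).comp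
      (X.presheaf.germ W x hxW).hom = (gm g W η hηW).comp (g.app W).hom := by
    ext a
    change (stMap g η).hom (X.presheaf.stalkSpecializes h (X.presheaf.germ W x hxW a)) =
      gm g W η hηW (g.app W a)
    have h1 : X.presheaf.stalkSpecializes h (X.presheaf.germ W x hxW a) =
        X.presheaf.germ W η hηW a :=
      congr($(TopCat.Presheaf.germ_stalkSpecializes X.presheaf hxW h) a)
    rw [h1]
    exact algebraMap_germ g W η hηW a
  rw [hcomp, ← gm_res g hWV' η hηW b, ← Polynomial.hom_eval₂, hpb, map_zero]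

/-- the comparison of the stalk of the direct image with the stalk upstairs -/
noncomputable def psi (ξ : X') : Bst g (g ξ) ⟶ X'.presheaf.stalk ξ :=
  X'.presheaf.stalkPushforward CommRingCat g.base ξ

theorem psi_gm (ξ : X') (V : X.Opens) (hξ : g ξ ∈ V) (b : Γ(X', g ⁻¹ᵁ V)) :
    psi g ξ (gm g V (g ξ) hξ b) = X'.presheaf.germ (g ⁻¹ᵁ V) ξ hξ b :=
  congr($(TopCat.Presheaf.stalkPushforward_germ CommRingCat g.base X'.presheaf V ξ hξ) b)

theorem stMap_psi (ξ : X') : stMap g (g ξ) ≫ psi g ξ = g.stalkMap ξ := rfl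

theorem nontrivial_Bst [Surjective g] (η : X) : Nontrivial (Bst g η) := by
  obtain ⟨ξ, rfl⟩ := g.surjective η
  exact (psi g ξ).hom.domain_nontrivial

end Groth.Agent.Lib.H3.MixStalk
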