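import Groth.Agent.Lib.Helper3.GrTildeTwist

/-!
# `M~ ⊗ O(n) ≅ M(n)~` over an open covered by unit fractions of degree `n`
-/

set_option autoImplicit false
set_option linter.unusedSectionVars false
universe u
open CategoryTheory CategoryTheory.Limits AlgebraicGeometry TopologicalSpace Opposite
open Scheme.Modules

namespace Groth.Agent.Lib.Helper3.MmulRestrict

open QCSec InvGen InvTensor TensorDesc TwistBasic TwistMul GrTildeQC GrTildeTwist

variable {R A : Type u} [CommRing R] [CommRing A] [Algebra R A] {𝒜 : ℕ → Submodule R A}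
  [GradedAlgebra 𝒜] {M : Type u} [AddCommGroup M] [Module R M] [Module A M]
  {ℳ : ℕ → Submodule R M} [SetLike.GradedSMul 𝒜 ℳ]

theorem mmulHom_app_bijective {m n k : ℤ} (hk : n + m = k) {U : (Proj 𝒜).Opens}
    (hU : HasUnitFrac n U) (V : (Proj 𝒜).Opens) (hV : V ≤ U) :
    Function.Bijective ((mmulHom (𝒜 := 𝒜) (ℳ := ℳ) hk).app V) := by
  obtain ⟨i, j, a, b, ha, hb, hd⟩ := hU
  have hg := isGen_frac U a b ha hb n hd
  have h1 := tm_gen_bijective (GrTilde.tilde 𝒜 ℳ m) (Twist.twist 𝒜 n) hg V hV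
  have h2 := mmulSec_frac_bijective (ℳ := ℳ) hk V a b (fun x => ha ⟨x.1, hV x.2⟩)
    (fun x => hb ⟨x.1, hV x.2⟩) hd
  have h3 : (fun s : Γ(GrTilde.tilde 𝒜 ℳ m, V) => mmulSec hk s (frac V a b
      (fun x => hb ⟨x.1, hV x.2⟩) n hd)) =
      ((mmulHom hk).app V) ∘ (fun t : Γ(GrTilde.tilde 𝒜 ℳ m, V) =>
        tm (GrTilde.tilde 𝒜 ℳ m) (Twist.twist 𝒜 n) V t (res (Twist.twist 𝒜 n) hV
          (frac U a b hb n hd))) := by
    funext s
    change _ = (mmulHom hk).app V (tm _ _ V s _)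
    rw [mmulHom_tm, res_frac]
  rw [h3] at h2
  exact (Function.Bijective.of_comp_iff _ h1).mp h2

/-- over an open `W` covered by opens carrying unit fractions of degree `n`, the multiplication
`M(m)~ ⊗ O(n) → M(n+m)~` restricts to an isomorphism -/
theorem isIso_restrict_mmulHom {m n k : ℤ} (hk : n + m = k) (W : (Proj 𝒜).Opens)
    (h : ∀ x ∈ W, ∃ U : (Proj 𝒜).Opens, x ∈ U ∧ HasUnitFrac n U) :
    IsIso ((Scheme.Modules.restrictFunctor W.ι).map (mmulHom (𝒜 := 𝒜) (ℳ := ℳ) hk)) := by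
  apply isIso_of_locally_bijective
  intro x
  obtain ⟨U, hxU, hU⟩ := h (W.ι x) x.2
  refine ⟨W.ι ⁻¹ᵁ U, hxU, fun V' hV' => ?_⟩
  have hle : W.ι ''ᵁ V' ≤ U := by
    rintro _ ⟨y, hy, rfl⟩
    exact hV' hy
  exact mmulHom_app_bijective (ℳ := ℳ) hk hU (W.ι ''ᵁ V') hle

end Groth.Agent.Lib.Helper3.MmulRestrict
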