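import Groth.Agent.Lib.Helper3.QCSec

/-!
# Sections of a multiequalizer of `O_X`-modules
-/

set_option autoImplicit false
universe u
open CategoryTheory CategoryTheory.Limits AlgebraicGeometry TopologicalSpace Opposite
open Scheme.Modules

namespace Groth.Agent.Lib.Helper3.ModLimSec

variable {X : Scheme.{u}} {J : MulticospanShape.{u, u}} (I : MulticospanIndex J X.Modules)

/-- sections over `W`, as a functor to types -/
noncomputable def G (W : X.Opens) : X.Modules ⥤ Type u :=
  Scheme.Modules.toPresheaf X ⋙ (CategoryTheory.evaluation _ _).obj (op W) ⋙ forget Ab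

noncomputable instance (W : X.Opens) : PreservesLimitsOfSize.{u, u} (G (X := X) W) := by
  unfold G
  haveI : PreservesLimitsOfSize.{u, u}
      ((CategoryTheory.evaluation (Opens X)ᵒᵖ Ab.{u}).obj (op W) ⋙ forget Ab.{u}) :=
    comp_preservesLimits _ _
  exact comp_preservesLimits _ _

theorem exists_section (W : X.Opens) (x : ∀ i : J.L, Γ(I.left i, W))
    (hx : ∀ b : J.R, (I.fst b).app W (x _) = (I.snd b).app W (x _)) :
    ∃ σ : Γ(multiequalizer I, W), ∀ i, (Multiequalizer.ι I i).app W σ = x i := by
  have hl := isLimitOfPreserves (G W) (limit.isLimit I.multicospan)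
  let e := Types.isLimitEquivSections hl
  let y : (I.multicospan ⋙ G W).sections :=
    { val := fun j =>
        match j with
        | WalkingMulticospan.left a => x a
        | WalkingMulticospan.right b => (I.fst b).app W (x _)
      property := by
        rintro (a | b) (a' | b') (f | f | f)
        · simp only [WalkingMulticospan.Hom.id_eq_id]; rfl
        · rfl
        · exact (hx b').symm
        · simp only [WalkingMulticospan.Hom.id_eq_id]; rfl }
  refine ⟨e.symm y, fun i => ?_⟩
  exact Types.isLimitEquivSections_symm_apply hl y (WalkingMulticospan.left i)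

theorem section_ext (W : X.Opens) (σ σ' : Γ(multiequalizer I, W))
    (h : ∀ i, (Multiequalizer.ι I i).app W σ = (Multiequalizer.ι I i).app W σ') : σ = σ' := by
  have hl := isLimitOfPreserves (G W) (limit.isLimit I.multicospan)
  apply (Types.isLimitEquivSections hl).injective
  apply Subtype.ext
  funext j
  rcases j with a | b
  · exact h a
  · have h1 := h (J.fst b)
    have h2 : ∀ τ : Γ(multiequalizer I, W),
        (Types.isLimitEquivSections hl τ).1 (WalkingMulticospan.right b) =
          (I.fst b).app W ((Multiequalizer.ι I (J.fst b)).app W τ) := by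
      intro τ
      have := (Types.isLimitEquivSections hl τ).2 (WalkingMulticospan.Hom.fst b)
      exact this.symm
    rw [h2, h2, h1]

end Groth.Agent.Lib.Helper3.ModLimSec
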