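import Mathlib
import Groth.Prelude.Def_RelProj

/-!
# `Proj S → Proj (S♮ ⊗_S S₀)`
-/

set_option autoImplicit false
universe u
open CategoryTheory AlgebraicGeometry
open scoped HomogeneousIdeal

namespace Groth.Agent.Lib.Helper3.NatTensor

section sge

variable {R A : Type u} [CommRing R] [CommRing A] [Algebra R A]
  (𝒜 : ℕ → Submodule R A) [GradedAlgebra 𝒜]

/-- `S_[n] = ⊕_{m ≥ n} S_m` -/
def Sge (n : ℕ) : Submodule R A := ⨆ (m : ℕ) (_ : n ≤ m), 𝒜 m

/-- elements whose components of degree `< n` vanish -/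
def T (n : ℕ) : Submodule R A where
  carrier := {a | ∀ k < n, (DirectSum.decompose 𝒜 a k : A) = 0}
  add_mem' := by
    intro a b ha hb k hk
    rw [DirectSum.decompose_add, DirectSum.add_apply, Submodule.coe_add, ha k hk, hb k hk,
      add_zero]
  zero_mem' := by
    intro k _
    rw [DirectSum.decompose_zero, DirectSum.zero_apply, ZeroMemClass.coe_zero]
  smul_mem' := by
    intro r a ha k hk
    rw [DirectSum.decompose_smul, DirectSum.smul_apply, Submodule.coe_smul, ha k hk, smul_zero]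

theorem mem_Sge_iff (n : ℕ) (a : A) :
    a ∈ Sge 𝒜 n ↔ ∀ k < n, (DirectSum.decompose 𝒜 a k : A) = 0 := by
  classical
  constructor
  · intro ha
    have hle : Sge 𝒜 n ≤ T 𝒜 n := by
      refine iSup₂_le (fun m hm => ?_)
      intro x hx k hk
      exact DirectSum.decompose_of_mem_ne 𝒜 hx (by omega)
    exact hle ha
  · intro ha
    rw [← DirectSum.sum_support_decompose 𝒜 a]
    refine sum_mem (fun k _ => ?_)
    by_cases h : k < n
    · rw [ha k h]; exact zero_mem _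
    · exact (le_iSup₂ (f := fun m (_ : n ≤ m) => 𝒜 m) k (not_lt.1 h)) (SetLike.coe_mem _)

theorem mem_Sge_of_mem {n m : ℕ} (h : n ≤ m) {a : A} (ha : a ∈ 𝒜 m) : a ∈ Sge 𝒜 n :=
  (le_iSup₂ (f := fun m (_ : n ≤ m) => 𝒜 m) m h) ha

theorem mul_mem_Sge {p q : ℕ} {a a' : A} (ha : a ∈ Sge 𝒜 p) (ha' : a' ∈ Sge 𝒜 q) :
    a * a' ∈ Sge 𝒜 (p + q) := by
  classical
  rw [mem_Sge_iff] at ha ha'
  rw [← DirectSum.sum_support_decompose 𝒜 a, ← DirectSum.sum_support_decompose 𝒜 a',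
    Finset.sum_mul_sum]
  refine sum_mem (fun i _ => sum_mem (fun j _ => ?_))
  by_cases hi : i < p
  · rw [ha i hi, zero_mul]; exact zero_mem _
  by_cases hj : j < q
  · rw [ha' j hj, mul_zero]; exact zero_mem _
  exact mem_Sge_of_mem 𝒜 (by omega)
    (SetLike.mul_mem_graded (SetLike.coe_mem (DirectSum.decompose 𝒜 a i))
      (SetLike.coe_mem (DirectSum.decompose 𝒜 a' j)))

theorem pow_mem_Sge {p : ℕ} {a : A} (ha : a ∈ Sge 𝒜 p) (k : ℕ) : a ^ k ∈ Sge 𝒜 (k * p) := by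
  induction k with
  | zero =>
    rw [pow_zero, zero_mul]
    exact (mem_Sge_iff 𝒜 0 1).2 (fun k hk => absurd hk (Nat.not_lt_zero k))
  | succ k ih =>
    rw [pow_succ, Nat.succ_mul]
    exact mul_mem_Sge 𝒜 ih ha

end sge

section main

variable {R A B C : Type u} [CommRing R] [CommRing A] [Algebra R A]
  (𝒜 : ℕ → Submodule R A) [GradedAlgebra 𝒜] [CommRing B] [Algebra R B]
  (ℬ : ℕ → Submodule R B) [GradedAlgebra ℬ]
  (φ : B →ₐ[R] Polynomial A) (hφ : Function.Injective φ)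
  (hdeg : ∀ n : ℕ, Submodule.map φ.toLinearMap (ℬ n) =
    Submodule.map ((Polynomial.monomial n : A →ₗ[A] Polynomial A).restrictScalars R)
      (⨆ (m : ℕ) (_ : n ≤ m), 𝒜 m))
  [CommRing C] [Algebra R C] (𝒞 : ℕ → Submodule R C) [GradedAlgebra 𝒞]
  (π : ℬ →+*ᵍ 𝒞) (hπ : Function.Surjective π)
  (hker : RingHom.ker π.toRingHom =
    Ideal.span (⇑φ ⁻¹' (⇑(Polynomial.C : A →+* Polynomial A) ''
      ((HomogeneousIdeal.irrelevant 𝒜).toIdeal : Set A))))
  (ρ : 𝒞 →+*ᵍ 𝒜)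
  (hρ : ∀ (n : ℕ) (b : B), b ∈ ℬ n → ρ (π b) = GradedRing.proj 𝒜 n ((φ b).coeff n))

include hdeg in
theorem exists_of_mem_Sge {n : ℕ} {a : A} (ha : a ∈ Sge 𝒜 n) :
    ∃ b ∈ ℬ n, φ b = Polynomial.monomial n a := by
  have h : Polynomial.monomial n a ∈ Submodule.map
      ((Polynomial.monomial n : A →ₗ[A] Polynomial A).restrictScalars R)
      (⨆ (m : ℕ) (_ : n ≤ m), 𝒜 m) := ⟨a, ha, rfl⟩
  rw [← hdeg n] at h
  obtain ⟨b, hb, hb'⟩ := h
  exact ⟨b, hb, hb'⟩

include hdeg in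
theorem exists_of_mem_deg {n : ℕ} {b : B} (hb : b ∈ ℬ n) :
    ∃ a ∈ Sge 𝒜 n, φ b = Polynomial.monomial n a := by
  have h : φ b ∈ Submodule.map φ.toLinearMap (ℬ n) := ⟨b, hb, rfl⟩
  rw [hdeg n] at h
  obtain ⟨a, ha, ha'⟩ := h
  exact ⟨a, ha, ha'.symm⟩

include hker in
theorem map_eq_zero_of_C {b : B} {a : A} (hb : φ b = Polynomial.C a)
    (ha : a ∈ (HomogeneousIdeal.irrelevant 𝒜).toIdeal) : π b = 0 := by
  have : b ∈ RingHom.ker π.toRingHom := by
    rw [hker]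
    exact Ideal.subset_span ⟨a, ha, hb.symm⟩
  exact this

include hdeg hρ in
theorem rho_surjective : Function.Surjective ρ := by
  classical
  intro a
  have h : ∀ k, ∃ c, ρ c = (DirectSum.decompose 𝒜 a k : A) := by
    intro k
    have hk : (DirectSum.decompose 𝒜 a k : A) ∈ Sge 𝒜 k :=
      mem_Sge_of_mem 𝒜 le_rfl (SetLike.coe_mem _)
    obtain ⟨b, hb, hb'⟩ := exists_of_mem_Sge 𝒜 ℬ φ hdeg hk
    refine ⟨π b, ?_⟩
    rw [hρ k b hb, hb', Polynomial.coeff_monomial, if_pos rfl, GradedRing.proj_apply,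
      DirectSum.decompose_of_mem_same 𝒜 (SetLike.coe_mem _)]
  choose c hc using h
  refine ⟨∑ k ∈ (DirectSum.decompose 𝒜 a).support, c k, ?_⟩
  rw [map_sum]
  conv_rhs => rw [← DirectSum.sum_support_decompose 𝒜 a]
  exact Finset.sum_congr rfl (fun k _ => hc k)

include hφ hdeg hπ hker hρ in
theorem pow_eq_zero_of_rho_eq_zero {n : ℕ} {c : C} (hc : c ∈ 𝒞 n) (h0 : ρ c = 0) :
    c ^ (n + 1) = 0 := by
  classical
  obtain ⟨b₀, rfl⟩ := hπ c
  set b : B := (DirectSum.decompose ℬ b₀ n : B) with hbdef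
  have hb : b ∈ ℬ n := SetLike.coe_mem _
  have hπb : π b = π b₀ := by
    rw [hbdef, GradedRingHom.map_directSumDecompose, DirectSum.decompose_of_mem_same 𝒞 hc]
  rw [← hπb] at h0 ⊢
  obtain ⟨a, ha, hab⟩ := exists_of_mem_deg 𝒜 ℬ φ hdeg hb
  have hpn : (DirectSum.decompose 𝒜 a n : A) = 0 := by
    have := hρ n b hb
    rw [h0, hab, Polynomial.coeff_monomial, if_pos rfl, GradedRing.proj_apply] at this
    exact this.symm
  have ha1 : a ∈ Sge 𝒜 (n + 1) := by
    rw [mem_Sge_iff] at ha ⊢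
    intro k hk
    rcases Nat.lt_succ_iff_lt_or_eq.1 hk with h | h
    · exact ha k h
    · rw [h]; exact hpn
  have hairr : a ∈ (HomogeneousIdeal.irrelevant 𝒜).toIdeal := by
    refine (HomogeneousIdeal.mem_irrelevant_iff 𝒜 a).2 ?_
    rw [GradedRing.proj_apply]
    exact (mem_Sge_iff 𝒜 _ a).1 ha1 0 (Nat.succ_pos n)
  obtain ⟨c0, -, hc0⟩ := exists_of_mem_Sge 𝒜 ℬ φ hdeg
    ((mem_Sge_iff 𝒜 0 a).2 (fun k hk => absurd hk (Nat.not_lt_zero k)))
  have hπc0 : π c0 = 0 := by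
    refine map_eq_zero_of_C 𝒜 ℬ φ 𝒞 π hker (a := a) ?_ hairr
    rw [hc0, Polynomial.monomial_zero_left]
  obtain ⟨b', -, hb'⟩ := exists_of_mem_Sge 𝒜 ℬ φ hdeg (pow_mem_Sge 𝒜 ha1 n)
  have key : b ^ (n + 1) = c0 * b' := by
    apply hφ
    rw [map_pow, map_mul, hab, hc0, hb', Polynomial.monomial_pow, Polynomial.monomial_zero_left,
      Polynomial.C_mul_monomial, ← pow_succ', mul_comm n (n + 1)]
  rw [← map_pow, key, map_mul, hπc0, zero_mul]

include hφ hdeg hπ hker hρ in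
theorem mem_of_rho_eq_zero (y : ProjectiveSpectrum 𝒞) {c : C} (h0 : ρ c = 0) :
    c ∈ y.asHomogeneousIdeal := by
  classical
  rw [← DirectSum.sum_support_decompose 𝒞 c]
  refine sum_mem (fun k _ => ?_)
  have h1 : ρ (DirectSum.decompose 𝒞 c k : C) = 0 := by
    rw [GradedRingHom.map_directSumDecompose, h0, DirectSum.decompose_zero, DirectSum.zero_apply,
      ZeroMemClass.coe_zero]
  have h2 := pow_eq_zero_of_rho_eq_zero 𝒜 ℬ φ hφ hdeg 𝒞 π hπ hker ρ hρ
    (SetLike.coe_mem (DirectSum.decompose 𝒞 c k)) h1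
  refine y.isPrime.mem_of_pow_mem (k + 1) ?_
  rw [h2]
  exact zero_mem _

include hφ hdeg hπ hker hρ in
theorem bijective (hirr : HomogeneousIdeal.irrelevant 𝒜 ≤ (HomogeneousIdeal.irrelevant 𝒞).map ρ) :
    Function.Bijective (Proj.map ρ hirr).base := by
  have hsurj := rho_surjective 𝒜 ℬ φ hdeg 𝒞 π ρ hρ
  have hkerρ : ∀ (y : ProjectiveSpectrum 𝒞) (c : C), ρ c = 0 → c ∈ y.asHomogeneousIdeal :=
    fun y c h0 => mem_of_rho_eq_zero 𝒜 ℬ φ hφ hdeg 𝒞 π hπ hker ρ hρ y h0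
  constructor
  · intro y₁ y₂ h
    have h' : ∀ c : C, ρ c ∈ (y₁ : ProjectiveSpectrum 𝒜).asHomogeneousIdeal ↔
        ρ c ∈ (y₂ : ProjectiveSpectrum 𝒜).asHomogeneousIdeal := by
      intro c
      have e := congrArg (fun y : ProjectiveSpectrum 𝒞 => c ∈ y.asHomogeneousIdeal) h
      exact Iff.of_eq e
    refine ProjectiveSpectrum.ext (HomogeneousIdeal.toIdeal_injective (Ideal.ext fun a => ?_))
    obtain ⟨c, rfl⟩ := hsurj a
    exact h' c
  · intro y
    have hkle : RingHom.ker ρ.toRingHom ≤ y.asHomogeneousIdeal.toIdeal := fun c hc => hkerρ y c hc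
    have hprime : (y.asHomogeneousIdeal.map ρ).toIdeal.IsPrime :=
      Ideal.map_isPrime_of_surjective (f := ρ.toRingHom) hsurj hkle
    have hmem : ∀ c : C, ρ c ∈ (y.asHomogeneousIdeal.map ρ).toIdeal → c ∈ y.asHomogeneousIdeal := by
      intro c hc
      obtain ⟨c', hc', hcc'⟩ := (Ideal.mem_map_iff_of_surjective ρ.toRingHom hsurj).1 hc
      have h1 : ρ (c - c') = 0 := by
        rw [map_sub]
        exact sub_eq_zero.2 hcc'.symm
      have h2 := hkerρ y _ h1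
      have h3 : c = (c - c') + c' := by ring
      rw [h3]
      exact add_mem h2 hc'
    have hrel : ¬ HomogeneousIdeal.irrelevant 𝒜 ≤ y.asHomogeneousIdeal.map ρ := by
      intro hle
      apply y.not_irrelevant_le
      rw [HomogeneousIdeal.irrelevant_le]
      intro i hi c hc
      refine hmem c (hle ?_)
      exact HomogeneousIdeal.mem_irrelevant_of_mem _ hi (ρ.2 hc)
    refine ⟨(⟨y.asHomogeneousIdeal.map ρ, hprime, hrel⟩ : ProjectiveSpectrum 𝒜), ?_⟩
    refine ProjectiveSpectrum.ext (HomogeneousIdeal.toIdeal_injective (Ideal.ext fun c => ?_))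
    constructor
    · intro hc
      exact hmem c hc
    · intro hc
      exact Ideal.mem_map_of_mem ρ.toRingHom hc

end main

end Groth.Agent.Lib.Helper3.NatTensor
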