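import Groth.Agent.Lib.Helper3.NatTensor
import Groth.Agent.Lib.Helper6.ProjMap

/-!
# `Proj S → Proj (S♮ ⊗_S S₀)` is an isomorphism when `S` is eventually generated in degree one
-/

set_option autoImplicit false
universe u
open CategoryTheory AlgebraicGeometry HomogeneousLocalization
open scoped HomogeneousIdeal

namespace Groth.Agent.Lib.Helper3.NatTensorIso

open Groth.Agent.Lib.Helper3.NatTensor Groth.Agent.Lib.Helper6

section generic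

variable {A B σ τ : Type u} [CommRing A] [SetLike σ A] [AddSubgroupClass σ A]
  [CommRing B] [SetLike τ B] [AddSubgroupClass τ B]
  {𝒜 : ℕ → σ} {ℬ : ℕ → τ} [GradedRing 𝒜] [GradedRing ℬ] (ψ : 𝒜 →+*ᵍ ℬ)

theorem away_map_injective_of_tn (n : ℕ)
    (hinj : ∀ k, n ≤ k → ∀ x ∈ 𝒜 k, ψ x = 0 → x = 0) {d : ℕ} (hd : 0 < d)
    {s : A} (hs : s ∈ 𝒜 d) : Function.Injective (Away.map ψ s) := by
  rw [injective_iff_map_eq_zero]
  intro z hz
  obtain ⟨m, a, ha, rfl⟩ := Away.mk_surjective 𝒜 hs z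
  rw [Away.map_mk] at hz
  have h1 := congrArg HomogeneousLocalization.val hz
  rw [Away.val_mk, val_zero, Localization.mk_eq_mk', IsLocalization.mk'_eq_zero_iff] at h1
  obtain ⟨⟨_, N, rfl⟩, hN⟩ := h1
  have hN' : ψ s ^ N * ψ a = 0 := hN
  have hmem : s ^ (N + n) * a ∈ 𝒜 ((N + n) • d + m • d) :=
    SetLike.mul_mem_graded (SetLike.pow_mem_graded _ hs) ha
  have hle : n ≤ (N + n) • d + m • d := by
    rw [smul_eq_mul, smul_eq_mul]
    nlinarith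
  have hzero : ψ (s ^ (N + n) * a) = 0 := by
    have e : ψ (s ^ (N + n) * a) = ψ s ^ n * (ψ s ^ N * ψ a) := by
      rw [map_mul, map_pow, pow_add]; ring
    rw [e, hN', mul_zero]
  have := hinj _ hle _ hmem hzero
  apply HomogeneousLocalization.val_injective
  rw [Away.val_mk, val_zero, Localization.mk_eq_mk', IsLocalization.mk'_eq_zero_iff]
  exact ⟨⟨s ^ (N + n), N + n, rfl⟩, this⟩

theorem isIso_proj_map (hψ : HomogeneousIdeal.irrelevant ℬ ≤ (HomogeneousIdeal.irrelevant 𝒜).map ψ)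
    (hsurj : Function.Surjective ψ) (n : ℕ)
    (hinj : ∀ k, n ≤ k → ∀ x ∈ 𝒜 k, ψ x = 0 → x = 0) : IsIso (Proj.map ψ hψ) := by
  rw [← MorphismProperty.isomorphisms.iff]
  refine proj_map_of_forall_away ψ hψ (MorphismProperty.isomorphisms Scheme.{u})
    (fun i hi s hs => ?_)
  rw [MorphismProperty.isomorphisms.iff]
  have hbij : Function.Bijective (Away.map ψ s) :=
    ⟨away_map_injective_of_tn ψ n hinj hi hs, awayMap_surjective ψ hsurj hs⟩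
  haveI : IsIso (CommRingCat.ofHom (Away.map ψ s)) :=
    (ConcreteCategory.isIso_iff_bijective _).mpr hbij
  change IsIso (Spec.map (CommRingCat.ofHom (Away.map ψ s)))
  infer_instance

end generic

section main

variable {R A B C : Type u} [CommRing R] [CommRing A] [Algebra R A]
  (𝒜 : ℕ → Submodule R A) [GradedAlgebra 𝒜] [CommRing B] [Algebra R B]
  (ℬ : ℕ → Submodule R B) [GradedAlgebra ℬ]
  (φ : B →ₐ[R] Polynomial A) (hφ : Function.Injective φ)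
  (hdeg : ∀ n : ℕ, Submodule.map φ.toLinearMap (ℬ n) =
    Submodule.map ((Polynomial.monomial n : A →ₗ[A] Polynomial A).restrictScalars R)
      (⨆ (m : ℕ) (_ : n ≤ m), 𝒜 m))
  [CommRing C] [Algebra R C] (𝒞 : ℕ → Submodule R C) [GradedAlgebra 𝒞]
  (π : ℬ →+*ᵍ 𝒞) (hπ : Function.Surjective π)
  (hker : RingHom.ker π.toRingHom =
    Ideal.span (⇑φ ⁻¹' (⇑(Polynomial.C : A →+* Polynomial A) ''
      ((HomogeneousIdeal.irrelevant 𝒜).toIdeal : Set A))))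
  (ρ : 𝒞 →+*ᵍ 𝒜)
  (hρ : ∀ (n : ℕ) (b : B), b ∈ ℬ n → ρ (π b) = GradedRing.proj 𝒜 n ((φ b).coeff n))

theorem Sge_succ_le (n₀ : ℕ) (hgen : ∀ n : ℕ, n₀ ≤ n → 𝒜 (n + 1) = 𝒜 1 * 𝒜 n) {n : ℕ}
    (hn : n₀ ≤ n) : Sge 𝒜 (n + 1) ≤ 𝒜 1 * Sge 𝒜 n := by
  refine iSup₂_le (fun m hm => ?_)
  obtain ⟨m', rfl⟩ : ∃ m', m = m' + 1 := ⟨m - 1, by omega⟩
  rw [hgen m' (by omega)]
  have hle : 𝒜 m' ≤ Sge 𝒜 n := le_iSup₂ (f := fun m (_ : n ≤ m) => 𝒜 m) m' (by omega)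
  exact Submodule.mul_le.2 (fun s hs t ht => Submodule.mul_mem_mul hs (hle ht))

include hdeg hker in
theorem exists_ker_of_mem_mul (n : ℕ) {a : A} (ha : a ∈ 𝒜 1 * Sge 𝒜 n) :
    ∃ b, π b = 0 ∧ φ b = Polynomial.monomial n a := by
  refine Submodule.mul_induction_on ha ?_ ?_
  · intro s hs t ht
    obtain ⟨c0, -, hc0⟩ := exists_of_mem_Sge 𝒜 ℬ φ hdeg
      ((mem_Sge_iff 𝒜 0 s).2 (fun k hk => absurd hk (Nat.not_lt_zero k)))
    obtain ⟨bt, -, hbt⟩ := exists_of_mem_Sge 𝒜 ℬ φ hdeg ht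
    have h0 : π c0 = 0 := by
      refine map_eq_zero_of_C 𝒜 ℬ φ 𝒞 π hker (a := s) ?_
        (HomogeneousIdeal.mem_irrelevant_of_mem _ one_pos hs)
      rw [hc0, Polynomial.monomial_zero_left]
    refine ⟨c0 * bt, by rw [map_mul, h0, zero_mul], ?_⟩
    rw [map_mul, hc0, hbt, Polynomial.monomial_zero_left, Polynomial.C_mul_monomial]
  · rintro x y ⟨bx, hbx, hx⟩ ⟨by', hby, hy⟩
    exact ⟨bx + by', by rw [map_add, hbx, hby, add_zero], by rw [map_add, hx, hy, map_add]⟩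

include hφ hdeg hπ hker hρ in
theorem eq_zero_of_rho_eq_zero (n₀ : ℕ) (hgen : ∀ n : ℕ, n₀ ≤ n → 𝒜 (n + 1) = 𝒜 1 * 𝒜 n)
    {n : ℕ} (hn : n₀ ≤ n) {c : C} (hc : c ∈ 𝒞 n) (h0 : ρ c = 0) : c = 0 := by
  classical
  obtain ⟨b₀, rfl⟩ := hπ c
  set b : B := (DirectSum.decompose ℬ b₀ n : B) with hbdef
  have hb : b ∈ ℬ n := SetLike.coe_mem _
  have hπb : π b = π b₀ := by
    rw [hbdef, GradedRingHom.map_directSumDecompose, DirectSum.decompose_of_mem_same 𝒞 hc]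
  rw [← hπb] at h0 ⊢
  obtain ⟨a, ha, hab⟩ := exists_of_mem_deg 𝒜 ℬ φ hdeg hb
  have hpn : (DirectSum.decompose 𝒜 a n : A) = 0 := by
    have := hρ n b hb
    rw [h0, hab, Polynomial.coeff_monomial, if_pos rfl, GradedRing.proj_apply] at this
    exact this.symm
  have ha1 : a ∈ Sge 𝒜 (n + 1) := by
    rw [mem_Sge_iff] at ha ⊢
    intro k hk
    rcases Nat.lt_succ_iff_lt_or_eq.1 hk with h | h
    · exact ha k h
    · rw [h]; exact hpn
  obtain ⟨b', hb'0, hb'⟩ := exists_ker_of_mem_mul 𝒜 ℬ φ hdeg 𝒞 π hker n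
    (Sge_succ_le 𝒜 n₀ hgen hn ha1)
  have : b = b' := hφ (hab.trans hb'.symm)
  rw [this, hb'0]

include hφ hdeg hπ hker hρ in
theorem isIso (hirr : HomogeneousIdeal.irrelevant 𝒜 ≤ (HomogeneousIdeal.irrelevant 𝒞).map ρ)
    (hgen : ∃ n₀ : ℕ, ∀ n : ℕ, n₀ ≤ n → 𝒜 (n + 1) = 𝒜 1 * 𝒜 n) :
    IsIso (Proj.map ρ hirr) := by
  obtain ⟨n₀, hgen⟩ := hgen
  exact isIso_proj_map ρ hirr (rho_surjective 𝒜 ℬ φ hdeg 𝒞 π ρ hρ) n₀
    (fun k hk x hx hx0 => eq_zero_of_rho_eq_zero 𝒜 ℬ φ hφ hdeg 𝒞 π hπ hker ρ hρ n₀ hgen hk hx hx0)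

end main

end Groth.Agent.Lib.Helper3.NatTensorIso
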