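import Groth.Agent.Lib.Helper3.NormInv
import Groth.Agent.Lib.Helper16.Norm.QAff

/-!
# The norm of an invertible module along a finite morphism with an (axiomatic) norm of degree `d`
-/

set_option autoImplicit false
set_option linter.unusedSectionVars false
universe u
open CategoryTheory CategoryTheory.Limits AlgebraicGeometry TopologicalSpace Opposite
open Scheme.Modules

namespace Groth.Agent.Lib.H3.NormAx

open Groth.Agent.Lib.Helper3
open QCSec InvGen InvTensor InvMonoidal InvAmple PbBasic RelNorm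

variable {X X' : Scheme.{u}} {g : X' ⟶ X} {d : ℕ} (𝒩 : Nrm.NormOfDegree g d) (L' : X'.Modules)

/-- the norm on sections -/
def nm (V : X.Opens) (b : Γ(X', g ⁻¹ᵁ V)) : Γ(X, V) := 𝒩.norm V b

theorem nm_mul (V : X.Opens) (b b' : Γ(X', g ⁻¹ᵁ V)) :
    nm 𝒩 V (b * b') = nm 𝒩 V b * nm 𝒩 V b' := map_mul (𝒩.norm V) b b'

theorem nm_one (V : X.Opens) : nm 𝒩 V 1 = 1 := map_one (𝒩.norm V)

theorem nm_pow (V : X.Opens) (b : Γ(X', g ⁻¹ᵁ V)) (m : ℕ) :
    nm 𝒩 V (b ^ m) = nm 𝒩 V b ^ m := map_pow (𝒩.norm V) b m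

theorem isUnit_nm (V : X.Opens) {b : Γ(X', g ⁻¹ᵁ V)} (hb : IsUnit b) : IsUnit (nm 𝒩 V b) :=
  hb.map (𝒩.norm V)

theorem rres_nm {V V' : X.Opens} (h : V' ≤ V) (b : Γ(X', g ⁻¹ᵁ V)) :
    rres X h (nm 𝒩 V b) = nm 𝒩 V' (rres X' (preimage_mono' g h) b) :=
  𝒩.norm_res (homOfLE h) b

theorem preimage_basicOpen_nm_le (V : X.Opens) (b : Γ(X', g ⁻¹ᵁ V)) :
    g ⁻¹ᵁ X.basicOpen (nm 𝒩 V b) ≤ X'.basicOpen b := by
  intro z hz
  obtain ⟨hzV, h1⟩ := (Scheme.mem_basicOpen'' X _ _).mp hz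
  refine (Scheme.mem_basicOpen'' X' b z).mpr ⟨hzV, ?_⟩
  by_contra h2
  have h3 := 𝒩.norm_mem V b z hzV ((IsLocalRing.mem_maximalIdeal _).mpr (mem_nonunits_iff.mpr h2))
  exact (mem_nonunits_iff.mp ((IsLocalRing.mem_maximalIdeal _).mp h3)) h1

/-- a chart trivialising `L'` over the preimage of an open of `X` -/
structure AChart (g : X' ⟶ X) (L' : X'.Modules) where
  /-- the open -/
  U : X.Opens
  /-- a generator of `L'` over the preimage -/
  lam : Γ(L', g ⁻¹ᵁ U)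
  hlam : IsGen L' (g ⁻¹ᵁ U) lam

variable {L'}

/-- transition function between two charts over an open contained in both -/
noncomputable def trOn (c d : AChart g L') (V : X.Opens) (hc : V ≤ c.U) (hd : V ≤ d.U) :
    Γ(X', g ⁻¹ᵁ V) :=
  Cocycle.coord (d.hlam (g ⁻¹ᵁ V) (preimage_mono' g hd)) (res L' (preimage_mono' g hc) c.lam)

theorem trOn_spec (c d : AChart g L') (V : X.Opens) (hc : V ≤ c.U) (hd : V ≤ d.U) :
    trOn c d V hc hd • res L' (preimage_mono' g hd) d.lam = res L' (preimage_mono' g hc) c.lam :=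
  Cocycle.coord_smul _ _

theorem trOn_eq (c d : AChart g L') (V : X.Opens) (hc : V ≤ c.U) (hd : V ≤ d.U)
    {t : Γ(X', g ⁻¹ᵁ V)}
    (ht : t • res L' (preimage_mono' g hd) d.lam = res L' (preimage_mono' g hc) c.lam) :
    trOn c d V hc hd = t :=
  Cocycle.coord_eq _ ht

theorem trOn_res (c d : AChart g L') {V V' : X.Opens} (h : V' ≤ V) (hc : V ≤ c.U)
    (hd : V ≤ d.U) :
    rres X' (preimage_mono' g h) (trOn c d V hc hd) = trOn c d V' (h.trans hc) (h.trans hd) := by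
  symm
  apply trOn_eq
  have := congrArg (res L' (preimage_mono' g h)) (trOn_spec c d V hc hd)
  rwa [res_smul, res_res, res_res] at this

theorem trOn_mul (c d f : AChart g L') (V : X.Opens) (hc : V ≤ c.U) (hd : V ≤ d.U)
    (hf : V ≤ f.U) :
    trOn c d V hc hd * trOn d f V hd hf = trOn c f V hc hf := by
  symm
  apply trOn_eq
  rw [mul_smul, trOn_spec, trOn_spec]

theorem trOn_self (c : AChart g L') (V : X.Opens) (hc : V ≤ c.U) : trOn c c V hc hc = 1 := by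
  apply trOn_eq
  rw [one_smul]

/-- the norm of the transition function -/
noncomputable def nη (c d : AChart g L') (V : X.Opens) (hc : V ≤ c.U) (hd : V ≤ d.U) : Γ(X, V) :=
  nm 𝒩 V (trOn c d V hc hd)

theorem nη_res (c d : AChart g L') {V V' : X.Opens} (h : V' ≤ V) (hc : V ≤ c.U) (hd : V ≤ d.U) :
    rres X h (nη 𝒩 c d V hc hd) = nη 𝒩 c d V' (h.trans hc) (h.trans hd) := by
  unfold nη
  rw [rres_nm 𝒩 h, trOn_res c d h hc hd]

theorem nη_mul (c d f : AChart g L') (V : X.Opens) (hc : V ≤ c.U) (hd : V ≤ d.U)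
    (hf : V ≤ f.U) :
    nη 𝒩 c d V hc hd * nη 𝒩 d f V hd hf = nη 𝒩 c f V hc hf := by
  unfold nη
  rw [← nm_mul, trOn_mul]

theorem nη_self (c : AChart g L') (V : X.Opens) (hc : V ≤ c.U) : nη 𝒩 c c V hc hc = 1 := by
  unfold nη
  rw [trOn_self, nm_one]

/-- the cocycle of units -/
noncomputable def η (c d : AChart g L') : (Γ(X, c.U ⊓ d.U))ˣ where
  val := nη 𝒩 c d (c.U ⊓ d.U) inf_le_left inf_le_right
  inv := nη 𝒩 d c (c.U ⊓ d.U) inf_le_right inf_le_left
  val_inv := by rw [nη_mul, nη_self]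
  inv_val := by rw [nη_mul, nη_self]

theorem η_cocycle (i j k : AChart g L') :
    rres X (inf_le_inf_right (k.U) inf_le_left : i.U ⊓ j.U ⊓ k.U ≤ i.U ⊓ k.U)
        (η 𝒩 i k : Γ(X, i.U ⊓ k.U)) =
      rres X (inf_le_left : i.U ⊓ j.U ⊓ k.U ≤ i.U ⊓ j.U) (η 𝒩 i j : Γ(X, i.U ⊓ j.U)) *
        rres X (inf_le_inf_right (k.U) inf_le_right : i.U ⊓ j.U ⊓ k.U ≤ j.U ⊓ k.U)
          (η 𝒩 j k : Γ(X, j.U ⊓ k.U)) := by
  change rres X _ (nη 𝒩 i k _ _ _) = rres X _ (nη 𝒩 i j _ _ _) * rres X _ (nη 𝒩 j k _ _ _)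
  rw [nη_res, nη_res, nη_res, nη_mul]

variable (L') in
/-- `N` is a norm of `L'`, witnessed by a compatible family of charts -/
structure NormData (N : X.Modules) where
  /-- index type -/
  ι : Type u
  /-- the charts -/
  c : ι → AChart g L'
  cover : ∀ x : X, ∃ i, x ∈ (c i).U
  /-- generators of `N` -/
  ν : ∀ i, Γ(N, (c i).U)
  hν : ∀ i, IsGen N (c i).U (ν i)
  compat : ∀ i j, res N (inf_le_left : (c i).U ⊓ (c j).U ≤ (c i).U) (ν i) =
    nη 𝒩 (c i) (c j) ((c i).U ⊓ (c j).U) inf_le_left inf_le_right •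
      res N (inf_le_right : (c i).U ⊓ (c j).U ≤ (c j).U) (ν j)

theorem exists_achart [IsFinite g] (hL' : PicF.IsInvertible L') (x : X) :
    ∃ c : AChart g L', x ∈ c.U := by
  obtain ⟨U₂, lam, hxU₂, -, hlam⟩ := TrivFibre.exists_isGen_preimage g hL' x ⊤ trivial
  exact ⟨⟨U₂, lam, hlam⟩, hxU₂⟩

/-- **existence of the norm** of an invertible module -/
theorem exists_normData [IsFinite g] (hL' : PicF.IsInvertible L') :
    ∃ N : X.Modules, PicF.IsInvertible N ∧ Nonempty (NormData 𝒩 L' N) := by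
  have hcov := exists_achart (g := g) hL'
  have hU : iSup (fun c : AChart g L' => c.U) = ⊤ := by
    rw [eq_top_iff]
    intro x _
    obtain ⟨c, hc⟩ := hcov x
    exact Opens.mem_iSup.mpr ⟨c, hc⟩
  obtain ⟨N, s, hN, hs, hrel⟩ :=
    CocycleGlue.main (fun c : AChart g L' => c.U) (η 𝒩) (η_cocycle 𝒩) hU
  exact ⟨N, hN, ⟨⟨AChart g L', id, hcov, s, hs, hrel⟩⟩⟩

variable {𝒩} {N : X.Modules} (D : NormData 𝒩 L' N)

theorem NormData.compat_on (i j : D.ι) (V : X.Opens) (hi : V ≤ (D.c i).U)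
    (hj : V ≤ (D.c j).U) :
    res N hi (D.ν i) = nη 𝒩 (D.c i) (D.c j) V hi hj • res N hj (D.ν j) := by
  have h := congrArg (res N (le_inf hi hj)) (D.compat i j)
  rwa [res_res, res_smul, res_res, nη_res] at h

/-! ### the norm of a section -/

variable {m : ℕ} (s' : Coh.structureModule X' ⟶ CohB1.tensorPow L' m)

/-- the coordinate of `s'` in a chart -/
noncomputable def coordOf (c : AChart g L') : Γ(X', g ⁻¹ᵁ c.U) :=
  Cocycle.coord (isGen_lpow c.hlam m).self (sec s' (g ⁻¹ᵁ c.U))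

theorem coordOf_spec (c : AChart g L') :
    coordOf s' c • lpow L' c.lam m = sec s' (g ⁻¹ᵁ c.U) :=
  Cocycle.coord_smul _ _

/-- the local norm of `s'` in a chart -/
noncomputable def nsec (i : D.ι) : Γ(CohB1.tensorPow N m, (D.c i).U) :=
  nm 𝒩 (D.c i).U (coordOf s' (D.c i)) • lpow N (D.ν i) m

theorem nsec_res_eq (i j : D.ι) (V : X.Opens) (hi : V ≤ (D.c i).U) (hj : V ≤ (D.c j).U) :
    res _ hi (nsec D s' i) = res _ hj (nsec D s' j) := by
  have hcoord : rres X' (preimage_mono' g hj) (coordOf s' (D.c j)) =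
      rres X' (preimage_mono' g hi) (coordOf s' (D.c i)) *
        (trOn (D.c i) (D.c j) V hi hj) ^ m := by
    apply ((isGen_lpow (D.c j).hlam m) (g ⁻¹ᵁ V) (preimage_mono' g hj)).smul_inj
    rw [← res_smul, coordOf_spec, res_sec, mul_smul, lpow_res, ← lpow_smul, trOn_spec,
      ← lpow_res, ← res_smul, coordOf_spec, res_sec]
  unfold nsec
  rw [res_smul, res_smul, rres_nm 𝒩 hi, rres_nm 𝒩 hj, hcoord, nm_mul, nm_pow, lpow_res, lpow_res,
    D.compat_on i j V hi hj, lpow_smul, ← mul_smul]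
  rfl

/-- the local norms glue to a global section of `N^m` -/
theorem exists_normSec :
    ∃ s : Coh.structureModule X ⟶ CohB1.tensorPow N m,
      ∀ i : D.ι, sec s (D.c i).U = nsec D s' i := by
  obtain ⟨τ, hτ⟩ := sec_glue (CohB1.tensorPow N m) (fun i : D.ι => (D.c i).U) ⊤
    (fun _ => le_top)
    (fun x _ => by obtain ⟨i, hi⟩ := D.cover x; exact Opens.mem_iSup.mpr ⟨i, hi⟩)
    (fun i => nsec D s' i) (fun i j => nsec_res_eq D s' i j _ inf_le_left inf_le_right)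
  refine ⟨globalHom _ τ, fun i => ?_⟩
  rw [sec_globalHom]
  exact hτ i

section locus

variable {s'} {s : Coh.structureModule X ⟶ CohB1.tensorPow N m}
  (hs : ∀ i : D.ι, sec s (D.c i).U = nsec D s' i)
include hs

theorem genLocus_inf_chart (i : D.ι) :
    CohB1.genLocus _ s ⊓ (D.c i).U =
      X.basicOpen (nm 𝒩 (D.c i).U (coordOf s' (D.c i))) := by
  apply genLocus_inf_eq_basicOpen s (isGen_lpow (D.hν i) m)
  rw [hs i]
  rfl

omit hs in
theorem genLocus_inf_preimage_chart (c : AChart g L') :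
    CohB1.genLocus _ s' ⊓ g ⁻¹ᵁ c.U = X'.basicOpen (coordOf s' c) :=
  genLocus_inf_eq_basicOpen s' (isGen_lpow c.hlam m) (coordOf s' c) (coordOf_spec s' c).symm

theorem preimage_genLocus_le : g ⁻¹ᵁ CohB1.genLocus _ s ≤ CohB1.genLocus _ s' := by
  intro z' hz'
  obtain ⟨i, hi⟩ := D.cover (g z')
  have h1 : g z' ∈ X.basicOpen (nm 𝒩 (D.c i).U (coordOf s' (D.c i))) := by
    rw [← genLocus_inf_chart D hs i]
    exact ⟨hz', hi⟩
  have h2 : z' ∈ X'.basicOpen (coordOf s' (D.c i)) := preimage_basicOpen_nm_le 𝒩 _ _ h1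
  have h3 : z' ∈ CohB1.genLocus _ s' ⊓ g ⁻¹ᵁ (D.c i).U := by
    rw [genLocus_inf_preimage_chart]
    exact h2
  exact h3.1

theorem le_genLocus_of_chart (i : D.ι) (V : X.Opens) (hV : V ≤ (D.c i).U)
    (hle : g ⁻¹ᵁ V ≤ CohB1.genLocus _ s') : V ≤ CohB1.genLocus _ s := by
  apply le_genLocus
  have h1 : IsGen _ (g ⁻¹ᵁ V) (sec s' (g ⁻¹ᵁ V)) := isGen_sec_of_le s' hle
  have h0 : IsGen _ (g ⁻¹ᵁ V) (res _ (preimage_mono' g hV) (lpow L' (D.c i).lam m)) :=
    (isGen_lpow (D.c i).hlam m).mono _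
  obtain ⟨u, hu, hue⟩ := h0.self.exists_unit h1.self
  have h2 : rres X' (preimage_mono' g hV) (coordOf s' (D.c i)) = u := by
    apply h0.self.smul_inj
    rw [← res_smul, coordOf_spec, res_sec, hue]
  have h3 : IsUnit (rres X hV (nm 𝒩 (D.c i).U (coordOf s' (D.c i)))) := by
    rw [rres_nm 𝒩 hV, h2]
    exact isUnit_nm 𝒩 V hu
  have h4 : sec s V = rres X hV (nm 𝒩 (D.c i).U (coordOf s' (D.c i))) •
      res _ hV (lpow N (D.ν i) m) := by
    rw [← res_sec s hV, hs i]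
    unfold nsec
    rw [res_smul]
  rw [h4]
  exact ((isGen_lpow (D.hν i) m).mono hV).smul_unit h3

end locus

/-- if `g : X' ⟶ X` is finite with a norm of degree `d`, `N` is a norm of the invertible module
`L'` and `L'` is ample, then `N` is ample. -/
theorem isAmple_of_normData [IsFinite g] {L' : X'.Modules}
    {N : X.Modules} (hN : PicF.IsInvertible N) (D : NormData 𝒩 L' N)
    (hA : CohB1.IsAmple L') : CohB1.IsAmple N := by
  haveI : Surjective g := H16QAff.surjective_of_norm g 𝒩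
  haveI : CompactSpace X' := hA.2.1
  haveI := RelAmpleLib.isSeparated_of_isAmple hA
  haveI : CompactSpace X := ⟨by
    have := isCompact_range g.continuous
    rwa [g.surjective.range_eq] at this⟩
  apply isAmple_of_secLocus hN
  intro x
  obtain ⟨V, hV, hxV⟩ := QCProps.exists_affine_nbhd x
  have hfin : (g ⁻¹' {x}).Finite := g.finite_preimage_singleton x
  obtain ⟨n, s', hZs, hsV, -⟩ := Groth.Agent.S2324.result X' _ hA (g ⁻¹' {x}) hfin (g ⁻¹ᵁ V)
    (by
      intro z hz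
      have : g z = x := hz
      change g z ∈ V
      rw [this]
      exact hxV)
  have hclosed : IsClosed (g '' ((CohB1.genLocus _ s' : Set X')ᶜ)) :=
    g.isClosedMap _ (CohB1.genLocus _ s').2.isClosed_compl
  have hxC : x ∉ g '' ((CohB1.genLocus _ s' : Set X')ᶜ) := by
    rintro ⟨z, hz, hzx⟩
    exact hz (hZs hzx)
  let U₀ : X.Opens := ⟨(g '' ((CohB1.genLocus _ s' : Set X')ᶜ))ᶜ, hclosed.isOpen_compl⟩
  obtain ⟨i, hi⟩ := D.cover x
  have hx₀ : x ∈ (D.c i).U ⊓ U₀ := ⟨hi, hxC⟩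
  have hle : g ⁻¹ᵁ ((D.c i).U ⊓ U₀) ≤ CohB1.genLocus _ s' := by
    intro z hz
    by_contra hzs
    exact hz.2 ⟨z, hzs, rfl⟩
  obtain ⟨s, hs⟩ := exists_normSec D s'
  have hxs : x ∈ CohB1.genLocus _ s :=
    le_genLocus_of_chart D hs i ((D.c i).U ⊓ U₀) inf_le_left hle hx₀
  have hsV' : CohB1.genLocus _ s ≤ V := by
    intro z hz
    obtain ⟨w, rfl⟩ := g.surjective z
    exact hsV (preimage_genLocus_le D hs hz)
  refine ⟨CohB1.genLocus _ s, secLocus_of_pos (Nat.succ_pos n) s, hxs, ?_⟩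
  have := isAffineOpen_genLocus_inf (isInvertible_tensorPow hN _) s hV
  rwa [inf_eq_left.mpr hsV'] at this

/-- **Stacks 0BD0**: if `π : X' ⟶ X` is finite with a norm of degree `d` and `X'` has an ample
invertible module, then so does `X`. -/
theorem exists_isAmple_of_hasNorm (g : X' ⟶ X) [IsFinite g] (d : ℕ) (hN : Nrm.HasNorm g d)
    (L' : X'.Modules) (hL' : CohB1.IsAmple L') : ∃ N : X.Modules, CohB1.IsAmple N := by
  obtain ⟨𝒩⟩ := hN
  obtain ⟨N, hN, ⟨D⟩⟩ := exists_normData 𝒩 hL'.1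
  exact ⟨N, isAmple_of_normData hN D hL'⟩

end Groth.Agent.Lib.H3.NormAx
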