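import Groth.Agent.S6267

/-!
# A nonzerodivisor with flat quotient stays a nonzerodivisor after base change

If `t : A` is a nonzerodivisor and `A ⧸ (t)` is flat over `R`, then `t ⊗ 1` is a nonzerodivisor of
`A ⊗[R] R'` for every `R`-algebra `R'`.
-/

set_option autoImplicit false
universe u

namespace Groth.Agent.Lib.Helper3

open scoped TensorProduct

theorem tmul_one_mem_nonZeroDivisors (R A R' : Type u) [CommRing R] [CommRing A] [CommRing R']
    [Algebra R A] [Algebra R R'] (t : A) (ht : t ∈ nonZeroDivisors A)
    (hflat : ((Ideal.Quotient.mk (Ideal.span {t})).comp (algebraMap R A)).Flat) :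
    (t ⊗ₜ[R] (1 : R')) ∈ nonZeroDivisors (A ⊗[R] R') := by
  -- multiplication by `t` as an `R`-linear map
  let μ : A →ₗ[R] A := LinearMap.mulLeft R t
  have hμinj : Function.Injective μ := by
    intro x y hxy
    have : t * x = t * y := hxy
    have h0 : (x - y) * t = 0 := by rw [sub_mul, mul_comm x, mul_comm y, this, sub_self]
    exact sub_eq_zero.mp (ht.2 _ h0)
  have hrange : LinearMap.range μ = (Ideal.span {t}).restrictScalars R := by
    ext x
    simp only [LinearMap.mem_range, Submodule.restrictScalars_mem, Ideal.mem_span_singleton']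
    constructor
    · rintro ⟨a, rfl⟩; exact ⟨a, mul_comm _ _⟩
    · rintro ⟨a, rfl⟩; exact ⟨a, mul_comm _ _⟩
  -- flatness of the quotient as an `R`-module
  have hflat' : Module.Flat R (A ⧸ Ideal.span {t}) := by
    have h1 := hflat
    unfold RingHom.Flat at h1
    convert h1 using 1
    · rfl
    · refine Module.ext' _ _ fun r x => ?_
      obtain ⟨a, rfl⟩ := Ideal.Quotient.mk_surjective x
      change Ideal.Quotient.mk _ (r • a) =
        Ideal.Quotient.mk _ (algebraMap R A r) * Ideal.Quotient.mk _ a
      rw [Algebra.smul_def, map_mul]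
  have hflat'' : Module.Flat R (A ⧸ LinearMap.range μ) := by
    rw [hrange]
    exact Module.Flat.of_linearEquiv
      (Submodule.Quotient.restrictScalarsEquiv R (Ideal.span {t}))
  have hinj := Groth.Agent.S6267.rTensor_injective_of_flat_quotient μ hμinj R'
  rw [mem_nonZeroDivisors_iff_right]
  intro z hz
  apply hinj
  rw [map_zero]
  have key : ∀ w : A ⊗[R] R', (μ.rTensor R') w = w * (t ⊗ₜ[R] (1 : R')) := by
    intro w
    induction w using TensorProduct.induction_on with
    | zero => simp
    | tmul a r =>
      simp only [LinearMap.rTensor_tmul, Algebra.TensorProduct.tmul_mul_tmul, mul_one]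
      rw [show μ a = t * a from rfl, mul_comm]
    | add x y hx hy => rw [map_add, hx, hy, add_mul]
  rw [key, hz]

/-- Variant where the ideal is only propositionally equal to `(t)`. -/
theorem tmul_one_mem_nonZeroDivisors' (R A R' : Type u) [CommRing R] [CommRing A] [CommRing R']
    [Algebra R A] [Algebra R R'] (t : A) (ht : t ∈ nonZeroDivisors A) (I : Ideal A)
    (hI : I = Ideal.span {t})
    (hflat : ((Ideal.Quotient.mk I).comp (algebraMap R A)).Flat) :
    (t ⊗ₜ[R] (1 : R')) ∈ nonZeroDivisors (A ⊗[R] R') := by
  subst hI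
  exact tmul_one_mem_nonZeroDivisors R A R' t ht hflat

end Groth.Agent.Lib.Helper3
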