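import Mathlib
import Groth.Prelude.Def_PCone

/-!
# If `Proj(φ)` is an isomorphism then `φ` is a (TN)-isomorphism (finite type case)
-/

set_option autoImplicit false
universe u
open CategoryTheory CategoryTheory.Limits AlgebraicGeometry HomogeneousLocalization DirectSum

namespace Groth.Agent.Lib.Helper3.PConeIso

variable {R A B : Type u} [CommRing R] [CommRing A] [Algebra R A] {𝒜 : ℕ → Submodule R A}
  [GradedAlgebra 𝒜] [CommRing B] [Algebra R B] {ℬ : ℕ → Submodule R B} [GradedAlgebra ℬ]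

section geom
variable (φ : 𝒜 →+*ᵍ ℬ)

lemma map_isLocalizationElem {d e : ℕ} {f g : A} (hf : f ∈ 𝒜 d) (hg : g ∈ 𝒜 e) :
    Away.map φ f (Away.isLocalizationElem hf hg) =
      Away.isLocalizationElem (Graded.map_mem φ hf) (Graded.map_mem φ hg) := by
  rw [Away.isLocalizationElem, Away.map_mk]
  ext
  simp [Away.val_mk, map_pow]

omit [GradedAlgebra 𝒜] in
lemma pcone_chart_ι {d : ℕ} {f : A} (hf : f ∈ 𝒜 d) (hd : 0 < d) :
    PCone.chart φ hf hd ≫ (PCone.dom φ).ι = Proj.awayι ℬ (φ f) (Graded.map_mem φ hf) hd :=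
  IsOpenImmersion.lift_fac _ _ _

instance pcone_chart_isOpenImmersion {d : ℕ} {f : A} (hf : f ∈ 𝒜 d) (hd : 0 < d) :
    IsOpenImmersion (PCone.chart φ hf hd) := by
  have : IsOpenImmersion (PCone.chart φ hf hd ≫ (PCone.dom φ).ι) := by
    rw [pcone_chart_ι]; infer_instance
  exact IsOpenImmersion.of_comp _ (PCone.dom φ).ι

variable (p : (PCone.dom φ : Scheme.{u}) ⟶ Proj 𝒜)
  (hp : ∀ (d : ℕ) (f : A) (hd : 0 < d) (hf : f ∈ 𝒜 d),
    PCone.chart φ hf hd ≫ p =
      Spec.map (CommRingCat.ofHom (Away.map φ f)) ≫ Proj.awayι 𝒜 f hf hd)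

include hp in
lemma pcone_preimage_basicOpen {i : ℕ} (hi : 0 < i) {s : A} (hs : s ∈ 𝒜 i) :
    p ⁻¹ᵁ Proj.basicOpen 𝒜 s = (PCone.chart φ hs hi).opensRange := by
  apply le_antisymm
  · intro y hy
    have hy0 : p y ∈ Proj.basicOpen 𝒜 s := hy
    have hyd : (PCone.dom φ).ι y ∈ PCone.dom φ := by
      have : (PCone.dom φ).ι y ∈ Set.range (PCone.dom φ).ι := ⟨y, rfl⟩
      rw [Scheme.Opens.range_ι] at this
      exact this
    obtain ⟨⟨g, e, he, hg⟩, hyg⟩ := TopologicalSpace.Opens.mem_iSup.1 hyd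
    have h0 : (PCone.dom φ).ι y ∈ (Proj.awayι ℬ (φ g) (Graded.map_mem φ hg) he).opensRange := by
      rw [Proj.opensRange_awayι]; exact hyg
    obtain ⟨y', hy'⟩ := h0
    have hyy' : PCone.chart φ hg he y' = y := by
      apply (PCone.dom φ).ι.isOpenEmbedding.injective
      rw [← Scheme.Hom.comp_apply, pcone_chart_ι]
      exact hy'
    rw [← hyy', ← Scheme.Hom.comp_apply, hp e g he hg, Scheme.Hom.comp_apply] at hy0
    have h1 : Spec.map (CommRingCat.ofHom (Away.map φ g)) y' ∈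
        (Proj.awayι 𝒜 g hg he) ⁻¹ᵁ Proj.basicOpen 𝒜 s := hy0
    rw [Proj.awayι_preimage_basicOpen 𝒜 hg he hs hi] at h1
    have h2 : y' ∈ (Proj.awayι ℬ (φ g) (Graded.map_mem φ hg) he) ⁻¹ᵁ Proj.basicOpen ℬ (φ s) := by
      rw [Proj.awayι_preimage_basicOpen ℬ (Graded.map_mem φ hg) he (Graded.map_mem φ hs) hi]
      have h1' : Away.map φ g (Away.isLocalizationElem hg hs) ∉ y'.asIdeal := h1
      rw [map_isLocalizationElem] at h1'
      exact h1'
    have h3 : Proj.awayι ℬ (φ g) (Graded.map_mem φ hg) he y' ∈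
        (Proj.awayι ℬ (φ s) (Graded.map_mem φ hs) hi).opensRange := by
      rw [Proj.opensRange_awayι]; exact h2
    obtain ⟨z, hz⟩ := h3
    refine ⟨z, ?_⟩
    apply (PCone.dom φ).ι.isOpenEmbedding.injective
    rw [← Scheme.Hom.comp_apply, pcone_chart_ι, hz, ← hy']
  · rintro _ ⟨y', rfl⟩
    change p (PCone.chart φ hs hi y') ∈ Proj.basicOpen 𝒜 s
    rw [← Scheme.Hom.comp_apply, hp i s hi hs, Scheme.Hom.comp_apply,
      ← Proj.opensRange_awayι 𝒜 s hs hi]
    exact ⟨_, rfl⟩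

include hp in
theorem awayMap_bijective [IsIso p] {d : ℕ} (hd : 0 < d) {f : A} (hf : f ∈ 𝒜 d) :
    Function.Bijective (Away.map φ f) := by
  have sq := IsOpenImmersion.isPullback (Spec.map (CommRingCat.ofHom (Away.map φ f)))
    (PCone.chart φ hf hd) (Proj.awayι 𝒜 f hf hd) p (hp d f hd hf)
    (by rw [Proj.opensRange_awayι]; exact pcone_preimage_basicOpen φ p hp hd hf)
  haveI : IsIso (Spec.map (CommRingCat.ofHom (Away.map φ f))) := sq.isIso_fst_of_isIso
  have hb := (isIso_SpecMap_iff (f := CommRingCat.ofHom (Away.map φ f))).mp inferInstance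
  exact hb

end geom

section graded
variable (ℬ)

theorem pow_le_graded (n : ℕ) : ℬ 1 ^ n ≤ ℬ n := by
  induction n with
  | zero =>
    rw [pow_zero, Submodule.one_le]
    exact SetLike.GradedOne.one_mem
  | succ n ih =>
    rw [pow_succ, Submodule.mul_le]
    intro m hm k hk
    exact SetLike.mul_mem_graded (ih hm) hk

theorem pow_le_span {d : ℕ} (hd : 0 < d) {x : B} (hx : x ∈ ℬ 1 ^ d) :
    x ∈ Ideal.span (ℬ 1 : Set B) := by
  obtain ⟨k, rfl⟩ : ∃ k, d = k + 1 := ⟨d - 1, by omega⟩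
  rw [pow_succ] at hx
  refine Submodule.mul_induction_on hx (fun m _ n hn => ?_) (fun x y hx hy => add_mem hx hy)
  exact Ideal.mul_mem_left _ m (Ideal.subset_span hn)

theorem mem_mul_of_mem_span {n : ℕ} (hn : 0 < n) {x : B} (hx : x ∈ ℬ n)
    (hxI : x ∈ Ideal.span (ℬ 1 : Set B)) : x ∈ ℬ 1 * ℬ (n - 1) := by
  classical
  obtain ⟨c, hc, hsum⟩ := Submodule.mem_span_set.mp hxI
  have h1 : x = ((decompose ℬ x) n : B) := (decompose_of_mem_same ℬ hx).symm
  rw [h1, ← hsum, Finsupp.sum, decompose_sum, DFinsupp.finsetSum_apply,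
    AddSubmonoidClass.coe_finsetSum]
  refine Submodule.sum_mem _ fun g hg => ?_
  have hg1 : g ∈ ℬ 1 := hc hg
  rw [smul_eq_mul, coe_decompose_mul_of_right_mem_of_le ℬ hg1 hn, mul_comm (ℬ 1)]
  exact Submodule.mul_mem_mul (SetLike.coe_mem _) hg1

theorem eq_zero_of_mem_span_gt {i j : ℕ} (hji : j ≤ i) {x : B} (hx : x ∈ ℬ j)
    (hxI : x ∈ Ideal.span (⋃ n ∈ Set.Ioi i, (ℬ n : Set B))) : x = 0 := by
  classical
  obtain ⟨c, hc, hsum⟩ := Submodule.mem_span_set.mp hxI
  have h1 : x = ((decompose ℬ x) j : B) := (decompose_of_mem_same ℬ hx).symm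
  rw [h1, ← hsum, Finsupp.sum, decompose_sum, DFinsupp.finsetSum_apply,
    AddSubmonoidClass.coe_finsetSum]
  refine Finset.sum_eq_zero fun g hg => ?_
  obtain ⟨n, hn, hgn⟩ := Set.mem_iUnion₂.mp (hc hg)
  rw [smul_eq_mul]
  exact coe_decompose_mul_of_right_mem_of_not_le ℬ hgn (by have : i < n := hn; omega)

/-- the degree `i` projection as a `ℬ 0`-linear map -/
def projL (i : ℕ) : B →ₗ[ℬ 0] B where
  toFun b := (decompose ℬ b i : B)
  map_add' a b := by simp [decompose_add, DirectSum.add_apply]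
  map_smul' c b := by
    rw [RingHom.id_apply, Algebra.smul_def, Algebra.smul_def]
    exact coe_decompose_mul_of_left_mem_zero ℬ c.2

section FQ
variable [Algebra.FiniteType (ℬ 0) B]

theorem finite_quotient (I : Ideal B)
    (hI : ∀ (i : ℕ) (g : B), 0 < i → g ∈ ℬ i → ∃ N : ℕ, g ^ N ∈ I) :
    Module.Finite (ℬ 0) (B ⧸ I) := by
  classical
  obtain ⟨G, hG⟩ := (inferInstance : Algebra.FiniteType (ℬ 0) B).out
  let G' : Finset B := G.biUnion fun g =>
    (decompose ℬ g).support.image fun i => (decompose ℬ g i : B)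
  have h1 : Algebra.adjoin (ℬ 0) (G' : Set B) = ⊤ := by
    rw [eq_top_iff, ← hG]
    refine Algebra.adjoin_le fun g hg => ?_
    rw [← sum_support_decompose ℬ g]
    refine Subalgebra.sum_mem _ fun i hi => Algebra.subset_adjoin ?_
    exact Finset.mem_coe.mpr (Finset.mem_biUnion.mpr ⟨g, hg, Finset.mem_image.mpr ⟨i, hi, rfl⟩⟩)
  let π : B →ₐ[ℬ 0] B ⧸ I := Ideal.Quotient.mkₐ (ℬ 0) I
  have hπ : Function.Surjective π := Ideal.Quotient.mkₐ_surjective (ℬ 0) I
  have h2 : Algebra.adjoin (ℬ 0) (π '' (G' : Set B)) = ⊤ := by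
    rw [Algebra.adjoin_image, h1, Algebra.map_top, AlgHom.range_eq_top]
    exact hπ
  have h3 : ∀ x ∈ π '' (G' : Set B), IsIntegral (ℬ 0) x := by
    rintro _ ⟨y, hy, rfl⟩
    obtain ⟨g, -, hy'⟩ := Finset.mem_biUnion.mp (Finset.mem_coe.mp hy)
    obtain ⟨i, -, rfl⟩ := Finset.mem_image.mp hy'
    rcases Nat.eq_zero_or_pos i with rfl | hi
    · have h : π ((decompose ℬ g 0 : ℬ 0) : B) = algebraMap (ℬ 0) (B ⧸ I) (decompose ℬ g 0) :=
        π.commutes (decompose ℬ g 0)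
      rw [h]
      exact isIntegral_algebraMap
    · obtain ⟨N, hN⟩ := hI i _ hi (SetLike.coe_mem (decompose ℬ g i))
      refine ⟨Polynomial.X ^ N, Polynomial.monic_X_pow N, ?_⟩
      rw [Polynomial.eval₂_X_pow, ← map_pow]
      exact Ideal.Quotient.eq_zero_iff_mem.mpr hN
  have h4 := fg_adjoin_of_finite ((G'.finite_toSet).image π) h3
  rw [h2, Algebra.top_toSubmodule] at h4
  exact Module.finite_def.mpr h4

theorem exists_finset (I : Ideal B) (hIh : I.IsHomogeneous ℬ)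
    (hI : ∀ (i : ℕ) (g : B), 0 < i → g ∈ ℬ i → ∃ N : ℕ, g ^ N ∈ I) :
    ∃ T : Finset B, ∀ (i : ℕ) (x : B), x ∈ ℬ i → ∃ y ∈ I, y ∈ ℬ i ∧
      x - y ∈ Submodule.span (ℬ 0) ((fun b => (decompose ℬ b i : B)) '' (T : Set B)) := by
  classical
  haveI := finite_quotient ℬ I hI
  obtain ⟨S, hS⟩ := (Module.finite_def.mp inferInstance : (⊤ : Submodule (ℬ 0) (B ⧸ I)).FG)
  let π : B →ₐ[ℬ 0] B ⧸ I := Ideal.Quotient.mkₐ (ℬ 0) I
  have hπ : Function.Surjective π := Ideal.Quotient.mkₐ_surjective (ℬ 0) I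
  refine ⟨S.image (Function.surjInv hπ), fun i x hx => ?_⟩
  have hmap : Submodule.map π.toLinearMap
      (Submodule.span (ℬ 0) ((S.image (Function.surjInv hπ) : Finset B) : Set B)) = ⊤ := by
    rw [Submodule.map_span, eq_top_iff, ← hS]
    refine Submodule.span_mono fun s hs => ?_
    exact ⟨Function.surjInv hπ s, Finset.mem_coe.mpr (Finset.mem_image_of_mem _ hs),
      Function.surjInv_eq hπ s⟩
  have hx' : π x ∈ Submodule.map π.toLinearMap
      (Submodule.span (ℬ 0) ((S.image (Function.surjInv hπ) : Finset B) : Set B)) := by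
    rw [hmap]
    trivial
  obtain ⟨t, ht, hte⟩ := hx'
  have hte' : Ideal.Quotient.mk I x = Ideal.Quotient.mk I t := hte.symm
  have hxt : x - t ∈ I := Ideal.Quotient.eq.mp hte'
  refine ⟨(decompose ℬ (x - t) i : B), hIh i hxt, SetLike.coe_mem _, ?_⟩
  have h1 : x - (decompose ℬ (x - t) i : B) = projL ℬ i t := by
    show x - _ = (decompose ℬ t i : B)
    rw [decompose_sub, DirectSum.sub_apply, AddSubgroupClass.coe_sub, decompose_of_mem_same ℬ hx]
    abel
  rw [h1]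
  have h2 : projL ℬ i t ∈ Submodule.map (projL ℬ i)
      (Submodule.span (ℬ 0) ((S.image (Function.surjInv hπ) : Finset B) : Set B)) :=
    Submodule.mem_map_of_mem ht
  rw [Submodule.map_span] at h2
  exact h2

end FQ

end graded

section main

theorem map_mem_pow (φ : 𝒜 →+*ᵍ ℬ) (hgen : ∀ n : ℕ, 1 ≤ n → 𝒜 n = 𝒜 1 ^ n) {d : ℕ} (hd : 0 < d)
    {a : A} (ha : a ∈ 𝒜 d) : φ a ∈ ℬ 1 ^ d := by
  rw [hgen d hd] at ha
  obtain ⟨k, rfl⟩ : ∃ k, d = k + 1 := ⟨d - 1, by omega⟩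
  clear hd hgen
  induction k generalizing a with
  | zero =>
    rw [zero_add, pow_one] at ha ⊢
    exact Graded.map_mem φ ha
  | succ k ih =>
    rw [pow_succ] at ha ⊢
    refine Submodule.mul_induction_on ha (fun m hm n hn => ?_) (fun x y hx hy => ?_)
    · rw [map_mul]
      exact Submodule.mul_mem_mul (ih hm) (Graded.map_mem φ hn)
    · rw [map_add]
      exact add_mem hx hy

theorem mem_radical_of_dom (φ : 𝒜 →+*ᵍ ℬ) (hgen : ∀ n : ℕ, 1 ≤ n → 𝒜 n = 𝒜 1 ^ n)
    (hdom : PCone.dom φ = ⊤) {d : ℕ} (hd : 0 < d) {g : B} (hg : g ∈ ℬ d) :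
    g ∈ (Ideal.span (ℬ 1 : Set B)).radical := by
  have hIh : (Ideal.span (ℬ 1 : Set B)).IsHomogeneous ℬ :=
    Ideal.homogeneous_span ℬ _ fun x hx => ⟨1, hx⟩
  rw [hIh.radical_eq, Ideal.mem_sInf]
  rintro J ⟨hJh, hIJ, hJp⟩
  by_contra hgJ
  have hnot : ¬ HomogeneousIdeal.irrelevant ℬ ≤ ⟨J, hJh⟩ := fun hle =>
    hgJ (hle (HomogeneousIdeal.mem_irrelevant_of_mem ℬ hd hg))
  let x : ProjectiveSpectrum ℬ := ⟨⟨J, hJh⟩, hJp, hnot⟩
  have hx : (x : Proj ℬ) ∈ PCone.dom φ := by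
    rw [hdom]
    trivial
  obtain ⟨⟨f, e, he, hf⟩, hxf⟩ := TopologicalSpace.Opens.mem_iSup.mp hx
  have hφf : φ f ∈ Ideal.span (ℬ 1 : Set B) := pow_le_span ℬ he (map_mem_pow φ hgen he hf)
  exact (Proj.mem_basicOpen ℬ _ x).mp hxf (hIJ hφf)

theorem exists_pow_mul_mem_range (φ : 𝒜 →+*ᵍ ℬ) {f : A} (hf : f ∈ 𝒜 1)
    (hsurj : Function.Surjective (Away.map φ f)) {e : ℕ} {t : B} (ht : t ∈ ℬ e) :
    ∃ K : ℕ, (φ f) ^ K * t ∈ Set.range φ := by
  have ht' : t ∈ ℬ (e • 1) := by rwa [smul_eq_mul, mul_one]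
  obtain ⟨ξ, hξ⟩ := hsurj (Away.mk ℬ (Graded.map_mem φ hf) e t ht')
  obtain ⟨m, a, ha, rfl⟩ := Away.mk_surjective 𝒜 hf ξ
  rw [Away.map_mk] at hξ
  have h1 := congrArg HomogeneousLocalization.val hξ
  rw [Away.val_mk, Away.val_mk, Localization.mk_eq_mk_iff, Localization.r_iff_exists] at h1
  obtain ⟨⟨_, N, rfl⟩, hN⟩ := h1
  have hN' : (φ f) ^ N * ((φ f) ^ e * φ a) = (φ f) ^ N * ((φ f) ^ m * t) := by
    simpa using hN
  refine ⟨N + m, f ^ (N + e) * a, ?_⟩
  rw [map_mul, map_pow, pow_add, pow_add, mul_assoc, mul_assoc, hN']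

theorem eventually_eq_pow [Algebra.FiniteType (ℬ 0) B] (φ : 𝒜 →+*ᵍ ℬ)
    (h0 : Set.SurjOn φ (𝒜 0) (ℬ 0)) (h1 : Set.SurjOn φ (𝒜 1) (ℬ 1))
    (hgen : ∀ n : ℕ, 1 ≤ n → 𝒜 n = 𝒜 1 ^ n) (hdom : PCone.dom φ = ⊤)
    (hsurj : ∀ f ∈ 𝒜 1, Function.Surjective (Away.map φ f)) :
    ∃ n₀ : ℕ, ∀ n : ℕ, n₀ ≤ n → ℬ n = ℬ 1 ^ n := by
  classical
  have hIh : (Ideal.span (ℬ 1 : Set B)).IsHomogeneous ℬ :=
    Ideal.homogeneous_span ℬ _ fun x hx => ⟨1, hx⟩
  obtain ⟨T, hT⟩ := exists_finset ℬ (Ideal.span (ℬ 1 : Set B)) hIh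
    (fun i g hi hg => Ideal.mem_radical_iff.mp (mem_radical_of_dom φ hgen hdom hi hg))
  obtain ⟨E, hE⟩ : ∃ E : ℕ, E = T.sup fun b => (decompose ℬ b).support.sup id := ⟨_, rfl⟩
  have hA : ∀ n, E < n → ∀ x ∈ ℬ n, x ∈ ℬ 1 * ℬ (n - 1) := by
    intro n hn x hx
    apply mem_mul_of_mem_span ℬ (by omega) hx
    obtain ⟨y, hy, -, hxy⟩ := hT n x hx
    have hzero : ((fun b => (decompose ℬ b n : B)) '' (T : Set B)) ⊆ {0} := by
      rintro _ ⟨b, hb, rfl⟩
      have hns : n ∉ (decompose ℬ b).support := fun hmem => by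
        have h1 : n ≤ (decompose ℬ b).support.sup id := Finset.le_sup (f := id) hmem
        have h2 : (decompose ℬ b).support.sup id ≤ E := by
          rw [hE]
          exact Finset.le_sup (f := fun b => (decompose ℬ b).support.sup id) hb
        omega
      rw [Set.mem_singleton_iff]
      have h3 := DFinsupp.notMem_support_iff.mp hns
      show ((decompose ℬ b n : ℬ n) : B) = 0
      rw [h3]
      rfl
    have h4 := Submodule.span_mono hzero hxy
    rw [Submodule.span_zero_singleton, Submodule.mem_bot, sub_eq_zero] at h4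
    rw [h4]
    exact hy
  have hfg : ∀ i : ℕ, ∃ F : Finset B, (∀ b ∈ F, b ∈ ℬ i) ∧
      ∀ x ∈ ℬ i, x ∈ Submodule.span (ℬ 0) (F : Set B) := by
    intro i
    have hIih : (Ideal.span (⋃ n ∈ Set.Ioi i, (ℬ n : Set B))).IsHomogeneous ℬ :=
      Ideal.homogeneous_span ℬ _ (by
        intro x hx
        obtain ⟨n, -, hxn⟩ := Set.mem_iUnion₂.mp hx
        exact ⟨n, hxn⟩)
    have hnil : ∀ (d : ℕ) (g : B), 0 < d → g ∈ ℬ d →
        ∃ N : ℕ, g ^ N ∈ Ideal.span (⋃ n ∈ Set.Ioi i, (ℬ n : Set B)) := by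
      intro d g hd hg
      refine ⟨i + 1, Ideal.subset_span (Set.mem_iUnion₂.mpr
        ⟨(i + 1) • d, ?_, SetLike.pow_mem_graded (i + 1) hg⟩)⟩
      show i < (i + 1) • d
      rw [smul_eq_mul]
      nlinarith
    obtain ⟨T', hT'⟩ := exists_finset ℬ _ hIih hnil
    refine ⟨T'.image fun b => (decompose ℬ b i : B), ?_, ?_⟩
    · intro b hb
      obtain ⟨b', -, rfl⟩ := Finset.mem_image.mp hb
      exact SetLike.coe_mem _
    · intro x hx
      obtain ⟨y, hy, hyi, hxy⟩ := hT' i x hx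
      have hy0 : y = 0 := eq_zero_of_mem_span_gt ℬ le_rfl hyi hy
      rw [hy0, sub_zero] at hxy
      rw [Finset.coe_image]
      exact hxy
  choose F hF1 hF2 using hfg
  have hr0 : ∀ c ∈ ℬ 0, c ∈ Set.range φ := fun c hc => by
    obtain ⟨a, -, rfl⟩ := h0 hc
    exact ⟨a, rfl⟩
  have hr1 : ∀ c ∈ ℬ 1, c ∈ Set.range φ := fun c hc => by
    obtain ⟨a, -, rfl⟩ := h1 hc
    exact ⟨a, rfl⟩
  have hmul : ∀ x y, x ∈ Set.range φ → y ∈ Set.range φ → x * y ∈ Set.range φ := by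
    rintro _ _ ⟨a, rfl⟩ ⟨b, rfl⟩
    exact ⟨a * b, map_mul φ a b⟩
  have hadd : ∀ x y, x ∈ Set.range φ → y ∈ Set.range φ → x + y ∈ Set.range φ := by
    rintro _ _ ⟨a, rfl⟩ ⟨b, rfl⟩
    exact ⟨a + b, map_add φ a b⟩
  have hzero : (0 : B) ∈ Set.range φ := ⟨0, map_zero φ⟩
  let 𝔣 : Ideal B :=
    { carrier := {x | ∀ b, x * b ∈ Set.range φ}
      add_mem' := fun {x y} hx hy b => by
        rw [add_mul]
        exact hadd _ _ (hx b) (hy b)
      zero_mem' := fun b => by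
        rw [zero_mul]
        exact hzero
      smul_mem' := fun c x hx b => by
        rw [smul_eq_mul, mul_comm c x, mul_assoc]
        exact hx (c * b) }
  have h8 : ∀ g ∈ ℬ 1, ∃ K : ℕ, g ^ K ∈ 𝔣 := by
    intro g hg
    obtain ⟨f, hf, rfl⟩ := h1 hg
    have hK' : ∀ b ∈ (Finset.range (E + 1)).biUnion F, ∃ K : ℕ, (φ f) ^ K * b ∈ Set.range φ := by
      intro b hb
      obtain ⟨i, -, hbi⟩ := Finset.mem_biUnion.mp hb
      exact exists_pow_mul_mem_range φ hf (hsurj f hf) (hF1 i b hbi)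
    choose! Kf hKf using hK'
    have hK₀ : ∀ b ∈ (Finset.range (E + 1)).biUnion F,
        (φ f) ^ (((Finset.range (E + 1)).biUnion F).sup Kf) * b ∈ Set.range φ := by
      intro b hb
      have hle : Kf b ≤ ((Finset.range (E + 1)).biUnion F).sup Kf := Finset.le_sup hb
      obtain ⟨j, hj⟩ := Nat.exists_eq_add_of_le hle
      rw [hj, pow_add, mul_comm ((φ f) ^ (Kf b)), mul_assoc]
      exact hmul _ _ ⟨f ^ j, map_pow φ f j⟩ (hKf b hb)
    refine ⟨((Finset.range (E + 1)).biUnion F).sup Kf, ?_⟩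
    have hhom : ∀ n, ∀ b ∈ ℬ n,
        (φ f) ^ (((Finset.range (E + 1)).biUnion F).sup Kf) * b ∈ Set.range φ := by
      intro n
      induction n using Nat.strong_induction_on with
      | _ n ih =>
        intro b hb
        by_cases hn : n ≤ E
        · have hspan := hF2 n b hb
          refine Submodule.span_induction
            (p := fun x _ =>
              (φ f) ^ (((Finset.range (E + 1)).biUnion F).sup Kf) * x ∈ Set.range φ)
            ?_ ?_ ?_ ?_ hspan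
          · intro x hx
            exact hK₀ x (Finset.mem_biUnion.mpr ⟨n, Finset.mem_range.mpr (by omega), hx⟩)
          · rw [mul_zero]
            exact hzero
          · intro x y _ _ hx hy
            rw [mul_add]
            exact hadd _ _ hx hy
          · intro c x _ hx
            rw [Algebra.smul_def, mul_left_comm]
            exact hmul _ _ (hr0 _ c.2) hx
        · have hb' := hA n (by omega) b hb
          refine Submodule.mul_induction_on hb' ?_ ?_
          · intro m hm y hy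
            rw [mul_left_comm]
            exact hmul _ _ (hr1 m hm) (ih (n - 1) (by omega) y hy)
          · intro x y hx hy
            rw [mul_add]
            exact hadd _ _ hx hy
    intro b
    rw [← sum_support_decompose ℬ b, Finset.mul_sum]
    exact Finset.sum_induction _ (· ∈ Set.range φ) hadd hzero
      (fun i _ => hhom i _ (SetLike.coe_mem _))
  have hI₁fg : (Ideal.span (ℬ 1 : Set B)).FG := by
    refine ⟨F 1, ?_⟩
    apply le_antisymm
    · exact Ideal.span_mono (fun b hb => hF1 1 b hb)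
    · apply Ideal.span_le.mpr
      intro x hx
      have hspan := hF2 1 x hx
      refine Submodule.span_induction (p := fun x _ => x ∈ Ideal.span ((F 1 : Finset B) : Set B))
        ?_ ?_ ?_ ?_ hspan
      · intro y hy
        exact Ideal.subset_span hy
      · exact zero_mem _
      · intro x y _ _ hx hy
        exact add_mem hx hy
      · intro c x _ hx
        rw [Algebra.smul_def]
        exact Ideal.mul_mem_left _ _ hx
  have hrad : Ideal.span (ℬ 1 : Set B) ≤ 𝔣.radical := by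
    apply Ideal.span_le.mpr
    intro g hg
    obtain ⟨K, hK⟩ := h8 g hg
    exact ⟨K, hK⟩
  obtain ⟨M, hM⟩ := Ideal.exists_pow_le_of_le_radical_of_fg hrad hI₁fg
  have hX : ∀ k n, E + k ≤ n → ∀ x ∈ ℬ n, x ∈ (Ideal.span (ℬ 1 : Set B)) ^ k := by
    intro k
    induction k with
    | zero =>
      intro n _ x _
      rw [pow_zero, Ideal.one_eq_top]
      trivial
    | succ k ih =>
      intro n hn x hx
      have hx' := hA n (by omega) x hx
      refine Submodule.mul_induction_on hx' ?_ ?_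
      · intro m hm y hy
        rw [pow_succ']
        exact Ideal.mul_mem_mul (Ideal.subset_span hm) (ih (n - 1) (by omega) y hy)
      · intro x y hx hy
        exact add_mem hx hy
  refine ⟨E + M + 1, fun n hn => le_antisymm ?_ (pow_le_graded ℬ n)⟩
  intro x hx
  have hxf : x ∈ 𝔣 := hM (hX M n (by omega) x hx)
  have hx1 := hxf 1
  rw [mul_one] at hx1
  obtain ⟨a, ha⟩ := hx1
  have h2 : x = φ ((decompose 𝒜 a n : A)) := by
    rw [φ.map_directSumDecompose, ha, decompose_of_mem_same ℬ hx]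
  rw [h2]
  exact map_mem_pow φ hgen (by omega) (SetLike.coe_mem _)

end main

end Groth.Agent.Lib.Helper3.PConeIso
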