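import Groth.Agent.Lib.Helper3.PConeIso
import Groth.Agent.Lib.Helper3.ToProj
import Groth.Agent.Lib.Helper3.Cocycle
import Groth.Agent.Lib.Helper3.InvRestrict
import Groth.Agent.Lib.Helper3.TwistProj

/-!
# Pullback of `O(n)` along the morphism `G(φ) → Proj 𝒜` induced by a graded homomorphism
-/

set_option autoImplicit false
set_option linter.unusedSectionVars false
universe u
open CategoryTheory CategoryTheory.Limits AlgebraicGeometry TopologicalSpace Opposite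
open Scheme.Modules

namespace Groth.Agent.Lib.Helper3.PConeTwist

open QCSec InvGen TwistBasic ProjFrac ToProj PConeIso

section general

variable {X Y : Scheme.{u}}

theorem appLE_congr_hom' {f₁ f₂ : X ⟶ Y} (h : f₁ = f₂) (D : Y.Opens)
    (T : X.Opens) (e : T ≤ f₁ ⁻¹ᵁ D) (e' : T ≤ f₂ ⁻¹ᵁ D) : f₁.appLE D T e = f₂.appLE D T e' := by
  subst h
  rfl

/-- transition relations pull back -/
theorem pull_trans (p : X ⟶ Y) (M : Y.Modules) {A B W : Y.Opens} (hA : W ≤ A) (hB : W ≤ B)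
    (V : X.Opens) (hVA : V ≤ p ⁻¹ᵁ A) (hVB : V ≤ p ⁻¹ᵁ B) (hVW : V ≤ p ⁻¹ᵁ W)
    (tA : Γ(M, A)) (tB : Γ(M, B)) (c : Γ(Y, W)) (h : res M hA tA = c • res M hB tB) :
    res _ hVA (PbBasic.pull p M A tA) =
      p.appLE W V hVW c • res _ hVB (PbBasic.pull p M B tB) := by
  have hpA : p ⁻¹ᵁ W ≤ p ⁻¹ᵁ A := fun _ hx => hA hx
  have hpB : p ⁻¹ᵁ W ≤ p ⁻¹ᵁ B := fun _ hx => hB hx
  calc res _ hVA (PbBasic.pull p M A tA)
      = res _ hVW (res _ hpA (PbBasic.pull p M A tA)) := (res_res _ hVW hpA _).symm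
    _ = res _ hVW (PbBasic.pull p M W (res M hA tA)) := by rw [PbBasic.res_pull]
    _ = res _ hVW (p.app W c • PbBasic.pull p M W (res M hB tB)) := by
        rw [h, PbBasic.pull_smul]
    _ = p.appLE W V hVW c • res _ hVW (PbBasic.pull p M W (res M hB tB)) := by
        rw [res_smul]
        rfl
    _ = p.appLE W V hVW c • res _ hVW (res _ hpB (PbBasic.pull p M B tB)) := by
        rw [PbBasic.res_pull]
    _ = p.appLE W V hVW c • res _ hVB (PbBasic.pull p M B tB) := by rw [res_res]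

end general

variable {R A B : Type u} [CommRing R] [CommRing A] [Algebra R A] {𝒜 : ℕ → Submodule R A}
  [GradedAlgebra 𝒜] [CommRing B] [Algebra R B] {ℬ : ℕ → Submodule R B} [GradedAlgebra ℬ]

/-- the chart `Spec A_(f) → Proj A` on functions -/
theorem awayToSection_awayι_appLE {d : ℕ} (hd : 0 < d) {f : A} (hf : f ∈ 𝒜 d)
    (e : (⊤ : (Spec (.of (HomogeneousLocalization.Away 𝒜 f))).Opens) ≤
      Proj.awayι 𝒜 f hf hd ⁻¹ᵁ Proj.basicOpen 𝒜 f) :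
    Proj.awayToSection 𝒜 f ≫ (Proj.awayι 𝒜 f hf hd).appLE (Proj.basicOpen 𝒜 f) ⊤ e =
      (Scheme.ΓSpecIso _).inv := by
  have h1 : (Proj.basicOpenIsoSpec 𝒜 f hf hd).hom.appTop =
      (Scheme.ΓSpecIso _).hom ≫ Proj.awayToSection 𝒜 f ≫ (Proj.basicOpen 𝒜 f).topIso.inv := by
    rw [Proj.basicOpenIsoSpec_hom]
    exact Proj.basicOpenToSpec_app_top 𝒜 f
  have h2 : (Proj.basicOpenIsoSpec 𝒜 f hf hd).hom.appTop ≫
      (Proj.basicOpenIsoSpec 𝒜 f hf hd).inv.appTop = 𝟙 _ := by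
    rw [← Scheme.Hom.comp_appTop, Iso.inv_hom_id, Scheme.Hom.id_appTop]
  have h3 : Proj.awayToSection 𝒜 f ≫ (Proj.basicOpen 𝒜 f).topIso.inv =
      (Scheme.ΓSpecIso _).inv ≫ (Proj.basicOpenIsoSpec 𝒜 f hf hd).hom.appTop := by
    rw [h1, Iso.inv_hom_id_assoc]
  have h4 : (Proj.awayι 𝒜 f hf hd).appLE (Proj.basicOpen 𝒜 f) ⊤ e =
      (Proj.basicOpen 𝒜 f).topIso.inv ≫ (Proj.basicOpenIsoSpec 𝒜 f hf hd).inv.appTop :=
    ToProj.comp_ι_appLE _ _ e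
  rw [h4, ← Category.assoc, h3, Category.assoc, h2, Category.comp_id]

/-- the transition relation between the standard generators of `O(n)` on `D₊(f)` and `D₊(g)` -/
theorem frac_trans {f g : A} (hf : f ∈ 𝒜 1) (hg : g ∈ 𝒜 1) (k l : ℕ) (n : ℤ)
    (hdeg : (k : ℤ) = l + n) (W : (Proj 𝒜).Opens) (hWf : W ≤ Proj.basicOpen 𝒜 f)
    (hWg : W ≤ Proj.basicOpen 𝒜 g) :
    frac W ⟨f ^ k, pow_mem_of_mem_one hf k⟩ ⟨f ^ l, pow_mem_of_mem_one hf l⟩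
        (fun x => notMem_pow (hWf x.2) l) n hdeg =
      (fn W f g ^ k * fn W g f ^ l) •
        frac W ⟨g ^ k, pow_mem_of_mem_one hg k⟩ ⟨g ^ l, pow_mem_of_mem_one hg l⟩
          (fun x => notMem_pow (hWg x.2) l) n hdeg := by
  have hG : Good W f g := good_of_mem hf hg (fun x => hWg x.2)
  have hG' : Good W g f := good_of_mem hg hf (fun x => hWf x.2)
  rw [fn_pow hG, fn_pow hG', fn_mul (hG.pow k) (hG'.pow l)]
  apply val_ext
  intro x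
  rw [val_smul, val_frac, val_frac, fval_fn ((hG.pow k).mul (hG'.pow l)), Localization.mk_mul,
    Localization.mk_eq_mk_iff, Localization.r_iff_exists]
  refine ⟨1, ?_⟩
  simp only [OneMemClass.coe_one, one_mul, Submonoid.coe_mul]
  ring

section main

variable (φ : 𝒜 →+*ᵍ ℬ) (p : (PCone.dom φ : Scheme.{u}) ⟶ Proj 𝒜)
  (hp : ∀ (d : ℕ) (f : A) (hd : 0 < d) (hf : f ∈ 𝒜 d),
    PCone.chart φ hf hd ≫ p =
      Spec.map (CommRingCat.ofHom (HomogeneousLocalization.Away.map φ f)) ≫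
        Proj.awayι 𝒜 f hf hd)

omit [GradedAlgebra 𝒜] in
theorem chart_image_le_ι {d : ℕ} (hd : 0 < d) {f : A} (hf : f ∈ 𝒜 d) :
    PCone.chart φ hf hd ''ᵁ ⊤ ≤ (PCone.dom φ).ι ⁻¹ᵁ Proj.basicOpen ℬ (φ f) := by
  intro x hx
  obtain ⟨y, -, rfl⟩ := hx
  change (PCone.dom φ).ι (PCone.chart φ hf hd y) ∈ Proj.basicOpen ℬ (φ f)
  rw [← Scheme.Hom.comp_apply, pcone_chart_ι,
    ← Proj.opensRange_awayι ℬ (φ f) (Graded.map_mem φ hf) hd]
  exact ⟨y, rfl⟩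

include hp in
theorem chart_image_le_p {d : ℕ} (hd : 0 < d) {f : A} (hf : f ∈ 𝒜 d) :
    PCone.chart φ hf hd ''ᵁ ⊤ ≤ p ⁻¹ᵁ Proj.basicOpen 𝒜 f := by
  rw [pcone_preimage_basicOpen φ p hp hd hf, Scheme.Hom.image_top_eq_opensRange]

include hp in
theorem le_chart_image {d : ℕ} (hd : 0 < d) {f : A} (hf : f ∈ 𝒜 d)
    {V : (PCone.dom φ : Scheme.{u}).Opens} (e : V ≤ p ⁻¹ᵁ Proj.basicOpen 𝒜 f) :
    V ≤ PCone.chart φ hf hd ''ᵁ ⊤ := by
  rw [Scheme.Hom.image_top_eq_opensRange, ← pcone_preimage_basicOpen φ p hp hd hf]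
  exact e

include hp in
theorem awayToSection_appLE_image {d : ℕ} (hd : 0 < d) {f : A} (hf : f ∈ 𝒜 d)
    (e : PCone.chart φ hf hd ''ᵁ ⊤ ≤ p ⁻¹ᵁ Proj.basicOpen 𝒜 f)
    (e' : PCone.chart φ hf hd ''ᵁ ⊤ ≤ (PCone.dom φ).ι ⁻¹ᵁ Proj.basicOpen ℬ (φ f)) :
    Proj.awayToSection 𝒜 f ≫ p.appLE (Proj.basicOpen 𝒜 f) (PCone.chart φ hf hd ''ᵁ ⊤) e =
      CommRingCat.ofHom (HomogeneousLocalization.Away.map φ f) ≫
        Proj.awayToSection ℬ (φ f) ≫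
          (PCone.dom φ).ι.appLE (Proj.basicOpen ℬ (φ f)) (PCone.chart φ hf hd ''ᵁ ⊤) e' := by
  have e₂ : (⊤ : (Spec (.of (HomogeneousLocalization.Away ℬ (φ f)))).Opens) ≤
      PCone.chart φ hf hd ⁻¹ᵁ (PCone.chart φ hf hd ''ᵁ ⊤) :=
    ((PCone.chart φ hf hd).preimage_image_eq ⊤).ge
  haveI : IsIso ((PCone.chart φ hf hd).appLE (PCone.chart φ hf hd ''ᵁ ⊤) ⊤ e₂) := by
    have := Scheme.Hom.appIso_hom' (PCone.chart φ hf hd) ⊤
    rw [← this]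
    infer_instance
  rw [← cancel_mono ((PCone.chart φ hf hd).appLE (PCone.chart φ hf hd ''ᵁ ⊤) ⊤ e₂)]
  have e₃ : (⊤ : (Spec (.of (HomogeneousLocalization.Away ℬ (φ f)))).Opens) ≤
      (PCone.chart φ hf hd ≫ p) ⁻¹ᵁ Proj.basicOpen 𝒜 f := fun y _ => e ⟨y, trivial, rfl⟩
  have e₄ : (⊤ : (Spec (.of (HomogeneousLocalization.Away ℬ (φ f)))).Opens) ≤
      (PCone.chart φ hf hd ≫ (PCone.dom φ).ι) ⁻¹ᵁ Proj.basicOpen ℬ (φ f) :=
    fun y _ => e' ⟨y, trivial, rfl⟩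
  have hL : p.appLE (Proj.basicOpen 𝒜 f) (PCone.chart φ hf hd ''ᵁ ⊤) e ≫
      (PCone.chart φ hf hd).appLE (PCone.chart φ hf hd ''ᵁ ⊤) ⊤ e₂ =
      (PCone.chart φ hf hd ≫ p).appLE (Proj.basicOpen 𝒜 f) ⊤ e₃ :=
    Scheme.Hom.appLE_comp_appLE _ _ _ _ _ _ _
  have hR : (PCone.dom φ).ι.appLE (Proj.basicOpen ℬ (φ f)) (PCone.chart φ hf hd ''ᵁ ⊤) e' ≫
      (PCone.chart φ hf hd).appLE (PCone.chart φ hf hd ''ᵁ ⊤) ⊤ e₂ =
      (PCone.chart φ hf hd ≫ (PCone.dom φ).ι).appLE (Proj.basicOpen ℬ (φ f)) ⊤ e₄ :=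
    Scheme.Hom.appLE_comp_appLE _ _ _ _ _ _ _
  simp only [Category.assoc]
  rw [hL, hR]
  -- left hand side
  have e₅ : (⊤ : (Spec (.of (HomogeneousLocalization.Away ℬ (φ f)))).Opens) ≤
      (Spec.map (CommRingCat.ofHom (HomogeneousLocalization.Away.map φ f)) ≫
        Proj.awayι 𝒜 f hf hd) ⁻¹ᵁ Proj.basicOpen 𝒜 f := by
    rw [← hp d f hd hf]; exact e₃
  have e₆ : (⊤ : (Spec (.of (HomogeneousLocalization.Away 𝒜 f))).Opens) ≤
      Proj.awayι 𝒜 f hf hd ⁻¹ᵁ Proj.basicOpen 𝒜 f := by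
    intro y _
    change Proj.awayι 𝒜 f hf hd y ∈ Proj.basicOpen 𝒜 f
    rw [← Proj.opensRange_awayι 𝒜 f hf hd]
    exact ⟨y, rfl⟩
  have e₇ : (⊤ : (Spec (.of (HomogeneousLocalization.Away ℬ (φ f)))).Opens) ≤
      Proj.awayι ℬ (φ f) (Graded.map_mem φ hf) hd ⁻¹ᵁ Proj.basicOpen ℬ (φ f) := by
    intro y _
    change Proj.awayι ℬ (φ f) (Graded.map_mem φ hf) hd y ∈ Proj.basicOpen ℬ (φ f)
    rw [← Proj.opensRange_awayι ℬ (φ f) (Graded.map_mem φ hf) hd]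
    exact ⟨y, rfl⟩
  have h1 : (PCone.chart φ hf hd ≫ p).appLE (Proj.basicOpen 𝒜 f) ⊤ e₃ =
      (Proj.awayι 𝒜 f hf hd).appLE (Proj.basicOpen 𝒜 f) ⊤ e₆ ≫
        (Spec.map (CommRingCat.ofHom (HomogeneousLocalization.Away.map φ f))).appTop := by
    rw [appLE_congr_hom' (hp d f hd hf) _ _ e₃ e₅]
    exact ToProj.comp_appLE_top _ _ _ e₆ e₅
  have h2 : (PCone.chart φ hf hd ≫ (PCone.dom φ).ι).appLE (Proj.basicOpen ℬ (φ f)) ⊤ e₄ =
      (Proj.awayι ℬ (φ f) (Graded.map_mem φ hf) hd).appLE (Proj.basicOpen ℬ (φ f)) ⊤ e₇ :=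
    appLE_congr_hom' (pcone_chart_ι φ hf hd) _ _ e₄ e₇
  rw [h1, h2, ← Category.assoc, awayToSection_awayι_appLE hd hf e₆,
    awayToSection_awayι_appLE hd (Graded.map_mem φ hf) e₇]
  exact (Scheme.ΓSpecIso_inv_naturality _).symm

include hp in
theorem appLE_awayToSection {d : ℕ} (hd : 0 < d) {f : A} (hf : f ∈ 𝒜 d)
    (V : (PCone.dom φ : Scheme.{u}).Opens) (e : V ≤ p ⁻¹ᵁ Proj.basicOpen 𝒜 f)
    (e' : V ≤ (PCone.dom φ).ι ⁻¹ᵁ Proj.basicOpen ℬ (φ f))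
    (x : HomogeneousLocalization.Away 𝒜 f) :
    p.appLE (Proj.basicOpen 𝒜 f) V e ((Proj.awayToSection 𝒜 f).hom x) =
      (PCone.dom φ).ι.appLE (Proj.basicOpen ℬ (φ f)) V e'
        ((Proj.awayToSection ℬ (φ f)).hom (HomogeneousLocalization.Away.map φ f x)) := by
  have hV := le_chart_image φ p hp hd hf e
  have e₁ := chart_image_le_p φ p hp hd hf
  have e₁' := chart_image_le_ι φ hd hf
  have h1 : p.appLE (Proj.basicOpen 𝒜 f) (PCone.chart φ hf hd ''ᵁ ⊤) e₁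
      ((Proj.awayToSection 𝒜 f).hom x) =
      (PCone.dom φ).ι.appLE (Proj.basicOpen ℬ (φ f)) (PCone.chart φ hf hd ''ᵁ ⊤) e₁'
        ((Proj.awayToSection ℬ (φ f)).hom (HomogeneousLocalization.Away.map φ f x)) :=
    congrArg (fun m => m.hom x) (awayToSection_appLE_image φ p hp hd hf e₁ e₁')
  have h2 := congrArg (rres _ hV) h1
  rw [appLE_eq_rres, appLE_eq_rres, rres_rres, rres_rres] at h2
  exact h2

include hp in
theorem appLE_fn_pow {d : ℕ} (hd : 0 < d) {h : A} (hh : h ∈ 𝒜 d) {k : ℕ} {a : A}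
    (ha : a ∈ 𝒜 (k • d)) (W : (Proj 𝒜).Opens) (hW : W ≤ Proj.basicOpen 𝒜 h)
    (W' : (Proj ℬ).Opens) (hW' : W' ≤ Proj.basicOpen ℬ (φ h))
    (V : (PCone.dom φ : Scheme.{u}).Opens) (e : V ≤ p ⁻¹ᵁ W)
    (e' : V ≤ (PCone.dom φ).ι ⁻¹ᵁ W') :
    p.appLE W V e (fn W a (h ^ k)) =
      (PCone.dom φ).ι.appLE W' V e' (fn W' (φ a) (φ h ^ k)) := by
  have hG : Good (Proj.basicOpen 𝒜 h) a (h ^ k) := goodD hh ha
  have hG' : Good (Proj.basicOpen ℬ (φ h)) (φ a) (φ h ^ k) :=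
    goodD (Graded.map_mem φ hh) (Graded.map_mem φ ha)
  rw [← rres_fn hW hG, ← rres_fn hW' hG', appLE_rres, appLE_rres, ← awayToSection_mk hh k a ha,
    ← awayToSection_mk (Graded.map_mem φ hh) k (φ a) (Graded.map_mem φ ha)]
  have := appLE_awayToSection φ p hp hd hh V (e.trans (fun _ hx => hW hx))
    (e'.trans (fun _ hx => hW' hx)) (HomogeneousLocalization.Away.mk 𝒜 hh k a ha)
  rw [HomogeneousLocalization.Away.map_mk] at this
  exact this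

include hp in
theorem appLE_fn_degOne {f g : A} (hf : f ∈ 𝒜 1) (hg : g ∈ 𝒜 1) (W : (Proj 𝒜).Opens)
    (hWf : W ≤ Proj.basicOpen 𝒜 f) (hWg : W ≤ Proj.basicOpen 𝒜 g)
    (V : (PCone.dom φ : Scheme.{u}).Opens) (e : V ≤ p ⁻¹ᵁ W) :
    p.appLE W V e (fn W f g) =
      ((PCone.dom φ).ι.appIso V).hom (fn ((PCone.dom φ).ι ''ᵁ V) (φ f) (φ g)) := by
  have hVf' : (PCone.dom φ).ι ''ᵁ V ≤ Proj.basicOpen ℬ (φ f) := by
    intro x hx
    obtain ⟨y, hy, rfl⟩ := hx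
    exact chart_image_le_ι φ one_pos hf
      (le_chart_image φ p hp one_pos hf (e.trans (fun _ hx => hWf hx)) hy)
  have hVg' : (PCone.dom φ).ι ''ᵁ V ≤ Proj.basicOpen ℬ (φ g) := by
    intro x hx
    obtain ⟨y, hy, rfl⟩ := hx
    exact chart_image_le_ι φ one_pos hg
      (le_chart_image φ p hp one_pos hg (e.trans (fun _ hx => hWg hx)) hy)
  have hW : W ≤ Proj.basicOpen 𝒜 (f * g) := by
    rw [Proj.basicOpen_mul]; exact le_inf hWf hWg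
  have hW' : (PCone.dom φ).ι ''ᵁ V ≤ Proj.basicOpen ℬ (φ (f * g)) := by
    rw [map_mul, Proj.basicOpen_mul]; exact le_inf hVf' hVg'
  have hfg : f * g ∈ 𝒜 2 := SetLike.mul_mem_graded hf hg
  have hff : f * f ∈ 𝒜 (1 • 2) := SetLike.mul_mem_graded hf hf
  have key := appLE_fn_pow φ p hp (d := 2) two_pos hfg (k := 1) hff W hW
    ((PCone.dom φ).ι ''ᵁ V) hW' V e (((PCone.dom φ).ι.preimage_image_eq V).ge)
  have hG : Good W f g := good_of_mem hf hg (fun x => hWg x.2)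
  have hG2 : Good W (f * f) ((f * g) ^ 1) := (goodD hfg hff).mono hW
  have hG' : Good ((PCone.dom φ).ι ''ᵁ V) (φ f) (φ g) :=
    good_of_mem (Graded.map_mem φ hf) (Graded.map_mem φ hg) (fun x => hVg' x.2)
  have hG2' : Good ((PCone.dom φ).ι ''ᵁ V) (φ (f * f)) (φ (f * g) ^ 1) :=
    (goodD (Graded.map_mem φ hfg) (Graded.map_mem φ hff)).mono hW'
  have e1 : fn W f g = fn W (f * f) ((f * g) ^ 1) := fn_eq hG hG2 (by ring)
  have e2 : fn ((PCone.dom φ).ι ''ᵁ V) (φ f) (φ g) =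
      fn ((PCone.dom φ).ι ''ᵁ V) (φ (f * f)) (φ (f * g) ^ 1) :=
    fn_eq hG' hG2' (by rw [map_mul, map_mul]; ring)
  rw [Scheme.Hom.appIso_hom', e1, e2]
  exact key

include hp in
theorem nonempty_iso
    (hgen : (HomogeneousIdeal.irrelevant 𝒜).toIdeal = Ideal.span (𝒜 1 : Set A)) (n : ℤ) :
    Nonempty ((Scheme.Modules.pullback p).obj (Twist.twist 𝒜 n) ≅
      (Twist.twist ℬ n).restrict (PCone.dom φ).ι) := by
  classical
  have hdeg : ((n.toNat : ℕ) : ℤ) = ((-n).toNat : ℕ) + n := by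
    rcases le_total 0 n with h' | h'
    · rw [Int.toNat_of_nonneg h', Int.toNat_eq_zero.mpr (by omega)]
      simp
    · rw [Int.toNat_eq_zero.mpr h', Int.toNat_of_nonneg (by omega)]
      simp
  let U : {f : A // f ∈ 𝒜 1} → (PCone.dom φ : Scheme.{u}).Opens :=
    fun f => p ⁻¹ᵁ Proj.basicOpen 𝒜 f.1
  have hUimg : ∀ f : {f : A // f ∈ 𝒜 1},
      (PCone.dom φ).ι ''ᵁ U f ≤ Proj.basicOpen ℬ (φ f.1) := by
    intro f x hx
    obtain ⟨y, hy, rfl⟩ := hx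
    exact chart_image_le_ι φ one_pos f.2 (le_chart_image φ p hp one_pos f.2 le_rfl hy)
  have hcov : iSup U = ⊤ := by
    rw [eq_top_iff]
    intro y _
    obtain ⟨f, hf⟩ := TwistProj.exists_mem_basicOpen_of_span (𝒜 := 𝒜)
      (fun f : {f : A // f ∈ 𝒜 1} => f.1)
      (by
        rw [hgen]
        apply Ideal.span_mono
        intro a ha
        exact ⟨⟨a, ha⟩, rfl⟩) (p y)
    exact Opens.mem_iSup.mpr ⟨f, hf⟩
  -- generators on the `𝒜` side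
  let t : ∀ f : {f : A // f ∈ 𝒜 1}, Γ(Twist.twist 𝒜 n, Proj.basicOpen 𝒜 f.1) := fun f =>
    frac (Proj.basicOpen 𝒜 f.1) ⟨f.1 ^ n.toNat, pow_mem_of_mem_one f.2 _⟩
      ⟨f.1 ^ (-n).toNat, pow_mem_of_mem_one f.2 _⟩
      (fun x => notMem_pow (le_refl (Proj.basicOpen 𝒜 f.1) x.2) _) n hdeg
  have ht : ∀ f, IsGen (Twist.twist 𝒜 n) _ (t f) := fun f =>
    isGen_frac _ _ _ (fun x => notMem_pow x.2 _) _ n hdeg
  let s : ∀ f : {f : A // f ∈ 𝒜 1},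
      Γ((Scheme.Modules.pullback p).obj (Twist.twist 𝒜 n), U f) :=
    fun f => PbBasic.pull p _ _ (t f)
  have hs : ∀ f, IsGen _ (U f) (s f) := fun f => PbBasic.isGen_pull p (ht f)
  -- generators on the `ℬ` side
  let t' : ∀ f : {f : A // f ∈ 𝒜 1}, Γ(Twist.twist ℬ n, (PCone.dom φ).ι ''ᵁ U f) := fun f =>
    frac ((PCone.dom φ).ι ''ᵁ U f)
      ⟨φ f.1 ^ n.toNat, pow_mem_of_mem_one (Graded.map_mem φ f.2) _⟩
      ⟨φ f.1 ^ (-n).toNat, pow_mem_of_mem_one (Graded.map_mem φ f.2) _⟩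
      (fun x => notMem_pow (hUimg f x.2) _) n hdeg
  let s' : ∀ f : {f : A // f ∈ 𝒜 1}, Γ((Twist.twist ℬ n).restrict (PCone.dom φ).ι, U f) :=
    fun f => t' f
  have hs' : ∀ f, IsGen _ (U f) (s' f) := fun f =>
    (InvRestrict.isGen_restrict_iff (PCone.dom φ).ι _ _ _).mpr
      (isGen_frac _ _ _ (fun x => notMem_pow (hUimg f x.2) _) _ n hdeg)
  -- transition functions
  let c : ∀ f g : {f : A // f ∈ 𝒜 1},
      Γ(Proj 𝒜, Proj.basicOpen 𝒜 f.1 ⊓ Proj.basicOpen 𝒜 g.1) := fun f g =>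
    fn _ f.1 g.1 ^ n.toNat * fn _ g.1 f.1 ^ (-n).toNat
  have hUW : ∀ f g : {f : A // f ∈ 𝒜 1},
      U f ⊓ U g ≤ p ⁻¹ᵁ (Proj.basicOpen 𝒜 f.1 ⊓ Proj.basicOpen 𝒜 g.1) :=
    fun f g _ hx => ⟨hx.1, hx.2⟩
  let η : ∀ f g : {f : A // f ∈ 𝒜 1}, Γ((PCone.dom φ : Scheme.{u}), U f ⊓ U g) := fun f g =>
    p.appLE _ (U f ⊓ U g) (hUW f g) (c f g)
  have hη : ∀ f g, res _ (inf_le_left : U f ⊓ U g ≤ U f) (s f) =
      η f g • res _ (inf_le_right : U f ⊓ U g ≤ U g) (s g) := by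
    intro f g
    refine pull_trans p (Twist.twist 𝒜 n) inf_le_left inf_le_right (U f ⊓ U g) _ _ (hUW f g)
      (t f) (t g) (c f g) ?_
    rw [res_frac, res_frac]
    exact frac_trans f.2 g.2 _ _ n hdeg _ inf_le_left inf_le_right
  have hη' : ∀ f g, res _ (inf_le_left : U f ⊓ U g ≤ U f) (s' f) =
      η f g • res _ (inf_le_right : U f ⊓ U g ≤ U g) (s' g) := by
    intro f g
    have e1 : η f g = ((PCone.dom φ).ι.appIso (U f ⊓ U g)).hom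
        (fn ((PCone.dom φ).ι ''ᵁ (U f ⊓ U g)) (φ f.1) (φ g.1) ^ n.toNat *
          fn ((PCone.dom φ).ι ''ᵁ (U f ⊓ U g)) (φ g.1) (φ f.1) ^ (-n).toNat) := by
      change p.appLE _ (U f ⊓ U g) (hUW f g)
        (fn _ f.1 g.1 ^ n.toNat * fn _ g.1 f.1 ^ (-n).toNat) = _
      rw [map_mul, map_pow, map_pow, map_mul, map_pow, map_pow,
        appLE_fn_degOne φ p hp f.2 g.2 _ inf_le_left inf_le_right _ (hUW f g),
        appLE_fn_degOne φ p hp g.2 f.2 _ inf_le_right inf_le_left _ (hUW f g)]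
    rw [e1, InvRestrict.smul_X_eq, InvRestrict.res_restrict, InvRestrict.res_restrict]
    change res (Twist.twist ℬ n) _ (t' f) = _ • res (Twist.twist ℬ n) _ (t' g)
    rw [res_frac, res_frac]
    exact frac_trans (Graded.map_mem φ f.2) (Graded.map_mem φ g.2) _ _ n hdeg _
      (((PCone.dom φ).ι.image_mono inf_le_left).trans (hUimg f))
      (((PCone.dom φ).ι.image_mono inf_le_right).trans (hUimg g))
  exact Cocycle.nonempty_iso_of_units U hcov s s' hs hs' η η hη hη' (fun _ => 1)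
    (fun i j => by rw [Units.val_one, Units.val_one, rres_one, rres_one, mul_one, one_mul])

end main

end Groth.Agent.Lib.Helper3.PConeTwist
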