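import Groth.Agent.Lib.Helper3.ProjHet
import Groth.Agent.Lib.Helper3.VAChart

/-!
# The morphism `Z ⟶ Proj R[x₀,…,xₙ]` attached to `q : Z ⟶ Spec R` and `r : Z ⟶ ℙⁿ_ℤ`
-/

set_option autoImplicit false
set_option linter.unusedSectionVars false
universe u
open CategoryTheory CategoryTheory.Limits AlgebraicGeometry TopologicalSpace Opposite
open Scheme.Modules

namespace Groth.Agent.Lib.Helper3.PEmb1

open QCSec TwistBasic GrTildeQC ProjFrac GrTildeHom ToProj ProjGlue ProjOfSec GrScale VAChart VACore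
  VAConv ProjHet

/-- index type of the coordinates -/
abbrev κ (n : ℕ) : Type u := ULift.{u} (Fin (n + 1))

/-- the index map -/
abbrev idx (n : ℕ) : κ.{u} n → Fin (n + 1) := ULift.down

variable (n : ℕ) {R : Type u} [CommRing R] {Z : Scheme.{u}}
  (q : Z ⟶ Spec (CommRingCat.of R)) (r : Z ⟶ CohB1.ProjSpace n (ULift.{u} ℤ))

theorem hXZ (j : Fin (n + 1)) : (MvPolynomial.X j : MvPolynomial (Fin (n + 1)) (ULift.{u} ℤ)) ∈
    CohB1.polyGrading n (ULift.{u} ℤ) 1 := MvPolynomial.isHomogeneous_X _ j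

theorem hXR (j : Fin (n + 1)) : (MvPolynomial.X j : MvPolynomial (Fin (n + 1)) R) ∈
    CohB1.polyGrading n R 1 := MvPolynomial.isHomogeneous_X _ j

/-- the preimages of the standard opens -/
noncomputable abbrev Zo (k : κ.{u} n) : Z.Opens := r ⁻¹ᵁ Dk n (idx n) k

/-- scalars as functions on `Zo k` -/
noncomputable def sc (k : κ.{u} n) : R →+* Γ(Z, Zo n r k) :=
  (rresHom Z (le_top : Zo n r k ≤ ⊤)).comp
    (q.appTop.hom.comp (Scheme.ΓSpecIso (CommRingCat.of R)).inv.hom)

theorem sc_apply (k : κ.{u} n) (c : R) : sc n q r k c =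
    rres Z (le_top : Zo n r k ≤ ⊤) (q.appTop ((Scheme.ΓSpecIso (CommRingCat.of R)).inv c)) := rfl

/-- the coordinate functions `x_j / x_k` on `Zo k` -/
noncomputable def uu (j k : κ.{u} n) : Γ(Z, Zo n r k) :=
  r.appLE (Dk n (idx n) k) (Zo n r k) le_rfl
    (fn (Dk n (idx n) k) (MvPolynomial.X j.down : MvPolynomial (Fin (n + 1)) (ULift.{u} ℤ))
      (MvPolynomial.X k.down))

/-- dehomogenization followed by pullback to `Zo k` -/
noncomputable def psi (k : κ.{u} n) : MvPolynomial (Fin (n + 1)) R →+* Γ(Z, Zo n r k) :=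
  MvPolynomial.eval₂Hom (sc n q r k) (fun j => uu n r ⟨j⟩ k)

theorem psi_C (k : κ.{u} n) (c : R) : psi n q r k (MvPolynomial.C c) = sc n q r k c := by
  unfold psi
  rw [MvPolynomial.coe_eval₂Hom, MvPolynomial.eval₂_C]

theorem psi_X (k : κ.{u} n) (j : Fin (n + 1)) : psi n q r k (MvPolynomial.X j) = uu n r ⟨j⟩ k := by
  unfold psi
  rw [MvPolynomial.coe_eval₂Hom, MvPolynomial.eval₂_X]

theorem uu_self (k : κ.{u} n) : uu n r k k = 1 := by
  unfold uu
  rw [fn_self (good_of_mem (hXZ n _) (hXZ n _) (fun x => x.2))]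
  exact map_one (r.appLE (Dk n (idx n) k) (Zo n r k) le_rfl).hom

theorem rres_uu {V : Z.Opens} (j k : κ.{u} n) (h : V ≤ Zo n r k) :
    rres Z h (uu n r j k) = r.appLE (Dk n (idx n) k) V h
      (fn (Dk n (idx n) k) (MvPolynomial.X j.down : MvPolynomial (Fin (n + 1)) (ULift.{u} ℤ))
        (MvPolynomial.X k.down)) := by
  unfold uu
  exact congrArg (fun φ : Γ(CohB1.ProjSpace n (ULift.{u} ℤ), Dk n (idx n) k) ⟶ Γ(Z, V) =>
    φ.hom (fn (Dk n (idx n) k) (MvPolynomial.X j.down : MvPolynomial (Fin (n + 1)) (ULift.{u} ℤ))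
      (MvPolynomial.X k.down)))
    (Scheme.Hom.appLE_map r (le_rfl : Zo n r k ≤ _) (homOfLE h).op)

theorem uu_mul (i j k : κ.{u} n) :
    rres Z (inf_le_right : Zo n r i ⊓ Zo n r k ≤ Zo n r k) (uu n r j k) *
      rres Z (inf_le_left : Zo n r i ⊓ Zo n r k ≤ Zo n r i) (uu n r k i) =
    rres Z (inf_le_left : Zo n r i ⊓ Zo n r k ≤ Zo n r i) (uu n r j i) := by
  rw [rres_uu, rres_uu, rres_uu]
  have h := appLE_fn_mul_pow r (hXZ n i.down) (hXZ n k.down) (Zo n r i ⊓ Zo n r k)
    inf_le_left inf_le_right (m := 1) (hXZ n j.down)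
  rw [pow_one, pow_one, pow_one] at h
  exact h

theorem rres_sc {V : Z.Opens} (k : κ.{u} n) (h : V ≤ Zo n r k) (c : R) :
    rres Z h (sc n q r k c) =
      rres Z (le_top : V ≤ ⊤) (q.appTop ((Scheme.ΓSpecIso (CommRingCat.of R)).inv c)) := by
  rw [sc_apply, rres_rres]

/-- the gluing data -/
noncomputable def data : ProjData (CohB1.polyGrading n R) Z (κ.{u} n) where
  t k := MvPolynomial.X k.down
  ht k := hXR n k.down
  Xo := Zo n r
  cov x := by
    obtain ⟨j, hj⟩ := exists_mem_basicOpen_X (ULift.{u} ℤ) n (r x)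
    exact ⟨⟨j⟩, hj⟩
  ψ := psi n q r
  ψ_self k := by rw [psi_X]; exact uu_self n r k
  basicOpen_ψ i k := by
    rw [psi_X]
    exact basicOpen_appLE_fn r (hXZ n i.down) (hXZ n k.down) (Zo n r i) le_rfl
  cocycle i k m b hb := by
    have key : (rresHom Z (inf_le_left : Zo n r i ⊓ Zo n r k ≤ Zo n r i)).comp (psi n q r i) =
        scaleHom (CohB1.polyGrading n R)
          ((rresHom Z (inf_le_right : Zo n r i ⊓ Zo n r k ≤ Zo n r k)).comp (psi n q r k))
          (rres Z (inf_le_left : Zo n r i ⊓ Zo n r k ≤ Zo n r i)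
            (psi n q r i (MvPolynomial.X k.down))) := by
      apply MvPolynomial.ringHom_ext
      · intro c
        have hc : (MvPolynomial.C c : MvPolynomial (Fin (n + 1)) R) ∈ CohB1.polyGrading n R 0 :=
          MvPolynomial.isHomogeneous_C _ c
        rw [scaleHom_of_mem _ _ _ hc, pow_zero, one_mul]
        simp only [RingHom.comp_apply, rresHom_apply]
        rw [psi_C, psi_C, rres_sc, rres_sc]
      · intro j
        rw [scaleHom_of_mem _ _ _ (hXR n j), pow_one]
        simp only [RingHom.comp_apply, rresHom_apply]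
        rw [psi_X, psi_X, psi_X, mul_comm]
        exact (uu_mul n r i ⟨j⟩ k).symm
    have h := congrArg (fun φ => φ b) key
    simp only [RingHom.comp_apply, rresHom_apply] at h
    rw [scaleHom_of_mem _ _ _ hb] at h
    exact h

/-- the morphism to projective space over `R` -/
noncomputable def iZ : Z ⟶ Proj (CohB1.polyGrading n R) := (data n q r).hom

theorem le_preimage (k : κ.{u} n) :
    Zo n r k ≤ iZ n q r ⁻¹ᵁ Proj.basicOpen (CohB1.polyGrading n R) (MvPolynomial.X k.down) :=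
  (data n q r).le_preimage k

theorem iZ_appLE_deh (k : κ.{u} n) (b : MvPolynomial (Fin (n + 1)) R) :
    (iZ n q r).appLE (Proj.basicOpen (CohB1.polyGrading n R) (MvPolynomial.X k.down)) (Zo n r k)
      (le_preimage n q r k) (deh (hXR n k.down) b) = psi n q r k b :=
  (data n q r).hom_appLE_deh k b

theorem iZ_appLE_fn (k : κ.{u} n) {m : ℕ} {b : MvPolynomial (Fin (n + 1)) R}
    (hb : b ∈ CohB1.polyGrading n R m) :
    (iZ n q r).appLE (Proj.basicOpen (CohB1.polyGrading n R) (MvPolynomial.X k.down)) (Zo n r k)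
      (le_preimage n q r k)
      (fn (Proj.basicOpen (CohB1.polyGrading n R) (MvPolynomial.X k.down)) b
        ((MvPolynomial.X k.down : MvPolynomial (Fin (n + 1)) R) ^ m)) = psi n q r k b :=
  (data n q r).hom_appLE_fn k hb

theorem iZ_toSpec : iZ n q r ≫ CohB1.ProjSpace.toSpec n R = q := by
  unfold CohB1.ProjSpace.toSpec
  refine (data n q r).hom_toSpec q (fun k c => ?_)
  change psi n q r k (MvPolynomial.C c) = _
  rw [psi_C, sc_apply]
  rfl

end Groth.Agent.Lib.Helper3.PEmb1
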