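import Groth.Agent.Lib.Helper3.PEmb1

/-!
# The morphism `Z ⟶ Proj R[x]` is a closed immersion when `Z ⟶ ℙⁿ_ℤ × Spec R` is
-/

set_option autoImplicit false
set_option linter.unusedSectionVars false
universe u
open CategoryTheory CategoryTheory.Limits AlgebraicGeometry TopologicalSpace Opposite
open Scheme.Modules
open scoped HomogeneousIdeal

namespace Groth.Agent.Lib.Helper3.PEmb2

open QCSec TwistBasic GrTildeQC ProjFrac GrTildeHom ToProj ProjGlue ProjOfSec GrScale VAChart VACore
  VAConv ProjHet PEmb1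

variable (n : ℕ)

section MapG

variable {R R' : Type u} [CommRing R] [CommRing R'] (θ : R →+* R')

/-- base change of polynomial rings as a graded ring homomorphism -/
noncomputable def mapG : CohB1.polyGrading n R →+*ᵍ CohB1.polyGrading n R' where
  toRingHom := MvPolynomial.map θ
  map_mem := fun hx => MvPolynomial.IsHomogeneous.map hx θ

theorem mapG_apply (b : MvPolynomial (Fin (n + 1)) R) : mapG n θ b = MvPolynomial.map θ b := rfl

theorem irr_mapG : (CohB1.polyGrading n R')₊ ≤ ((CohB1.polyGrading n R)₊).map (mapG n θ) := by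
  rw [HomogeneousIdeal.irrelevant_le]
  intro i hi b hb
  change b ∈ Ideal.map (mapG n θ) ((CohB1.polyGrading n R)₊).toIdeal
  have hb' : b.IsHomogeneous i := hb
  rw [← MvPolynomial.support_sum_monomial_coeff b]
  refine sum_mem (fun μ hμ => ?_)
  have hdeg : μ.degree = i := by
    by_contra h
    exact (MvPolynomial.mem_support_iff.mp hμ) (hb'.coeff_eq_zero h)
  have e : MvPolynomial.monomial μ (MvPolynomial.coeff μ b) =
      MvPolynomial.C (MvPolynomial.coeff μ b) * mapG n θ (MvPolynomial.monomial μ (1 : R)) := by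
    rw [mapG_apply, MvPolynomial.map_monomial, map_one, MvPolynomial.C_mul_monomial, mul_one]
  rw [e]
  refine Ideal.mul_mem_left _ _ (Ideal.mem_map_of_mem _ ?_)
  exact HomogeneousIdeal.mem_irrelevant_of_mem _ hi
    (MvPolynomial.isHomogeneous_monomial (1 : R) hdeg)

end MapG

variable {R : Type u} [CommRing R]

/-- the unique ring homomorphism from `ULift ℤ` -/
noncomputable def θ₀ (R : Type u) [CommRing R] : ULift.{u} ℤ →+* R :=
  (Int.castRingHom R).comp (ULift.ringEquiv : ULift.{u} ℤ ≃+* ℤ).toRingHom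

/-- the projection from projective space over `R` to projective space over `ℤ` -/
noncomputable def gmap (R : Type u) [CommRing R] :
    Proj (CohB1.polyGrading n R) ⟶ CohB1.ProjSpace n (ULift.{u} ℤ) :=
  Proj.map (mapG n (θ₀ R)) (irr_mapG n (θ₀ R))

theorem gmap_preimage (k : κ.{u} n) :
    gmap n R ⁻¹ᵁ Dk n (idx n) k =
      Proj.basicOpen (CohB1.polyGrading n R) (MvPolynomial.X k.down) := by
  have h : gmap n R ⁻¹ᵁ Dk n (idx n) k = Proj.basicOpen (CohB1.polyGrading n R)
      (mapG n (θ₀ R) (MvPolynomial.X k.down)) := rfl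
  rw [h, mapG_apply, MvPolynomial.map_X]

variable {Z : Scheme.{u}} (q : Z ⟶ Spec (CommRingCat.of R))
  (r : Z ⟶ CohB1.ProjSpace n (ULift.{u} ℤ))

theorem appLE_deh_congr {Y : Scheme.{u}} (t : Y ⟶ Proj (CohB1.polyGrading n R)) (V : Y.Opens)
    {g g' : MvPolynomial (Fin (n + 1)) R} (hgg : g = g') (hg : g ∈ CohB1.polyGrading n R 1)
    (hg' : g' ∈ CohB1.polyGrading n R 1)
    (e : V ≤ t ⁻¹ᵁ Proj.basicOpen (CohB1.polyGrading n R) g)
    (e' : V ≤ t ⁻¹ᵁ Proj.basicOpen (CohB1.polyGrading n R) g')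
    (b : MvPolynomial (Fin (n + 1)) R) :
    t.appLE (Proj.basicOpen (CohB1.polyGrading n R) g) V e (deh hg b) =
      t.appLE (Proj.basicOpen (CohB1.polyGrading n R) g') V e' (deh hg' b) := by
  subst hgg
  rfl

theorem psi_map (k : κ.{u} n) (b : MvPolynomial (Fin (n + 1)) (ULift.{u} ℤ)) :
    psi n q r k (MvPolynomial.map (θ₀ R) b) =
      r.appLE (Dk n (idx n) k) (Zo n r k) le_rfl (deh (hXZ n k.down) b) := by
  have : (psi n q r k).comp (MvPolynomial.map (θ₀ R)) =
      (r.appLE (Dk n (idx n) k) (Zo n r k) le_rfl).hom.comp (deh (hXZ n k.down)) := by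
    apply MvPolynomial.ringHom_ext
    · intro c
      exact congrArg (fun φ => φ c) (ulift_int_hom_ext
        (((psi n q r k).comp (MvPolynomial.map (θ₀ R))).comp MvPolynomial.C)
        (((r.appLE (Dk n (idx n) k) (Zo n r k) le_rfl).hom.comp (deh (hXZ n k.down))).comp
          MvPolynomial.C))
    · intro j
      rw [RingHom.comp_apply, MvPolynomial.map_X, psi_X]
      have h1 : deh (hXZ n k.down) (MvPolynomial.X j) = fn (Dk n (idx n) k)
          (MvPolynomial.X j : MvPolynomial (Fin (n + 1)) (ULift.{u} ℤ)) (MvPolynomial.X k.down) := by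
        rw [deh_of_mem (hXZ n k.down) (hXZ n j), pow_one]
      exact congrArg (fun z => r.appLE (Dk n (idx n) k) (Zo n r k) le_rfl z) h1.symm
  exact congrArg (fun φ => φ b) this

theorem iZ_gmap : iZ n q r ≫ gmap n R = r := by
  have e' : ∀ k : κ.{u} n, Zo n r k ≤ (iZ n q r ≫ gmap n R) ⁻¹ᵁ Dk n (idx n) k := by
    intro k
    rw [Scheme.Hom.comp_preimage, gmap_preimage]
    exact le_preimage n q r k
  refine hom_ext_of_deh (𝒜 := CohB1.polyGrading n (ULift.{u} ℤ)) _ _
    (fun k : κ.{u} n => MvPolynomial.X k.down) (fun k => hXZ n k.down) (Zo n r)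
    (fun x => ?_) e' (fun k => le_rfl) (fun k b => ?_)
  · obtain ⟨j, hj⟩ := exists_mem_basicOpen_X (ULift.{u} ℤ) n (r x)
    exact ⟨⟨j⟩, hj⟩
  · have e'' : Zo n r k ≤ iZ n q r ⁻¹ᵁ Proj.basicOpen (CohB1.polyGrading n R)
        (mapG n (θ₀ R) (MvPolynomial.X k.down)) := by
      rw [mapG_apply, MvPolynomial.map_X]
      exact le_preimage n q r k
    refine (comp_map_appLE_deh (mapG n (θ₀ R)) (irr_mapG n (θ₀ R)) (iZ n q r) (hXZ n k.down)
      (Zo n r k) (e' k) e'' b).trans ?_
    refine (appLE_deh_congr n (iZ n q r) (Zo n r k)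
      (by rw [mapG_apply, MvPolynomial.map_X]) _ (hXR n k.down) e'' (le_preimage n q r k) _).trans ?_
    rw [iZ_appLE_deh, mapG_apply, psi_map]
    rfl

theorem iZ_preimage (k : κ.{u} n) :
    iZ n q r ⁻¹ᵁ Proj.basicOpen (CohB1.polyGrading n R) (MvPolynomial.X k.down) = Zo n r k := by
  have h := congrArg (fun t => t ⁻¹ᵁ Dk n (idx n) k) (iZ_gmap n q r)
  simp only [Scheme.Hom.comp_preimage, gmap_preimage] at h
  exact h

/-- if `Z ⟶ ℙⁿ_ℤ × Spec R` is a closed immersion then so is `Z ⟶ Proj R[x]` -/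
theorem isClosedImmersion_iZ {P : Scheme.{u}} (a : P ⟶ CohB1.ProjSpace n (ULift.{u} ℤ))
    (b : P ⟶ Spec (CommRingCat.of R))
    (hP : IsPullback a b (CohB1.ProjSpace.toSpec n (ULift.{u} ℤ))
      (specULiftZIsTerminal.from (Spec (CommRingCat.of R))))
    (j : Z ⟶ P) [IsClosedImmersion j] (hja : j ≫ a = r) (hjb : j ≫ b = q) :
    IsClosedImmersion (iZ n q r) := by
  let c : Proj (CohB1.polyGrading n R) ⟶ P :=
    hP.lift (gmap n R) (CohB1.ProjSpace.toSpec n R) (specULiftZIsTerminal.hom_ext _ _)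
  have hc1 : c ≫ a = gmap n R := hP.lift_fst _ _ _
  have hc2 : c ≫ b = CohB1.ProjSpace.toSpec n R := hP.lift_snd _ _ _
  have hj : iZ n q r ≫ c = j := by
    apply hP.hom_ext
    · rw [Category.assoc, hc1, iZ_gmap, hja]
    · rw [Category.assoc, hc2, iZ_toSpec, hjb]
  haveI : IsSeparated (CohB1.ProjSpace.toSpec n R) := by
    have : IsSeparated (Proj.toSpecZero (CohB1.polyGrading n R) ≫
        Spec.map (CommRingCat.ofHom (algebraMap R ↥(CohB1.polyGrading n R 0)))) := by
      haveI : IsSeparated (Proj.toSpecZero (CohB1.polyGrading n R)) := inferInstance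
      infer_instance
    exact this
  haveI : IsSeparated (c ≫ b) := by rw [hc2]; infer_instance
  haveI : IsSeparated c := IsSeparated.of_comp c b
  haveI : IsClosedImmersion (iZ n q r ≫ c) := by rw [hj]; infer_instance
  exact IsClosedImmersion.of_comp (iZ n q r) c

end Groth.Agent.Lib.Helper3.PEmb2
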