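import Groth.Agent.Lib.Helper3.PEmb3
import Mathlib.AlgebraicGeometry.Sites.SmallAffineZariski

/-!
# A closed subscheme of `ℙⁿ_S`: local data over the affine opens of `S`
-/

set_option autoImplicit false
set_option linter.unusedSectionVars false
universe u
open CategoryTheory CategoryTheory.Limits AlgebraicGeometry TopologicalSpace Opposite
open Scheme.Modules
open AlgebraicGeometry.Scheme AlgebraicGeometry.Scheme.AffineZariskiSite
open scoped HomogeneousIdeal

namespace Groth.Agent.Lib.Helper3.PEmb4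

open QCSec TwistBasic GrTildeQC ProjFrac GrTildeHom ToProj ProjGlue ProjOfSec GrScale VAChart VACore
  VAConv ProjHet PEmb1 PEmb2 PEmb3 ProjClosed

variable (n : ℕ) {X S : Scheme.{u}}
  (i : X ⟶ pullback (CohB1.ProjSpace.toSpec n (ULift.{u} ℤ)) (specULiftZIsTerminal.from S))

/-- the structure morphism -/
noncomputable abbrev fS : X ⟶ S :=
  i ≫ pullback.snd (CohB1.ProjSpace.toSpec n (ULift.{u} ℤ)) (specULiftZIsTerminal.from S)

/-- the morphism to projective space over `ℤ` -/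
noncomputable abbrev rS : X ⟶ CohB1.ProjSpace n (ULift.{u} ℤ) :=
  i ≫ pullback.fst (CohB1.ProjSpace.toSpec n (ULift.{u} ℤ)) (specULiftZIsTerminal.from S)

/-- the structure morphism over an open `U` of `S` -/
noncomputable def qU (U : S.Opens) :
    (fS n i ⁻¹ᵁ U).toScheme ⟶ Spec (CommRingCat.of Γ(S, U)) :=
  (fS n i ∣_ U) ≫ U.toSpecΓ

/-- the morphism to projective space over `ℤ` from the preimage of `U` -/
noncomputable def rU (U : S.Opens) :
    (fS n i ⁻¹ᵁ U).toScheme ⟶ CohB1.ProjSpace n (ULift.{u} ℤ) :=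
  (fS n i ⁻¹ᵁ U).ι ≫ rS n i

theorem qU_fromSpec {U : S.Opens} (hU : IsAffineOpen U) :
    qU n i U ≫ hU.fromSpec = (fS n i ⁻¹ᵁ U).ι ≫ fS n i := by
  unfold qU
  rw [Category.assoc]
  have h := hU.toSpecΓ_fromSpec
  exact (congrArg (fun t => (fS n i ∣_ U) ≫ t) h).trans (morphismRestrict_ι _ _)

section Res

variable {U V : S.Opens} (hVU : V ≤ U)

/-- the inclusion of preimages -/
noncomputable abbrev hUV : (fS n i ⁻¹ᵁ V).toScheme ⟶ (fS n i ⁻¹ᵁ U).toScheme :=
  X.homOfLE ((fS n i).preimage_mono hVU)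

theorem hUV_rU : hUV n i hVU ≫ rU n i U = rU n i V := by
  unfold rU
  rw [Scheme.homOfLE_ι_assoc]

theorem hUV_restrict : hUV n i hVU ≫ (fS n i ∣_ U) = (fS n i ∣_ V) ≫ S.homOfLE hVU := by
  rw [← cancel_mono U.ι, Category.assoc, Category.assoc, morphismRestrict_ι,
    Scheme.homOfLE_ι_assoc, Scheme.homOfLE_ι, morphismRestrict_ι]

theorem hUV_qU : hUV n i hVU ≫ qU n i U =
    qU n i V ≫ Spec.map (CommRingCat.ofHom (S.presheaf.map (homOfLE hVU).op).hom) := by
  unfold qU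
  have h1 := Scheme.Opens.toSpecΓ_SpecMap_presheaf_map V U hVU
  have h2 : Spec.map (CommRingCat.ofHom (S.presheaf.map (homOfLE hVU).op).hom) =
      Spec.map (S.presheaf.map (homOfLE hVU).op) := rfl
  rw [Category.assoc, h2, h1, reassoc_of% (hUV_restrict n i hVU)]

end Res

theorem hUV_opensRange {U : S.Opens} (s : Γ(S, U)) :
    (hUV n i (S.basicOpen_le s)).opensRange =
      (fS n i ⁻¹ᵁ U).toScheme.basicOpen
        ((qU n i U).appTop ((Scheme.ΓSpecIso (CommRingCat.of Γ(S, U))).inv s)) := by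
  have h0 : (Spec (CommRingCat.of Γ(S, U))).basicOpen
      ((Scheme.ΓSpecIso (CommRingCat.of Γ(S, U))).inv s) = PrimeSpectrum.basicOpen s :=
    basicOpen_eq_of_affine (R := CommRingCat.of Γ(S, U)) s
  have h1 : (fS n i ⁻¹ᵁ U).toScheme.basicOpen
      ((qU n i U).appTop ((Scheme.ΓSpecIso (CommRingCat.of Γ(S, U))).inv s)) =
      qU n i U ⁻¹ᵁ (Spec (CommRingCat.of Γ(S, U))).basicOpen
        ((Scheme.ΓSpecIso (CommRingCat.of Γ(S, U))).inv s) :=
    (Scheme.preimage_basicOpen (qU n i U) _).symm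
  have h2 : U.toSpecΓ ⁻¹ᵁ PrimeSpectrum.basicOpen s = U.ι ⁻¹ᵁ S.basicOpen s :=
    Scheme.Opens.toSpecΓ_preimage_basicOpen U s
  have h3 : (fS n i ∣_ U) ⁻¹ᵁ (U.ι ⁻¹ᵁ S.basicOpen s) =
      (fS n i ⁻¹ᵁ U).ι ⁻¹ᵁ (fS n i ⁻¹ᵁ S.basicOpen s) := by
    rw [← Scheme.Hom.comp_preimage, ← Scheme.Hom.comp_preimage, morphismRestrict_ι]
  have h4 : qU n i U ⁻¹ᵁ (Spec (CommRingCat.of Γ(S, U))).basicOpen
      ((Scheme.ΓSpecIso (CommRingCat.of Γ(S, U))).inv s) =
      (fS n i ∣_ U) ⁻¹ᵁ (U.toSpecΓ ⁻¹ᵁ PrimeSpectrum.basicOpen s) := by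
    rw [h0]
    rfl
  exact (Scheme.opensRange_homOfLE _).trans (h3.symm.trans
    ((congrArg (fun W => (fS n i ∣_ U) ⁻¹ᵁ W) h2.symm).trans (h4.symm.trans h1.symm)))

section Closed

variable [IsClosedImmersion i]

theorem isPullback_chart (U : S.Opens) :
    IsPullback
      ((pullback.snd (CohB1.ProjSpace.toSpec n (ULift.{u} ℤ)) (specULiftZIsTerminal.from S) ⁻¹ᵁ U).ι ≫
        pullback.fst (CohB1.ProjSpace.toSpec n (ULift.{u} ℤ)) (specULiftZIsTerminal.from S))
      (pullback.snd (CohB1.ProjSpace.toSpec n (ULift.{u} ℤ)) (specULiftZIsTerminal.from S) ∣_ U)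
      (CohB1.ProjSpace.toSpec n (ULift.{u} ℤ)) (specULiftZIsTerminal.from U.toScheme) := by
  have sq1 := isPullback_morphismRestrict
    (pullback.snd (CohB1.ProjSpace.toSpec n (ULift.{u} ℤ)) (specULiftZIsTerminal.from S)) U
  have sq2 := (IsPullback.of_hasPullback (CohB1.ProjSpace.toSpec n (ULift.{u} ℤ))
    (specULiftZIsTerminal.from S)).flip
  have sq12 := (sq1.paste_vert sq2).flip
  have e : U.ι ≫ specULiftZIsTerminal.from S = specULiftZIsTerminal.from U.toScheme :=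
    specULiftZIsTerminal.hom_ext _ _
  rw [e] at sq12
  exact sq12

theorem isClosedImmersion_iZU {U : S.Opens} (hU : IsAffineOpen U) :
    IsClosedImmersion (iZ n (qU n i U) (rU n i U)) := by
  have hP := isPullback_chart n (S := S) U
  have hP' : IsPullback
      ((pullback.snd (CohB1.ProjSpace.toSpec n (ULift.{u} ℤ)) (specULiftZIsTerminal.from S) ⁻¹ᵁ U).ι ≫
        pullback.fst (CohB1.ProjSpace.toSpec n (ULift.{u} ℤ)) (specULiftZIsTerminal.from S))
      ((pullback.snd (CohB1.ProjSpace.toSpec n (ULift.{u} ℤ)) (specULiftZIsTerminal.from S) ∣_ U) ≫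
        hU.isoSpec.hom)
      (CohB1.ProjSpace.toSpec n (ULift.{u} ℤ))
      (specULiftZIsTerminal.from (Spec (CommRingCat.of Γ(S, U)))) := by
    refine IsPullback.of_iso hP (Iso.refl _) (Iso.refl _) hU.isoSpec (Iso.refl _) ?_ ?_ ?_ ?_
    · simp
    · simp
    · simp
    · exact specULiftZIsTerminal.hom_ext _ _
  let j : (fS n i ⁻¹ᵁ U).toScheme ⟶
      (pullback.snd (CohB1.ProjSpace.toSpec n (ULift.{u} ℤ)) (specULiftZIsTerminal.from S) ⁻¹ᵁ
        U).toScheme :=
    i ∣_ (pullback.snd (CohB1.ProjSpace.toSpec n (ULift.{u} ℤ)) (specULiftZIsTerminal.from S) ⁻¹ᵁ U)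
  haveI : IsClosedImmersion j := by
    change IsClosedImmersion (i ∣_ _)
    infer_instance
  refine isClosedImmersion_iZ n (qU n i U) (rU n i U) _ _ hP' j ?_ ?_
  · change (i ∣_ _) ≫ _ ≫ _ = _
    rw [morphismRestrict_ι_assoc]
    rfl
  · have h1 : fS n i ∣_ U = j ≫ (pullback.snd (CohB1.ProjSpace.toSpec n (ULift.{u} ℤ))
        (specULiftZIsTerminal.from S) ∣_ U) :=
      morphismRestrict_comp i _ U
    exact (Category.assoc _ _ _).symm.trans (congrArg (fun t => t ≫ U.toSpecΓ) h1.symm)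

end Closed

end Groth.Agent.Lib.Helper3.PEmb4
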