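import Groth.Agent.Lib.Helper3.CounitGG
import Groth.Agent.Lib.Helper3.GlobGen
import Groth.Agent.Lib.Helper3.InvCoh

/-!
# Epimorphisms: tensoring with an invertible module; adjoints of maps to a direct image
-/

set_option autoImplicit false
universe u
open CategoryTheory CategoryTheory.Limits AlgebraicGeometry TopologicalSpace Opposite
open Scheme.Modules

namespace Groth.Agent.Lib.Helper3.PbEpi

open QCSec InvGen InvTensor InvMonoidal InvCoh FreeSec PbBasic CounitGG GlobGen

variable {X Y : Scheme.{u}}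

/-- tensoring an epimorphism with an invertible module gives an epimorphism -/
theorem epi_tensorMap_of_epi {A B L : X.Modules} (f : A ⟶ B) [Epi f] (hL : PicF.IsInvertible L) :
    Epi (tensorMap f (𝟙 L)) := by
  apply QCExact.epi_of_locally_surjective
  intro W s x hx
  obtain ⟨U, e, -, hxU, hUW, hg⟩ := exists_affine_isGen_le hL x W hx
  obtain ⟨b, hb⟩ := tm_gen_surjective_self B L hg (res _ hUW s)
  obtain ⟨W₁, hW₁, hxW₁, a, ha⟩ := QCExact.exists_local_lift f U b x hxU
  refine ⟨W₁, hW₁.trans hUW, hxW₁, tm A L W₁ a (res L hW₁ e), ?_⟩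
  rw [tensorMap_tm, ha]
  change tm B L W₁ (res B hW₁ b) (res L hW₁ e) = _
  have hb' : tm B L U b e = res (CohB1.tensorMod B L) hUW s := hb
  rw [← tm_res, hb', res_res]

/-- a module spanned by global sections is locally spanned by them -/
theorem isLocSpannedBy_of_isSpannedBy {M : X.Modules} [M.IsQuasicoherent] {I : Type u}
    (σ : I → Γ(M, ⊤)) (h : IsSpannedBy M σ) : IsLocSpannedBy M σ := by
  haveI := epi_freeHom M σ h
  have := isLocSpannedBy_of_epi (freeHom M σ)
  rwa [secOfHom_freeHom] at this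

/-- the adjoint `f^* G ⟶ M` of a map `G ⟶ f_* M` whose image contains enough sections is an
epimorphism -/
theorem epi_adjoint_of_isLocSpannedOn (f : X ⟶ Y) (M : X.Modules) {G : Y.Modules}
    (m : G ⟶ (pushforward f).obj M)
    (h : ∀ x : X, ∃ V : Y.Opens, f x ∈ V ∧
      ∃ (I : Type u) (σ : I → Γ(M, f ⁻¹ᵁ V)), IsLocSpannedOn M (f ⁻¹ᵁ V) σ ∧
        ∀ i, ∃ g : Γ(G, V), (show Γ(M, f ⁻¹ᵁ V) from m.app V g) = σ i) :
    Epi ((Scheme.Modules.pullback f).map m ≫ (pullbackPushforwardAdjunction f).counit.app M) := by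
  apply QCExact.epi_of_locally_surjective
  intro W s x hx
  obtain ⟨V, hxV, I, σ, hσ, hm⟩ := h x
  choose g hg using hm
  have hW₁ : W ⊓ f ⁻¹ᵁ V ≤ f ⁻¹ᵁ V := inf_le_right
  obtain ⟨W'', hW'', hxW'', hspan⟩ := hσ (W ⊓ f ⁻¹ᵁ V) hW₁ (res M inf_le_left s) x ⟨hx, hxV⟩
  refine ⟨W'', hW''.trans inf_le_left, hxW'', ?_⟩
  set c := (Scheme.Modules.pullback f).map m ≫ (pullbackPushforwardAdjunction f).counit.app M
    with hc
  have hle : Submodule.span Γ(X, W'') (Set.range (fun i => res M (hW''.trans hW₁) (σ i))) ≤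
      LinearMap.range (GlobGen.appLin c W'') := by
    rw [Submodule.span_le]
    rintro _ ⟨i, rfl⟩
    refine ⟨res _ (hW''.trans hW₁) (pull f G V (g i)), ?_⟩
    change c.app W'' _ = _
    rw [QCExact.app_res', hc]
    change res M _ (((pullbackPushforwardAdjunction f).counit.app M).app (f ⁻¹ᵁ V)
      (((Scheme.Modules.pullback f).map m).app (f ⁻¹ᵁ V) (pull f G V (g i)))) = _
    rw [pull_app, counit_pull]
    exact congrArg (res M (hW''.trans hW₁)) (hg i)
  obtain ⟨t, ht⟩ := hle hspan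
  exact ⟨t, ht.trans (res_res M hW'' inf_le_left s)⟩

end Groth.Agent.Lib.Helper3.PbEpi
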