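import Groth.Agent.Lib.Helper3.SymBiprod
import Groth.Agent.Lib.Helper3.SpecMapLocal
import Groth.Agent.Lib.Helper3.SymLocal

/-!
# Local properties of the structure morphism of a relative spectrum, chart by chart
-/

set_option autoImplicit false
set_option linter.unusedSectionVars false
universe u
open CategoryTheory CategoryTheory.Limits AlgebraicGeometry TopologicalSpace Opposite

namespace Groth.Agent.Lib.Helper3.PiLocal

variable {S : Scheme.{u}}

/-- an isomorphism of quasi-coherent algebras induces an isomorphism of relative spectra -/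
theorem isIso_specMap_of_iso {A B : RelSpec.QCAlg S} (a : A ≅ B) :
    IsIso (RelSpec.QCAlg.specMap a.hom) := by
  have h := SpecMapLocal.specMap_of_charts (ψ := a.hom)
    (MorphismProperty.isomorphisms Scheme.{u}) (fun U hU => by
      haveI : IsIso (a.hom.hom.app (op U)) :=
        ⟨⟨a.inv.hom.app (op U),
          NatTrans.congr_app (congrArg RelSpec.QCAlg.Hom.hom a.hom_inv_id) (op U),
          NatTrans.congr_app (congrArg RelSpec.QCAlg.Hom.hom a.inv_hom_id) (op U)⟩⟩
      exact (MorphismProperty.isomorphisms.iff _).2 inferInstance)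
  exact (MorphismProperty.isomorphisms.iff _).1 h

/-- a property local on the target holds for the structure morphism of a relative spectrum if it
holds for the spectra of the structure maps over the members of an affine open cover -/
theorem pi_of_charts (P : MorphismProperty Scheme.{u}) [IsZariskiLocalAtTarget P]
    (A : RelSpec.QCAlg S) {ι : Type*} (U : ι → S.Opens) (hU : ∀ i, IsAffineOpen (U i))
    (hcov : ⨆ i, U i = ⊤)
    (h : ∀ i, P (Spec.map (A.str.app (op (U i))))) : P A.π := by
  refine IsZariskiLocalAtTarget.of_iSup_eq_top U hcov (fun i => ?_)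
  have h1 := SymBiprod.isPullback_π A (U i) (hU i)
  have h2 : IsPullback (A.ι (U i) (hU i))
      (Spec.map (A.str.app (op (U i))) ≫ (hU i).isoSpec.inv) A.π (U i).ι := by
    refine IsPullback.of_iso h1 (Iso.refl _) (Iso.refl _) (hU i).isoSpec.symm (Iso.refl _)
      ?_ ?_ ?_ ?_
    · simp
    · simp
    · simp
    · simp only [Iso.symm_hom, Iso.refl_hom, Category.comp_id]
      exact (hU i).isoSpec_inv_ι.symm
  have h3 := isPullback_morphismRestrict A.π (U i)
  have h4 : P (Spec.map (A.str.app (op (U i))) ≫ (hU i).isoSpec.inv) :=
    (P.cancel_right_of_respectsIso _ _).2 (h i)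
  have e := h2.isoIsPullback _ _ h3.flip
  have h5 : (h2.isoIsPullback _ _ h3.flip).hom ≫ (A.π ∣_ U i) =
      Spec.map (A.str.app (op (U i))) ≫ (hU i).isoSpec.inv :=
    IsPullback.isoIsPullback_hom_snd _ _ h2 h3.flip
  rw [← h5] at h4
  exact (P.cancel_left_of_respectsIso _ _).1 h4

/-- the symmetric algebra of a free module of finite rank is smooth -/
theorem smooth_algebraMap_symAlg {R M : Type u} [CommRing R] [AddCommGroup M] [Module R M] {n : ℕ}
    (b : Module.Basis (Fin n) R M) : (algebraMap R (SymmetricAlgebra R M)).Smooth := by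
  rw [RingHom.smooth_algebraMap]
  haveI : Algebra.FormallySmooth R (SymmetricAlgebra R M) :=
    Algebra.FormallySmooth.of_equiv (SymmetricAlgebra.equivMvPolynomial b).symm
  haveI : Algebra.FinitePresentation R (SymmetricAlgebra R M) :=
    Algebra.FinitePresentation.equiv (SymmetricAlgebra.equivMvPolynomial b).symm
  exact ⟨inferInstance, inferInstance⟩

end Groth.Agent.Lib.Helper3.PiLocal
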