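import Groth.Agent.Lib.Helper3.SymGr
import Groth.Agent.Lib.Helper3.SymBiprod
import Groth.Agent.Lib.Helper3.GlobGen
import Groth.Agent.Lib.Helper3.QCLim
import Groth.Agent.Lib.Helper3.QCOpen
import Groth.Agent.Lib.Helper3.QCExact
import Groth.Prelude.Def_RelSpec2

/-!
# Existence of `𝒮[z]` for the symmetric algebra: `Sym(E ⊕ O) = Sym(E)[z]`
-/

set_option autoImplicit false
set_option linter.unusedSectionVars false
universe u
open CategoryTheory CategoryTheory.Limits AlgebraicGeometry TopologicalSpace Opposite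
open Scheme.Modules
open AlgebraicGeometry.Scheme AlgebraicGeometry.Scheme.AffineZariskiSite

namespace Groth.Agent.Lib.Helper3.PolyExist

open QCSec InvGen

section alg

variable {R M N : Type u} [CommRing R] [AddCommGroup M] [AddCommGroup N] [Module R M] [Module R N]
  (inl : M →ₗ[R] N) (fst : N →ₗ[R] M) (snd : N →ₗ[R] R) (e : N)

/-- functoriality of the symmetric algebra for a linear map -/
noncomputable def symInl : SymmetricAlgebra R M →ₐ[R] SymmetricAlgebra R N :=
  SymmetricAlgebra.lift ((SymmetricAlgebra.ι R N).comp inl)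

theorem symInl_ι (m : M) :
    symInl inl (SymmetricAlgebra.ι R M m) = SymmetricAlgebra.ι R N (inl m) :=
  SymmetricAlgebra.lift_ι_apply _ m

/-- `Sym(M)[X] → Sym(N)`, `X ↦ e` -/
noncomputable def Phi : Polynomial (SymmetricAlgebra R M) →+* SymmetricAlgebra R N :=
  Polynomial.eval₂RingHom (symInl inl).toRingHom (SymmetricAlgebra.ι R N e)

theorem Phi_C (a : SymmetricAlgebra R M) : Phi inl e (Polynomial.C a) = symInl inl a :=
  Polynomial.eval₂_C _ _

theorem Phi_X : Phi inl e Polynomial.X = SymmetricAlgebra.ι R N e :=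
  Polynomial.eval₂_X _ _

/-- the linear map `N → Sym(M)[X]` -/
noncomputable def lin : N →ₗ[R] Polynomial (SymmetricAlgebra R M) :=
  (Polynomial.CAlgHom (R := R) (A := SymmetricAlgebra R M)).toLinearMap ∘ₗ
      (SymmetricAlgebra.ι R M ∘ₗ fst) +
    (LinearMap.toSpanSingleton R (Polynomial (SymmetricAlgebra R M)) Polynomial.X) ∘ₗ snd

theorem lin_apply (n : N) :
    lin fst snd n = Polynomial.C (SymmetricAlgebra.ι R M (fst n)) + snd n • Polynomial.X := rfl

/-- `Sym(N) → Sym(M)[X]` -/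
noncomputable def Psi : SymmetricAlgebra R N →ₐ[R] Polynomial (SymmetricAlgebra R M) :=
  SymmetricAlgebra.lift (lin fst snd)

theorem Psi_ι (n : N) : Psi fst snd (SymmetricAlgebra.ι R N n) = lin fst snd n :=
  SymmetricAlgebra.lift_ι_apply _ n

variable (h1 : ∀ m, fst (inl m) = m) (h2 : ∀ m, snd (inl m) = 0) (h3 : fst e = 0)
  (h4 : snd e = 1) (h5 : ∀ n, n = inl (fst n) + snd n • e)

include h1 h2 in
theorem Psi_symInl (a : SymmetricAlgebra R M) :
    Psi fst snd (symInl inl a) = Polynomial.C a := by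
  have h : (Psi fst snd).toRingHom.comp (symInl inl).toRingHom = Polynomial.C := by
    refine SymAlgLoc.ringHom_ext _ _ (fun r => ?_) (fun m => ?_)
    · change Psi fst snd (symInl inl (algebraMap R (SymmetricAlgebra R M) r)) =
        Polynomial.C (algebraMap R (SymmetricAlgebra R M) r)
      rw [AlgHom.commutes, AlgHom.commutes, Polynomial.algebraMap_apply]
    · change Psi fst snd (symInl inl (SymmetricAlgebra.ι R M m)) =
        Polynomial.C (SymmetricAlgebra.ι R M m)
      rw [symInl_ι, Psi_ι, lin_apply, h1, h2, zero_smul, add_zero]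
  exact congr($h a)

include h1 h2 h3 h4 in
theorem Psi_Phi (p : Polynomial (SymmetricAlgebra R M)) : Psi fst snd (Phi inl e p) = p := by
  have h : (Psi fst snd).toRingHom.comp (Phi inl e) = RingHom.id _ := by
    refine Polynomial.ringHom_ext (fun a => ?_) ?_
    · change Psi fst snd (Phi inl e (Polynomial.C a)) = Polynomial.C a
      rw [Phi_C, Psi_symInl inl fst snd h1 h2]
    · change Psi fst snd (Phi inl e Polynomial.X) = Polynomial.X
      rw [Phi_X, Psi_ι, lin_apply, h3, h4, map_zero, map_zero, zero_add, one_smul]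
  exact congr($h p)

include h5 in
theorem Phi_Psi (x : SymmetricAlgebra R N) : Phi inl e (Psi fst snd x) = x := by
  have h : (Phi inl e).comp (Psi fst snd).toRingHom = RingHom.id _ := by
    refine SymAlgLoc.ringHom_ext _ _ (fun r => ?_) (fun n => ?_)
    · change Phi inl e (Psi fst snd (algebraMap R (SymmetricAlgebra R N) r)) =
        algebraMap R (SymmetricAlgebra R N) r
      rw [AlgHom.commutes, Polynomial.algebraMap_apply, Phi_C, AlgHom.commutes]
    · change Phi inl e (Psi fst snd (SymmetricAlgebra.ι R N n)) = SymmetricAlgebra.ι R N n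
      have e1 : Phi inl e (snd n • (Polynomial.X : Polynomial (SymmetricAlgebra R M))) =
          SymmetricAlgebra.ι R N (snd n • e) := by
        rw [Algebra.smul_def (snd n) (Polynomial.X : Polynomial (SymmetricAlgebra R M)),
          Polynomial.algebraMap_apply, map_mul, Phi_C, Phi_X, AlgHom.commutes,
          ← Algebra.smul_def]
        exact (LinearMap.map_smul _ _ _).symm
      rw [Psi_ι, lin_apply, map_add, Phi_C, symInl_ι, e1, ← map_add, ← h5 n]
  exact congr($h x)

include h1 h2 h3 h4 h5 in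
theorem Phi_bijective : Function.Bijective (Phi inl e) :=
  Function.bijective_iff_has_inverse.2
    ⟨Psi fst snd, Psi_Phi inl fst snd e h1 h2 h3 h4, Phi_Psi inl fst snd e h5⟩

end alg

section sheaf

variable {Y : Scheme.{u}} (E : Y.Modules) [E.IsQuasicoherent]

local notation "OY" => Coh.structureModule Y
local notation "Eh" => (E ⊞ Coh.structureModule Y : Y.Modules)

instance instQCBiprod : (E ⊞ Coh.structureModule Y : Y.Modules).IsQuasicoherent :=
  QCLim.isQuasicoherent_biprod E (Coh.structureModule Y)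

/-- sections of the structure module as functions, linearly -/
noncomputable def toFunL (U : Y.Opens) : Γ(OY, U) →ₗ[Γ(Y, U)] Γ(Y, U) where
  toFun := InvGen.toFun U
  map_add' _ _ := rfl
  map_smul' _ _ := rfl

noncomputable abbrev inlL (U : Y.Opens) : Γ(E, U) →ₗ[Γ(Y, U)] Γ(Eh, U) :=
  GlobGen.appLin (biprod.inl : E ⟶ Eh) U

noncomputable abbrev fstL (U : Y.Opens) : Γ(Eh, U) →ₗ[Γ(Y, U)] Γ(E, U) :=
  GlobGen.appLin (biprod.fst : Eh ⟶ E) U

noncomputable def sndL (U : Y.Opens) : Γ(Eh, U) →ₗ[Γ(Y, U)] Γ(Y, U) :=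
  (toFunL U).comp (GlobGen.appLin (biprod.snd : Eh ⟶ OY) U)

theorem sndL_apply (U : Y.Opens) (x : Γ(Eh, U)) :
    sndL E U x = InvGen.toFun U ((biprod.snd : Eh ⟶ OY).app U x) := rfl

noncomputable abbrev eL (U : Y.Opens) : Γ(Eh, U) :=
  (biprod.inr : OY ⟶ Eh).app U (ofFun U 1)

theorem hyp1 (U : Y.Opens) (m : Γ(E, U)) : fstL E U (inlL E U m) = m :=
  SymBiprod.fst_inl U m

theorem hyp2 (U : Y.Opens) (m : Γ(E, U)) : sndL E U (inlL E U m) = 0 := by
  have h := SymBiprod.snd_inl (F := OY) U m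
  exact congrArg (InvGen.toFun U) h

theorem hyp3 (U : Y.Opens) : fstL E U (eL E U) = 0 :=
  SymBiprod.fst_inr U _

theorem hyp4 (U : Y.Opens) : sndL E U (eL E U) = 1 := by
  have h := SymBiprod.snd_inr (E := E) U (ofFun U (1 : Γ(Y, U)))
  exact congrArg (InvGen.toFun U) h

theorem hyp5 (U : Y.Opens) (n : Γ(Eh, U)) :
    n = inlL E U (fstL E U n) + sndL E U n • eL E U := by
  have h := SymBiprod.biprod_decomp U n
  have h' : sndL E U n • eL E U =
      (biprod.inr : OY ⟶ Eh).app U ((biprod.snd : Eh ⟶ OY).app U n) := by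
    change _ • (biprod.inr : OY ⟶ Eh).app U (ofFun U 1) = _
    rw [← Scheme.Modules.Hom.app_smul, smul_ofFun, mul_one]
    rfl
  rw [h']
  exact h

/-- the global section `z` and its restrictions -/
noncomputable def bz (U : Y.Opens) : (SymSheaf.symAlg Eh).presheaf.obj (op U) :=
  ((biprod.inr : OY ⟶ Eh) ≫ SymSheaf.j Eh).app U (ofFun U 1)

theorem bz_res {U V : Y.Opens} (h : V ≤ U) :
    ((SymSheaf.symAlg Eh).presheaf.map (homOfLE h).op).hom (bz E U) = bz E V := by
  have h1 := QCExact.app_res' ((biprod.inr : OY ⟶ Eh) ≫ SymSheaf.j Eh) h (ofFun U 1)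
  rw [res_ofFun, rres_one] at h1
  exact h1.symm

theorem epsU_bz (U : Y.AffineZariskiSite) :
    SymSheaf.epsU Eh U (bz E U.1) = SymmetricAlgebra.ι _ _ (eL E U.1) := by
  change SymSheaf.epsU Eh U ((SymSheaf.j Eh).app U.1 (eL E U.1)) = _
  rw [SymSheaf.j_app Eh U, RingEquiv.apply_symm_apply]

variable (χ : SymSheaf.symAlg E ⟶ SymSheaf.symAlg (E ⊞ Coh.structureModule Y : Y.Modules))
  (hχ : SymSheaf.j E ≫ RelSpec.QCAlg.Hom.toModuleMap χ =
    (biprod.inl : E ⟶ (E ⊞ Coh.structureModule Y : Y.Modules)) ≫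
      SymSheaf.j (E ⊞ Coh.structureModule Y : Y.Modules))

include hχ in
theorem C1 (U : Y.AffineZariskiSite) (x : (SymSheaf.symAlg E).presheaf.obj (op U.1)) :
    SymSheaf.epsU Eh U ((χ.hom.app (op U.1)).hom x) =
      symInl (inlL E U.1) (SymSheaf.epsU E U x) := by
  have h : ((SymSheaf.epsU Eh U).toRingHom.comp
      ((χ.hom.app (op U.1)).hom.comp (SymSheaf.epsU E U).symm.toRingHom)) =
      (symInl (inlL E U.1)).toRingHom := by
    refine SymAlgLoc.ringHom_ext _ _ (fun r => ?_) (fun m => ?_)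
    · change SymSheaf.epsU Eh U ((χ.hom.app (op U.1)).hom
        ((SymSheaf.epsU E U).symm (algebraMap Γ(Y, U.1) (SymSheaf.SA E U) r))) =
        symInl (inlL E U.1) (algebraMap Γ(Y, U.1) (SymSheaf.SA E U) r)
      rw [SymSheaf.epsU_symm_algebraMap, SymBiprod.ψ_str, SymSheaf.epsU_str, AlgHom.commutes]
    · change SymSheaf.epsU Eh U ((χ.hom.app (op U.1)).hom
        ((SymSheaf.epsU E U).symm (SymmetricAlgebra.ι Γ(Y, U.1) Γ(E, U.1) m))) =
        symInl (inlL E U.1) (SymmetricAlgebra.ι Γ(Y, U.1) Γ(E, U.1) m)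
      have h1 : (χ.hom.app (op U.1)).hom ((SymSheaf.j E).app U.1 m) =
          (SymSheaf.j Eh).app U.1 ((biprod.inl : E ⟶ Eh).app U.1 m) := by
        have := congr($(hχ).app U.1 m)
        exact this
      rw [← SymSheaf.j_app E U m, h1, SymSheaf.j_app Eh U, RingEquiv.apply_symm_apply]
      exact (symInl_ι (inlL E U.1) m).symm
  have h2 := congr($h (SymSheaf.epsU E U x))
  change SymSheaf.epsU Eh U ((χ.hom.app (op U.1)).hom
    ((SymSheaf.epsU E U).symm (SymSheaf.epsU E U x))) = _ at h2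
  rwa [RingEquiv.symm_apply_apply] at h2

include hχ in
theorem graded_χ (U : Y.AffineZariskiSite) (d : ℕ)
    (x : (SymSheaf.symAlg E).presheaf.obj (op U.1))
    (hx : SymSheaf.epsU E U x ∈ SymGrading.piece Γ(Y, U.1) Γ(E, U.1) d) :
    SymSheaf.epsU Eh U ((χ.hom.app (op U.1)).hom x) ∈
      SymGrading.piece Γ(Y, U.1) Γ(Eh, U.1) d := by
  rw [C1 E χ hχ U x]
  exact SymGr.map_piece (symInl (inlL E U.1)).toRingHom
    (fun r => ⟨r, AlgHom.commutes _ r⟩) (fun m => ⟨_, symInl_ι _ m⟩) hx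

include hχ in
theorem bij_χ (U : Y.AffineZariskiSite) :
    Function.Bijective (Polynomial.eval₂RingHom (χ.hom.app (op U.1)).hom (bz E U.1)) := by
  have hPhi : Function.Bijective (Phi (inlL E U.1) (eL E U.1)) :=
    Phi_bijective (inlL E U.1) (fstL E U.1) (sndL E U.1) (eL E U.1)
      (hyp1 E U.1) (hyp2 E U.1) (hyp3 E U.1) (hyp4 E U.1) (hyp5 E U.1)
  have hcomp : (SymSheaf.epsU Eh U).toRingHom.comp
      (Polynomial.eval₂RingHom (χ.hom.app (op U.1)).hom (bz E U.1)) =
      (Phi (inlL E U.1) (eL E U.1)).comp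
        (Polynomial.mapRingHom (SymSheaf.epsU E U).toRingHom) := by
    refine Polynomial.ringHom_ext (fun a => ?_) ?_
    · change SymSheaf.epsU Eh U (Polynomial.eval₂ (χ.hom.app (op U.1)).hom (bz E U.1)
        (Polynomial.C a)) =
        Phi (inlL E U.1) (eL E U.1) (Polynomial.map (SymSheaf.epsU E U).toRingHom (Polynomial.C a))
      rw [Polynomial.eval₂_C, Polynomial.map_C, Phi_C]
      exact C1 E χ hχ U a
    · change SymSheaf.epsU Eh U (Polynomial.eval₂ (χ.hom.app (op U.1)).hom (bz E U.1)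
        Polynomial.X) =
        Phi (inlL E U.1) (eL E U.1) (Polynomial.map (SymSheaf.epsU E U).toRingHom Polynomial.X)
      rw [Polynomial.eval₂_X, Polynomial.map_X, Phi_X]
      exact epsU_bz E U
  have hfun : ∀ p, SymSheaf.epsU Eh U
      (Polynomial.eval₂RingHom (χ.hom.app (op U.1)).hom (bz E U.1) p) =
      Phi (inlL E U.1) (eL E U.1) (Polynomial.map (SymSheaf.epsU E U).toRingHom p) :=
    fun p => congr($hcomp p)
  have hmap : Function.Bijective (Polynomial.map (SymSheaf.epsU E U).toRingHom) :=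
    ⟨Polynomial.map_injective _ (SymSheaf.epsU E U).injective,
      Polynomial.map_surjective _ (SymSheaf.epsU E U).surjective⟩
  constructor
  · intro p p' hpp
    have h := congrArg (SymSheaf.epsU Eh U) hpp
    rw [hfun, hfun] at h
    exact hmap.1 (hPhi.1 h)
  · intro y
    obtain ⟨p1, hp1⟩ := hPhi.2 (SymSheaf.epsU Eh U y)
    obtain ⟨p, rfl⟩ := hmap.2 p1
    refine ⟨p, (SymSheaf.epsU Eh U).injective ?_⟩
    rw [hfun, hp1]

/-- the polynomial algebra `𝒮[z]` over the graded symmetric algebra of `E` exists: it is the graded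
symmetric algebra of `E ⊕ O` -/
theorem exists_polyOver : ∃ (𝒮 𝒮h : RelProj.QCGrAlg Y) (j : E ⟶ 𝒮.toModule)
    (_ : RelProj.IsGrSymAlg E 𝒮 j) (ι : 𝒮.toQCAlg ⟶ 𝒮h.toQCAlg) (z : 𝒮h.presheaf.obj (op ⊤)),
    RelCone.IsPolyOver 𝒮 𝒮h ι z := by
  classical
  obtain ⟨χ, hχ, -⟩ := SymSheaf.isSymAlg E (SymSheaf.symAlg Eh)
    ((biprod.inl : E ⟶ Eh) ≫ SymSheaf.j Eh)
  refine ⟨SymGr.grSymAlg E, SymGr.grSymAlg Eh, SymSheaf.j E, SymGr.isGrSymAlg E, χ, bz E ⊤, ?_⟩
  have hzU : ∀ U : Y.Opens, RelCone.restrictTop (SymGr.grSymAlg Eh) (bz E ⊤) U = bz E U :=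
    fun U => bz_res E le_top
  refine ⟨?_, ?_, ?_⟩
  · intro U hU d x hx
    exact graded_χ E χ hχ ⟨U, hU⟩ d x hx
  · intro U hU
    rw [hzU U]
    exact (SymGr.isGrSymAlg Eh).2 U hU _
  · intro U hU
    rw [hzU U]
    exact bij_χ E χ hχ ⟨U, hU⟩

end sheaf

end Groth.Agent.Lib.Helper3.PolyExist
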