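import Groth.Agent.Lib.Helper3.PEmb3
import Groth.Agent.Lib.Helper3.QProj
import Groth.Agent.Lib.Helper3.AmpleMisc
import Groth.Agent.Lib.Helper3.GrTransport

/-!
# H-projective schemes over an affine base are `Proj` of a graded quotient of a polynomial ring
-/

set_option autoImplicit false
set_option linter.unusedSectionVars false
universe u
open CategoryTheory CategoryTheory.Limits AlgebraicGeometry TopologicalSpace Opposite
open scoped HomogeneousIdeal

namespace Groth.Agent.Lib.Helper3.ProjAff

open PEmb1 PEmb2 PEmb3 GrTransport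

variable {A : Type u} [CommRing A] {X : Scheme.{u}}

theorem exists_proj_of_isHProjective (f : X ⟶ Spec (CommRingCat.of A))
    (hf : RelProj.IsHProjective f) :
    ∃ (S : Type u) (_ : CommRing S) (_ : Algebra A S) (𝒮 : ℕ → Submodule A S)
      (_ : GradedAlgebra 𝒮) (s : Finset S),
      Function.Surjective (algebraMap A (𝒮 0)) ∧ (∀ g ∈ s, g ∈ 𝒮 1) ∧
      (HomogeneousIdeal.irrelevant 𝒮).toIdeal = Ideal.span (s : Set S) ∧
      ∃ e : X ≅ Proj 𝒮, e.hom ≫ Proj.toSpecZero 𝒮 ≫
        Spec.map (CommRingCat.ofHom (algebraMap A (𝒮 0))) = f := by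
  classical
  obtain ⟨n, i, hi, hcomp⟩ := hf
  let i' : X ⟶ pullback (CohB1.ProjSpace.toSpec n (ULift.{u} ℤ))
    (specULiftZIsTerminal.from (Spec (CommRingCat.of A))) := i
  haveI : IsClosedImmersion i' := hi
  have hcomp' : i' ≫ pullback.snd _ _ = f := hcomp
  let r : X ⟶ CohB1.ProjSpace n (ULift.{u} ℤ) := i' ≫ pullback.fst _ _
  haveI hcl : IsClosedImmersion (iZ n f r) :=
    isClosedImmersion_iZ n f r (pullback.fst _ _) (pullback.snd _ _)
      (IsPullback.of_hasPullback _ _) i' rfl hcomp'
  let J := JZ n f r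
  let 𝒮 := GrQuot.piece (CohB1.polyGrading n A) J
  let s : Finset (MvPolynomial (Fin (n + 1)) A ⧸ J) :=
    Finset.univ.image (fun j : Fin (n + 1) => Ideal.Quotient.mk J (MvPolynomial.X j))
  have hs1 : ∀ g ∈ s, g ∈ 𝒮 1 := by
    intro g hg
    obtain ⟨j, -, rfl⟩ := Finset.mem_image.mp hg
    exact GrQuot.mk_mem_piece _ _ (MvPolynomial.isHomogeneous_X _ j)
  have hspan : Ideal.span (s : Set (MvPolynomial (Fin (n + 1)) A ⧸ J)) =
      (Ideal.span (MvPolynomial.X '' (Set.univ : Set (Fin (n + 1))))).map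
        (Ideal.Quotient.mk J) := by
    rw [Ideal.map_span]
    congr 1
    ext y
    simp [s]
  refine ⟨MvPolynomial (Fin (n + 1)) A ⧸ J, inferInstance, inferInstance, 𝒮, inferInstance, s,
    ?_, hs1, ?_, eZ n f r, ?_⟩
  · rintro ⟨b, hb⟩
    obtain ⟨p, hp, rfl⟩ := GrQuot.exists_of_mem_piece _ _ hb
    obtain ⟨a, ha⟩ := QProj.algebraMap_polyGrading_zero_surjective A n ⟨p, hp⟩
    refine ⟨a, Subtype.ext ?_⟩
    have : (algebraMap A (MvPolynomial (Fin (n + 1)) A)) a = p := congrArg Subtype.val ha
    change Ideal.Quotient.mk J (algebraMap A (MvPolynomial (Fin (n + 1)) A) a) = _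
    rw [this]
    rfl
  · apply le_antisymm
    · intro x hx
      obtain ⟨p, rfl⟩ := Ideal.Quotient.mk_surjective x
      set c := MvPolynomial.coeff 0 p with hc
      have h1 : p - MvPolynomial.C c ∈
          Ideal.span (MvPolynomial.X '' (Set.univ : Set (Fin (n + 1)))) := by
        rw [MvPolynomial.mem_ideal_span_X_image]
        intro m hm
        have hm0 : m ≠ 0 := by
          rintro rfl
          rw [MvPolynomial.mem_support_iff, MvPolynomial.coeff_sub, MvPolynomial.coeff_C,
            if_pos rfl, hc, sub_self] at hm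
          exact hm rfl
        obtain ⟨j, hj⟩ := Finsupp.ne_iff.mp hm0
        exact ⟨j, Set.mem_univ _, by simpa using hj⟩
      have h2 : Ideal.Quotient.mk J (p - MvPolynomial.C c) ∈
          Ideal.span (s : Set (MvPolynomial (Fin (n + 1)) A ⧸ J)) := by
        rw [hspan]
        exact Ideal.mem_map_of_mem _ h1
      have h3 : Ideal.span (s : Set (MvPolynomial (Fin (n + 1)) A ⧸ J)) ≤
          (HomogeneousIdeal.irrelevant 𝒮).toIdeal := by
        rw [Ideal.span_le]
        intro g hg
        exact HomogeneousIdeal.mem_irrelevant_of_mem _ Nat.one_pos (hs1 g hg)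
      have h4 : Ideal.Quotient.mk J (MvPolynomial.C c) ∈ (HomogeneousIdeal.irrelevant 𝒮).toIdeal := by
        have e : Ideal.Quotient.mk J (MvPolynomial.C c) =
            Ideal.Quotient.mk J p - Ideal.Quotient.mk J (p - MvPolynomial.C c) := by
          rw [map_sub, sub_sub_cancel]
        rw [e]
        exact Ideal.sub_mem _ hx (h3 h2)
      have h5 : Ideal.Quotient.mk J (MvPolynomial.C c) = 0 := by
        have hmem : Ideal.Quotient.mk J (MvPolynomial.C c) ∈ 𝒮 0 :=
          GrQuot.mk_mem_piece _ _ (MvPolynomial.isHomogeneous_C _ c)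
        have := (HomogeneousIdeal.mem_irrelevant_iff _ _).mp h4
        rwa [GradedRing.proj_apply, DirectSum.decompose_of_mem_same 𝒮 hmem] at this
      have e : Ideal.Quotient.mk J p = Ideal.Quotient.mk J (p - MvPolynomial.C c) := by
        rw [map_sub, h5, sub_zero]
      rw [e]
      exact h2
    · rw [Ideal.span_le]
      intro g hg
      exact HomogeneousIdeal.mem_irrelevant_of_mem _ Nat.one_pos (hs1 g hg)
  · have hq : iZ n f r ≫ Proj.toSpecZero (CohB1.polyGrading n A) ≫
        Spec.map (CommRingCat.ofHom (algebraMap A (CohB1.polyGrading n A 0))) = f :=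
      iZ_toSpec n f r
    rw [← eZ_hom n f r, Category.assoc, map_toSpecZero_assoc, ← Spec.map_comp] at hq
    refine Eq.trans ?_ hq
    congr 3

end Groth.Agent.Lib.Helper3.ProjAff
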