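import Groth.Prelude.Def_RelProj4
import Groth.Agent.Lib.Helper3.AwayBC
import Groth.Agent.Lib.Helper3.ProjQMap

/-!
# Base change of `Proj` (affine and relative)
-/

set_option autoImplicit false
universe u
open CategoryTheory CategoryTheory.Limits AlgebraicGeometry TopologicalSpace Opposite
open scoped HomogeneousIdeal

namespace Groth.Agent.Lib.Helper3.ProjBC

open HomogeneousLocalization Groth.Agent.Lib.Helper3.AwayBC

/-- Local-to-global for pullback squares, along a cover of `X` by open immersions with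
specified pullbacks. -/
theorem isPullback_of_cover {W X Y Z : Scheme.{u}} (fWX : W ⟶ X) (fWY : W ⟶ Y) (fXZ : X ⟶ Z)
    (fYZ : Y ⟶ Z) {J : Type u} (Xo Wo : J → Scheme.{u}) (jX : ∀ i, Xo i ⟶ X)
    [∀ i, IsOpenImmersion (jX i)] (jW : ∀ i, Wo i ⟶ W) (gi : ∀ i, Wo i ⟶ Xo i)
    (hcov : ∀ x : X, ∃ i y, jX i y = x)
    (hpb : ∀ i, IsPullback (jW i) (gi i) fWX (jX i))
    (H : ∀ i, IsPullback (gi i) (jW i ≫ fWY) (jX i ≫ fXZ) fYZ) :
    IsPullback fWX fWY fXZ fYZ := by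
  refine Scheme.isPullback_of_openCover fWX fWY fXZ fYZ
    (Scheme.Cover.mkOfCovers J Xo jX hcov (fun i => inferInstance)) (fun i => ?_)
  refine (H i).of_iso (hpb i).isoPullback (Iso.refl _) (Iso.refl _) (Iso.refl _) ?_ ?_ ?_ ?_
  · show gi i ≫ 𝟙 _ = (hpb i).isoPullback.hom ≫ pullback.snd fWX (jX i)
    rw [IsPullback.isoPullback_hom_snd, Category.comp_id]
  · show (jW i ≫ fWY) ≫ 𝟙 _ = (hpb i).isoPullback.hom ≫ (pullback.fst fWX (jX i) ≫ fWY)
    rw [IsPullback.isoPullback_hom_fst_assoc, Category.comp_id]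
  · show (jX i ≫ fXZ) ≫ 𝟙 _ = 𝟙 _ ≫ (jX i ≫ fXZ)
    rw [Category.comp_id, Category.id_comp]
  · show fYZ ≫ 𝟙 _ = 𝟙 _ ≫ fYZ
    rw [Category.comp_id, Category.id_comp]

section affine
variable {R' R B A : Type u} [CommRing R'] [CommRing R] [CommRing B] [CommRing A]
  (ℬ : ℕ → AddSubgroup B) [GradedRing ℬ] (𝒜 : ℕ → AddSubgroup A) [GradedRing 𝒜]
  (a : R' →+* R) (b : R' →+* B) (c : R →+* A) (φ : ℬ →+*ᵍ 𝒜)
  (hb : ∀ r, b r ∈ ℬ 0) (hc : ∀ r, c r ∈ 𝒜 0)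

/-- `Proj (B ⊗_{R'} R) = Proj B ×_{Spec R'} Spec R`. -/
theorem isPullback_projMap
    (hpo : IsPushout (CommRingCat.ofHom a) (CommRingCat.ofHom b) (CommRingCat.ofHom c)
      (CommRingCat.ofHom φ.toRingHom))
    (hirr : 𝒜₊ ≤ ℬ₊.map φ) :
    IsPullback (Proj.map φ hirr)
      (Proj.toSpecZero 𝒜 ≫ Spec.map (CommRingCat.ofHom (zeroHom 𝒜 c hc)))
      (Proj.toSpecZero ℬ ≫ Spec.map (CommRingCat.ofHom (zeroHom ℬ b hb)))
      (Spec.map (CommRingCat.ofHom a)) := by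
  refine isPullback_of_cover _ _ _ _ (J := Σ i : PNat, ℬ i)
    (fun i => Spec (.of (Away ℬ (i.2 : B)))) (fun i => Spec (.of (Away 𝒜 (φ (i.2 : B)))))
    (fun i => Proj.awayι ℬ (i.2 : B) i.2.2 i.1.2)
    (fun i => Proj.awayι 𝒜 (φ (i.2 : B)) (Graded.map_mem φ i.2.2) i.1.2)
    (fun i => Spec.map (CommRingCat.ofHom (Away.map φ (i.2 : B)))) ?_ ?_ ?_
  · intro x
    exact (Proj.affineOpenCover ℬ).openCover.exists_eq x
  · intro i
    refine (IsOpenImmersion.isPullback _ _ _ _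
      (Proj.awayι_comp_map φ hirr i.1.2 (i.2 : B) i.2.2) ?_).flip
    rw [Proj.opensRange_awayι, Proj.opensRange_awayι, Proj.map_preimage_basicOpen]
  · intro i
    have hP := (AlgebraicGeometry.isPullback_SpecMap_of_isPushout _ _ _ _
      (away_isPushout ℬ 𝒜 a b c φ hb hc i.2.2 hpo)).flip
    have e1 : Proj.awayι 𝒜 (φ (i.2 : B)) (Graded.map_mem φ i.2.2) i.1.2 ≫
        Proj.toSpecZero 𝒜 ≫ Spec.map (CommRingCat.ofHom (zeroHom 𝒜 c hc)) =
        Spec.map (CommRingCat.ofHom (awayStruct 𝒜 (φ (i.2 : B)) c hc)) := by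
      rw [Proj.awayι_toSpecZero_assoc, ← Spec.map_comp]
      rfl
    have e2 : Proj.awayι ℬ (i.2 : B) i.2.2 i.1.2 ≫
        Proj.toSpecZero ℬ ≫ Spec.map (CommRingCat.ofHom (zeroHom ℬ b hb)) =
        Spec.map (CommRingCat.ofHom (awayStruct ℬ (i.2 : B) b hb)) := by
      rw [Proj.awayι_toSpecZero_assoc, ← Spec.map_comp]
      rfl
    rw [e1, e2]
    exact hP

end affine

section rel
variable {Y : Scheme.{u}} {𝒮 : RelProj.QCGrAlg Y} {P : Scheme.{u}} {p : P ⟶ Y}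
  {chart : ∀ (U : Y.Opens) (hU : IsAffineOpen U),
    ((p ⁻¹ᵁ U : P.Opens) : Scheme.{u}) ≅ Proj (𝒮.deg U hU)}

theorem isPullback_emb (hP : RelProj.IsRelProj 𝒮 p chart) (U : Y.Opens) (hU : IsAffineOpen U) :
    IsPullback (Proj.toSpecZero (𝒮.deg U hU) ≫ Spec.map (𝒮.strZero U hU))
      (RelProj.emb p chart U hU) hU.fromSpec p := by
  refine IsOpenImmersion.isPullback _ _ _ _ ?_ ?_
  · rw [ProjQMap.emb_comp hP U hU, Category.assoc]
  · rw [hU.opensRange_fromSpec, ProjQMap.opensRange_emb]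

end rel

end Groth.Agent.Lib.Helper3.ProjBC
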