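import Groth.Agent.Lib.Helper3.ProjQMapOn

/-!
# The morphisms `Proj(u)` on `G(u)` for a graded morphism `u` over a morphism of bases:
local description of `G(u)`, values of `Proj(u)`, dominance criteria
-/

set_option autoImplicit false
set_option linter.unusedSectionVars false
universe u
open CategoryTheory CategoryTheory.Limits AlgebraicGeometry TopologicalSpace Opposite
open scoped HomogeneousIdeal

namespace Groth.Agent.Lib.Helper3.RLPsi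

open HomogeneousLocalization ProjQMap ProjQMapOn

section algebra

variable {A : Type u} [CommRing A] {𝒜 : ℕ → AddSubgroup A} [GradedRing 𝒜]

/-- the `D₊(s)`, `s` homogeneous of positive degree, form a basis -/
theorem exists_basicOpen_le (O : (Proj 𝒜).Opens) (y₀ : Proj 𝒜) (hy₀ : y₀ ∈ O) :
    ∃ n, 0 < n ∧ ∃ s ∈ 𝒜 n, y₀ ∈ Proj.basicOpen 𝒜 s ∧ Proj.basicOpen 𝒜 s ≤ O := by
  obtain ⟨_, ⟨a, rfl⟩, hya, haO⟩ :=
    (Opens.isBasis_iff_nbhd.mp (Proj.isBasis_basicOpen 𝒜)) hy₀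
  rw [Proj.basicOpen_eq_iSup_proj] at hya
  obtain ⟨i, hi⟩ := Opens.mem_iSup.mp hya
  obtain ⟨d, hd, g, hg, hgy⟩ := exists_pos_notMem y₀
  have hai : GradedRing.proj 𝒜 i a ∈ 𝒜 i := by
    rw [GradedRing.proj_apply]
    exact SetLike.coe_mem _
  refine ⟨i + d, by omega, GradedRing.proj 𝒜 i a * g, SetLike.mul_mem_graded hai hg, ?_, ?_⟩
  · rw [Proj.basicOpen_mul]
    exact ⟨hi, hgy⟩
  · rw [Proj.basicOpen_mul]
    refine inf_le_left.trans (le_trans ?_ haO)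
    rw [Proj.basicOpen_eq_iSup_proj 𝒜 a]
    exact le_iSup (fun i => Proj.basicOpen 𝒜 (GradedRing.proj 𝒜 i a)) i

/-- a homogeneous element of positive degree with empty `D₊` is nilpotent -/
theorem isNilpotent_of_basicOpen_eq_bot {n : ℕ} (hn : 0 < n) {s : A} (hs : s ∈ 𝒜 n)
    (h : Proj.basicOpen 𝒜 s = ⊥) : IsNilpotent s := by
  by_contra hnil
  have h0 : (0 : A) ∉ Submonoid.powers s := by
    rintro ⟨k, hk⟩
    exact hnil ⟨k, hk⟩
  haveI : Nontrivial (Localization.Away s) := by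
    by_contra hsub
    rw [not_nontrivial_iff_subsingleton] at hsub
    exact h0 ((IsLocalization.subsingleton_iff (M := Submonoid.powers s)
      (S := Localization.Away s)).mp hsub)
  haveI : Nontrivial (Away 𝒜 s) := by
    refine ⟨⟨0, 1, fun h01 => ?_⟩⟩
    have h1 := congrArg HomogeneousLocalization.val h01
    rw [HomogeneousLocalization.val_zero, HomogeneousLocalization.val_one] at h1
    exact zero_ne_one h1
  obtain ⟨w⟩ : Nonempty (PrimeSpectrum (Away 𝒜 s)) := inferInstance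
  have hw : Proj.awayι 𝒜 s hs hn w ∈ (Proj.awayι 𝒜 s hs hn).opensRange := ⟨w, rfl⟩
  rw [Proj.opensRange_awayι, h] at hw
  exact hw

theorem isNilpotent_of_forall_mem {n : ℕ} (hn : 0 < n) {s : A} (hs : s ∈ 𝒜 n)
    (h : ∀ y : Proj 𝒜, s ∈ y.asHomogeneousIdeal) : IsNilpotent s := by
  apply isNilpotent_of_basicOpen_eq_bot hn hs
  rw [eq_bot_iff]
  intro y hy
  exact (hy (h y)).elim

theorem mem_of_isNilpotent {s : A} (hs : IsNilpotent s) (y : Proj 𝒜) :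
    s ∈ y.asHomogeneousIdeal := by
  obtain ⟨k, hk⟩ := hs
  have h1 : s ^ k ∈ y.asHomogeneousIdeal.toIdeal := by
    rw [hk]
    exact Ideal.zero_mem _
  exact y.isPrime.mem_of_pow_mem k h1

theorem notMem_of_pow_notMem {s : A} {k : ℕ} (hk : 0 < k) (y : Proj 𝒜)
    (h : s ^ k ∉ y.asHomogeneousIdeal) : s ∉ y.asHomogeneousIdeal := by
  intro hs
  apply h
  have : s ^ k = s ^ (k - 1) * s := by
    rw [← pow_succ, Nat.sub_add_cancel hk]
  rw [this]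
  exact Ideal.mul_mem_left _ _ hs

end algebra

section general

variable {Y X : Scheme.{u}} {q : X ⟶ Y} {𝒮 : RelProj.QCGrAlg Y} {𝒮' : RelProj.QCGrAlg X}
  (u : RelProj.QGrHom q 𝒮 𝒮') {P' : Scheme.{u}} {p' : P' ⟶ X}
  {chart' : ∀ (U : X.Opens) (hU : IsAffineOpen U),
    ((p' ⁻¹ᵁ U : P'.Opens) : Scheme.{u}) ≅ Proj (𝒮'.deg U hU)}

theorem exists_affine_pair (q : X ⟶ Y) (x : X) (U : Y.Opens) (hxU : q x ∈ U) :
    ∃ (U' : X.Opens), IsAffineOpen U' ∧ x ∈ U' ∧ U' ≤ q ⁻¹ᵁ U := by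
  obtain ⟨U', hU', hxU', hle⟩ := Opens.isBasis_iff_nbhd.mp X.isBasis_affineOpens
    (show x ∈ q ⁻¹ᵁ U from hxU)
  exact ⟨U', hU', hxU', hle⟩

theorem appLE_res (U : Y.Opens) {U' U'' : X.Opens} (hle : U' ≤ q ⁻¹ᵁ U) (i : U'' ≤ U')
    (g : 𝒮.presheaf.obj (op U)) :
    (𝒮'.presheaf.map (homOfLE i).op).hom ((u.appLE U U' hle).hom g) =
      (u.appLE U U'' (i.trans hle)).hom g :=
  congrArg (fun θ => θ.hom g) (u.appLE_map hle i)

theorem res_appLE {U V : Y.Opens} {U' : X.Opens} (i : V ≤ U) (hle : U' ≤ q ⁻¹ᵁ V)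
    (g : 𝒮.presheaf.obj (op U)) :
    (u.appLE V U' hle).hom ((𝒮.presheaf.map (homOfLE i).op).hom g) =
      (u.appLE U U' (hle.trans (q.preimage_mono i))).hom g :=
  congrArg (fun θ => θ.hom g) (u.map_appLE i hle)

/-- the point `x` lies in the chart over `U'` and some `u(g)`, `g` homogeneous of positive
degree over `U`, does not vanish at it. -/
def Loc (p' : P' ⟶ X) (chart' : ∀ (U : X.Opens) (hU : IsAffineOpen U),
      ((p' ⁻¹ᵁ U : P'.Opens) : Scheme.{u}) ≅ Proj (𝒮'.deg U hU))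
    (x : P') (U : Y.Opens) (hU : IsAffineOpen U) (U' : X.Opens) (hU' : IsAffineOpen U')
    (hle : U' ≤ q ⁻¹ᵁ U) : Prop :=
  ∃ y : Proj (𝒮'.deg U' hU'), RelProj.emb p' chart' U' hU' y = x ∧
    ∃ d, 0 < d ∧ ∃ g ∈ 𝒮.deg U hU d, (u.appLE U U' hle).hom g ∉ y.asHomogeneousIdeal

theorem loc_congrX (x : P') {W W' : X.Opens} (e : W = W') (hW : IsAffineOpen W)
    (hW' : IsAffineOpen W') (U : Y.Opens) (hU : IsAffineOpen U) (hle : W ≤ q ⁻¹ᵁ U)
    (hle' : W' ≤ q ⁻¹ᵁ U) (h : Loc u p' chart' x U hU W hW hle) :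
    Loc u p' chart' x U hU W' hW' hle' := by
  subst e
  exact h

theorem loc_congrY (x : P') {W W' : Y.Opens} (e : W = W') (hW : IsAffineOpen W)
    (hW' : IsAffineOpen W') (U' : X.Opens) (hU' : IsAffineOpen U') (hle : U' ≤ q ⁻¹ᵁ W)
    (hle' : U' ≤ q ⁻¹ᵁ W') (h : Loc u p' chart' x W hW U' hU' hle) :
    Loc u p' chart' x W' hW' U' hU' hle' := by
  subst e
  exact h

theorem loc_resX (hP' : RelProj.IsRelProj 𝒮' p' chart') (x : P') (U : Y.Opens)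
    (hU : IsAffineOpen U) (U' : X.Opens) (hU' : IsAffineOpen U') (hle : U' ≤ q ⁻¹ᵁ U)
    (t : Γ(X, U')) (hx : p' x ∈ X.basicOpen t) (h : Loc u p' chart' x U hU U' hU' hle) :
    Loc u p' chart' x U hU (X.basicOpen t) (hU'.basicOpen t)
      ((X.basicOpen_le t).trans hle) := by
  obtain ⟨y', hy'x, d, hd, g, hg, hgy⟩ := h
  obtain ⟨y'', hy''⟩ := exists_emb_eq p' chart' (X.basicOpen t) (hU'.basicOpen t) x hx
  refine ⟨y'', hy'', d, hd, g, hg, ?_⟩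
  have hy''2 := hy''
  rw [emb_res_apply hP' U' hU' t, ← hy'x] at hy''2
  have hy := (RelProj.emb p' chart' U' hU').isOpenEmbedding.injective hy''2
  rw [← hy] at hgy
  intro hmem
  apply hgy
  change (𝒮'.presheaf.map (homOfLE (X.basicOpen_le t)).op).hom ((u.appLE U U' hle).hom g) ∈
    y''.asHomogeneousIdeal
  rw [appLE_res]
  exact hmem

theorem loc_extX (hP' : RelProj.IsRelProj 𝒮' p' chart') (x : P') (U : Y.Opens)
    (hU : IsAffineOpen U) (U' : X.Opens) (hU' : IsAffineOpen U') (hle : U' ≤ q ⁻¹ᵁ U)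
    (t : Γ(X, U'))
    (h : Loc u p' chart' x U hU (X.basicOpen t) (hU'.basicOpen t)
      ((X.basicOpen_le t).trans hle)) :
    Loc u p' chart' x U hU U' hU' hle := by
  obtain ⟨y'', hy''x, d, hd, g, hg, hgy⟩ := h
  refine ⟨Proj.map (𝒮'.res hU' (hU'.basicOpen t) (X.basicOpen_le t))
    (𝒮'.irrelevant_le_map U' hU' t) y'', ?_, d, hd, g, hg, ?_⟩
  · rw [← emb_res_apply hP' U' hU' t y'']
    exact hy''x
  · intro hmem
    apply hgy
    rw [← appLE_res u U hle (X.basicOpen_le t) g]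
    exact hmem

theorem loc_resY (x : P') (U : Y.Opens) (hU : IsAffineOpen U) (V : Y.Opens)
    (hV : IsAffineOpen V) (i : V ≤ U) (U' : X.Opens) (hU' : IsAffineOpen U')
    (hle' : U' ≤ q ⁻¹ᵁ V)
    (h : Loc u p' chart' x U hU U' hU' (hle'.trans (q.preimage_mono i))) :
    Loc u p' chart' x V hV U' hU' hle' := by
  obtain ⟨y, hyx, d, hd, g, hg, hgy⟩ := h
  refine ⟨y, hyx, d, hd, (𝒮.presheaf.map (homOfLE i).op).hom g, 𝒮.map_mem hU hV i hg, ?_⟩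
  rw [res_appLE]
  exact hgy

theorem loc_extY (x : P') (U : Y.Opens) (hU : IsAffineOpen U) (s : Γ(Y, U)) (U' : X.Opens)
    (hU' : IsAffineOpen U') (hle : U' ≤ q ⁻¹ᵁ (Y.basicOpen s))
    (h : Loc u p' chart' x (Y.basicOpen s) (hU.basicOpen s) U' hU' hle) :
    Loc u p' chart' x U hU U' hU' (hle.trans (q.preimage_mono (Y.basicOpen_le s))) := by
  obtain ⟨y, hyx, d, hd, g, hg, hgy⟩ := h
  refine ⟨y, hyx, ?_⟩
  by_contra hcon
  push Not at hcon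
  apply hgy
  let K : HomogeneousIdeal (𝒮.deg (Y.basicOpen s) (hU.basicOpen s)) :=
    y.asHomogeneousIdeal.comap (u.gradedAt (Y.basicOpen s) (hU.basicOpen s) U' hU' hle)
  have h1 : (𝒮.deg U hU)₊ ≤ K.comap (𝒮.res hU (hU.basicOpen s) (Y.basicOpen_le s)) := by
    rw [HomogeneousIdeal.irrelevant_le]
    intro i hi a ha
    have h2 := hcon i hi a ha
    change (u.appLE (Y.basicOpen s) U' hle).hom
      ((𝒮.presheaf.map (homOfLE (Y.basicOpen_le s)).op).hom a) ∈ y.asHomogeneousIdeal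
    rw [res_appLE]
    exact h2
  have h2 : ((𝒮.deg U hU)₊).map (𝒮.res hU (hU.basicOpen s) (Y.basicOpen_le s)) ≤ K :=
    (HomogeneousIdeal.map_le_iff_le_comap _).mpr h1
  have h3 : g ∈ K := h2 (𝒮.irrelevant_le_map U hU s
    (HomogeneousIdeal.mem_irrelevant_of_mem _ hd hg))
  exact h3

/-- the local description of `G(u)`, one direction -/
theorem loc_of_mem_domQ (hP' : RelProj.IsRelProj 𝒮' p' chart') (x : P')
    (hx : x ∈ RelProj.domQ u p' chart') (U : Y.Opens) (hU : IsAffineOpen U) (U' : X.Opens)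
    (hU' : IsAffineOpen U') (hle : U' ≤ q ⁻¹ᵁ U) (hxU' : p' x ∈ U') :
    Loc u p' chart' x U hU U' hU' hle := by
  obtain ⟨⟨⟨⟨V, hV⟩, ⟨V', hV'⟩⟩, hleV⟩, hxV⟩ := Opens.mem_iSup.mp hx
  obtain ⟨y', hy', hxe⟩ := hxV
  obtain ⟨d, hd, f, hf, hfy⟩ := exists_of_mem_domOpen _ y' hy'
  have h0 : Loc u p' chart' x V hV V' hV' hleV := ⟨y', hxe, d, hd, f, hf, hfy⟩
  have hxV' : p' x ∈ V' := by
    have h1 : RelProj.emb p' chart' V' hV' y' ∈ (RelProj.emb p' chart' V' hV').opensRange :=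
      ⟨_, rfl⟩
    rw [opensRange_emb] at h1
    have h2 : RelProj.emb p' chart' V' hV' y' = x := hxe
    rw [h2] at h1
    exact h1
  have hqU : q (p' x) ∈ U := hle hxU'
  have hqV : q (p' x) ∈ V := hleV hxV'
  obtain ⟨s, t, hst, hxs⟩ := exists_basicOpen_le_affine_inter hU hV (q (p' x)) ⟨hqU, hqV⟩
  have hxt : q (p' x) ∈ Y.basicOpen t := hst ▸ hxs
  obtain ⟨a, haO, hxa⟩ := hV'.exists_basicOpen_le
    (V := q ⁻¹ᵁ (Y.basicOpen t) ⊓ U') ⟨p' x, ⟨hxt, hxU'⟩⟩ hxV'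
  have hxa' : p' x ∈ X.basicOpen a := hxa
  have h1 := loc_resX u hP' x V hV V' hV' hleV a hxa' h0
  have hle3 : X.basicOpen a ≤ q ⁻¹ᵁ (Y.basicOpen t) := haO.trans inf_le_left
  have h2 : Loc u p' chart' x (Y.basicOpen t) (hV.basicOpen t) (X.basicOpen a)
      (hV'.basicOpen a) hle3 :=
    loc_resY u x V hV (Y.basicOpen t) (hV.basicOpen t) (Y.basicOpen_le t) (X.basicOpen a)
      (hV'.basicOpen a) hle3 h1
  have hle4 : X.basicOpen a ≤ q ⁻¹ᵁ (Y.basicOpen s) := by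
    rw [hst]
    exact hle3
  have h3 : Loc u p' chart' x (Y.basicOpen s) (hU.basicOpen s) (X.basicOpen a)
      (hV'.basicOpen a) hle4 :=
    loc_congrY u x hst.symm (hV.basicOpen t) (hU.basicOpen s) (X.basicOpen a)
      (hV'.basicOpen a) hle3 hle4 h2
  have h4 := loc_extY u x U hU s (X.basicOpen a) (hV'.basicOpen a) hle4 h3
  obtain ⟨b, c, hbc, hxb⟩ := exists_basicOpen_le_affine_inter (hV'.basicOpen a) hU' (p' x)
    ⟨hxa', hxU'⟩
  have h5 := loc_resX u hP' x U hU (X.basicOpen a) (hV'.basicOpen a) _ b hxb h4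
  have h6 : Loc u p' chart' x U hU (X.basicOpen c) (hU'.basicOpen c)
      ((X.basicOpen_le c).trans hle) :=
    loc_congrX u x hbc ((hV'.basicOpen a).basicOpen b) (hU'.basicOpen c) U hU _ _ h5
  exact loc_extX u hP' x U hU U' hU' hle c h6

theorem mem_domQ_of_loc (x : P') (U : Y.Opens) (hU : IsAffineOpen U) (U' : X.Opens)
    (hU' : IsAffineOpen U') (hle : U' ≤ q ⁻¹ᵁ U) (h : Loc u p' chart' x U hU U' hU' hle) :
    x ∈ RelProj.domQ u p' chart' := by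
  obtain ⟨y, hyx, d, hd, g, hg, hgy⟩ := h
  refine Opens.mem_iSup.mpr ⟨⟨(⟨U, hU⟩, ⟨U', hU'⟩), hle⟩, ?_⟩
  exact ⟨y, mem_domOpen_of_mem (u.gradedAt U hU U' hU' hle) hd hg y hgy, hyx⟩

end general

section maps

variable {Y X : Scheme.{u}} {q : X ⟶ Y} {𝒮 : RelProj.QCGrAlg Y} {𝒮' : RelProj.QCGrAlg X}
  (u : RelProj.QGrHom q 𝒮 𝒮') {P' : Scheme.{u}} {p' : P' ⟶ X}
  {chart' : ∀ (U : X.Opens) (hU : IsAffineOpen U),
    ((p' ⁻¹ᵁ U : P'.Opens) : Scheme.{u}) ≅ Proj (𝒮'.deg U hU)}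
  {P : Scheme.{u}} {p : P ⟶ Y}
  {chart : ∀ (U : Y.Opens) (hU : IsAffineOpen U),
    ((p ⁻¹ᵁ U : P.Opens) : Scheme.{u}) ≅ Proj (𝒮.deg U hU)}

/-- the lifted standard chart -/
noncomputable abbrev lft (p' : P' ⟶ X) (chart' : ∀ (U : X.Opens) (hU : IsAffineOpen U),
      ((p' ⁻¹ᵁ U : P'.Opens) : Scheme.{u}) ≅ Proj (𝒮'.deg U hU))
    (U : Y.Opens) (hU : IsAffineOpen U) (U' : X.Opens) (hU' : IsAffineOpen U')
    (hle : U' ≤ q ⁻¹ᵁ U) {d : ℕ} (hd : 0 < d) (g : 𝒮.presheaf.obj (op U))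
    (hg : g ∈ 𝒮.deg U hU d) :
    Spec (CommRingCat.of (Away (𝒮'.deg U' hU') (u.gradedAt U hU U' hU' hle g))) ⟶
      ((RelProj.domQ u p' chart' : P'.Opens) : Scheme.{u}) :=
  IsOpenImmersion.lift (RelProj.domQ u p' chart').ι
    (RelProj.awayEmb u p' chart' U hU U' hU' hle hd g hg)
    (RelProj.range_awayEmb_subset_domQ u p' chart' U hU U' hU' hle hd g hg)

theorem lft_fac (U : Y.Opens) (hU : IsAffineOpen U) (U' : X.Opens) (hU' : IsAffineOpen U')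
    (hle : U' ≤ q ⁻¹ᵁ U) {d : ℕ} (hd : 0 < d) (g : 𝒮.presheaf.obj (op U))
    (hg : g ∈ 𝒮.deg U hU d) :
    lft u p' chart' U hU U' hU' hle hd g hg ≫ (RelProj.domQ u p' chart').ι =
      RelProj.awayEmb u p' chart' U hU U' hU' hle hd g hg :=
  IsOpenImmersion.lift_fac _ _ _

theorem isOpenImmersion_lft (U : Y.Opens) (hU : IsAffineOpen U) (U' : X.Opens)
    (hU' : IsAffineOpen U')
    (hle : U' ≤ q ⁻¹ᵁ U) {d : ℕ} (hd : 0 < d) (g : 𝒮.presheaf.obj (op U))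
    (hg : g ∈ 𝒮.deg U hU d) : IsOpenImmersion (lft u p' chart' U hU U' hU' hle hd g hg) := by
  have : IsOpenImmersion (lft u p' chart' U hU U' hU' hle hd g hg ≫
      (RelProj.domQ u p' chart').ι) := by
    rw [lft_fac]
    unfold RelProj.awayEmb
    infer_instance
  exact IsOpenImmersion.of_comp _ (RelProj.domQ u p' chart').ι

/-- every point of `G(u)` over `U'` lies in a lifted standard chart for the pair `(U, U')` -/
theorem exists_lft_eq (hP' : RelProj.IsRelProj 𝒮' p' chart')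
    (z : ((RelProj.domQ u p' chart' : P'.Opens) : Scheme.{u}))
    (U : Y.Opens) (hU : IsAffineOpen U) (U' : X.Opens) (hU' : IsAffineOpen U')
    (hle : U' ≤ q ⁻¹ᵁ U) (hz : p' ((RelProj.domQ u p' chart').ι z) ∈ U') :
    ∃ (d : ℕ) (hd : 0 < d) (g : 𝒮.presheaf.obj (op U)) (hg : g ∈ 𝒮.deg U hU d)
      (w : Spec (CommRingCat.of (Away (𝒮'.deg U' hU') (u.gradedAt U hU U' hU' hle g)))),
      lft u p' chart' U hU U' hU' hle hd g hg w = z ∧
      RelProj.emb p' chart' U' hU' (Proj.awayι (𝒮'.deg U' hU') (u.gradedAt U hU U' hU' hle g)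
        ((u.gradedAt U hU U' hU' hle).map_mem hg) hd w) = (RelProj.domQ u p' chart').ι z := by
  have hzW : (RelProj.domQ u p' chart').ι z ∈ RelProj.domQ u p' chart' := z.2
  obtain ⟨y, hy, d, hd, g, hg, hgy⟩ := loc_of_mem_domQ u hP' _ hzW U hU U' hU' hle hz
  obtain ⟨w, hw⟩ := exists_awayι_eq hd ((u.gradedAt U hU U' hU' hle).map_mem hg) y hgy
  have h2 : RelProj.emb p' chart' U' hU' (Proj.awayι (𝒮'.deg U' hU')
      (u.gradedAt U hU U' hU' hle g) ((u.gradedAt U hU U' hU' hle).map_mem hg) hd w) =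
        (RelProj.domQ u p' chart').ι z :=
    (congrArg (RelProj.emb p' chart' U' hU') hw).trans hy
  refine ⟨d, hd, g, hg, w, (RelProj.domQ u p' chart').ι.isOpenEmbedding.injective ?_, h2⟩
  rw [← Scheme.Hom.comp_apply, lft_fac]
  exact h2

theorem ring_comp (U : Y.Opens) (hU : IsAffineOpen U) (U' : X.Opens) (hU' : IsAffineOpen U')
    (hle : U' ≤ q ⁻¹ᵁ U) (g : 𝒮.presheaf.obj (op U)) :
    𝒮.strZero U hU ≫ CommRingCat.ofHom (fromZeroRingHom (𝒮.deg U hU) (Submonoid.powers g)) ≫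
        CommRingCat.ofHom (Away.map (u.gradedAt U hU U' hU' hle) g) =
      q.appLE U U' hle ≫ 𝒮'.strZero U' hU' ≫ CommRingCat.ofHom
        (fromZeroRingHom (𝒮'.deg U' hU') (Submonoid.powers (u.gradedAt U hU U' hU' hle g))) := by
  refine CommRingCat.hom_ext (RingHom.ext fun a => ?_)
  have h3 : RelProjMap.zeroHom (u.gradedAt U hU U' hU' hle) ((𝒮.strZero U hU).hom a) =
      (𝒮'.strZero U' hU').hom ((q.appLE U U' hle).hom a) :=
    Subtype.ext (congrArg (fun θ => θ.hom a) (u.str_appLE U U' hle))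
  have h4 := away_map_fromZero (u.gradedAt U hU U' hU' hle) g ((𝒮.strZero U hU).hom a)
  rw [h3] at h4
  exact h4

theorem chart_comp (hP : RelProj.IsRelProj 𝒮 p chart) (hP' : RelProj.IsRelProj 𝒮' p' chart')
    (U : Y.Opens) (hU : IsAffineOpen U) (U' : X.Opens) (hU' : IsAffineOpen U')
    (hle : U' ≤ q ⁻¹ᵁ U) {d : ℕ} (hd : 0 < d) (g : 𝒮.presheaf.obj (op U))
    (hg : g ∈ 𝒮.deg U hU d) :
    (Spec.map (CommRingCat.ofHom (Away.map (u.gradedAt U hU U' hU' hle) g)) ≫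
        Proj.awayι (𝒮.deg U hU) g hg hd ≫ RelProj.emb p chart U hU) ≫ p =
      RelProj.awayEmb u p' chart' U hU U' hU' hle hd g hg ≫ p' ≫ q := by
  have h2 : RelProj.emb p' chart' U' hU' ≫ p' ≫ q =
      Proj.toSpecZero (𝒮'.deg U' hU') ≫ Spec.map (𝒮'.strZero U' hU') ≫
        Spec.map (q.appLE U U' hle) ≫ hU.fromSpec := by
    rw [← Category.assoc, emb_comp hP', Category.assoc, Category.assoc,
      IsAffineOpen.SpecMap_appLE_fromSpec q hU hU' hle]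
  unfold RelProj.awayEmb
  simp only [Category.assoc]
  rw [emb_comp hP, h2, Proj.awayι_toSpecZero_assoc, Proj.awayι_toSpecZero_assoc,
    ← Spec.map_comp_assoc, ← Spec.map_comp_assoc, ← Spec.map_comp_assoc, ← Spec.map_comp_assoc]
  congr 1
  refine congrArg Spec.map ?_
  exact ring_comp u U hU U' hU' hle g

variable (r : ((RelProj.domQ u p' chart' : P'.Opens) : Scheme.{u}) ⟶ P)
  (hr : RelProj.IsProjQMapOn u p chart p' chart' (RelProj.domQ u p' chart') r)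

include hr in
/-- `Proj(u)` is a morphism over `q` -/
theorem r_comp (hP : RelProj.IsRelProj 𝒮 p chart) (hP' : RelProj.IsRelProj 𝒮' p' chart') :
    r ≫ p = (RelProj.domQ u p' chart').ι ≫ p' ≫ q := by
  refine hom_ext_of_covers _ _ (fun z => ?_)
  obtain ⟨U, hU, hzU⟩ := exists_affine_mem (q (p' ((RelProj.domQ u p' chart').ι z)))
  obtain ⟨U', hU', hzU', hle⟩ := exists_affine_pair q _ U hzU
  obtain ⟨d, hd, g, hg, w, hwz, -⟩ := exists_lft_eq u hP' z U hU U' hU' hle hzU'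
  refine ⟨_, lft u p' chart' U hU U' hU' hle hd g hg,
    isOpenImmersion_lft u U hU U' hU' hle hd g hg, ⟨w, hwz⟩, ?_⟩
  rw [← Category.assoc, hr U hU U' hU' hle d hd g hg
    (RelProj.range_awayEmb_subset_domQ u p' chart' U hU U' hU' hle hd g hg),
    ← Category.assoc (lft u p' chart' U hU U' hU' hle hd g hg), lft_fac]
  exact chart_comp u hP hP' U hU U' hU' hle hd g hg

include hr in
theorem p_r_apply (hP : RelProj.IsRelProj 𝒮 p chart) (hP' : RelProj.IsRelProj 𝒮' p' chart')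
    (z : ((RelProj.domQ u p' chart' : P'.Opens) : Scheme.{u})) :
    p (r z) = q (p' ((RelProj.domQ u p' chart').ι z)) := by
  rw [← Scheme.Hom.comp_apply, r_comp u r hr hP hP']
  rfl

include hr in
/-- the value of `Proj(u)` at a point lies in `D₊(f)` iff `u(f)` does not vanish there -/
theorem r_mem_iff (hP' : RelProj.IsRelProj 𝒮' p' chart')
    (z : ((RelProj.domQ u p' chart' : P'.Opens) : Scheme.{u}))
    (U : Y.Opens) (hU : IsAffineOpen U) (U' : X.Opens) (hU' : IsAffineOpen U')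
    (hle : U' ≤ q ⁻¹ᵁ U) (y : Proj (𝒮'.deg U' hU'))
    (hy : RelProj.emb p' chart' U' hU' y = (RelProj.domQ u p' chart').ι z)
    {e : ℕ} (he : 0 < e) (f : 𝒮.presheaf.obj (op U)) (hf : f ∈ 𝒮.deg U hU e) :
    r z ∈ (RelProj.emb p chart U hU) ''ᵁ Proj.basicOpen (𝒮.deg U hU) f ↔
      (u.appLE U U' hle).hom f ∉ y.asHomogeneousIdeal := by
  have hpU' : p' ((RelProj.domQ u p' chart').ι z) ∈ U' := by
    have h1 : RelProj.emb p' chart' U' hU' y ∈ (RelProj.emb p' chart' U' hU').opensRange :=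
      ⟨_, rfl⟩
    rw [opensRange_emb, hy] at h1
    exact h1
  obtain ⟨d, hd, g, hg, w, hwz, hwy⟩ := exists_lft_eq u hP' z U hU U' hU' hle hpU'
  have hyw : Proj.awayι (𝒮'.deg U' hU') (u.gradedAt U hU U' hU' hle g)
      ((u.gradedAt U hU U' hU' hle).map_mem hg) hd w = y :=
    (RelProj.emb p' chart' U' hU').isOpenEmbedding.injective (hwy.trans hy.symm)
  have hrz : r z = RelProj.emb p chart U hU (Proj.awayι (𝒮.deg U hU) g hg hd
      (Spec.map (CommRingCat.ofHom (Away.map (u.gradedAt U hU U' hU' hle) g)) w)) := by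
    rw [← hwz, ← Scheme.Hom.comp_apply, hr U hU U' hU' hle d hd g hg
      (RelProj.range_awayEmb_subset_domQ u p' chart' U hU U' hU' hle hd g hg)]
    rfl
  rw [hrz]
  have key := preimage_eq (u.gradedAt U hU U' hU' hle) hd he hg hf
  constructor
  · rintro ⟨y₀, hy₀, hy₀e⟩
    have h1 := (RelProj.emb p chart U hU).isOpenEmbedding.injective hy₀e
    have h2 : w ∈ (Spec.map (CommRingCat.ofHom (Away.map (u.gradedAt U hU U' hU' hle) g)) ≫
        Proj.awayι (𝒮.deg U hU) g hg hd) ⁻¹ᵁ Proj.basicOpen (𝒮.deg U hU) f := by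
      change (Spec.map _ ≫ Proj.awayι (𝒮.deg U hU) g hg hd) w ∈ Proj.basicOpen (𝒮.deg U hU) f
      rw [Scheme.Hom.comp_apply, ← h1]
      exact hy₀
    rw [key] at h2
    have h3 : Proj.awayι (𝒮'.deg U' hU') (u.gradedAt U hU U' hU' hle g)
        ((u.gradedAt U hU U' hU' hle).map_mem hg) hd w ∈
          Proj.basicOpen (𝒮'.deg U' hU') (u.gradedAt U hU U' hU' hle f) := h2
    rw [hyw] at h3
    exact h3
  · intro hfy
    refine ⟨_, ?_, rfl⟩
    have h3 : Proj.awayι (𝒮'.deg U' hU') (u.gradedAt U hU U' hU' hle g)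
        ((u.gradedAt U hU U' hU' hle).map_mem hg) hd w ∈
          Proj.basicOpen (𝒮'.deg U' hU') (u.gradedAt U hU U' hU' hle f) := by
      rw [hyw]
      exact hfy
    have h2 : w ∈ (Proj.awayι (𝒮'.deg U' hU') (u.gradedAt U hU U' hU' hle g)
        ((u.gradedAt U hU U' hU' hle).map_mem hg) hd) ⁻¹ᵁ
          Proj.basicOpen (𝒮'.deg U' hU') (u.gradedAt U hU U' hU' hle f) := h3
    rw [← key] at h2
    exact h2

end maps

section dominant

variable {Y : Scheme.{u}} {𝒮 : RelProj.QCGrAlg Y} {P : Scheme.{u}} {p : P ⟶ Y}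
  {chart : ∀ (U : Y.Opens) (hU : IsAffineOpen U),
    ((p ⁻¹ᵁ U : P.Opens) : Scheme.{u}) ≅ Proj (𝒮.deg U hU)}

theorem nilpotent_of_isDominant {T : Scheme.{u}} (r : T ⟶ P) (hdom : IsDominant r)
    (U : Y.Opens) (hU : IsAffineOpen U) {n : ℕ} (hn : 0 < n) {s : 𝒮.presheaf.obj (op U)}
    (hs : s ∈ 𝒮.deg U hU n)
    (h : ∀ z : T, r z ∉ (RelProj.emb p chart U hU) ''ᵁ Proj.basicOpen (𝒮.deg U hU) s) :
    IsNilpotent s := by
  apply isNilpotent_of_forall_mem hn hs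
  intro y
  by_contra hy
  have hO : IsOpen (((RelProj.emb p chart U hU) ''ᵁ Proj.basicOpen (𝒮.deg U hU) s : P.Opens) :
      Set P) := Opens.isOpen _
  obtain ⟨z, hz⟩ := r.denseRange.exists_mem_open hO
    ⟨RelProj.emb p chart U hU y, ⟨y, hy, rfl⟩⟩
  exact h z hz

theorem isDominant_of_forall {T : Scheme.{u}} (r : T ⟶ P) (hP : RelProj.IsRelProj 𝒮 p chart)
    (H : ∀ y₀ : Y, ∃ (U : Y.Opens) (hU : IsAffineOpen U), y₀ ∈ U ∧
      ∀ (n : ℕ), 0 < n → ∀ s ∈ 𝒮.deg U hU n,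
        (∀ z : T, r z ∉ (RelProj.emb p chart U hU) ''ᵁ Proj.basicOpen (𝒮.deg U hU) s) →
          IsNilpotent s) :
    IsDominant r := by
  refine ⟨?_⟩
  rw [DenseRange, dense_iff_inter_open]
  rintro O hO ⟨p₀, hp₀⟩
  obtain ⟨U, hU, hpU, HU⟩ := H (p p₀)
  obtain ⟨y₀, hy₀⟩ := exists_emb_eq p chart U hU p₀ hpU
  let O' : (Proj (𝒮.deg U hU)).Opens := (RelProj.emb p chart U hU) ⁻¹ᵁ ⟨O, hO⟩
  have hy₀O : y₀ ∈ O' := by
    change RelProj.emb p chart U hU y₀ ∈ O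
    rw [hy₀]
    exact hp₀
  obtain ⟨n, hn, s, hs, hys, hsO⟩ := exists_basicOpen_le O' y₀ hy₀O
  by_contra hemp
  have hnil : IsNilpotent s := HU n hn s hs (fun z hz => by
    obtain ⟨y₁, hy₁, hy₁e⟩ := hz
    apply hemp
    refine ⟨r z, ?_, ⟨z, rfl⟩⟩
    have h1 : RelProj.emb p chart U hU y₁ ∈ O := hsO hy₁
    have h2 : RelProj.emb p chart U hU y₁ = r z := hy₁e
    rw [h2] at h1
    exact h1)
  exact hys (mem_of_isNilpotent hnil y₀)

end dominant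

section transfer

variable {Y X : Scheme.{u}} {q : X ⟶ Y} {𝒮 𝒯 : RelProj.QCGrAlg Y} {𝒮' : RelProj.QCGrAlg X}
  (u : RelProj.QGrHom q 𝒮 𝒮') (u₂ : RelProj.QGrHom q 𝒯 𝒮') {P' : Scheme.{u}} {p' : P' ⟶ X}
  {chart' : ∀ (U : X.Opens) (hU : IsAffineOpen U),
    ((p' ⁻¹ᵁ U : P'.Opens) : Scheme.{u}) ≅ Proj (𝒮'.deg U hU)}
  {P : Scheme.{u}} {p : P ⟶ Y}
  {chart : ∀ (U : Y.Opens) (hU : IsAffineOpen U),
    ((p ⁻¹ᵁ U : P.Opens) : Scheme.{u}) ≅ Proj (𝒮.deg U hU)}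
  {P₂ : Scheme.{u}} {p₂ : P₂ ⟶ Y}
  {chart₂ : ∀ (U : Y.Opens) (hU : IsAffineOpen U),
    ((p₂ ⁻¹ᵁ U : P₂.Opens) : Scheme.{u}) ≅ Proj (𝒯.deg U hU)}

theorem appLE_of_comp (v : 𝒯.toQCAlg ⟶ 𝒮.toQCAlg)
    (hu : ∀ U : Y.Opens, u₂.app U = v.hom.app (op U) ≫ u.app U)
    (U : Y.Opens) (U' : X.Opens) (hle : U' ≤ q ⁻¹ᵁ U) (τ : 𝒯.presheaf.obj (op U)) :
    (u₂.appLE U U' hle).hom τ = (u.appLE U U' hle).hom ((v.hom.app (op U)).hom τ) := by
  change (u₂.app U ≫ 𝒮'.presheaf.map (homOfLE hle).op).hom τ = _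
  rw [hu U]
  rfl

/-- if the nonvanishing of `u₂(τ)` forces that of `u(s)`, then `Proj(u₂)⁻¹(D₊(τ))` is empty as
soon as `Proj(u)⁻¹(D₊(s))` is. -/
theorem transfer (hP' : RelProj.IsRelProj 𝒮' p' chart')
    (hP : RelProj.IsRelProj 𝒮 p chart) (hP₂ : RelProj.IsRelProj 𝒯 p₂ chart₂)
    (r : ((RelProj.domQ u p' chart' : P'.Opens) : Scheme.{u}) ⟶ P)
    (hr : RelProj.IsProjQMapOn u p chart p' chart' (RelProj.domQ u p' chart') r)
    (r₂ : ((RelProj.domQ u₂ p' chart' : P'.Opens) : Scheme.{u}) ⟶ P₂)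
    (hr₂ : RelProj.IsProjQMapOn u₂ p₂ chart₂ p' chart' (RelProj.domQ u₂ p' chart') r₂)
    (U : Y.Opens) (hU : IsAffineOpen U) {n : ℕ} (hn : 0 < n) {s : 𝒮.presheaf.obj (op U)}
    (hs : s ∈ 𝒮.deg U hU n) {m : ℕ} (hm : 0 < m) {τ : 𝒯.presheaf.obj (op U)}
    (hτ : τ ∈ 𝒯.deg U hU m)
    (H : ∀ (U' : X.Opens) (hU' : IsAffineOpen U') (hle : U' ≤ q ⁻¹ᵁ U)
      (y : Proj (𝒮'.deg U' hU')), (u₂.appLE U U' hle).hom τ ∉ y.asHomogeneousIdeal →
        (u.appLE U U' hle).hom s ∉ y.asHomogeneousIdeal)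
    (h : ∀ z, r z ∉ (RelProj.emb p chart U hU) ''ᵁ Proj.basicOpen (𝒮.deg U hU) s) :
    ∀ z₂, r₂ z₂ ∉ (RelProj.emb p₂ chart₂ U hU) ''ᵁ Proj.basicOpen (𝒯.deg U hU) τ := by
  intro z₂ hz₂
  have h1 : p₂ (r₂ z₂) ∈ U := by
    obtain ⟨y₁, -, hy₁e⟩ := hz₂
    have h2 : RelProj.emb p₂ chart₂ U hU y₁ ∈ (RelProj.emb p₂ chart₂ U hU).opensRange :=
      ⟨_, rfl⟩
    rw [opensRange_emb] at h2
    have h3 : RelProj.emb p₂ chart₂ U hU y₁ = r₂ z₂ := hy₁e
    rw [h3] at h2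
    exact h2
  rw [p_r_apply u₂ r₂ hr₂ hP₂ hP'] at h1
  obtain ⟨U', hU', hzU', hle⟩ := exists_affine_pair q _ U h1
  obtain ⟨y, hy⟩ := exists_emb_eq p' chart' U' hU' _ hzU'
  have h3 := (r_mem_iff u₂ r₂ hr₂ hP' z₂ U hU U' hU' hle y hy hm τ hτ).mp hz₂
  have h4 := H U' hU' hle y h3
  have hdom : (RelProj.domQ u₂ p' chart').ι z₂ ∈ RelProj.domQ u p' chart' :=
    mem_domQ_of_loc u _ U hU U' hU' hle ⟨y, hy, n, hn, s, hs, h4⟩
  exact h ⟨_, hdom⟩ ((r_mem_iff u r hr hP' ⟨_, hdom⟩ U hU U' hU' hle y hy hn s hs).mpr h4)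

/-- `G(u₂) ⊆ G(u)` when every `u₂(g)` is some `u(g')` -/
theorem domQ_le
    (H : ∀ (U : Y.Opens) (hU : IsAffineOpen U) (U' : X.Opens) (hU' : IsAffineOpen U')
      (hle : U' ≤ q ⁻¹ᵁ U) (d : ℕ) (g : 𝒯.presheaf.obj (op U)), g ∈ 𝒯.deg U hU d →
        ∃ g' ∈ 𝒮.deg U hU d, (u.appLE U U' hle).hom g' = (u₂.appLE U U' hle).hom g) :
    RelProj.domQ u₂ p' chart' ≤ RelProj.domQ u p' chart' := by
  intro x hx
  obtain ⟨⟨⟨⟨V, hV⟩, ⟨V', hV'⟩⟩, hleV⟩, hxV⟩ := Opens.mem_iSup.mp hx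
  obtain ⟨y', hy', hxe⟩ := hxV
  obtain ⟨d, hd, f, hf, hfy⟩ := exists_of_mem_domOpen _ y' hy'
  obtain ⟨g', hg', hgg⟩ := H V hV V' hV' hleV d f hf
  refine mem_domQ_of_loc u x V hV V' hV' hleV ⟨y', hxe, d, hd, g', hg', ?_⟩
  rw [hgg]
  exact hfy

theorem domQ_le_of_comp (v : 𝒯.toQCAlg ⟶ 𝒮.toQCAlg) (hv : RelProj.IsGradedHom v)
    (hu : ∀ U : Y.Opens, u₂.app U = v.hom.app (op U) ≫ u.app U) :
    RelProj.domQ u₂ p' chart' ≤ RelProj.domQ u p' chart' :=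
  domQ_le u u₂ (fun U hU U' _ hle d g hg =>
    ⟨(v.hom.app (op U)).hom g, hv U hU d g hg, (appLE_of_comp u u₂ v hu U U' hle g).symm⟩)

end transfer

end Groth.Agent.Lib.Helper3.RLPsi
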