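import Groth.Agent.Lib.Helper3.ProjBC
import Groth.Agent.Lib.Helper3.RLPsi
import Groth.Agent.Lib.Helper3.ProjQGlue

/-!
# Base change of relative `Proj` along a graded `ψ`-morphism that is a base change
-/

set_option autoImplicit false
universe u
open CategoryTheory CategoryTheory.Limits AlgebraicGeometry TopologicalSpace Opposite
open scoped HomogeneousIdeal

namespace Groth.Agent.Lib.Helper3.ProjBC

open HomogeneousLocalization Groth.Agent.Lib.Helper3.AwayBC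

section alg
variable {R' R B A : Type u} [CommRing R'] [CommRing R] [CommRing B] [CommRing A]
  (ℬ : ℕ → AddSubgroup B) [GradedRing ℬ] (𝒜 : ℕ → AddSubgroup A) [GradedRing 𝒜]
  (a : R' →+* R) (b : R' →+* B) (c : R →+* A) (φ : ℬ →+*ᵍ 𝒜)
  (hc : ∀ r, c r ∈ 𝒜 0)

include hc in
theorem irrelevant_le_map_of_isPushout
    (hpo : IsPushout (CommRingCat.ofHom a) (CommRingCat.ofHom b) (CommRingCat.ofHom c)
      (CommRingCat.ofHom φ.toRingHom)) :
    𝒜₊ ≤ ℬ₊.map φ := by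
  classical
  have hsq : ∀ r, φ (b r) = c (a r) := fun r =>
    (congrArg (fun t => t.hom r) hpo.w).symm
  letI iR : Algebra R' R := a.toAlgebra
  letI iB : Algebra R' B := b.toAlgebra
  letI iA : Algebra R A := c.toAlgebra
  letI iA' : Algebra R' A := (c.comp a).toAlgebra
  letI iBA : Algebra B A := φ.toRingHom.toAlgebra
  haveI : IsScalarTower R' R A := IsScalarTower.of_algebraMap_eq (fun r => rfl)
  haveI : IsScalarTower R' B A := IsScalarTower.of_algebraMap_eq (fun r => (hsq r).symm)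
  haveI hP : Algebra.IsPushout R' R B A := CommRingCat.isPushout_iff_isPushout.mp hpo
  have key : ∀ y : A, ∀ n, 0 < n →
      ((DirectSum.decompose 𝒜 y n : 𝒜 n) : A) ∈ Ideal.map φ (ℬ₊.toIdeal) := by
    intro y
    refine IsBaseChange.inductionOn hP.out y (fun y => ∀ n, 0 < n →
      ((DirectSum.decompose 𝒜 y n : 𝒜 n) : A) ∈ Ideal.map φ (ℬ₊.toIdeal)) ?_ ?_ ?_ ?_
    · intro n _
      rw [DirectSum.decompose_zero, DirectSum.zero_apply, ZeroMemClass.coe_zero]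
      exact Ideal.zero_mem _
    · intro x n hn
      show ((DirectSum.decompose 𝒜 (φ x) n : 𝒜 n) : A) ∈ _
      rw [← φ.map_directSumDecompose]
      exact Ideal.mem_map_of_mem _
        (HomogeneousIdeal.mem_irrelevant_of_mem _ hn (SetLike.coe_mem _))
    · intro r y hy n hn
      have : r • y = c r * y := Algebra.smul_def r y
      rw [this, decompose_zero_mul 𝒜 (hc r) y n]
      exact Ideal.mul_mem_left _ _ (hy n hn)
    · intro y₁ y₂ h₁ h₂ n hn
      rw [DirectSum.decompose_add, DirectSum.add_apply, AddSubgroup.coe_add]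
      exact Ideal.add_mem _ (h₁ n hn) (h₂ n hn)
  rw [HomogeneousIdeal.irrelevant_le]
  intro n hn x hx
  change x ∈ Ideal.map φ (ℬ₊.toIdeal)
  have hx' : x ∈ 𝒜 n := hx
  have := key x n hn
  rwa [DirectSum.decompose_of_mem_same 𝒜 hx'] at this

end alg

section rel
variable {Y Y' P P' : Scheme.{u}} (ψ : Y' ⟶ Y) {𝒮 : RelProj.QCGrAlg Y}
  {𝒮' : RelProj.QCGrAlg Y'} {p : P ⟶ Y}
  {chart : ∀ (U : Y.Opens) (hU : IsAffineOpen U),
    ((p ⁻¹ᵁ U : P.Opens) : Scheme.{u}) ≅ Proj (𝒮.deg U hU)}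
  {p' : P' ⟶ Y'}
  {chart' : ∀ (U : Y'.Opens) (hU : IsAffineOpen U),
    ((p' ⁻¹ᵁ U : P'.Opens) : Scheme.{u}) ≅ Proj (𝒮'.deg U hU)}

/-- relative `Proj` commutes with base change (chartwise formulation). -/
theorem isPullback_rel (hP : RelProj.IsRelProj 𝒮 p chart) (hP' : RelProj.IsRelProj 𝒮' p' chart')
    (φ : ∀ (U : Y.Opens) (hU : IsAffineOpen U) (U' : Y'.Opens) (hU' : IsAffineOpen U')
      (_ : U' ≤ ψ ⁻¹ᵁ U), 𝒮.deg U hU →+*ᵍ 𝒮'.deg U' hU')
    (hpo : ∀ (U : Y.Opens) (hU : IsAffineOpen U) (U' : Y'.Opens) (hU' : IsAffineOpen U')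
      (hle : U' ≤ ψ ⁻¹ᵁ U),
      IsPushout (ψ.appLE U U' hle) (𝒮.str.app (op U)) (𝒮'.str.app (op U'))
        (CommRingCat.ofHom (φ U hU U' hU' hle).toRingHom))
    (hirr : ∀ (U : Y.Opens) (hU : IsAffineOpen U) (U' : Y'.Opens) (hU' : IsAffineOpen U')
      (hle : U' ≤ ψ ⁻¹ᵁ U), (𝒮'.deg U' hU')₊ ≤ ((𝒮.deg U hU)₊).map (φ U hU U' hU' hle))
    (g : P' ⟶ P)
    (hg : ∀ (U : Y.Opens) (hU : IsAffineOpen U) (U' : Y'.Opens) (hU' : IsAffineOpen U')
      (hle : U' ≤ ψ ⁻¹ᵁ U),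
      RelProj.emb p' chart' U' hU' ≫ g =
        Proj.map (φ U hU U' hU' hle) (hirr U hU U' hU' hle) ≫ RelProj.emb p chart U hU) :
    IsPullback g p' p ψ := by
  refine IsPullback.flip ?_
  let J : Type u :=
    {x : Y.affineOpens × Y'.affineOpens // (x.2 : Y'.Opens) ≤ ψ ⁻¹ᵁ (x.1 : Y.Opens)}
  refine isPullback_of_cover p' g ψ p (J := J)
    (fun i => Spec Γ(Y', i.1.2.1)) (fun i => Proj (𝒮'.deg i.1.2.1 i.1.2.2))
    (fun i => i.1.2.2.fromSpec)
    (fun i => RelProj.emb p' chart' i.1.2.1 i.1.2.2)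
    (fun i => Proj.toSpecZero _ ≫ Spec.map (𝒮'.strZero i.1.2.1 i.1.2.2))
    ?_ ?_ ?_
  · intro y'
    obtain ⟨U, hU, hyU⟩ := ProjQMap.exists_affine_mem (ψ y')
    obtain ⟨U', hU', hyU', hle⟩ := RLPsi.exists_affine_pair ψ y' U hyU
    have hmem : y' ∈ hU'.fromSpec.opensRange := by
      rw [hU'.opensRange_fromSpec]
      exact hyU'
    obtain ⟨z, hz⟩ := hmem
    exact ⟨⟨(⟨U, hU⟩, ⟨U', hU'⟩), hle⟩, z, hz⟩
  · intro i
    exact (isPullback_emb hP' i.1.2.1 i.1.2.2).flip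
  · rintro ⟨⟨⟨U, hU⟩, ⟨U', hU'⟩⟩, hle⟩
    have Q0 := isPullback_projMap (𝒮.deg U hU) (𝒮'.deg U' hU')
      (ψ.appLE U U' hle).hom (𝒮.str.app (op U)).hom (𝒮'.str.app (op U')).hom (φ U hU U' hU' hle)
      (𝒮.str_mem U hU) (𝒮'.str_mem U' hU')
      (hpo U hU U' hU' hle) (hirr U hU U' hU' hle)
    have Q1 := isPullback_emb hP U hU
    have Q2 := Q0.flip.paste_vert Q1
    have e1 : Spec.map (ψ.appLE U U' hle) ≫ hU.fromSpec = hU'.fromSpec ≫ ψ :=
      IsAffineOpen.SpecMap_appLE_fromSpec ψ hU hU' hle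
    show IsPullback (Proj.toSpecZero (𝒮'.deg U' hU') ≫ Spec.map (𝒮'.strZero U' hU'))
      (RelProj.emb p' chart' U' hU' ≫ g) (hU'.fromSpec ≫ ψ) p
    rw [hg U hU U' hU' hle, ← e1]
    exact Q2

variable (u : RelProj.QGrHom ψ 𝒮 𝒮') (hu : RelSpec.IsQBaseChange u.toQHom)

include hu in
theorem irrelevant_le_of_isQBaseChange (U : Y.Opens) (hU : IsAffineOpen U) (U' : Y'.Opens)
    (hU' : IsAffineOpen U') (hle : U' ≤ ψ ⁻¹ᵁ U) :
    (𝒮'.deg U' hU')₊ ≤ ((𝒮.deg U hU)₊).map (u.gradedAt U hU U' hU' hle) :=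
  irrelevant_le_map_of_isPushout (𝒮.deg U hU) (𝒮'.deg U' hU') (ψ.appLE U U' hle).hom
    (𝒮.str.app (op U)).hom (𝒮'.str.app (op U')).hom (u.gradedAt U hU U' hU' hle)
    (𝒮'.str_mem U' hU') (hu U hU U' hU' hle)

include hu in
theorem domQ_eq_top_of_isQBaseChange (p' : P' ⟶ Y')
    (chart' : ∀ (U : Y'.Opens) (hU : IsAffineOpen U),
      ((p' ⁻¹ᵁ U : P'.Opens) : Scheme.{u}) ≅ Proj (𝒮'.deg U hU)) :
    RelProj.domQ u p' chart' = ⊤ := by
  rw [eq_top_iff]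
  rintro x -
  obtain ⟨U, hU, hyU⟩ := ProjQMap.exists_affine_mem (ψ (p' x))
  obtain ⟨U', hU', hyU', hle⟩ := RLPsi.exists_affine_pair ψ (p' x) U hyU
  obtain ⟨y, hy⟩ := ProjQMap.exists_emb_eq p' chart' U' hU' x hyU'
  refine RLPsi.mem_domQ_of_loc u x U hU U' hU' hle ⟨y, hy, ?_⟩
  by_contra hcon
  push Not at hcon
  apply y.not_irrelevant_le
  refine (irrelevant_le_of_isQBaseChange ψ u hu U hU U' hU' hle).trans ?_
  intro s hs
  change s ∈ Ideal.map (u.gradedAt U hU U' hU' hle) ((𝒮.deg U hU)₊.toIdeal) at hs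
  refine Ideal.map_le_iff_le_comap.mpr ?_ hs
  rw [HomogeneousIdeal.toIdeal_irrelevant_le]
  intro i hi g hg
  exact hcon i hi g hg

include hu in
theorem isPullback_of_isProjQMap (hP : RelProj.IsRelProj 𝒮 p chart)
    (hP' : RelProj.IsRelProj 𝒮' p' chart') (h : P' ⟶ P)
    (hh : RelProj.IsProjQMap u p chart p' chart' h) : IsPullback h p' p ψ := by
  refine isPullback_rel ψ hP hP' (fun U hU U' hU' hle => u.gradedAt U hU U' hU' hle)
    (fun U hU U' hU' hle => hu U hU U' hU' hle)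
    (fun U hU U' hU' hle => irrelevant_le_of_isQBaseChange ψ u hu U hU U' hU' hle) h ?_
  intro U hU U' hU' hle
  refine (Proj.mapAffineOpenCover (u.gradedAt U hU U' hU' hle)
    (irrelevant_le_of_isQBaseChange ψ u hu U hU U' hU' hle)).openCover.hom_ext _ _ fun s => ?_
  have h1 := hh.2 U hU U' hU' hle s.1.1 s.1.2 s.2.1 s.2.2
  unfold RelProj.awayEmb at h1
  rw [Category.assoc] at h1
  have h2 := Proj.awayι_comp_map_assoc (u.gradedAt U hU U' hU' hle)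
    (irrelevant_le_of_isQBaseChange ψ u hu U hU U' hU' hle) s.1.2 s.2.1 s.2.2
    (RelProj.emb p chart U hU)
  exact h1.trans h2.symm

include hu in
theorem exists_isProjQMap (hP : RelProj.IsRelProj 𝒮 p chart)
    (hP' : RelProj.IsRelProj 𝒮' p' chart') :
    ∃ h : P' ⟶ P, RelProj.IsProjQMap u p chart p' chart' h := by
  obtain ⟨ϖ, hϖ⟩ := ProjQGlue.exists_isProjQMapOn (u := u) p chart p' chart' hP hP'
  have hG : RelProj.domQ u p' chart' = ⊤ := domQ_eq_top_of_isQBaseChange ψ u hu p' chart'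
  haveI : IsIso (RelProj.domQ u p' chart').ι := by
    rw [hG]
    exact (inferInstance : IsIso (Scheme.topIso P').hom)
  refine ⟨inv (RelProj.domQ u p' chart').ι ≫ ϖ, hG, ?_⟩
  intro U hU U₁ hU₁ hle d hd f hf
  rw [← hϖ U hU U₁ hU₁ hle d hd f hf
    (RelProj.range_awayEmb_subset_domQ u p' chart' U hU U₁ hU₁ hle hd f hf), ← Category.assoc]
  congr 1
  rw [IsIso.comp_inv_eq, IsOpenImmersion.lift_fac]

end rel

end Groth.Agent.Lib.Helper3.ProjBC
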