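import Groth.Agent.Lib.Helper3.ProjRankOne
import Groth.Agent.Lib.Helper3.SymLocal
import Groth.Agent.Lib.Helper3.SymGen
import Groth.Agent.Lib.Helper3.InvGen

/-!
# The relative `Proj` of the symmetric algebra of an invertible module
-/

set_option autoImplicit false
set_option linter.unusedSectionVars false
universe u
open CategoryTheory CategoryTheory.Limits AlgebraicGeometry TopologicalSpace Opposite
open Scheme.Modules
open scoped HomogeneousIdeal

namespace Groth.Agent.Lib.Helper3.SymInvProj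

open QCSec InvGen SymGen

variable {X : Scheme.{u}} {L : X.Modules} [L.IsQuasicoherent]
  {𝒮 : RelProj.QCGrAlg X} {j : L ⟶ 𝒮.toModule}

/-- the coordinate with respect to a generator -/
noncomputable def coord {U : X.Opens} {e : Γ(L, U)} (he : IsGenAt L U e) :
    Γ(L, U) ≃ₗ[Γ(X, U)] Γ(X, U) :=
  (LinearEquiv.ofBijective (LinearMap.toSpanSingleton Γ(X, U) Γ(L, U) e) he).symm

theorem coord_smul {U : X.Opens} {e : Γ(L, U)} (he : IsGenAt L U e) (m : Γ(L, U)) :
    coord he m • e = m :=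
  (LinearEquiv.ofBijective (LinearMap.toSpanSingleton Γ(X, U) Γ(L, U) e) he).apply_symm_apply m

theorem coord_self {U : X.Opens} {e : Γ(L, U)} (he : IsGenAt L U e) : coord he e = 1 := by
  apply he.1
  change coord he e • e = (1 : Γ(X, U)) • e
  rw [coord_smul, one_smul]

theorem isIso_toSpec (hj : RelProj.IsGrSymAlg L 𝒮 j) {U : X.Opens} (hU : IsAffineOpen U)
    {e : Γ(L, U)} (he : IsGenAt L U e) :
    IsIso (Proj.toSpecZero (𝒮.deg U hU) ≫ Spec.map (𝒮.strZero U hU)) := by
  obtain ⟨g, ⟨hg1, hg2⟩, -⟩ := SymLocal.existsUnique_lift hj.1 ⟨U, hU⟩ (RingHom.id Γ(X, U))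
    ((coord he).toLinearMap.toAddMonoidHom) (fun a m => by
      change coord he (a • m) = a * coord he m
      rw [LinearEquiv.map_smul, smul_eq_mul])
  have ht : jj 𝒮.toQCAlg j U e ∈ 𝒮.deg U hU 1 := hj.2 U hU e
  refine ProjRankOne.isIso_toSpec (𝒮.deg U hU) Γ(X, U) (𝒮.strZero U hU) (jj 𝒮.toQCAlg j U e) ht ?_
    g (fun r => hg1 r) ?_
  · rw [eq_top_iff, ← G_eq_top 𝒮.toQCAlg j hj.1 hU]
    apply Subring.closure_le.mpr
    rintro x (⟨r, rfl⟩ | ⟨m, rfl⟩)
    · exact Subring.subset_closure (Or.inl ⟨r, rfl⟩)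
    · have h1 : jj 𝒮.toQCAlg j U m = st 𝒮.toQCAlg U (coord he m) * jj 𝒮.toQCAlg j U e := by
        rw [← jj_smul, coord_smul]
      rw [h1]
      exact Subring.mul_mem _ (Subring.subset_closure (Or.inl ⟨coord he m, rfl⟩))
        (Subring.subset_closure (Or.inr rfl))
  · have := hg2 e
    rw [this]
    exact coord_self he

theorem isIso_p {PL : Scheme.{u}} (hL : PicF.IsInvertible L) (hj : RelProj.IsGrSymAlg L 𝒮 j)
    (pL : PL ⟶ X)
    (chartL : ∀ (U : X.Opens) (hU : IsAffineOpen U),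
      (((pL ⁻¹ᵁ U : PL.Opens) : Scheme.{u}) ≅ Proj (𝒮.deg U hU)))
    (hPL : RelProj.IsRelProj 𝒮 pL chartL) : IsIso pL := by
  choose U e hU hxU hg using fun x => exists_affine_isGen hL x
  have hcov : ⨆ x, U x = ⊤ := by
    rw [eq_top_iff]
    intro x _
    exact Opens.mem_iSup.mpr ⟨x, hxU x⟩
  refine (IsZariskiLocalAtTarget.iff_of_iSup_eq_top
    (P := MorphismProperty.isomorphisms Scheme.{u}) U hcov).mpr fun x => ?_
  change IsIso (pL ∣_ U x)
  haveI := isIso_toSpec hj (hU x) (hg x).self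
  have h1 : pL ∣_ U x = (chartL (U x) (hU x)).hom ≫
      (Proj.toSpecZero (𝒮.deg (U x) (hU x)) ≫ Spec.map (𝒮.strZero (U x) (hU x))) ≫
        (hU x).isoSpec.inv := by
    rw [← cancel_mono (U x).ι, morphismRestrict_ι, Category.assoc, Category.assoc,
      IsAffineOpen.isoSpec_inv_ι, ← hPL.chart_over, Category.assoc]
  rw [h1]
  infer_instance

end Groth.Agent.Lib.Helper3.SymInvProj
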