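import Groth.Agent.Lib.Helper3.RLPsi
import Groth.Agent.Lib.Helper3.SymInvProj
import Groth.Agent.Lib.Helper3.SymGenProj
import Groth.Agent.Lib.Helper3.ProjZero
import Groth.Agent.Lib.Helper3.TrivFin

/-!
# `Proj` of the graded symmetric algebra of an invertible module: vanishing loci of homogeneous
sections
-/

set_option autoImplicit false
set_option linter.unusedSectionVars false
universe u
open CategoryTheory CategoryTheory.Limits AlgebraicGeometry TopologicalSpace Opposite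
open Scheme.Modules
open scoped HomogeneousIdeal

namespace Groth.Agent.Lib.Helper3.RLPsiInv

open QCSec InvGen SymGen ProjQMap

variable {X : Scheme.{u}}

theorem comp_preimage_basicOpen (𝒮 : RelProj.QCGrAlg X) (V : X.Opens) (hV : IsAffineOpen V)
    (c : Γ(X, V)) :
    (((Proj.toSpecZero (𝒮.deg V hV) ≫ Spec.map (𝒮.strZero V hV) ≫ hV.fromSpec) ⁻¹ᵁ
      X.basicOpen c : (Proj (𝒮.deg V hV)).Opens) : Set (Proj (𝒮.deg V hV))) =
      {x | (𝒮.str.app (op V)).hom c ∉ x.asHomogeneousIdeal} := by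
  rw [Scheme.Hom.comp_preimage, Scheme.Hom.comp_preimage, hV.fromSpec_preimage_basicOpen]
  have h1 : Spec.map (𝒮.strZero V hV) ⁻¹ᵁ PrimeSpectrum.basicOpen c =
      PrimeSpectrum.basicOpen ((𝒮.strZero V hV).hom c) := rfl
  rw [h1, ProjZero.toSpecZero_preimage_basicOpen]
  rfl

theorem mem_basicOpen_iff {𝒮 : RelProj.QCGrAlg X} {PL : Scheme.{u}} {pL : PL ⟶ X}
    {chartL : ∀ (U : X.Opens) (hU : IsAffineOpen U),
      (((pL ⁻¹ᵁ U : PL.Opens) : Scheme.{u}) ≅ Proj (𝒮.deg U hU))}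
    (hPL : RelProj.IsRelProj 𝒮 pL chartL) (V : X.Opens) (hV : IsAffineOpen V) (c : Γ(X, V))
    (y : Proj (𝒮.deg V hV)) :
    pL (RelProj.emb pL chartL V hV y) ∈ X.basicOpen c ↔
      (𝒮.str.app (op V)).hom c ∉ y.asHomogeneousIdeal := by
  have h1 : pL (RelProj.emb pL chartL V hV y) =
      (Proj.toSpecZero (𝒮.deg V hV) ≫ Spec.map (𝒮.strZero V hV) ≫ hV.fromSpec) y := by
    rw [← emb_comp hPL V hV, Scheme.Hom.comp_apply]
  rw [h1]
  have h2 := comp_preimage_basicOpen 𝒮 V hV c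
  have h3 : (Proj.toSpecZero (𝒮.deg V hV) ≫ Spec.map (𝒮.strZero V hV) ≫ hV.fromSpec) y ∈
      X.basicOpen c ↔
      y ∈ (((Proj.toSpecZero (𝒮.deg V hV) ≫ Spec.map (𝒮.strZero V hV) ≫ hV.fromSpec) ⁻¹ᵁ
        X.basicOpen c : (Proj (𝒮.deg V hV)).Opens) : Set (Proj (𝒮.deg V hV))) := Iff.rfl
  rw [h3, h2]
  rfl

variable {L : X.Modules} [L.IsQuasicoherent]
  {𝒮L : RelProj.QCGrAlg X} {j : L ⟶ 𝒮L.toModule}

theorem closure_eq_top (hj : RelProj.IsGrSymAlg L 𝒮L j) {V : X.Opens} (hV : IsAffineOpen V)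
    {e : Γ(L, V)} (he : IsGenAt L V e) :
    Subring.closure (Set.range (ProjRankOne.st (𝒮L.deg V hV) Γ(X, V) (𝒮L.strZero V hV)) ∪
      {jj 𝒮L.toQCAlg j V e}) = ⊤ := by
  rw [eq_top_iff, ← G_eq_top 𝒮L.toQCAlg j hj.1 hV]
  apply Subring.closure_le.mpr
  rintro x (⟨r, rfl⟩ | ⟨m, rfl⟩)
  · exact Subring.subset_closure (Or.inl ⟨r, rfl⟩)
  · have h1 : jj 𝒮L.toQCAlg j V m =
        st 𝒮L.toQCAlg V (SymInvProj.coord he m) * jj 𝒮L.toQCAlg j V e := by
      rw [← jj_smul, SymInvProj.coord_smul]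
    rw [h1]
    exact Subring.mul_mem _ (Subring.subset_closure (Or.inl ⟨SymInvProj.coord he m, rfl⟩))
      (Subring.subset_closure (Or.inr rfl))

/-- homogeneous sections are multiples of powers of the generator -/
theorem exists_eq_mul_pow (hj : RelProj.IsGrSymAlg L 𝒮L j) {V : X.Opens} (hV : IsAffineOpen V)
    {e : Γ(L, V)} (he : IsGenAt L V e) {n : ℕ} {a : 𝒮L.presheaf.obj (op V)}
    (ha : a ∈ 𝒮L.deg V hV n) :
    ∃ c : Γ(X, V), a = st 𝒮L.toQCAlg V c * (jj 𝒮L.toQCAlg j V e) ^ n :=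
  ProjRankOne.exists_eq_mul_pow (𝒮L.deg V hV) Γ(X, V) (𝒮L.strZero V hV) (jj 𝒮L.toQCAlg j V e)
    (hj.2 V hV e) (closure_eq_top hj hV he) ha

theorem jj_notMem (hj : RelProj.IsGrSymAlg L 𝒮L j) {V : X.Opens} (hV : IsAffineOpen V)
    {e : Γ(L, V)} (he : IsGenAt L V e) (y : Proj (𝒮L.deg V hV)) :
    jj 𝒮L.toQCAlg j V e ∉ y.asHomogeneousIdeal := by
  have h1 := ProjRankOne.basicOpen_eq_top (𝒮L.deg V hV) Γ(X, V) (𝒮L.strZero V hV)
    (jj 𝒮L.toQCAlg j V e) (hj.2 V hV e) (closure_eq_top hj hV he)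
  have h2 : y ∈ Proj.basicOpen (𝒮L.deg V hV) (jj 𝒮L.toQCAlg j V e) := by
    rw [h1]
    trivial
  exact h2

variable {PL : Scheme.{u}} {pL : PL ⟶ X}
  {chartL : ∀ (U : X.Opens) (hU : IsAffineOpen U),
    (((pL ⁻¹ᵁ U : PL.Opens) : Scheme.{u}) ≅ Proj (𝒮L.deg U hU))}

theorem notMem_iff (hj : RelProj.IsGrSymAlg L 𝒮L j) (hPL : RelProj.IsRelProj 𝒮L pL chartL)
    {V : X.Opens} (hV : IsAffineOpen V) {e : Γ(L, V)} (he : IsGenAt L V e) {n : ℕ}
    {a : 𝒮L.presheaf.obj (op V)} (c : Γ(X, V))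
    (hc : a = st 𝒮L.toQCAlg V c * (jj 𝒮L.toQCAlg j V e) ^ n) (y : Proj (𝒮L.deg V hV)) :
    a ∉ y.asHomogeneousIdeal ↔ pL (RelProj.emb pL chartL V hV y) ∈ X.basicOpen c := by
  rw [mem_basicOpen_iff hPL V hV c y, hc]
  constructor
  · intro h hcy
    apply h
    show _ ∈ y.asHomogeneousIdeal.toIdeal
    exact Ideal.mul_mem_right _ _ hcy
  · intro h hmem
    have hmem' : st 𝒮L.toQCAlg V c * (jj 𝒮L.toQCAlg j V e) ^ n ∈
        y.asHomogeneousIdeal.toIdeal := hmem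
    rcases y.isPrime.mem_or_mem hmem' with h1 | h1
    · exact h h1
    · exact jj_notMem hj hV he y (y.isPrime.mem_of_pow_mem n h1)

/-- a homogeneous section not vanishing at a point generates the degree-`n` part near it -/
theorem exists_affine_span (hj : RelProj.IsGrSymAlg L 𝒮L j)
    (hPL : RelProj.IsRelProj 𝒮L pL chartL)
    {V : X.Opens} (hV : IsAffineOpen V) {e : Γ(L, V)} (hg : IsGen L V e) {n : ℕ}
    {a : 𝒮L.presheaf.obj (op V)} (ha : a ∈ 𝒮L.deg V hV n) (y : Proj (𝒮L.deg V hV))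
    (hay : a ∉ y.asHomogeneousIdeal) :
    ∃ (V₁ : X.Opens) (hV₁ : IsAffineOpen V₁) (hle : V₁ ≤ V),
      pL (RelProj.emb pL chartL V hV y) ∈ V₁ ∧
      ((𝒮L.deg V₁ hV₁ n : AddSubgroup (𝒮L.presheaf.obj (op V₁))) :
        Set (𝒮L.presheaf.obj (op V₁))) ⊆
        (Ideal.span {(𝒮L.presheaf.map (homOfLE hle).op).hom a} :
          Set (𝒮L.presheaf.obj (op V₁))) := by
  obtain ⟨c, hc⟩ := exists_eq_mul_pow hj hV hg.self ha
  have hx := (notMem_iff hj hPL hV hg.self c hc y).mp hay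
  refine ⟨X.basicOpen c, hV.basicOpen c, X.basicOpen_le c, hx, ?_⟩
  intro b hb
  have hb' : b ∈ 𝒮L.deg (X.basicOpen c) (hV.basicOpen c) n := hb
  obtain ⟨c', hc'⟩ := exists_eq_mul_pow hj (hV.basicOpen c) (hg _ (X.basicOpen_le c)) hb'
  have hu : IsUnit (rres X (X.basicOpen_le c) c) :=
    TrivFin.isUnit_rres_of_le_basicOpen c (X.basicOpen_le c) le_rfl
  obtain ⟨w, hw⟩ := hu.exists_right_inv
  have ha1 : rs 𝒮L.toQCAlg (X.basicOpen_le c) a =
      st 𝒮L.toQCAlg _ (rres X (X.basicOpen_le c) c) *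
        (jj 𝒮L.toQCAlg j _ (res L (X.basicOpen_le c) e)) ^ n := by
    rw [hc, map_mul, map_pow, rs_st, rs_jj]
  show b ∈ Ideal.span {rs 𝒮L.toQCAlg (X.basicOpen_le c) a}
  refine Ideal.mem_span_singleton'.mpr ⟨st 𝒮L.toQCAlg _ (c' * w), ?_⟩
  rw [ha1, hc', ← mul_assoc, ← map_mul, mul_assoc c' w, mul_comm w, hw, mul_one]

/-- if the degree-`n` part lies in the ideal generated by `a`, then `a` vanishes nowhere -/
theorem notMem_of_span (hj : RelProj.IsGrSymAlg L 𝒮L j) (V : X.Opens) (hV : IsAffineOpen V)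
    (y : Proj (𝒮L.deg V hV)) {n : ℕ} {a : 𝒮L.presheaf.obj (op V)}
    (h : ((𝒮L.deg V hV n : AddSubgroup (𝒮L.presheaf.obj (op V))) :
        Set (𝒮L.presheaf.obj (op V))) ⊆
      (Ideal.span {a} : Set (𝒮L.presheaf.obj (op V)))) :
    a ∉ y.asHomogeneousIdeal := by
  intro hay
  obtain ⟨g, hg, hgy⟩ := GrTwistGen.exists_deg_one_notMem (SymGenProj.isGenDegOne hj V hV) y
  apply hgy
  have h1 : g ^ n ∈ 𝒮L.deg V hV n := by
    simpa using SetLike.pow_mem_graded n hg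
  have h2 : g ^ n ∈ Ideal.span {a} := h h1
  have h3 : g ^ n ∈ y.asHomogeneousIdeal.toIdeal := by
    obtain ⟨b, hb⟩ := Ideal.mem_span_singleton'.mp h2
    rw [← hb]
    exact Ideal.mul_mem_left _ _ hay
  exact y.isPrime.mem_of_pow_mem n h3

end Groth.Agent.Lib.Helper3.RLPsiInv
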