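import Groth.Agent.Lib.Helper3.RelTwistQ

/-!
# `Proj(u)` everywhere defined, from `Proj(u)` on `G(u) = ⊤`
-/

set_option autoImplicit false
set_option linter.unusedSectionVars false
universe u
open CategoryTheory CategoryTheory.Limits AlgebraicGeometry TopologicalSpace Opposite
open Scheme.Modules
open scoped HomogeneousIdeal

namespace Groth.Agent.Lib.Helper3.RelTwistQ2

theorem isIso_ι_of_eq_top {X : Scheme.{u}} (U : X.Opens) (h : U = ⊤) : IsIso U.ι := by
  subst h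
  exact (inferInstance : IsIso (Scheme.topIso X).hom)

variable {Y X P P' : Scheme.{u}} {q : X ⟶ Y} {𝒮 : RelProj.QCGrAlg Y} {𝒮' : RelProj.QCGrAlg X}
  (u : RelProj.QGrHom q 𝒮 𝒮')
  {p : P ⟶ Y}
  {chart : ∀ (U : Y.Opens) (hU : IsAffineOpen U),
    ((p ⁻¹ᵁ U : P.Opens) : Scheme.{u}) ≅ Proj (𝒮.deg U hU)}
  {p' : P' ⟶ X}
  {chart' : ∀ (U : X.Opens) (hU : IsAffineOpen U),
    ((p' ⁻¹ᵁ U : P'.Opens) : Scheme.{u}) ≅ Proj (𝒮'.deg U hU)}

theorem isProjQMap_of_on (hdom : RelProj.domQ u p' chart' = ⊤)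
    (r : ((RelProj.domQ u p' chart' : P'.Opens) : Scheme.{u}) ⟶ P)
    (hr : RelProj.IsProjQMapOn u p chart p' chart' (RelProj.domQ u p' chart') r)
    [IsIso (RelProj.domQ u p' chart').ι] :
    RelProj.IsProjQMap u p chart p' chart' (inv (RelProj.domQ u p' chart').ι ≫ r) := by
  refine ⟨hdom, ?_⟩
  intro U hU U' hU' hle d hd f0 hf0
  have hW := RelProj.range_awayEmb_subset_domQ u p' chart' U hU U' hU' hle hd f0 hf0
  have e1 := hr U hU U' hU' hle d hd f0 hf0 hW
  have e2 : RelProj.awayEmb u p' chart' U hU U' hU' hle hd f0 hf0 ≫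
      inv (RelProj.domQ u p' chart').ι =
      IsOpenImmersion.lift (RelProj.domQ u p' chart').ι
        (RelProj.awayEmb u p' chart' U hU U' hU' hle hd f0 hf0) hW := by
    rw [IsIso.comp_inv_eq, IsOpenImmersion.lift_fac]
  rw [← e1, ← e2, Category.assoc]

end Groth.Agent.Lib.Helper3.RelTwistQ2
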