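import Groth.Agent.Lib.Helper3.RelTwistQ
import Groth.Agent.Lib.Helper3.RelTwistQ2

/-!
# The isomorphism `Proj(u)^* O_P(n) ≅ O_{P'}(n)` on sections of degree `n`
-/

set_option autoImplicit false
set_option linter.unusedSectionVars false
universe u
open CategoryTheory CategoryTheory.Limits AlgebraicGeometry TopologicalSpace Opposite
open Scheme.Modules
open scoped HomogeneousIdeal

namespace Groth.Agent.Lib.Helper3.RelTwistQ3

open QCSec InvGen GrModQC RelChart ProjQGlue HomogeneousLocalization RelTwistQ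

section single

variable {Y P : Scheme.{u}} {𝒮 : RelProj.QCGrAlg Y} {p : P ⟶ Y}
  {chart : ∀ (U : Y.Opens) (hU : IsAffineOpen U),
    ((p ⁻¹ᵁ U : P.Opens) : Scheme.{u}) ≅ Proj (𝒮.deg U hU)}
  {n : ℤ} {L : P.Modules}
  {lam : ∀ (U : Y.Opens) (hU : IsAffineOpen U),
    L ⟶ (Scheme.Modules.pushforward (RelProj.emb p chart U hU)).obj
      (GrTwist.twist (𝒮.deg U hU) n)}

theorem image_le_preimage (U : Y.Opens) (hU : IsAffineOpen U)
    (D : (Proj (𝒮.deg U hU)).Opens) : RelProj.emb p chart U hU ''ᵁ D ≤ p ⁻¹ᵁ U := by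
  rw [← ProjQMap.opensRange_emb p chart U hU]
  exact (RelProj.emb p chart U hU).image_le_opensRange _

/-- a section is determined by its reading in a chart -/
theorem reads_unique (hL : RelProj.IsRelTwist 𝒮 p chart n L lam) {U : Y.Opens}
    {hU : IsAffineOpen U} {W : P.Opens} (hW : W ≤ p ⁻¹ᵁ U) {s s' : Γ(L, W)}
    {a b : 𝒮.presheaf.obj (op U)} (h : Reads lam U hU W s a b) (h' : Reads lam U hU W s' a b) :
    s = s' := by
  apply (hL.bijective U hU W hW).1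
  change (lam U hU).app W s = (lam U hU).app W s'
  refine val_ext (U := RelProj.emb p chart U hU ⁻¹ᵁ W) (fun y => ?_)
  obtain ⟨hb, hv⟩ := h y.1 y.2
  obtain ⟨hb', hv'⟩ := h' y.1 y.2
  exact hv.trans hv'.symm

end single

section main

variable {Y X P P' W' : Scheme.{u}} {q : X ⟶ Y} {𝒮 : RelProj.QCGrAlg Y} {𝒮' : RelProj.QCGrAlg X}
  {u : RelProj.QGrHom q 𝒮 𝒮'}
  {p : P ⟶ Y}
  {chart : ∀ (U : Y.Opens) (hU : IsAffineOpen U),
    ((p ⁻¹ᵁ U : P.Opens) : Scheme.{u}) ≅ Proj (𝒮.deg U hU)}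
  {p' : P' ⟶ X}
  {chart' : ∀ (U : X.Opens) (hU : IsAffineOpen U),
    ((p' ⁻¹ᵁ U : P'.Opens) : Scheme.{u}) ≅ Proj (𝒮'.deg U hU)}
  {n : ℤ} {L : P.Modules}
  {lam : ∀ (U : Y.Opens) (hU : IsAffineOpen U),
    L ⟶ (Scheme.Modules.pushforward (RelProj.emb p chart U hU)).obj
      (GrTwist.twist (𝒮.deg U hU) n)}
  {L' : P'.Modules}
  {lam' : ∀ (U : X.Opens) (hU : IsAffineOpen U),
    L' ⟶ (Scheme.Modules.pushforward (RelProj.emb p' chart' U hU)).obj
      (GrTwist.twist (𝒮'.deg U hU) n)}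
  (hP : RelProj.IsRelProj 𝒮 p chart) (hP' : RelProj.IsRelProj 𝒮' p' chart')
  (hL : RelProj.IsRelTwist 𝒮 p chart n L lam)
  (hL' : RelProj.IsRelTwist 𝒮' p' chart' n L' lam')
  (w : W' ⟶ P') [IsOpenImmersion w] (r : W' ⟶ P)
  (hk : ∀ k : Idx u, Set.range (k.cB p' chart').base ⊆ Set.range w.base)
  (hr : ∀ k : Idx u, IsOpenImmersion.lift w (k.cB p' chart') (hk k) ≫ r = k.gA p chart)

variable (u) in
/-- the property of matching the standard generators -/
def MatchGen (τ : (Scheme.Modules.pullback r).obj L ≅ L'.restrict w) : Prop :=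
  ∀ (i : Idx1 u) (t : Γ(L, i.A p chart)) (t' : Γ(L', i.B p' chart')),
    Reads lam i.U i.hU _ t (i.f ^ n.toNat) (i.f ^ (-n).toNat) →
    Reads lam' i.U' i.hU' _ t' (i.ψ i.f ^ n.toNat) (i.ψ i.f ^ (-n).toNat) →
    ∀ (T : W'.Opens) (hTA : T ≤ r ⁻¹ᵁ i.A p chart) (hTB : w ''ᵁ T ≤ i.B p' chart'),
      τ.hom.app T (res _ hTA (PbBasic.pull r L _ t)) =
        (show Γ(L'.restrict w, T) from res L' hTB t')

include hP hP' hL hL' hr in
/-- `r^* O_P(n) ≅ O_{P'}(n)|_{W'}`, matching the standard generators -/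
theorem exists_iso_reads (hwd : ∀ x : W', w x ∈ RelProj.domQ u p' chart')
    (hgen : 𝒮.IsGenDegOne) :
    ∃ τ : (Scheme.Modules.pullback r).obj L ≅ L'.restrict w,
      MatchGen (lam := lam) (lam' := lam') u w r τ := by
  classical
  choose e he_gen he_reads using fun i : Idx1 u => exists_gen hL i.U i.hU i.f i.hf
  choose e' he'_gen he'_reads using fun i : Idx1 u =>
    exists_gen hL' i.U' i.hU' (i.ψ i.f) (Graded.map_mem i.ψ i.hf)
  let V : Idx1 u → W'.Opens := fun i => w ⁻¹ᵁ i.B p' chart'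
  have hVA : ∀ i : Idx1 u, V i ≤ r ⁻¹ᵁ i.A p chart := fun i x hx =>
    r_mem p chart p' chart' w r hk hr i.toIdx x hx
  have hWB : ∀ i : Idx1 u, w ''ᵁ V i ≤ i.B p' chart' := by
    rintro i _ ⟨x, hx, rfl⟩
    exact hx
  have hcov : iSup V = ⊤ := by
    rw [eq_top_iff]
    intro x _
    have hx' := hwd x
    obtain ⟨U, hU, hxU⟩ := ProjQMap.exists_affine_mem (q (p' (w x)))
    obtain ⟨U', hU', hxU', hle⟩ := RLPsi.exists_affine_pair q (p' (w x)) U hxU
    obtain ⟨y, hyx, d, hd, g, hg, hgy⟩ :=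
      RLPsi.loc_of_mem_domQ u hP' (w x) hx' U hU U' hU' hle hxU'
    obtain ⟨f, hf, hfy⟩ : ∃ f ∈ 𝒮.deg U hU 1,
        (u.appLE U U' hle).hom f ∉ y.asHomogeneousIdeal := by
      by_contra hcon
      simp only [not_exists, not_and, not_not] at hcon
      apply hgy
      have h1 : Ideal.span (𝒮.deg U hU 1 : Set (𝒮.presheaf.obj (op U))) ≤
          y.asHomogeneousIdeal.toIdeal.comap (u.appLE U U' hle).hom :=
        Ideal.span_le.mpr fun f hf => hcon f hf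
      exact h1 (GrTwistGen.irrelevant_le_span_one (hgen U hU)
        (HomogeneousIdeal.mem_irrelevant_of_mem _ hd hg))
    refine Opens.mem_iSup.mpr ⟨⟨U, hU, U', hU', hle, f, hf⟩, ?_⟩
    exact ⟨y, hfy, hyx⟩
  let s : ∀ i : Idx1 u, Γ((Scheme.Modules.pullback r).obj L, V i) := fun i =>
    res _ (hVA i) (PbBasic.pull r L _ (e i))
  have hs : ∀ i, IsGen _ (V i) (s i) := fun i =>
    (PbBasic.isGen_pull r (he_gen i)).mono (hVA i)
  let s' : ∀ i : Idx1 u, Γ(L'.restrict w, V i) := fun i => res L' (hWB i) (e' i)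
  have hs' : ∀ i, IsGen _ (V i) (s' i) := fun i =>
    (InvRestrict.isGen_restrict_iff w _ _ _).mpr ((he'_gen i).mono (hWB i))
  obtain ⟨φ, hφ⟩ := CocycleLocal.exists_iso_of_local V hcov s s' hs hs' (by
    intro i j x hxi hxj
    obtain ⟨T, hTi, hTj, hTAi, hTAj, γ₂, hxT, h1, h2⟩ :=
      local_rel hP hP' hL hL' w r hk hr n.toNat (-n).toNat i j (e i) (he_reads i) (e j)
        (he_reads j) (e' i) (he'_reads i) (e' j) (he'_reads j) x hxi hxj
    have hTVi : T ≤ V i := fun y hy => hTi ⟨y, hy, rfl⟩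
    have hTVj : T ≤ V j := fun y hy => hTj ⟨y, hy, rfl⟩
    refine ⟨T, hTVi, hTVj, (w.appIso T).hom γ₂, hxT, ?_, ?_⟩
    · change res _ hTVi (res _ (hVA i) (PbBasic.pull r L _ (e i))) =
        (w.appIso T).hom γ₂ • res _ hTVj (res _ (hVA j) (PbBasic.pull r L _ (e j)))
      rw [res_res, res_res]
      exact h1
    · rw [InvRestrict.smul_X_eq, InvRestrict.res_restrict, InvRestrict.res_restrict]
      change res L' _ (res L' (hWB i) (e' i)) = γ₂ • res L' _ (res L' (hWB j) (e' j))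
      rw [res_res, res_res]
      exact h2)
  refine ⟨φ, ?_⟩
  intro i t t' ht ht' T hTA hTB
  have hAU : i.A p chart ≤ p ⁻¹ᵁ i.U := image_le_preimage i.U i.hU _
  have hBU : i.B p' chart' ≤ p' ⁻¹ᵁ i.U' := image_le_preimage i.U' i.hU' _
  obtain rfl : t = e i := reads_unique hL hAU ht (he_reads i)
  obtain rfl : t' = e' i := reads_unique hL' hBU ht' (he'_reads i)
  have hTV : T ≤ V i := fun y hy => hTB ⟨y, hy, rfl⟩
  have h1 := hφ i T hTV
  have e1 : res _ hTV (s i) = res _ hTA (PbBasic.pull r L _ (e i)) := res_res _ _ _ _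
  rw [e1] at h1
  rw [h1]
  change res L' _ (res L' (hWB i) (e' i)) = res L' hTB (e' i)
  exact res_res L' _ _ _

include hP hP' hL hL' hr in
/-- the isomorphism matches the sections of degree `n` -/
theorem app_eq_of_reads (hn : 0 ≤ n) (hwd : ∀ x : W', w x ∈ RelProj.domQ u p' chart')
    (hgen : 𝒮.IsGenDegOne)
    (τ : (Scheme.Modules.pullback r).obj L ≅ L'.restrict w)
    (hτ : MatchGen (lam := lam) (lam' := lam') u w r τ)
    (U : Y.Opens) (hU : IsAffineOpen U) (U' : X.Opens) (hU' : IsAffineOpen U')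
    (hle : U' ≤ q ⁻¹ᵁ U) (a : 𝒮.presheaf.obj (op U)) (ha : a ∈ 𝒮.deg U hU n.toNat)
    (t : Γ(L, p ⁻¹ᵁ U)) (ht : Reads lam U hU _ t a 1)
    (t' : Γ(L', p' ⁻¹ᵁ U'))
    (ht' : Reads lam' U' hU' _ t' (u.gradedAt U hU U' hU' hle a) 1)
    (T : W'.Opens) (hT1 : T ≤ r ⁻¹ᵁ (p ⁻¹ᵁ U)) (hT2 : w ''ᵁ T ≤ p' ⁻¹ᵁ U') :
    τ.hom.app T (res _ hT1 (PbBasic.pull r L _ t)) =
      (show Γ(L'.restrict w, T) from res L' hT2 t') := by
  classical
  have key : ∀ x : T, ∃ (Tx : W'.Opens) (hTx : Tx ≤ T), x.1 ∈ Tx ∧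
      res (L'.restrict w) hTx (τ.hom.app T (res _ hT1 (PbBasic.pull r L _ t))) =
        res (L'.restrict w) hTx (show Γ(L'.restrict w, T) from res L' hT2 t') := by
    rintro ⟨x, hxT⟩
    have hxU' : p' (w x) ∈ U' := hT2 ⟨x, hxT, rfl⟩
    obtain ⟨y, hyx, d, hd, g, hg, hgy⟩ :=
      RLPsi.loc_of_mem_domQ u hP' (w x) (hwd x) U hU U' hU' hle hxU'
    obtain ⟨f, hf, hfy⟩ : ∃ f ∈ 𝒮.deg U hU 1,
        (u.appLE U U' hle).hom f ∉ y.asHomogeneousIdeal := by
      by_contra hcon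
      simp only [not_exists, not_and, not_not] at hcon
      apply hgy
      have h1 : Ideal.span (𝒮.deg U hU 1 : Set (𝒮.presheaf.obj (op U))) ≤
          y.asHomogeneousIdeal.toIdeal.comap (u.appLE U U' hle).hom :=
        Ideal.span_le.mpr fun f hf => hcon f hf
      exact h1 (GrTwistGen.irrelevant_le_span_one (hgen U hU)
        (HomogeneousIdeal.mem_irrelevant_of_mem _ hd hg))
    let i : Idx1 u := ⟨U, hU, U', hU', hle, f, hf⟩
    haveI := isOpenImmersion_lft p' chart' w hk i.toIdx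
    obtain ⟨e, he_gen, he_reads⟩ := exists_gen hL U hU f hf
    obtain ⟨e', he'_gen, he'_reads⟩ :=
      exists_gen hL' U' hU' (i.ψ f) (Graded.map_mem i.ψ hf)
    have hAU : i.A p chart ≤ p ⁻¹ᵁ U := image_le_preimage U hU _
    have hBU : i.B p' chart' ≤ p' ⁻¹ᵁ U' := image_le_preimage U' hU' _
    have hn0 : (-n).toNat = 0 := Int.toNat_eq_zero.mpr (by omega)
    have ha0 : a ∈ 𝒮.deg U hU (n.toNat • 1) := by rwa [smul_eq_mul, mul_one]
    obtain ⟨hTA, hTB, γ₂, h1, h2⟩ := core hL hL' w r hk hr i.toIdx n.toNat a ha0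
      (ht.res hAU) he_reads
      (by
        change a * (f ^ n.toNat * f ^ (-n).toNat) = a * f ^ n.toNat * 1
        rw [hn0]; ring)
      (ht'.res hBU) he'_reads
      (by
        change i.ψ a * (i.ψ f ^ n.toNat * i.ψ f ^ (-n).toNat) = i.ψ a * i.ψ f ^ n.toNat * 1
        rw [hn0]; ring)
    have hxTk : x ∈ lft p' chart' w hk i.toIdx ''ᵁ ⊤ := by
      have hmem : w x ∈ BB p' chart' i.toIdx := ⟨y, hfy, hyx⟩
      obtain ⟨z, hz⟩ := exists_lft_eq p' chart' w hk i.toIdx x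
        ((mem_BB_iff p' chart' i.toIdx _).mp hmem)
      exact ⟨z, trivial, hz⟩
    refine ⟨T ⊓ lft p' chart' w hk i.toIdx ''ᵁ ⊤, inf_le_left, ⟨hxT, hxTk⟩, ?_⟩
    have hT'k : T ⊓ lft p' chart' w hk i.toIdx ''ᵁ ⊤ ≤ lft p' chart' w hk i.toIdx ''ᵁ ⊤ :=
      inf_le_right
    have hT'T : T ⊓ lft p' chart' w hk i.toIdx ''ᵁ ⊤ ≤ T := inf_le_left
    have hT'A : T ⊓ lft p' chart' w hk i.toIdx ''ᵁ ⊤ ≤ r ⁻¹ᵁ i.A p chart := hT'k.trans hTA
    have hT'B : w ''ᵁ (T ⊓ lft p' chart' w hk i.toIdx ''ᵁ ⊤) ≤ i.B p' chart' :=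
      (w.image_mono hT'k).trans hTB
    have hτi := hτ i e e' he_reads he'_reads _ hT'A hT'B
    -- the left side
    have eL : res ((Scheme.Modules.pullback r).obj L) hT'T
        (res ((Scheme.Modules.pullback r).obj L) hT1 (PbBasic.pull r L _ t)) =
        rres W' hT'k ((w.appIso (lft p' chart' w hk i.toIdx ''ᵁ ⊤)).hom γ₂) •
          res ((Scheme.Modules.pullback r).obj L) hT'A (PbBasic.pull r L _ e) := by
      have e1 : res ((Scheme.Modules.pullback r).obj L) hT'T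
          (res ((Scheme.Modules.pullback r).obj L) hT1 (PbBasic.pull r L _ t)) =
          res ((Scheme.Modules.pullback r).obj L) hT'k
            (res ((Scheme.Modules.pullback r).obj L) hTA
              (PbBasic.pull r L _ (res L hAU t))) := by
        rw [← PbBasic.res_pull r L hAU t, res_res, res_res, res_res]
      rw [e1, h1, res_smul, res_res]
    -- the right side
    have eR : res L' (w.image_mono hT'T) (res L' hT2 t') =
        rres P' (w.image_mono hT'k) γ₂ • res L' hT'B e' := by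
      have e1 : res L' (w.image_mono hT'T) (res L' hT2 t') =
          res L' (w.image_mono hT'k) (res L' hTB (res L' hBU t')) := by
        rw [res_res, res_res, res_res]
      rw [e1, h2, res_smul, res_res]
    -- the functions
    have eF : rres W' hT'k ((w.appIso (lft p' chart' w hk i.toIdx ''ᵁ ⊤)).hom γ₂) =
        (w.appIso (T ⊓ lft p' chart' w hk i.toIdx ''ᵁ ⊤)).hom
          (rres P' (w.image_mono hT'k) γ₂) := by
      rw [Scheme.Hom.appIso_hom', Scheme.Hom.appIso_hom', ToProj.appLE_rres]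
      exact congrArg (fun φ => φ.hom γ₂) (Scheme.Hom.appLE_map w _ (homOfLE hT'k).op)
    rw [← QCExact.app_res', eL, Scheme.Modules.Hom.app_smul, hτi, eF, InvRestrict.smul_X_eq]
    exact eR.symm
  choose Tx hTx hxTx hTeq using key
  exact sec_eq_of_locally_eq (L'.restrict w) Tx T hTx
    (fun x hx => Opens.mem_iSup.mpr ⟨⟨x, hx⟩, hxTx ⟨x, hx⟩⟩) _ _ hTeq

end main

section cor

variable {Y X P P' : Scheme.{u}} {q : X ⟶ Y} {𝒮 : RelProj.QCGrAlg Y} {𝒮' : RelProj.QCGrAlg X}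
  {u : RelProj.QGrHom q 𝒮 𝒮'}
  {p : P ⟶ Y}
  {chart : ∀ (U : Y.Opens) (hU : IsAffineOpen U),
    ((p ⁻¹ᵁ U : P.Opens) : Scheme.{u}) ≅ Proj (𝒮.deg U hU)}
  {p' : P' ⟶ X}
  {chart' : ∀ (U : X.Opens) (hU : IsAffineOpen U),
    ((p' ⁻¹ᵁ U : P'.Opens) : Scheme.{u}) ≅ Proj (𝒮'.deg U hU)}
  {n : ℤ} {L : P.Modules}
  {lam : ∀ (U : Y.Opens) (hU : IsAffineOpen U),
    L ⟶ (Scheme.Modules.pushforward (RelProj.emb p chart U hU)).obj
      (GrTwist.twist (𝒮.deg U hU) n)}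
  {L' : P'.Modules}
  {lam' : ∀ (U : X.Opens) (hU : IsAffineOpen U),
    L' ⟶ (Scheme.Modules.pushforward (RelProj.emb p' chart' U hU)).obj
      (GrTwist.twist (𝒮'.deg U hU) n)}

/-- the case of an everywhere defined `Proj(u)`, `n ≥ 0`: the isomorphism
`h^* O_P(n) ≅ O_{P'}(n)` matches the sections defined by homogeneous elements of degree `n` -/
theorem exists_iso_of_isProjQMap (hn : 0 ≤ n) (hP : RelProj.IsRelProj 𝒮 p chart)
    (hP' : RelProj.IsRelProj 𝒮' p' chart')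
    (hL : RelProj.IsRelTwist 𝒮 p chart n L lam)
    (hL' : RelProj.IsRelTwist 𝒮' p' chart' n L' lam')
    (h : P' ⟶ P) (hh : RelProj.IsProjQMap u p chart p' chart' h) (hgen : 𝒮.IsGenDegOne) :
    ∃ τ : (Scheme.Modules.pullback h).obj L ≅ L',
      ∀ (U : Y.Opens) (hU : IsAffineOpen U) (U' : X.Opens) (hU' : IsAffineOpen U')
        (hle : U' ≤ q ⁻¹ᵁ U) (a : 𝒮.presheaf.obj (op U)) (_ : a ∈ 𝒮.deg U hU n.toNat)
        (t : Γ(L, p ⁻¹ᵁ U)) (_ : Reads lam U hU _ t a 1)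
        (t' : Γ(L', p' ⁻¹ᵁ U'))
        (_ : Reads lam' U' hU' _ t' (u.gradedAt U hU U' hU' hle a) 1)
        (T : P'.Opens) (hT1 : T ≤ h ⁻¹ᵁ (p ⁻¹ᵁ U)) (hT2 : T ≤ p' ⁻¹ᵁ U'),
        τ.hom.app T (res _ hT1 (PbBasic.pull h L _ t)) = res L' hT2 t' := by
  have hk : ∀ k : Idx u, Set.range (k.cB p' chart').base ⊆ Set.range (𝟙 P' : P' ⟶ P').base :=
    fun k x _ => ⟨x, rfl⟩
  have hlift : ∀ k : Idx u, IsOpenImmersion.lift (𝟙 P') (k.cB p' chart') (hk k) =
      k.cB p' chart' := fun k => by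
    have := IsOpenImmersion.lift_fac (𝟙 P') (k.cB p' chart') (hk k)
    rwa [Category.comp_id] at this
  have hr : ∀ k : Idx u, IsOpenImmersion.lift (𝟙 P') (k.cB p' chart') (hk k) ≫ h =
      k.gA p chart := fun k => by
    rw [hlift k]
    exact hh.2 k.U k.hU k.U' k.hU' k.hle k.d k.hd k.f k.hf
  have hwd : ∀ x : P', (𝟙 P' : P' ⟶ P') x ∈ RelProj.domQ u p' chart' := fun x => by
    rw [hh.1]; trivial
  obtain ⟨τ₀, hτ₀⟩ := exists_iso_reads hP hP' hL hL' (𝟙 P') h hk hr hwd hgen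
  refine ⟨τ₀ ≪≫ (Scheme.Modules.restrictFunctorId.app L'), ?_⟩
  intro U hU U' hU' hle a ha t ht t' ht' T hT1 hT2
  have hT2' : (𝟙 P' : P' ⟶ P') ''ᵁ T ≤ p' ⁻¹ᵁ U' := by
    rintro _ ⟨x, hx, rfl⟩
    exact hT2 hx
  have h1 := app_eq_of_reads hP hP' hL hL' (𝟙 P') h hk hr hn hwd hgen τ₀ hτ₀ U hU U' hU' hle a ha
    t ht t' ht' T hT1 hT2'
  change ((Scheme.Modules.restrictFunctorId.app L').hom).app T (τ₀.hom.app T _) = _
  rw [h1]
  have e1 : (eqToHom (show T = (𝟙 P' : P' ⟶ P') ''ᵁ T by simp)) =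
      homOfLE (le_of_eq (show T = (𝟙 P' : P' ⟶ P') ''ᵁ T by simp)) := Subsingleton.elim _ _
  change L'.presheaf.map (eqToHom (show T = (𝟙 P' : P' ⟶ P') ''ᵁ T by simp)).op
    (res L' hT2' t') = _
  rw [e1]
  exact res_res L' _ _ t'

end cor

end Groth.Agent.Lib.Helper3.RelTwistQ3
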