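import Groth.Agent.Lib.Helper3.SymInvProj
import Groth.Agent.Lib.Helper3.CanonPhi
import Groth.Agent.Lib.Helper3.PbEpi
import Groth.Agent.Lib.Helper3.InvCoh

/-!
# `O(1)` on the projective bundle of an invertible module
-/

set_option autoImplicit false
set_option linter.unusedSectionVars false
universe u
open CategoryTheory CategoryTheory.Limits AlgebraicGeometry TopologicalSpace Opposite
open Scheme.Modules
open scoped HomogeneousIdeal

namespace Groth.Agent.Lib.Helper3.SymInvTwist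

open QCSec InvGen SymGen SymInvProj PbBasic RelTwistLocGen

variable {X : Scheme.{u}} {L : X.Modules} [L.IsQuasicoherent]
  {𝒮 : RelProj.QCGrAlg X} {j : L ⟶ 𝒮.toModule}

theorem basicOpen_jj_eq_top (hj : RelProj.IsGrSymAlg L 𝒮 j) {U : X.Opens} (hU : IsAffineOpen U)
    {e : Γ(L, U)} (he : IsGenAt L U e) :
    Proj.basicOpen (𝒮.deg U hU) (jj 𝒮.toQCAlg j U e) = ⊤ := by
  have ht : jj 𝒮.toQCAlg j U e ∈ 𝒮.deg U hU 1 := hj.2 U hU e
  refine ProjRankOne.basicOpen_eq_top (𝒮.deg U hU) Γ(X, U) (𝒮.strZero U hU) (jj 𝒮.toQCAlg j U e) ht ?_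
  rw [eq_top_iff, ← G_eq_top 𝒮.toQCAlg j hj.1 hU]
  apply Subring.closure_le.mpr
  rintro x (⟨r, rfl⟩ | ⟨m, rfl⟩)
  · exact Subring.subset_closure (Or.inl ⟨r, rfl⟩)
  · have h1 : jj 𝒮.toQCAlg j U m = st 𝒮.toQCAlg U (coord he m) * jj 𝒮.toQCAlg j U e := by
      rw [← jj_smul, coord_smul]
    rw [h1]
    exact Subring.mul_mem _ (Subring.subset_closure (Or.inl ⟨coord he m, rfl⟩))
      (Subring.subset_closure (Or.inr rfl))

variable {P : Scheme.{u}} {p : P ⟶ X}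
  {chart : ∀ (U : X.Opens) (hU : IsAffineOpen U),
    ((p ⁻¹ᵁ U : P.Opens) : Scheme.{u}) ≅ Proj (𝒮.deg U hU)}
  {O1 : P.Modules}
  {lam : ∀ (U : X.Opens) (hU : IsAffineOpen U),
    O1 ⟶ (Scheme.Modules.pushforward (RelProj.emb p chart U hU)).obj
      (GrTwist.twist (𝒮.deg U hU) ((1 : ℕ) : ℤ))}

/-- for an invertible module `L`, the adjoint `p^*L ⟶ O(1)` of the canonical map is an isomorphism -/
theorem isIso_adjoint (hL : PicF.IsInvertible L) (hj : RelProj.IsGrSymAlg L 𝒮 j)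
    (hO1 : RelProj.IsRelTwist 𝒮 p chart ((1 : ℕ) : ℤ) O1 lam)
    (φ : L ⟶ (pushforward p).obj O1)
    (hφ : ∀ (U : X.Opens) (hU : IsAffineOpen U) (e : Γ(L, U)),
      (lam U hU).app (p ⁻¹ᵁ U) (φ.app U e) =
        fr U hU (jj 𝒮.toQCAlg j U e) (hj.2 U hU e) (p ⁻¹ᵁ U)) :
    IsIso ((Scheme.Modules.pullback p).map φ ≫ (pullbackPushforwardAdjunction p).counit.app O1) := by
  apply PbTensor.isIso_of_isGen_cover
  intro x
  obtain ⟨U, e, hU, hxU, hg⟩ := exists_affine_isGen hL (p x)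
  refine ⟨p ⁻¹ᵁ U, pull p L U e, hxU, isGen_pull p hg, ?_⟩
  have h1 : ((Scheme.Modules.pullback p).map φ ≫
      (pullbackPushforwardAdjunction p).counit.app O1).app (p ⁻¹ᵁ U) (pull p L U e) =
      (show Γ(O1, p ⁻¹ᵁ U) from φ.app U e) := by
    change ((pullbackPushforwardAdjunction p).counit.app O1).app (p ⁻¹ᵁ U)
      (((Scheme.Modules.pullback p).map φ).app (p ⁻¹ᵁ U) (pull p L U e)) = _
    rw [pull_app]
    exact CounitGG.counit_pull p O1 U _
  rw [h1]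
  have hle : p ⁻¹ᵁ U ≤ RelProj.emb p chart U hU ''ᵁ
      Proj.basicOpen (𝒮.deg U hU) (jj 𝒮.toQCAlg j U e) := by
    rw [basicOpen_jj_eq_top hj hU hg.self, Scheme.Hom.image_top_eq_opensRange,
      ProjQMap.opensRange_emb p chart U hU]
  have := isGen_res hO1 U hU _ (hj.2 U hU e) (show Γ(O1, p ⁻¹ᵁ U) from φ.app U e) (hφ U hU e)
    (p ⁻¹ᵁ U) hle
  rwa [res_self] at this

end Groth.Agent.Lib.Helper3.SymInvTwist
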