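import Groth.Agent.Lib.Helper3.SymBC
import Groth.Agent.Lib.Helper3.ProjBC2

/-!
# The canonical graded morphism `Sym(E) → Sym(ψ^*E)` over `ψ`, and `P(ψ^*E) = P(E) ×_Y Y'`
-/

set_option autoImplicit false
set_option linter.unusedSectionVars false
universe u
open CategoryTheory CategoryTheory.Limits AlgebraicGeometry TopologicalSpace Opposite
open Scheme.Modules
open AlgebraicGeometry.Scheme AlgebraicGeometry.Scheme.AffineZariskiSite

namespace Groth.Agent.Lib.Helper3.SymQHom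

open QCSec InvGen HomMk AffExt SymGen SymLocal SymBiprod PbBasic
  Groth.Agent.Lib.Helper17.UnitBC Groth.Agent.Lib.Helper17

section qhom

variable {S S' : Scheme.{u}} (g : S' ⟶ S) {A : RelSpec.QCAlg S} {B : RelSpec.QCAlg S'}

/-- a natural family of ring homomorphisms `A(U) → B(g⁻¹U)` on the affine opens `U` of `S`,
compatible with the structure maps, extends to a `g`-morphism of quasi-coherent algebras -/
theorem exists_qHom_of_affine
    (D : ∀ U : S.AffineZariskiSite, A.presheaf.obj (op U.1) →+* B.presheaf.obj (op (g ⁻¹ᵁ U.1)))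
    (hstr : ∀ (U : S.AffineZariskiSite) (a : Γ(S, U.1)),
      D U ((A.str.app (op U.1)).hom a) = (B.str.app (op (g ⁻¹ᵁ U.1))).hom ((g.app U.1).hom a))
    (hres : ∀ {U V : S.AffineZariskiSite} (i : V ⟶ U) (s : A.presheaf.obj (op U.1)),
      (B.presheaf.map (homOfLE (g.preimage_mono (toOpens_mono i.le))).op).hom (D U s) =
        D V ((A.presheaf.map (homOfLE (toOpens_mono i.le)).op).hom s)) :
    ∃ u : RelSpec.QHom g A B, ∀ (U : S.AffineZariskiSite) (s : A.presheaf.obj (op U.1)),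
      (u.app U.1).hom s = D U s := by
  let PB : TopCat.Presheaf CommRingCat.{u} S.carrier := (Opens.map g.base).op ⋙ B.presheaf
  have hPB : PB.IsSheaf := TopCat.Sheaf.pushforward_sheaf_of_sheaf g.base B.isSheaf
  let D₀ : (toOpensFunctor S).op ⋙ A.presheaf ⟶ (toOpensFunctor S).op ⋙ PB :=
    { app := fun U => CommRingCat.ofHom (D U.unop)
      naturality := fun U V i => by
        ext s
        exact (hres i.unop s).symm }
  let Φ : A.presheaf ⟶ PB :=
    Functor.IsCoverDense.restrictHomEquivHom (G := toOpensFunctor S)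
      (K := Opens.grothendieckTopology S) (ℱ := A.presheaf)
      (ℱ' := (⟨PB, hPB⟩ : TopCat.Sheaf CommRingCat.{u} S.carrier)) D₀
  have hΦ : (toOpensFunctor S).op.whiskerLeft Φ = D₀ :=
    (Functor.IsCoverDense.restrictHomEquivHom (G := toOpensFunctor S)
      (K := Opens.grothendieckTopology S) (ℱ := A.presheaf)
      (ℱ' := (⟨PB, hPB⟩ : TopCat.Sheaf CommRingCat.{u} S.carrier))).symm_apply_apply _
  have hΦU : ∀ (U : S.AffineZariskiSite) (s : A.presheaf.obj (op U.1)),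
      (Φ.app (op U.1)).hom s = D U s := by
    intro U s
    exact congr($(NatTrans.congr_app hΦ (op U)) s)
  have hnat : ∀ {W V : S.Opens} (h : V ≤ W) (s : A.presheaf.obj (op W)),
      (B.presheaf.map (homOfLE (g.preimage_mono h)).op).hom ((Φ.app (op W)).hom s) =
        (Φ.app (op V)).hom ((A.presheaf.map (homOfLE h).op).hom s) := by
    intro W V h s
    exact congr($(Φ.naturality (homOfLE h).op) s).symm
  refine ⟨{ app := fun U => Φ.app (op U), naturality := ?_, str_app := ?_ }, fun U s => hΦU U s⟩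
  · intro U V i
    exact (Φ.naturality (homOfLE i).op).symm
  · intro U
    ext a
    change (Φ.app (op U)).hom ((A.str.app (op U)).hom a) =
      (B.str.app (op (g ⁻¹ᵁ U))).hom ((g.app U).hom a)
    refine sec_eq_of_locally_eq B.toModule
      (fun V : {V : S.Opens // IsAffineOpen V ∧ V ≤ U} => g ⁻¹ᵁ V.1) (g ⁻¹ᵁ U)
      (fun V => g.preimage_mono V.2.2) ?_ _ _ (fun V => ?_)
    · intro y hy
      obtain ⟨V, hV, hyV, hVU⟩ := exists_affine_nbhd U (g y) hy
      exact Opens.mem_iSup.mpr ⟨⟨V, hV, hVU⟩, hyV⟩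
    · obtain ⟨V, hV, hVU⟩ := V
      change (B.presheaf.map (homOfLE (g.preimage_mono hVU)).op).hom
          ((Φ.app (op U)).hom ((A.str.app (op U)).hom a)) =
        (B.presheaf.map (homOfLE (g.preimage_mono hVU)).op).hom
          ((B.str.app (op (g ⁻¹ᵁ U))).hom ((g.app U).hom a))
      have h1 : (A.presheaf.map (homOfLE hVU).op).hom ((A.str.app (op U)).hom a) =
          (A.str.app (op V)).hom (S.presheaf.map (homOfLE hVU).op a) :=
        congr($(A.str.naturality (homOfLE hVU).op) a).symm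
      have h2 : (B.presheaf.map (homOfLE (g.preimage_mono hVU)).op).hom
            ((B.str.app (op (g ⁻¹ᵁ U))).hom ((g.app U).hom a)) =
          (B.str.app (op (g ⁻¹ᵁ V))).hom
            (S'.presheaf.map (homOfLE (g.preimage_mono hVU)).op ((g.app U).hom a)) :=
        congr($(B.str.naturality (homOfLE (g.preimage_mono hVU)).op) ((g.app U).hom a)).symm
      have h3 : S'.presheaf.map (homOfLE (g.preimage_mono hVU)).op ((g.app U).hom a) =
          (g.app V).hom (S.presheaf.map (homOfLE hVU).op a) :=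
        (congr($(g.naturality (homOfLE hVU).op) a)).symm
      rw [hnat hVU, h1, h2, h3, hΦU ⟨V, hV⟩, hstr ⟨V, hV⟩]

end qhom

section alg

/-- a ring homomorphism between graded rings which respects the degrees of a set of homogeneous
ring generators is graded -/
theorem map_mem_of_closure {A B : Type*} [CommRing A] [CommRing B]
    (𝒜 : ℕ → AddSubgroup A) (ℬ : ℕ → AddSubgroup B) [GradedRing 𝒜] [GradedRing ℬ]
    (φ : A →+* B) (s : Set A) (hs : Subring.closure s = ⊤)
    (hdeg : ∀ x ∈ s, ∃ m, x ∈ 𝒜 m ∧ φ x ∈ ℬ m) {n : ℕ} {x : A} (hx : x ∈ 𝒜 n) :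
    φ x ∈ ℬ n := by
  classical
  have hom : ∀ {m : ℕ} {y : A}, y ∈ 𝒜 m → φ y ∈ ℬ m →
      ∀ k, φ ((DirectSum.decompose 𝒜 y k : 𝒜 k) : A) ∈ ℬ k := by
    intro m y hy hφ k
    by_cases hk : m = k
    · subst hk
      rw [DirectSum.decompose_of_mem_same 𝒜 hy]
      exact hφ
    · rw [DirectSum.decompose_of_mem_ne 𝒜 hy hk, map_zero]
      exact zero_mem _
  have key : ∀ y : A, ∀ k, φ ((DirectSum.decompose 𝒜 y k : 𝒜 k) : A) ∈ ℬ k := by
    intro y
    have hy : y ∈ Subring.closure s := by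
      rw [hs]
      trivial
    refine Subring.closure_induction
      (p := fun y _ => ∀ k, φ ((DirectSum.decompose 𝒜 y k : 𝒜 k) : A) ∈ ℬ k)
      ?_ ?_ ?_ ?_ ?_ ?_ hy
    · intro y hy
      obtain ⟨m, h1, h2⟩ := hdeg y hy
      exact hom h1 h2
    · intro k
      rw [DirectSum.decompose_zero, DirectSum.zero_apply, ZeroMemClass.coe_zero, map_zero]
      exact zero_mem _
    · exact hom SetLike.GradedOne.one_mem (by rw [map_one]; exact SetLike.GradedOne.one_mem)
    · intro a b _ _ ha hb k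
      rw [DirectSum.decompose_add, DirectSum.add_apply, AddMemClass.coe_add, map_add]
      exact add_mem (ha k) (hb k)
    · intro a _ ha k
      have h0 : -a = 0 - a := (zero_sub a).symm
      rw [h0, DirectSum.decompose_sub, DirectSum.sub_apply, AddSubgroupClass.coe_sub, map_sub,
        DirectSum.decompose_zero, DirectSum.zero_apply, ZeroMemClass.coe_zero, map_zero, zero_sub]
      exact neg_mem (ha k)
    · intro a b _ _ ha hb k
      have h1 : a * b = ∑ i ∈ (DirectSum.decompose 𝒜 a).support,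
          ((DirectSum.decompose 𝒜 a i : 𝒜 i) : A) * b := by
        rw [← Finset.sum_mul, DirectSum.sum_support_decompose]
      rw [h1, DirectSum.decompose_sum, DFinsupp.finsetSum_apply, AddSubmonoidClass.coe_finsetSum,
        map_sum]
      refine sum_mem (fun i _ => ?_)
      by_cases h : i ≤ k
      · rw [DirectSum.coe_decompose_mul_of_left_mem_of_le 𝒜 (SetLike.coe_mem _) h, map_mul]
        have := SetLike.mul_mem_graded (ha i) (hb (k - i))
        rwa [Nat.add_sub_cancel' h] at this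
      · rw [DirectSum.coe_decompose_mul_of_left_mem_of_not_le 𝒜 (SetLike.coe_mem _) h, map_zero]
        exact zero_mem _
  have := key x n
  rwa [DirectSum.decompose_of_mem_same 𝒜 hx] at this

end alg

section sym

variable {Y Y' : Scheme.{u}} (ψ : Y' ⟶ Y) {E : Y.Modules} [E.IsQuasicoherent]
  {A : RelSpec.QCAlg Y} {j : E ⟶ A.toModule} (hA : RelSpec.IsSymAlg E A j)
  {B : RelSpec.QCAlg Y'} (j' : (Scheme.Modules.pullback ψ).obj E ⟶ B.toModule)

/-- the additive map `e ↦ j'(ψ^* e)` -/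
noncomputable def fU (U : Y.Opens) : Γ(E, U) →+ B.presheaf.obj (op (ψ ⁻¹ᵁ U)) :=
  AddMonoidHom.mk' (fun e => jj B j' (ψ ⁻¹ᵁ U) (pull ψ E U e)) (fun x y => by
    have h : pull ψ E U (x + y) = pull ψ E U x + pull ψ E U y := by
      unfold pull
      exact map_add _ x y
    rw [h, jj_add])

theorem fU_apply (U : Y.Opens) (e : Γ(E, U)) :
    fU ψ j' U e = jj B j' (ψ ⁻¹ᵁ U) (pull ψ E U e) := rfl

theorem fU_smul (U : Y.Opens) (a : Γ(Y, U)) (e : Γ(E, U)) :
    fU ψ j' U (a • e) =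
      ((B.str.app (op (ψ ⁻¹ᵁ U))).hom.comp (ψ.app U).hom) a * fU ψ j' U e := by
  change jj B j' _ (pull ψ E U (a • e)) =
    st B _ ((ψ.app U).hom a) * jj B j' _ (pull ψ E U e)
  rw [pull_smul, jj_smul]

include hA in
/-- the canonical `ψ`-morphism `Sym(E) → Sym(ψ^*E)` -/
theorem exists_symQHom : ∃ u : RelSpec.QHom ψ A B, ∀ (U : Y.Opens) (x : Γ(E, U)),
    (u.app U).hom (j.app U x) =
      j'.app (ψ ⁻¹ᵁ U) (((Scheme.Modules.pullbackPushforwardAdjunction ψ).unit.app E).app U x) := by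
  have ex := fun U : Y.AffineZariskiSite => existsUnique_lift hA U
    ((B.str.app (op (ψ ⁻¹ᵁ U.1))).hom.comp (ψ.app U.1).hom) (fU ψ j' U.1)
    (fun a e => fU_smul ψ j' U.1 a e)
  choose D hD using fun U => (ex U).exists
  have hres : ∀ {U V : Y.AffineZariskiSite} (i : V ⟶ U) (s : A.presheaf.obj (op U.1)),
      (B.presheaf.map (homOfLE (ψ.preimage_mono (toOpens_mono i.le))).op).hom (D U s) =
        D V ((A.presheaf.map (homOfLE (toOpens_mono i.le)).op).hom s) := by
    intro U V i s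
    have hVU : V.1 ≤ U.1 := toOpens_mono i.le
    let R1 : A.presheaf.obj (op U.1) →+* B.presheaf.obj (op (ψ ⁻¹ᵁ V.1)) :=
      (rs B (ψ.preimage_mono hVU)).comp (D U)
    let R2 : A.presheaf.obj (op U.1) →+* B.presheaf.obj (op (ψ ⁻¹ᵁ V.1)) :=
      (D V).comp (rs A hVU)
    obtain ⟨g₀, -, huniq⟩ := existsUnique_lift hA U (R2.comp (st A U.1)) (comp_jj j U.1 R2)
      (fun a e => comp_jj_smul j U.1 R2 a e)
    have e1 : R1 = g₀ := by
      apply huniq
      refine ⟨fun a => ?_, fun e => ?_⟩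
      · change rs B (ψ.preimage_mono hVU) (D U ((A.str.app (op U.1)).hom a)) =
          D V (rs A hVU (st A U.1 a))
        rw [(hD U).1 a, rs_st A hVU, (hD V).1]
        change rs B (ψ.preimage_mono hVU) (st B _ ((ψ.app U.1).hom a)) =
          st B _ ((ψ.app V.1).hom (rres Y hVU a))
        rw [rs_st B]
        congr 1
        exact (congr($(ψ.naturality (homOfLE hVU).op) a)).symm
      · change rs B (ψ.preimage_mono hVU) (D U (j.app U.1 e)) =
          D V (rs A hVU (jj A j U.1 e))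
        rw [(hD U).2 e, rs_jj A j hVU, (hD V).2]
        change rs B (ψ.preimage_mono hVU) (jj B j' _ (pull ψ E U.1 e)) =
          jj B j' _ (pull ψ E V.1 (res E hVU e))
        rw [rs_jj B j', res_pull ψ E hVU]
    have e2 : R2 = g₀ := huniq _ ⟨fun a => rfl, fun e => rfl⟩
    exact congr($(e1.trans e2.symm) s)
  obtain ⟨u, hu⟩ := exists_qHom_of_affine ψ D (fun U a => (hD U).1 a) hres
  refine ⟨u, ?_⟩
  intro U x
  refine sec_eq_of_locally_eq B.toModule
    (fun V : {V : Y.Opens // IsAffineOpen V ∧ V ≤ U} => ψ ⁻¹ᵁ V.1) (ψ ⁻¹ᵁ U)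
    (fun V => ψ.preimage_mono V.2.2) ?_ _ _ (fun V => ?_)
  · intro y hy
    obtain ⟨V, hV, hyV, hVU⟩ := exists_affine_nbhd U (ψ y) hy
    exact Opens.mem_iSup.mpr ⟨⟨V, hV, hVU⟩, hyV⟩
  · obtain ⟨V, hV, hVU⟩ := V
    change rs B (ψ.preimage_mono hVU) ((u.app U).hom (jj A j U x)) =
      rs B (ψ.preimage_mono hVU) (jj B j' (ψ ⁻¹ᵁ U) (pull ψ E U x))
    have h1 : rs B (ψ.preimage_mono hVU) ((u.app U).hom (jj A j U x)) =
        (u.app V).hom (rs A hVU (jj A j U x)) := congr($(u.naturality hVU) (jj A j U x))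
    rw [h1, rs_jj A j hVU, rs_jj B j', res_pull ψ E hVU]
    exact (hu ⟨V, hV⟩ _).trans ((hD ⟨V, hV⟩).2 _)

end sym

section graded

variable {Y Y' : Scheme.{u}} (ψ : Y' ⟶ Y) {E : Y.Modules} [E.IsQuasicoherent]
  {𝒮 : RelProj.QCGrAlg Y} {j : E ⟶ 𝒮.toModule} (hj : RelProj.IsGrSymAlg E 𝒮 j)
  {𝒮' : RelProj.QCGrAlg Y'} {j' : (Scheme.Modules.pullback ψ).obj E ⟶ 𝒮'.toModule}
  (hj' : RelProj.IsGrSymAlg ((Scheme.Modules.pullback ψ).obj E) 𝒮' j')

include hj hj' in
/-- the canonical graded `ψ`-morphism `Sym(E) → Sym(ψ^*E)` -/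
theorem exists_symQGrHom : ∃ u : RelProj.QGrHom ψ 𝒮 𝒮', ∀ (U : Y.Opens) (x : Γ(E, U)),
    (u.toQHom.app U).hom (j.app U x) =
      j'.app (ψ ⁻¹ᵁ U) (((Scheme.Modules.pullbackPushforwardAdjunction ψ).unit.app E).app U x) := by
  obtain ⟨u, hu⟩ := exists_symQHom ψ hj.1 j'
  refine ⟨⟨u, ?_⟩, hu⟩
  intro U hU U' hU' hle d x hx
  have := map_mem_of_closure (𝒮.deg U hU) (𝒮'.deg U' hU') (u.appLE U U' hle).hom
    (Set.range (st 𝒮.toQCAlg U) ∪ Set.range (jj 𝒮.toQCAlg j U)) (G_eq_top 𝒮.toQCAlg j hj.1 hU) ?_ hx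
  · exact this
  rintro y (⟨a, rfl⟩ | ⟨e, rfl⟩)
  · refine ⟨0, 𝒮.str_mem U hU a, ?_⟩
    have h : (u.appLE U U' hle).hom ((𝒮.str.app (op U)).hom a) =
        (𝒮'.str.app (op U')).hom ((ψ.appLE U U' hle).hom a) :=
      congr($(u.str_appLE U U' hle) a)
    change (u.appLE U U' hle).hom ((𝒮.str.app (op U)).hom a) ∈ _
    rw [h]
    exact 𝒮'.str_mem U' hU' _
  · refine ⟨1, hj.2 U hU e, ?_⟩
    rw [SymBC.appLE_jj ψ u hu]
    exact hj'.2 U' hU' _

include hj hj' in
/-- **`P(ψ^*E) = P(E) ×_Y Y'`** -/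
theorem exists_isPullback_projBundle {P P' : Scheme.{u}} (p : P ⟶ Y)
    (chart : ∀ (U : Y.Opens) (hU : IsAffineOpen U),
      ((p ⁻¹ᵁ U : P.Opens) : Scheme.{u}) ≅ Proj (𝒮.deg U hU))
    (hP : RelProj.IsRelProj 𝒮 p chart) (p' : P' ⟶ Y')
    (chart' : ∀ (U' : Y'.Opens) (hU' : IsAffineOpen U'),
      ((p' ⁻¹ᵁ U' : P'.Opens) : Scheme.{u}) ≅ Proj (𝒮'.deg U' hU'))
    (hP' : RelProj.IsRelProj 𝒮' p' chart') :
    ∃ g : P' ⟶ P, IsPullback g p' p ψ := by
  obtain ⟨u, hu⟩ := exists_symQGrHom ψ hj hj'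
  have hbc : RelSpec.IsQBaseChange u.toQHom := SymBC.isQBaseChange ψ hj.1 hj'.1 u.toQHom hu
  obtain ⟨h, hh⟩ := ProjBC.exists_isProjQMap ψ u hbc hP hP'
  exact ⟨h, ProjBC.isPullback_of_isProjQMap ψ u hbc hP hP' h hh⟩

end graded

end Groth.Agent.Lib.Helper3.SymQHom
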