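import Groth.Agent.Lib.Helper3.PullLemmas2
import Groth.Agent.Lib.Helper3.RelTwistQ3
import Groth.Agent.Lib.Helper3.SymQHom
import Groth.Agent.Lib.Helper3.RLPsiInv
import Groth.Agent.Lib.Helper3.CanonPhi
import Groth.Agent.Lib.Helper3.SymInvTwist
import Groth.Agent.Lib.Helper3.SymGr
import Groth.Agent.Lib.Helper3.RelProjExist
import Groth.Agent.Lib.Helper3.PbEpi

/-!
# The universal property of the projective bundle `P(E)`: existence
-/

set_option autoImplicit false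
set_option linter.unusedSectionVars false
universe u
open CategoryTheory CategoryTheory.Limits AlgebraicGeometry TopologicalSpace Opposite
open Scheme.Modules
open scoped HomogeneousIdeal

namespace Groth.Agent.Lib.Helper3.ProjBundleUP

open QCSec InvGen GrModQC RelChart SymGen PbBasic PullLemmas
  Groth.Agent.Lib.Helper17.UnitBC Groth.Agent.Lib.Helper17

section alg

variable {R S : Type*} [CommRing R] [CommRing S] {φ : R →+* S} {M N : Type*} [AddCommGroup M]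
  [Module R M] [AddCommGroup N] [Module S N] {β : M → N}

theorem isBCHom_induction (h : IsBCHom φ β) (C : N → Prop) (h0 : C 0) (hβ : ∀ m, C (β m))
    (hsmul : ∀ (c : S) (n : N), C n → C (c • n))
    (hadd : ∀ n₁ n₂ : N, C n₁ → C n₂ → C (n₁ + n₂)) (n : N) : C n := by
  letI := φ.toAlgebra
  letI : Module R N := Module.compHom N φ
  haveI : IsScalarTower R S N := IsScalarTower.of_algebraMap_smul fun _ _ => rfl
  obtain ⟨lin, hlin, hbc⟩ := h
  refine hbc.inductionOn n C h0 ?_ hsmul hadd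
  intro m
  rw [hlin]
  exact hβ m

end alg

section gen

variable {X Y : Scheme.{u}}

/-- an epimorphism from `g^*E` onto an invertible module: locally some pulled back section
generates -/
theorem exists_gen_of_epi (g : X ⟶ Y) (E : Y.Modules) [E.IsQuasicoherent] {L : X.Modules}
    (hL : PicF.IsInvertible L) (s : (Scheme.Modules.pullback g).obj E ⟶ L) [Epi s] (x : X)
    (U : Y.Opens) (hU : IsAffineOpen U) (hxU : g x ∈ U) :
    ∃ (V : X.Opens) (hV : IsAffineOpen V) (hle : V ≤ g ⁻¹ᵁ U) (e : Γ(E, U)), x ∈ V ∧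
      IsGen L V (s.app V (unitSec g E U V hle e)) := by
  haveI : L.IsQuasicoherent := InvCoh.isQuasicoherent_of_isInvertible hL
  haveI : ((Scheme.Modules.pullback g).obj E).IsQuasicoherent :=
    PbStalk.isQuasicoherent_pullback g E
  obtain ⟨V, ℓ, hV, hxV, hVU, hg⟩ := exists_affine_isGen_le hL x (g ⁻¹ᵁ U) hxU
  have hsurj : Function.Surjective (s.app V) :=
    (QCExact.epi_iff_surjective_on_affines s).mp inferInstance V hV
  have hbc := isBCHom_unitSec g E hU hV hVU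
  let S : Set Γ(X, V) := Set.range (fun e : Γ(E, U) =>
    SymInvProj.coord hg.self (s.app V (unitSec g E U V hVU e)))
  have hall : ∀ t : Γ((Scheme.Modules.pullback g).obj E, V),
      SymInvProj.coord hg.self (s.app V t) ∈ Ideal.span S := by
    intro t
    refine isBCHom_induction hbc
      (fun t => SymInvProj.coord hg.self (s.app V t) ∈ Ideal.span S) ?_ ?_ ?_ ?_ t
    · change SymInvProj.coord hg.self (s.app V 0) ∈ Ideal.span S
      rw [QCExact.app_zero, map_zero]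
      exact zero_mem _
    · intro m
      exact Ideal.subset_span ⟨m, rfl⟩
    · intro a n hn
      change SymInvProj.coord hg.self (s.app V (a • n)) ∈ Ideal.span S
      rw [Scheme.Modules.Hom.app_smul, LinearEquiv.map_smul, smul_eq_mul]
      exact Ideal.mul_mem_left _ _ hn
    · intro a b ha hb
      change SymInvProj.coord hg.self (s.app V (a + b)) ∈ Ideal.span S
      rw [QCExact.app_add, map_add]
      exact add_mem ha hb
  have hspan : Ideal.span S = ⊤ := by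
    rw [Ideal.eq_top_iff_one]
    obtain ⟨t, ht⟩ := hsurj ℓ
    have := hall t
    rwa [ht, SymInvProj.coord_self] at this
  obtain ⟨a, haS, hax⟩ : ∃ a ∈ S, x ∈ X.basicOpen a := by
    by_contra hcon
    push Not at hcon
    have h1 : Ideal.span S ≤ (IsLocalRing.maximalIdeal (X.presheaf.stalk x)).comap
        (X.presheaf.germ V x hxV).hom := by
      apply Ideal.span_le.mpr
      intro a ha
      have h2 := hcon a ha
      rw [Scheme.mem_basicOpen _ _ x hxV] at h2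
      exact (IsLocalRing.mem_maximalIdeal _).mpr h2
    rw [hspan] at h1
    have h3 : (X.presheaf.germ V x hxV).hom 1 ∈
        IsLocalRing.maximalIdeal (X.presheaf.stalk x) := h1 trivial
    rw [map_one] at h3
    exact (IsLocalRing.maximalIdeal.isMaximal _).ne_top ((Ideal.eq_top_iff_one _).mpr h3)
  obtain ⟨e, rfl⟩ := haS
  set a := SymInvProj.coord hg.self (s.app V (unitSec g E U V hVU e)) with ha
  refine ⟨X.basicOpen a, hV.basicOpen a, (X.basicOpen_le a).trans hVU, e, hax, ?_⟩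
  have h1 : s.app V (unitSec g E U V hVU e) = a • ℓ := (SymInvProj.coord_smul hg.self _).symm
  have h2 : s.app (X.basicOpen a)
      (unitSec g E U (X.basicOpen a) ((X.basicOpen_le a).trans hVU) e) =
      rres X (X.basicOpen_le a) a • res L (X.basicOpen_le a) ℓ := by
    have h3 : unitSec g E U (X.basicOpen a) ((X.basicOpen_le a).trans hVU) e =
        res _ (X.basicOpen_le a) (unitSec g E U V hVU e) := (res_res _ _ _ _).symm
    rw [h3, QCExact.app_res', h1, res_smul]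
  rw [h2]
  exact (hg.mono (X.basicOpen_le a)).smul_unit
    (TrivFin.isUnit_rres_of_le_basicOpen a (X.basicOpen_le a) le_rfl)

end gen

section qgr

variable {Y Y' : Scheme.{u}} (ψ : Y' ⟶ Y) {E : Y.Modules} [E.IsQuasicoherent]
  {𝒮 : RelProj.QCGrAlg Y} {j : E ⟶ 𝒮.toModule} (hj : RelProj.IsGrSymAlg E 𝒮 j)
  {𝒮' : RelProj.QCGrAlg Y'} (j' : (Scheme.Modules.pullback ψ).obj E ⟶ 𝒮'.toModule)
  (hj'1 : ∀ (U' : Y'.Opens) (hU' : IsAffineOpen U')
    (x : Γ((Scheme.Modules.pullback ψ).obj E, U')), j'.app U' x ∈ 𝒮'.deg U' hU' 1)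

include hj hj'1 in
/-- the graded `ψ`-morphism `Sym(E) → 𝒮'` defined by a map `ψ^*E → 𝒮'_1` -/
theorem exists_qGrHom : ∃ u : RelProj.QGrHom ψ 𝒮 𝒮', ∀ (U : Y.Opens) (x : Γ(E, U)),
    (u.toQHom.app U).hom (j.app U x) =
      j'.app (ψ ⁻¹ᵁ U) (((Scheme.Modules.pullbackPushforwardAdjunction ψ).unit.app E).app U x) := by
  obtain ⟨u, hu⟩ := SymQHom.exists_symQHom ψ hj.1 j'
  refine ⟨⟨u, ?_⟩, hu⟩
  intro U hU U' hU' hle d x hx
  have := SymQHom.map_mem_of_closure (𝒮.deg U hU) (𝒮'.deg U' hU') (u.appLE U U' hle).hom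
    (Set.range (st 𝒮.toQCAlg U) ∪ Set.range (jj 𝒮.toQCAlg j U))
    (G_eq_top 𝒮.toQCAlg j hj.1 hU) ?_ hx
  · exact this
  rintro y (⟨a, rfl⟩ | ⟨e, rfl⟩)
  · refine ⟨0, 𝒮.str_mem U hU a, ?_⟩
    have h : (u.appLE U U' hle).hom ((𝒮.str.app (op U)).hom a) =
        (𝒮'.str.app (op U')).hom ((ψ.appLE U U' hle).hom a) :=
      congr($(u.str_appLE U U' hle) a)
    change (u.appLE U U' hle).hom ((𝒮.str.app (op U)).hom a) ∈ _
    rw [h]
    exact 𝒮'.str_mem U' hU' _
  · refine ⟨1, hj.2 U hU e, ?_⟩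
    rw [SymBC.appLE_jj ψ u hu]
    exact hj'1 U' hU' _

end qgr

section reads

variable {Y P : Scheme.{u}} {𝒮 : RelProj.QCGrAlg Y} {p : P ⟶ Y}
  {chart : ∀ (U : Y.Opens) (hU : IsAffineOpen U),
    ((p ⁻¹ᵁ U : P.Opens) : Scheme.{u}) ≅ Proj (𝒮.deg U hU)}

theorem reads_of_val {n : ℤ} {L : P.Modules}
    {lam : ∀ (U : Y.Opens) (hU : IsAffineOpen U),
      L ⟶ (Scheme.Modules.pushforward (RelProj.emb p chart U hU)).obj
        (GrTwist.twist (𝒮.deg U hU) n)}
    (U : Y.Opens) (hU : IsAffineOpen U) (W : P.Opens) (s : Γ(L, W))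
    (a : 𝒮.presheaf.obj (op U))
    (h : ∀ y : ↥(RelProj.emb p chart U hU ⁻¹ᵁ W),
      GrTwist.val (V := RelProj.emb p chart U hU ⁻¹ᵁ W) ((lam U hU).app W s) y =
        algebraMap (𝒮.presheaf.obj (op U)) (GrTwist.Loc (𝒮.deg U hU) y.1) a) :
    Reads lam U hU W s a 1 := by
  intro y hy
  refine ⟨RelTwistLocGen.one_notMem y, ?_⟩
  rw [h ⟨y, hy⟩]
  exact (Localization.mk_one_eq_algebraMap a).symm

theorem reads_of_fr {d : ℕ} {L : P.Modules}
    {lam : ∀ (U : Y.Opens) (hU : IsAffineOpen U),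
      L ⟶ (Scheme.Modules.pushforward (RelProj.emb p chart U hU)).obj
        (GrTwist.twist (𝒮.deg U hU) (d : ℤ))}
    (V : Y.Opens) (hV : IsAffineOpen V) (f : 𝒮.presheaf.obj (op V)) (hf : f ∈ 𝒮.deg V hV d)
    (a : Γ(L, p ⁻¹ᵁ V))
    (ha : (lam V hV).app (p ⁻¹ᵁ V) a = RelTwistLocGen.fr V hV f hf (p ⁻¹ᵁ V)) :
    Reads lam V hV (p ⁻¹ᵁ V) a f 1 := by
  intro y hy
  refine ⟨RelTwistLocGen.one_notMem y, ?_⟩
  have := congrArg (fun q => GrTwist.val (V := RelProj.emb p chart V hV ⁻¹ᵁ (p ⁻¹ᵁ V)) q ⟨y, hy⟩) ha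
  exact this

end reads

section main

variable {Y P X : Scheme.{u}} (E : Y.Modules) [E.IsQuasicoherent]
  (𝒮 : RelProj.QCGrAlg Y) (j : E ⟶ 𝒮.toModule) (hj : RelProj.IsGrSymAlg E 𝒮 j) (p : P ⟶ Y)
  (chart : ∀ (U : Y.Opens) (hU : IsAffineOpen U),
    ((p ⁻¹ᵁ U : P.Opens) : Scheme.{u}) ≅ Proj (𝒮.deg U hU))
  (hP : RelProj.IsRelProj 𝒮 p chart) (O1 : P.Modules)
  (lam : ∀ (U : Y.Opens) (hU : IsAffineOpen U),
    O1 ⟶ (Scheme.Modules.pushforward (RelProj.emb p chart U hU)).obj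
      (GrTwist.twist (𝒮.deg U hU) 1))
  (hO1 : RelProj.IsRelTwist 𝒮 p chart 1 O1 lam)
  (φ : E ⟶ (Scheme.Modules.pushforward p).obj O1)
  (hφ : ∀ (U : Y.Opens) (hU : IsAffineOpen U) (e : Γ(E, U)),
    Reads lam U hU (p ⁻¹ᵁ U) (up p O1 U (φ.app U e)) (jj 𝒮.toQCAlg j U e) 1)

include hj hP hO1 hφ in
/-- existence in the universal property of `P(E)` -/
theorem exists_hom (g : X ⟶ Y) (L : X.Modules) (hL : PicF.IsInvertible L)
    (s : (Scheme.Modules.pullback g).obj E ⟶ L) [Epi s] :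
    ∃ (r : X ⟶ P) (hr : r ≫ p = g) (τ : (Scheme.Modules.pullback r).obj O1 ≅ L),
      ∀ (U : Y.Opens), IsAffineOpen U → ∀ (U' : X.Opens), IsAffineOpen U' →
        ∀ (hle : U' ≤ g ⁻¹ᵁ U) (e : Γ(E, U)),
        τ.hom.app U' (res _ (hle.trans (preimage_le r p g hr U))
          (pull r O1 (p ⁻¹ᵁ U) (up p O1 U (φ.app U e)))) =
          s.app U' (res _ hle (pull g E U e)) := by
  classical
  haveI : L.IsQuasicoherent := InvCoh.isQuasicoherent_of_isInvertible hL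
  obtain ⟨𝒮L, jL, hjL⟩ := SymGr.exists_isGrSymAlg L
  obtain ⟨PL, pL, chartL, hPL⟩ := RelProjExist.exists_isRelProj 𝒮L
  obtain ⟨L1, lamL, hL1⟩ := RelTwistExist.exists_isRelTwist hPL 1
  haveI : IsIso pL := SymInvProj.isIso_p hL hjL pL chartL hPL
  obtain ⟨φL, hφL⟩ := CanonPhi.exists_phi hjL.2 hPL hL1
  haveI haL := SymInvTwist.isIso_adjoint hL hjL hL1 φL hφL
  obtain ⟨u, hu⟩ := exists_qGrHom g hj (s ≫ jL) (fun U' hU' x => hjL.2 U' hU' (s.app U' x))
  have hdom : RelProj.domQ u pL chartL = ⊤ := by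
    rw [eq_top_iff]
    intro x' _
    obtain ⟨U, hU, hxU⟩ := ProjQMap.exists_affine_mem (g (pL x'))
    obtain ⟨V, hV, hVU, e, hxV, hgen⟩ := exists_gen_of_epi g E hL s (pL x') U hU hxU
    obtain ⟨y, hy⟩ := ProjQMap.exists_emb_eq pL chartL V hV x' hxV
    refine RLPsi.mem_domQ_of_loc u x' U hU V hV hVU
      ⟨y, hy, 1, one_pos, jj 𝒮.toQCAlg j U e, hj.2 U hU e, ?_⟩
    rw [SymBC.appLE_jj g u.toQHom hu U V hVU e]
    exact RLPsiInv.jj_notMem hjL hV hgen.self y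
  obtain ⟨r₀, hr₀⟩ := ProjQGlue.exists_isProjQMapOn (u := u) p chart pL chartL hP hPL
  haveI hD : IsIso (RelProj.domQ u pL chartL).ι := RelTwistQ2.isIso_ι_of_eq_top _ hdom
  have hh := RelTwistQ2.isProjQMap_of_on u hdom r₀ hr₀
  have hgen : 𝒮.IsGenDegOne := SymGenProj.isGenDegOne hj
  obtain ⟨τP, hτP⟩ := RelTwistQ3.exists_iso_of_isProjQMap (by norm_num) hP hPL hO1 hL1
    (inv (RelProj.domQ u pL chartL).ι ≫ r₀) hh hgen
  have hcomp := ProjQGlue.comp_eq_of_isProjQMapOn p chart pL chartL hP hPL r₀ hr₀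
  have hhp : (inv (RelProj.domQ u pL chartL).ι ≫ r₀) ≫ p = pL ≫ g := by
    rw [Category.assoc, hcomp, IsIso.inv_hom_id_assoc]
  have hrp : (inv pL ≫ inv (RelProj.domQ u pL chartL).ι ≫ r₀) ≫ p = g := by
    rw [Category.assoc, hhp, IsIso.inv_hom_id_assoc]
  let aL : (Scheme.Modules.pullback pL).obj L ≅ L1 :=
    asIso ((Scheme.Modules.pullback pL).map φL ≫
      (pullbackPushforwardAdjunction pL).counit.app L1)
  refine ⟨inv pL ≫ inv (RelProj.domQ u pL chartL).ι ≫ r₀, hrp,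
    isoX pL (inv (RelProj.domQ u pL chartL).ι ≫ r₀) (τP ≪≫ aL.symm), ?_⟩
  intro U hU U' hU' hle e
  have hT1 : pL ⁻¹ᵁ U' ≤ (inv (RelProj.domQ u pL chartL).ι ≫ r₀) ⁻¹ᵁ (p ⁻¹ᵁ U) := by
    intro z hz
    have h1 : p ((inv (RelProj.domQ u pL chartL).ι ≫ r₀) z) = g (pL z) := by
      rw [← Scheme.Hom.comp_apply, hhp, Scheme.Hom.comp_apply]
    change p ((inv (RelProj.domQ u pL chartL).ι ≫ r₀) z) ∈ U
    rw [h1]
    exact hle hz
  refine (isoX_hom_app pL (inv (RelProj.domQ u pL chartL).ι ≫ r₀) (τP ≪≫ aL.symm) (p ⁻¹ᵁ U)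
    (up p O1 U (φ.app U e)) U' (s.app U' (res _ hle (pull g E U e))) hT1 ?_ U' _ le_rfl).trans
    (res_self _ _ _)
  -- the section of `O_{PL}(1)`
  have ht' : Reads lamL U' hU' (pL ⁻¹ᵁ U')
      (up pL L1 U' (φL.app U' (s.app U' (res _ hle (pull g E U e)))))
      (u.gradedAt U hU U' hU' hle (jj 𝒮.toQCAlg j U e)) 1 := by
    have h1 := reads_of_fr (d := 1) U' hU' _ (hjL.2 U' hU' (s.app U' (res _ hle (pull g E U e))))
      (up pL L1 U' (φL.app U' (s.app U' (res _ hle (pull g E U e)))))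
      (hφL U' hU' (s.app U' (res _ hle (pull g E U e))))
    refine h1.congr ?_ rfl
    exact (SymBC.appLE_jj g u.toQHom hu U U' hle e).symm
  have h2 := hτP U hU U' hU' hle (jj 𝒮.toQCAlg j U e) (hj.2 U hU e) (up p O1 U (φ.app U e))
    (hφ U hU e) _ ht' (pL ⁻¹ᵁ U') hT1 le_rfl
  rw [res_self] at h2
  change aL.inv.app (pL ⁻¹ᵁ U') (τP.hom.app (pL ⁻¹ᵁ U') _) = _
  rw [h2]
  have h3 := adjoint_pull pL φL U' (s.app U' (res _ hle (pull g E U e)))
  rw [Adjunction.homEquiv_counit] at h3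
  have h4 : aL.hom.app (pL ⁻¹ᵁ U') (pull pL L U' (s.app U' (res _ hle (pull g E U e)))) =
      up pL L1 U' (φL.app U' (s.app U' (res _ hle (pull g E U e)))) := h3
  rw [← h4]
  exact InvMonoidal.iso_inv_hom_app aL _ _

end main

end Groth.Agent.Lib.Helper3.ProjBundleUP
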