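import Groth.Agent.Lib.Helper3.ProjBundleUP

/-!
# The universal property of `P(E)`: the morphism attached to a given graded morphism
-/

set_option autoImplicit false
set_option linter.unusedSectionVars false
universe u
open CategoryTheory CategoryTheory.Limits AlgebraicGeometry TopologicalSpace Opposite
open Scheme.Modules
open scoped HomogeneousIdeal

namespace Groth.Agent.Lib.Helper3.ProjBundleUP2

open QCSec InvGen GrModQC RelChart SymGen PbBasic PullLemmas ProjBundleUP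
  Groth.Agent.Lib.Helper17.UnitBC Groth.Agent.Lib.Helper17

variable {Y P X : Scheme.{u}} {E : Y.Modules} [E.IsQuasicoherent]
  {𝒮 : RelProj.QCGrAlg Y} {j : E ⟶ 𝒮.toModule} (hj : RelProj.IsGrSymAlg E 𝒮 j) {p : P ⟶ Y}
  {chart : ∀ (U : Y.Opens) (hU : IsAffineOpen U),
    ((p ⁻¹ᵁ U : P.Opens) : Scheme.{u}) ≅ Proj (𝒮.deg U hU)}
  (hP : RelProj.IsRelProj 𝒮 p chart) {O1 : P.Modules}
  {lam : ∀ (U : Y.Opens) (hU : IsAffineOpen U),
    O1 ⟶ (Scheme.Modules.pushforward (RelProj.emb p chart U hU)).obj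
      (GrTwist.twist (𝒮.deg U hU) 1)}
  (hO1 : RelProj.IsRelTwist 𝒮 p chart 1 O1 lam)
  {φ : E ⟶ (pushforward p).obj O1}
  (hφ : ∀ (U : Y.Opens) (hU : IsAffineOpen U) (e : Γ(E, U)),
    Reads lam U hU (p ⁻¹ᵁ U) (up p O1 U (φ.app U e)) (jj 𝒮.toQCAlg j U e) 1)

include hj hP hO1 hφ in
/-- the morphism `X ≅ P(L) = G(u) → P(E)` attached to a graded morphism `u : Sym E → Sym L`
extending `s : g^*E → L`, with its identification of `O(1)` -/
theorem exists_iso_of_projQMapOn (g : X ⟶ Y) (L : X.Modules) (hL : PicF.IsInvertible L)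
    (s : (Scheme.Modules.pullback g).obj E ⟶ L)
    {𝒮L : RelProj.QCGrAlg X} {jL : L ⟶ 𝒮L.toModule} (hjL : RelProj.IsGrSymAlg L 𝒮L jL)
    {PL : Scheme.{u}} {pL : PL ⟶ X}
    {chartL : ∀ (U : X.Opens) (hU : IsAffineOpen U),
      ((pL ⁻¹ᵁ U : PL.Opens) : Scheme.{u}) ≅ Proj (𝒮L.deg U hU)}
    (hPL : RelProj.IsRelProj 𝒮L pL chartL) (u : RelProj.QGrHom g 𝒮 𝒮L)
    (hu : ∀ (U : Y.Opens) (x : Γ(E, U)),
      (u.toQHom.app U).hom (j.app U x) = (s ≫ jL).app (g ⁻¹ᵁ U)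
        (((Scheme.Modules.pullbackPushforwardAdjunction g).unit.app E).app U x))
    (hdom : RelProj.domQ u pL chartL = ⊤)
    (r₀ : ((RelProj.domQ u pL chartL : PL.Opens) : Scheme.{u}) ⟶ P)
    (hr₀ : RelProj.IsProjQMapOn u p chart pL chartL (RelProj.domQ u pL chartL) r₀) :
    ∃ (r : X ⟶ P) (hr : r ≫ p = g) (τ : (Scheme.Modules.pullback r).obj O1 ≅ L),
      (RelProj.domQ u pL chartL).ι ≫ pL ≫ r = r₀ ∧
      ∀ (U : Y.Opens), IsAffineOpen U → ∀ (U' : X.Opens), IsAffineOpen U' →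
        ∀ (hle : U' ≤ g ⁻¹ᵁ U) (e : Γ(E, U)),
        τ.hom.app U' (res _ (hle.trans (preimage_le r p g hr U))
          (pull r O1 (p ⁻¹ᵁ U) (up p O1 U (φ.app U e)))) =
          s.app U' (res _ hle (pull g E U e)) := by
  classical
  haveI : L.IsQuasicoherent := InvCoh.isQuasicoherent_of_isInvertible hL
  obtain ⟨L1, lamL, hL1⟩ := RelTwistExist.exists_isRelTwist hPL 1
  haveI : IsIso pL := SymInvProj.isIso_p hL hjL pL chartL hPL
  obtain ⟨φL, hφL⟩ := CanonPhi.exists_phi hjL.2 hPL hL1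
  haveI haL := SymInvTwist.isIso_adjoint hL hjL hL1 φL hφL
  haveI hD : IsIso (RelProj.domQ u pL chartL).ι := RelTwistQ2.isIso_ι_of_eq_top _ hdom
  have hh := RelTwistQ2.isProjQMap_of_on u hdom r₀ hr₀
  have hgen : 𝒮.IsGenDegOne := SymGenProj.isGenDegOne hj
  obtain ⟨τP, hτP⟩ := RelTwistQ3.exists_iso_of_isProjQMap (by norm_num) hP hPL hO1 hL1
    (inv (RelProj.domQ u pL chartL).ι ≫ r₀) hh hgen
  have hcomp := ProjQGlue.comp_eq_of_isProjQMapOn p chart pL chartL hP hPL r₀ hr₀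
  have hhp : (inv (RelProj.domQ u pL chartL).ι ≫ r₀) ≫ p = pL ≫ g := by
    rw [Category.assoc, hcomp, IsIso.inv_hom_id_assoc]
  have hrp : (inv pL ≫ inv (RelProj.domQ u pL chartL).ι ≫ r₀) ≫ p = g := by
    rw [Category.assoc, hhp, IsIso.inv_hom_id_assoc]
  let aL : (Scheme.Modules.pullback pL).obj L ≅ L1 :=
    asIso ((Scheme.Modules.pullback pL).map φL ≫
      (pullbackPushforwardAdjunction pL).counit.app L1)
  refine ⟨inv pL ≫ inv (RelProj.domQ u pL chartL).ι ≫ r₀, hrp,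
    isoX pL (inv (RelProj.domQ u pL chartL).ι ≫ r₀) (τP ≪≫ aL.symm), ?_, ?_⟩
  · rw [IsIso.hom_inv_id_assoc, IsIso.hom_inv_id_assoc]
  intro U hU U' hU' hle e
  have hT1 : pL ⁻¹ᵁ U' ≤ (inv (RelProj.domQ u pL chartL).ι ≫ r₀) ⁻¹ᵁ (p ⁻¹ᵁ U) := by
    intro z hz
    have h1 : p ((inv (RelProj.domQ u pL chartL).ι ≫ r₀) z) = g (pL z) := by
      rw [← Scheme.Hom.comp_apply, hhp, Scheme.Hom.comp_apply]
    change p ((inv (RelProj.domQ u pL chartL).ι ≫ r₀) z) ∈ U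
    rw [h1]
    exact hle hz
  refine (isoX_hom_app pL (inv (RelProj.domQ u pL chartL).ι ≫ r₀) (τP ≪≫ aL.symm) (p ⁻¹ᵁ U)
    (up p O1 U (φ.app U e)) U' (s.app U' (res _ hle (pull g E U e))) hT1 ?_ U' _ le_rfl).trans
    (res_self _ _ _)
  have ht' : Reads lamL U' hU' (pL ⁻¹ᵁ U')
      (up pL L1 U' (φL.app U' (s.app U' (res _ hle (pull g E U e)))))
      (u.gradedAt U hU U' hU' hle (jj 𝒮.toQCAlg j U e)) 1 := by
    have h1 := reads_of_fr (d := 1) U' hU' _ (hjL.2 U' hU' (s.app U' (res _ hle (pull g E U e))))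
      (up pL L1 U' (φL.app U' (s.app U' (res _ hle (pull g E U e)))))
      (hφL U' hU' (s.app U' (res _ hle (pull g E U e))))
    refine h1.congr ?_ rfl
    exact (SymBC.appLE_jj g u.toQHom hu U U' hle e).symm
  have h2 := hτP U hU U' hU' hle (jj 𝒮.toQCAlg j U e) (hj.2 U hU e) (up p O1 U (φ.app U e))
    (hφ U hU e) _ ht' (pL ⁻¹ᵁ U') hT1 le_rfl
  rw [res_self] at h2
  change aL.inv.app (pL ⁻¹ᵁ U') (τP.hom.app (pL ⁻¹ᵁ U') _) = _
  rw [h2]
  have h3 := adjoint_pull pL φL U' (s.app U' (res _ hle (pull g E U e)))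
  rw [Adjunction.homEquiv_counit] at h3
  have h4 : aL.hom.app (pL ⁻¹ᵁ U') (pull pL L U' (s.app U' (res _ hle (pull g E U e)))) =
      up pL L1 U' (φL.app U' (s.app U' (res _ hle (pull g E U e)))) := h3
  rw [← h4]
  exact InvMonoidal.iso_inv_hom_app aL _ _

end Groth.Agent.Lib.Helper3.ProjBundleUP2
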