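import Groth.Agent.Lib.Helper3.ProjBundleUP
import Groth.Agent.Lib.Helper3.AwayGen
import Groth.Agent.Lib.Helper3.AvoidPoints

/-!
# The universal property of the projective bundle `P(E)`: uniqueness
-/

set_option autoImplicit false
set_option linter.unusedSectionVars false
universe u
open CategoryTheory CategoryTheory.Limits AlgebraicGeometry TopologicalSpace Opposite
open Scheme.Modules
open scoped HomogeneousIdeal

namespace Groth.Agent.Lib.Helper3.ProjBundleUniq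

open QCSec InvGen GrModQC RelChart SymGen PbBasic PullLemmas HomogeneousLocalization

section alg

variable {A σ : Type*} [CommRing A] [SetLike σ A] [AddSubgroupClass σ A] {𝒜 : ℕ → σ}
  [GradedRing 𝒜] {f : A} {d : ℕ} (hf : f ∈ 𝒜 d)

theorem mk_congr (n : ℕ) {a a' : A} (h : a = a') (ha : a ∈ 𝒜 (n • d)) :
    Away.mk 𝒜 hf n a ha = Away.mk 𝒜 hf n a' (h ▸ ha) := by
  subst h
  rfl

end alg

variable {Y P X : Scheme.{u}} {E : Y.Modules} [E.IsQuasicoherent]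
  {𝒮 : RelProj.QCGrAlg Y} {j : E ⟶ 𝒮.toModule} (hj : RelProj.IsGrSymAlg E 𝒮 j) {p : P ⟶ Y}
  {chart : ∀ (U : Y.Opens) (hU : IsAffineOpen U),
    ((p ⁻¹ᵁ U : P.Opens) : Scheme.{u}) ≅ Proj (𝒮.deg U hU)}
  (hP : RelProj.IsRelProj 𝒮 p chart) {O1 : P.Modules}
  {lam : ∀ (U : Y.Opens) (hU : IsAffineOpen U),
    O1 ⟶ (Scheme.Modules.pushforward (RelProj.emb p chart U hU)).obj
      (GrTwist.twist (𝒮.deg U hU) 1)}
  (hO1 : RelProj.IsRelTwist 𝒮 p chart 1 O1 lam)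
  {φ : E ⟶ (Scheme.Modules.pushforward p).obj O1}
  (hφ : ∀ (U : Y.Opens) (hU : IsAffineOpen U) (e : Γ(E, U)),
    Reads lam U hU (p ⁻¹ᵁ U) (up p O1 U (φ.app U e)) (jj 𝒮.toQCAlg j U e) 1)

variable (j chart) in
/-- the open of `P` where the section `e` of `E` does not vanish -/
noncomputable abbrev AA (U : Y.Opens) (hU : IsAffineOpen U) (e : Γ(E, U)) : P.Opens :=
  RelProj.emb p chart U hU ''ᵁ Proj.basicOpen (𝒮.deg U hU) (jj 𝒮.toQCAlg j U e)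

variable (j chart) in
theorem AA_le (U : Y.Opens) (hU : IsAffineOpen U) (e : Γ(E, U)) :
    AA j chart U hU e ≤ p ⁻¹ᵁ U := RelTwistQ3.image_le_preimage U hU _

include hj in
theorem jj_mem (U : Y.Opens) (hU : IsAffineOpen U) (e : Γ(E, U)) :
    jj 𝒮.toQCAlg j U e ∈ 𝒮.deg U hU 1 := hj.2 U hU e

include hj in
theorem isAffineOpen_AA (U : Y.Opens) (hU : IsAffineOpen U) (e : Γ(E, U)) :
    IsAffineOpen (AA j chart U hU e) :=
  (Proj.isAffineOpen_basicOpen (𝒮.deg U hU) (jj 𝒮.toQCAlg j U e) (hj.2 U hU e)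
    one_pos).image_of_isOpenImmersion (RelProj.emb p chart U hU)

variable (chart) in
/-- the coordinate function `j(e') / j(e)` on `AA e` -/
noncomputable abbrev cc (U : Y.Opens) (hU : IsAffineOpen U) (e e' : Γ(E, U)) :
    Γ(P, AA j chart U hU e) :=
  chartFun chart U hU (jj 𝒮.toQCAlg j U e)
    (Away.mk (𝒮.deg U hU) (hj.2 U hU e) 1 (jj 𝒮.toQCAlg j U e')
      (AwayGen.mem_smul_one (hj.2 U hU e')))

include hj hO1 hφ in
/-- `φ(e)` generates `O(1)` over `AA e` -/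
theorem isGen_phi (U : Y.Opens) (hU : IsAffineOpen U) (e : Γ(E, U)) :
    IsGen O1 (AA j chart U hU e) (res O1 (AA_le j chart U hU e) (up p O1 U (φ.app U e))) := by
  obtain ⟨e₀, hgen, hreads⟩ := exists_gen hO1 U hU (jj 𝒮.toQCAlg j U e) (hj.2 U hU e)
  have h1 : Reads lam U hU _ (res O1 (AA_le j chart U hU e) (up p O1 U (φ.app U e)))
      (jj 𝒮.toQCAlg j U e ^ (1 : ℤ).toNat) (jj 𝒮.toQCAlg j U e ^ (-(1 : ℤ)).toNat) :=
    ((hφ U hU e).res (AA_le j chart U hU e)).congr (pow_one _).symm (pow_zero _).symm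
  rw [RelTwistQ3.reads_unique hO1 (AA_le j chart U hU e) h1 hreads]
  exact hgen

include hj hO1 hφ in
/-- the relation between `φ(e')` and `φ(e)` over `AA e` -/
theorem phi_rel (U : Y.Opens) (hU : IsAffineOpen U) (e e' : Γ(E, U)) :
    res O1 (AA_le j chart U hU e) (up p O1 U (φ.app U e')) =
      cc hj chart U hU e e' • res O1 (AA_le j chart U hU e) (up p O1 U (φ.app U e)) := by
  refine eq_chartFun_smul hO1 U hU (hj.2 U hU e) 1 (jj 𝒮.toQCAlg j U e')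
    (AwayGen.mem_smul_one (hj.2 U hU e')) ((hφ U hU e').res (AA_le j chart U hU e))
    ((hφ U hU e).res (AA_le j chart U hU e)) ?_
  ring

include hj in
theorem basicOpen_cc_le (U : Y.Opens) (hU : IsAffineOpen U) (e e' : Γ(E, U)) :
    P.basicOpen (cc hj chart U hU e e') ≤ AA j chart U hU e' := by
  have h1 := Scheme.image_basicOpen (RelProj.emb p chart U hU)
    ((Proj.awayToSection (𝒮.deg U hU) (jj 𝒮.toQCAlg j U e)).hom
      (Away.mk (𝒮.deg U hU) (hj.2 U hU e) 1 (jj 𝒮.toQCAlg j U e')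
        (AwayGen.mem_smul_one (hj.2 U hU e'))))
  change P.basicOpen ((Scheme.Hom.appIso (RelProj.emb p chart U hU) _).inv _) ≤ _
  rw [← h1, basicOpen_mk_away, Proj.basicOpen_mul]
  exact (RelProj.emb p chart U hU).image_mono inf_le_right

section one

variable (g : X ⟶ Y) {L : X.Modules} (s : (Scheme.Modules.pullback g).obj E ⟶ L)
  (r : X ⟶ P) (hr : r ≫ p = g) (τ : (Scheme.Modules.pullback r).obj O1 ≅ L)
  (hc : ∀ (U : Y.Opens), IsAffineOpen U → ∀ e : Γ(E, U),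
    τ.hom.app (g ⁻¹ᵁ U) (res _ (preimage_le r p g hr U)
      (pull r O1 (p ⁻¹ᵁ U) (up p O1 U (φ.app U e)))) = s.app (g ⁻¹ᵁ U) (pull g E U e))

variable (j chart) in
include hr in
theorem pre_le (U : Y.Opens) (hU : IsAffineOpen U) (e : Γ(E, U)) :
    r ⁻¹ᵁ AA j chart U hU e ≤ g ⁻¹ᵁ U := by
  subst hr
  exact fun x hx => AA_le j chart U hU e hx

include hc in
/-- the image of the pulled back section -/
theorem tau_pull (U : Y.Opens) (hU : IsAffineOpen U) (e : Γ(E, U)) (W : X.Opens)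
    (hW : W ≤ r ⁻¹ᵁ AA j chart U hU e) :
    τ.hom.app W (res _ hW (pull r O1 (AA j chart U hU e)
      (res O1 (AA_le j chart U hU e) (up p O1 U (φ.app U e))))) =
      res L (hW.trans (pre_le j chart g r hr U hU e)) (s.app (g ⁻¹ᵁ U) (pull g E U e)) := by
  rw [← hc U hU e, ← res_pull r O1 (AA_le j chart U hU e), res_res, ← QCExact.app_res', res_res]

include hj hO1 hφ hc in
/-- `s(g^* e)` generates `L` over `r⁻¹(AA e)` -/
theorem isGenAt_sigma (U : Y.Opens) (hU : IsAffineOpen U) (e : Γ(E, U)) (W : X.Opens)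
    (hW : W ≤ r ⁻¹ᵁ AA j chart U hU e) :
    IsGenAt L W (res L (hW.trans (pre_le j chart g r hr U hU e)) (s.app (g ⁻¹ᵁ U) (pull g E U e))) := by
  have h1 := AvoidPoints.isGen_iso τ (isGen_pull r (isGen_phi hj hO1 hφ U hU e))
  have h2 := h1 W hW
  rw [← QCExact.app_res', tau_pull g s r hr τ hc U hU e W hW] at h2
  exact h2

include hj hO1 hφ hc in
/-- the relation between `s(g^* e')` and `s(g^* e)` over `r⁻¹(AA e)` -/
theorem sigma_rel (U : Y.Opens) (hU : IsAffineOpen U) (e e' : Γ(E, U)) (W : X.Opens)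
    (hW : W ≤ r ⁻¹ᵁ AA j chart U hU e) :
    res L (hW.trans (pre_le j chart g r hr U hU e)) (s.app (g ⁻¹ᵁ U) (pull g E U e')) =
      r.appLE (AA j chart U hU e) W hW (cc hj chart U hU e e') •
        res L (hW.trans (pre_le j chart g r hr U hU e)) (s.app (g ⁻¹ᵁ U) (pull g E U e)) := by
  have h1 := PConeTwist.pull_trans r O1 (le_refl (AA j chart U hU e)) (le_refl _) W hW hW hW
    (res O1 (AA_le j chart U hU e) (up p O1 U (φ.app U e')))
    (res O1 (AA_le j chart U hU e) (up p O1 U (φ.app U e))) (cc hj chart U hU e e')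
    (by rw [res_self, res_self]; exact phi_rel hj hO1 hφ U hU e e')
  have h2 := congrArg (τ.hom.app W) h1
  rw [Scheme.Modules.Hom.app_smul] at h2
  -- the two sides
  have e1 : τ.hom.app W (res _ hW (pull r O1 (AA j chart U hU e)
      (res O1 (AA_le j chart U hU e) (up p O1 U (φ.app U e'))))) =
      res L (hW.trans (pre_le j chart g r hr U hU e)) (s.app (g ⁻¹ᵁ U) (pull g E U e')) := by
    rw [← hc U hU e', ← res_pull r O1 (AA_le j chart U hU e), res_res, ← QCExact.app_res', res_res]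
  rw [e1, tau_pull g s r hr τ hc U hU e W hW] at h2
  exact h2

end one

section two

variable (g : X ⟶ Y) {L : X.Modules} (s : (Scheme.Modules.pullback g).obj E ⟶ L)
  (r₁ : X ⟶ P) (hr₁ : r₁ ≫ p = g) (τ₁ : (Scheme.Modules.pullback r₁).obj O1 ≅ L)
  (hc₁ : ∀ (U : Y.Opens), IsAffineOpen U → ∀ e : Γ(E, U),
    τ₁.hom.app (g ⁻¹ᵁ U) (res _ (preimage_le r₁ p g hr₁ U)
      (pull r₁ O1 (p ⁻¹ᵁ U) (up p O1 U (φ.app U e)))) = s.app (g ⁻¹ᵁ U) (pull g E U e))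
  (r₂ : X ⟶ P) (hr₂ : r₂ ≫ p = g) (τ₂ : (Scheme.Modules.pullback r₂).obj O1 ≅ L)
  (hc₂ : ∀ (U : Y.Opens), IsAffineOpen U → ∀ e : Γ(E, U),
    τ₂.hom.app (g ⁻¹ᵁ U) (res _ (preimage_le r₂ p g hr₂ U)
      (pull r₂ O1 (p ⁻¹ᵁ U) (up p O1 U (φ.app U e)))) = s.app (g ⁻¹ᵁ U) (pull g E U e))

include hj hP hO1 hφ hc₁ hc₂ in
/-- the preimages of the standard opens agree -/
theorem mem_of_mem (U : Y.Opens) (hU : IsAffineOpen U) (e : Γ(E, U)) (x : X)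
    (hx : x ∈ r₁ ⁻¹ᵁ AA j chart U hU e) : x ∈ r₂ ⁻¹ᵁ AA j chart U hU e := by
  have hgx : g x ∈ U := pre_le j chart g r₁ hr₁ U hU e hx
  have hr2x : p (r₂ x) ∈ U := by
    rw [← Scheme.Hom.comp_apply, hr₂]
    exact hgx
  obtain ⟨y₂, hy₂⟩ := ProjQMap.exists_emb_eq p chart U hU (r₂ x) hr2x
  obtain ⟨e', he'⟩ := SymGenProj.exists_jj_notMem hj hU y₂
  have hx2 : x ∈ r₂ ⁻¹ᵁ AA j chart U hU e' := ⟨y₂, he', hy₂⟩
  have hW1 : r₁ ⁻¹ᵁ AA j chart U hU e ⊓ r₂ ⁻¹ᵁ AA j chart U hU e' ≤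
      r₁ ⁻¹ᵁ AA j chart U hU e := inf_le_left
  have hW2 : r₁ ⁻¹ᵁ AA j chart U hU e ⊓ r₂ ⁻¹ᵁ AA j chart U hU e' ≤
      r₂ ⁻¹ᵁ AA j chart U hU e' := inf_le_right
  have hg1 := isGenAt_sigma hj hO1 hφ g s r₁ hr₁ τ₁ hc₁ U hU e _ hW1
  have hg2 := isGenAt_sigma hj hO1 hφ g s r₂ hr₂ τ₂ hc₂ U hU e' _ hW2
  have hrel := sigma_rel hj hO1 hφ g s r₂ hr₂ τ₂ hc₂ U hU e' e _ hW2
  obtain ⟨v, hv, hv'⟩ := hg2.exists_unit hg1
  have hγ : r₂.appLE (AA j chart U hU e') _ hW2 (cc hj chart U hU e' e) = v :=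
    hg2.smul_inj (hrel.symm.trans hv')
  have hb : X.basicOpen (r₂.appLE (AA j chart U hU e') _ hW2 (cc hj chart U hU e' e)) =
      r₁ ⁻¹ᵁ AA j chart U hU e ⊓ r₂ ⁻¹ᵁ AA j chart U hU e' := by
    rw [hγ]
    exact X.basicOpen_of_isUnit hv
  have hb2 : X.basicOpen (r₂.appLE (AA j chart U hU e') _ hW2 (cc hj chart U hU e' e)) =
      (r₁ ⁻¹ᵁ AA j chart U hU e ⊓ r₂ ⁻¹ᵁ AA j chart U hU e') ⊓
        r₂ ⁻¹ᵁ P.basicOpen (cc hj chart U hU e' e) :=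
    Scheme.basicOpen_appLE r₂ _ (AA j chart U hU e') hW2 (cc hj chart U hU e' e)
  have hx3 : x ∈ (r₁ ⁻¹ᵁ AA j chart U hU e ⊓ r₂ ⁻¹ᵁ AA j chart U hU e') ⊓
      r₂ ⁻¹ᵁ P.basicOpen (cc hj chart U hU e' e) := by
    rw [← hb2, hb]
    exact ⟨hx, hx2⟩
  have hfin : r₂ x ∈ P.basicOpen (cc hj chart U hU e' e) := hx3.2
  have hle := basicOpen_cc_le hj (chart := chart) U hU e' e
  exact hle hfin

include hj hP hO1 hφ hc₁ hc₂ in
/-- the two morphisms agree on functions over the standard opens -/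
theorem appLE_eq (U : Y.Opens) (hU : IsAffineOpen U) (e : Γ(E, U)) :
    r₁.appLE (AA j chart U hU e) (r₁ ⁻¹ᵁ AA j chart U hU e ⊓ r₂ ⁻¹ᵁ AA j chart U hU e)
        inf_le_left =
      r₂.appLE (AA j chart U hU e) (r₁ ⁻¹ᵁ AA j chart U hU e ⊓ r₂ ⁻¹ᵁ AA j chart U hU e)
        inf_le_right := by
  have hW1 : r₁ ⁻¹ᵁ AA j chart U hU e ⊓ r₂ ⁻¹ᵁ AA j chart U hU e ≤
      r₁ ⁻¹ᵁ AA j chart U hU e := inf_le_left
  have hW2 : r₁ ⁻¹ᵁ AA j chart U hU e ⊓ r₂ ⁻¹ᵁ AA j chart U hU e ≤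
      r₂ ⁻¹ᵁ AA j chart U hU e := inf_le_right
  have hg1 := isGenAt_sigma hj hO1 hφ g s r₁ hr₁ τ₁ hc₁ U hU e _ hW1
  have key : ∀ e' : Γ(E, U),
      r₁.appLE (AA j chart U hU e) _ hW1 (cc hj chart U hU e e') =
        r₂.appLE (AA j chart U hU e) _ hW2 (cc hj chart U hU e e') := by
    intro e'
    have h1 := sigma_rel hj hO1 hφ g s r₁ hr₁ τ₁ hc₁ U hU e e' _ hW1
    have h2 := sigma_rel hj hO1 hφ g s r₂ hr₂ τ₂ hc₂ U hU e e' _ hW2
    exact hg1.smul_inj (h1.symm.trans h2)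
  -- the coordinate ring of the chart
  let ι₀ : Away (𝒮.deg U hU) (jj 𝒮.toQCAlg j U e) →+* Γ(P, AA j chart U hU e) :=
    (Proj.awayToSection (𝒮.deg U hU) (jj 𝒮.toQCAlg j U e) ≫
      ((RelProj.emb p chart U hU).appIso
        (Proj.basicOpen (𝒮.deg U hU) (jj 𝒮.toQCAlg j U e))).inv).hom
  have hι₀ : ∀ z, ι₀ z = chartFun chart U hU (jj 𝒮.toQCAlg j U e) z := fun z => rfl
  have hsurj : Function.Surjective ι₀ := by
    intro c
    obtain ⟨k, a, ha, hz⟩ := exists_awayToSection (𝒜 := 𝒮.deg U hU) one_pos (jj_mem hj U hU e)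
      (((RelProj.emb p chart U hU).appIso
        (Proj.basicOpen (𝒮.deg U hU) (jj 𝒮.toQCAlg j U e))).hom c)
    refine ⟨Away.mk (𝒮.deg U hU) (jj_mem hj U hU e) k a ha, ?_⟩
    rw [hι₀]
    unfold chartFun
    rw [hz]
    exact congrArg (fun m => m.hom c)
      (((RelProj.emb p chart U hU).appIso
        (Proj.basicOpen (𝒮.deg U hU) (jj 𝒮.toQCAlg j U e))).hom_inv_id)
  have hχ : (r₁.appLE (AA j chart U hU e) _ hW1).hom.comp ι₀ =
      (r₂.appLE (AA j chart U hU e) _ hW2).hom.comp ι₀ := by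
    apply AwayGen.hom_ext (𝒜 := 𝒮.deg U hU) (jj_mem hj U hU e) _ _
      (Set.range (st 𝒮.toQCAlg U) ∪ Set.range (jj 𝒮.toQCAlg j U))
      (G_eq_top 𝒮.toQCAlg j hj.1 hU)
    rintro x (⟨b, rfl⟩ | ⟨e', rfl⟩)
    · have hb0 : st 𝒮.toQCAlg U b ∈ 𝒮.deg U hU 0 := 𝒮.str_mem U hU b
      rw [AwayGen.deh_of_mem _ hb0, AwayGen.mk_zero_eq (jj_mem hj U hU e) hb0,
        mk_congr (jj_mem hj U hU e) 1 (jj_smul 𝒮.toQCAlg j U b e).symm]
      exact key (b • e)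
    · rw [AwayGen.deh_of_mem _ (jj_mem hj U hU e')]
      exact key e'
  ext c
  obtain ⟨z, rfl⟩ := hsurj c
  exact congr($hχ z)

/-- the index of a standard open -/
structure Ix (E : Y.Modules) where
  U : Y.Opens
  hU : IsAffineOpen U
  e : Γ(E, U)

include hj hP hO1 hφ hc₁ hc₂ in
/-- **uniqueness** in the universal property of `P(E)` -/
theorem hom_unique : r₁ = r₂ := by
  refine ToProj.hom_ext_of_appLE r₁ r₂ (κ := Ix E) (fun k => AA j chart k.U k.hU k.e)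
    (fun k => isAffineOpen_AA hj k.U k.hU k.e)
    (fun k => r₁ ⁻¹ᵁ AA j chart k.U k.hU k.e ⊓ r₂ ⁻¹ᵁ AA j chart k.U k.hU k.e) ?_
    (fun k => inf_le_left) (fun k => inf_le_right)
    (fun k => appLE_eq hj hP hO1 hφ g s r₁ hr₁ τ₁ hc₁ r₂ hr₂ τ₂ hc₂ k.U k.hU k.e)
  intro x
  obtain ⟨U, hU, hxU⟩ := ProjQMap.exists_affine_mem (g x)
  have hr1x : p (r₁ x) ∈ U := by
    rw [← Scheme.Hom.comp_apply, hr₁]
    exact hxU
  obtain ⟨y₁, hy₁⟩ := ProjQMap.exists_emb_eq p chart U hU (r₁ x) hr1x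
  obtain ⟨e, he⟩ := SymGenProj.exists_jj_notMem hj hU y₁
  have hx1 : x ∈ r₁ ⁻¹ᵁ AA j chart U hU e := ⟨y₁, he, hy₁⟩
  exact ⟨⟨U, hU, e⟩, hx1, mem_of_mem hj hP hO1 hφ g s r₁ hr₁ τ₁ hc₁ r₂ hr₂ τ₂ hc₂ U hU e x hx1⟩

end two

end Groth.Agent.Lib.Helper3.ProjBundleUniq
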