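import Groth.Agent.Lib.Helper3.RelChart
import Groth.Agent.Lib.Helper3.CocycleLocal
import Groth.Agent.Lib.Helper3.PConeTwist
import Groth.Agent.Lib.Helper3.ProjQGlue
import Groth.Agent.Lib.Helper3.RLPsi
import Groth.Agent.Lib.Helper3.InvRestrict

/-!
# Pullback of `O(n)` along the morphism `Proj(u)` induced by a graded morphism over a morphism of
bases, the source algebra being generated in degree one
-/

set_option autoImplicit false
set_option linter.unusedSectionVars false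
universe u
open CategoryTheory CategoryTheory.Limits AlgebraicGeometry TopologicalSpace Opposite
open Scheme.Modules
open scoped HomogeneousIdeal

namespace Groth.Agent.Lib.Helper3.RelTwistQ

open QCSec InvGen GrModQC RelChart ProjQGlue HomogeneousLocalization

variable {Y X P P' W' : Scheme.{u}} {q : X ⟶ Y} {𝒮 : RelProj.QCGrAlg Y} {𝒮' : RelProj.QCGrAlg X}
  (u : RelProj.QGrHom q 𝒮 𝒮')
  (p : P ⟶ Y)
  (chart : ∀ (U : Y.Opens) (hU : IsAffineOpen U),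
    ((p ⁻¹ᵁ U : P.Opens) : Scheme.{u}) ≅ Proj (𝒮.deg U hU))
  (p' : P' ⟶ X)
  (chart' : ∀ (U : X.Opens) (hU : IsAffineOpen U),
    ((p' ⁻¹ᵁ U : P'.Opens) : Scheme.{u}) ≅ Proj (𝒮'.deg U hU))

/-- the key compatibility of `u` with restrictions -/
theorem key {U V : Y.Opens} {U' V1 V' : X.Opens} (hU : IsAffineOpen U) (hV : IsAffineOpen V)
    (hU' : IsAffineOpen U') (hV1 : IsAffineOpen V1) (hV' : IsAffineOpen V')
    (hle : U' ≤ q ⁻¹ᵁ U) (hle' : V' ≤ q ⁻¹ᵁ V) (hVU : V ≤ U) (h1 : V1 ≤ U') (h2 : V' ≤ V1)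
    (f : 𝒮.presheaf.obj (op U)) :
    𝒮'.res hV1 hV' h2 (𝒮'.res hU' hV1 h1 (u.gradedAt U hU U' hU' hle f)) =
      u.gradedAt V hV V' hV' hle' (𝒮.res hU hV hVU f) := by
  change (𝒮'.presheaf.map (homOfLE h2).op).hom ((𝒮'.presheaf.map (homOfLE h1).op).hom
    ((u.appLE U U' hle).hom f)) = (u.appLE V V' hle').hom ((𝒮.presheaf.map (homOfLE hVU).op).hom f)
  rw [RLPsi.appLE_res, RLPsi.appLE_res, RLPsi.res_appLE]

/-- the index of a standard chart of degree one -/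
structure Idx1 (u : RelProj.QGrHom q 𝒮 𝒮') where
  U : Y.Opens
  hU : IsAffineOpen U
  U' : X.Opens
  hU' : IsAffineOpen U'
  hle : U' ≤ q ⁻¹ᵁ U
  f : 𝒮.presheaf.obj (op U)
  hf : f ∈ 𝒮.deg U hU 1

variable {u}

noncomputable abbrev Idx1.ψ (i : Idx1 u) : 𝒮.deg i.U i.hU →+*ᵍ 𝒮'.deg i.U' i.hU' :=
  u.gradedAt i.U i.hU i.U' i.hU' i.hle

abbrev Idx1.toIdx (i : Idx1 u) : Idx u :=
  ⟨i.U, i.hU, i.U', i.hU', i.hle, 1, one_pos, i.f, i.hf⟩

/-- the open of `P` attached to an index -/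
noncomputable abbrev Idx1.A (i : Idx1 u) : P.Opens :=
  RelProj.emb p chart i.U i.hU ''ᵁ Proj.basicOpen (𝒮.deg i.U i.hU) i.f

/-- the open of `P'` attached to an index -/
noncomputable abbrev Idx1.B (i : Idx1 u) : P'.Opens :=
  RelProj.emb p' chart' i.U' i.hU' ''ᵁ Proj.basicOpen (𝒮'.deg i.U' i.hU') (i.ψ i.f)

/-- the open of `P'` attached to a general index -/
noncomputable abbrev BB (k : Idx u) : P'.Opens :=
  RelProj.emb p' chart' k.U' k.hU' ''ᵁ Proj.basicOpen (𝒮'.deg k.U' k.hU') (k.ψ k.f)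

theorem mem_BB_iff (k : Idx u) (x' : P') :
    x' ∈ BB p' chart' k ↔ x' ∈ Set.range (k.cB p' chart') := by
  rw [mem_range_cB_iff]
  constructor
  · rintro ⟨y, hy, rfl⟩
    exact ⟨y, rfl, hy⟩
  · rintro ⟨y, rfl, hy⟩
    exact ⟨y, hy, rfl⟩

theorem p'_mem_of_mem_image (U' : X.Opens) (hU' : IsAffineOpen U')
    (D : (Proj (𝒮'.deg U' hU')).Opens) (x' : P')
    (h : x' ∈ RelProj.emb p' chart' U' hU' ''ᵁ D) : p' x' ∈ U' := by
  have h1 : x' ∈ (RelProj.emb p' chart' U' hU').opensRange :=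
    (RelProj.emb p' chart' U' hU').image_le_opensRange D h
  rw [ProjQMap.opensRange_emb] at h1
  exact h1

section lift

variable (w : W' ⟶ P') [IsOpenImmersion w] (r : W' ⟶ P)
  (hk : ∀ k : Idx u, Set.range (k.cB p' chart').base ⊆ Set.range w.base)
  (hr : ∀ k : Idx u, IsOpenImmersion.lift w (k.cB p' chart') (hk k) ≫ r = k.gA p chart)

/-- the lifted chart -/
noncomputable abbrev lft (k : Idx u) : k.X ⟶ W' :=
  IsOpenImmersion.lift w (k.cB p' chart') (hk k)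

theorem lft_fac (k : Idx u) : lft p' chart' w hk k ≫ w = k.cB p' chart' :=
  IsOpenImmersion.lift_fac _ _ _

theorem isOpenImmersion_lft (k : Idx u) : IsOpenImmersion (lft p' chart' w hk k) :=
  inferInstance

theorem exists_lft_eq (k : Idx u) (x : W') (hx : w x ∈ Set.range (k.cB p' chart')) :
    ∃ z, lft p' chart' w hk k z = x := by
  obtain ⟨z, hz⟩ := hx
  refine ⟨z, w.isOpenEmbedding.injective ?_⟩
  rw [← Scheme.Hom.comp_apply, lft_fac]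
  exact hz

theorem w_lft_apply (k : Idx u) (z : k.X) :
    w (lft p' chart' w hk k z) =
      RelProj.emb p' chart' k.U' k.hU'
        (Proj.awayι (𝒮'.deg k.U' k.hU') (k.ψ k.f) (Graded.map_mem k.ψ k.hf) k.hd z) := by
  have := congrArg (fun g : k.X ⟶ P' => g z) (lft_fac p' chart' w hk k)
  exact this

include hr in
theorem r_lft_apply (k : Idx u) (z : k.X) :
    r (lft p' chart' w hk k z) =
      RelProj.emb p chart k.U k.hU
        (Proj.awayι (𝒮.deg k.U k.hU) k.f k.hf k.hd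
          (Spec.map (CommRingCat.ofHom (Away.map k.ψ k.f)) z)) := by
  have := congrArg (fun g : k.X ⟶ P => g z) (hr k)
  exact this

include hr in
theorem lft_image_le_r (k : Idx u) :
    lft p' chart' w hk k ''ᵁ ⊤ ≤
      r ⁻¹ᵁ (RelProj.emb p chart k.U k.hU ''ᵁ Proj.basicOpen (𝒮.deg k.U k.hU) k.f) := by
  rintro _ ⟨z, -, rfl⟩
  exact ⟨_, awayι_mem_basicOpen k.hd k.hf _,
    (r_lft_apply p chart p' chart' w r hk hr k z).symm⟩

theorem w_image_lft_image_le (k : Idx u) :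
    w ''ᵁ (lft p' chart' w hk k ''ᵁ ⊤) ≤ BB p' chart' k := by
  rintro _ ⟨_, ⟨z, -, rfl⟩, rfl⟩
  exact ⟨_, awayι_mem_basicOpen k.hd (Graded.map_mem k.ψ k.hf) _,
    (w_lft_apply p' chart' w hk k z).symm⟩

include hr in
theorem r_mem (k : Idx u) (x : W') (hx : w x ∈ BB p' chart' k) :
    r x ∈ RelProj.emb p chart k.U k.hU ''ᵁ Proj.basicOpen (𝒮.deg k.U k.hU) k.f := by
  obtain ⟨z, rfl⟩ := exists_lft_eq p' chart' w hk k x ((mem_BB_iff p' chart' k _).mp hx)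
  exact lft_image_le_r p chart p' chart' w r hk hr k ⟨z, trivial, rfl⟩

end lift

section core

variable {p chart p' chart'}
variable {n : ℤ} {L : P.Modules}
  {lam : ∀ (U : Y.Opens) (hU : IsAffineOpen U),
    L ⟶ (Scheme.Modules.pushforward (RelProj.emb p chart U hU)).obj
      (GrTwist.twist (𝒮.deg U hU) n)}
  {L' : P'.Modules}
  {lam' : ∀ (U : X.Opens) (hU : IsAffineOpen U),
    L' ⟶ (Scheme.Modules.pushforward (RelProj.emb p' chart' U hU)).obj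
      (GrTwist.twist (𝒮'.deg U hU) n)}
  (hL : RelProj.IsRelTwist 𝒮 p chart n L lam)
  (hL' : RelProj.IsRelTwist 𝒮' p' chart' n L' lam')
  (w : W' ⟶ P') [IsOpenImmersion w] (r : W' ⟶ P)
  (hk : ∀ k : Idx u, Set.range (k.cB p' chart').base ⊆ Set.range w.base)
  (hr : ∀ k : Idx u, IsOpenImmersion.lift w (k.cB p' chart') (hk k) ≫ r = k.gA p chart)

include hr in
/-- the pullbacks of the coordinate functions agree -/
theorem appLE_chartFun (k : Idx u) (g₀ : Away (𝒮.deg k.U k.hU) k.f)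
    (hTA : lft p' chart' w hk k ''ᵁ ⊤ ≤
      r ⁻¹ᵁ (RelProj.emb p chart k.U k.hU ''ᵁ Proj.basicOpen (𝒮.deg k.U k.hU) k.f))
    (hTB : lft p' chart' w hk k ''ᵁ ⊤ ≤ w ⁻¹ᵁ BB p' chart' k) :
    r.appLE _ _ hTA (chartFun chart k.U k.hU k.f g₀) =
      w.appLE _ _ hTB (chartFun chart' k.U' k.hU' (k.ψ k.f) (Away.map k.ψ k.f g₀)) := by
  set c := lft p' chart' w hk k with hc
  have e₀ : (⊤ : k.X.Opens) ≤ c ⁻¹ᵁ (c ''ᵁ ⊤) := (c.preimage_image_eq ⊤).ge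
  haveI : IsIso (c.appLE (c ''ᵁ ⊤) ⊤ e₀) := by
    have := Scheme.Hom.appIso_hom' c ⊤
    rw [← this]
    infer_instance
  have hinj : Function.Injective (c.appLE (c ''ᵁ ⊤) ⊤ e₀).hom :=
    ((ConcreteCategory.isIso_iff_bijective (c.appLE (c ''ᵁ ⊤) ⊤ e₀)).mp inferInstance).1
  apply hinj
  -- left hand side
  have e₃ : (⊤ : k.X.Opens) ≤ (c ≫ r) ⁻¹ᵁ
      (RelProj.emb p chart k.U k.hU ''ᵁ Proj.basicOpen (𝒮.deg k.U k.hU) k.f) :=
    fun z _ => hTA ⟨z, trivial, rfl⟩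
  have e₃' : (⊤ : k.X.Opens) ≤ (k.gA p chart) ⁻¹ᵁ
      (RelProj.emb p chart k.U k.hU ''ᵁ Proj.basicOpen (𝒮.deg k.U k.hU) k.f) := by
    rw [← hr k]; exact e₃
  have e₅ : (⊤ : (Spec (.of (Away (𝒮.deg k.U k.hU) k.f))).Opens) ≤
      (Proj.awayι (𝒮.deg k.U k.hU) k.f k.hf k.hd ≫ RelProj.emb p chart k.U k.hU) ⁻¹ᵁ
        (RelProj.emb p chart k.U k.hU ''ᵁ Proj.basicOpen (𝒮.deg k.U k.hU) k.f) :=
    fun z _ => ⟨_, awayι_mem_basicOpen k.hd k.hf z, rfl⟩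
  have hL1 : (c.appLE (c ''ᵁ ⊤) ⊤ e₀).hom (r.appLE _ _ hTA (chartFun chart k.U k.hU k.f g₀)) =
      (c ≫ r).appLE _ ⊤ e₃ (chartFun chart k.U k.hU k.f g₀) :=
    congrArg (fun m => m.hom (chartFun chart k.U k.hU k.f g₀))
      (Scheme.Hom.appLE_comp_appLE c r _ _ ⊤ hTA e₀)
  have hL2 : (c ≫ r).appLE _ ⊤ e₃ (chartFun chart k.U k.hU k.f g₀) =
      (k.gA p chart).appLE _ ⊤ e₃' (chartFun chart k.U k.hU k.f g₀) :=
    congrArg (fun m => m.hom (chartFun chart k.U k.hU k.f g₀))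
      (PConeTwist.appLE_congr_hom' (hr k) _ _ e₃ e₃')
  have hL3 : (k.gA p chart).appLE _ ⊤ e₃' (chartFun chart k.U k.hU k.f g₀) =
      (Spec.map (CommRingCat.ofHom (Away.map k.ψ k.f))).appTop
        ((Proj.awayι (𝒮.deg k.U k.hU) k.f k.hf k.hd ≫ RelProj.emb p chart k.U k.hU).appLE _ ⊤ e₅
          (chartFun chart k.U k.hU k.f g₀)) :=
    congrArg (fun m => m.hom (chartFun chart k.U k.hU k.f g₀))
      (ToProj.comp_appLE_top (Spec.map (CommRingCat.ofHom (Away.map k.ψ k.f)))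
        (Proj.awayι (𝒮.deg k.U k.hU) k.f k.hf k.hd ≫ RelProj.emb p chart k.U k.hU) _ e₅ e₃')
  have hL4 : (Spec.map (CommRingCat.ofHom (Away.map k.ψ k.f))).appTop
      ((Scheme.ΓSpecIso (.of (Away (𝒮.deg k.U k.hU) k.f))).inv g₀) =
      (Scheme.ΓSpecIso (.of (Away (𝒮'.deg k.U' k.hU') (k.ψ k.f)))).inv (Away.map k.ψ k.f g₀) :=
    (congrArg (fun m => m.hom g₀)
      (Scheme.ΓSpecIso_inv_naturality (CommRingCat.ofHom (Away.map k.ψ k.f)))).symm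
  -- right hand side
  have e₄ : (⊤ : k.X.Opens) ≤ (c ≫ w) ⁻¹ᵁ BB p' chart' k :=
    fun z _ => hTB ⟨z, trivial, rfl⟩
  have e₄' : (⊤ : k.X.Opens) ≤
      (Proj.awayι (𝒮'.deg k.U' k.hU') (k.ψ k.f) (Graded.map_mem k.ψ k.hf) k.hd ≫
        RelProj.emb p' chart' k.U' k.hU') ⁻¹ᵁ BB p' chart' k :=
    fun z _ => ⟨_, awayι_mem_basicOpen k.hd (Graded.map_mem k.ψ k.hf) z, rfl⟩
  have hR1 : (c.appLE (c ''ᵁ ⊤) ⊤ e₀).hom
      (w.appLE _ _ hTB (chartFun chart' k.U' k.hU' (k.ψ k.f) (Away.map k.ψ k.f g₀))) =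
      (c ≫ w).appLE _ ⊤ e₄ (chartFun chart' k.U' k.hU' (k.ψ k.f) (Away.map k.ψ k.f g₀)) :=
    congrArg (fun m => m.hom (chartFun chart' k.U' k.hU' (k.ψ k.f) (Away.map k.ψ k.f g₀)))
      (Scheme.Hom.appLE_comp_appLE c w _ _ ⊤ hTB e₀)
  have hR2 : (c ≫ w).appLE _ ⊤ e₄
      (chartFun chart' k.U' k.hU' (k.ψ k.f) (Away.map k.ψ k.f g₀)) =
      (Proj.awayι (𝒮'.deg k.U' k.hU') (k.ψ k.f) (Graded.map_mem k.ψ k.hf) k.hd ≫
        RelProj.emb p' chart' k.U' k.hU').appLE _ ⊤ e₄'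
        (chartFun chart' k.U' k.hU' (k.ψ k.f) (Away.map k.ψ k.f g₀)) :=
    congrArg (fun m => m.hom (chartFun chart' k.U' k.hU' (k.ψ k.f) (Away.map k.ψ k.f g₀)))
      (PConeTwist.appLE_congr_hom' (lft_fac p' chart' w hk k) _ _ e₄ e₄')
  rw [hL1, hL2, hL3, chartFun_coord k.U k.hU k.hd k.hf g₀ e₅, hL4, hR1, hR2,
    chartFun_coord k.U' k.hU' k.hd (Graded.map_mem k.ψ k.hf) (Away.map k.ψ k.f g₀) e₄']

include hL hL' hr in
/-- the local relation, on a common chart -/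
theorem core (k : Idx u) (m : ℕ) (a0 : 𝒮.presheaf.obj (op k.U))
    (ha0 : a0 ∈ 𝒮.deg k.U k.hU (m • k.d))
    {ti tj : Γ(L, RelProj.emb p chart k.U k.hU ''ᵁ Proj.basicOpen (𝒮.deg k.U k.hU) k.f)}
    {x y x' y' : 𝒮.presheaf.obj (op k.U)}
    (hti : Reads lam k.U k.hU _ ti x y) (htj : Reads lam k.U k.hU _ tj x' y')
    (hid : x * (k.f ^ m * y') = a0 * x' * y)
    {ti' tj' : Γ(L', BB p' chart' k)}
    {x₁ y₁ x₁' y₁' : 𝒮'.presheaf.obj (op k.U')}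
    (hti' : Reads lam' k.U' k.hU' _ ti' x₁ y₁) (htj' : Reads lam' k.U' k.hU' _ tj' x₁' y₁')
    (hid' : x₁ * (k.ψ k.f ^ m * y₁') = k.ψ a0 * x₁' * y₁) :
    ∃ (hTA : lft p' chart' w hk k ''ᵁ ⊤ ≤
        r ⁻¹ᵁ (RelProj.emb p chart k.U k.hU ''ᵁ Proj.basicOpen (𝒮.deg k.U k.hU) k.f))
      (hTB : w ''ᵁ (lft p' chart' w hk k ''ᵁ ⊤) ≤ BB p' chart' k)
      (γ₂ : Γ(P', w ''ᵁ (lft p' chart' w hk k ''ᵁ ⊤))),
      res _ hTA (PbBasic.pull r L _ ti) =
        (w.appIso (lft p' chart' w hk k ''ᵁ ⊤)).hom γ₂ • res _ hTA (PbBasic.pull r L _ tj) ∧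
      res L' hTB ti' = γ₂ • res L' hTB tj' := by
  have hTA := lft_image_le_r p chart p' chart' w r hk hr k
  have hTB := w_image_lft_image_le p' chart' w hk k
  have hTB' : lft p' chart' w hk k ''ᵁ ⊤ ≤ w ⁻¹ᵁ BB p' chart' k :=
    fun y hy => hTB ⟨y, hy, rfl⟩
  -- the relation on `P`
  have R1 : ti = chartFun chart k.U k.hU k.f (Away.mk (𝒮.deg k.U k.hU) k.hf m a0 ha0) • tj :=
    eq_chartFun_smul hL k.U k.hU k.hf m a0 ha0 hti htj hid
  -- the relation on `P'`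
  have R2 : ti' = chartFun chart' k.U' k.hU' (k.ψ k.f)
      (Away.mk (𝒮'.deg k.U' k.hU') (Graded.map_mem k.ψ k.hf) m (k.ψ a0)
        (Graded.map_mem k.ψ ha0)) • tj' :=
    eq_chartFun_smul hL' k.U' k.hU' (Graded.map_mem k.ψ k.hf) m (k.ψ a0)
      (Graded.map_mem k.ψ ha0) hti' htj' hid'
  have R3 := appLE_chartFun (p := p) (chart := chart) (p' := p') (chart' := chart') w r hk hr k
    (Away.mk (𝒮.deg k.U k.hU) k.hf m a0 ha0) hTA hTB'
  rw [Away.map_mk] at R3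
  refine ⟨hTA, hTB, rres P' hTB (chartFun chart' k.U' k.hU' (k.ψ k.f)
      (Away.mk (𝒮'.deg k.U' k.hU') (Graded.map_mem k.ψ k.hf) m (k.ψ a0)
        (Graded.map_mem k.ψ ha0))), ?_, ?_⟩
  · have h1 := PConeTwist.pull_trans r L (le_refl _) (le_refl _) _ hTA hTA hTA ti tj _
      (by rw [res_self, res_self]; exact R1)
    rw [h1]
    congr 1
    rw [R3, Scheme.Hom.appIso_hom']
    exact (ToProj.appLE_rres w hTB _ _ _).symm
  · rw [R2, res_smul]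

end core


section main

variable {p chart p' chart'}
variable {n : ℤ} {L : P.Modules}
  {lam : ∀ (U : Y.Opens) (hU : IsAffineOpen U),
    L ⟶ (Scheme.Modules.pushforward (RelProj.emb p chart U hU)).obj
      (GrTwist.twist (𝒮.deg U hU) n)}
  {L' : P'.Modules}
  {lam' : ∀ (U : X.Opens) (hU : IsAffineOpen U),
    L' ⟶ (Scheme.Modules.pushforward (RelProj.emb p' chart' U hU)).obj
      (GrTwist.twist (𝒮'.deg U hU) n)}
  (hP : RelProj.IsRelProj 𝒮 p chart) (hP' : RelProj.IsRelProj 𝒮' p' chart')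
  (hL : RelProj.IsRelTwist 𝒮 p chart n L lam)
  (hL' : RelProj.IsRelTwist 𝒮' p' chart' n L' lam')
  (w : W' ⟶ P') [IsOpenImmersion w] (r : W' ⟶ P)
  (hk : ∀ k : Idx u, Set.range (k.cB p' chart').base ⊆ Set.range w.base)
  (hr : ∀ k : Idx u, IsOpenImmersion.lift w (k.cB p' chart') (hk k) ≫ r = k.gA p chart)

include hP hP' hL hL' hr in
/-- the local relation between the standard generators attached to two indices -/
theorem local_rel (a b : ℕ) (i j : Idx1 u)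
    (ei : Γ(L, i.A p chart)) (hei : Reads lam i.U i.hU _ ei (i.f ^ a) (i.f ^ b))
    (ej : Γ(L, j.A p chart)) (hej : Reads lam j.U j.hU _ ej (j.f ^ a) (j.f ^ b))
    (ei' : Γ(L', i.B p' chart'))
    (hei' : Reads lam' i.U' i.hU' _ ei' (i.ψ i.f ^ a) (i.ψ i.f ^ b))
    (ej' : Γ(L', j.B p' chart'))
    (hej' : Reads lam' j.U' j.hU' _ ej' (j.ψ j.f ^ a) (j.ψ j.f ^ b))
    (x : W') (hxi : w x ∈ i.B p' chart') (hxj : w x ∈ j.B p' chart') :
    ∃ (T : W'.Opens) (hTi : w ''ᵁ T ≤ i.B p' chart') (hTj : w ''ᵁ T ≤ j.B p' chart')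
      (hTAi : T ≤ r ⁻¹ᵁ i.A p chart) (hTAj : T ≤ r ⁻¹ᵁ j.A p chart)
      (γ₂ : Γ(P', w ''ᵁ T)), x ∈ T ∧
      res _ hTAi (PbBasic.pull r L _ ei) =
        (w.appIso T).hom γ₂ • res _ hTAj (PbBasic.pull r L _ ej) ∧
      res L' hTi ei' = γ₂ • res L' hTj ej' := by
  classical
  have hptUi : p' (w x) ∈ i.U' := p'_mem_of_mem_image p' chart' i.U' i.hU' _ _ hxi
  have hptUj : p' (w x) ∈ j.U' := p'_mem_of_mem_image p' chart' j.U' j.hU' _ _ hxj
  have hgUi : q (p' (w x)) ∈ i.U := i.hle hptUi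
  have hgUj : q (p' (w x)) ∈ j.U := j.hle hptUj
  obtain ⟨s, t, hst, hxs⟩ :=
    exists_basicOpen_le_affine_inter i.hU j.hU (q (p' (w x))) ⟨hgUi, hgUj⟩
  have hU₃ : IsAffineOpen (Y.basicOpen s) := i.hU.basicOpen s
  have eU1 := Scheme.basicOpen_appLE q i.U' i.U i.hle s
  have eU2 := Scheme.basicOpen_appLE q j.U' j.U j.hle t
  have hU1 := i.hU'.basicOpen (q.appLE i.U i.U' i.hle s)
  have hU2 := j.hU'.basicOpen (q.appLE j.U j.U' j.hle t)
  have hpt1 : p' (w x) ∈ X.basicOpen (q.appLE i.U i.U' i.hle s) := by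
    rw [eU1]; exact ⟨hptUi, hxs⟩
  have hpt2 : p' (w x) ∈ X.basicOpen (q.appLE j.U j.U' j.hle t) := by
    rw [eU2, ← hst]; exact ⟨hptUj, hxs⟩
  obtain ⟨b1, b2, hb, hxb⟩ := exists_basicOpen_le_affine_inter hU1 hU2 (p' (w x)) ⟨hpt1, hpt2⟩
  have hU₃' : IsAffineOpen (X.basicOpen b1) := hU1.basicOpen b1
  have hle₃ : X.basicOpen b1 ≤ q ⁻¹ᵁ Y.basicOpen s :=
    (X.basicOpen_le b1).trans (eU1.le.trans inf_le_right)
  -- the restricted elements
  have hiU : Y.basicOpen s ≤ i.U := Y.basicOpen_le s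
  have hjU : Y.basicOpen s ≤ j.U := hst.le.trans (Y.basicOpen_le t)
  have hFi : 𝒮.res i.hU hU₃ hiU i.f ∈ 𝒮.deg (Y.basicOpen s) hU₃ 1 :=
    Graded.map_mem (𝒮.res i.hU hU₃ hiU) i.hf
  have hFj : 𝒮.res j.hU hU₃ hjU j.f ∈ 𝒮.deg (Y.basicOpen s) hU₃ 1 :=
    Graded.map_mem (𝒮.res j.hU hU₃ hjU) j.hf
  have hF : 𝒮.res i.hU hU₃ hiU i.f * 𝒮.res j.hU hU₃ hjU j.f ∈ 𝒮.deg (Y.basicOpen s) hU₃ 2 :=
    SetLike.mul_mem_graded hFi hFj
  have ha0 : (𝒮.res i.hU hU₃ hiU i.f ^ a * 𝒮.res j.hU hU₃ hjU j.f ^ b) ^ 2 ∈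
      𝒮.deg (Y.basicOpen s) hU₃ ((a + b) • 2) := by
    have h1 := SetLike.pow_mem_graded 2
      (SetLike.mul_mem_graded (SetLike.pow_mem_graded a hFi) (SetLike.pow_mem_graded b hFj))
    refine mem_deg_of_eq ?_ h1
    simp only [smul_eq_mul]
    ring
  -- the common chart
  let k₃ : Idx u := ⟨Y.basicOpen s, hU₃, X.basicOpen b1, hU₃', hle₃, 2, two_pos,
    𝒮.res i.hU hU₃ hiU i.f * 𝒮.res j.hU hU₃ hjU j.f, hF⟩
  haveI := isOpenImmersion_lft p' chart' w hk k₃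
  -- compatibilities with `u`
  have h1i : X.basicOpen (q.appLE i.U i.U' i.hle s) ≤ i.U' := X.basicOpen_le _
  have h1j : X.basicOpen (q.appLE j.U j.U' j.hle t) ≤ j.U' := X.basicOpen_le _
  have h2i : X.basicOpen b1 ≤ X.basicOpen (q.appLE i.U i.U' i.hle s) := X.basicOpen_le b1
  have h2j : X.basicOpen b1 ≤ X.basicOpen (q.appLE j.U j.U' j.hle t) :=
    hb.le.trans (X.basicOpen_le b2)
  have key_i : 𝒮'.res hU1 hU₃' h2i (𝒮'.res i.hU' hU1 h1i (i.ψ i.f)) =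
      k₃.ψ (𝒮.res i.hU hU₃ hiU i.f) :=
    key u i.hU hU₃ i.hU' hU1 hU₃' i.hle hle₃ hiU h1i h2i i.f
  have key_j : 𝒮'.res hU2 hU₃' h2j (𝒮'.res j.hU' hU2 h1j (j.ψ j.f)) =
      k₃.ψ (𝒮.res j.hU hU₃ hjU j.f) :=
    key u j.hU hU₃ j.hU' hU2 hU₃' j.hle hle₃ hjU h1j h2j j.f
  -- inclusions of opens on `P`
  have hA₃i : RelProj.emb p chart k₃.U k₃.hU ''ᵁ Proj.basicOpen (𝒮.deg k₃.U k₃.hU) k₃.f ≤
      i.A p chart :=
    image_le_image_basic hP s hU₃ rfl i.f _ (by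
      change Proj.basicOpen _ (𝒮.res i.hU hU₃ hiU i.f * 𝒮.res j.hU hU₃ hjU j.f) ≤ _
      rw [Proj.basicOpen_mul]; exact inf_le_left)
  have hA₃j : RelProj.emb p chart k₃.U k₃.hU ''ᵁ Proj.basicOpen (𝒮.deg k₃.U k₃.hU) k₃.f ≤
      j.A p chart :=
    image_le_image_basic hP t hU₃ hst j.f _ (by
      change Proj.basicOpen _ (𝒮.res i.hU hU₃ hiU i.f * 𝒮.res j.hU hU₃ hjU j.f) ≤ _
      rw [Proj.basicOpen_mul]; exact inf_le_right)
  -- inclusions of opens on `P'`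
  have hψF : k₃.ψ k₃.f = k₃.ψ (𝒮.res i.hU hU₃ hiU i.f) * k₃.ψ (𝒮.res j.hU hU₃ hjU j.f) :=
    map_mul k₃.ψ _ _
  have hB₃i : BB p' chart' k₃ ≤ i.B p' chart' := by
    refine (image_le_image_basic hP' b1 hU₃' rfl (𝒮'.res i.hU' hU1 h1i (i.ψ i.f)) _ ?_).trans
      (image_le_image_basic hP' (q.appLE i.U i.U' i.hle s) hU1 rfl (i.ψ i.f) _ le_rfl)
    change Proj.basicOpen _ (k₃.ψ k₃.f) ≤
      Proj.basicOpen _ (𝒮'.res hU1 hU₃' h2i (𝒮'.res i.hU' hU1 h1i (i.ψ i.f)))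
    rw [key_i, hψF, Proj.basicOpen_mul]
    exact inf_le_left
  have hB₃j : BB p' chart' k₃ ≤ j.B p' chart' := by
    refine (image_le_image_basic hP' b2 hU₃' hb (𝒮'.res j.hU' hU2 h1j (j.ψ j.f)) _ ?_).trans
      (image_le_image_basic hP' (q.appLE j.U j.U' j.hle t) hU2 rfl (j.ψ j.f) _ le_rfl)
    change Proj.basicOpen _ (k₃.ψ k₃.f) ≤
      Proj.basicOpen _ (𝒮'.res hU2 hU₃' h2j (𝒮'.res j.hU' hU2 h1j (j.ψ j.f)))
    rw [key_j, hψF, Proj.basicOpen_mul]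
    exact inf_le_right
  -- readings on `P`
  have hti : Reads lam k₃.U k₃.hU _ (res L hA₃i ei)
      (𝒮.res i.hU hU₃ hiU i.f ^ a) (𝒮.res i.hU hU₃ hiU i.f ^ b) :=
    ((hei.res hA₃i).basic hP hL s hU₃ rfl).congr (map_pow _ _ _) (map_pow _ _ _)
  have htj : Reads lam k₃.U k₃.hU _ (res L hA₃j ej)
      (𝒮.res j.hU hU₃ hjU j.f ^ a) (𝒮.res j.hU hU₃ hjU j.f ^ b) :=
    ((hej.res hA₃j).basic hP hL t hU₃ hst).congr (map_pow _ _ _) (map_pow _ _ _)
  -- readings on `P'`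
  have hti' : Reads lam' k₃.U' k₃.hU' _ (res L' hB₃i ei')
      (k₃.ψ (𝒮.res i.hU hU₃ hiU i.f) ^ a) (k₃.ψ (𝒮.res i.hU hU₃ hiU i.f) ^ b) :=
    (((hei'.res hB₃i).basic hP' hL' (q.appLE i.U i.U' i.hle s) hU1 rfl).basic hP' hL' b1 hU₃'
      rfl).congr (by rw [← key_i, map_pow, map_pow]) (by rw [← key_i, map_pow, map_pow])
  have htj' : Reads lam' k₃.U' k₃.hU' _ (res L' hB₃j ej')
      (k₃.ψ (𝒮.res j.hU hU₃ hjU j.f) ^ a) (k₃.ψ (𝒮.res j.hU hU₃ hjU j.f) ^ b) :=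
    (((hej'.res hB₃j).basic hP' hL' (q.appLE j.U j.U' j.hle t) hU2 rfl).basic hP' hL' b2 hU₃'
      hb).congr (by rw [← key_j, map_pow, map_pow]) (by rw [← key_j, map_pow, map_pow])
  -- the core
  obtain ⟨hTA, hTB, γ₂, h1, h2⟩ := core hL hL' w r hk hr k₃ (a + b)
    ((𝒮.res i.hU hU₃ hiU i.f ^ a * 𝒮.res j.hU hU₃ hjU j.f ^ b) ^ 2) ha0 hti htj
    (by change _ * ((𝒮.res i.hU hU₃ hiU i.f * 𝒮.res j.hU hU₃ hjU j.f) ^ (a + b) * _) = _; ring)
    hti' htj'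
    (by
      rw [hψF]
      simp only [map_mul, map_pow]
      ring)
  -- the point lies in the chart
  have hxT : x ∈ lft p' chart' w hk k₃ ''ᵁ ⊤ := by
    obtain ⟨y₃, hy₃⟩ := ProjQMap.exists_emb_eq p' chart' (X.basicOpen b1) hU₃' (w x) hxb
    have hni : k₃.ψ (𝒮.res i.hU hU₃ hiU i.f) ∉ y₃.asHomogeneousIdeal := by
      rw [← key_i]
      refine notMem_of_mem_image hP' (q.appLE i.U i.U' i.hle s) hU1 rfl (i.ψ i.f)
        (ProjectiveSpectrum.comap (𝒮'.res hU1 hU₃' h2i)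
          (RelTwistExist.hirr_of_eq hU1 hU₃' b1 rfl) y₃) ?_
      rw [RelTwistExist.emb_comap hP' hU1 hU₃' b1 rfl y₃]
      change RelProj.emb p' chart' (X.basicOpen b1) hU₃' y₃ ∈ _
      rw [hy₃]
      exact hxi
    have hnj : k₃.ψ (𝒮.res j.hU hU₃ hjU j.f) ∉ y₃.asHomogeneousIdeal := by
      rw [← key_j]
      refine notMem_of_mem_image hP' (q.appLE j.U j.U' j.hle t) hU2 rfl (j.ψ j.f)
        (ProjectiveSpectrum.comap (𝒮'.res hU2 hU₃' h2j)
          (RelTwistExist.hirr_of_eq hU2 hU₃' b2 hb) y₃) ?_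
      rw [RelTwistExist.emb_comap hP' hU2 hU₃' b2 hb y₃]
      change RelProj.emb p' chart' (X.basicOpen b1) hU₃' y₃ ∈ _
      rw [hy₃]
      exact hxj
    have hmem : w x ∈ BB p' chart' k₃ := by
      refine ⟨y₃, ?_, hy₃⟩
      change k₃.ψ k₃.f ∉ y₃.asHomogeneousIdeal
      rw [hψF]
      exact fun h => (y₃.isPrime.mem_or_mem h).elim hni hnj
    obtain ⟨z, hz⟩ := exists_lft_eq p' chart' w hk k₃ x ((mem_BB_iff p' chart' k₃ _).mp hmem)
    exact ⟨z, trivial, hz⟩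
  refine ⟨lft p' chart' w hk k₃ ''ᵁ ⊤, hTB.trans hB₃i, hTB.trans hB₃j,
    hTA.trans (r.preimage_mono hA₃i), hTA.trans (r.preimage_mono hA₃j), γ₂, hxT, ?_, ?_⟩
  · have e1 : res _ (hTA.trans (r.preimage_mono hA₃i)) (PbBasic.pull r L _ ei) =
        res _ hTA (PbBasic.pull r L _ (res L hA₃i ei)) := by
      rw [← PbBasic.res_pull r L hA₃i ei, res_res]
    have e2 : res _ (hTA.trans (r.preimage_mono hA₃j)) (PbBasic.pull r L _ ej) =
        res _ hTA (PbBasic.pull r L _ (res L hA₃j ej)) := by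
      rw [← PbBasic.res_pull r L hA₃j ej, res_res]
    rw [e1, e2]
    exact h1
  · have e1 : res L' (hTB.trans hB₃i) ei' = res L' hTB (res L' hB₃i ei') := (res_res _ _ _ _).symm
    have e2 : res L' (hTB.trans hB₃j) ej' = res L' hTB (res L' hB₃j ej') := (res_res _ _ _ _).symm
    rw [e1, e2]
    exact h2


include hP hP' hL hL' hr in
/-- `r^* O_P(n) ≅ O_{P'}(n)|_{W'}` for `r = Proj(u)` on an open `W'` of `G(u)` containing all
standard charts, `𝒮` generated in degree one -/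
theorem nonempty_iso (hwd : ∀ x : W', w x ∈ RelProj.domQ u p' chart') (hgen : 𝒮.IsGenDegOne) :
    Nonempty ((Scheme.Modules.pullback r).obj L ≅ L'.restrict w) := by
  classical
  choose e he_gen he_reads using fun i : Idx1 u => exists_gen hL i.U i.hU i.f i.hf
  choose e' he'_gen he'_reads using fun i : Idx1 u =>
    exists_gen hL' i.U' i.hU' (i.ψ i.f) (Graded.map_mem i.ψ i.hf)
  let V : Idx1 u → W'.Opens := fun i => w ⁻¹ᵁ i.B p' chart'
  have hVA : ∀ i : Idx1 u, V i ≤ r ⁻¹ᵁ i.A p chart := fun i x hx =>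
    r_mem p chart p' chart' w r hk hr i.toIdx x hx
  have hWB : ∀ i : Idx1 u, w ''ᵁ V i ≤ i.B p' chart' := by
    rintro i _ ⟨x, hx, rfl⟩
    exact hx
  have hcov : iSup V = ⊤ := by
    rw [eq_top_iff]
    intro x _
    have hx' := hwd x
    obtain ⟨U, hU, hxU⟩ := ProjQMap.exists_affine_mem (q (p' (w x)))
    obtain ⟨U', hU', hxU', hle⟩ := RLPsi.exists_affine_pair q (p' (w x)) U hxU
    obtain ⟨y, hyx, d, hd, g, hg, hgy⟩ :=
      RLPsi.loc_of_mem_domQ u hP' (w x) hx' U hU U' hU' hle hxU'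
    obtain ⟨f, hf, hfy⟩ : ∃ f ∈ 𝒮.deg U hU 1,
        (u.appLE U U' hle).hom f ∉ y.asHomogeneousIdeal := by
      by_contra hcon
      simp only [not_exists, not_and, not_not] at hcon
      apply hgy
      have h1 : Ideal.span (𝒮.deg U hU 1 : Set (𝒮.presheaf.obj (op U))) ≤
          y.asHomogeneousIdeal.toIdeal.comap (u.appLE U U' hle).hom :=
        Ideal.span_le.mpr fun f hf => hcon f hf
      exact h1 (GrTwistGen.irrelevant_le_span_one (hgen U hU)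
        (HomogeneousIdeal.mem_irrelevant_of_mem _ hd hg))
    refine Opens.mem_iSup.mpr ⟨⟨U, hU, U', hU', hle, f, hf⟩, ?_⟩
    exact ⟨y, hfy, hyx⟩
  let s : ∀ i : Idx1 u, Γ((Scheme.Modules.pullback r).obj L, V i) := fun i =>
    res _ (hVA i) (PbBasic.pull r L _ (e i))
  have hs : ∀ i, IsGen _ (V i) (s i) := fun i =>
    (PbBasic.isGen_pull r (he_gen i)).mono (hVA i)
  let s' : ∀ i : Idx1 u, Γ(L'.restrict w, V i) := fun i => res L' (hWB i) (e' i)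
  have hs' : ∀ i, IsGen _ (V i) (s' i) := fun i =>
    (InvRestrict.isGen_restrict_iff w _ _ _).mpr ((he'_gen i).mono (hWB i))
  obtain ⟨φ, -⟩ := CocycleLocal.exists_iso_of_local V hcov s s' hs hs' (by
    intro i j x hxi hxj
    obtain ⟨T, hTi, hTj, hTAi, hTAj, γ₂, hxT, h1, h2⟩ :=
      local_rel hP hP' hL hL' w r hk hr n.toNat (-n).toNat i j (e i) (he_reads i) (e j)
        (he_reads j) (e' i) (he'_reads i) (e' j) (he'_reads j) x hxi hxj
    have hTVi : T ≤ V i := fun y hy => hTi ⟨y, hy, rfl⟩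
    have hTVj : T ≤ V j := fun y hy => hTj ⟨y, hy, rfl⟩
    refine ⟨T, hTVi, hTVj, (w.appIso T).hom γ₂, hxT, ?_, ?_⟩
    · change res _ hTVi (res _ (hVA i) (PbBasic.pull r L _ (e i))) =
        (w.appIso T).hom γ₂ • res _ hTVj (res _ (hVA j) (PbBasic.pull r L _ (e j)))
      rw [res_res, res_res]
      exact h1
    · rw [InvRestrict.smul_X_eq, InvRestrict.res_restrict, InvRestrict.res_restrict]
      change res L' _ (res L' (hWB i) (e' i)) = γ₂ • res L' _ (res L' (hWB j) (e' j))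
      rw [res_res, res_res]
      exact h2)
  exact ⟨φ⟩

end main

section cor

variable {p chart p' chart'}
variable {n : ℤ} {L : P.Modules}
  {lam : ∀ (U : Y.Opens) (hU : IsAffineOpen U),
    L ⟶ (Scheme.Modules.pushforward (RelProj.emb p chart U hU)).obj
      (GrTwist.twist (𝒮.deg U hU) n)}
  {L' : P'.Modules}
  {lam' : ∀ (U : X.Opens) (hU : IsAffineOpen U),
    L' ⟶ (Scheme.Modules.pushforward (RelProj.emb p' chart' U hU)).obj
      (GrTwist.twist (𝒮'.deg U hU) n)}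

/-- the case of `Proj(u)` on `G(u)` -/
theorem nonempty_iso_on (hP : RelProj.IsRelProj 𝒮 p chart)
    (hP' : RelProj.IsRelProj 𝒮' p' chart')
    (hL : RelProj.IsRelTwist 𝒮 p chart n L lam)
    (hL' : RelProj.IsRelTwist 𝒮' p' chart' n L' lam')
    (r : ((RelProj.domQ u p' chart' : P'.Opens) : Scheme.{u}) ⟶ P)
    (hr : RelProj.IsProjQMapOn u p chart p' chart' (RelProj.domQ u p' chart') r)
    (hgen : 𝒮.IsGenDegOne) :
    Nonempty ((Scheme.Modules.pullback r).obj L ≅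
      L'.restrict (RelProj.domQ u p' chart').ι) :=
  nonempty_iso hP hP' hL hL' (RelProj.domQ u p' chart').ι r
    (fun k => RelProj.range_awayEmb_subset_domQ u p' chart' k.U k.hU k.U' k.hU' k.hle k.hd k.f k.hf)
    (fun k => hr k.U k.hU k.U' k.hU' k.hle k.d k.hd k.f k.hf _)
    (fun x => x.2) hgen

/-- the case of an everywhere defined `Proj(u)` -/
theorem nonempty_iso_of_isProjQMap (hP : RelProj.IsRelProj 𝒮 p chart)
    (hP' : RelProj.IsRelProj 𝒮' p' chart')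
    (hL : RelProj.IsRelTwist 𝒮 p chart n L lam)
    (hL' : RelProj.IsRelTwist 𝒮' p' chart' n L' lam')
    (h : P' ⟶ P) (hh : RelProj.IsProjQMap u p chart p' chart' h) (hgen : 𝒮.IsGenDegOne) :
    Nonempty ((Scheme.Modules.pullback h).obj L ≅ L') := by
  have hk : ∀ k : Idx u, Set.range (k.cB p' chart').base ⊆ Set.range (𝟙 P' : P' ⟶ P').base :=
    fun k x _ => ⟨x, rfl⟩
  have hlift : ∀ k : Idx u, IsOpenImmersion.lift (𝟙 P') (k.cB p' chart') (hk k) =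
      k.cB p' chart' := fun k => by
    have := IsOpenImmersion.lift_fac (𝟙 P') (k.cB p' chart') (hk k)
    rwa [Category.comp_id] at this
  obtain ⟨φ⟩ := nonempty_iso hP hP' hL hL' (𝟙 P') h hk
    (fun k => by
      rw [hlift k]
      exact hh.2 k.U k.hU k.U' k.hU' k.hle k.d k.hd k.f k.hf)
    (fun x => by rw [hh.1]; trivial) hgen
  exact ⟨φ ≪≫ (Scheme.Modules.restrictFunctorId.app L')⟩

end cor

end Groth.Agent.Lib.Helper3.RelTwistQ
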