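import Groth.Agent.Lib.Helper3.RelTwistSec
import Groth.Agent.Lib.Helper3.TensorDesc
import Groth.Agent.Lib.Helper3.PbTensor

/-!
# `O_P(m) ⊗ O_P(n) ≅ O_P(m + n)` on a relative Proj of an algebra generated in degree one
-/

set_option autoImplicit false
set_option linter.unusedSectionVars false
universe u
open CategoryTheory CategoryTheory.Limits AlgebraicGeometry TopologicalSpace Opposite
open Scheme.Modules
open scoped HomogeneousIdeal

namespace Groth.Agent.Lib.Helper3.RelTwistTensor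

open QCSec InvGen GrModQC

section ring

variable {A σ : Type u} [CommRing A] [SetLike σ A] [AddSubgroupClass σ A] {𝒜 : ℕ → σ} [GradedRing 𝒜]

/-- the product of a section of `O(m)` and a section of `O(n)` -/
def tmul {m n : ℤ} {U : (Proj 𝒜).Opens} (a : Γ(GrTwist.twist 𝒜 m, U))
    (b : Γ(GrTwist.twist 𝒜 n, U)) : Γ(GrTwist.twist 𝒜 (m + n), U) :=
  mkSec (m + n) U (fun x => val a x * val b x) ((isLocFrac_val a).mul (isLocFrac_val b))

theorem val_tmul {m n : ℤ} {U : (Proj 𝒜).Opens} (a : Γ(GrTwist.twist 𝒜 m, U))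
    (b : Γ(GrTwist.twist 𝒜 n, U)) (x : U) : val (tmul a b) x = val a x * val b x := rfl

theorem tmul_add_left {m n : ℤ} {U : (Proj 𝒜).Opens} (a a' : Γ(GrTwist.twist 𝒜 m, U))
    (b : Γ(GrTwist.twist 𝒜 n, U)) : tmul (a + a') b = tmul a b + tmul a' b :=
  val_ext fun x => by rw [val_tmul, val_add, val_add, val_tmul, val_tmul, add_mul]

theorem tmul_add_right {m n : ℤ} {U : (Proj 𝒜).Opens} (a : Γ(GrTwist.twist 𝒜 m, U))
    (b b' : Γ(GrTwist.twist 𝒜 n, U)) : tmul a (b + b') = tmul a b + tmul a b' :=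
  val_ext fun x => by rw [val_tmul, val_add, val_add, val_tmul, val_tmul, mul_add]

theorem tmul_smul_left {m n : ℤ} {U : (Proj 𝒜).Opens} (c : Γ(Proj 𝒜, U))
    (a : Γ(GrTwist.twist 𝒜 m, U)) (b : Γ(GrTwist.twist 𝒜 n, U)) :
    tmul (c • a) b = c • tmul a b :=
  val_ext fun x => by rw [val_tmul, val_smul, val_smul, val_tmul, mul_assoc]

theorem tmul_smul_right {m n : ℤ} {U : (Proj 𝒜).Opens} (c : Γ(Proj 𝒜, U))
    (a : Γ(GrTwist.twist 𝒜 m, U)) (b : Γ(GrTwist.twist 𝒜 n, U)) :
    tmul a (c • b) = c • tmul a b :=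
  val_ext fun x => by rw [val_tmul, val_smul, val_smul, val_tmul, mul_left_comm]

theorem tmul_res {m n : ℤ} {U V : (Proj 𝒜).Opens} (h : V ≤ U) (a : Γ(GrTwist.twist 𝒜 m, U))
    (b : Γ(GrTwist.twist 𝒜 n, U)) :
    res (GrTwist.twist 𝒜 (m + n)) h (tmul a b) =
      tmul (res (GrTwist.twist 𝒜 m) h a) (res (GrTwist.twist 𝒜 n) h b) :=
  val_ext fun _ => rfl

theorem tmul_frac {m n : ℤ} (U : (Proj 𝒜).Opens) {i j i' j' : ℕ} (a : 𝒜 i) (b : 𝒜 j)
    (a' : 𝒜 i') (b' : 𝒜 j') (hb : ∀ x : U, b.1 ∉ x.1.asHomogeneousIdeal)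
    (hb' : ∀ x : U, b'.1 ∉ x.1.asHomogeneousIdeal) (hm : (i : ℤ) = j + m)
    (hn : (i' : ℤ) = j' + n) :
    tmul (frac U a b hb m hm) (frac U a' b' hb' n hn) =
      frac U ⟨a.1 * a'.1, SetLike.mul_mem_graded a.2 a'.2⟩
        ⟨b.1 * b'.1, SetLike.mul_mem_graded b.2 b'.2⟩
        (fun x hmem => (x.1.isPrime.mem_or_mem hmem).elim (hb x) (hb' x)) (m + n)
        (by push_cast; omega) :=
  val_ext fun x => by
    rw [val_tmul, val_frac, val_frac, val_frac, Localization.mk_mul]
    rfl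

/-- the product of two fractions generating `O(m)` and `O(n)` generates `O(m + n)` -/
theorem isGen_tmul_frac {m n : ℤ} (U : (Proj 𝒜).Opens) {i j i' j' : ℕ} (a : 𝒜 i) (b : 𝒜 j)
    (a' : 𝒜 i') (b' : 𝒜 j') (ha : ∀ x : U, a.1 ∉ x.1.asHomogeneousIdeal)
    (hb : ∀ x : U, b.1 ∉ x.1.asHomogeneousIdeal)
    (ha' : ∀ x : U, a'.1 ∉ x.1.asHomogeneousIdeal)
    (hb' : ∀ x : U, b'.1 ∉ x.1.asHomogeneousIdeal) (hm : (i : ℤ) = j + m)
    (hn : (i' : ℤ) = j' + n) :
    IsGen (GrTwist.twist 𝒜 (m + n)) U (tmul (frac U a b hb m hm) (frac U a' b' hb' n hn)) := by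
  rw [tmul_frac]
  exact GrTwistGen.isGen_frac U _ _
    (fun x hmem => (x.1.isPrime.mem_or_mem hmem).elim (ha x) (ha' x)) _ _ _

end ring

section rel

variable {Y P : Scheme.{u}} {𝒮 : RelProj.QCGrAlg Y} {p : P ⟶ Y}
  {chart : ∀ (U : Y.Opens) (hU : IsAffineOpen U),
    ((p ⁻¹ᵁ U : P.Opens) : Scheme.{u}) ≅ Proj (𝒮.deg U hU)}
  (hP : RelProj.IsRelProj 𝒮 p chart) {m n : ℤ} {L L' L'' : P.Modules}
  {lam : ∀ (U : Y.Opens) (hU : IsAffineOpen U),
    L ⟶ (Scheme.Modules.pushforward (RelProj.emb p chart U hU)).obj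
      (GrTwist.twist (𝒮.deg U hU) m)}
  {lam' : ∀ (U : Y.Opens) (hU : IsAffineOpen U),
    L' ⟶ (Scheme.Modules.pushforward (RelProj.emb p chart U hU)).obj
      (GrTwist.twist (𝒮.deg U hU) n)}
  {lam'' : ∀ (U : Y.Opens) (hU : IsAffineOpen U),
    L'' ⟶ (Scheme.Modules.pushforward (RelProj.emb p chart U hU)).obj
      (GrTwist.twist (𝒮.deg U hU) (m + n))}
  (hL : RelProj.IsRelTwist 𝒮 p chart m L lam) (hL' : RelProj.IsRelTwist 𝒮 p chart n L' lam')
  (hL'' : RelProj.IsRelTwist 𝒮 p chart (m + n) L'' lam'')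

include hP hL hL' hL'' in
theorem exists_pair (W : P.Opens) (a : Γ(L, W)) (b : Γ(L', W)) :
    ∃ c : Γ(L'', W), ∀ (U : Y.Opens) (hU : IsAffineOpen U),
      (lam'' U hU).app W c =
        tmul (show Γ(GrTwist.twist (𝒮.deg U hU) m, RelProj.emb p chart U hU ⁻¹ᵁ W) from
            (lam U hU).app W a)
          (show Γ(GrTwist.twist (𝒮.deg U hU) n, RelProj.emb p chart U hU ⁻¹ᵁ W) from
            (lam' U hU).app W b) := by
  refine RelTwistSec.exists_sec hP hL'' W _ ?_
  intro U hU r y hy hy'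
  have c1 := hL.compat U hU r W a y hy hy'
  have c2 := hL'.compat U hU r W b y hy hy'
  change GrTwist.val _ ⟨y, hy⟩ * GrTwist.val _ ⟨y, hy⟩ = _
  rw [c1, c2, ← map_mul]
  rfl

/-- the multiplication pairing `O_P(m) × O_P(n) → O_P(m + n)` -/
noncomputable def pair (W : P.Opens) (a : Γ(L, W)) (b : Γ(L', W)) : Γ(L'', W) :=
  (exists_pair hP hL hL' hL'' W a b).choose

theorem pair_spec (W : P.Opens) (a : Γ(L, W)) (b : Γ(L', W)) (U : Y.Opens)
    (hU : IsAffineOpen U) :
    (lam'' U hU).app W (pair hP hL hL' hL'' W a b) =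
      tmul (show Γ(GrTwist.twist (𝒮.deg U hU) m, RelProj.emb p chart U hU ⁻¹ᵁ W) from
          (lam U hU).app W a)
        (show Γ(GrTwist.twist (𝒮.deg U hU) n, RelProj.emb p chart U hU ⁻¹ᵁ W) from
          (lam' U hU).app W b) :=
  (exists_pair hP hL hL' hL'' W a b).choose_spec U hU

theorem app_smul_emb {k : ℤ} {K : P.Modules} (U : Y.Opens) (hU : IsAffineOpen U)
    (l : K ⟶ (Scheme.Modules.pushforward (RelProj.emb p chart U hU)).obj
      (GrTwist.twist (𝒮.deg U hU) k)) (W : P.Opens) (c : Γ(P, W)) (a : Γ(K, W)) :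
    (show Γ(GrTwist.twist (𝒮.deg U hU) k, RelProj.emb p chart U hU ⁻¹ᵁ W) from
        l.app W (c • a)) =
      (RelProj.emb p chart U hU).app W c •
        (show Γ(GrTwist.twist (𝒮.deg U hU) k, RelProj.emb p chart U hU ⁻¹ᵁ W) from
          l.app W a) := by
  rw [Scheme.Modules.Hom.app_smul]
  rfl

/-- the chartwise form of a section of `O_P(k)` -/
noncomputable def rd {k : ℤ} {K : P.Modules} (U : Y.Opens) (hU : IsAffineOpen U)
    (l : K ⟶ (Scheme.Modules.pushforward (RelProj.emb p chart U hU)).obj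
      (GrTwist.twist (𝒮.deg U hU) k)) (W : P.Opens) (a : Γ(K, W)) :
    Γ(GrTwist.twist (𝒮.deg U hU) k, RelProj.emb p chart U hU ⁻¹ᵁ W) := l.app W a

theorem rd_add {k : ℤ} {K : P.Modules} (U : Y.Opens) (hU : IsAffineOpen U)
    (l : K ⟶ (Scheme.Modules.pushforward (RelProj.emb p chart U hU)).obj
      (GrTwist.twist (𝒮.deg U hU) k)) (W : P.Opens) (a a' : Γ(K, W)) :
    rd U hU l W (a + a') = rd U hU l W a + rd U hU l W a' := map_add (l.app W).hom a a'

theorem rd_smul {k : ℤ} {K : P.Modules} (U : Y.Opens) (hU : IsAffineOpen U)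
    (l : K ⟶ (Scheme.Modules.pushforward (RelProj.emb p chart U hU)).obj
      (GrTwist.twist (𝒮.deg U hU) k)) (W : P.Opens) (c : Γ(P, W)) (a : Γ(K, W)) :
    rd U hU l W (c • a) = (RelProj.emb p chart U hU).app W c • rd U hU l W a :=
  app_smul_emb U hU l W c a

theorem rd_res {k : ℤ} {K : P.Modules} (U : Y.Opens) (hU : IsAffineOpen U)
    (l : K ⟶ (Scheme.Modules.pushforward (RelProj.emb p chart U hU)).obj
      (GrTwist.twist (𝒮.deg U hU) k)) {W V : P.Opens} (h : V ≤ W) (a : Γ(K, W)) :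
    rd U hU l V (res K h a) =
      res (GrTwist.twist (𝒮.deg U hU) k) ((RelProj.emb p chart U hU).preimage_mono h)
        (rd U hU l W a) :=
  QCExact.app_res' l h a

theorem rd_pair (W : P.Opens) (a : Γ(L, W)) (b : Γ(L', W)) (U : Y.Opens)
    (hU : IsAffineOpen U) :
    rd U hU (lam'' U hU) W (pair hP hL hL' hL'' W a b) =
      tmul (rd U hU (lam U hU) W a) (rd U hU (lam' U hU) W b) :=
  pair_spec hP hL hL' hL'' W a b U hU

include hL'' in
theorem ext_rd (W : P.Opens) (c c' : Γ(L'', W))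
    (h : ∀ (U : Y.Opens) (hU : IsAffineOpen U),
      rd U hU (lam'' U hU) W c = rd U hU (lam'' U hU) W c') : c = c' :=
  RelTwistSec.sec_ext hL'' W c c' h

theorem pair_add_left (W : P.Opens) (a a' : Γ(L, W)) (b : Γ(L', W)) :
    pair hP hL hL' hL'' W (a + a') b =
      pair hP hL hL' hL'' W a b + pair hP hL hL' hL'' W a' b := by
  refine ext_rd hL'' W _ _ (fun U hU => ?_)
  calc rd U hU (lam'' U hU) W (pair hP hL hL' hL'' W (a + a') b)
      = tmul (rd U hU (lam U hU) W (a + a')) (rd U hU (lam' U hU) W b) :=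
        rd_pair hP hL hL' hL'' W (a + a') b U hU
    _ = tmul (rd U hU (lam U hU) W a + rd U hU (lam U hU) W a') (rd U hU (lam' U hU) W b) :=
        congrArg (fun t => tmul t (rd U hU (lam' U hU) W b)) (rd_add U hU (lam U hU) W a a')
    _ = tmul (rd U hU (lam U hU) W a) (rd U hU (lam' U hU) W b) +
          tmul (rd U hU (lam U hU) W a') (rd U hU (lam' U hU) W b) := tmul_add_left _ _ _
    _ = rd U hU (lam'' U hU) W (pair hP hL hL' hL'' W a b) +
          rd U hU (lam'' U hU) W (pair hP hL hL' hL'' W a' b) :=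
        congrArg₂ (· + ·) (rd_pair hP hL hL' hL'' W a b U hU).symm
          (rd_pair hP hL hL' hL'' W a' b U hU).symm
    _ = rd U hU (lam'' U hU) W (pair hP hL hL' hL'' W a b + pair hP hL hL' hL'' W a' b) :=
        (rd_add U hU (lam'' U hU) W _ _).symm

theorem pair_add_right (W : P.Opens) (a : Γ(L, W)) (b b' : Γ(L', W)) :
    pair hP hL hL' hL'' W a (b + b') =
      pair hP hL hL' hL'' W a b + pair hP hL hL' hL'' W a b' := by
  refine ext_rd hL'' W _ _ (fun U hU => ?_)
  calc rd U hU (lam'' U hU) W (pair hP hL hL' hL'' W a (b + b'))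
      = tmul (rd U hU (lam U hU) W a) (rd U hU (lam' U hU) W (b + b')) :=
        rd_pair hP hL hL' hL'' W a (b + b') U hU
    _ = tmul (rd U hU (lam U hU) W a) (rd U hU (lam' U hU) W b + rd U hU (lam' U hU) W b') :=
        congrArg (fun t => tmul (rd U hU (lam U hU) W a) t) (rd_add U hU (lam' U hU) W b b')
    _ = tmul (rd U hU (lam U hU) W a) (rd U hU (lam' U hU) W b) +
          tmul (rd U hU (lam U hU) W a) (rd U hU (lam' U hU) W b') := tmul_add_right _ _ _
    _ = rd U hU (lam'' U hU) W (pair hP hL hL' hL'' W a b) +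
          rd U hU (lam'' U hU) W (pair hP hL hL' hL'' W a b') :=
        congrArg₂ (· + ·) (rd_pair hP hL hL' hL'' W a b U hU).symm
          (rd_pair hP hL hL' hL'' W a b' U hU).symm
    _ = rd U hU (lam'' U hU) W (pair hP hL hL' hL'' W a b + pair hP hL hL' hL'' W a b') :=
        (rd_add U hU (lam'' U hU) W _ _).symm

theorem pair_smul_left (W : P.Opens) (c : Γ(P, W)) (a : Γ(L, W)) (b : Γ(L', W)) :
    pair hP hL hL' hL'' W (c • a) b = c • pair hP hL hL' hL'' W a b := by
  refine ext_rd hL'' W _ _ (fun U hU => ?_)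
  calc rd U hU (lam'' U hU) W (pair hP hL hL' hL'' W (c • a) b)
      = tmul (rd U hU (lam U hU) W (c • a)) (rd U hU (lam' U hU) W b) :=
        rd_pair hP hL hL' hL'' W (c • a) b U hU
    _ = tmul ((RelProj.emb p chart U hU).app W c • rd U hU (lam U hU) W a)
          (rd U hU (lam' U hU) W b) :=
        congrArg (fun t => tmul t (rd U hU (lam' U hU) W b)) (rd_smul U hU (lam U hU) W c a)
    _ = (RelProj.emb p chart U hU).app W c •
          tmul (rd U hU (lam U hU) W a) (rd U hU (lam' U hU) W b) := tmul_smul_left _ _ _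
    _ = (RelProj.emb p chart U hU).app W c •
          rd U hU (lam'' U hU) W (pair hP hL hL' hL'' W a b) :=
        congrArg (fun t => (RelProj.emb p chart U hU).app W c • t)
          (rd_pair hP hL hL' hL'' W a b U hU).symm
    _ = rd U hU (lam'' U hU) W (c • pair hP hL hL' hL'' W a b) :=
        (rd_smul U hU (lam'' U hU) W c _).symm

theorem pair_smul_right (W : P.Opens) (c : Γ(P, W)) (a : Γ(L, W)) (b : Γ(L', W)) :
    pair hP hL hL' hL'' W a (c • b) = c • pair hP hL hL' hL'' W a b := by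
  refine ext_rd hL'' W _ _ (fun U hU => ?_)
  calc rd U hU (lam'' U hU) W (pair hP hL hL' hL'' W a (c • b))
      = tmul (rd U hU (lam U hU) W a) (rd U hU (lam' U hU) W (c • b)) :=
        rd_pair hP hL hL' hL'' W a (c • b) U hU
    _ = tmul (rd U hU (lam U hU) W a)
          ((RelProj.emb p chart U hU).app W c • rd U hU (lam' U hU) W b) :=
        congrArg (fun t => tmul (rd U hU (lam U hU) W a) t) (rd_smul U hU (lam' U hU) W c b)
    _ = (RelProj.emb p chart U hU).app W c •
          tmul (rd U hU (lam U hU) W a) (rd U hU (lam' U hU) W b) := tmul_smul_right _ _ _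
    _ = (RelProj.emb p chart U hU).app W c •
          rd U hU (lam'' U hU) W (pair hP hL hL' hL'' W a b) :=
        congrArg (fun t => (RelProj.emb p chart U hU).app W c • t)
          (rd_pair hP hL hL' hL'' W a b U hU).symm
    _ = rd U hU (lam'' U hU) W (c • pair hP hL hL' hL'' W a b) :=
        (rd_smul U hU (lam'' U hU) W c _).symm

theorem pair_res {W V : P.Opens} (h : V ≤ W) (a : Γ(L, W)) (b : Γ(L', W)) :
    res L'' h (pair hP hL hL' hL'' W a b) =
      pair hP hL hL' hL'' V (res L h a) (res L' h b) := by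
  refine ext_rd hL'' V _ _ (fun U hU => ?_)
  have hpre := (RelProj.emb p chart U hU).preimage_mono h
  calc rd U hU (lam'' U hU) V (res L'' h (pair hP hL hL' hL'' W a b))
      = res (GrTwist.twist (𝒮.deg U hU) (m + n)) hpre
          (rd U hU (lam'' U hU) W (pair hP hL hL' hL'' W a b)) := rd_res U hU (lam'' U hU) h _
    _ = res (GrTwist.twist (𝒮.deg U hU) (m + n)) hpre
          (tmul (rd U hU (lam U hU) W a) (rd U hU (lam' U hU) W b)) :=
        congrArg (res (GrTwist.twist (𝒮.deg U hU) (m + n)) hpre)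
          (rd_pair hP hL hL' hL'' W a b U hU)
    _ = tmul (res (GrTwist.twist (𝒮.deg U hU) m) hpre (rd U hU (lam U hU) W a))
          (res (GrTwist.twist (𝒮.deg U hU) n) hpre (rd U hU (lam' U hU) W b)) :=
        tmul_res hpre _ _
    _ = tmul (rd U hU (lam U hU) V (res L h a)) (rd U hU (lam' U hU) V (res L' h b)) :=
        congrArg₂ tmul (rd_res U hU (lam U hU) h a).symm (rd_res U hU (lam' U hU) h b).symm
    _ = rd U hU (lam'' U hU) V (pair hP hL hL' hL'' V (res L h a) (res L' h b)) :=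
        (rd_pair hP hL hL' hL'' V _ _ U hU).symm

/-- the multiplication pairing, as a pairing of modules -/
noncomputable def pairing : TensorDesc.Pairing L L' L'' where
  toFun W a b := pair hP hL hL' hL'' W a b
  add_left W a a' b := pair_add_left hP hL hL' hL'' W a a' b
  add_right W a b b' := pair_add_right hP hL hL' hL'' W a b b'
  smul_left W c a b := pair_smul_left hP hL hL' hL'' W c a b
  smul_right W c a b := pair_smul_right hP hL hL' hL'' W c a b
  map_res h a b := pair_res hP hL hL' hL'' h a b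

include hP hL hL' hL'' in
/-- `O_P(m) ⊗ O_P(n) ≅ O_P(m + n)` when the algebra is generated in degree one -/
theorem nonempty_iso (hgen : 𝒮.IsGenDegOne) : Nonempty (CohB1.tensorMod L L' ≅ L'') := by
  haveI : IsIso (pairing hP hL hL' hL'').hom := by
    apply PbTensor.isIso_of_isGen_cover
    intro x
    obtain ⟨U, hU, hxU⟩ := ProjQMap.exists_affine_mem (p x)
    obtain ⟨y, rfl⟩ := ProjQMap.exists_emb_eq p chart U hU x hxU
    obtain ⟨f, hf, hfy⟩ := GrTwistGen.exists_deg_one_notMem (hgen U hU) y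
    let V' : (Proj (𝒮.deg U hU)).Opens := Proj.basicOpen (𝒮.deg U hU) f
    let V : P.Opens := RelProj.emb p chart U hU ''ᵁ V'
    have hpre : RelProj.emb p chart U hU ⁻¹ᵁ V = V' :=
      (RelProj.emb p chart U hU).preimage_image_eq V'
    have hle : V ≤ (RelProj.emb p chart U hU).opensRange :=
      (RelProj.emb p chart U hU).image_le_opensRange V'
    have hle' : V ≤ p ⁻¹ᵁ U := by rwa [ProjQMap.opensRange_emb] at hle
    have hmem : ∀ k : ℕ, f ^ k ∈ 𝒮.deg U hU k := fun k => by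
      have := SetLike.pow_mem_graded k hf
      rwa [smul_eq_mul, mul_one] at this
    have hnot : ∀ (k : ℕ) (z : (RelProj.emb p chart U hU ⁻¹ᵁ V : (Proj (𝒮.deg U hU)).Opens)),
        f ^ k ∉ z.1.asHomogeneousIdeal := by
      intro k z hz
      have hz' : z.1 ∈ V' := by rw [← hpre]; exact z.2
      exact hz' (z.1.isPrime.mem_of_pow_mem k hz)
    have hdeg : ∀ k : ℤ, ((k.toNat : ℕ) : ℤ) = ((-k).toNat : ℕ) + k := by
      intro k
      rcases le_total 0 k with h | h
      · rw [Int.toNat_of_nonneg h, Int.toNat_eq_zero.mpr (by omega)]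
        simp
      · rw [Int.toNat_eq_zero.mpr h, Int.toNat_of_nonneg (by omega)]
        simp
    -- the chartwise generators
    let tm_ := frac (RelProj.emb p chart U hU ⁻¹ᵁ V) ⟨f ^ m.toNat, hmem _⟩
      ⟨f ^ (-m).toNat, hmem _⟩ (hnot _) m (hdeg m)
    let tn_ := frac (RelProj.emb p chart U hU ⁻¹ᵁ V) ⟨f ^ n.toNat, hmem _⟩
      ⟨f ^ (-n).toNat, hmem _⟩ (hnot _) n (hdeg n)
    obtain ⟨e, he⟩ := (hL.bijective U hU V hle').2 tm_
    obtain ⟨e', he'⟩ := (hL'.bijective U hU V hle').2 tn_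
    have hge : IsGen L V e := by
      apply GrTwistGen.isGen_of_pushforward (RelProj.emb p chart U hU) _ (lam U hU) V hle
        (fun W hW => hL.bijective U hU W (hW.trans hle'))
      rw [he]
      exact GrTwistGen.isGen_frac _ _ _ (hnot _) (hnot _) _ _
    have hge' : IsGen L' V e' := by
      apply GrTwistGen.isGen_of_pushforward (RelProj.emb p chart U hU) _ (lam' U hU) V hle
        (fun W hW => hL'.bijective U hU W (hW.trans hle'))
      rw [he']
      exact GrTwistGen.isGen_frac _ _ _ (hnot _) (hnot _) _ _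
    refine ⟨V, InvTensor.tm L L' V e e', ⟨y, hfy, rfl⟩, InvTensor.isGen_tm hge hge', ?_⟩
    rw [TensorDesc.Pairing.hom_tm]
    apply GrTwistGen.isGen_of_pushforward (RelProj.emb p chart U hU) _ (lam'' U hU) V hle
      (fun W hW => hL''.bijective U hU W (hW.trans hle'))
    change IsGen (GrTwist.twist (𝒮.deg U hU) (m + n)) (RelProj.emb p chart U hU ⁻¹ᵁ V)
      ((lam'' U hU).app V (pair hP hL hL' hL'' V e e'))
    rw [pair_spec, he, he']
    exact isGen_tmul_frac _ _ _ _ _ (hnot _) (hnot _) (hnot _) (hnot _) _ _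
  exact ⟨asIso (pairing hP hL hL' hL'').hom⟩

end rel

end Groth.Agent.Lib.Helper3.RelTwistTensor
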