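import Groth.Agent.Lib.Helper3.RelTwistSec
import Groth.Agent.Lib.Helper3.HomMk

/-!
# The structure sheaf of a relative Proj is its twisting sheaf `O_P(0)`
-/

set_option autoImplicit false
set_option linter.unusedSectionVars false
universe u
open CategoryTheory CategoryTheory.Limits AlgebraicGeometry TopologicalSpace Opposite
open Scheme.Modules
open scoped HomogeneousIdeal

namespace Groth.Agent.Lib.Helper3.RelTwistZero

open QCSec InvGen GrModQC

section ring

variable {A σ : Type u} [CommRing A] [SetLike σ A] [AddSubgroupClass σ A] {𝒜 : ℕ → σ} [GradedRing 𝒜]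

/-- a function on an open of `Proj`, as a section of `O(k)`, `k = 0` -/
def ofFn (k : ℤ) (hk : k = 0) {U : (Proj 𝒜).Opens} (c : Γ(Proj 𝒜, U)) :
    Γ(GrTwist.twist 𝒜 k, U) :=
  mkSec k U (fval c) ((isLocFrac_fval c).cast hk.symm)

theorem val_ofFn (k : ℤ) (hk : k = 0) {U : (Proj 𝒜).Opens} (c : Γ(Proj 𝒜, U)) (x : U) :
    val (ofFn k hk c) x = fval c x := rfl

theorem ofFn_bijective (k : ℤ) (hk : k = 0) (U : (Proj 𝒜).Opens) :
    Function.Bijective (ofFn (𝒜 := 𝒜) k hk (U := U)) := by
  constructor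
  · intro c c' h
    apply fval_ext
    intro x
    have := congrArg (fun t => val t x) h
    exact this
  · intro t
    refine ⟨mkFun U (val t) ((isLocFrac_val t).cast hk), ?_⟩
    apply val_ext
    intro x
    rw [val_ofFn, fval_mkFun]

variable {B τ : Type u} [CommRing B] [SetLike τ B] [AddSubgroupClass τ B] {ℬ : ℕ → τ}
  [GradedRing ℬ] (ψ : 𝒜 →+*ᵍ ℬ) (hψ : ℬ₊ ≤ (𝒜₊).map ψ)

/-- the values of the pullback of a function along `Proj.map` -/
theorem fval_map_app (U : (Proj 𝒜).Opens) (c : Γ(Proj 𝒜, U))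
    (y : (Proj.map ψ hψ ⁻¹ᵁ U : (Proj ℬ).Opens)) :
    fval ((Proj.map ψ hψ).app U c) y =
      GrTwist.locMap ψ hψ y.1 (fval c ⟨ProjectiveSpectrum.comap ψ hψ y.1, y.2⟩) := by
  have h1 : fval ((Proj.map ψ hψ).app U c) y =
      (HomogeneousLocalization.localRingHom ψ _ _ rfl
        ((show GrTwist.O (𝒜 := 𝒜) (op U) from c).1
          ⟨ProjectiveSpectrum.comap ψ hψ y.1, y.2⟩)).val := rfl
  rw [h1, HomogeneousLocalization.val_localRingHom]
  rfl

end ring

section general

variable {A σ : Type u} [CommRing A] [SetLike σ A] [AddSubgroupClass σ A] {𝒜 : ℕ → σ} [GradedRing 𝒜]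
  {P : Scheme.{u}} (e : Proj 𝒜 ⟶ P) (k : ℤ) (hk : k = 0)

/-- the canonical map `O_P ⟶ e_* O(k)`, `k = 0` -/
noncomputable def unitTo :
    Coh.structureModule P ⟶ (Scheme.Modules.pushforward e).obj (GrTwist.twist 𝒜 k) :=
  HomMk.homMk (M := Coh.structureModule P)
    (N := (Scheme.Modules.pushforward e).obj (GrTwist.twist 𝒜 k))
    (fun W c => (show Γ((Scheme.Modules.pushforward e).obj (GrTwist.twist 𝒜 k), W) from
      ofFn k hk (e.app W (show Γ(P, W) from c))))
    (fun W c c' => by
      refine val_ext (U := e ⁻¹ᵁ W) (fun y => ?_)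
      change fval (e.app W ((show Γ(P, W) from c) + (show Γ(P, W) from c'))) y = _
      rw [map_add, fval_add]
      rfl)
    (fun W a c => by
      refine val_ext (U := e ⁻¹ᵁ W) (fun y => ?_)
      change fval (e.app W ((show Γ(P, W) from a) * (show Γ(P, W) from c))) y = _
      rw [map_mul, fval_mul]
      rfl)
    (fun {W V} h c => by
      refine val_ext (U := e ⁻¹ᵁ V) (fun y => ?_)
      change fval (e.app W (show Γ(P, W) from c)) ⟨y.1, e.preimage_mono h y.2⟩ =
        fval (e.app V (rres P h (show Γ(P, W) from c))) y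
      have h1 : e.app V (rres P h (show Γ(P, W) from c)) =
          rres (Proj 𝒜) (e.preimage_mono h) (e.app W (show Γ(P, W) from c)) :=
        congr($(e.naturality (homOfLE h).op) c)
      rw [h1]
      rfl)

theorem val_unitTo (W : P.Opens) (c : Γ(P, W)) (y : (e ⁻¹ᵁ W : (Proj 𝒜).Opens)) :
    GrTwist.val (V := e ⁻¹ᵁ W) ((unitTo e k hk).app W (show Γ(Coh.structureModule P, W) from c)) y =
      fval (e.app W c) y := rfl

theorem unitTo_bijective [IsOpenImmersion e] (W : P.Opens) (hW : W ≤ e.opensRange) :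
    Function.Bijective ((unitTo e k hk).app W) := by
  have hiso : IsIso (e.app W) := Scheme.Hom.isIso_app e W hW
  have hbij : Function.Bijective (e.app W) :=
    (ConcreteCategory.isIso_iff_bijective (e.app W)).mp hiso
  exact (ofFn_bijective k hk (e ⁻¹ᵁ W)).comp hbij

/-- values of the pullbacks of a function along equal morphisms -/
theorem fval_app_congr {g g' : Proj 𝒜 ⟶ P} (h : g = g') (W : P.Opens) (c : Γ(P, W))
    (y : ProjectiveSpectrum 𝒜) (hy : g.base y ∈ W) (hy' : g'.base y ∈ W) :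
    fval (g.app W c) ⟨y, hy⟩ = fval (g'.app W c) ⟨y, hy'⟩ := by
  subst h
  rfl

end general

section rel

variable {Y P : Scheme.{u}} {𝒮 : RelProj.QCGrAlg Y} {p : P ⟶ Y}
  {chart : ∀ (U : Y.Opens) (hU : IsAffineOpen U),
    ((p ⁻¹ᵁ U : P.Opens) : Scheme.{u}) ≅ Proj (𝒮.deg U hU)}
  (hP : RelProj.IsRelProj 𝒮 p chart) (k : ℤ) (hk : k = 0)

include hP in
/-- the structure sheaf, with the canonical maps, is the twisting sheaf `O_P(k)`, `k = 0` -/
theorem isRelTwist_structureModule :
    RelProj.IsRelTwist 𝒮 p chart k (Coh.structureModule P)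
      (fun U hU => unitTo (RelProj.emb p chart U hU) k hk) where
  bijective U hU W hW := by
    apply unitTo_bijective
    rw [ProjQMap.opensRange_emb]
    exact hW
  compat U hU r W s y hy hy' := by
    have e := RelProj.map_res_emb hP U hU r
    have hy₂ : (Proj.map (𝒮.res hU (hU.basicOpen r) (Y.basicOpen_le r))
        (𝒮.irrelevant_le_map U hU r) ≫ RelProj.emb p chart U hU).base y ∈ W := hy'
    have h1 := fval_app_congr e.symm W (show Γ(P, W) from s) y hy hy₂
    refine (val_unitTo _ k hk W _ ⟨y, hy⟩).trans ?_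
    refine h1.trans ?_
    exact fval_map_app (𝒮.res hU (hU.basicOpen r) (Y.basicOpen_le r))
      (𝒮.irrelevant_le_map U hU r) (RelProj.emb p chart U hU ⁻¹ᵁ W)
      ((RelProj.emb p chart U hU).app W (show Γ(P, W) from s)) ⟨y, hy'⟩

end rel

end Groth.Agent.Lib.Helper3.RelTwistZero
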