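import Groth.Agent.Lib.Helper3.RelTwistLocGen
import Groth.Agent.Lib.Helper3.GlobGenFin
import Groth.Agent.Lib.Helper3.RelTwistExist
import Groth.Agent.Lib.Helper3.RelTwistTensor
import Groth.Agent.Lib.Helper3.RelTwistZero
import Groth.Agent.Lib.Helper3.ProjProper
import Groth.Agent.Lib.Helper3.RelProjFT
import Groth.Agent.Lib.Helper3.CounitGG

/-!
# Global generation of `F(n)` over the preimages of affine opens in a relative Proj
-/

set_option autoImplicit false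
set_option linter.unusedSectionVars false
universe u
open CategoryTheory CategoryTheory.Limits AlgebraicGeometry TopologicalSpace Opposite
open Scheme.Modules
open scoped HomogeneousIdeal

namespace Groth.Agent.Lib.Helper3.RelTwistGG

open QCSec InvGen GrModQC InvMonoidal InvRestrict GlobGen GlobGenFin RelTwistLocGen

variable {Y P : Scheme.{u}} {𝒮 : RelProj.QCGrAlg Y} {p : P ⟶ Y}
  {chart : ∀ (U : Y.Opens) (hU : IsAffineOpen U),
    ((p ⁻¹ᵁ U : P.Opens) : Scheme.{u}) ≅ Proj (𝒮.deg U hU)}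

/-- change of the degree along an equality -/
theorem exists_cast {n n' : ℤ} (h : n = n') {L : P.Modules}
    {lam : ∀ (U : Y.Opens) (hU : IsAffineOpen U),
      L ⟶ (Scheme.Modules.pushforward (RelProj.emb p chart U hU)).obj
        (GrTwist.twist (𝒮.deg U hU) n)}
    (hL : RelProj.IsRelTwist 𝒮 p chart n L lam) :
    ∃ lam' : ∀ (U : Y.Opens) (hU : IsAffineOpen U),
      L ⟶ (Scheme.Modules.pushforward (RelProj.emb p chart U hU)).obj
        (GrTwist.twist (𝒮.deg U hU) n'), RelProj.IsRelTwist 𝒮 p chart n' L lam' := by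
  subst h
  exact ⟨lam, hL⟩

variable (hP : RelProj.IsRelProj 𝒮 p chart)

include hP in
/-- the tensor powers of `O_P(1)` are the `O_P(k)` -/
theorem nonempty_pow_iso (hgen : 𝒮.IsGenDegOne) {O1 : P.Modules}
    {lam1 : ∀ (U : Y.Opens) (hU : IsAffineOpen U),
      O1 ⟶ (Scheme.Modules.pushforward (RelProj.emb p chart U hU)).obj
        (GrTwist.twist (𝒮.deg U hU) 1)}
    (hO1 : RelProj.IsRelTwist 𝒮 p chart 1 O1 lam1) :
    ∀ (k : ℕ) (L : P.Modules)
      (lam : ∀ (U : Y.Opens) (hU : IsAffineOpen U),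
        L ⟶ (Scheme.Modules.pushforward (RelProj.emb p chart U hU)).obj
          (GrTwist.twist (𝒮.deg U hU) (k : ℤ))),
      RelProj.IsRelTwist 𝒮 p chart (k : ℤ) L lam → Nonempty (CohB1.tensorPow O1 k ≅ L) := by
  intro k
  induction k with
  | zero =>
    intro L lam hL
    have h0 := RelTwistZero.isRelTwist_structureModule hP (0 : ℤ) rfl
    obtain ⟨lam', hL'⟩ := exists_cast (show ((0 : ℕ) : ℤ) = (0 : ℤ) + 0 by simp) hL
    obtain ⟨e⟩ := RelTwistTensor.nonempty_iso hP h0 h0 hL' hgen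
    exact ⟨(unitorL (Coh.structureModule P)).symm ≪≫ e⟩
  | succ k ih =>
    intro L lam hL
    obtain ⟨Lk, lamk, hLk⟩ := RelTwistExist.exists_isRelTwist hP (k : ℤ)
    obtain ⟨e₁⟩ := ih Lk lamk hLk
    obtain ⟨lam', hL'⟩ := exists_cast (show ((k + 1 : ℕ) : ℤ) = (k : ℤ) + 1 by push_cast; rfl) hL
    obtain ⟨e⟩ := RelTwistTensor.nonempty_iso hP hLk hO1 hL' hgen
    exact ⟨tensorMapIso e₁ (Iso.refl O1) ≪≫ e⟩

include hP in
/-- over the preimage of an affine open, `F(k)` is spanned by finitely many sections for `k`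
large -/
theorem exists_isFinSpanned_restrict (hgen : 𝒮.IsGenDegOne) (hft : 𝒮.IsFTDeg 1)
    (F : P.Modules) [F.IsQuasicoherent] [F.IsFiniteType] (V : Y.Opens) (hV : IsAffineOpen V) :
    ∃ k₀ : ℕ, ∀ k, k₀ ≤ k → ∀ (L : P.Modules)
      (lam : ∀ (U : Y.Opens) (hU : IsAffineOpen U),
        L ⟶ (Scheme.Modules.pushforward (RelProj.emb p chart U hU)).obj
          (GrTwist.twist (𝒮.deg U hU) (k : ℤ))),
      RelProj.IsRelTwist 𝒮 p chart (k : ℤ) L lam →
        IsFinSpanned ((CohB1.tensorMod F L).restrict (p ⁻¹ᵁ V).ι) := by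
  classical
  obtain ⟨O1, lam1, hO1⟩ := RelTwistExist.exists_isRelTwist hP ((1 : ℕ) : ℤ)
  have hinv1 : PicF.IsInvertible O1 :=
    GrTwistGen.isInvertible_of_isRelTwist 𝒮 p chart hgen _ O1 lam1 hO1.bijective
  haveI : IsProper p := ProjProper.isProper_of_isGenDegOne hP hgen hft
  haveI : IsAffine (V : Scheme.{u}) := hV
  haveI : CompactSpace ((p ⁻¹ᵁ V : P.Opens) : Scheme.{u}) :=
    QuasiCompact.compactSpace_of_compactSpace (p ∣_ V)
  haveI : QuasiSeparatedSpace ((p ⁻¹ᵁ V : P.Opens) : Scheme.{u}) :=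
    quasiSeparatedSpace_of_quasiSeparated (p ∣_ V)
  obtain ⟨T, hT1, hT⟩ := hft V hV
  have hspan := RelProjFT.irrelevant_le_span (𝒮.deg V hV) (𝒮.str.app (op V)).hom
    (𝒮.str_mem V hV) (hgen V hV) T hT1 hT
  have hsec : ∀ t : {x // x ∈ T}, ∃ a : Γ(O1, p ⁻¹ᵁ V),
      (lam1 V hV).app (p ⁻¹ᵁ V) a = fr V hV t.1 (hT1 t.2) (p ⁻¹ᵁ V) :=
    fun t => exists_sec hO1 V hV t.1 (hT1 t.2)
  choose a ha using hsec
  let s : {x // x ∈ T} → (Coh.structureModule ((p ⁻¹ᵁ V : P.Opens) : Scheme.{u}) ⟶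
      O1.restrict (p ⁻¹ᵁ V).ι) := fun t => homOfSec O1 (p ⁻¹ᵁ V) (a t)
  have hloc : ∀ t, CohB1.genLocus _ (s t) = (p ⁻¹ᵁ V).ι ⁻¹ᵁ
      (RelProj.emb p chart V hV ''ᵁ Proj.basicOpen (𝒮.deg V hV) t.1) :=
    fun t => genLocus_homOfSec hO1 V hV t.1 (hT1 t.2) (a t) (ha t) hgen
  have hle : ∀ t : {x // x ∈ T},
      RelProj.emb p chart V hV ''ᵁ Proj.basicOpen (𝒮.deg V hV) t.1 ≤ p ⁻¹ᵁ V := by
    intro t
    rw [← ProjQMap.opensRange_emb p chart V hV]
    exact (RelProj.emb p chart V hV).image_le_opensRange _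
  have haff : ∀ t, IsAffineOpen (CohB1.genLocus _ (s t)) := by
    intro t
    rw [hloc]
    apply IsAffineOpen.preimage_of_isOpenImmersion
    · exact (Proj.isAffineOpen_basicOpen (𝒮.deg V hV) t.1 (hT1 t.2)
        Nat.one_pos).image_of_isOpenImmersion _
    · rw [Scheme.Opens.opensRange_ι]
      exact hle t
  have hcov : ∀ x : ((p ⁻¹ᵁ V : P.Opens) : Scheme.{u}), ∃ t, x ∈ CohB1.genLocus _ (s t) := by
    intro x
    obtain ⟨y, hy⟩ := ProjQMap.exists_emb_eq p chart V hV x.1 x.2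
    have : ∃ t ∈ T, t ∉ y.asHomogeneousIdeal := by
      by_contra hcon
      push Not at hcon
      apply y.not_irrelevant_le
      refine hspan.trans ?_
      rw [Ideal.span_le]
      intro t ht
      exact hcon t ht
    obtain ⟨t, ht, hty⟩ := this
    refine ⟨⟨t, ht⟩, ?_⟩
    rw [hloc]
    exact ⟨y, hty, hy⟩
  haveI : (F.restrict (p ⁻¹ᵁ V).ι).IsQuasicoherent :=
    Scheme.Modules.isQuasicoherent_restrictFunctor (p ⁻¹ᵁ V).ι F
  haveI : (F.restrict (p ⁻¹ᵁ V).ι).IsFiniteType := QCProps.isFiniteType_restrict (p ⁻¹ᵁ V).ι F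
  obtain ⟨k₀, hk₀⟩ := exists_isFinSpanned_twist_aux
    (isInvertible_restrict (p ⁻¹ᵁ V).ι hinv1) s haff hcov (F.restrict (p ⁻¹ᵁ V).ι)
  refine ⟨k₀, fun k hk L lam hL => ?_⟩
  obtain ⟨e⟩ := nonempty_pow_iso hP hgen hO1 k L lam hL
  have e1 : CohB1.tensorPow (O1.restrict (p ⁻¹ᵁ V).ι) k ≅ L.restrict (p ⁻¹ᵁ V).ι :=
    restrictPowIso (p ⁻¹ᵁ V).ι O1 k ≪≫ (restrictFunctor (p ⁻¹ᵁ V).ι).mapIso e
  exact (hk₀ k hk).of_iso (tensorMapIso (Iso.refl _) e1 ≪≫ restrictTensorIso (p ⁻¹ᵁ V).ι F L)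

end Groth.Agent.Lib.Helper3.RelTwistGG
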