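import Groth.Agent.Lib.Helper3.TwistComp
import Groth.Agent.Lib.Helper3.RelTwistGG
import Groth.Agent.Lib.Helper23.Inverse

/-!
# `P(E) ≅ P(E ⊗ L)` and the twisting sheaves
-/

set_option autoImplicit false
set_option linter.unusedSectionVars false
universe u
open CategoryTheory CategoryTheory.Limits AlgebraicGeometry TopologicalSpace Opposite
open Scheme.Modules
open scoped HomogeneousIdeal

namespace Groth.Agent.Lib.Helper3.TwistIso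

open QCSec InvGen InvTensor InvMonoidal PbBasic PbTensor PullLemmas RelChart SymGen TwistHom
  TwistComp

section nu

variable {Y : Scheme.{u}} {E F L L' : Y.Modules}
  (ε : CohB1.tensorMod L L' ≅ Coh.structureModule Y) (ν : F ≅ CohB1.tensorMod E L)

/-- the inverse twist `E ≅ F ⊗ L'` of `ν : F ≅ E ⊗ L` -/
noncomputable def nuPrime : E ≅ CohB1.tensorMod F L' :=
  (SecTwist.unitorR E).symm ≪≫ tensorMapIso (Iso.refl E) ε.symm ≪≫ (assoc E L L').symm ≪≫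
    tensorMapIso ν.symm (Iso.refl L')

theorem nuPrime_hom (U : Y.Opens) (ℓ : Γ(L, U)) (ℓ' : Γ(L', U))
    (hε : ε.hom.app U (tm L L' U ℓ ℓ') = ofFun U 1) (e : Γ(E, U)) :
    (nuPrime ε ν).hom.app U e = tm F L' U (ν.inv.app U (tm E L U e ℓ)) ℓ' := by
  have h1 : (SecTwist.unitorR E).inv.app U e = tm E _ U e (ofFun U 1) := by
    have h := unitorR_hom_tm E U e 1
    rw [one_smul] at h
    rw [← h, iso_inv_hom_app, h]
  have h2 : ε.inv.app U (ofFun U 1) = tm L L' U ℓ ℓ' := by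
    rw [← hε, iso_inv_hom_app]
  change (tensorMapIso ν.symm (Iso.refl L')).hom.app U ((assoc E L L').inv.app U
    ((tensorMapIso (Iso.refl E) ε.symm).hom.app U ((SecTwist.unitorR E).inv.app U e))) = _
  rw [h1, tensorMapIso_hom_tm]
  change (tensorMapIso ν.symm (Iso.refl L')).hom.app U ((assoc E L L').inv.app U
    (tm E _ U e (ε.inv.app U (ofFun U 1)))) = _
  rw [h2, assoc_inv_tm, tensorMapIso_hom_tm]
  rfl

theorem rel₁ (U : Y.Opens) (ℓ : Γ(L, U)) (ℓ' : Γ(L', U)) (hg' : IsGen L' U ℓ')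
    (hε : ε.hom.app U (tm L L' U ℓ ℓ') = ofFun U 1) (e : Γ(E, U)) (f : Γ(F, U))
    (h : (nuPrime ε ν).hom.app U e = tm F L' U f ℓ') : ν.hom.app U f = tm E L U e ℓ := by
  rw [nuPrime_hom ε ν U ℓ ℓ' hε e] at h
  have hinj := (tm_gen_bijective F L' hg' U le_rfl).1
  have h' : tm F L' U (ν.inv.app U (tm E L U e ℓ)) (res L' le_rfl ℓ') =
      tm F L' U f (res L' le_rfl ℓ') := by
    rw [res_self]
    exact h
  have h2 : ν.inv.app U (tm E L U e ℓ) = f := hinj h'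
  rw [← h2, iso_hom_inv_app]

theorem rel₂ (U : Y.Opens) (ℓ : Γ(L, U)) (ℓ' : Γ(L', U))
    (hε : ε.hom.app U (tm L L' U ℓ ℓ') = ofFun U 1) (e : Γ(E, U)) (f : Γ(F, U))
    (h : ν.hom.app U f = tm E L U e ℓ) : (nuPrime ε ν).hom.app U e = tm F L' U f ℓ' := by
  rw [nuPrime_hom ε ν U ℓ ℓ' hε e, ← h, iso_inv_hom_app]

end nu

section main

variable {Y P Q : Scheme.{u}} {E F : Y.Modules} [E.IsQuasicoherent] [F.IsQuasicoherent]
  {𝒮 : RelProj.QCGrAlg Y} {j : E ⟶ 𝒮.toModule} (hj : RelProj.IsGrSymAlg E 𝒮 j) {p : P ⟶ Y}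
  {chart : ∀ (U : Y.Opens) (hU : IsAffineOpen U),
    ((p ⁻¹ᵁ U : P.Opens) : Scheme.{u}) ≅ Proj (𝒮.deg U hU)}
  (hP : RelProj.IsRelProj 𝒮 p chart) {O1P : P.Modules}
  {lamP : ∀ (U : Y.Opens) (hU : IsAffineOpen U),
    O1P ⟶ (Scheme.Modules.pushforward (RelProj.emb p chart U hU)).obj
      (GrTwist.twist (𝒮.deg U hU) 1)}
  (hO1P : RelProj.IsRelTwist 𝒮 p chart 1 O1P lamP)
  {𝒯 : RelProj.QCGrAlg Y} {k : F ⟶ 𝒯.toModule} (hk : RelProj.IsGrSymAlg F 𝒯 k) {q : Q ⟶ Y}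
  {chartQ : ∀ (U : Y.Opens) (hU : IsAffineOpen U),
    ((q ⁻¹ᵁ U : Q.Opens) : Scheme.{u}) ≅ Proj (𝒯.deg U hU)}
  (hQ : RelProj.IsRelProj 𝒯 q chartQ) {O1Q : Q.Modules}
  {lamQ : ∀ (U : Y.Opens) (hU : IsAffineOpen U),
    O1Q ⟶ (Scheme.Modules.pushforward (RelProj.emb q chartQ U hU)).obj
      (GrTwist.twist (𝒯.deg U hU) 1)}
  (hO1Q : RelProj.IsRelTwist 𝒯 q chartQ 1 O1Q lamQ)
  {L : Y.Modules} (hL : PicF.IsInvertible L) (ν : F ≅ CohB1.tensorMod E L)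

include hj hP hO1P hk hQ hO1Q hL ν in
/-- `P(E) ≅ P(F)` for `F ≅ E ⊗ L`, with `i^* O_Q(1) ≅ O_P(1) ⊗ p^* L` -/
theorem exists_iso : ∃ i : P ≅ Q, i.hom ≫ q = p ∧
    Nonempty ((Scheme.Modules.pullback i.hom).obj O1Q ≅
      CohB1.tensorMod O1P ((Scheme.Modules.pullback p).obj L)) := by
  classical
  have hL' := Groth.Agent.Lib.Helper23.Inverse.isInvertible_dual hL
  obtain ⟨ε⟩ := Groth.Agent.Lib.Helper23.Inverse.tensor_dual_iso hL
  have hgenP : 𝒮.IsGenDegOne := SymGenProj.isGenDegOne hj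
  have hgenQ : 𝒯.IsGenDegOne := SymGenProj.isGenDegOne hk
  have hO1Pi : PicF.IsInvertible O1P :=
    GrTwistGen.isInvertible_of_isRelTwist 𝒮 p chart hgenP _ O1P lamP hO1P.bijective
  have hO1Qi : PicF.IsInvertible O1Q :=
    GrTwistGen.isInvertible_of_isRelTwist 𝒯 q chartQ hgenQ _ O1Q lamQ hO1Q.bijective
  obtain ⟨φP, hφP0⟩ := CanonPhi.exists_phi hj.2 hP hO1P
  have hφP : ∀ (U : Y.Opens) (hU : IsAffineOpen U) (e : Γ(E, U)),
      Reads lamP U hU (p ⁻¹ᵁ U) (up p O1P U (φP.app U e)) (jj 𝒮.toQCAlg j U e) 1 :=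
    fun U hU e => ProjBundleUP.reads_of_fr (d := 1) U hU _ (hj.2 U hU e) _ (hφP0 U hU e)
  obtain ⟨φQ, hφQ0⟩ := CanonPhi.exists_phi hk.2 hQ hO1Q
  have hφQ : ∀ (U : Y.Opens) (hU : IsAffineOpen U) (f : Γ(F, U)),
      Reads lamQ U hU (q ⁻¹ᵁ U) (up q O1Q U (φQ.app U f)) (jj 𝒯.toQCAlg k U f) 1 :=
    fun U hU f => ProjBundleUP.reads_of_fr (d := 1) U hU _ (hk.2 U hU f) _ (hφQ0 U hU f)
  -- the morphism `i`
  haveI := epi_sNu hj hO1P hφP hL ν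
  obtain ⟨i, hi, τ, hτ0⟩ := ProjBundleUP.exists_hom F 𝒯 k hk q chartQ hQ O1Q lamQ hO1Q φQ hφQ p
    (CohB1.tensorMod O1P ((Scheme.Modules.pullback p).obj L))
    (isInvertible_tensorMod hO1Pi (isInvertible_pullback p hL)) (sNu p φP ν.hom)
  have hτc := compat_of_pull_local i q p hi φQ τ.hom (sNu p φP ν.hom) hτ0
  have hτ : ∀ (U : Y.Opens), IsAffineOpen U → ∀ f : Γ(F, U),
      τ.hom.app (p ⁻¹ᵁ U) (pullY i q p hi O1Q U (up q O1Q U (φQ.app U f))) =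
        (sNu p φP ν.hom).app (p ⁻¹ᵁ U) (pull p F U f) :=
    fun U _ f => pull_of_compat i q p hi φQ τ.hom _ hτc U f
  -- the morphism `i'`
  haveI := epi_sNu hk hO1Q hφQ hL' (nuPrime ε ν)
  obtain ⟨i', hi', τ', hτ0'⟩ := ProjBundleUP.exists_hom E 𝒮 j hj p chart hP O1P lamP hO1P φP hφP
    q (CohB1.tensorMod O1Q ((Scheme.Modules.pullback q).obj
      (Groth.Agent.Lib.Helper23.Inverse.dual L)))
    (isInvertible_tensorMod hO1Qi (isInvertible_pullback q hL')) (sNu q φQ (nuPrime ε ν).hom)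
  have hτc' := compat_of_pull_local i' p q hi' φP τ'.hom (sNu q φQ (nuPrime ε ν).hom) hτ0'
  have hτ' : ∀ (U : Y.Opens), IsAffineOpen U → ∀ e : Γ(E, U),
      τ'.hom.app (q ⁻¹ᵁ U) (pullY i' p q hi' O1P U (up p O1P U (φP.app U e))) =
        (sNu q φQ (nuPrime ε ν).hom).app (q ⁻¹ᵁ U) (pull q E U e) :=
    fun U _ e => pull_of_compat i' p q hi' φP τ'.hom _ hτc' U e
  have c₁ : i ≫ i' = 𝟙 P :=
    comp_eq_id hj hP hO1P hφP hO1Qi hL hL' ε ν.hom (nuPrime ε ν).hom i hi τ i' hi' τ' hτ hτ'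
      (fun U _ ℓ ℓ' _ hg' hε e f h => rel₁ ε ν U ℓ ℓ' hg' hε e f h)
  have c₂ : i' ≫ i = 𝟙 Q :=
    comp_eq_id hk hQ hO1Q hφQ hO1Pi hL' hL (braid _ _ ≪≫ ε) (nuPrime ε ν).hom ν.hom i' hi' τ' i hi
      τ hτ' hτ
      (fun U _ ℓ' ℓ _ _ hε f e h => by
        have hε' : ε.hom.app U (tm L _ U ℓ ℓ') = ofFun U 1 := by
          rw [← hε]
          change _ = ε.hom.app U ((braid _ _).hom.app U _)
          rw [braid_hom_tm]
        exact rel₂ ε ν U ℓ ℓ' hε' e f h)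
  exact ⟨⟨i, i', c₁, c₂⟩, hi, ⟨τ⟩⟩

include hj hP hO1P hk hQ hO1Q hL ν in
/-- `P(E) ≅ P(F)` for `F ≅ E ⊗ L`, with `i^* O_Q(n) ≅ O_P(n) ⊗ p^* L^n` for all `n ≥ 0` -/
theorem exists_iso_pow : ∃ i : P ≅ Q, i.hom ≫ q = p ∧
    ∀ (n : ℕ) (OP : P.Modules)
      (lamPn : ∀ (U : Y.Opens) (hU : IsAffineOpen U),
        OP ⟶ (Scheme.Modules.pushforward (RelProj.emb p chart U hU)).obj
          (GrTwist.twist (𝒮.deg U hU) (n : ℤ)))
      (OQ : Q.Modules)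
      (lamQn : ∀ (U : Y.Opens) (hU : IsAffineOpen U),
        OQ ⟶ (Scheme.Modules.pushforward (RelProj.emb q chartQ U hU)).obj
          (GrTwist.twist (𝒯.deg U hU) (n : ℤ))),
      RelProj.IsRelTwist 𝒮 p chart (n : ℤ) OP lamPn →
        RelProj.IsRelTwist 𝒯 q chartQ (n : ℤ) OQ lamQn →
        Nonempty ((Scheme.Modules.pullback i.hom).obj OQ ≅
          CohB1.tensorMod OP ((Scheme.Modules.pullback p).obj (CohB1.tensorPow L n))) := by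
  obtain ⟨i, hi, ⟨τ⟩⟩ := exists_iso hj hP hO1P hk hQ hO1Q hL ν
  have hgenP : 𝒮.IsGenDegOne := SymGenProj.isGenDegOne hj
  have hgenQ : 𝒯.IsGenDegOne := SymGenProj.isGenDegOne hk
  have hO1Qi : PicF.IsInvertible O1Q :=
    GrTwistGen.isInvertible_of_isRelTwist 𝒯 q chartQ hgenQ _ O1Q lamQ hO1Q.bijective
  refine ⟨i, hi, fun n OP lamPn OQ lamQn hOP hOQ => ?_⟩
  obtain ⟨eP⟩ := RelTwistGG.nonempty_pow_iso hP hgenP hO1P n OP lamPn hOP
  obtain ⟨eQ⟩ := RelTwistGG.nonempty_pow_iso hQ hgenQ hO1Q n OQ lamQn hOQ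
  exact ⟨(Scheme.Modules.pullback i.hom).mapIso eQ.symm ≪≫ pbPowIso i.hom O1Q hO1Qi n ≪≫
    tensorPowIso τ n ≪≫ powTensor _ _ n ≪≫ tensorMapIso eP (pbPowIso p L hL n).symm⟩

end main

section va

variable {X Y : Scheme.{u}}

theorem isRelVeryAmple_of_iso (f : X ⟶ Y) {L M : X.Modules} (e : L ≅ M)
    (h : RelProj.IsRelVeryAmple f L) : RelProj.IsRelVeryAmple f M := by
  obtain ⟨E, hE, 𝒮, j, hj, P, p, chart, hP, O1, lam, hO1, i, hi, hip, ⟨eL⟩⟩ := h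
  exact ⟨E, hE, 𝒮, j, hj, P, p, chart, hP, O1, lam, hO1, i, hi, hip, ⟨e.symm ≪≫ eL⟩⟩

theorem isRelVeryAmple_tensor (f : X ⟶ Y) (L : X.Modules) (K : Y.Modules)
    (hK : PicF.IsInvertible K) (h : RelProj.IsRelVeryAmple f L) :
    RelProj.IsRelVeryAmple f (CohB1.tensorMod L ((Scheme.Modules.pullback f).obj K)) := by
  classical
  obtain ⟨E, hE, 𝒮, j, hj, P, p, chart, hP, O1, lam, hO1, i₀, hi₀, hip, ⟨eL⟩⟩ := h
  haveI : E.IsQuasicoherent := hE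
  haveI hF : (CohB1.tensorMod E K).IsQuasicoherent := InvCoh.isQuasicoherent_tensorMod E K hK
  haveI := hi₀
  obtain ⟨𝒯, k, hk⟩ := SymGr.exists_isGrSymAlg (CohB1.tensorMod E K)
  obtain ⟨Q, q, chartQ, hQ⟩ := RelProjExist.exists_isRelProj 𝒯
  obtain ⟨O1Q, lamQ, hO1Q⟩ := RelTwistExist.exists_isRelTwist hQ 1
  obtain ⟨ι, hι, ⟨τ⟩⟩ := exists_iso hj hP hO1 hk hQ hO1Q hK (Iso.refl _)
  have hO1i : PicF.IsInvertible O1 :=
    GrTwistGen.isInvertible_of_isRelTwist 𝒮 p chart (SymGenProj.isGenDegOne hj) _ O1 lam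
      hO1.bijective
  refine ⟨_, hF, 𝒯, k, hk, Q, q, chartQ, hQ, O1Q, lamQ, hO1Q, i₀ ≫ ι.hom, inferInstance,
    by rw [Category.assoc, hι, hip], ⟨?_⟩⟩
  exact (tensorMapIso eL (compIso i₀ p f hip K).symm) ≪≫
    (pbTensorIso i₀ O1 _ hO1i (isInvertible_pullback p hK)).symm ≪≫
    (Scheme.Modules.pullback i₀).mapIso τ.symm ≪≫ (pullbackComp i₀ ι.hom).app O1Q

theorem isRelVeryAmple_tensor_iff (f : X ⟶ Y) (L : X.Modules) (K : Y.Modules)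
    (hK : PicF.IsInvertible K) :
    RelProj.IsRelVeryAmple f L ↔
      RelProj.IsRelVeryAmple f (CohB1.tensorMod L ((Scheme.Modules.pullback f).obj K)) := by
  refine ⟨isRelVeryAmple_tensor f L K hK, fun h => ?_⟩
  have hK' := Groth.Agent.Lib.Helper23.Inverse.isInvertible_dual hK
  obtain ⟨ε⟩ := Groth.Agent.Lib.Helper23.Inverse.tensor_dual_iso hK
  have h2 := isRelVeryAmple_tensor f _ _ hK' h
  refine isRelVeryAmple_of_iso f ?_ h2
  exact assoc _ _ _ ≪≫ tensorMapIso (Iso.refl L) (kappa f hK hK' ε) ≪≫ SecTwist.unitorR L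

end va

end Groth.Agent.Lib.Helper3.TwistIso
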