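import Groth.Agent.Lib.Helper3.VALocal
import Groth.Agent.Lib.Helper3.VAMain
import Groth.Agent.Lib.Helper3.QCAlgGen

/-!
# Relative very ampleness: reduction to a module of finite type (EGA II 4.4.6 / 4.4.7)
-/

set_option autoImplicit false
set_option linter.unusedSectionVars false
universe u
open CategoryTheory CategoryTheory.Limits AlgebraicGeometry TopologicalSpace Opposite
open Scheme.Modules
open scoped HomogeneousIdeal

namespace Groth.Agent.Lib.Helper3.VAFin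

open QCSec InvGen GrModQC RelChart SymGen PbBasic PullLemmas HomogeneousLocalization
  ProjBundleUniq LinProj VALocal

/-! ### algebra -/

section Alg

theorem exists_finset_image_closure {R α : Type*} [Ring R] (F : α → R) {x : R}
    (hx : x ∈ Subring.closure (Set.range F)) :
    ∃ T : Finset α, x ∈ Subring.closure (F '' (T : Set α)) := by
  classical
  induction hx using Subring.closure_induction with
  | mem y hy =>
    obtain ⟨m, rfl⟩ := hy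
    exact ⟨{m}, Subring.subset_closure ⟨m, by simp, rfl⟩⟩
  | zero => exact ⟨∅, Subring.zero_mem _⟩
  | one => exact ⟨∅, Subring.one_mem _⟩
  | add a b _ _ ha hb =>
    obtain ⟨Ta, ha⟩ := ha
    obtain ⟨Tb, hb⟩ := hb
    refine ⟨Ta ∪ Tb, Subring.add_mem _ (Subring.closure_mono ?_ ha)
      (Subring.closure_mono ?_ hb)⟩
    · exact Set.image_mono (Finset.coe_subset.mpr Finset.subset_union_left)
    · exact Set.image_mono (Finset.coe_subset.mpr Finset.subset_union_right)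
  | neg a _ ha =>
    obtain ⟨T, ha⟩ := ha
    exact ⟨T, Subring.neg_mem _ ha⟩
  | mul a b _ _ ha hb =>
    obtain ⟨Ta, ha⟩ := ha
    obtain ⟨Tb, hb⟩ := hb
    refine ⟨Ta ∪ Tb, Subring.mul_mem _ (Subring.closure_mono ?_ ha)
      (Subring.closure_mono ?_ hb)⟩
    · exact Set.image_mono (Finset.coe_subset.mpr Finset.subset_union_left)
    · exact Set.image_mono (Finset.coe_subset.mpr Finset.subset_union_right)

theorem appLE_of_comp {X Q Y : Scheme.{u}} (ς : X ⟶ Q) (pQ : Q ⟶ Y) (q : X ⟶ Y)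
    (hς : ς ≫ pQ = q) (U : Y.Opens) (V : Q.Opens) (W : X.Opens) (e₁ : V ≤ pQ ⁻¹ᵁ U)
    (e₂ : W ≤ ς ⁻¹ᵁ V) (e₃ : W ≤ q ⁻¹ᵁ U) (b : Γ(Y, U)) :
    (ς.appLE V W e₂).hom ((pQ.appLE U V e₁).hom b) = (q.appLE U W e₃).hom b := by
  subst hς
  exact congr($(Scheme.Hom.appLE_comp_appLE ς pQ U V W e₁ e₂) b)

end Alg

/-! ### generators of the coordinate ring of a standard chart -/

section Gen

variable {Y P : Scheme.{u}} {E : Y.Modules} [E.IsQuasicoherent]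
  {𝒮 : RelProj.QCGrAlg Y} {j : E ⟶ 𝒮.toModule} (hj : RelProj.IsGrSymAlg E 𝒮 j) {p : P ⟶ Y}
  {chart : ∀ (U : Y.Opens) (hU : IsAffineOpen U),
    ((p ⁻¹ᵁ U : P.Opens) : Scheme.{u}) ≅ Proj (𝒮.deg U hU)}

include hj in
theorem closure_cc_eq_top (U : Y.Opens) (hU : IsAffineOpen U) (e : Γ(E, U)) :
    Subring.closure (Set.range (cc hj chart U hU e)) = ⊤ := by
  have hG : Subring.closure (Set.range (st 𝒮.toQCAlg U) ∪ Set.range (jj 𝒮.toQCAlg j U)) = ⊤ :=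
    G_eq_top 𝒮.toQCAlg j hj.1 hU
  let χ : 𝒮.presheaf.obj (op U) →+* Γ(P, AA j chart U hU e) :=
    (iota0 j chart U hU e).comp (AwayGen.deh (𝒜 := 𝒮.deg U hU) (jj_mem hj U hU e))
  have hχ : Function.Surjective χ :=
    (iota0_surjective hj U hU e).comp (AwayGen.deh_surjective (jj_mem hj U hU e))
  have h1 : (Subring.closure
      (Set.range (st 𝒮.toQCAlg U) ∪ Set.range (jj 𝒮.toQCAlg j U))).map χ = ⊤ := by
    rw [hG, ← RingHom.range_eq_map]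
    exact RingHom.range_eq_top_of_surjective χ hχ
  rw [RingHom.map_closure] at h1
  rw [eq_top_iff, ← h1]
  apply Subring.closure_mono
  rintro _ ⟨x, (⟨b, rfl⟩ | ⟨e', rfl⟩), rfl⟩
  · refine ⟨b • e, ?_⟩
    have hb0 : st 𝒮.toQCAlg U b ∈ 𝒮.deg U hU 0 := 𝒮.str_mem U hU b
    show cc hj chart U hU e (b • e) =
      iota0 j chart U hU e (AwayGen.deh (jj_mem hj U hU e) (st 𝒮.toQCAlg U b))
    rw [AwayGen.deh_of_mem _ hb0, AwayGen.mk_zero_eq (jj_mem hj U hU e) hb0,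
      mk_congr (jj_mem hj U hU e) 1 (jj_smul 𝒮.toQCAlg j U b e).symm]
    rfl
  · refine ⟨e', ?_⟩
    show cc hj chart U hU e e' =
      iota0 j chart U hU e (AwayGen.deh (jj_mem hj U hU e) (jj 𝒮.toQCAlg j U e'))
    rw [AwayGen.deh_of_mem _ (jj_mem hj U hU e')]
    rfl

end Gen

/-! ### the local data on the source side -/

section Source

variable {Y P X : Scheme.{u}} {E : Y.Modules} [E.IsQuasicoherent]
  {𝒮 : RelProj.QCGrAlg Y} {j : E ⟶ 𝒮.toModule} (hj : RelProj.IsGrSymAlg E 𝒮 j) {p : P ⟶ Y}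
  {chart : ∀ (U : Y.Opens) (hU : IsAffineOpen U),
    ((p ⁻¹ᵁ U : P.Opens) : Scheme.{u}) ≅ Proj (𝒮.deg U hU)}
  (g : X ⟶ Y) (r : X ⟶ P) (hr : r ≫ p = g)

/-- the restriction of an immersion over an open contained in the coborder of its range is a
closed immersion -/
theorem isClosedImmersion_resLE [IsImmersion r] (D : P.Opens) (hD : D ≤ r.coborderRange) :
    IsClosedImmersion (r.resLE D (r ⁻¹ᵁ D) le_rfl) := by
  rw [Scheme.Hom.resLE_eq_morphismRestrict]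
  haveI : IsPreimmersion (r ∣_ D) := inferInstance
  apply IsClosedImmersion.of_isPreimmersion
  have hrange : Set.range (r ∣_ D) = (Subtype.val : D → P) ⁻¹' Set.range r := by
    ext z
    constructor
    · rintro ⟨w, rfl⟩
      exact ⟨w.1, (morphismRestrict_base_coe r D w).symm⟩
    · rintro ⟨w, hw⟩
      have hwD : w ∈ r ⁻¹ᵁ D := by
        show r w ∈ D
        rw [hw]
        exact z.2
      refine ⟨⟨w, hwD⟩, Subtype.ext ?_⟩
      rw [morphismRestrict_base_coe]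
      exact hw
  rw [hrange]
  have h1 : IsClosed ((Subtype.val : coborder (Set.range r) → P) ⁻¹' Set.range r) :=
    isClosed_preimage_val_coborder
  have h2 : Continuous (Set.inclusion
      (show (D : Set P) ⊆ coborder (Set.range r) from fun x hx => hD hx)) :=
    continuous_inclusion _
  exact h1.preimage h2

include hj hr in
theorem exists_local_data [IsImmersion r] [LocallyOfFiniteType g] (x : X) :
    ∃ (U : Y.Opens) (hU : IsAffineOpen U) (e : Γ(E, U)) (a : Γ(P, AA j chart U hU e))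
      (N : Finset Γ(E, U)) (hle : r ⁻¹ᵁ P.basicOpen a ≤ r ⁻¹ᵁ AA j chart U hU e),
      x ∈ r ⁻¹ᵁ P.basicOpen a ∧ IsAffineOpen (r ⁻¹ᵁ P.basicOpen a) ∧
      ∀ M : Set Γ(E, U), (N : Set Γ(E, U)) ⊆ M →
        a ∈ Subring.closure (cc hj chart U hU e '' M) ∧
        ∀ R : Subring Γ(X, r ⁻¹ᵁ P.basicOpen a),
          (∀ b : Γ(Y, U), (g.appLE U (r ⁻¹ᵁ P.basicOpen a)
            (hle.trans (pre_le j chart g r hr U hU e))).hom b ∈ R) →
          (∀ m ∈ M, (r.appLE (AA j chart U hU e) (r ⁻¹ᵁ P.basicOpen a) hle).hom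
            (cc hj chart U hU e m) ∈ R) →
          (∀ u : Γ(X, r ⁻¹ᵁ P.basicOpen a),
            u * (r.appLE (AA j chart U hU e) (r ⁻¹ᵁ P.basicOpen a) hle).hom a = 1 → u ∈ R) →
          R = ⊤ := by
  classical
  obtain ⟨U, hU, hxU⟩ := ProjQMap.exists_affine_mem (g x)
  have hpx : p (r x) ∈ U := by
    rw [← Scheme.Hom.comp_apply, hr]
    exact hxU
  obtain ⟨y, hy⟩ := ProjQMap.exists_emb_eq p chart U hU (r x) hpx
  obtain ⟨e, he⟩ := SymGenProj.exists_jj_notMem hj hU y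
  have hx1 : r x ∈ AA j chart U hU e := ⟨y, he, hy⟩
  have hA : IsAffineOpen (AA j chart U hU e) := isAffineOpen_AA hj U hU e
  have hcob : r x ∈ r.coborderRange := subset_coborder ⟨x, rfl⟩
  obtain ⟨a, haD, hxa⟩ := hA.exists_basicOpen_le (V := r.coborderRange) ⟨r x, hcob⟩ hx1
  have hDA : P.basicOpen a ≤ AA j chart U hU e := P.basicOpen_le a
  have hle : r ⁻¹ᵁ P.basicOpen a ≤ r ⁻¹ᵁ AA j chart U hU e := fun z hz => hDA hz
  have hDaff : IsAffineOpen (P.basicOpen a) := hA.basicOpen a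
  haveI hci : IsClosedImmersion (r.resLE (P.basicOpen a) (r ⁻¹ᵁ P.basicOpen a) le_rfl) :=
    isClosedImmersion_resLE r _ haD
  haveI : IsAffine (P.basicOpen a).toScheme := hDaff
  obtain ⟨hWaff, hsurj⟩ := IsClosedImmersion.isAffine_surjective_of_isAffine
    (r.resLE (P.basicOpen a) (r ⁻¹ᵁ P.basicOpen a) le_rfl)
  have hWaff' : IsAffineOpen (r ⁻¹ᵁ P.basicOpen a) := hWaff
  -- surjectivity on sections
  have hsurj' : Function.Surjective
      (r.appLE (P.basicOpen a) (r ⁻¹ᵁ P.basicOpen a) le_rfl).hom := by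
    intro z
    obtain ⟨y', hy'⟩ := hsurj ((r ⁻¹ᵁ P.basicOpen a).topIso.inv.hom z)
    refine ⟨(P.basicOpen a).topIso.hom.hom y', ?_⟩
    have happ : (r.resLE (P.basicOpen a) (r ⁻¹ᵁ P.basicOpen a) le_rfl).appTop =
        (P.basicOpen a).topIso.hom ≫ r.appLE (P.basicOpen a) (r ⁻¹ᵁ P.basicOpen a) le_rfl ≫
          (r ⁻¹ᵁ P.basicOpen a).topIso.inv := Scheme.Hom.resLE_app_top _ _
    have h2 := congr($happ y')
    have h3 : (r ⁻¹ᵁ P.basicOpen a).topIso.inv.hom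
        ((r.appLE (P.basicOpen a) (r ⁻¹ᵁ P.basicOpen a) le_rfl).hom
          ((P.basicOpen a).topIso.hom.hom y')) =
        (r ⁻¹ᵁ P.basicOpen a).topIso.inv.hom z := h2.symm.trans hy'
    exact (ConcreteCategory.bijective_of_isIso (r ⁻¹ᵁ P.basicOpen a).topIso.inv).1 h3
  -- finite type
  have hWU : r ⁻¹ᵁ P.basicOpen a ≤ g ⁻¹ᵁ U := hle.trans (pre_le j chart g r hr U hU e)
  obtain ⟨B, hB⟩ := VAMain.exists_closure_eq_top_of_finiteType _
    (HasRingHomProperty.appLE @LocallyOfFiniteType g inferInstance ⟨U, hU⟩ ⟨_, hWaff'⟩ hWU)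
  -- the unit
  have hmapLE : ∀ b : Γ(P, AA j chart U hU e),
      (r.appLE (P.basicOpen a) (r ⁻¹ᵁ P.basicOpen a) le_rfl).hom (rres P hDA b) =
        (r.appLE (AA j chart U hU e) (r ⁻¹ᵁ P.basicOpen a) hle).hom b := fun b =>
    congr($(Scheme.Hom.map_appLE r (le_refl (r ⁻¹ᵁ P.basicOpen a)) (homOfLE hDA).op) b)
  have hαu : IsUnit ((r.appLE (AA j chart U hU e) (r ⁻¹ᵁ P.basicOpen a) hle).hom a) := by
    rw [← hmapLE]
    exact (RingedSpace.isUnit_res_basicOpen _ a).map _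
  -- lifting every section
  have h3 : ∀ t : Γ(X, r ⁻¹ᵁ P.basicOpen a), ∃ (n : ℕ) (b : Γ(P, AA j chart U hU e)),
      t * (r.appLE (AA j chart U hU e) (r ⁻¹ᵁ P.basicOpen a) hle).hom a ^ n =
        (r.appLE (AA j chart U hU e) (r ⁻¹ᵁ P.basicOpen a) hle).hom b := by
    intro t
    obtain ⟨y, rfl⟩ := hsurj' t
    haveI := hA.isLocalization_basicOpen a
    obtain ⟨n, b, hb⟩ := IsLocalization.Away.surj a y
    refine ⟨n, b, ?_⟩
    have hb' : y * (rres P hDA a) ^ n = rres P hDA b := hb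
    have h4 := congrArg (r.appLE (P.basicOpen a) (r ⁻¹ᵁ P.basicOpen a) le_rfl).hom hb'
    rw [map_mul, map_pow, hmapLE, hmapLE] at h4
    exact h4
  choose nfun bfun hnb using h3
  have hT : ∀ y : Γ(P, AA j chart U hU e), ∃ T : Finset Γ(E, U),
      y ∈ Subring.closure (cc hj chart U hU e '' (T : Set Γ(E, U))) := fun y =>
    exists_finset_image_closure _ (by rw [closure_cc_eq_top hj U hU e]; trivial)
  choose Tfun hTfun using hT
  refine ⟨U, hU, e, a, Tfun a ∪ B.biUnion (fun t => Tfun (bfun t)), hle, hxa, hWaff',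
    fun M hM => ⟨?_, fun R h1 h2 h3 => ?_⟩⟩
  · refine Subring.closure_mono (Set.image_mono (subset_trans ?_ hM)) (hTfun a)
    exact Finset.coe_subset.mpr Finset.subset_union_left
  · have hcl : ∀ y ∈ Subring.closure (cc hj chart U hU e '' M),
        (r.appLE (AA j chart U hU e) (r ⁻¹ᵁ P.basicOpen a) hle).hom y ∈ R := by
      intro y hy
      have hle' : Subring.closure (cc hj chart U hU e '' M) ≤
          R.comap (r.appLE (AA j chart U hU e) (r ⁻¹ᵁ P.basicOpen a) hle).hom := by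
        rw [Subring.closure_le]
        rintro _ ⟨m, hm, rfl⟩
        exact h2 m hm
      exact hle' hy
    obtain ⟨u, hu⟩ := hαu.exists_left_inv
    have huR : u ∈ R := h3 u hu
    rw [eq_top_iff, ← hB]
    apply Subring.closure_le.mpr
    rintro z (⟨b, rfl⟩ | hz)
    · exact h1 b
    · have hzB : z ∈ B := hz
      have hb : bfun z ∈ Subring.closure (cc hj chart U hU e '' M) := by
        refine Subring.closure_mono (Set.image_mono (subset_trans ?_ hM)) (hTfun (bfun z))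
        refine Finset.coe_subset.mpr (subset_trans ?_ Finset.subset_union_right)
        exact Finset.subset_biUnion_of_mem (fun t => Tfun (bfun t)) hzB
      have h5 : z = (r.appLE (AA j chart U hU e) (r ⁻¹ᵁ P.basicOpen a) hle).hom (bfun z) *
          u ^ (nfun z) := by
        rw [← hnb z, mul_assoc, ← mul_pow, mul_comm _ u, hu, one_pow, mul_one]
      rw [h5]
      exact R.mul_mem (hcl _ hb) (R.pow_mem huR _)

end Source

/-! ### the local step on the target side -/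

section Target

variable {X Y : Scheme.{u}} (q : X ⟶ Y) (L : X.Modules)
  {P₁ : Scheme.{u}} {E₁ : Y.Modules} [E₁.IsQuasicoherent]
  {𝒮₁ : RelProj.QCGrAlg Y} {j₁ : E₁ ⟶ 𝒮₁.toModule}
  (hj₁ : RelProj.IsGrSymAlg E₁ 𝒮₁ j₁) {p₁ : P₁ ⟶ Y}
  {chart₁ : ∀ (U : Y.Opens) (hU : IsAffineOpen U),
    ((p₁ ⁻¹ᵁ U : P₁.Opens) : Scheme.{u}) ≅ Proj (𝒮₁.deg U hU)}
  (hP₁ : RelProj.IsRelProj 𝒮₁ p₁ chart₁) {O1₁ : P₁.Modules}
  {lam₁ : ∀ (U : Y.Opens) (hU : IsAffineOpen U),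
    O1₁ ⟶ (Scheme.Modules.pushforward (RelProj.emb p₁ chart₁ U hU)).obj
      (GrTwist.twist (𝒮₁.deg U hU) 1)}
  (hO1₁ : RelProj.IsRelTwist 𝒮₁ p₁ chart₁ 1 O1₁ lam₁)
  {φ₁ : E₁ ⟶ (pushforward p₁).obj O1₁}
  (hφ₁ : ∀ (U : Y.Opens) (hU : IsAffineOpen U) (e : Γ(E₁, U)),
    Reads lam₁ U hU (p₁ ⁻¹ᵁ U) (up p₁ O1₁ U (φ₁.app U e)) (jj 𝒮₁.toQCAlg j₁ U e) 1)
  (s₁ : (Scheme.Modules.pullback q).obj E₁ ⟶ L)
  (r₁ : X ⟶ P₁) (hr₁ : r₁ ≫ p₁ = q)
  (τ₁ : (Scheme.Modules.pullback r₁).obj O1₁ ≅ L)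
  (hc₁ : ∀ (U : Y.Opens), IsAffineOpen U → ∀ e : Γ(E₁, U),
    τ₁.hom.app (q ⁻¹ᵁ U) (res _ (preimage_le r₁ p₁ q hr₁ U)
      (pull r₁ O1₁ (p₁ ⁻¹ᵁ U) (up p₁ O1₁ U (φ₁.app U e)))) =
      s₁.app (q ⁻¹ᵁ U) (pull q E₁ U e))
  {Q : Scheme.{u}} {F : Y.Modules} [F.IsQuasicoherent]
  {𝒯 : RelProj.QCGrAlg Y} {k : F ⟶ 𝒯.toModule}
  (hk : RelProj.IsGrSymAlg F 𝒯 k) {pQ : Q ⟶ Y}
  {chartQ : ∀ (U : Y.Opens) (hU : IsAffineOpen U),
    ((pQ ⁻¹ᵁ U : Q.Opens) : Scheme.{u}) ≅ Proj (𝒯.deg U hU)}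
  (hQ : RelProj.IsRelProj 𝒯 pQ chartQ) {O1Q : Q.Modules}
  {lamQ : ∀ (U : Y.Opens) (hU : IsAffineOpen U),
    O1Q ⟶ (Scheme.Modules.pushforward (RelProj.emb pQ chartQ U hU)).obj
      (GrTwist.twist (𝒯.deg U hU) 1)}
  (hO1Q : RelProj.IsRelTwist 𝒯 pQ chartQ 1 O1Q lamQ)
  {φQ : F ⟶ (pushforward pQ).obj O1Q}
  (hφQ : ∀ (U : Y.Opens) (hU : IsAffineOpen U) (f : Γ(F, U)),
    Reads lamQ U hU (pQ ⁻¹ᵁ U) (up pQ O1Q U (φQ.app U f)) (jj 𝒯.toQCAlg k U f) 1)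
  (sQ : (Scheme.Modules.pullback q).obj F ⟶ L)
  (ς : X ⟶ Q) (hς : ς ≫ pQ = q) (τQ : (Scheme.Modules.pullback ς).obj O1Q ≅ L)
  (hcQ : ∀ (U : Y.Opens), IsAffineOpen U → ∀ f : Γ(F, U),
    τQ.hom.app (q ⁻¹ᵁ U) (res _ (preimage_le ς pQ q hς U)
      (pull ς O1Q (pQ ⁻¹ᵁ U) (up pQ O1Q U (φQ.app U f)))) =
      sQ.app (q ⁻¹ᵁ U) (pull q F U f))
  (ψ : F ⟶ E₁)
  (hψ : ∀ (U : Y.Opens) (f : Γ(F, U)),
    sQ.app (q ⁻¹ᵁ U) (pull q F U f) = s₁.app (q ⁻¹ᵁ U) (pull q E₁ U (ψ.app U f)))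

include hj₁ hP₁ hO1₁ hφ₁ hc₁ hk hQ hO1Q hφQ hcQ hψ in
/-- **the local step**: if the image of `F` contains the finitely many sections singled out on the
source side, the morphism to `P(F)` is an immersion near the corresponding open -/
theorem exists_chart_immersion (U : Y.Opens) (hU : IsAffineOpen U) (e : Γ(E₁, U)) (e' : Γ(F, U))
    (he : ψ.app U e' = e) (a : Γ(P₁, AA j₁ chart₁ U hU e))
    (hle : r₁ ⁻¹ᵁ P₁.basicOpen a ≤ r₁ ⁻¹ᵁ AA j₁ chart₁ U hU e)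
    (haff : IsAffineOpen (r₁ ⁻¹ᵁ P₁.basicOpen a))
    (ha : a ∈ Subring.closure
      (cc hj₁ chart₁ U hU e '' Set.range (fun f : Γ(F, U) => ψ.app U f)))
    (hR : ∀ R : Subring Γ(X, r₁ ⁻¹ᵁ P₁.basicOpen a),
      (∀ b : Γ(Y, U), (q.appLE U (r₁ ⁻¹ᵁ P₁.basicOpen a)
        (hle.trans (pre_le j₁ chart₁ q r₁ hr₁ U hU e))).hom b ∈ R) →
      (∀ m ∈ Set.range (fun f : Γ(F, U) => ψ.app U f),
        (r₁.appLE (AA j₁ chart₁ U hU e) (r₁ ⁻¹ᵁ P₁.basicOpen a) hle).hom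
          (cc hj₁ chart₁ U hU e m) ∈ R) →
      (∀ u : Γ(X, r₁ ⁻¹ᵁ P₁.basicOpen a),
        u * (r₁.appLE (AA j₁ chart₁ U hU e) (r₁ ⁻¹ᵁ P₁.basicOpen a) hle).hom a = 1 → u ∈ R) →
      R = ⊤) :
    ∃ V : Q.Opens, r₁ ⁻¹ᵁ P₁.basicOpen a ≤ ς ⁻¹ᵁ V ∧ IsImmersion ((ς ⁻¹ᵁ V).ι ≫ ς) := by
  classical
  subst he
  -- the two standard opens have the same preimage
  have hgen₁ : ∀ (W' : X.Opens) (hW' : W' ≤ r₁ ⁻¹ᵁ AA j₁ chart₁ U hU (ψ.app U e')),
      IsGenAt L W' (res L (hW'.trans (pre_le j₁ chart₁ q r₁ hr₁ U hU (ψ.app U e')))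
        (s₁.app (q ⁻¹ᵁ U) (pull q E₁ U (ψ.app U e')))) :=
    fun W' hW' => isGenAt_sigma hj₁ hO1₁ hφ₁ q s₁ r₁ hr₁ τ₁ hc₁ U hU (ψ.app U e') W' hW'
  have hgenQ : ∀ (W' : X.Opens) (hW' : W' ≤ ς ⁻¹ᵁ AA k chartQ U hU e'),
      IsGenAt L W' (res L (hW'.trans (pre_le k chartQ q ς hς U hU e'))
        (s₁.app (q ⁻¹ᵁ U) (pull q E₁ U (ψ.app U e')))) := by
    intro W' hW'
    have := isGenAt_sigma hk hO1Q hφQ q sQ ς hς τQ hcQ U hU e' W' hW'
    rwa [hψ] at this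
  have hW1 : ς ⁻¹ᵁ AA k chartQ U hU e' ≤ r₁ ⁻¹ᵁ AA j₁ chart₁ U hU (ψ.app U e') :=
    le_preimage_AA_of_isGenAt hj₁ hP₁ hO1₁ hφ₁ q s₁ r₁ hr₁ τ₁ hc₁ U hU (ψ.app U e') _
      (pre_le k chartQ q ς hς U hU e') (fun W' hW' => hgenQ W' hW')
  have hW2 : r₁ ⁻¹ᵁ AA j₁ chart₁ U hU (ψ.app U e') ≤ ς ⁻¹ᵁ AA k chartQ U hU e' :=
    le_preimage_AA_of_isGenAt hk hQ hO1Q hφQ q sQ ς hς τQ hcQ U hU e' _
      (pre_le j₁ chart₁ q r₁ hr₁ U hU (ψ.app U e')) (fun W' hW' => by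
        rw [hψ]
        exact hgen₁ W' hW')
  -- the ring map between the charts
  obtain ⟨θ, hθ⟩ : ∃ θ : Away (𝒯.deg U hU) (jj 𝒯.toQCAlg k U e') →+*
      Γ(P₁, AA j₁ chart₁ U hU (ψ.app U e')),
      ∀ f : Γ(F, U), θ (Away.mk (𝒯.deg U hU) (jj_mem hk U hU e') 1 (jj 𝒯.toQCAlg k U f)
          (AwayGen.mem_smul_one (jj_mem hk U hU f))) =
        cc hj₁ chart₁ U hU (ψ.app U e') (ψ.app U f) :=
    exists_chartHom hk hj₁ (chartQ := chart₁) U hU U hU (RingHom.id _)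
      (QCProps.appₗ ψ U).toAddMonoidHom (fun a f => (QCProps.appₗ ψ U).map_smul a f) e'
  have hring : (ς.appLE (AA k chartQ U hU e') (ς ⁻¹ᵁ AA k chartQ U hU e') le_rfl).hom.comp
      (iota0 k chartQ U hU e') =
      (r₁.appLE (AA j₁ chart₁ U hU (ψ.app U e')) (ς ⁻¹ᵁ AA k chartQ U hU e') hW1).hom.comp θ := by
    apply ringHom_ext_away hk U hU e'
    intro f
    rw [RingHom.comp_apply, RingHom.comp_apply, hθ f, iota0_mk hk]
    have hQrel := sigma_rel hk hO1Q hφQ q sQ ς hς τQ hcQ U hU e' f _ le_rfl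
    rw [hψ, hψ] at hQrel
    have hPrel := sigma_rel hj₁ hO1₁ hφ₁ q s₁ r₁ hr₁ τ₁ hc₁ U hU (ψ.app U e') (ψ.app U f) _ hW1
    exact (hgenQ _ le_rfl).smul_inj (hQrel.symm.trans hPrel)
  -- the element cutting out the open
  have hsub : Subring.closure (cc hj₁ chart₁ U hU (ψ.app U e') ''
      Set.range (fun f : Γ(F, U) => ψ.app U f)) ≤ θ.range := by
    rw [Subring.closure_le]
    rintro _ ⟨_, ⟨f, rfl⟩, rfl⟩
    exact ⟨_, hθ f⟩
  obtain ⟨c', hc'⟩ := hsub ha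
  have hA'aff : IsAffineOpen (AA k chartQ U hU e') := isAffineOpen_AA hk U hU e'
  have hWcW : r₁ ⁻¹ᵁ P₁.basicOpen a ≤ ς ⁻¹ᵁ AA k chartQ U hU e' := hle.trans hW2
  have hstar : ∀ c'' : Away (𝒯.deg U hU) (jj 𝒯.toQCAlg k U e'),
      (r₁.appLE (AA j₁ chart₁ U hU (ψ.app U e')) (r₁ ⁻¹ᵁ P₁.basicOpen a) hle).hom (θ c'') =
        (ς.appLE (AA k chartQ U hU e') (r₁ ⁻¹ᵁ P₁.basicOpen a) hWcW).hom
          (iota0 k chartQ U hU e' c'') := by
    intro c''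
    have h1 : (ς.appLE (AA k chartQ U hU e') (ς ⁻¹ᵁ AA k chartQ U hU e') le_rfl).hom
        (iota0 k chartQ U hU e' c'') =
        (r₁.appLE (AA j₁ chart₁ U hU (ψ.app U e')) (ς ⁻¹ᵁ AA k chartQ U hU e') hW1).hom (θ c'') :=
      congr($hring c'')
    have e1 : rres X hWcW ((ς.appLE (AA k chartQ U hU e') (ς ⁻¹ᵁ AA k chartQ U hU e')
        le_rfl).hom (iota0 k chartQ U hU e' c'')) =
        (ς.appLE (AA k chartQ U hU e') (r₁ ⁻¹ᵁ P₁.basicOpen a) hWcW).hom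
          (iota0 k chartQ U hU e' c'') :=
      congr($(Scheme.Hom.appLE_map ς (le_refl (ς ⁻¹ᵁ AA k chartQ U hU e'))
        (homOfLE hWcW).op) (iota0 k chartQ U hU e' c''))
    have e2 : rres X hWcW ((r₁.appLE (AA j₁ chart₁ U hU (ψ.app U e'))
        (ς ⁻¹ᵁ AA k chartQ U hU e') hW1).hom (θ c'')) =
        (r₁.appLE (AA j₁ chart₁ U hU (ψ.app U e')) (r₁ ⁻¹ᵁ P₁.basicOpen a) hle).hom (θ c'') :=
      congr($(Scheme.Hom.appLE_map r₁ hW1 (homOfLE hWcW).op) (θ c''))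
    rw [← e2, ← e1, h1]
  refine ⟨Q.basicOpen (iota0 k chartQ U hU e' c'), ?_⟩
  have hVA' : Q.basicOpen (iota0 k chartQ U hU e' c') ≤ AA k chartQ U hU e' :=
    Q.basicOpen_le _
  -- the preimage of the open
  have hpre : ς ⁻¹ᵁ Q.basicOpen (iota0 k chartQ U hU e' c') = r₁ ⁻¹ᵁ P₁.basicOpen a := by
    rw [Scheme.preimage_basicOpen]
    have h1 : (ς.app (AA k chartQ U hU e')).hom (iota0 k chartQ U hU e' c') =
        X.presheaf.map (homOfLE hW1).op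
          ((r₁.app (AA j₁ chart₁ U hU (ψ.app U e'))).hom a) := by
      have h0 : (ς.appLE (AA k chartQ U hU e') (ς ⁻¹ᵁ AA k chartQ U hU e') le_rfl).hom
          (iota0 k chartQ U hU e' c') =
          (r₁.appLE (AA j₁ chart₁ U hU (ψ.app U e')) (ς ⁻¹ᵁ AA k chartQ U hU e') hW1).hom
            (θ c') := congr($hring c')
      rw [hc'] at h0
      rw [Scheme.Hom.app_eq_appLE]
      exact h0
    rw [h1, Scheme.basicOpen_res, ← Scheme.preimage_basicOpen]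
    exact inf_eq_right.mpr hWcW
  have hVle : r₁ ⁻¹ᵁ P₁.basicOpen a ≤ ς ⁻¹ᵁ Q.basicOpen (iota0 k chartQ U hU e' c') := hpre.ge
  have hmapLE : ∀ z : Γ(Q, AA k chartQ U hU e'),
      (ς.appLE (Q.basicOpen (iota0 k chartQ U hU e' c')) (r₁ ⁻¹ᵁ P₁.basicOpen a) hVle).hom
        (rres Q hVA' z) =
      (ς.appLE (AA k chartQ U hU e') (r₁ ⁻¹ᵁ P₁.basicOpen a) hWcW).hom z := fun z =>
    congr($(Scheme.Hom.map_appLE ς hVle (homOfLE hVA').op) z)
  -- surjectivity on sections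
  have hsurj : Function.Surjective
      (ς.appLE (Q.basicOpen (iota0 k chartQ U hU e' c')) (r₁ ⁻¹ᵁ P₁.basicOpen a) hVle).hom := by
    rw [← RingHom.range_eq_top]
    apply hR
    · intro b
      refine ⟨(pQ.appLE U (Q.basicOpen (iota0 k chartQ U hU e' c'))
        (hVA'.trans (AA_le k chartQ U hU e'))).hom b, ?_⟩
      exact appLE_of_comp ς pQ q hς U _ _ _ hVle _ b
    · rintro _ ⟨f, rfl⟩
      refine ⟨rres Q hVA' (cc hk chartQ U hU e' f), ?_⟩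
      have h1 := hstar (Away.mk (𝒯.deg U hU) (jj_mem hk U hU e') 1 (jj 𝒯.toQCAlg k U f)
        (AwayGen.mem_smul_one (jj_mem hk U hU f)))
      rw [hθ f, iota0_mk hk] at h1
      rw [hmapLE]
      exact h1.symm
    · intro u hu
      have h1 := hstar c'
      rw [hc', ← hmapLE] at h1
      obtain ⟨w, hw'⟩ : ∃ w : Γ(Q, Q.basicOpen (iota0 k chartQ U hU e' c')),
          rres Q hVA' (iota0 k chartQ U hU e' c') * w = 1 :=
        (RingedSpace.isUnit_res_basicOpen _ (iota0 k chartQ U hU e' c')).exists_right_inv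
      refine ⟨w, ?_⟩
      have h3 := congrArg (ς.appLE (Q.basicOpen (iota0 k chartQ U hU e' c'))
        (r₁ ⁻¹ᵁ P₁.basicOpen a) hVle).hom hw'
      rw [map_mul, map_one, ← h1] at h3
      calc (ς.appLE (Q.basicOpen (iota0 k chartQ U hU e' c')) (r₁ ⁻¹ᵁ P₁.basicOpen a) hVle).hom w
          = (u * (r₁.appLE (AA j₁ chart₁ U hU (ψ.app U e')) (r₁ ⁻¹ᵁ P₁.basicOpen a) hle).hom a) *
            (ς.appLE (Q.basicOpen (iota0 k chartQ U hU e' c')) (r₁ ⁻¹ᵁ P₁.basicOpen a)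
              hVle).hom w := by rw [hu, one_mul]
        _ = u := by rw [mul_assoc, h3, mul_one]
  -- the closed immersion
  have hVaff : IsAffineOpen (Q.basicOpen (iota0 k chartQ U hU e' c')) := hA'aff.basicOpen _
  haveI : IsAffine (Q.basicOpen (iota0 k chartQ U hU e' c')).toScheme := hVaff
  haveI : IsAffine (r₁ ⁻¹ᵁ P₁.basicOpen a).toScheme := haff
  haveI : IsClosedImmersion (ς.resLE (Q.basicOpen (iota0 k chartQ U hU e' c'))
      (r₁ ⁻¹ᵁ P₁.basicOpen a) hVle) := by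
    apply IsClosedImmersion.of_surjective_of_isAffine
    have happ : (ς.resLE (Q.basicOpen (iota0 k chartQ U hU e' c'))
        (r₁ ⁻¹ᵁ P₁.basicOpen a) hVle).appTop =
        (Q.basicOpen (iota0 k chartQ U hU e' c')).topIso.hom ≫
          ς.appLE (Q.basicOpen (iota0 k chartQ U hU e' c')) (r₁ ⁻¹ᵁ P₁.basicOpen a) hVle ≫
          (r₁ ⁻¹ᵁ P₁.basicOpen a).topIso.inv := Scheme.Hom.resLE_app_top _ _
    rw [happ]
    exact (ConcreteCategory.bijective_of_isIso (r₁ ⁻¹ᵁ P₁.basicOpen a).topIso.inv).2.comp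
      (hsurj.comp (ConcreteCategory.bijective_of_isIso
        (Q.basicOpen (iota0 k chartQ U hU e' c')).topIso.hom).2)
  refine ⟨hVle, ?_⟩
  rw [hpre, ← Scheme.Hom.resLE_comp_ι ς hVle]
  infer_instance

end Target

/-! ### the global statement -/

section Global

variable {X Y : Scheme.{u}}

/-- **EGA II 4.4.6/4.4.7**: over a quasi-compact quasi-separated base, a module very ample relative
to a morphism of finite type is very ample for a projective bundle of a quasi-coherent module of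
finite type -/
theorem exists_finiteType_immersion [CompactSpace Y] [QuasiSeparatedSpace Y] (q : X ⟶ Y)
    [QuasiCompact q] [LocallyOfFiniteType q] (L : X.Modules) (hL : PicF.IsInvertible L)
    (h : RelProj.IsRelVeryAmple q L) :
    ∃ (E : Y.Modules) (𝒯 : RelProj.QCGrAlg Y) (j : E ⟶ 𝒯.toModule) (P : Scheme.{u}) (p : P ⟶ Y)
      (chart : ∀ (U : Y.Opens) (hU : IsAffineOpen U),
        ((p ⁻¹ᵁ U : P.Opens) : Scheme.{u}) ≅ Proj (𝒯.deg U hU))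
      (O1 : P.Modules)
      (lam : ∀ (U : Y.Opens) (hU : IsAffineOpen U),
        O1 ⟶ (Scheme.Modules.pushforward (RelProj.emb p chart U hU)).obj
          (GrTwist.twist (𝒯.deg U hU) 1))
      (i : X ⟶ P),
      E.IsQuasicoherent ∧ E.IsFiniteType ∧ RelProj.IsGrSymAlg E 𝒯 j ∧
        RelProj.IsRelProj 𝒯 p chart ∧ RelProj.IsRelTwist 𝒯 p chart 1 O1 lam ∧ IsImmersion i ∧
        i ≫ p = q ∧ Nonempty (L ≅ (Scheme.Modules.pullback i).obj O1) := by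
  classical
  obtain ⟨E₁, hE₁, 𝒮₁, j₁, hj₁, P₁, p₁, chart₁, hP₁, O1₁, lam₁, hO1₁, φ₁, hφ₁, r₁, hr₁i, hr₁,
    τ₁, s₁, hs₁, hc₁⟩ := RLSigmaImm.exists_data q L h
  haveI := hE₁
  haveI := hr₁i
  haveI : CompactSpace X := QuasiCompact.compactSpace_of_compactSpace q
  -- local data
  have hloc := fun x : X => exists_local_data hj₁ (chart := chart₁) q r₁ hr₁ x
  choose U hU e a N hle hmem haff hprop using hloc
  obtain ⟨T, hT⟩ := CompactSpace.elim_nhds_subcover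
    (fun x => ((r₁ ⁻¹ᵁ P₁.basicOpen (a x) : X.Opens) : Set X))
    (fun x => (r₁ ⁻¹ᵁ P₁.basicOpen (a x)).2.mem_nhds (hmem x))
  have hcovT : ∀ x : X, ∃ y ∈ T, x ∈ r₁ ⁻¹ᵁ P₁.basicOpen (a y) := by
    intro x
    have hx : x ∈ ⋃ y ∈ T, ((r₁ ⁻¹ᵁ P₁.basicOpen (a y) : X.Opens) : Set X) := by
      rw [hT]
      trivial
    obtain ⟨y, hyT, hxy⟩ := Set.mem_iUnion₂.mp hx
    exact ⟨y, hyT, hxy⟩
  -- the sections to be captured
  let J := Σ x : ↥T, Option {n // n ∈ N x.1}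
  let sec : ∀ k : J, Γ(E₁, U k.1.1) := fun k => k.2.elim (e k.1.1) (fun n => n.1)
  have key : ∀ k : J, ∃ (G : Y.Modules) (m : G ⟶ E₁), Mono m ∧ G.IsQuasicoherent ∧
      G.IsFiniteType ∧ ∃ g : Γ(G, U k.1.1), m.app (U k.1.1) g = sec k :=
    fun k => QCAlgGen.exists_sub_through_section E₁ (hU k.1.1) (sec k)
  choose G m hm hq hft g hg using key
  obtain ⟨F, ψ, hψm, hFq, hFft, hp⟩ := QCAlgGen.exists_sum E₁ G m hq hft
  haveI := hFq
  have hrange : ∀ k : J, sec k ∈ Set.range (fun f : Γ(F, U k.1.1) => ψ.app (U k.1.1) f) := by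
    intro k
    obtain ⟨pk, hpk⟩ := hp k
    refine ⟨pk.app _ (g k), ?_⟩
    show ψ.app _ (pk.app _ (g k)) = sec k
    rw [← hg k, ← hpk]
    rfl
  let sQ : (Scheme.Modules.pullback q).obj F ⟶ L := (Scheme.Modules.pullback q).map ψ ≫ s₁
  have hψ : ∀ (V : Y.Opens) (f : Γ(F, V)),
      sQ.app (q ⁻¹ᵁ V) (pull q F V f) = s₁.app (q ⁻¹ᵁ V) (pull q E₁ V (ψ.app V f)) := by
    intro V f
    show s₁.app (q ⁻¹ᵁ V) (((Scheme.Modules.pullback q).map ψ).app (q ⁻¹ᵁ V) (pull q F V f)) = _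
    rw [pull_app]
  -- the projective bundle of `F`
  obtain ⟨𝒯, k, hk⟩ := SymGr.exists_isGrSymAlg F
  obtain ⟨Q, pQ, chartQ, hQ⟩ := RelProjExist.exists_isRelProj 𝒯
  obtain ⟨O1Q, lamQ, hO1Q⟩ := RelTwistExist.exists_isRelTwist hQ 1
  obtain ⟨φQ, hφQ0⟩ := CanonPhi.exists_phi hk.2 hQ hO1Q
  have hφQ : ∀ (U : Y.Opens) (hU : IsAffineOpen U) (f : Γ(F, U)),
      Reads lamQ U hU (pQ ⁻¹ᵁ U) (up pQ O1Q U (φQ.app U f)) (jj 𝒯.toQCAlg k U f) 1 :=
    fun U hU f => ProjBundleUP.reads_of_fr (d := 1) U hU _ (hk.2 U hU f) _ (hφQ0 U hU f)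
  have hpre : ∀ x : ↥T, ∃ e' : Γ(F, U x.1), ψ.app (U x.1) e' = e x.1 :=
    fun x => hrange ⟨x, none⟩
  choose e' he' using hpre
  haveI : Epi sQ := by
    apply TwistHom.epi_of_isGen
    intro x
    obtain ⟨y, hyT, hxy⟩ := hcovT x
    have hx1 : x ∈ r₁ ⁻¹ᵁ AA j₁ chart₁ (U y) (hU y) (e y) := hle y hxy
    refine ⟨r₁ ⁻¹ᵁ AA j₁ chart₁ (U y) (hU y) (e y),
      res _ (pre_le j₁ chart₁ q r₁ hr₁ (U y) (hU y) (e y)) (pull q F (U y) (e' ⟨y, hyT⟩)),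
      hx1, ?_⟩
    rw [QCExact.app_res', hψ, he' ⟨y, hyT⟩]
    intro W hW
    rw [res_res]
    exact isGenAt_sigma hj₁ hO1₁ hφ₁ q s₁ r₁ hr₁ τ₁ hc₁ (U y) (hU y) (e y) W hW
  obtain ⟨ς, hς, τQ, hτ0⟩ := ProjBundleUP.exists_hom F 𝒯 k hk pQ chartQ hQ
    O1Q lamQ hO1Q φQ hφQ q L hL sQ
  have hτc := compat_of_pull_local ς pQ q hς φQ τQ.hom _ hτ0
  have hcQ : ∀ (U : Y.Opens), IsAffineOpen U → ∀ f : Γ(F, U),
      τQ.hom.app (q ⁻¹ᵁ U) (res _ (preimage_le ς pQ q hς U)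
        (pull ς O1Q (pQ ⁻¹ᵁ U) (up pQ O1Q U (φQ.app U f)))) =
        sQ.app (q ⁻¹ᵁ U) (pull q F U f) :=
    fun U _ f => pull_of_compat ς pQ q hς φQ τQ.hom _ hτc U f
  haveI : IsImmersion ς := by
    haveI : MorphismProperty.RespectsRight @IsImmersion @IsOpenImmersion :=
      ⟨fun i hi f hf => by
        haveI := hi
        haveI := hf
        exact (inferInstance : IsImmersion (f ≫ i))⟩
    haveI : MorphismProperty.HasOfPostcompProperty @IsImmersion @IsOpenImmersion :=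
      ⟨fun f g _ hfg => by
        haveI := hfg
        exact IsImmersion.of_comp f g⟩
    apply IsZariskiLocalAtTarget.of_forall_source_exists_preimage (P := @IsImmersion) ς
    intro x
    obtain ⟨y, hyT, hxy⟩ := hcovT x
    have hsub : ((N y : Finset Γ(E₁, U y)) : Set Γ(E₁, U y)) ⊆
        Set.range (fun f : Γ(F, U y) => ψ.app (U y) f) :=
      fun n hn => hrange ⟨⟨y, hyT⟩, some ⟨n, hn⟩⟩
    obtain ⟨ha, hR⟩ := hprop y _ hsub
    obtain ⟨V, hV, hVimm⟩ := exists_chart_immersion q L hj₁ hP₁ hO1₁ hφ₁ s₁ r₁ hr₁ τ₁ hc₁ hk hQ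
      hO1Q hφQ sQ ς hς τQ hcQ ψ hψ (U y) (hU y) (e y) (e' ⟨y, hyT⟩) (he' ⟨y, hyT⟩) (a y) (hle y)
      (haff y) ha hR
    exact ⟨V, hV hxy, hVimm⟩
  exact ⟨F, 𝒯, k, Q, pQ, chartQ, O1Q, lamQ, ς, hFq, hFft, hk, hQ, hO1Q, inferInstance, hς,
    ⟨τQ.symm⟩⟩

end Global

end Groth.Agent.Lib.Helper3.VAFin
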