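import Groth.Agent.Lib.Helper3.LinEmb
import Groth.Agent.Lib.Helper3.TwistIso
import Groth.Agent.Lib.Helper3.VAFin
import Groth.Agent.Lib.Helper3.GlobGen
import Groth.Agent.Lib.Helper3.AmpleMisc
import Groth.Agent.Lib.Helper3.RelAmpleLib
import Groth.Agent.Lib.Helper3.SymGenAmple
import Groth.Agent.Lib.Helper3.QCExtend
import Groth.Agent.Lib.Helper3.ProjBC
import Groth.Agent.Lib.Helper3.SymQHom
import Groth.Agent.Lib.Helper3.RelTwistQ
import Groth.Agent.Lib.Helper3.VALocal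

/-!
# Very ampleness and composition (EGA II 4.4.10 (ii))
-/

set_option autoImplicit false
set_option linter.unusedSectionVars false
universe u
open CategoryTheory CategoryTheory.Limits AlgebraicGeometry TopologicalSpace Opposite
open Scheme.Modules
open scoped HomogeneousIdeal

namespace Groth.Agent.Lib.Helper3.VAComp2

open QCSec InvGen InvTensor InvMonoidal PbBasic PbTensor PullLemmas RelChart SymGen TwistHom
  TwistComp

/-- a relatively very ample module is relatively ample (copy of S5721) -/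
theorem isRelAmple_of_isRelVeryAmple {X Y : Scheme.{u}} (f : X ⟶ Y) [QuasiCompact f]
    (L : X.Modules) (h : RelProj.IsRelVeryAmple f L) : RelAmple.IsRelAmple f L := by
  obtain ⟨E, hE, 𝒮, j, hj, P, p, chart, hP, O1, lam, hO1, i, himm, hi, ⟨iso⟩⟩ := h
  haveI : E.IsQuasicoherent := hE
  subst hi
  have h1 := SymGenAmple.isRelAmple_pullback_of_isEmbedding hP
    (SymGenProj.isGenDegOne hj) hO1 i i.isEmbedding
  exact AmpleMisc.isRelAmple_of_iso (i ≫ p) iso.symm h1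

/-- relative very ampleness is stable under base change (copy of S12474) -/
theorem isRelVeryAmple_baseChange {X Y X' Y' : Scheme.{u}} (f : X ⟶ Y) (g : Y' ⟶ Y)
    (g' : X' ⟶ X) (f' : X' ⟶ Y') (hsq : IsPullback g' f' f g) (L : X.Modules)
    (hva : RelProj.IsRelVeryAmple f L) :
    RelProj.IsRelVeryAmple f' ((Scheme.Modules.pullback g').obj L) := by
  classical
  obtain ⟨E, hE, 𝒮, j, hj, P, p, chart, hP, O1, lam, hO1, i, himm, hip, ⟨eL⟩⟩ := hva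
  haveI : E.IsQuasicoherent := hE
  haveI hE' : ((Scheme.Modules.pullback g).obj E).IsQuasicoherent :=
    Groth.Agent.Lib.Helper17.PbStalk.isQuasicoherent_pullback g E
  obtain ⟨𝒮', j', hj'⟩ := SymGr.exists_isGrSymAlg ((Scheme.Modules.pullback g).obj E)
  obtain ⟨P', p', chart', hP'⟩ := RelProjExist.exists_isRelProj 𝒮'
  obtain ⟨O1', lam', hO1'⟩ := RelTwistExist.exists_isRelTwist hP' 1
  obtain ⟨u, hu⟩ := SymQHom.exists_symQGrHom g hj hj'
  have hbc : RelSpec.IsQBaseChange u.toQHom := SymBC.isQBaseChange g hj.1 hj'.1 u.toQHom hu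
  obtain ⟨h, hh⟩ := ProjBC.exists_isProjQMap g u hbc hP hP'
  have hpb : IsPullback h p' p g := ProjBC.isPullback_of_isProjQMap g u hbc hP hP' h hh
  have hgen : 𝒮.IsGenDegOne := SymGenProj.isGenDegOne hj
  obtain ⟨τ⟩ := RelTwistQ.nonempty_iso_of_isProjQMap hP hP' hO1 hO1' h hh hgen
  have hcomm : (g' ≫ i) ≫ p = f' ≫ g := by rw [Category.assoc, hip, hsq.w]
  have hi'1 : hpb.lift (g' ≫ i) f' hcomm ≫ h = g' ≫ i := hpb.lift_fst _ _ _
  have hi'2 : hpb.lift (g' ≫ i) f' hcomm ≫ p' = f' := hpb.lift_snd _ _ _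
  have hpb2 : IsPullback (hpb.lift (g' ≫ i) f' hcomm) g' h i :=
    IsPullback.of_right (by rw [hi'2, hip]; exact hsq.flip) hi'1 hpb.flip
  have himm' : IsImmersion (hpb.lift (g' ≫ i) f' hcomm) :=
    MorphismProperty.of_isPullback (P := @IsImmersion) hpb2.flip himm
  refine ⟨_, hE', 𝒮', j', hj', P', p', chart', hP', O1', lam', hO1',
    hpb.lift (g' ≫ i) f' hcomm, himm', hi'2, ⟨?_⟩⟩
  exact (Scheme.Modules.pullback g').mapIso eL ≪≫ (Scheme.Modules.pullbackComp g' i).app O1 ≪≫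
    (Scheme.Modules.pullbackCongr hi'1.symm).app O1 ≪≫
    (Scheme.Modules.pullbackComp _ h).symm.app O1 ≪≫
    (Scheme.Modules.pullback _).mapIso τ

set_option backward.isDefEq.respectTransparency.types false in
/-- the affine case of EGA II 4.4.10 (ii) -/
theorem isRelVeryAmple_comp_affine {X Y Z : Scheme.{u}} [IsAffine Z] (f : X ⟶ Y)
    [QuasiCompact f] [LocallyOfFiniteType f] (g : Y ⟶ Z) [QuasiCompact g]
    (L : X.Modules) (hL : PicF.IsInvertible L) (hLva : RelProj.IsRelVeryAmple f L)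
    (K : Y.Modules) (hK : PicF.IsInvertible K) (hKva : RelProj.IsRelVeryAmple g K) :
    ∃ n₁ : ℕ, ∀ n : ℕ, n₁ ≤ n →
      RelProj.IsRelVeryAmple (f ≫ g)
        (CohB1.tensorMod L ((Scheme.Modules.pullback f).obj (CohB1.tensorPow K (n + 1)))) := by
  classical
  have hKra : RelAmple.IsRelAmple g K := isRelAmple_of_isRelVeryAmple g K hKva
  have hKa : CohB1.IsAmple K := (RelAmpleLib.isRelAmple_iff_isAmple_of_isAffine g K).mp hKra
  haveI : CompactSpace Y := hKa.2.1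
  haveI : Y.IsSeparated := RelAmpleLib.isSeparated_of_isAmple hKa
  obtain ⟨E, 𝒮E, jE, PE, pE, chartE, O1E, lamE, i, hEqc, hEft, hjE, hPE, hO1E, hi, hipE, ⟨eL⟩⟩ :=
    VAFin.exists_finiteType_immersion f L hL hLva
  haveI := hEqc
  haveI := hEft
  haveI := hi
  obtain ⟨n₁, hn₁⟩ := GlobGen.exists_isGloballyGenerated_twist hKa E
  obtain ⟨F, hF, 𝒮F, jF, hjF, PF, pF, chartF, hPF, O1F, lamF, hO1F, iY, hiY, hiYp, ⟨eK⟩⟩ := hKva
  haveI : F.IsQuasicoherent := hF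
  haveI := hiY
  refine ⟨n₁, fun n hn => ?_⟩
  obtain ⟨I, ψ₀, hψ₀⟩ := hn₁ n hn
  have hKn : PicF.IsInvertible (CohB1.tensorPow K n) := isInvertible_tensorPow hK n
  have hO1Ei : PicF.IsInvertible O1E :=
    GrTwistGen.isInvertible_of_isRelTwist 𝒮E pE chartE (SymGenProj.isGenDegOne hjE) _ O1E lamE
      hO1E.bijective
  -- `E' = E ⊗ K^n`
  haveI hE' : (CohB1.tensorMod E (CohB1.tensorPow K n)).IsQuasicoherent :=
    InvCoh.isQuasicoherent_tensorMod E _ hKn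
  obtain ⟨𝒮', j', hj'⟩ := SymGr.exists_isGrSymAlg (CohB1.tensorMod E (CohB1.tensorPow K n))
  obtain ⟨P', p', chart', hP'⟩ := RelProjExist.exists_isRelProj 𝒮'
  obtain ⟨O1', lam', hO1'⟩ := RelTwistExist.exists_isRelTwist hP' 1
  obtain ⟨ι₁, hι₁, ⟨τ₁⟩⟩ := TwistIso.exists_iso hjE hPE hO1E hj' hP' hO1' hKn (Iso.refl _)
  -- `E'' = g^* E₁`, `E₁` free on `Z`
  haveI hE₁ : (QCExtend.freeMod Z I).IsQuasicoherent := QCExtend.isQuasicoherent_freeMod Z I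
  haveI hE'' : ((Scheme.Modules.pullback g).obj (QCExtend.freeMod Z I)).IsQuasicoherent :=
    Groth.Agent.Lib.Helper17.PbStalk.isQuasicoherent_pullback g _
  let ψ : (Scheme.Modules.pullback g).obj (QCExtend.freeMod Z I) ⟶
      CohB1.tensorMod E (CohB1.tensorPow K n) :=
    (SheafOfModules.pullbackObjFreeIso g.toRingCatSheafHom I).hom ≫ ψ₀
  haveI : Epi ψ := @epi_comp _ _ _ _ _ _ inferInstance _ hψ₀
  obtain ⟨𝒮'', j'', hj''⟩ :=
    SymGr.exists_isGrSymAlg ((Scheme.Modules.pullback g).obj (QCExtend.freeMod Z I))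
  obtain ⟨P'', p'', chart'', hP''⟩ := RelProjExist.exists_isRelProj 𝒮''
  obtain ⟨O1'', lam'', hO1''⟩ := RelTwistExist.exists_isRelTwist hP'' 1
  have hr' : (i ≫ ι₁.hom) ≫ p' = f := by rw [Category.assoc, hι₁, hipE]
  obtain ⟨ς₂, hς₂i, hς₂, ⟨τ₂⟩⟩ :=
    LinEmb.exists_immersion_of_epi hj' hP' hO1' hj'' hP'' hO1'' ψ f (i ≫ ι₁.hom) hr'
  -- `P₁ = P(E₁)` over `Z`
  obtain ⟨𝒮₁, j₁, hj₁⟩ := SymGr.exists_isGrSymAlg (QCExtend.freeMod Z I)
  obtain ⟨P₁, p₁, chart₁, hP₁⟩ := RelProjExist.exists_isRelProj 𝒮₁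
  obtain ⟨O1₁, lam₁, hO1₁⟩ := RelTwistExist.exists_isRelTwist hP₁ 1
  obtain ⟨u, hu⟩ := SymQHom.exists_symQGrHom g hj₁ hj''
  have hbc : RelSpec.IsQBaseChange u.toQHom := SymBC.isQBaseChange g hj₁.1 hj''.1 u.toQHom hu
  obtain ⟨h, hh⟩ := ProjBC.exists_isProjQMap g u hbc hP₁ hP''
  have hpb : IsPullback h p'' p₁ g := ProjBC.isPullback_of_isProjQMap g u hbc hP₁ hP'' h hh
  have hgen₁ : 𝒮₁.IsGenDegOne := SymGenProj.isGenDegOne hj₁
  obtain ⟨τh⟩ := RelTwistQ.nonempty_iso_of_isProjQMap hP₁ hP'' hO1₁ hO1'' h hh hgen₁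
  -- the two morphisms
  have hr₁ : (ς₂ ≫ h) ≫ p₁ = f ≫ g := by
    rw [Category.assoc, hpb.w, ← Category.assoc, hς₂]
  have hr₂ : (f ≫ iY) ≫ pF = f ≫ g := by rw [Category.assoc, hiYp]
  have hmw : h ≫ p₁ = (p'' ≫ iY) ≫ pF := by rw [hpb.w, Category.assoc, hiYp]
  have hm1 : pullback.lift h (p'' ≫ iY) hmw ≫ pullback.fst p₁ pF = h := pullback.lift_fst _ _ _
  have hm2 : pullback.lift h (p'' ≫ iY) hmw ≫ pullback.snd p₁ pF = p'' ≫ iY :=
    pullback.lift_snd _ _ _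
  have hs : IsPullback (pullback.lift h (p'' ≫ iY) hmw ≫ pullback.fst p₁ pF) p'' p₁
      (iY ≫ pF) := by
    rw [hm1, hiYp]
    exact hpb
  have hpbm : IsPullback (pullback.lift h (p'' ≫ iY) hmw) p'' (pullback.snd p₁ pF) iY :=
    IsPullback.of_right hs hm2 (IsPullback.of_hasPullback p₁ pF)
  haveI : IsImmersion (pullback.lift h (p'' ≫ iY) hmw) :=
    MorphismProperty.of_isPullback (P := @IsImmersion) hpbm.flip hiY
  have hlift : pullback.lift (ς₂ ≫ h) (f ≫ iY) (hr₁.trans hr₂.symm) =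
      ς₂ ≫ pullback.lift h (p'' ≫ iY) hmw := by
    apply pullback.hom_ext
    · rw [pullback.lift_fst, Category.assoc, hm1]
    · rw [pullback.lift_snd, Category.assoc, hm2, ← Category.assoc, hς₂]
  haveI : IsImmersion (pullback.lift (ς₂ ≫ h) (f ≫ iY) (hr₁.trans hr₂.symm)) := by
    rw [hlift]
    haveI := hς₂i
    infer_instance
  -- Segre
  haveI hEF : (CohB1.tensorMod (QCExtend.freeMod Z I) F).IsQuasicoherent :=
    Groth.Agent.Lib.Helper17.TensorSec.isQuasicoherent_tensorMod _ F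
  obtain ⟨𝒯, k, hk⟩ := SymGr.exists_isGrSymAlg (CohB1.tensorMod (QCExtend.freeMod Z I) F)
  obtain ⟨Q, q, chartQ, hQ⟩ := RelProjExist.exists_isRelProj 𝒯
  obtain ⟨O1Q, lamQ, hO1Q⟩ := RelTwistExist.exists_isRelTwist hQ 1
  obtain ⟨ς, hςi, hς, ⟨τς⟩⟩ := Segre.exists_segre hj₁ hP₁ hO1₁ hjF hPF hO1F hk hQ hO1Q (f ≫ g)
    (ς₂ ≫ h) (f ≫ iY) hr₁ hr₂
  refine ⟨_, hEF, 𝒯, k, hk, Q, q, chartQ, hQ, O1Q, lamQ, hO1Q, ς, hςi, hς, ⟨?_⟩⟩
  have e₁ : (Scheme.Modules.pullback (ς₂ ≫ h)).obj O1₁ ≅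
      CohB1.tensorMod L ((Scheme.Modules.pullback f).obj (CohB1.tensorPow K n)) :=
    (Scheme.Modules.pullbackComp ς₂ h).symm.app O1₁ ≪≫
      (Scheme.Modules.pullback ς₂).mapIso τh ≪≫ τ₂ ≪≫
      (Scheme.Modules.pullbackComp i ι₁.hom).symm.app O1' ≪≫
      (Scheme.Modules.pullback i).mapIso τ₁ ≪≫
      pbTensorIso i O1E _ hO1Ei (isInvertible_pullback pE hKn) ≪≫
      tensorMapIso eL.symm (compIso i pE f hipE (CohB1.tensorPow K n))
  have e₂ : (Scheme.Modules.pullback (f ≫ iY)).obj O1F ≅ (Scheme.Modules.pullback f).obj K :=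
    (Scheme.Modules.pullbackComp f iY).symm.app O1F ≪≫ (Scheme.Modules.pullback f).mapIso eK.symm
  exact tensorMapIso (Iso.refl L) (pbTensorIso f (CohB1.tensorPow K n) K hKn hK) ≪≫
    (assoc L _ _).symm ≪≫ tensorMapIso e₁.symm e₂.symm ≪≫ τς.symm

/-- the restriction of the situation of EGA II 4.4.10 (ii) over an affine open of the base -/
theorem isRelVeryAmple_comp_restrict {X Y Z : Scheme.{u}} (f : X ⟶ Y)
    [QuasiCompact f] [LocallyOfFiniteType f] (g : Y ⟶ Z) [QuasiCompact g]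
    (L : X.Modules) (hL : PicF.IsInvertible L) (hLva : RelProj.IsRelVeryAmple f L)
    (K : Y.Modules) (hK : PicF.IsInvertible K) (hKva : RelProj.IsRelVeryAmple g K)
    (O : Z.Opens) (hO : IsAffineOpen O) :
    ∃ n₁ : ℕ, ∀ n : ℕ, n₁ ≤ n →
      RelProj.IsRelVeryAmple ((f ≫ g) ∣_ O)
        ((CohB1.tensorMod L
          ((Scheme.Modules.pullback f).obj (CohB1.tensorPow K (n + 1)))).restrict
            ((f ≫ g) ⁻¹ᵁ O).ι) := by
  classical
  haveI : IsAffine (O : Scheme.{u}) := hO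
  have hsqf : IsPullback (f ⁻¹ᵁ (g ⁻¹ᵁ O)).ι (f ∣_ (g ⁻¹ᵁ O)) f (g ⁻¹ᵁ O).ι :=
    (isPullback_morphismRestrict f (g ⁻¹ᵁ O)).flip
  have hsqg : IsPullback (g ⁻¹ᵁ O).ι (g ∣_ O) g O.ι := (isPullback_morphismRestrict g O).flip
  haveI : QuasiCompact (f ∣_ (g ⁻¹ᵁ O)) :=
    MorphismProperty.of_isPullback (P := @QuasiCompact) hsqf inferInstance
  haveI : LocallyOfFiniteType (f ∣_ (g ⁻¹ᵁ O)) :=
    MorphismProperty.of_isPullback (P := @LocallyOfFiniteType) hsqf inferInstance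
  haveI : QuasiCompact (g ∣_ O) :=
    MorphismProperty.of_isPullback (P := @QuasiCompact) hsqg inferInstance
  have hLO : PicF.IsInvertible ((Scheme.Modules.pullback (f ⁻¹ᵁ (g ⁻¹ᵁ O)).ι).obj L) :=
    isInvertible_pullback _ hL
  have hKO : PicF.IsInvertible ((Scheme.Modules.pullback (g ⁻¹ᵁ O).ι).obj K) :=
    isInvertible_pullback _ hK
  have hLvaO := isRelVeryAmple_baseChange f (g ⁻¹ᵁ O).ι (f ⁻¹ᵁ (g ⁻¹ᵁ O)).ι (f ∣_ (g ⁻¹ᵁ O)) hsqf
    L hLva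
  have hKvaO := isRelVeryAmple_baseChange g O.ι (g ⁻¹ᵁ O).ι (g ∣_ O) hsqg K hKva
  obtain ⟨n₁, hn₁⟩ := isRelVeryAmple_comp_affine (f ∣_ (g ⁻¹ᵁ O)) (g ∣_ O) _ hLO hLvaO _ hKO hKvaO
  refine ⟨n₁, fun n hn => ?_⟩
  have h := hn₁ n hn
  rw [morphismRestrict_comp]
  refine TwistIso.isRelVeryAmple_of_iso _ ?_ h
  have hw : (f ⁻¹ᵁ (g ⁻¹ᵁ O)).ι ≫ f = (f ∣_ (g ⁻¹ᵁ O)) ≫ (g ⁻¹ᵁ O).ι := hsqf.w
  exact tensorMapIso (Iso.refl _)
      ((Scheme.Modules.pullback (f ∣_ (g ⁻¹ᵁ O))).mapIso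
        (pbPowIso (g ⁻¹ᵁ O).ι K hK (n + 1)).symm ≪≫
      (Scheme.Modules.pullbackComp (f ∣_ (g ⁻¹ᵁ O)) (g ⁻¹ᵁ O).ι).app _ ≪≫
      (Scheme.Modules.pullbackCongr hw.symm).app _ ≪≫
      (Scheme.Modules.pullbackComp (f ⁻¹ᵁ (g ⁻¹ᵁ O)).ι f).symm.app _) ≪≫
    (pbTensorIso (f ⁻¹ᵁ (g ⁻¹ᵁ O)).ι L _ hL
      (isInvertible_pullback f (isInvertible_tensorPow hK (n + 1)))).symm ≪≫
    ((Scheme.Modules.restrictFunctorIsoPullback (f ⁻¹ᵁ (g ⁻¹ᵁ O)).ι).app _).symm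

/-- **EGA II 4.4.10 (ii)** -/
theorem isRelVeryAmple_comp {X Y Z : Scheme.{u}} [CompactSpace Z] (f : X ⟶ Y)
    [QuasiCompact f] [LocallyOfFiniteType f] (g : Y ⟶ Z) [QuasiCompact g]
    (L : X.Modules) (hL : PicF.IsInvertible L) (hLva : RelProj.IsRelVeryAmple f L)
    (K : Y.Modules) (hK : PicF.IsInvertible K) (hKva : RelProj.IsRelVeryAmple g K) :
    ∃ n₀ : ℕ, 0 < n₀ ∧ ∀ n : ℕ, n₀ ≤ n →
      RelProj.IsRelVeryAmple (f ≫ g)
        (CohB1.tensorMod L ((Scheme.Modules.pullback f).obj (CohB1.tensorPow K n))) := by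
  classical
  choose O hO hz using fun z : Z => ProjQMap.exists_affine_mem z
  choose n₁ hn₁ using fun z : Z =>
    isRelVeryAmple_comp_restrict f g L hL hLva K hK hKva (O z) (hO z)
  obtain ⟨t, ht⟩ := CompactSpace.elim_nhds_subcover (fun z => (O z : Set Z))
    (fun z => (O z).2.mem_nhds (hz z))
  refine ⟨t.sup n₁ + 1, Nat.succ_pos _, fun n hn => ?_⟩
  obtain ⟨m, rfl⟩ : ∃ m, n = m + 1 := ⟨n - 1, by omega⟩
  have hm : t.sup n₁ ≤ m := by omega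
  apply VALocal.isRelVeryAmple_of_local (f ≫ g) _
    (isInvertible_tensorMod hL (isInvertible_pullback f (isInvertible_tensorPow hK (m + 1))))
  intro y
  have hy : y ∈ ⋃ z ∈ t, (O z : Set Z) := ht ▸ Set.mem_univ y
  obtain ⟨z, hzt, hyz⟩ := Set.mem_iUnion₂.mp hy
  exact ⟨O z, hyz, hn₁ z m ((Finset.le_sup hzt).trans hm)⟩

end Groth.Agent.Lib.Helper3.VAComp2
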