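import Groth.Agent.Lib.Helper3.ProjProd
import Groth.Agent.Lib.Helper3.VAComp2

/-!
# Composites of projective morphisms over a quasi-compact quasi-separated base are projective
-/

set_option autoImplicit false
set_option linter.unusedSectionVars false
universe u
open CategoryTheory CategoryTheory.Limits AlgebraicGeometry TopologicalSpace Opposite

namespace Groth.Agent.Lib.Helper3.ProjComp

open InvTensor PbBasic

/-- **EGA II 5.5.5 (ii)** -/
theorem isProjective_comp {X Y S : Scheme.{u}} [CompactSpace S] [QuasiSeparatedSpace S]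
    (f : X ⟶ Y) (g : Y ⟶ S) (hf : RelProj.IsProjective f) (hg : RelProj.IsProjective g) :
    RelProj.IsProjective (f ≫ g) := by
  classical
  obtain ⟨E₁, 𝒯₁, j₁, P₁, p₁, chart₁, i₁, hE₁q, hE₁ft, hj₁, hP₁, hi₁, hip₁, hfp⟩ :=
    ProjProd.exists_closedImmersion_of_isProjective f hf
  obtain ⟨E₂, 𝒯₂, j₂, P₂, p₂, chart₂, i₂, hE₂q, hE₂ft, hj₂, hP₂, hi₂, hip₂, hgp⟩ :=
    ProjProd.exists_closedImmersion_of_isProjective g hg
  haveI := hE₁q
  haveI := hE₂q
  haveI := hi₁
  haveI := hi₂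
  haveI := hfp
  haveI := hgp
  haveI : QuasiCompact f := inferInstance
  haveI : QuasiCompact g := inferInstance
  haveI : LocallyOfFiniteType f := inferInstance
  obtain ⟨O1₁, lam₁, hO1₁⟩ := RelTwistExist.exists_isRelTwist hP₁ 1
  obtain ⟨O1₂, lam₂, hO1₂⟩ := RelTwistExist.exists_isRelTwist hP₂ 1
  have hO1i₁ : PicF.IsInvertible O1₁ :=
    GrTwistGen.isInvertible_of_isRelTwist 𝒯₁ p₁ chart₁ (SymGenProj.isGenDegOne hj₁) _ O1₁ lam₁
      hO1₁.bijective
  have hO1i₂ : PicF.IsInvertible O1₂ :=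
    GrTwistGen.isInvertible_of_isRelTwist 𝒯₂ p₂ chart₂ (SymGenProj.isGenDegOne hj₂) _ O1₂ lam₂
      hO1₂.bijective
  have hL : PicF.IsInvertible ((Scheme.Modules.pullback i₁).obj O1₁) :=
    isInvertible_pullback i₁ hO1i₁
  have hK : PicF.IsInvertible ((Scheme.Modules.pullback i₂).obj O1₂) :=
    isInvertible_pullback i₂ hO1i₂
  have hLva : RelProj.IsRelVeryAmple f ((Scheme.Modules.pullback i₁).obj O1₁) :=
    ⟨E₁, hE₁q, 𝒯₁, j₁, hj₁, P₁, p₁, chart₁, hP₁, O1₁, lam₁, hO1₁, i₁, inferInstance, hip₁,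
      ⟨Iso.refl _⟩⟩
  have hKva : RelProj.IsRelVeryAmple g ((Scheme.Modules.pullback i₂).obj O1₂) :=
    ⟨E₂, hE₂q, 𝒯₂, j₂, hj₂, P₂, p₂, chart₂, hP₂, O1₂, lam₂, hO1₂, i₂, inferInstance, hip₂,
      ⟨Iso.refl _⟩⟩
  obtain ⟨n₀, -, hn₀⟩ := VAComp2.isRelVeryAmple_comp f g _ hL hLva _ hK hKva
  have hM := hn₀ n₀ le_rfl
  have hMi : PicF.IsInvertible (CohB1.tensorMod ((Scheme.Modules.pullback i₁).obj O1₁)
      ((Scheme.Modules.pullback f).obj
        (CohB1.tensorPow ((Scheme.Modules.pullback i₂).obj O1₂) n₀))) :=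
    isInvertible_tensorMod hL (isInvertible_pullback f (isInvertible_tensorPow hK n₀))
  haveI : IsProper (f ≫ g) := inferInstance
  haveI : QuasiCompact (f ≫ g) := inferInstance
  haveI : LocallyOfFiniteType (f ≫ g) := inferInstance
  obtain ⟨E, 𝒯, j, P, p, chart, O1, lam, i, hEq, hEft, hj, hP, hO1, hi, hip, -⟩ :=
    VAFin.exists_finiteType_immersion (f ≫ g) _ hMi hM
  haveI := hEq
  haveI := hEft
  haveI := hi
  have hgen := SymGenProj.isGenDegOne hj
  have hftd := SymFT.isFTDeg_one hj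
  haveI : IsProper p := ProjProper.isProper_of_isGenDegOne hP hgen hftd
  haveI : IsProper (i ≫ p) := by
    rw [hip]
    infer_instance
  haveI : IsProper i := IsProper.of_comp i p
  haveI : IsClosedImmersion i :=
    IsClosedImmersion.of_isPreimmersion i i.isClosedMap.isClosed_range
  have key := CPb.isProjective 𝒯 p chart i hP hgen hftd
  rwa [hip] at key

end Groth.Agent.Lib.Helper3.ProjComp
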