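import Groth.Agent.Lib.Helper3.ProjCone
import Groth.Agent.Lib.Helper6.PointedProjCone

/-!
# The retraction of the pointed affine cone (relative case)
-/

set_option autoImplicit false
universe u
open CategoryTheory CategoryTheory.Limits AlgebraicGeometry TopologicalSpace Opposite
open scoped HomogeneousIdeal

namespace Groth.Agent.Lib.Helper3.ProjCone2

open HomogeneousLocalization ProjQMap ProjQMapOn ProjQGlue ProjCone
open Groth.Agent.Lib.Helper6.PointedProjCone Groth.Agent.Lib.Helper13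

section algebra

variable {A B : Type u} [CommRing A] [CommRing B] {𝒜 : ℕ → AddSubgroup A}
  {ℬ : ℕ → AddSubgroup B} [GradedRing 𝒜] [GradedRing ℬ] (ψ : 𝒜 →+*ᵍ ℬ)

theorem notMem_awayι {d : ℕ} (hd : 0 < d) {f : A} (hf : f ∈ 𝒜 d) (w : Spec (.of (Away 𝒜 f))) :
    f ∉ (Proj.awayι 𝒜 f hf hd w).asHomogeneousIdeal := by
  have : Proj.awayι 𝒜 f hf hd w ∈ (Proj.awayι 𝒜 f hf hd).opensRange := ⟨w, rfl⟩
  rw [Proj.opensRange_awayι] at this
  exact this

theorem mem_awayι_map_iff {d m : ℕ} (hd : 0 < d) (hm : 0 < m) {f g : A} (hf : f ∈ 𝒜 d)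
    (hg : g ∈ 𝒜 m) (w : Spec (.of (Away ℬ (ψ f)))) :
    g ∈ (Proj.awayι 𝒜 f hf hd
      (Spec.map (CommRingCat.ofHom (Away.map ψ f)) w)).asHomogeneousIdeal ↔
      ψ g ∈ (Proj.awayι ℬ (ψ f) (ψ.2 hf) hd w).asHomogeneousIdeal := by
  rw [← not_iff_not]
  have h := preimage_eq ψ hd hm hf hg
  have h1 : w ∈ (Spec.map (CommRingCat.ofHom (Away.map ψ f)) ≫ Proj.awayι 𝒜 f hf hd) ⁻¹ᵁ
      Proj.basicOpen 𝒜 g ↔ w ∈ (Proj.awayι ℬ (ψ f) (ψ.2 hf) hd) ⁻¹ᵁ Proj.basicOpen ℬ (ψ g) := by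
    rw [h]
  exact h1

theorem proj_ext_of_pos (y y' : Proj 𝒜) {d : ℕ} (hd : 0 < d) {f : A} (hf : f ∈ 𝒜 d)
    (hy : f ∉ y.asHomogeneousIdeal) (hy' : f ∉ y'.asHomogeneousIdeal)
    (H : ∀ m, 0 < m → ∀ g ∈ 𝒜 m, g ∈ y'.asHomogeneousIdeal ↔ g ∈ y.asHomogeneousIdeal) :
    y' = y := by
  refine ProjectiveSpectrum.ext (HomogeneousIdeal.ext' ?_)
  intro n a ha
  have haf : a * f ∈ 𝒜 (n + d) := SetLike.mul_mem_graded ha hf
  have h := H (n + d) (Nat.add_pos_right n hd) (a * f) haf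
  constructor
  · intro h1
    exact (y.isPrime.mem_or_mem (h.1 (Ideal.mul_mem_right _ _ h1))).resolve_right hy
  · intro h1
    exact (y'.isPrime.mem_or_mem (h.2 (Ideal.mul_mem_right _ _ h1))).resolve_right hy'

end algebra

section geometry

variable {Y PC P : Scheme.{u}} {𝒮 𝒮h : RelProj.QCGrAlg Y}
  {ι : 𝒮.toQCAlg ⟶ 𝒮h.toQCAlg} {z : 𝒮h.presheaf.obj (op ⊤)} (hz : RelCone.IsPolyOver 𝒮 𝒮h ι z)
  {pC : PC ⟶ Y}
  {chartC : ∀ (U : Y.Opens) (hU : IsAffineOpen U),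
    (((pC ⁻¹ᵁ U : PC.Opens) : Scheme.{u}) ≅ Proj (𝒮h.deg U hU))}
  {p : P ⟶ Y}
  {chart : ∀ (U : Y.Opens) (hU : IsAffineOpen U),
    (((p ⁻¹ᵁ U : P.Opens) : Scheme.{u}) ≅ Proj (𝒮.deg U hU))}
  {T E : Scheme.{u}} (j : T ⟶ PC) [IsOpenImmersion j] (r : T ⟶ P)
  (hall : AllIn ι hz.graded pC chartC j)
  (heq : EqsOn ι hz.graded p pC chart chartC j r)
  {i : 𝒮.toQCAlg.spec ⟶ PC} (hi : RelCone.IsConeImm 𝒮 hz pC chartC i)
  (e : E ⟶ 𝒮.toQCAlg.spec) (i' : E ⟶ T) (hi' : i' ≫ j = e ≫ i)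

include hi hi' in
theorem exists_lft_eq_of_notMem (U : Y.Opens) (hU : IsAffineOpen U) {d : ℕ} (hd : 0 < d)
    (f : 𝒮.presheaf.obj (op U)) (hf : f ∈ 𝒮.deg U hU d) (Pp : Spec (𝒮.presheaf.obj (op U)))
    (hfP : f ∉ Pp.asIdeal) (ee : E) (hee : e ee = 𝒮.toQCAlg.ι U hU Pp) :
    ∃ w, lft ι hz.graded j hall U hU hd f hf w = i' ee ∧
      Proj.awayι (𝒮h.deg U hU) (ψU ι hz.graded U hU f) ((ψU ι hz.graded U hU).2 hf) hd w =
        kappa hz U hU Pp := by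
  have h1 : ψU ι hz.graded U hU f ∉ (kappa hz U hU Pp).asHomogeneousIdeal := by
    rw [ψU_apply]
    exact fun h => hfP ((mem_kappa_iff hz U hU Pp hd hf).1 h)
  obtain ⟨w, hw⟩ := exists_awayι_eq hd ((ψU ι hz.graded U hU).2 hf) (kappa hz U hU Pp) h1
  refine ⟨w, j.isOpenEmbedding.injective ?_, hw⟩
  have e1 : j (i' ee) = i (e ee) := by
    rw [← Scheme.Hom.comp_apply, hi', Scheme.Hom.comp_apply]
  have e2 : j (lft ι hz.graded j hall U hU hd f hf w) = RelProj.emb pC chartC U hU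
      (Proj.awayι (𝒮h.deg U hU) (ψU ι hz.graded U hU f) ((ψU ι hz.graded U hU).2 hf) hd w) := by
    rw [← Scheme.Hom.comp_apply, lft_fac, Scheme.Hom.comp_apply]
  rw [e1, e2, hee]
  exact (congrArg (RelProj.emb pC chartC U hU) hw).trans (coneImm_apply hz hi U hU Pp).symm

include hi hi' heq hall in
theorem surjective_comp (he : Set.range e = (RelCone.pointedCone 𝒮 : Set 𝒮.toQCAlg.spec)) :
    Function.Surjective (i' ≫ r) := by
  intro x
  obtain ⟨U, hU, hxU⟩ := exists_affine_mem (p x)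
  obtain ⟨y, hy⟩ := exists_emb_eq p chart U hU x hxU
  obtain ⟨d, hd, f, hf, hfy⟩ := exists_pos_notMem y
  let Pp : Spec (𝒮.presheaf.obj (op U)) := ⟨y.asHomogeneousIdeal.toIdeal, y.isPrime⟩
  have hfP : f ∉ Pp.asIdeal := hfy
  have hPv : Pp ∈ RelCone.vertexCompl (𝒮.deg U hU) := by
    intro hmem
    exact hfP ((PrimeSpectrum.mem_zeroLocus _ _).1 hmem
      (HomogeneousIdeal.mem_irrelevant_of_mem _ hd hf))
  have hc : 𝒮.toQCAlg.ι U hU Pp ∈ RelCone.pointedCone 𝒮 :=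
    (ι_mem_pointedCone_iff 𝒮 U hU Pp).2 hPv
  obtain ⟨ee, hee⟩ : ∃ ee, e ee = 𝒮.toQCAlg.ι U hU Pp := by
    have : 𝒮.toQCAlg.ι U hU Pp ∈ Set.range e := by rw [he]; exact hc
    exact this
  obtain ⟨w, hw1, hw2⟩ := exists_lft_eq_of_notMem hz j hall hi e i' hi' U hU hd f hf Pp hfP ee hee
  refine ⟨ee, ?_⟩
  rw [Scheme.Hom.comp_apply, ← hw1, ← Scheme.Hom.comp_apply,
    heq U hU d hd f hf _ (lft_fac ι hz.graded j hall U hU hd f hf)]
  change (RelProj.emb p chart U hU) ((Proj.awayι (𝒮.deg U hU) f hf hd)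
    ((Spec.map (CommRingCat.ofHom (Away.map (ψU ι hz.graded U hU) f))) w)) = x
  rw [← hy]
  congr 1
  refine proj_ext_of_pos y _ hd hf hfy (notMem_awayι hd hf _) ?_
  intro m hm g hg
  rw [mem_awayι_map_iff (ψU ι hz.graded U hU) hd hm hf hg w, hw2, ψU_apply]
  exact mem_kappa_iff hz U hU Pp hm hg

include hi hi' in
theorem image_preimage_eq (hPC : RelProj.IsRelProj 𝒮h pC chartC) [IsOpenImmersion e]
    (he : Set.range e = (RelCone.pointedCone 𝒮 : Set 𝒮.toQCAlg.spec))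
    (U : Y.Opens) (hU : IsAffineOpen U) {d : ℕ} (hd : 0 < d)
    (f : 𝒮.presheaf.obj (op U)) (hf : f ∈ 𝒮.deg U hU d) :
    e ''ᵁ (i' ⁻¹ᵁ (lft ι hz.graded j hall U hU hd f hf).opensRange) =
      (𝒮.toQCAlg.ι U hU) ''ᵁ (Spec.map (CommRingCat.ofHom
        (algebraMap (𝒮.presheaf.obj (op U)) (Localization.Away f)))).opensRange := by
  have hD : ∀ Pp : Spec (𝒮.presheaf.obj (op U)), Pp ∈ (Spec.map (CommRingCat.ofHom
      (algebraMap (𝒮.presheaf.obj (op U)) (Localization.Away f)))).opensRange ↔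
      f ∉ Pp.asIdeal := by
    intro Pp
    have := PrimeSpectrum.localization_away_comap_range (Localization.Away f) f
    change Pp ∈ Set.range (PrimeSpectrum.comap (algebraMap _ (Localization.Away f))) ↔ _
    rw [this]
    rfl
  ext c
  constructor
  · rintro ⟨ee, ⟨w, hw⟩, rfl⟩
    have e1 : j (i' ee) = i (e ee) := by
      rw [← Scheme.Hom.comp_apply, hi', Scheme.Hom.comp_apply]
    have e2 : j (lft ι hz.graded j hall U hU hd f hf w) = RelProj.emb pC chartC U hU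
        (Proj.awayι (𝒮h.deg U hU) (ψU ι hz.graded U hU f) ((ψU ι hz.graded U hU).2 hf) hd w) := by
      rw [← Scheme.Hom.comp_apply, lft_fac, Scheme.Hom.comp_apply]
    have e3 : i (e ee) = RelProj.emb pC chartC U hU
        (Proj.awayι (𝒮h.deg U hU) (ψU ι hz.graded U hU f) ((ψU ι hz.graded U hU).2 hf) hd w) := by
      rw [← e1, ← e2]
      exact congrArg j hw.symm
    have h3 : pC (i (e ee)) ∈ U := by
      rw [e3]
      exact pC_emb_mem pC chartC U hU _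
    have h4 : 𝒮.toQCAlg.π (e ee) ∈ U := by
      rw [← coneImm_over hz hPC hi, Scheme.Hom.comp_apply]
      exact h3
    have h5 : e ee ∈ (𝒮.toQCAlg.ι U hU).opensRange := by
      rw [← 𝒮.toQCAlg.π_preimage U hU]
      exact h4
    obtain ⟨Pp, hPp⟩ := h5
    refine ⟨Pp, (hD Pp).2 ?_, hPp⟩
    have h6 : RelProj.emb pC chartC U hU (kappa hz U hU Pp) = RelProj.emb pC chartC U hU
        (Proj.awayι (𝒮h.deg U hU) (ψU ι hz.graded U hU f) ((ψU ι hz.graded U hU).2 hf) hd w) := by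
      rw [← e3, ← hPp]
      exact (coneImm_apply hz hi U hU Pp).symm
    have h7 := emb_injective pC chartC U hU h6
    intro hfP
    have h8 := (mem_kappa_iff hz U hU Pp hd hf).2 hfP
    have h9 : ψU ι hz.graded U hU f ∈ (kappa hz U hU Pp).asHomogeneousIdeal := by
      rw [ψU_apply]
      exact h8
    rw [h7] at h9
    exact notMem_awayι hd ((ψU ι hz.graded U hU).2 hf) w h9
  · rintro ⟨Pp, hPp, rfl⟩
    have hfP := (hD Pp).1 hPp
    have hPv : Pp ∈ RelCone.vertexCompl (𝒮.deg U hU) := by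
      intro hmem
      exact hfP ((PrimeSpectrum.mem_zeroLocus _ _).1 hmem
        (HomogeneousIdeal.mem_irrelevant_of_mem _ hd hf))
    have hc : 𝒮.toQCAlg.ι U hU Pp ∈ RelCone.pointedCone 𝒮 :=
      (ι_mem_pointedCone_iff 𝒮 U hU Pp).2 hPv
    obtain ⟨ee, hee⟩ : ∃ ee, e ee = 𝒮.toQCAlg.ι U hU Pp := by
      have : 𝒮.toQCAlg.ι U hU Pp ∈ Set.range e := by rw [he]; exact hc
      exact this
    obtain ⟨w, hw1, hw2⟩ :=
      exists_lft_eq_of_notMem hz j hall hi e i' hi' U hU hd f hf Pp hfP ee hee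
    exact ⟨ee, ⟨w, hw1⟩, hee⟩

include hi hi' hall heq in
theorem isAffineHom_comp (hP : RelProj.IsRelProj 𝒮 p chart)
    (hPC : RelProj.IsRelProj 𝒮h pC chartC) (hcov : CovOn ι hz.graded pC chartC j)
    [IsOpenImmersion e]
    (he : Set.range e = (RelCone.pointedCone 𝒮 : Set 𝒮.toQCAlg.spec)) :
    IsAffineHom (i' ≫ r) := by
  apply isAffineHom_of_forall_exists_isAffineOpen
  intro x
  obtain ⟨U, hU, hxU⟩ := exists_affine_mem (p x)
  obtain ⟨y, rfl⟩ := exists_emb_eq p chart U hU x hxU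
  obtain ⟨d, hd, f, hf, hfy⟩ := exists_pos_notMem y
  obtain ⟨z', rfl⟩ := exists_awayι_eq hd hf y hfy
  refine ⟨(Proj.awayι (𝒮.deg U hU) f hf hd ≫ RelProj.emb p chart U hU).opensRange,
    ⟨z', Scheme.Hom.comp_apply _ _ _⟩, isAffineOpen_opensRange _, ?_⟩
  have h1 : (i' ≫ r) ⁻¹ᵁ (Proj.awayι (𝒮.deg U hU) f hf hd ≫ RelProj.emb p chart U hU).opensRange =
      i' ⁻¹ᵁ (r ⁻¹ᵁ (Proj.awayι (𝒮.deg U hU) f hf hd ≫ RelProj.emb p chart U hU).opensRange) := rfl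
  rw [h1, preimage_range_on ι hz.graded j r hP hPC hall hcov heq U hU d hd f hf,
    ← e.isAffineOpen_iff_of_isOpenImmersion,
    image_preimage_eq hz j hall hi e i' hi' hPC he U hU hd f hf]
  exact (isAffineOpen_opensRange _).image_of_isOpenImmersion _

include hi in
theorem pointedCone_le :
    (RelCone.pointedCone 𝒮 : 𝒮.toQCAlg.spec.Opens) ≤
      i ⁻¹ᵁ (RelCone.pointedProjCone 𝒮 hz pC chartC) := by
  intro c hc
  rw [RelCone.pointedCone, Opens.mem_iSup] at hc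
  obtain ⟨⟨U, hU⟩, Pp, hPp, rfl⟩ := hc
  change i (𝒮.toQCAlg.ι U hU Pp) ∈ RelCone.pointedProjCone 𝒮 hz pC chartC
  have h1 : i (𝒮.toQCAlg.ι U hU Pp) = RelProj.emb pC chartC U hU (kappa hz U hU Pp) :=
    coneImm_apply hz hi U hU Pp
  rw [h1, RelCone.pointedProjCone, Opens.mem_iSup]
  refine ⟨⟨U, hU⟩, kappa hz U hU Pp, ?_, rfl⟩
  by_contra hnot
  exact hPp ((PrimeSpectrum.mem_zeroLocus _ _).2 ((irrelevant_le_iff hz U hU Pp).2 hnot))

end geometry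

end Groth.Agent.Lib.Helper3.ProjCone2
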