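import Groth.Agent.Lib.Helper3.ProjConeFun

/-!
# Functoriality of the projective cone: compatibility of the retractions
-/

set_option autoImplicit false
universe u
open CategoryTheory CategoryTheory.Limits AlgebraicGeometry TopologicalSpace Opposite
open scoped HomogeneousIdeal

namespace Groth.Agent.Lib.Helper3.ProjConeFun2

open HomogeneousLocalization ProjQMap ProjQMapOn ProjQGlue ProjCone ProjCone2 ProjConeFun
open Groth.Agent.Lib.Helper6.PointedProjCone Groth.Agent.Lib.Helper6.PolyConeAlg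

section transport

variable {Y PA PB : Scheme.{u}} {𝒜 ℬ : RelProj.QCGrAlg Y} (φ : 𝒜.toQCAlg ⟶ ℬ.toQCAlg)
  (hφ : RelProj.IsGradedHom φ)
  {pA : PA ⟶ Y} {pB : PB ⟶ Y}
  {chartA : ∀ (U : Y.Opens) (hU : IsAffineOpen U),
    ((pA ⁻¹ᵁ U : PA.Opens) : Scheme.{u}) ≅ Proj (𝒜.deg U hU)}
  {chartB : ∀ (U : Y.Opens) (hU : IsAffineOpen U),
    ((pB ⁻¹ᵁ U : PB.Opens) : Scheme.{u}) ≅ Proj (ℬ.deg U hU)}

theorem eqsOn_of_isProjQMapOn_of_eq (W : PB.Opens)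
    (hW : W = RelProj.domQ (RelProj.QGrHom.ofHom φ hφ) pB chartB)
    (r : (W : Scheme.{u}) ⟶ PA)
    (h : RelProj.IsProjQMapOn (RelProj.QGrHom.ofHom φ hφ) pA chartA pB chartB W r) :
    AllIn φ hφ pB chartB W.ι ∧ (RelProj.IsRelProj ℬ pB chartB → CovOn φ hφ pB chartB W.ι) ∧
      EqsOn φ hφ pA pB chartA chartB W.ι r := by
  subst hW
  exact ⟨allIn_domQ φ hφ, fun hB => covOn_domQ φ hφ hB, eqsOn_domQ φ hφ r h⟩

end transport

section ring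

variable {A Ah A' B' : Type u} [CommRing A] [CommRing Ah] [CommRing A'] [CommRing B']
  {𝒜 : ℕ → AddSubgroup A} {𝒜h : ℕ → AddSubgroup Ah} {𝒜' : ℕ → AddSubgroup A'}
  {ℬ' : ℕ → AddSubgroup B'}
  [GradedRing 𝒜] [GradedRing 𝒜h] [GradedRing 𝒜'] [GradedRing ℬ']
  (ι₁ : 𝒜 →+*ᵍ 𝒜h) (ψh : 𝒜h →+*ᵍ ℬ') (ψ : 𝒜 →+*ᵍ 𝒜') (ι₂ : 𝒜' →+*ᵍ ℬ')
  (hcomm : ∀ x, ψh (ι₁ x) = ι₂ (ψ x))

include hcomm in
theorem ring_eq (f : A) (h : ι₂ (ψ f) = ψh (ι₁ f)) :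
    (Away.map ψh (ι₁ f)).comp (Away.map ι₁ f) =
      (mapTo (GradedRingHom.id ℬ') (ι₂ (ψ f)) (ψh (ι₁ f)) h).comp
        ((Away.map ι₂ (ψ f)).comp (Away.map ψ f)) := by
  have e1 := mapTo_comp ι₁ ψh (ψh.comp ι₁) (fun _ => rfl) f (ι₁ f) (ψh (ι₁ f)) rfl rfl
  have e2 := mapTo_comp ψ ι₂ (ψh.comp ι₁) (fun x => hcomm x) f (ψ f) (ι₂ (ψ f)) rfl rfl
  have e3 := mapTo_comp (ψh.comp ι₁) (GradedRingHom.id ℬ') (ψh.comp ι₁) (fun _ => rfl) f
    (ι₂ (ψ f)) (ψh (ι₁ f)) (hcomm f) h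
  rw [mapTo_rfl, mapTo_rfl] at e1 e2
  rw [e1, e2, e3]

end ring

section geometry

variable {Y Y' PC PC' : Scheme.{u}} {q : Y' ⟶ Y}
  {𝒮 : RelProj.QCGrAlg Y} {𝒮' : RelProj.QCGrAlg Y'} (u : RelProj.QGrHom q 𝒮 𝒮')
  {𝒮h : RelProj.QCGrAlg Y} {ι : 𝒮.toQCAlg ⟶ 𝒮h.toQCAlg} {z : 𝒮h.presheaf.obj (op ⊤)}
  (hz : RelCone.IsPolyOver 𝒮 𝒮h ι z)
  {pC : PC ⟶ Y}
  {chartC : ∀ (U : Y.Opens) (hU : IsAffineOpen U),
    (((pC ⁻¹ᵁ U : PC.Opens) : Scheme.{u}) ≅ Proj (𝒮h.deg U hU))}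
  (hC : RelProj.IsRelProj 𝒮h pC chartC)
  {𝒮h' : RelProj.QCGrAlg Y'} {ι' : 𝒮'.toQCAlg ⟶ 𝒮h'.toQCAlg} {z' : 𝒮h'.presheaf.obj (op ⊤)}
  (hz' : RelCone.IsPolyOver 𝒮' 𝒮h' ι' z')
  {pC' : PC' ⟶ Y'}
  {chartC' : ∀ (U : Y'.Opens) (hU : IsAffineOpen U),
    (((pC' ⁻¹ᵁ U : PC'.Opens) : Scheme.{u}) ≅ Proj (𝒮h'.deg U hU))}
  (hC' : RelProj.IsRelProj 𝒮h' pC' chartC')
  (uh : RelProj.QGrHom q 𝒮h 𝒮h')
  (huh : ∀ U : Y.Opens, ι.hom.app (op U) ≫ uh.app U = u.app U ≫ ι'.hom.app (op (q ⁻¹ᵁ U)))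
  (Φh : ((RelProj.domQ uh pC' chartC' : PC'.Opens) : Scheme.{u}) ⟶ PC)
  (hΦh : RelProj.IsProjQMapOn uh pC chartC pC' chartC' (RelProj.domQ uh pC' chartC') Φh)

include hC huh hΦh in
/-- a point of `G(û)` going into the pointed cone lies in a chart where some `ι' (u f)` is
invertible -/
theorem exists_f_of_mem_preimage
    (t : ((RelProj.domQ uh pC' chartC' : PC'.Opens) : Scheme.{u}))
    (ht : Φh t ∈ RelCone.pointedProjCone 𝒮 hz pC chartC) :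
    ∃ (i : Idx uh) (w : i.X) (e : ℕ) (_ : 0 < e) (f : 𝒮.presheaf.obj (op i.U))
      (_ : f ∈ 𝒮.deg i.U i.hU e), i.c pC' chartC' w = t ∧
      (ι'.hom.app (op i.U')).hom (u.gradedAt i.U i.hU i.U' i.hU' i.hle f) ∉
        (Proj.awayι (𝒮h'.deg i.U' i.hU') (i.ψ i.f) (i.ψ.2 i.hf) i.hd w).asHomogeneousIdeal := by
  obtain ⟨i, w, rfl⟩ := exists_mem_range_c pC' chartC' t
  have ht' : Φh (i.c pC' chartC' w) ∈ RelCone.pointedProjCone 𝒮 hz pC chartC := ht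
  have h1 : Φh (i.c pC' chartC' w) = i.gA pC chartC w := by
    rw [← Scheme.Hom.comp_apply]
    exact congrArg (fun m : i.X ⟶ PC => m w) (c_comp uh Φh hΦh i)
  have h2 : i.gA pC chartC w = RelProj.emb pC chartC i.U i.hU
      (Proj.awayι (𝒮h.deg i.U i.hU) i.f i.hf i.hd
        (Spec.map (CommRingCat.ofHom (Away.map i.ψ i.f)) w)) := by
    rw [Scheme.Hom.comp_apply, Scheme.Hom.comp_apply]
  rw [h1, h2] at ht'
  have h3 : RelProj.emb pC chartC i.U i.hU (Proj.awayι (𝒮h.deg i.U i.hU) i.f i.hf i.hd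
      (Spec.map (CommRingCat.ofHom (Away.map i.ψ i.f)) w)) ∈
      RelProj.domQ (RelProj.QGrHom.ofHom ι hz.graded) pC chartC ⊓ pC ⁻¹ᵁ i.U := by
    refine ⟨?_, pC_emb_mem pC chartC i.U i.hU _⟩
    rw [← iSup_eq_domQ ι hz.graded hC]
    exact ht'
  rw [domQ_inf ι hz.graded hC i.U i.hU] at h3
  obtain ⟨ŷ', hŷ', he⟩ := h3
  have he' := emb_injective pC chartC i.U i.hU he
  rw [he'] at hŷ'
  obtain ⟨e, he0, f, hf, hfy⟩ := exists_of_mem_domOpen _ _ hŷ'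
  have h4 := (mem_awayι_map_iff i.ψ i.hd he0 i.hf ((RelProj.gradedHomAt ι hz.graded i.U i.hU).2 hf)
    w).not.1 hfy
  have h5 : i.ψ (RelProj.gradedHomAt ι hz.graded i.U i.hU f) =
      (ι'.hom.app (op i.U')).hom (u.gradedAt i.U i.hU i.U' i.hU' i.hle f) :=
    gradedAt_ι u uh huh i.U i.hU i.U' i.hU' i.hle f
  refine ⟨i, w, e, he0, f, hf, rfl, ?_⟩
  exact fun hh => h4 (Eq.mpr (congrArg (fun x => x ∈
    (Proj.awayι (𝒮h'.deg i.U' i.hU') (i.ψ i.f) (i.ψ.2 i.hf) i.hd w).asHomogeneousIdeal) h5) hh)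

variable {P P' : Scheme.{u}} {p : P ⟶ Y}
  {chart : ∀ (U : Y.Opens) (hU : IsAffineOpen U),
    (((p ⁻¹ᵁ U : P.Opens) : Scheme.{u}) ≅ Proj (𝒮.deg U hU))}
  {p' : P' ⟶ Y'}
  {chart' : ∀ (U : Y'.Opens) (hU : IsAffineOpen U),
    (((p' ⁻¹ᵁ U : P'.Opens) : Scheme.{u}) ≅ Proj (𝒮'.deg U hU))}
  (r' : ((RelCone.pointedProjCone 𝒮' hz' pC' chartC' : PC'.Opens) : Scheme.{u}) ⟶ P')
  (hall' : AllIn ι' hz'.graded pC' chartC' (RelCone.pointedProjCone 𝒮' hz' pC' chartC').ι)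
  (hcov' : CovOn ι' hz'.graded pC' chartC' (RelCone.pointedProjCone 𝒮' hz' pC' chartC').ι)
  (hr' : EqsOn ι' hz'.graded p' pC' chart' chartC'
    (RelCone.pointedProjCone 𝒮' hz' pC' chartC').ι r')
  {T : Scheme.{u}}
  (a : T ⟶ ((RelCone.pointedProjCone 𝒮' hz' pC' chartC' : PC'.Opens) : Scheme.{u}))
  (b : T ⟶ ((RelProj.domQ uh pC' chartC' : PC'.Opens) : Scheme.{u}))
  (c : T ⟶ ((RelCone.pointedProjCone 𝒮 hz pC chartC : PC.Opens) : Scheme.{u}))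
  (hab : a ≫ (RelCone.pointedProjCone 𝒮' hz' pC' chartC').ι = b ≫ (RelProj.domQ uh pC' chartC').ι)
  (hbc : b ≫ Φh = c ≫ (RelCone.pointedProjCone 𝒮 hz pC chartC).ι)

include hC huh hΦh hall' hcov' hr' hab hbc in
theorem range_subset_domQ :
    Set.range (a ≫ r') ⊆ ((RelProj.domQ u p' chart' : P'.Opens) : Set P') := by
  rintro _ ⟨τ, rfl⟩
  have ht : Φh (b τ) ∈ RelCone.pointedProjCone 𝒮 hz pC chartC := by
    rw [← Scheme.Hom.comp_apply, hbc, Scheme.Hom.comp_apply]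
    exact (c τ).2
  obtain ⟨i, w, e, he, f, hf, hiw, hfy⟩ :=
    exists_f_of_mem_preimage u hz hC uh huh Φh hΦh (b τ) ht
  have h6 : (RelProj.domQ uh pC' chartC').ι (i.c pC' chartC' w) =
      RelProj.emb pC' chartC' i.U' i.hU'
        (Proj.awayι (𝒮h'.deg i.U' i.hU') (i.ψ i.f) (i.ψ.2 i.hf) i.hd w) := by
    rw [← Scheme.Hom.comp_apply, Idx.c_fac]
    exact Scheme.Hom.comp_apply _ _ _
  have h7 : RelProj.emb pC' chartC' i.U' i.hU'
      (Proj.awayι (𝒮h'.deg i.U' i.hU') (i.ψ i.f) (i.ψ.2 i.hf) i.hd w) =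
      (RelCone.pointedProjCone 𝒮' hz' pC' chartC').ι (a τ) := by
    rw [← h6, hiw, ← Scheme.Hom.comp_apply, ← hab, Scheme.Hom.comp_apply]
  obtain ⟨y₁, hy₁, hmem⟩ := exists_emb_eq_of_eqsOn ι' hz'.graded
    (RelCone.pointedProjCone 𝒮' hz' pC' chartC').ι r' hall' hcov' hr' (a τ) i.U' i.hU' _ h7
  have hfy₁ : u.gradedAt i.U i.hU i.U' i.hU' i.hle f ∉ y₁.asHomogeneousIdeal := by
    intro hh
    have := (hmem e he _ ((u.gradedAt i.U i.hU i.U' i.hU' i.hle).2 hf)).1 hh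
    rw [ψU_apply] at this
    exact hfy this
  have hgoal : r' (a τ) ∈ RelProj.domQ u p' chart' := by
    rw [← hy₁]
    refine Opens.mem_iSup.mpr ⟨⟨(⟨i.U, i.hU⟩, ⟨i.U', i.hU'⟩), i.hle⟩, y₁, ?_, rfl⟩
    exact mem_domOpen_of_mem (u.gradedAt i.U i.hU i.U' i.hU' i.hle) he hf y₁ hfy₁
  rw [Scheme.Hom.comp_apply]
  exact hgoal

variable (Φ : ((RelProj.domQ u p' chart' : P'.Opens) : Scheme.{u}) ⟶ P)
  (hΦ : RelProj.IsProjQMapOn u p chart p' chart' (RelProj.domQ u p' chart') Φ)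
  (r : ((RelCone.pointedProjCone 𝒮 hz pC chartC : PC.Opens) : Scheme.{u}) ⟶ P)
  (hr : EqsOn ι hz.graded p pC chart chartC (RelCone.pointedProjCone 𝒮 hz pC chartC).ι r)

include hC' huh hΦh hall' hcov' hr' hab hbc hΦ hr in
theorem comp_eq (hP' : RelProj.IsRelProj 𝒮' p' chart')
    (d : T ⟶ ((RelProj.domQ u p' chart' : P'.Opens) : Scheme.{u}))
    (had : a ≫ r' = d ≫ (RelProj.domQ u p' chart').ι) : c ≫ r = d ≫ Φ := by
  have hrG := eqsG_of_eqsOn ι hz.graded _ r hr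
  have hrG' := eqsG_of_eqsOn ι' hz'.graded _ r' hr'
  refine hom_ext_of_covers (c ≫ r) (d ≫ Φ) (fun τ => ?_)
  have hx0 : r' (a τ) ∈ RelProj.domQ u p' chart' := by
    rw [← Scheme.Hom.comp_apply, had, Scheme.Hom.comp_apply]
    exact (d τ).2
  obtain ⟨⟨⟨⟨V, hV⟩, ⟨V', hV'⟩⟩, hle⟩, y₁', hy₁', hy₁e⟩ := Opens.mem_iSup.mp hx0
  obtain ⟨e, he, f, hf, hfy⟩ := exists_of_mem_domOpen _ y₁' hy₁'
  have hy₁e' : RelProj.emb p' chart' V' hV' y₁' = r' (a τ) := hy₁e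
  have hcomp := comp_eq_on ι' hz'.graded (RelCone.pointedProjCone 𝒮' hz' pC' chartC').ι r'
    hP' hC' hall' hcov' hr'
  have hxV : pC' ((RelCone.pointedProjCone 𝒮' hz' pC' chartC').ι (a τ)) ∈ V' := by
    have h1 : p' (r' (a τ)) ∈ V' := by
      rw [← hy₁e']
      exact pC_emb_mem p' chart' V' hV' y₁'
    rw [← Scheme.Hom.comp_apply, hcomp, Scheme.Hom.comp_apply] at h1
    exact h1
  obtain ⟨ŷ, hŷ⟩ := exists_emb_eq pC' chartC' V' hV' _ hxV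
  obtain ⟨y₁, hy₁, hmem⟩ := exists_emb_eq_of_eqsOn ι' hz'.graded
    (RelCone.pointedProjCone 𝒮' hz' pC' chartC').ι r' hall' hcov' hr' (a τ) V' hV' ŷ hŷ
  have hyy : y₁ = y₁' := emb_injective p' chart' V' hV' (hy₁.trans hy₁e'.symm)
  subst hyy
  -- the charts
  let k : Idx uh := ⟨V, hV, V', hV', hle, e, he, RelProj.gradedHomAt ι hz.graded V hV f,
    (RelProj.gradedHomAt ι hz.graded V hV).2 hf⟩
  let ju : Idx u := ⟨V, hV, V', hV', hle, e, he, f, hf⟩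
  have hcomm : ∀ x, k.ψ (RelProj.gradedHomAt ι hz.graded V hV x) =
      RelProj.gradedHomAt ι' hz'.graded V' hV' (ju.ψ x) :=
    fun x => gradedAt_ι u uh huh V hV V' hV' hle x
  have hFy : k.ψ k.f ∉ ŷ.asHomogeneousIdeal := by
    intro hh
    refine hfy ((hmem e he _ ((u.gradedAt V hV V' hV' hle).2 hf)).2 ?_)
    rw [ψU_apply]
    exact (Eq.mp (congrArg (fun x => x ∈ ŷ.asHomogeneousIdeal) (hcomm f)) hh)
  obtain ⟨w, hw⟩ := exists_awayι_eq he (k.ψ.2 k.hf) ŷ hFy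
  have h6 : (RelProj.domQ uh pC' chartC').ι (k.c pC' chartC' w) =
      RelProj.emb pC' chartC' V' hV'
        (Proj.awayι (𝒮h'.deg V' hV') (k.ψ k.f) (k.ψ.2 k.hf) he w) := by
    rw [← Scheme.Hom.comp_apply, Idx.c_fac]
    exact Scheme.Hom.comp_apply _ _ _
  haveI : IsOpenImmersion (k.c pC' chartC') :=
    Groth.Agent.Lib.Helper3.ProjQGlue.instIsOpenImmersionC pC' chartC' k
  have hkw : k.c pC' chartC' w = b τ := by
    apply (RelProj.domQ uh pC' chartC').ι.isOpenEmbedding.injective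
    rw [h6, ← Scheme.Hom.comp_apply b, ← hab, Scheme.Hom.comp_apply, ← hŷ]
    exact congrArg _ hw
  let N : T.Opens := b ⁻¹ᵁ (k.c pC' chartC').opensRange
  have hτN : τ ∈ N := ⟨w, hkw⟩
  have hNr : Set.range (N.ι ≫ b) ⊆ Set.range (k.c pC' chartC') := by
    rintro _ ⟨n, rfl⟩
    rw [Scheme.Hom.comp_apply]
    exact (show b n.1 ∈ (k.c pC' chartC').opensRange from n.2)
  let β : (N : Scheme.{u}) ⟶ k.X := IsOpenImmersion.lift (k.c pC' chartC') (N.ι ≫ b) hNr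
  have hβ : β ≫ k.c pC' chartC' = N.ι ≫ b := IsOpenImmersion.lift_fac _ _ _
  refine ⟨N, N.ι, inferInstance, ⟨⟨τ, hτN⟩, rfl⟩, ?_⟩
  -- the left side
  have hrangeC : Set.range (Proj.awayι (𝒮h.deg V hV) k.f k.hf he ≫ RelProj.emb pC chartC V hV) ⊆
      Set.range (RelCone.pointedProjCone 𝒮 hz pC chartC).ι := by
    rw [Scheme.Opens.range_ι]
    rintro _ ⟨w', rfl⟩
    have hm : RelProj.emb pC chartC V hV (Proj.awayι (𝒮h.deg V hV) k.f k.hf he w') ∈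
        RelCone.pointedProjCone 𝒮 hz pC chartC :=
      Opens.mem_iSup.mpr ⟨⟨V, hV⟩, _, mem_domOpen_of_mem (RelProj.gradedHomAt ι hz.graded V hV)
        he hf _ (notMem_awayι he k.hf w'), rfl⟩
    rw [Scheme.Hom.comp_apply]
    exact hm
  let g₀ := IsOpenImmersion.lift (RelCone.pointedProjCone 𝒮 hz pC chartC).ι
    (Proj.awayι (𝒮h.deg V hV) k.f k.hf he ≫ RelProj.emb pC chartC V hV) hrangeC
  have hg₀ : g₀ ≫ (RelCone.pointedProjCone 𝒮 hz pC chartC).ι =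
      Proj.awayι (𝒮h.deg V hV) k.f k.hf he ≫ RelProj.emb pC chartC V hV :=
    IsOpenImmersion.lift_fac _ _ _
  have e4 : N.ι ≫ c = (β ≫ Spec.map (CommRingCat.ofHom (Away.map k.ψ k.f))) ≫ g₀ := by
    rw [← cancel_mono (RelCone.pointedProjCone 𝒮 hz pC chartC).ι]
    simp only [Category.assoc]
    rw [hg₀, ← hbc, ← Category.assoc N.ι, ← hβ, Category.assoc, c_comp uh Φh hΦh k]
  have e4b : N.ι ≫ c ≫ r = β ≫ Spec.map (CommRingCat.ofHom (Away.map k.ψ k.f)) ≫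
      Spec.map (CommRingCat.ofHom (Away.map (RelProj.gradedHomAt ι hz.graded V hV) f)) ≫
        Proj.awayι (𝒮.deg V hV) f hf he ≫ RelProj.emb p chart V hV := by
    rw [← Category.assoc, e4, Category.assoc, hrG V hV e he f hf g₀ hg₀, Category.assoc]
  -- the right side
  have hF' : RelProj.gradedHomAt ι' hz'.graded V' hV' (ju.ψ f) = k.ψ k.f := (hcomm f).symm
  have hF'mem : RelProj.gradedHomAt ι' hz'.graded V' hV' (ju.ψ f) ∈ 𝒮h'.deg V' hV' e :=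
    (RelProj.gradedHomAt ι' hz'.graded V' hV').2 (ju.ψ.2 hf)
  have hrangeC' : Set.range (Proj.awayι (𝒮h'.deg V' hV')
      (RelProj.gradedHomAt ι' hz'.graded V' hV' (ju.ψ f)) hF'mem he ≫
        RelProj.emb pC' chartC' V' hV') ⊆
      Set.range (RelCone.pointedProjCone 𝒮' hz' pC' chartC').ι := by
    rw [Scheme.Opens.range_ι]
    rintro _ ⟨w', rfl⟩
    have hm : RelProj.emb pC' chartC' V' hV' (Proj.awayι (𝒮h'.deg V' hV')
        (RelProj.gradedHomAt ι' hz'.graded V' hV' (ju.ψ f)) hF'mem he w') ∈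
        RelCone.pointedProjCone 𝒮' hz' pC' chartC' :=
      Opens.mem_iSup.mpr ⟨⟨V', hV'⟩, _, mem_domOpen_of_mem
        (RelProj.gradedHomAt ι' hz'.graded V' hV') he (ju.ψ.2 hf) _
        (notMem_awayι he hF'mem w'), rfl⟩
    rw [Scheme.Hom.comp_apply]
    exact hm
  let g₁ := IsOpenImmersion.lift (RelCone.pointedProjCone 𝒮' hz' pC' chartC').ι
    (Proj.awayι (𝒮h'.deg V' hV') (RelProj.gradedHomAt ι' hz'.graded V' hV' (ju.ψ f)) hF'mem he ≫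
      RelProj.emb pC' chartC' V' hV') hrangeC'
  have hg₁ : g₁ ≫ (RelCone.pointedProjCone 𝒮' hz' pC' chartC').ι =
      Proj.awayι (𝒮h'.deg V' hV') (RelProj.gradedHomAt ι' hz'.graded V' hV' (ju.ψ f)) hF'mem he ≫
        RelProj.emb pC' chartC' V' hV' :=
    IsOpenImmersion.lift_fac _ _ _
  have e5 : N.ι ≫ a = (β ≫ Spec.map (CommRingCat.ofHom (mapTo (GradedRingHom.id (𝒮h'.deg V' hV'))
      (RelProj.gradedHomAt ι' hz'.graded V' hV' (ju.ψ f)) (k.ψ k.f) hF'))) ≫ g₁ := by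
    rw [← cancel_mono (RelCone.pointedProjCone 𝒮' hz' pC' chartC').ι]
    simp only [Category.assoc]
    rw [hg₁, hab, ← Category.assoc N.ι, ← hβ, Category.assoc, Idx.c_fac,
      ← Category.assoc (Spec.map _),
      awayι_congr he _ (k.ψ k.f) hF' hF'mem (k.ψ.2 k.hf)]
    rfl
  have e5b : N.ι ≫ a ≫ r' = β ≫ Spec.map (CommRingCat.ofHom
      (mapTo (GradedRingHom.id (𝒮h'.deg V' hV'))
        (RelProj.gradedHomAt ι' hz'.graded V' hV' (ju.ψ f)) (k.ψ k.f) hF')) ≫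
      Spec.map (CommRingCat.ofHom (Away.map (RelProj.gradedHomAt ι' hz'.graded V' hV') (ju.ψ f))) ≫
        Proj.awayι (𝒮'.deg V' hV') (ju.ψ f) (ju.ψ.2 hf) he ≫ RelProj.emb p' chart' V' hV' := by
    rw [← Category.assoc, e5, Category.assoc,
      hrG' V' hV' e he (ju.ψ f) (ju.ψ.2 hf) g₁ hg₁, Category.assoc]
  have e5c : N.ι ≫ d = (β ≫ Spec.map (CommRingCat.ofHom
      (mapTo (GradedRingHom.id (𝒮h'.deg V' hV'))
        (RelProj.gradedHomAt ι' hz'.graded V' hV' (ju.ψ f)) (k.ψ k.f) hF')) ≫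
      Spec.map (CommRingCat.ofHom (Away.map (RelProj.gradedHomAt ι' hz'.graded V' hV')
        (ju.ψ f)))) ≫ ju.c p' chart' := by
    rw [← cancel_mono (RelProj.domQ u p' chart').ι]
    simp only [Category.assoc]
    rw [← had, Idx.c_fac, e5b]
    rfl
  have e5d : N.ι ≫ d ≫ Φ = β ≫ Spec.map (CommRingCat.ofHom
      (mapTo (GradedRingHom.id (𝒮h'.deg V' hV'))
        (RelProj.gradedHomAt ι' hz'.graded V' hV' (ju.ψ f)) (k.ψ k.f) hF')) ≫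
      Spec.map (CommRingCat.ofHom (Away.map (RelProj.gradedHomAt ι' hz'.graded V' hV') (ju.ψ f))) ≫
      Spec.map (CommRingCat.ofHom (Away.map ju.ψ f)) ≫
        Proj.awayι (𝒮.deg V hV) f hf he ≫ RelProj.emb p chart V hV := by
    rw [← Category.assoc, e5c, Category.assoc, c_comp u Φ hΦ ju]
    simp only [Category.assoc]
    rfl
  have e6 : Spec.map (CommRingCat.ofHom (Away.map k.ψ k.f)) ≫
      Spec.map (CommRingCat.ofHom (Away.map (RelProj.gradedHomAt ι hz.graded V hV) f)) =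
      Spec.map (CommRingCat.ofHom (mapTo (GradedRingHom.id (𝒮h'.deg V' hV'))
        (RelProj.gradedHomAt ι' hz'.graded V' hV' (ju.ψ f)) (k.ψ k.f) hF')) ≫
      Spec.map (CommRingCat.ofHom (Away.map (RelProj.gradedHomAt ι' hz'.graded V' hV')
        (ju.ψ f))) ≫ Spec.map (CommRingCat.ofHom (Away.map ju.ψ f)) := by
    rw [← Spec.map_comp, ← Spec.map_comp, ← Spec.map_comp, ← CommRingCat.ofHom_comp,
      ← CommRingCat.ofHom_comp, ← CommRingCat.ofHom_comp]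
    exact congrArg (fun m => Spec.map (CommRingCat.ofHom m))
      (ring_eq (RelProj.gradedHomAt ι hz.graded V hV) k.ψ ju.ψ
        (RelProj.gradedHomAt ι' hz'.graded V' hV') hcomm f hF')
  rw [e4b, e5d, reassoc_of% e6]

end geometry

end Groth.Agent.Lib.Helper3.ProjConeFun2
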