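import Groth.Agent.Lib.Helper3.ToProj

/-!
# Gluing morphisms into `Proj` from local dehomogenized data
-/

set_option autoImplicit false
set_option linter.unusedSectionVars false
universe u
open CategoryTheory CategoryTheory.Limits AlgebraicGeometry TopologicalSpace Opposite
open Scheme.Modules

namespace Groth.Agent.Lib.Helper3.ProjGlue

open QCSec TwistBasic GrTildeQC ProjFrac GrTildeHom ProjMapFn ToProj

variable {R A : Type u} [CommRing R] [CommRing A] [Algebra R A]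

/-- data defining a morphism to `Proj 𝒜`: a cover `Xo i`, degree one elements `t i`, and ring
homomorphisms `ψ i : A → Γ(X, Xo i)` ("`a ↦ a / t i ^ deg a`") with the cocycle condition -/
structure ProjData (𝒜 : ℕ → Submodule R A) [GradedAlgebra 𝒜] (X : Scheme.{u}) (ι : Type u) where
  t : ι → A
  ht : ∀ i, t i ∈ 𝒜 1
  Xo : ι → X.Opens
  cov : ∀ x : X, ∃ i, x ∈ Xo i
  ψ : ∀ i, A →+* Γ(X, Xo i)
  ψ_self : ∀ i, ψ i (t i) = 1
  basicOpen_ψ : ∀ i k, X.basicOpen (ψ i (t k)) = Xo i ⊓ Xo k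
  cocycle : ∀ (i k : ι) (m : ℕ) (b : A), b ∈ 𝒜 m →
    rres X (inf_le_left : Xo i ⊓ Xo k ≤ Xo i) (ψ i b) =
      rres X (inf_le_left : Xo i ⊓ Xo k ≤ Xo i) (ψ i (t k)) ^ m *
        rres X (inf_le_right : Xo i ⊓ Xo k ≤ Xo k) (ψ k b)

variable {𝒜 : ℕ → Submodule R A} [GradedAlgebra 𝒜] {X : Scheme.{u}} {ι : Type u}
  (D : ProjData 𝒜 X ι)

namespace ProjData

theorem cocycle' (i k : ι) {W : X.Opens} (hWi : W ≤ D.Xo i) (hWk : W ≤ D.Xo k) {m : ℕ} {b : A}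
    (hb : b ∈ 𝒜 m) :
    rres X hWi (D.ψ i b) = rres X hWi (D.ψ i (D.t k)) ^ m * rres X hWk (D.ψ k b) := by
  have h := congrArg (rres X (le_inf hWi hWk)) (D.cocycle i k m b hb)
  rw [InvGen.rres_mul, rres_pow, rres_rres, rres_rres, rres_rres] at h
  exact h

theorem isOpenCover : IsOpenCover D.Xo := by
  rw [IsOpenCover, eq_top_iff]
  intro y _
  obtain ⟨k, hk⟩ := D.cov y
  exact Opens.mem_iSup.mpr ⟨k, hk⟩

/-- the lift of `ψ i` to the localization at `t i` -/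
noncomputable def locHom (i : ι) : Localization.Away (D.t i) →+* Γ(X, D.Xo i) :=
  IsLocalization.Away.lift (D.t i) (g := D.ψ i) (by rw [D.ψ_self]; exact isUnit_one)

/-- the ring map defining the local morphism -/
noncomputable def θ (i : ι) :
    CommRingCat.of (HomogeneousLocalization.Away 𝒜 (D.t i)) ⟶ Γ((D.Xo i).toScheme, ⊤) :=
  CommRingCat.ofHom ((D.locHom i).comp
    (algebraMap (HomogeneousLocalization.Away 𝒜 (D.t i)) (Localization.Away (D.t i)))) ≫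
    (D.Xo i).topIso.inv

theorem θ_mk (i : ι) (k : ℕ) (a : A) (ha : a ∈ 𝒜 (k • 1)) :
    (D.θ i).hom (HomogeneousLocalization.Away.mk 𝒜 (D.ht i) k a ha) =
      (D.Xo i).topIso.inv (D.ψ i a) := by
  change (D.Xo i).topIso.inv.hom (D.locHom i (algebraMap _ _
    (HomogeneousLocalization.Away.mk 𝒜 (D.ht i) k a ha))) = _
  congr 1
  rw [HomogeneousLocalization.algebraMap_apply, HomogeneousLocalization.Away.val_mk,
    Localization.mk_eq_mk']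
  unfold locHom IsLocalization.Away.lift
  rw [IsLocalization.lift_mk'_spec]
  simp [map_pow, D.ψ_self]

/-- the local morphism on `Xo i` -/
noncomputable def loc (i : ι) : (D.Xo i).toScheme ⟶ Proj 𝒜 :=
  toProj (D.t i) (D.ht i) Nat.one_pos (D.θ i)

theorem loc_preimage (i : ι) : D.loc i ⁻¹ᵁ Proj.basicOpen 𝒜 (D.t i) = ⊤ :=
  toProj_preimage _ _ _ _

theorem loc_appLE_fn (i : ι) (e : (⊤ : (D.Xo i).toScheme.Opens) ≤
    D.loc i ⁻¹ᵁ Proj.basicOpen 𝒜 (D.t i)) {m : ℕ} {b : A} (hb : b ∈ 𝒜 m) :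
    (D.loc i).appLE (Proj.basicOpen 𝒜 (D.t i)) ⊤ e
        (fn (Proj.basicOpen 𝒜 (D.t i)) b (D.t i ^ m)) =
      (D.Xo i).topIso.inv (D.ψ i b) := by
  have hb' : b ∈ 𝒜 (m • 1) := by simpa using hb
  rw [← awayToSection_mk (D.ht i) m b hb', ← D.θ_mk i m b hb']
  exact congrArg (fun φ => φ.hom (HomogeneousLocalization.Away.mk 𝒜 (D.ht i) m b hb'))
    (awayToSection_toProj_appLE (D.t i) (D.ht i) Nat.one_pos (D.θ i) e)

/-- sections of a restricted local morphism -/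
theorem homOfLE_loc_appLE_fn (j : ι) {W : X.Opens} (hW : W ≤ D.Xo j)
    (e : (⊤ : W.toScheme.Opens) ≤ (X.homOfLE hW ≫ D.loc j) ⁻¹ᵁ Proj.basicOpen 𝒜 (D.t j))
    {m : ℕ} {b : A} (hb : b ∈ 𝒜 m) :
    (X.homOfLE hW ≫ D.loc j).appLE (Proj.basicOpen 𝒜 (D.t j)) ⊤ e
        (fn (Proj.basicOpen 𝒜 (D.t j)) b (D.t j ^ m)) =
      W.topIso.inv (rres X hW (D.ψ j b)) := by
  have e₁ : (⊤ : (D.Xo j).toScheme.Opens) ≤ D.loc j ⁻¹ᵁ Proj.basicOpen 𝒜 (D.t j) :=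
    (D.loc_preimage j).ge
  have h1 := comp_appLE_top (X.homOfLE hW) (D.loc j) (Proj.basicOpen 𝒜 (D.t j)) e₁ e
  have h2 := congrArg (fun φ => φ.hom (fn (Proj.basicOpen 𝒜 (D.t j)) b (D.t j ^ m))) h1
  refine h2.trans ?_
  change (X.homOfLE hW).appTop ((D.loc j).appLE (Proj.basicOpen 𝒜 (D.t j)) ⊤ e₁
    (fn (Proj.basicOpen 𝒜 (D.t j)) b (D.t j ^ m))) = _
  rw [D.loc_appLE_fn j e₁ hb]
  exact congrArg (fun φ => φ.hom (D.ψ j b)) (topIso_inv_homOfLE_appTop hW)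

theorem loc_compat (i j : ι) :
    X.homOfLE (inf_le_left : D.Xo i ⊓ D.Xo j ≤ D.Xo i) ≫ D.loc i =
      X.homOfLE (inf_le_right : D.Xo i ⊓ D.Xo j ≤ D.Xo j) ≫ D.loc j := by
  have hWi : D.Xo i ⊓ D.Xo j ≤ D.Xo i := inf_le_left
  have hWj : D.Xo i ⊓ D.Xo j ≤ D.Xo j := inf_le_right
  have ei : (⊤ : (D.Xo i ⊓ D.Xo j).toScheme.Opens) ≤
      (X.homOfLE hWi ≫ D.loc i) ⁻¹ᵁ Proj.basicOpen 𝒜 (D.t i) := by
    rw [Scheme.Hom.comp_preimage, D.loc_preimage i]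
    exact le_rfl
  have ej : (⊤ : (D.Xo i ⊓ D.Xo j).toScheme.Opens) ≤
      (X.homOfLE hWj ≫ D.loc j) ⁻¹ᵁ Proj.basicOpen 𝒜 (D.t j) := by
    rw [Scheme.Hom.comp_preimage, D.loc_preimage j]
    exact le_rfl
  -- the unit
  have hu0 : IsUnit (rres X hWj (D.ψ j (D.t i))) :=
    isUnit_rres_of_le_basicOpen _ hWj (by rw [D.basicOpen_ψ j i, inf_comm])
  have hu : IsUnit ((D.Xo i ⊓ D.Xo j).topIso.inv (rres X hWj (D.ψ j (D.t i)))) := hu0.map _
  have hsec : (X.homOfLE hWj ≫ D.loc j).appLE (Proj.basicOpen 𝒜 (D.t j)) ⊤ ej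
      (fn (Proj.basicOpen 𝒜 (D.t j)) (D.t i) (D.t j)) =
      (D.Xo i ⊓ D.Xo j).topIso.inv (rres X hWj (D.ψ j (D.t i))) := by
    have := D.homOfLE_loc_appLE_fn j hWj ej (D.ht i)
    rwa [pow_one] at this
  have eji : (⊤ : (D.Xo i ⊓ D.Xo j).toScheme.Opens) ≤
      (X.homOfLE hWj ≫ D.loc j) ⁻¹ᵁ Proj.basicOpen 𝒜 (D.t i) := by
    have h1 := basicOpen_appLE_fn (X.homOfLE hWj ≫ D.loc j) (D.ht j) (D.ht i) ⊤ ej
    rw [hsec, Scheme.basicOpen_of_isUnit _ hu] at h1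
    rw [h1]
    exact inf_le_right
  refine hom_ext_of_appLE _ _ (fun _ : PUnit.{u + 1} => Proj.basicOpen 𝒜 (D.t i))
    (fun _ => Proj.isAffineOpen_basicOpen 𝒜 (D.t i) (D.ht i) Nat.one_pos) (fun _ => ⊤)
    (fun y => ⟨PUnit.unit, trivial⟩) (fun _ => ei) (fun _ => eji) (fun _ => ?_)
  ext c
  obtain ⟨m, b, hb, rfl⟩ := GrGen.exists_fn_eq (D.ht i) c
  change (X.homOfLE hWi ≫ D.loc i).appLE (Proj.basicOpen 𝒜 (D.t i)) ⊤ ei
      (fn (Proj.basicOpen 𝒜 (D.t i)) b (D.t i ^ m)) =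
    (X.homOfLE hWj ≫ D.loc j).appLE (Proj.basicOpen 𝒜 (D.t i)) ⊤ eji
      (fn (Proj.basicOpen 𝒜 (D.t i)) b (D.t i ^ m))
  rw [D.homOfLE_loc_appLE_fn i hWi ei hb]
  have h2 := appLE_fn_mul_pow (X.homOfLE hWj ≫ D.loc j) (D.ht j) (D.ht i) ⊤ ej eji hb
  rw [hsec, D.homOfLE_loc_appLE_fn j hWj ej hb, D.cocycle' j i hWj hWi hb, map_mul, map_pow,
    mul_comm] at h2
  exact ((hu.pow m).mul_left_cancel h2).symm

/-- the open cover by the `Xo i` -/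
noncomputable def cover : X.OpenCover := X.openCoverOfIsOpenCover D.Xo D.isOpenCover

theorem glue_compat (i j : ι) :
    pullback.fst (D.Xo i).ι (D.Xo j).ι ≫ D.loc i =
      pullback.snd (D.Xo i).ι (D.Xo j).ι ≫ D.loc j := by
  have hp := isPullback_opens_inf (D.Xo i) (D.Xo j)
  rw [← cancel_epi hp.isoPullback.hom, hp.isoPullback_hom_fst_assoc,
    hp.isoPullback_hom_snd_assoc]
  exact D.loc_compat i j

/-- the glued morphism to `Proj 𝒜` -/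
noncomputable def hom : X ⟶ Proj 𝒜 :=
  D.cover.glueMorphisms (fun i => D.loc i) (fun i j => D.glue_compat i j)

theorem ι_hom (i : ι) : (D.Xo i).ι ≫ D.hom = D.loc i :=
  D.cover.ι_glueMorphisms _ _ i

theorem le_preimage (i : ι) : D.Xo i ≤ D.hom ⁻¹ᵁ Proj.basicOpen 𝒜 (D.t i) := by
  intro x hx
  have h2 : (⟨x, hx⟩ : (D.Xo i).toScheme) ∈ D.loc i ⁻¹ᵁ Proj.basicOpen 𝒜 (D.t i) := by
    rw [D.loc_preimage i]
    trivial
  have h3 : D.loc i ⟨x, hx⟩ = D.hom x := by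
    rw [← D.ι_hom i]
    rfl
  change D.hom x ∈ Proj.basicOpen 𝒜 (D.t i)
  rw [← h3]
  exact h2

theorem topIso_inv_injective (U : X.Opens) : Function.Injective U.topIso.inv := by
  intro a b hab
  have h := congrArg U.topIso.hom hab
  have e : ∀ z, U.topIso.hom (U.topIso.inv z) = z := fun z =>
    congrArg (fun φ => φ.hom z) U.topIso.inv_hom_id
  rwa [e, e] at h

theorem hom_appLE_fn (i : ι) {m : ℕ} {b : A} (hb : b ∈ 𝒜 m) :
    D.hom.appLE (Proj.basicOpen 𝒜 (D.t i)) (D.Xo i) (D.le_preimage i)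
        (fn (Proj.basicOpen 𝒜 (D.t i)) b (D.t i ^ m)) = D.ψ i b := by
  have key : ∀ (f : (D.Xo i).toScheme ⟶ Proj 𝒜) (_ : f = (D.Xo i).ι ≫ D.hom)
      (e : (⊤ : (D.Xo i).toScheme.Opens) ≤ f ⁻¹ᵁ Proj.basicOpen 𝒜 (D.t i)),
      f.appLE (Proj.basicOpen 𝒜 (D.t i)) ⊤ e =
        D.hom.appLE (Proj.basicOpen 𝒜 (D.t i)) (D.Xo i) (D.le_preimage i) ≫
          (D.Xo i).topIso.inv := by
    rintro f rfl e
    exact ι_comp_appLE _ _ _ _ _
  have e₁ : (⊤ : (D.Xo i).toScheme.Opens) ≤ D.loc i ⁻¹ᵁ Proj.basicOpen 𝒜 (D.t i) :=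
    (D.loc_preimage i).ge
  have h1 := congrArg (fun φ => φ.hom (fn (Proj.basicOpen 𝒜 (D.t i)) b (D.t i ^ m)))
    (key (D.loc i) (D.ι_hom i).symm e₁)
  apply topIso_inv_injective (D.Xo i)
  rw [← D.loc_appLE_fn i e₁ hb]
  exact h1.symm

theorem hom_appLE_deh (i : ι) (b : A) :
    D.hom.appLE (Proj.basicOpen 𝒜 (D.t i)) (D.Xo i) (D.le_preimage i) (deh (D.ht i) b) =
      D.ψ i b := by
  have : (D.hom.appLE (Proj.basicOpen 𝒜 (D.t i)) (D.Xo i) (D.le_preimage i)).hom.comp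
      (deh (D.ht i)) = D.ψ i := by
    apply ringHom_ext_of_homogeneous (𝒜 := 𝒜)
    intro m b hb
    rw [RingHom.comp_apply, deh_of_mem (D.ht i) hb]
    exact D.hom_appLE_fn i hb
  exact congrArg (fun φ => φ b) this

/-- the glued morphism is compatible with the structure morphisms -/
theorem hom_toSpec (q : X ⟶ Spec (CommRingCat.of R))
    (hq : ∀ (i : ι) (c : R), D.ψ i (algebraMap R A c) =
      rres X (le_top : D.Xo i ≤ ⊤) (q.appTop ((Scheme.ΓSpecIso (CommRingCat.of R)).inv c))) :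
    D.hom ≫ Proj.toSpecZero 𝒜 ≫ Spec.map (CommRingCat.ofHom (algebraMap R (𝒜 0))) = q := by
  apply ext_of_isAffine
  ext z
  have hz : z = (Scheme.ΓSpecIso (CommRingCat.of R)).inv
      ((Scheme.ΓSpecIso (CommRingCat.of R)).hom z) :=
    (congrArg (fun φ => φ.hom z) (Scheme.ΓSpecIso (CommRingCat.of R)).hom_inv_id).symm
  apply InvGen.fun_eq_of_locally_eq D.Xo ⊤ (fun _ => le_top)
    (fun x _ => by
      obtain ⟨i, hi⟩ := D.cov x
      exact Opens.mem_iSup.mpr ⟨i, hi⟩)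
  intro i
  have h1 := Scheme.Hom.appLE_comp_appLE D.hom
    (Proj.toSpecZero 𝒜 ≫ Spec.map (CommRingCat.ofHom (algebraMap R (𝒜 0)))) ⊤
    (Proj.basicOpen 𝒜 (D.t i)) (D.Xo i) le_top (D.le_preimage i)
  have h2 := congrArg (fun φ => φ.hom z) h1
  have h3 : rres X (le_top : D.Xo i ≤ ⊤) ((D.hom ≫ Proj.toSpecZero 𝒜 ≫
      Spec.map (CommRingCat.ofHom (algebraMap R (𝒜 0)))).appTop z) =
      (D.hom ≫ Proj.toSpecZero 𝒜 ≫ Spec.map (CommRingCat.ofHom (algebraMap R (𝒜 0)))).appLE ⊤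
        (D.Xo i) le_top z := rfl
  rw [h3]
  refine h2.symm.trans ?_
  change D.hom.appLE (Proj.basicOpen 𝒜 (D.t i)) (D.Xo i) (D.le_preimage i)
    ((Proj.toSpecZero 𝒜 ≫ Spec.map (CommRingCat.ofHom (algebraMap R (𝒜 0)))).appLE ⊤
      (Proj.basicOpen 𝒜 (D.t i)) le_top z) = _
  rw [hz, toSpec_appLE_fn (D.ht i) Nat.one_pos, ← hz]
  have hb : algebraMap R A ((Scheme.ΓSpecIso (CommRingCat.of R)).hom z) ∈ 𝒜 0 :=
    SetLike.algebraMap_mem_graded 𝒜 _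
  have h4 := D.hom_appLE_fn i hb
  rw [pow_zero] at h4
  rw [h4, hq]
  exact congrArg (fun w => rres X (le_top : D.Xo i ≤ ⊤) (q.appTop w)) hz.symm

end ProjData

end Groth.Agent.Lib.Helper3.ProjGlue
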