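import Groth.Agent.Lib.Helper3.ToProj

/-!
# `Proj.map` on functions for graded rings over different base rings
-/

set_option autoImplicit false
set_option linter.unusedSectionVars false
universe u
open CategoryTheory CategoryTheory.Limits AlgebraicGeometry TopologicalSpace Opposite
open Scheme.Modules

namespace Groth.Agent.Lib.Helper3.ProjHet

open QCSec TwistBasic GrTildeQC ProjFrac GrTildeHom ToProj

variable {R₁ R₂ A B : Type u} [CommRing R₁] [CommRing R₂] [CommRing A] [Algebra R₁ A]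
  {𝒜 : ℕ → Submodule R₁ A} [GradedAlgebra 𝒜] [CommRing B] [Algebra R₂ B]
  {ℬ : ℕ → Submodule R₂ B} [GradedAlgebra ℬ]
  (φ : 𝒜 →+*ᵍ ℬ) (hφ : HomogeneousIdeal.irrelevant ℬ ≤ (HomogeneousIdeal.irrelevant 𝒜).map φ)

theorem fval_app (U : (Proj 𝒜).Opens) (c : Γ(Proj 𝒜, U)) (y : ↥(Proj.map φ hφ ⁻¹ᵁ U)) :
    fval ((Proj.map φ hφ).app U c) y =
      Localization.localRingHom _ _ φ.toRingHom rfl
        (fval c ⟨(Proj.map φ hφ).base y.1, y.2⟩) := by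
  exact HomogeneousLocalization.val_localRingHom ..

theorem good_map {U : (Proj 𝒜).Opens} {a b : A} (h : Good U a b) :
    Good (Proj.map φ hφ ⁻¹ᵁ U) (φ a) (φ b) := by
  obtain ⟨⟨j, ha, hb⟩, nv⟩ := h
  exact ⟨⟨j, φ.map_mem ha, φ.map_mem hb⟩, fun y => nv ⟨(Proj.map φ hφ).base y.1, y.2⟩⟩

theorem app_fn {U : (Proj 𝒜).Opens} {a b : A} (h : Good U a b) :
    (Proj.map φ hφ).app U (fn U a b) = fn (Proj.map φ hφ ⁻¹ᵁ U) (φ a) (φ b) := by
  apply fval_ext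
  intro y
  rw [fval_app, fval_fn h, fval_fn (good_map φ hφ h)]
  exact ProjMapFn.localRingHom_mk _ _ _ _ _ _ _ _

theorem appLE_deh {g : A} (hg : g ∈ 𝒜 1)
    (e : Proj.basicOpen ℬ (φ g) ≤ Proj.map φ hφ ⁻¹ᵁ Proj.basicOpen 𝒜 g) (b : A) :
    (Proj.map φ hφ).appLE (Proj.basicOpen 𝒜 g) (Proj.basicOpen ℬ (φ g)) e (deh hg b) =
      deh (𝒜 := ℬ) (g := φ g) (φ.map_mem hg) (φ b) := by
  have : ((Proj.map φ hφ).appLE (Proj.basicOpen 𝒜 g) (Proj.basicOpen ℬ (φ g)) e).hom.comp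
      (deh hg) = (deh (𝒜 := ℬ) (g := φ g) (φ.map_mem hg)).comp φ.toRingHom := by
    apply ringHom_ext_of_homogeneous (𝒜 := 𝒜)
    intro m b hb
    change (Proj.map φ hφ).appLE (Proj.basicOpen 𝒜 g) (Proj.basicOpen ℬ (φ g)) e (deh hg b) =
      deh (𝒜 := ℬ) (g := φ g) (φ.map_mem hg) (φ b)
    have hb' : φ b ∈ ℬ m := φ.map_mem hb
    rw [deh_of_mem hg hb, deh_of_mem (φ.map_mem hg) hb', appLE_eq_rres,
      app_fn φ hφ (goodD1 hg hb), rres_fn e (good_map φ hφ (goodD1 hg hb)), map_pow]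
    rfl
  exact congrArg (fun ψ => ψ b) this

/-- morphisms into `Proj` agreeing on dehomogenized elements over a cover are equal -/
theorem hom_ext_of_deh {Y : Scheme.{u}} (h h' : Y ⟶ Proj 𝒜) {κ : Type u} (f : κ → A)
    (hf : ∀ k, f k ∈ 𝒜 1) (V : κ → Y.Opens) (hV : ∀ y : Y, ∃ k, y ∈ V k)
    (e : ∀ k, V k ≤ h ⁻¹ᵁ Proj.basicOpen 𝒜 (f k))
    (e' : ∀ k, V k ≤ h' ⁻¹ᵁ Proj.basicOpen 𝒜 (f k))
    (H : ∀ k b, h.appLE (Proj.basicOpen 𝒜 (f k)) (V k) (e k) (deh (hf k) b) =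
      h'.appLE (Proj.basicOpen 𝒜 (f k)) (V k) (e' k) (deh (hf k) b)) : h = h' := by
  refine hom_ext_of_appLE h h' (fun k => Proj.basicOpen 𝒜 (f k))
    (fun k => Proj.isAffineOpen_basicOpen 𝒜 (f k) (hf k) Nat.one_pos) V hV e e' (fun k => ?_)
  ext c
  obtain ⟨b, rfl⟩ := deh_surjective (hf k) c
  exact H k b

/-- sections of a composite with `Proj.map` on dehomogenized elements -/
theorem comp_map_appLE_deh {Y : Scheme.{u}} (t : Y ⟶ Proj ℬ) {g : A} (hg : g ∈ 𝒜 1)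
    (V : Y.Opens) (e : V ≤ (t ≫ Proj.map φ hφ) ⁻¹ᵁ Proj.basicOpen 𝒜 g)
    (e' : V ≤ t ⁻¹ᵁ Proj.basicOpen ℬ (φ g)) (b : A) :
    (t ≫ Proj.map φ hφ).appLE (Proj.basicOpen 𝒜 g) V e (deh hg b) =
      t.appLE (Proj.basicOpen ℬ (φ g)) V e' (deh (𝒜 := ℬ) (g := φ g) (φ.map_mem hg) (φ b)) := by
  have h1 := Scheme.Hom.appLE_comp_appLE t (Proj.map φ hφ) (Proj.basicOpen 𝒜 g)
    (Proj.basicOpen ℬ (φ g)) V (le_of_eq rfl) e'
  have h2 := congrArg (fun ψ => ψ.hom (deh hg b)) h1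
  refine h2.symm.trans ?_
  change t.appLE (Proj.basicOpen ℬ (φ g)) V e'
    ((Proj.map φ hφ).appLE (Proj.basicOpen 𝒜 g) (Proj.basicOpen ℬ (φ g)) (le_of_eq rfl)
      (deh hg b)) = _
  congr 1
  exact appLE_deh φ hφ hg _ b

end Groth.Agent.Lib.Helper3.ProjHet
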