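import Groth.Agent.Lib.Helper3.GrTwistLoc
import Groth.Agent.Lib.Helper6.ProjMap

/-!
# `Proj` of a localization away from an element of degree zero
-/

set_option autoImplicit false
set_option linter.unusedSectionVars false
universe u
open CategoryTheory CategoryTheory.Limits AlgebraicGeometry TopologicalSpace Opposite
open HomogeneousLocalization
open scoped HomogeneousIdeal

namespace Groth.Agent.Lib.Helper3.ProjLoc

open GrTwistLoc

variable {A B σ τ : Type u} [CommRing A] [CommRing B] [SetLike σ A] [AddSubgroupClass σ A]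
  {𝒜 : ℕ → σ} [GradedRing 𝒜] [SetLike τ B] [AddSubgroupClass τ B] {ℬ : ℕ → τ} [GradedRing ℬ]
  (ψ : 𝒜 →+*ᵍ ℬ) (hirr : ℬ₊ ≤ (𝒜₊).map ψ)
  (c : A) (hc : c ∈ 𝒜 0) (hu : IsUnit (ψ c))
  (hsurj : ∀ b : B, ∃ (k : ℕ) (a : A), b * ψ c ^ k = ψ a)
  (hker : ∀ a : A, ψ a = 0 → ∃ m : ℕ, c ^ m * a = 0)

/-- the image of `c` in the homogeneous localization -/
def cAway {d : ℕ} {s : A} (hs : s ∈ 𝒜 d) : Away 𝒜 s :=
  Away.mk 𝒜 hs 0 c (by simpa using hc)

theorem val_cAway {d : ℕ} {s : A} (hs : s ∈ 𝒜 d) :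
    (cAway c hc hs).val = Localization.mk c 1 := by
  rw [cAway, Away.val_mk]
  congr 1
  exact Subtype.ext (pow_zero s)

include hu in
/-- a unit of degree zero has an inverse of degree zero -/
theorem exists_inv_zero (hc' : ψ c ∈ ℬ 0) : ∃ v : B, v ∈ ℬ 0 ∧ ψ c * v = 1 := by
  classical
  obtain ⟨v, hv⟩ := hu.exists_right_inv
  refine ⟨(DirectSum.decompose ℬ v 0 : B), SetLike.coe_mem _, ?_⟩
  rw [← DirectSum.coe_decompose_mul_of_left_mem_zero ℬ hc', hv]
  exact DirectSum.decompose_of_mem_same ℬ (SetLike.GradedOne.one_mem)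

include hu hsurj hker in
/-- homogeneous localizations commute with localization at an element of degree zero -/
theorem isLocalization_awayMap {d : ℕ} {s : A} (hs : s ∈ 𝒜 d) :
    letI := (Away.map ψ s).toAlgebra
    IsLocalization.Away (cAway c hc hs) (Away ℬ (ψ s)) := by
  letI := (Away.map ψ s).toAlgebra
  have hc' : ψ c ∈ ℬ 0 := ψ.map_mem hc
  have hmap : Away.map ψ s (cAway c hc hs) = cAway (ψ c) hc' (ψ.map_mem hs) := by
    rw [cAway, Away.map_mk]
    rfl
  refine (isLocalization_iff _ _).mpr ⟨?_, ?_, ?_⟩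
  · rintro ⟨_, n, rfl⟩
    change IsUnit (Away.map ψ s (cAway c hc hs ^ n))
    rw [map_pow, hmap]
    refine IsUnit.pow n ?_
    obtain ⟨v, hv0, hv⟩ := exists_inv_zero ψ c hu hc'
    refine isUnit_iff_exists_inv.mpr ⟨cAway v hv0 (ψ.map_mem hs), ?_⟩
    apply val_injective
    rw [val_mul, val_cAway, val_cAway, val_one, Localization.mk_mul, hv, one_mul]
    exact Localization.mk_one
  · intro z
    obtain ⟨n, b, hb, rfl⟩ := Away.mk_surjective ℬ (ψ.map_mem hs) z
    obtain ⟨k, a, ha, hka⟩ := exists_homogeneous_lift ψ c hsurj hc hb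
    refine ⟨⟨Away.mk 𝒜 hs n a ha, ⟨cAway c hc hs ^ k, k, rfl⟩⟩, ?_⟩
    change Away.mk ℬ _ n b hb * Away.map ψ s (cAway c hc hs ^ k) =
      Away.map ψ s (Away.mk 𝒜 hs n a ha)
    rw [map_pow, hmap, Away.map_mk]
    apply val_injective
    rw [val_mul, val_pow, val_cAway, Away.val_mk, Away.val_mk, Localization.mk_pow,
      Localization.mk_mul, one_pow, mul_one, hka]
  · intro x y hxy
    obtain ⟨N, e, he, hw⟩ := Away.mk_surjective 𝒜 hs (x - y)
    have h0 : Away.map ψ s (x - y) = 0 := by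
      rw [map_sub, sub_eq_zero]
      exact hxy
    rw [← hw, Away.map_mk] at h0
    have h1 := congrArg HomogeneousLocalization.val h0
    rw [Away.val_mk, val_zero, Localization.mk_eq_mk', IsLocalization.mk'_eq_zero_iff] at h1
    obtain ⟨⟨_, M, rfl⟩, hM⟩ := h1
    have h2 : ψ (s ^ M * e) = 0 := by
      rw [map_mul, map_pow]
      exact hM
    obtain ⟨k, hk⟩ := hker _ h2
    refine ⟨⟨cAway c hc hs ^ k, k, rfl⟩, ?_⟩
    change cAway c hc hs ^ k * x = cAway c hc hs ^ k * y
    rw [← sub_eq_zero, ← mul_sub, ← hw]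
    apply val_injective
    rw [val_mul, val_pow, val_cAway, Away.val_mk, val_zero, Localization.mk_pow,
      Localization.mk_mul, one_pow, one_mul, Localization.mk_eq_mk',
      IsLocalization.mk'_eq_zero_iff]
    refine ⟨⟨s ^ M, M, rfl⟩, ?_⟩
    change s ^ M * (c ^ k * e) = 0
    rw [mul_left_comm]
    exact hk

include hc hu hsurj hker in
theorem isOpenImmersion_projMap : IsOpenImmersion (Proj.map ψ hirr) := by
  refine Groth.Agent.Lib.Helper6.proj_map_of_forall_away ψ hirr @IsOpenImmersion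
    (fun i hi s hs => ?_)
  letI := (Away.map ψ s).toAlgebra
  haveI := isLocalization_awayMap ψ c hc hu hsurj hker hs
  exact IsOpenImmersion.of_isLocalization (cAway c hc hs)

include hu hsurj hker in
theorem isLocalization_of_elementwise :
    letI : Algebra A B := (ψ : A →+* B).toAlgebra
    IsLocalization (Submonoid.powers c) B := by
  letI : Algebra A B := (ψ : A →+* B).toAlgebra
  refine (isLocalization_iff _ _).mpr ⟨?_, ?_, ?_⟩
  · rintro ⟨_, n, rfl⟩
    change IsUnit (ψ (c ^ n))
    rw [map_pow]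
    exact hu.pow n
  · intro b
    obtain ⟨k, a, hka⟩ := hsurj b
    refine ⟨⟨a, ⟨c ^ k, k, rfl⟩⟩, ?_⟩
    change b * ψ (c ^ k) = ψ a
    rw [map_pow, hka]
  · intro a a' haa
    have h0 : ψ (a - a') = 0 := by
      rw [map_sub, sub_eq_zero]
      exact haa
    obtain ⟨m, hm⟩ := hker _ h0
    refine ⟨⟨c ^ m, m, rfl⟩, ?_⟩
    change c ^ m * a = c ^ m * a'
    rw [← sub_eq_zero, ← mul_sub]
    exact hm

include hu hsurj hker in
theorem range_projMap :
    Set.range (Proj.map ψ hirr).base = {x : Proj 𝒜 | c ∉ x.asHomogeneousIdeal} := by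
  ext x
  constructor
  · rintro ⟨y, rfl⟩
    have := pow_notMem_comap ψ hirr c hu y 1
    rw [pow_one] at this
    exact this
  · intro hx
    letI : Algebra A B := (ψ : A →+* B).toAlgebra
    haveI : IsLocalization (Submonoid.powers c) B :=
      isLocalization_of_elementwise ψ c hu hsurj hker
    have hdisj : Disjoint (Submonoid.powers c : Set A) (x.asHomogeneousIdeal.toIdeal : Set A) := by
      rw [Set.disjoint_left]
      rintro _ ⟨n, rfl⟩ hmem
      exact hx (x.isPrime.mem_of_pow_mem n hmem)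
    have hcm : Ideal.comap ψ (Ideal.map ψ x.asHomogeneousIdeal.toIdeal) =
        x.asHomogeneousIdeal.toIdeal :=
      IsLocalization.under_map_of_isPrime_disjoint (Submonoid.powers c) B
        x.isPrime hdisj
    have hprime : (Ideal.map ψ x.asHomogeneousIdeal.toIdeal).IsPrime :=
      IsLocalization.isPrime_of_isPrime_disjoint (Submonoid.powers c) B _ x.isPrime hdisj
    let y : ProjectiveSpectrum ℬ :=
      { asHomogeneousIdeal := x.asHomogeneousIdeal.map ψ
        isPrime := hprime
        not_irrelevant_le := fun hle => x.not_irrelevant_le fun a ha => by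
          have h2 : ψ a ∈ Ideal.map ψ x.asHomogeneousIdeal.toIdeal :=
            hle (Groth.Agent.Lib.Helper6.map_mem_irrelevant ψ ha)
          have h3 : a ∈ Ideal.comap ψ (Ideal.map ψ x.asHomogeneousIdeal.toIdeal) := h2
          rw [hcm] at h3
          exact h3 }
    refine ⟨y, ?_⟩
    apply ProjectiveSpectrum.ext
    apply HomogeneousIdeal.toIdeal_injective
    exact hcm

end Groth.Agent.Lib.Helper3.ProjLoc
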