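import Groth.Agent.Lib.Helper3.ProjQGlue

/-!
# `Proj` of a polynomial algebra in one variable of degree one over a degree-zero algebra
-/

set_option autoImplicit false
universe u
open CategoryTheory CategoryTheory.Limits AlgebraicGeometry TopologicalSpace Opposite
open scoped HomogeneousIdeal

namespace Groth.Agent.Lib.Helper3.ProjPoly

open HomogeneousLocalization ProjQMap ProjQMapOn ProjQGlue

section algebra

variable {A B : Type u} [CommRing A] [CommRing B] {ℬ : ℕ → AddSubgroup B} [GradedRing ℬ]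
  (ι : A →+* B) (hι : ∀ a, ι a ∈ ℬ 0) (z : B) (hz : z ∈ ℬ 1)
  (hbij : Function.Bijective (Polynomial.eval₂RingHom ι z))

include hι hz hbij in
theorem exists_eq_mul_pow {n : ℕ} (b : B) (hb : b ∈ ℬ n) : ∃ a, b = ι a * z ^ n := by
  classical
  obtain ⟨P, rfl⟩ := hbij.2 b
  have hterm : ∀ j, ι (P.coeff j) * z ^ j ∈ ℬ j := by
    intro j
    have := SetLike.mul_mem_graded (hι (P.coeff j)) (SetLike.pow_mem_graded j hz)
    simpa using this
  have h1 : (DirectSum.decompose ℬ (Polynomial.eval₂RingHom ι z P) n : B) =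
      Polynomial.eval₂RingHom ι z P := DirectSum.decompose_of_mem_same ℬ hb
  have h2 : Polynomial.eval₂RingHom ι z P =
      ∑ j ∈ Finset.range (P.natDegree + 1), ι (P.coeff j) * z ^ j :=
    Polynomial.eval₂_eq_sum_range ι z
  rw [h2, DirectSum.decompose_sum, DFinsupp.finsetSum_apply, AddSubmonoidClass.coe_finsetSum] at h1
  have h3 : ∀ j ∈ Finset.range (P.natDegree + 1),
      (DirectSum.decompose ℬ (ι (P.coeff j) * z ^ j) n : B) =
        if j = n then ι (P.coeff n) * z ^ n else 0 := by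
    intro j _
    split_ifs with hjn
    · subst hjn
      exact DirectSum.decompose_of_mem_same ℬ (hterm j)
    · exact DirectSum.decompose_of_mem_ne ℬ (hterm j) hjn
  rw [Finset.sum_congr rfl h3, Finset.sum_ite_eq'] at h1
  rw [h2, ← h1]
  split_ifs
  · exact ⟨_, rfl⟩
  · exact ⟨0, by simp⟩

include hι hz hbij in
theorem basicOpen_eq_top : Proj.basicOpen ℬ z = ⊤ := by
  refine top_le_iff.mp (fun y _ => ?_)
  change z ∉ y.asHomogeneousIdeal
  intro hzy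
  apply y.not_irrelevant_le
  rw [HomogeneousIdeal.irrelevant_le]
  intro n hn b hb
  obtain ⟨a, rfl⟩ := exists_eq_mul_pow ι hι z hz hbij b hb
  exact Ideal.mul_mem_left _ _ (Ideal.pow_mem_of_mem _ hzy n hn)

include hι hbij in
theorem isIso_awayι : IsIso (Proj.awayι ℬ z hz one_pos) := by
  apply isIso_of_isOpenImmersion_of_opensRange_eq_top
  rw [Proj.opensRange_awayι]
  exact basicOpen_eq_top ι hι z hz hbij

variable (θ : Away ℬ z →+* A)
  (hθ : ∀ (q : Away ℬ z) (k : ℕ) (a : A),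
    q.val = Localization.mk (ι a * z ^ k) ⟨z ^ k, pow_mem (Submonoid.mem_powers z) k⟩ → θ q = a)

include hι hz hbij hθ in
theorem theta_bijective : Function.Bijective θ := by
  constructor
  · rw [injective_iff_map_eq_zero]
    intro q hq
    obtain ⟨n, b, hb, rfl⟩ := Away.mk_surjective ℬ hz q
    have hb' : b ∈ ℬ n := by simpa using hb
    obtain ⟨a, rfl⟩ := exists_eq_mul_pow ι hι z hz hbij b hb'
    have := hθ (Away.mk ℬ hz n (ι a * z ^ n) hb) n a (Away.val_mk _ _ _ _ _)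
    rw [hq] at this
    apply HomogeneousLocalization.val_injective
    rw [Away.val_mk, val_zero, ← this, map_zero, zero_mul, Localization.mk_zero]
  · intro a
    have h0 : ι a ∈ ℬ (0 • 1) := by simpa using hι a
    refine ⟨Away.mk ℬ hz 0 (ι a) h0, hθ _ 0 a ?_⟩
    rw [Away.val_mk]
    simp

end algebra

section mapTo

variable {A B : Type u} [CommRing A] [CommRing B] {𝒜 : ℕ → AddSubgroup A}
  {ℬ : ℕ → AddSubgroup B} [GradedRing 𝒜] [GradedRing ℬ]

theorem val_mapTo_mk (ψ : 𝒜 →+*ᵍ ℬ) (a : A) (b : B) (h : ψ a = b) {d : ℕ} (ha : a ∈ 𝒜 d)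
    (n : ℕ) (x : A) (hx : x ∈ 𝒜 (n • d)) :
    (mapTo ψ a b h (Away.mk 𝒜 ha n x hx)).val =
      Localization.mk (ψ x) ⟨b ^ n, pow_mem (Submonoid.mem_powers b) n⟩ := by
  subst h
  rw [mapTo_rfl, Away.map_mk, Away.val_mk]

end mapTo

section scheme

variable {Y P : Scheme.{u}} (𝒜 : RelSpec.QCAlg Y) (Sh : RelProj.QCGrAlg Y)
  (ι : 𝒜 ⟶ Sh.toQCAlg)
  (hι : ∀ (U : Y.Opens) (hU : IsAffineOpen U) (a : 𝒜.presheaf.obj (op U)),
    (ι.hom.app (op U)).hom a ∈ Sh.deg U hU 0)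
  (z : Sh.presheaf.obj (op ⊤))
  (hz : ∀ (U : Y.Opens) (hU : IsAffineOpen U),
    (Sh.presheaf.map (homOfLE le_top).op).hom z ∈ Sh.deg U hU 1)
  (hpoly : ∀ (U : Y.Opens) (hU : IsAffineOpen U),
    Function.Bijective (Polynomial.eval₂RingHom (ι.hom.app (op U)).hom
      ((Sh.presheaf.map (homOfLE le_top).op).hom z)))
  (p : P ⟶ Y)
  (chart : ∀ (U : Y.Opens) (hU : IsAffineOpen U),
    (((p ⁻¹ᵁ U : P.Opens) : Scheme.{u}) ≅ Proj (Sh.deg U hU)))
  (hP : RelProj.IsRelProj Sh p chart)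
  (θ : ∀ (U : Y.Opens) (hU : IsAffineOpen U),
    CommRingCat.of (HomogeneousLocalization.Away (Sh.deg U hU)
      ((Sh.presheaf.map (homOfLE le_top).op).hom z)) ⟶ 𝒜.presheaf.obj (op U))
  (hθ : ∀ (U : Y.Opens) (hU : IsAffineOpen U)
    (q : HomogeneousLocalization.Away (Sh.deg U hU) ((Sh.presheaf.map (homOfLE le_top).op).hom z))
    (k : ℕ) (a : 𝒜.presheaf.obj (op U)),
      q.val = Localization.mk ((ι.hom.app (op U)).hom a *
          (Sh.presheaf.map (homOfLE le_top).op).hom z ^ k)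
        ⟨(Sh.presheaf.map (homOfLE le_top).op).hom z ^ k,
          pow_mem (Submonoid.mem_powers ((Sh.presheaf.map (homOfLE le_top).op).hom z)) k⟩ →
      (θ U hU).hom q = a)

/-- the restriction of `z` to `U` -/
abbrev zU (U : Y.Opens) : Sh.presheaf.obj (op U) := (Sh.presheaf.map (homOfLE le_top).op).hom z

/-- the prescribed morphism on the chart of `Spec(𝒜)` over `U` -/
noncomputable abbrev gU (U : Y.Opens) (hU : IsAffineOpen U) : Spec (𝒜.presheaf.obj (op U)) ⟶ P :=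
  Spec.map (θ U hU) ≫ Proj.awayι (Sh.deg U hU) (zU Sh z U) (hz U hU) one_pos ≫
    RelProj.emb p chart U hU

theorem res_zU {U W : Y.Opens} (i : W ≤ U) :
    (Sh.presheaf.map (homOfLE i).op).hom (zU Sh z U) = zU Sh z W := by
  change (Sh.presheaf.map (homOfLE i).op).hom ((Sh.presheaf.map (homOfLE le_top).op).hom z) = _
  rw [← CommRingCat.comp_apply, ← Functor.map_comp]
  rfl

theorem res_zU' {U W : Y.Opens} (hU : IsAffineOpen U) (hW : IsAffineOpen W) (i : W ≤ U) :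
    (Sh.res hU hW i) (zU Sh z U) = zU Sh z W := res_zU Sh z i

include hι hz hpoly hθ in
theorem theta_res (U : Y.Opens) (hU : IsAffineOpen U) (W : Y.Opens) (hW : IsAffineOpen W)
    (i : W ≤ U) :
    θ U hU ≫ 𝒜.presheaf.map (homOfLE i).op =
      CommRingCat.ofHom (mapTo (Sh.res hU hW i) (zU Sh z U) (zU Sh z W) (res_zU' Sh z hU hW i)) ≫
        θ W hW := by
  ext q
  obtain ⟨n, b, hb, rfl⟩ := Away.mk_surjective (Sh.deg U hU) (hz U hU) q
  have hb' : b ∈ Sh.deg U hU n := by simpa using hb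
  obtain ⟨a, rfl⟩ := exists_eq_mul_pow (ι.hom.app (op U)).hom (hι U hU) (zU Sh z U) (hz U hU)
    (hpoly U hU) b hb'
  have h1 := hθ U hU (Away.mk (Sh.deg U hU) (hz U hU) n _ hb) n a (Away.val_mk _ _ _ _ _)
  change (𝒜.presheaf.map (homOfLE i).op).hom ((θ U hU).hom _) = (θ W hW).hom _
  rw [h1]
  symm
  refine hθ W hW _ n _ ?_
  refine (val_mapTo_mk (Sh.res hU hW i) (zU Sh z U) (zU Sh z W) (res_zU' Sh z hU hW i) (hz U hU) n _
    hb).trans ?_
  congr 1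
  change (Sh.presheaf.map (homOfLE i).op).hom ((ι.hom.app (op U)).hom a * zU Sh z U ^ n) = _
  rw [map_mul, map_pow, res_zU]
  congr 1
  exact (congrArg (fun φ => φ.hom a) (ι.hom.naturality (homOfLE i).op)).symm

include hι hpoly hθ hP in
theorem gU_res (U : Y.Opens) (hU : IsAffineOpen U) (r : Γ(Y, U)) (W : Y.Opens)
    (hW : IsAffineOpen W) (e : W = Y.basicOpen r) :
    Spec.map (𝒜.presheaf.map (homOfLE (e.le.trans (Y.basicOpen_le r))).op) ≫
      gU 𝒜 Sh z hz p chart θ U hU = gU 𝒜 Sh z hz p chart θ W hW := by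
  subst e
  change _ ≫ Spec.map (θ U hU) ≫ _ ≫ _ = Spec.map (θ _ hW) ≫ _ ≫ _
  rw [← emb_res hP U hU r,
    reassoc_of% (awayι_mapTo (Sh.res hU hW (Y.basicOpen_le r)) (Sh.irrelevant_le_map U hU r) one_pos
      (zU Sh z U) (hz U hU) (zU Sh z (Y.basicOpen r)) (res_zU' Sh z hU hW _) (hz _ hW)),
    ← Spec.map_comp_assoc, ← Spec.map_comp_assoc,
    theta_res 𝒜 Sh ι hι z hz hpoly θ hθ U hU _ hW (Y.basicOpen_le r)]

theorem exists_mem_range_ι (t : 𝒜.spec) :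
    ∃ U : Y.affineOpens, t ∈ Set.range (𝒜.ι U.1 U.2) := by
  obtain ⟨U, hU, htU⟩ := exists_affine_mem (𝒜.π t)
  refine ⟨⟨U, hU⟩, ?_⟩
  have : t ∈ 𝒜.π ⁻¹ᵁ U := htU
  rw [𝒜.π_preimage U hU] at this
  exact this

theorem π_ι_mem (U : Y.Opens) (hU : IsAffineOpen U) (w : Spec (𝒜.presheaf.obj (op U))) :
    𝒜.π (𝒜.ι U hU w) ∈ U := by
  have : 𝒜.ι U hU w ∈ (𝒜.ι U hU).opensRange := ⟨w, rfl⟩
  rw [← 𝒜.π_preimage U hU] at this
  exact this

include hι hz hpoly hθ hP in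
/-- existence of the morphism `Spec(𝒜) ⟶ Proj(𝒜[T])` -/
theorem exists_i : ∃ i : 𝒜.spec ⟶ P, ∀ (U : Y.Opens) (hU : IsAffineOpen U),
    𝒜.ι U hU ≫ i = gU 𝒜 Sh z hz p chart θ U hU := by
  obtain ⟨i, hi⟩ := exists_glue_of_refine
    (fun U : Y.affineOpens => Spec (𝒜.presheaf.obj (op U.1)))
    (fun U => 𝒜.ι U.1 U.2) (exists_mem_range_ι 𝒜)
    (fun U => gU 𝒜 Sh z hz p chart θ U.1 U.2) (by
      intro U V w w' hww
      have h1 := π_ι_mem 𝒜 U.1 U.2 w
      have h2 : 𝒜.π (𝒜.ι U.1 U.2 w) ∈ V.1 := by rw [hww]; exact π_ι_mem 𝒜 V.1 V.2 w'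
      obtain ⟨s, s', hst, hx⟩ := exists_basicOpen_le_affine_inter U.2 V.2 _ ⟨h1, h2⟩
      let UU : Y.AffineZariskiSite := ⟨U.1, U.2⟩
      let VV : Y.AffineZariskiSite := ⟨V.1, V.2⟩
      let WW : Y.AffineZariskiSite := ⟨Y.basicOpen s, U.2.basicOpen s⟩
      have hWU : WW ≤ UU := ⟨s, rfl⟩
      have hWV : WW ≤ VV := ⟨s', hst.symm⟩
      let iU : WW ⟶ UU := homOfLE hWU
      let iV : WW ⟶ VV := homOfLE hWV
      refine ⟨⟨Y.basicOpen s, U.2.basicOpen s⟩,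
        Spec.map (𝒜.presheaf.map (homOfLE (Y.basicOpen_le s)).op),
        Spec.map (𝒜.presheaf.map (homOfLE (hst.le.trans (Y.basicOpen_le s'))).op),
        𝒜.ι_res iU, 𝒜.ι_res iV, ?_, ?_, ?_⟩
      · exact gU_res 𝒜 Sh ι hι z hz hpoly p chart hP θ hθ U.1 U.2 s _ (U.2.basicOpen s) rfl
      · exact gU_res 𝒜 Sh ι hι z hz hpoly p chart hP θ hθ V.1 V.2 s' _ (U.2.basicOpen s) hst
      · have : 𝒜.ι U.1 U.2 w ∈ 𝒜.π ⁻¹ᵁ (Y.basicOpen s) := hx
        rw [𝒜.π_preimage _ (U.2.basicOpen s)] at this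
        exact this)
  exact ⟨i, fun U hU => hi ⟨U, hU⟩⟩

theorem eq_of_forall_ι {Z : Scheme.{u}} (i i' : 𝒜.spec ⟶ Z)
    (h : ∀ (U : Y.Opens) (hU : IsAffineOpen U), 𝒜.ι U hU ≫ i = 𝒜.ι U hU ≫ i') : i = i' := by
  refine hom_ext_of_covers _ _ (fun t => ?_)
  obtain ⟨U, hU⟩ := exists_mem_range_ι 𝒜 t
  exact ⟨_, 𝒜.ι U.1 U.2, inferInstance, hU, h U.1 U.2⟩

include hθ hP in
theorem comp_p (i : 𝒜.spec ⟶ P) (hi : ∀ (U : Y.Opens) (hU : IsAffineOpen U),
    𝒜.ι U hU ≫ i = gU 𝒜 Sh z hz p chart θ U hU) : i ≫ p = 𝒜.π := by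
  refine eq_of_forall_ι 𝒜 _ _ (fun U hU => ?_)
  rw [← Category.assoc, hi U hU, 𝒜.ι_π]
  change (Spec.map (θ U hU) ≫ Proj.awayι _ _ _ _ ≫ RelProj.emb p chart U hU) ≫ p = _
  simp only [Category.assoc]
  rw [emb_comp hP, Proj.awayι_toSpecZero_assoc, ← Spec.map_comp_assoc, ← Spec.map_comp_assoc]
  congr 2
  ext r
  change (θ U hU).hom (fromZeroRingHom _ _ ((Sh.strZero U hU).hom r)) = (𝒜.str.app (op U)).hom r
  refine hθ U hU _ 0 _ ?_
  change Localization.mk ((Sh.str.app (op U)).hom r) 1 = _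
  have e : (Sh.str.app (op U)).hom r = (ι.hom.app (op U)).hom ((𝒜.str.app (op U)).hom r) :=
    (congrArg (fun φ : Y.presheaf ⟶ Sh.presheaf => (φ.app (op U)).hom r) ι.comm).symm
  rw [e]
  congr 1
  · simp
  · ext; simp

include hι hz hpoly hθ hP in
theorem isIso_i (i : 𝒜.spec ⟶ P) (hi : ∀ (U : Y.Opens) (hU : IsAffineOpen U),
    𝒜.ι U hU ≫ i = gU 𝒜 Sh z hz p chart θ U hU) : IsIso i := by
  have hcomp := comp_p 𝒜 Sh ι z hz p chart hP θ hθ i hi
  rw [← MorphismProperty.isomorphisms.iff]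
  let 𝒰 : P.OpenCover := Scheme.Cover.mkOfCovers Y.affineOpens
    (fun U => Proj (Sh.deg U.1 U.2)) (fun U => RelProj.emb p chart U.1 U.2)
    (fun x => by
      obtain ⟨U, hU, hxU⟩ := exists_affine_mem (p x)
      obtain ⟨y, hy⟩ := exists_emb_eq p chart U hU x hxU
      exact ⟨⟨U, hU⟩, y, hy⟩) (fun U => inferInstance)
  refine RelProjMap.of_cover_isPullback (P := MorphismProperty.isomorphisms Scheme.{u}) 𝒰
    (fun U => Spec (𝒜.presheaf.obj (op U.1))) (fun U => 𝒜.ι U.1 U.2)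
    (fun U => Spec.map (θ U.1 U.2) ≫ Proj.awayι (Sh.deg U.1 U.2) (zU Sh z U.1) (hz U.1 U.2) one_pos)
    (fun U => ?_) (fun U => ?_)
  · refine (IsOpenImmersion.isPullback _ _ _ _ ?_ ?_).flip
    · rw [hi U.1 U.2]
      simp only [Category.assoc]
      rfl
    · change i ⁻¹ᵁ (RelProj.emb p chart U.1 U.2).opensRange = (𝒜.ι U.1 U.2).opensRange
      rw [opensRange_emb, ← Scheme.Hom.comp_preimage, hcomp, 𝒜.π_preimage U.1 U.2]
  · rw [MorphismProperty.isomorphisms.iff]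
    haveI : IsIso (θ U.1 U.2) := by
      rw [ConcreteCategory.isIso_iff_bijective]
      exact theta_bijective (ι.hom.app (op U.1)).hom (hι U.1 U.2) (zU Sh z U.1) (hz U.1 U.2)
        (hpoly U.1 U.2) (θ U.1 U.2).hom (hθ U.1 U.2)
    have h2 : IsIso (Proj.awayι (Sh.deg U.1 U.2) (zU Sh z U.1) (hz U.1 U.2) one_pos) :=
      isIso_awayι (ι.hom.app (op U.1)).hom (hι U.1 U.2) (zU Sh z U.1) (hz U.1 U.2) (hpoly U.1 U.2)
    have h1 : IsIso (Spec.map (θ U.1 U.2)) := inferInstance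
    exact IsIso.comp_isIso' h1 h2

end scheme

end Groth.Agent.Lib.Helper3.ProjPoly
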