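import Groth.Agent.Lib.Helper3.SymGenProj
import Groth.Agent.Lib.Helper3.QCProps

/-!
# The degree one part of the graded symmetric algebra of a module of finite type is of finite type
-/

set_option autoImplicit false
set_option linter.unusedSectionVars false
universe u
open CategoryTheory CategoryTheory.Limits AlgebraicGeometry TopologicalSpace Opposite
open Scheme.Modules
open scoped HomogeneousIdeal

namespace Groth.Agent.Lib.Helper3.SymFT

section Alg

variable {A : Type*} [CommRing A] {σ : Type*} [SetLike σ A] [AddSubgroupClass σ A] (𝒜 : ℕ → σ)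
  [GradedRing 𝒜]

theorem proj_zero_mul (y z : A) :
    GradedRing.proj 𝒜 0 (y * z) = GradedRing.proj 𝒜 0 y * GradedRing.proj 𝒜 0 z := by
  simp only [GradedRing.proj_apply, ← GradedRing.projZeroRingHom_apply, map_mul]

theorem proj_one_mul (y z : A) :
    GradedRing.proj 𝒜 1 (y * z) =
      GradedRing.proj 𝒜 0 y * GradedRing.proj 𝒜 1 z +
        GradedRing.proj 𝒜 1 y * GradedRing.proj 𝒜 0 z := by
  induction y using DirectSum.Decomposition.inductionOn 𝒜 with
  | zero => simp only [zero_mul, map_zero, add_zero]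
  | @homogeneous d c =>
    simp only [GradedRing.proj_apply]
    obtain rfl | rfl | hd : d = 0 ∨ d = 1 ∨ 2 ≤ d := by omega
    · rw [DirectSum.coe_decompose_mul_of_left_mem_of_le 𝒜 c.2 (Nat.zero_le 1),
        DirectSum.decompose_of_mem_same 𝒜 c.2,
        DirectSum.decompose_of_mem_ne 𝒜 c.2 zero_ne_one, zero_mul, add_zero, Nat.sub_zero]
    · rw [DirectSum.coe_decompose_mul_of_left_mem_of_le 𝒜 c.2 le_rfl,
        DirectSum.decompose_of_mem_same 𝒜 c.2,
        DirectSum.decompose_of_mem_ne 𝒜 c.2 one_ne_zero, zero_mul, zero_add, Nat.sub_self]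
    · rw [DirectSum.coe_decompose_mul_of_left_mem_of_not_le 𝒜 c.2 (by omega),
        DirectSum.decompose_of_mem_ne 𝒜 c.2 (by omega : d ≠ 0),
        DirectSum.decompose_of_mem_ne 𝒜 c.2 (by omega : d ≠ 1), zero_mul, zero_mul, add_zero]
  | add y y' hy hy' =>
    rw [add_mul, map_add, map_add, map_add, hy, hy']
    ring

/-- a graded ring generated by a ring in degree zero and a module in degree one has degree one part
the image of the module -/
theorem exists_of_mem_one {R M : Type*} [CommRing R] [AddCommGroup M] [Module R M] (φ : R →+* A)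
    (ψ : M → A) (hψ0 : ψ 0 = 0) (hψadd : ∀ m m', ψ (m + m') = ψ m + ψ m')
    (hψsmul : ∀ r m, ψ (r • m) = φ r * ψ m) (hφ : ∀ r, φ r ∈ 𝒜 0) (hψ : ∀ m, ψ m ∈ 𝒜 1)
    (hgen : Subring.closure (Set.range φ ∪ Set.range ψ) = ⊤) {x : A} (hx : x ∈ 𝒜 1) :
    ∃ m, ψ m = x := by
  have key : ∀ y : A, ∃ (r : R) (m : M),
      GradedRing.proj 𝒜 0 y = φ r ∧ GradedRing.proj 𝒜 1 y = ψ m := by
    intro y
    have hy : y ∈ Subring.closure (Set.range φ ∪ Set.range ψ) := by
      rw [hgen]
      trivial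
    induction hy using Subring.closure_induction with
    | mem y hy =>
      rcases hy with ⟨r, rfl⟩ | ⟨m, rfl⟩
      · refine ⟨r, 0, ?_, ?_⟩
        · rw [GradedRing.proj_apply, DirectSum.decompose_of_mem_same 𝒜 (hφ r)]
        · rw [GradedRing.proj_apply, DirectSum.decompose_of_mem_ne 𝒜 (hφ r) zero_ne_one, hψ0]
      · refine ⟨0, m, ?_, ?_⟩
        · rw [GradedRing.proj_apply, DirectSum.decompose_of_mem_ne 𝒜 (hψ m) one_ne_zero,
            map_zero]
        · rw [GradedRing.proj_apply, DirectSum.decompose_of_mem_same 𝒜 (hψ m)]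
    | zero => exact ⟨0, 0, by rw [map_zero, map_zero], by rw [map_zero, hψ0]⟩
    | one =>
      refine ⟨1, 0, ?_, ?_⟩
      · rw [GradedRing.proj_apply, DirectSum.decompose_of_mem_same 𝒜 SetLike.GradedOne.one_mem,
          map_one]
      · rw [GradedRing.proj_apply,
          DirectSum.decompose_of_mem_ne 𝒜 SetLike.GradedOne.one_mem zero_ne_one, hψ0]
    | add y z _ _ hy hz =>
      obtain ⟨r, m, h0, h1⟩ := hy
      obtain ⟨r', m', h0', h1'⟩ := hz
      exact ⟨r + r', m + m', by rw [map_add, h0, h0', map_add],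
        by rw [map_add, h1, h1', hψadd]⟩
    | neg y _ hy =>
      obtain ⟨r, m, h0, h1⟩ := hy
      refine ⟨-r, (-1 : R) • m, by rw [map_neg, h0, map_neg], ?_⟩
      rw [map_neg, h1, hψsmul, map_neg, map_one, neg_one_mul]
    | mul y z _ _ hy hz =>
      obtain ⟨r, m, h0, h1⟩ := hy
      obtain ⟨r', m', h0', h1'⟩ := hz
      refine ⟨r * r', r • m' + r' • m, ?_, ?_⟩
      · rw [proj_zero_mul, h0, h0', map_mul]
      · rw [proj_one_mul, h0, h1, h0', h1', hψadd, hψsmul, hψsmul]
        ring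
  obtain ⟨r, m, -, h1⟩ := key x
  refine ⟨m, ?_⟩
  rw [← h1, GradedRing.proj_apply, DirectSum.decompose_of_mem_same 𝒜 hx]

end Alg

open QCSec SymGen

variable {Y : Scheme.{u}} {E : Y.Modules} [E.IsQuasicoherent] {𝒮 : RelProj.QCGrAlg Y}
  {j : E ⟶ 𝒮.toModule} (hj : RelProj.IsGrSymAlg E 𝒮 j)

include hj in
/-- the degree one part of the graded symmetric algebra is the image of the module -/
theorem exists_jj_eq {U : Y.Opens} (hU : IsAffineOpen U) {x : 𝒮.presheaf.obj (op U)}
    (hx : x ∈ 𝒮.deg U hU 1) : ∃ e : Γ(E, U), jj 𝒮.toQCAlg j U e = x := by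
  refine exists_of_mem_one (𝒮.deg U hU) (st 𝒮.toQCAlg U) (jj 𝒮.toQCAlg j U) ?_
    (jj_add 𝒮.toQCAlg j U) (jj_smul 𝒮.toQCAlg j U) (𝒮.str_mem U hU) (hj.2 U hU) ?_ hx
  · exact map_zero (j.app U).hom
  · exact G_eq_top 𝒮.toQCAlg j hj.1 hU

include hj in
theorem isFTDeg_one [E.IsFiniteType] : 𝒮.IsFTDeg 1 := by
  classical
  intro U hU
  haveI : Module.Finite Γ(Y, U) Γ(E, U) := QCProps.finite_sections E hU
  obtain ⟨T, hT⟩ := (Module.Finite.fg_top : (⊤ : Submodule Γ(Y, U) Γ(E, U)).FG)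
  refine ⟨T.image (jj 𝒮.toQCAlg j U), ?_, ?_⟩
  · intro x hx
    obtain ⟨e, -, rfl⟩ := Finset.mem_image.mp hx
    exact hj.2 U hU e
  · intro x hx
    obtain ⟨e, rfl⟩ := exists_jj_eq hj hU hx
    have he : e ∈ Submodule.span Γ(Y, U) (T : Set Γ(E, U)) := by
      rw [hT]
      trivial
    obtain ⟨c, hc⟩ := (Submodule.mem_span_finset).mp he
    have hx' : jj 𝒮.toQCAlg j U e =
        ∑ t ∈ T, (𝒮.str.app (op U)).hom (c t) * jj 𝒮.toQCAlg j U t := by
      rw [← hc.2]
      change (j.app U).hom (∑ t ∈ T, c t • t) = _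
      rw [map_sum]
      exact Finset.sum_congr rfl (fun t _ => jj_smul 𝒮.toQCAlg j U (c t) t)
    refine ⟨fun y => ∑ t ∈ T.filter (fun t => jj 𝒮.toQCAlg j U t = y), c t, ?_⟩
    rw [hx']
    symm
    refine Finset.sum_image'
      (fun t => (𝒮.str.app (op U)).hom (c t) * jj 𝒮.toQCAlg j U t) (fun t _ => ?_)
    rw [map_sum, Finset.sum_mul]
    refine Finset.sum_congr rfl (fun t' ht' => ?_)
    rw [(Finset.mem_filter.mp ht').2]

end Groth.Agent.Lib.Helper3.SymFT
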