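import Groth.Agent.Lib.Helper3.Segre
import Groth.Agent.Lib.Helper3.CPb
import Groth.Agent.Lib.Helper3.SymFT
import Groth.Agent.Lib.Helper3.DegOneFT
import Groth.Agent.Lib.Helper3.ProjProper

/-!
# Fibre products of projective morphisms are projective
-/

set_option autoImplicit false
set_option linter.unusedSectionVars false
universe u
open CategoryTheory CategoryTheory.Limits AlgebraicGeometry TopologicalSpace Opposite

namespace Groth.Agent.Lib.Helper3.ProjProd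

/-- a projective morphism is proper and factors through a closed immersion into the projective
bundle of a quasi-coherent module of finite type -/
theorem exists_closedImmersion_of_isProjective {X Y : Scheme.{u}} (f : X ⟶ Y)
    (hf : RelProj.IsProjective f) :
    ∃ (E : Y.Modules) (𝒯 : RelProj.QCGrAlg Y) (j : E ⟶ 𝒯.toModule) (PT : Scheme.{u})
      (pT : PT ⟶ Y)
      (chartT : ∀ (U : Y.Opens) (hU : IsAffineOpen U),
        ((pT ⁻¹ᵁ U : PT.Opens) : Scheme.{u}) ≅ Proj (𝒯.deg U hU)) (i : X ⟶ PT),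
      E.IsQuasicoherent ∧ E.IsFiniteType ∧ RelProj.IsGrSymAlg E 𝒯 j ∧
        RelProj.IsRelProj 𝒯 pT chartT ∧ IsClosedImmersion i ∧ i ≫ pT = f ∧ IsProper f := by
  obtain ⟨𝒮, P, p, chart, e, hgen, hft, hP, he⟩ := hf
  obtain ⟨E, 𝒯, j, PT, pT, chartT, h, hEq, hEft, hj, hPT, hh, hhp⟩ :=
    DegOneFT.exists_closedImmersion_projBundle 𝒮 p chart hP hgen hft
  haveI := hh
  haveI : IsProper p := ProjProper.isProper_of_isGenDegOne hP hgen hft
  refine ⟨E, 𝒯, j, PT, pT, chartT, e.hom ≫ h, hEq, hEft, hj, hPT, inferInstance, ?_, ?_⟩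
  · rw [Category.assoc, hhp, he]
  · rw [← he]
    infer_instance

/-- the fibre product of two projective schemes over `B` is projective over `B` -/
theorem isProjective_fibreProd {Z₁ Z₂ B : Scheme.{u}} (u₁ : Z₁ ⟶ B) (u₂ : Z₂ ⟶ B)
    (h₁ : RelProj.IsProjective u₁) (h₂ : RelProj.IsProjective u₂) :
    RelProj.IsProjective (pullback.fst u₁ u₂ ≫ u₁) := by
  obtain ⟨E₁, 𝒯₁, j₁, P₁, p₁, chart₁, i₁, hE₁q, hE₁ft, hj₁, hP₁, hi₁, hip₁, hu₁⟩ :=
    exists_closedImmersion_of_isProjective u₁ h₁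
  obtain ⟨E₂, 𝒯₂, j₂, P₂, p₂, chart₂, i₂, hE₂q, hE₂ft, hj₂, hP₂, hi₂, hip₂, hu₂⟩ :=
    exists_closedImmersion_of_isProjective u₂ h₂
  haveI := hE₁q
  haveI := hE₁ft
  haveI := hE₂q
  haveI := hE₂ft
  haveI := hi₁
  haveI := hi₂
  haveI := hu₁
  haveI := hu₂
  haveI hF : (CohB1.tensorMod E₁ E₂).IsQuasicoherent :=
    Groth.Agent.Lib.Helper17.TensorSec.isQuasicoherent_tensorMod E₁ E₂
  haveI hFt : (CohB1.tensorMod E₁ E₂).IsFiniteType :=
    Groth.Agent.Lib.Helper17.TensorSec.isFiniteType_tensorMod E₁ E₂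
  obtain ⟨𝒯, k, hk⟩ := SymGr.exists_isGrSymAlg (CohB1.tensorMod E₁ E₂)
  obtain ⟨Q, q, chartQ, hQ⟩ := RelProjExist.exists_isRelProj 𝒯
  obtain ⟨O1₁, lam₁, hO1₁⟩ := RelTwistExist.exists_isRelTwist hP₁ 1
  obtain ⟨O1₂, lam₂, hO1₂⟩ := RelTwistExist.exists_isRelTwist hP₂ 1
  obtain ⟨O1Q, lamQ, hO1Q⟩ := RelTwistExist.exists_isRelTwist hQ 1
  have hr₁ : (pullback.fst u₁ u₂ ≫ i₁) ≫ p₁ = pullback.fst u₁ u₂ ≫ u₁ := by
    rw [Category.assoc, hip₁]
  have hr₂ : (pullback.snd u₁ u₂ ≫ i₂) ≫ p₂ = pullback.fst u₁ u₂ ≫ u₁ := by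
    rw [Category.assoc, hip₂, pullback.condition]
  haveI : IsClosedImmersion (pullback.lift (pullback.fst u₁ u₂ ≫ i₁) (pullback.snd u₁ u₂ ≫ i₂)
      (hr₁.trans hr₂.symm)) := by
    have h := MorphismProperty.pullbackMap (P := @IsClosedImmersion) hi₁ hi₂ hip₁.symm hip₂.symm
    exact h
  obtain ⟨ς, hςi, hς, -⟩ := Segre.exists_segre hj₁ hP₁ hO1₁ hj₂ hP₂ hO1₂ hk hQ hO1Q
    (pullback.fst u₁ u₂ ≫ u₁) (pullback.fst u₁ u₂ ≫ i₁) (pullback.snd u₁ u₂ ≫ i₂) hr₁ hr₂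
  haveI := hςi
  have hgen := SymGenProj.isGenDegOne hk
  have hftd := SymFT.isFTDeg_one hk
  haveI : IsProper q := ProjProper.isProper_of_isGenDegOne hQ hgen hftd
  haveI : IsProper (ς ≫ q) := by
    rw [hς]
    infer_instance
  haveI : IsProper ς := IsProper.of_comp ς q
  haveI : IsClosedImmersion ς :=
    IsClosedImmersion.of_isPreimmersion ς ς.isClosedMap.isClosed_range
  have key := CPb.isProjective 𝒯 q chartQ ς hQ hgen hftd
  rwa [hς] at key

end Groth.Agent.Lib.Helper3.ProjProd
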