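import Groth.Agent.Lib.Helper3.ProjClosed
import Groth.Agent.Lib.Helper3.PbBasic
import Groth.Agent.Lib.Helper3.TwistProj

/-!
# Vanishing of pulled back sections of `O(d)` along a morphism to `Proj`
-/

set_option autoImplicit false
set_option linter.unusedSectionVars false
universe u
open CategoryTheory CategoryTheory.Limits AlgebraicGeometry TopologicalSpace Opposite
open Scheme.Modules

namespace Groth.Agent.Lib.Helper3.ProjPullSec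

open QCSec InvGen TwistBasic GrTildeQC ProjFrac GrTildeHom ProjMapFn ProjClosed TwistProj PbBasic

variable {R A : Type u} [CommRing R] [CommRing A] [Algebra R A] {𝒜 : ℕ → Submodule R A}
  [GradedAlgebra 𝒜] {ι : Type u} {f : ι → A} (hf : ∀ i, f i ∈ 𝒜 1)

local notation "𝒰" k:max => Proj.basicOpen 𝒜 (f k)

theorem res_gsec_eq_smul (j : ι) {d : ℕ} (F : 𝒜 d) :
    res (Twist.twist 𝒜 (d : ℤ)) (le_top : 𝒰 j ≤ ⊤) (gsec F) =
      fn (𝒰 j) F.1 (f j ^ d) •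
        res (Twist.twist 𝒜 (d : ℤ)) (le_top : 𝒰 j ≤ ⊤)
          (gsec (⟨f j ^ d, pow_mem_of_mem_one (hf j) d⟩ : 𝒜 d)) := by
  apply val_ext
  intro x
  rw [val_smul, fval_fn (good_q hf j le_rfl F.2)]
  change Localization.mk F.1 ⟨1, _⟩ =
    Localization.mk F.1 ⟨f j ^ d, _⟩ * Localization.mk (f j ^ d) ⟨1, _⟩
  rw [Localization.mk_mul, Localization.mk_eq_mk_iff, Localization.r_iff_exists]
  exact ⟨1, by simp only [OneMemClass.coe_one, Submonoid.coe_mul]; ring⟩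

variable (hcov : ∀ x : Proj 𝒜, ∃ i, x ∈ Proj.basicOpen 𝒜 (f i))
  {Z : Scheme.{u}} (i : Z ⟶ Proj 𝒜) [QuasiCompact i]

include hcov in
theorem pull_gsec_eq_zero_iff {d : ℕ} (F : 𝒜 d) :
    pull i (Twist.twist 𝒜 (d : ℤ)) ⊤ (gsec F) = 0 ↔
      ∀ j, fn (𝒰 j) F.1 (f j ^ d) ∈ i.ker.ideal (Ua hf j) := by
  have hgen : ∀ j, IsGen ((Scheme.Modules.pullback i).obj (Twist.twist 𝒜 (d : ℤ))) (i ⁻¹ᵁ 𝒰 j)
      (pull i _ (𝒰 j) (res (Twist.twist 𝒜 (d : ℤ)) (le_top : 𝒰 j ≤ ⊤)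
        (gsec (⟨f j ^ d, pow_mem_of_mem_one (hf j) d⟩ : 𝒜 d)))) :=
    fun j => isGen_pull i (isGen_res_gsec _ (fun x hx => notMem_pow hx d))
  have hres : ∀ j, res ((Scheme.Modules.pullback i).obj (Twist.twist 𝒜 (d : ℤ)))
      (show i ⁻¹ᵁ 𝒰 j ≤ i ⁻¹ᵁ ⊤ from fun _ _ => trivial)
      (pull i (Twist.twist 𝒜 (d : ℤ)) ⊤ (gsec F)) =
      (i.app (𝒰 j) (fn (𝒰 j) F.1 (f j ^ d))) •
        pull i _ (𝒰 j) (res (Twist.twist 𝒜 (d : ℤ)) (le_top : 𝒰 j ≤ ⊤)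
          (gsec (⟨f j ^ d, pow_mem_of_mem_one (hf j) d⟩ : 𝒜 d))) := by
    intro j
    rw [res_pull i _ (le_top : 𝒰 j ≤ ⊤), res_gsec_eq_smul hf j F, pull_smul]
  have hmem : ∀ j, fn (𝒰 j) F.1 (f j ^ d) ∈ i.ker.ideal (Ua hf j) ↔
      i.app (𝒰 j) (fn (𝒰 j) F.1 (f j ^ d)) = 0 := by
    intro j
    rw [Scheme.Hom.ker_apply]
    exact RingHom.mem_ker
  constructor
  · intro h0 j
    rw [hmem]
    have h1 := hres j
    rw [h0, res_zero] at h1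
    exact (hgen j).self.eq_zero h1.symm
  · intro h
    apply sec_eq_of_locally_eq _ (fun j => i ⁻¹ᵁ 𝒰 j) (i ⁻¹ᵁ ⊤) (fun j _ _ => trivial)
    · intro x _
      obtain ⟨j, hj⟩ := hcov (i x)
      exact Opens.mem_iSup.mpr ⟨j, hj⟩
    · intro j
      rw [hres j, (hmem j).mp (h j), zero_smul, res_zero]

end Groth.Agent.Lib.Helper3.ProjPullSec
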