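import Groth.Agent.Lib.Helper3.ProjQMap

/-!
# The open `G(φ)` and the morphism `Proj(φ)` on it (same base)
-/

set_option autoImplicit false
universe u
open CategoryTheory CategoryTheory.Limits AlgebraicGeometry TopologicalSpace Opposite
open scoped HomogeneousIdeal

namespace Groth.Agent.Lib.Helper3.ProjQMapOn

open HomogeneousLocalization ProjQMap

section algebra

variable {A B : Type u} [CommRing A] [CommRing B] {𝒜 : ℕ → AddSubgroup A}
  {ℬ : ℕ → AddSubgroup B} [GradedRing 𝒜] [GradedRing ℬ] (ψ : 𝒜 →+*ᵍ ℬ)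

theorem mem_domOpen_of_mem {d : ℕ} (hd : 0 < d) {f : A} (hf : f ∈ 𝒜 d) (y : Proj ℬ)
    (hy : ψ f ∉ y.asHomogeneousIdeal) : y ∈ RelCone.domOpen ψ :=
  (RelCone.mem_domOpen _ _).mpr ⟨f, HomogeneousIdeal.mem_irrelevant_of_mem _ hd hf, hy⟩

theorem exists_of_mem_domOpen (y : Proj ℬ) (hy : y ∈ RelCone.domOpen ψ) :
    ∃ d, 0 < d ∧ ∃ f ∈ 𝒜 d, ψ f ∉ y.asHomogeneousIdeal := by
  classical
  obtain ⟨f, hf, hfy⟩ := (RelCone.mem_domOpen _ _).mp hy
  by_contra hcon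
  push_neg at hcon
  apply hfy
  rw [← DirectSum.sum_support_decompose 𝒜 f, map_sum]
  refine Ideal.sum_mem _ (fun i _ => ?_)
  rcases Nat.eq_zero_or_pos i with rfl | hi
  · have h0 : (DirectSum.decompose 𝒜 f 0 : A) = 0 := by
      have := (HomogeneousIdeal.mem_irrelevant_iff 𝒜 f).mp hf
      exact this
    rw [h0, map_zero]
    exact Ideal.zero_mem _
  · exact hcon i hi _ (SetLike.coe_mem _)

end algebra

section scheme

variable {Y : Scheme.{u}}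

theorem emb_res {𝒮 : RelProj.QCGrAlg Y} {P : Scheme.{u}} {p : P ⟶ Y}
    {chart : ∀ (U : Y.Opens) (hU : IsAffineOpen U),
      ((p ⁻¹ᵁ U : P.Opens) : Scheme.{u}) ≅ Proj (𝒮.deg U hU)}
    (hp : RelProj.IsRelProj 𝒮 p chart) (U : Y.Opens) (hU : IsAffineOpen U) (r : Γ(Y, U)) :
    Proj.map (𝒮.res hU (hU.basicOpen r) (Y.basicOpen_le r)) (𝒮.irrelevant_le_map U hU r) ≫
      RelProj.emb p chart U hU = RelProj.emb p chart (Y.basicOpen r) (hU.basicOpen r) := by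
  have h1 : Proj.map (𝒮.res hU (hU.basicOpen r) (Y.basicOpen_le r)) (𝒮.irrelevant_le_map U hU r) ≫
      (chart U hU).inv = (chart (Y.basicOpen r) (hU.basicOpen r)).inv ≫
        P.homOfLE (p.preimage_mono (Y.basicOpen_le r)) := by
    rw [Iso.eq_inv_comp, ← Category.assoc, Iso.comp_inv_eq]
    exact (hp.chart_res U hU r).symm
  unfold RelProj.emb
  rw [← Category.assoc, h1, Category.assoc, Scheme.homOfLE_ι]

theorem emb_res_apply {𝒮 : RelProj.QCGrAlg Y} {P : Scheme.{u}} {p : P ⟶ Y}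
    {chart : ∀ (U : Y.Opens) (hU : IsAffineOpen U),
      ((p ⁻¹ᵁ U : P.Opens) : Scheme.{u}) ≅ Proj (𝒮.deg U hU)}
    (hp : RelProj.IsRelProj 𝒮 p chart) (U : Y.Opens) (hU : IsAffineOpen U) (r : Γ(Y, U))
    (y : Proj (𝒮.deg (Y.basicOpen r) (hU.basicOpen r))) :
    RelProj.emb p chart (Y.basicOpen r) (hU.basicOpen r) y =
      RelProj.emb p chart U hU (Proj.map (𝒮.res hU (hU.basicOpen r) (Y.basicOpen_le r))
        (𝒮.irrelevant_le_map U hU r) y) := by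
  rw [← emb_res hp U hU r, Scheme.Hom.comp_apply]

theorem mem_map_iff {A B : Type u} [CommRing A] [CommRing B] {𝒜 : ℕ → AddSubgroup A}
    {ℬ : ℕ → AddSubgroup B} [GradedRing 𝒜] [GradedRing ℬ] (ψ : 𝒜 →+*ᵍ ℬ) (hψ : ℬ₊ ≤ 𝒜₊.map ψ)
    (y : Proj ℬ) (a : A) :
    a ∈ (Proj.map ψ hψ y).asHomogeneousIdeal ↔ ψ a ∈ y.asHomogeneousIdeal := Iff.rfl

variable {PA PB : Scheme.{u}} {𝒜 ℬ : RelProj.QCGrAlg Y} (φ : 𝒜.toQCAlg ⟶ ℬ.toQCAlg)
  (hφ : RelProj.IsGradedHom φ)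
  {pA : PA ⟶ Y} {pB : PB ⟶ Y}
  {chartA : ∀ (U : Y.Opens) (hU : IsAffineOpen U),
    ((pA ⁻¹ᵁ U : PA.Opens) : Scheme.{u}) ≅ Proj (𝒜.deg U hU)}
  {chartB : ∀ (U : Y.Opens) (hU : IsAffineOpen U),
    ((pB ⁻¹ᵁ U : PB.Opens) : Scheme.{u}) ≅ Proj (ℬ.deg U hU)}

/-- the point `x` lies in the chart over `W` and some `φ(g)`, `g` homogeneous of positive degree
over `W`, does not vanish at it. -/
def Loc (pB : PB ⟶ Y) (chartB : ∀ (U : Y.Opens) (hU : IsAffineOpen U),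
      ((pB ⁻¹ᵁ U : PB.Opens) : Scheme.{u}) ≅ Proj (ℬ.deg U hU))
    (x : PB) (W : Y.Opens) (hW : IsAffineOpen W) : Prop :=
  ∃ y : Proj (ℬ.deg W hW), RelProj.emb pB chartB W hW y = x ∧
    ∃ d, 0 < d ∧ ∃ g ∈ 𝒜.deg W hW d, (φ.hom.app (op W)).hom g ∉ y.asHomogeneousIdeal

theorem loc_congr (x : PB) {W W' : Y.Opens} (e : W = W') (hW : IsAffineOpen W)
    (hW' : IsAffineOpen W') (h : Loc φ pB chartB x W hW) : Loc φ pB chartB x W' hW' := by
  subst e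
  exact h

theorem naturality_apply {U V : Y.Opens} (i : V ≤ U) (a : 𝒜.presheaf.obj (op U)) :
    (φ.hom.app (op V)).hom ((𝒜.presheaf.map (homOfLE i).op).hom a) =
      (ℬ.presheaf.map (homOfLE i).op).hom ((φ.hom.app (op U)).hom a) := by
  have := φ.hom.naturality (homOfLE i).op
  exact congrArg (fun θ => θ.hom a) this

include hφ in
theorem loc_up (hB : RelProj.IsRelProj ℬ pB chartB) (x : PB) (U : Y.Opens) (hU : IsAffineOpen U)
    (r : Γ(Y, U)) (h : Loc φ pB chartB x (Y.basicOpen r) (hU.basicOpen r)) :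
    Loc φ pB chartB x U hU := by
  obtain ⟨y'', rfl, d, hd, g, hg, hgy⟩ := h
  refine ⟨Proj.map (ℬ.res hU (hU.basicOpen r) (Y.basicOpen_le r)) (ℬ.irrelevant_le_map U hU r) y'',
    (emb_res_apply hB U hU r y'').symm, ?_⟩
  by_contra hcon
  push_neg at hcon
  apply hgy
  let K : HomogeneousIdeal (𝒜.deg (Y.basicOpen r) (hU.basicOpen r)) :=
    y''.asHomogeneousIdeal.comap (RelProj.gradedHomAt φ hφ (Y.basicOpen r) (hU.basicOpen r))
  have h1 : (𝒜.deg U hU)₊ ≤ K.comap (𝒜.res hU (hU.basicOpen r) (Y.basicOpen_le r)) := by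
    rw [HomogeneousIdeal.irrelevant_le]
    intro i hi a ha
    have := hcon i hi a ha
    change (φ.hom.app (op (Y.basicOpen r))).hom
      ((𝒜.presheaf.map (homOfLE (Y.basicOpen_le r)).op).hom a) ∈ y''.asHomogeneousIdeal
    rw [naturality_apply]
    exact this
  have h2 : ((𝒜.deg U hU)₊).map (𝒜.res hU (hU.basicOpen r) (Y.basicOpen_le r)) ≤ K :=
    (HomogeneousIdeal.map_le_iff_le_comap _).mpr h1
  have h3 : g ∈ K := h2 (𝒜.irrelevant_le_map U hU r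
    (HomogeneousIdeal.mem_irrelevant_of_mem _ hd hg))
  exact h3

theorem loc_down (hB : RelProj.IsRelProj ℬ pB chartB) (V V' : Y.Opens) (hV : IsAffineOpen V)
    (hV' : IsAffineOpen V') (hle : V' ≤ V) (t : Γ(Y, V')) (y' : Proj (ℬ.deg V' hV'))
    (hx : pB (RelProj.emb pB chartB V' hV' y') ∈ Y.basicOpen t)
    {d : ℕ} (hd : 0 < d) (f : 𝒜.presheaf.obj (op V)) (hf : f ∈ 𝒜.deg V hV d)
    (hfy : (ℬ.presheaf.map (homOfLE hle).op).hom ((φ.hom.app (op V)).hom f) ∉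
      y'.asHomogeneousIdeal) :
    Loc φ pB chartB (RelProj.emb pB chartB V' hV' y') (Y.basicOpen t) (hV'.basicOpen t) := by
  obtain ⟨y'', hy''⟩ := exists_emb_eq pB chartB (Y.basicOpen t) (hV'.basicOpen t) _ hx
  refine ⟨y'', hy'', d, hd, (𝒜.presheaf.map (homOfLE ((Y.basicOpen_le t).trans hle)).op).hom f,
    𝒜.map_mem hV (hV'.basicOpen t) _ hf, ?_⟩
  rw [emb_res_apply hB V' hV' t] at hy''
  have hy := (RelProj.emb pB chartB V' hV').isOpenEmbedding.injective hy''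
  rw [← hy] at hfy
  rw [naturality_apply]
  intro hmem
  apply hfy
  change (ℬ.presheaf.map (homOfLE (Y.basicOpen_le t)).op).hom
    ((ℬ.presheaf.map (homOfLE hle).op).hom ((φ.hom.app (op V)).hom f)) ∈ y''.asHomogeneousIdeal
  have e : (ℬ.presheaf.map (homOfLE (Y.basicOpen_le t)).op).hom
      ((ℬ.presheaf.map (homOfLE hle).op).hom ((φ.hom.app (op V)).hom f)) =
      (ℬ.presheaf.map (homOfLE ((Y.basicOpen_le t).trans hle)).op).hom
        ((φ.hom.app (op V)).hom f) := by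
    rw [← CommRingCat.comp_apply, ← Functor.map_comp]
    rfl
  rw [e]
  exact hmem

/-- the local description of `G(φ)` -/
theorem domQ_inf (hB : RelProj.IsRelProj ℬ pB chartB) (U : Y.Opens) (hU : IsAffineOpen U) :
    RelProj.domQ (RelProj.QGrHom.ofHom φ hφ) pB chartB ⊓ pB ⁻¹ᵁ U =
      (RelProj.emb pB chartB U hU) ''ᵁ RelCone.domOpen (RelProj.gradedHomAt φ hφ U hU) := by
  apply le_antisymm
  · rintro x ⟨hxQ, hxU⟩
    obtain ⟨⟨⟨⟨V, hV⟩, ⟨V', hV'⟩⟩, hle⟩, hxV⟩ := Opens.mem_iSup.mp hxQ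
    obtain ⟨y', hy', rfl⟩ := hxV
    obtain ⟨d, hd, f, hf, hfy⟩ := exists_of_mem_domOpen _ y' hy'
    have hxV' : pB (RelProj.emb pB chartB V' hV' y') ∈ V' := by
      have : RelProj.emb pB chartB V' hV' y' ∈ (RelProj.emb pB chartB V' hV').opensRange :=
        ⟨_, rfl⟩
      rw [opensRange_emb] at this
      exact this
    obtain ⟨s, t, hst, hxs⟩ := exists_basicOpen_le_affine_inter hU hV' _ ⟨hxU, hxV'⟩
    have hxt : pB (RelProj.emb pB chartB V' hV' y') ∈ Y.basicOpen t := hst ▸ hxs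
    have h1 := loc_down φ hB V V' hV hV' hle t y' hxt hd f hf hfy
    have h2 := loc_congr φ _ hst.symm (hV'.basicOpen t) (hU.basicOpen s) h1
    obtain ⟨y, hyx, e, he, g, hg, hgy⟩ := loc_up φ hφ hB _ U hU s h2
    exact ⟨y, mem_domOpen_of_mem (RelProj.gradedHomAt φ hφ U hU) he hg y hgy, hyx⟩
  · rintro x ⟨y, hy, rfl⟩
    obtain ⟨d, hd, f, hf, hfy⟩ := exists_of_mem_domOpen _ y hy
    refine ⟨?_, ?_⟩
    · refine Opens.mem_iSup.mpr ⟨⟨(⟨U, hU⟩, ⟨U, hU⟩), le_rfl⟩, ?_⟩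
      refine ⟨y, mem_domOpen_of_mem _ hd hf y ?_, rfl⟩
      rw [ψU_apply]
      exact hfy
    · have : RelProj.emb pB chartB U hU y ∈ (RelProj.emb pB chartB U hU).opensRange := ⟨_, rfl⟩
      rw [opensRange_emb] at this
      exact this

/-- two morphisms agree if they agree on a jointly surjective family of open immersions -/
theorem hom_ext_of_covers {T Z : Scheme.{u}} (a b : T ⟶ Z)
    (H : ∀ t : T, ∃ (S : Scheme.{u}) (ℓ : S ⟶ T) (_ : IsOpenImmersion ℓ),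
      t ∈ Set.range ℓ ∧ ℓ ≫ a = ℓ ≫ b) : a = b := by
  choose S ℓ hℓ ht hab using H
  let 𝒰 : T.OpenCover := Scheme.Cover.mkOfCovers T S ℓ (fun t => ⟨t, ht t⟩) (fun t => hℓ t)
  exact 𝒰.hom_ext _ _ (fun t => hab t)

/-- the standard chart of `PB` at `ψ f` -/
noncomputable abbrev chB (pB : PB ⟶ Y) (chartB : ∀ (U : Y.Opens) (hU : IsAffineOpen U),
      ((pB ⁻¹ᵁ U : PB.Opens) : Scheme.{u}) ≅ Proj (ℬ.deg U hU))
    (U : Y.Opens) (hU : IsAffineOpen U) {d : ℕ} (hd : 0 < d) (f : 𝒜.presheaf.obj (op U))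
    (hf : f ∈ 𝒜.deg U hU d) :
    Spec (.of (Away (ℬ.deg U hU) (ψU φ hφ U hU f))) ⟶ PB :=
  Proj.awayι (ℬ.deg U hU) (ψU φ hφ U hU f) ((ψU φ hφ U hU).2 hf) hd ≫ RelProj.emb pB chartB U hU

/-- the prescribed value of `Proj(φ)` on the standard chart at `ψ f` -/
noncomputable abbrev gA (pA : PA ⟶ Y) (chartA : ∀ (U : Y.Opens) (hU : IsAffineOpen U),
      ((pA ⁻¹ᵁ U : PA.Opens) : Scheme.{u}) ≅ Proj (𝒜.deg U hU))
    (U : Y.Opens) (hU : IsAffineOpen U) {d : ℕ} (hd : 0 < d) (f : 𝒜.presheaf.obj (op U))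
    (hf : f ∈ 𝒜.deg U hU d) :
    Spec (.of (Away (ℬ.deg U hU) (ψU φ hφ U hU f))) ⟶ PA :=
  Spec.map (CommRingCat.ofHom (Away.map (ψU φ hφ U hU) f)) ≫
    Proj.awayι (𝒜.deg U hU) f hf hd ≫ RelProj.emb pA chartA U hU

theorem gA_comp (hA : RelProj.IsRelProj 𝒜 pA chartA) (hB : RelProj.IsRelProj ℬ pB chartB)
    (U : Y.Opens) (hU : IsAffineOpen U) {d : ℕ} (hd : 0 < d) (f : 𝒜.presheaf.obj (op U))
    (hf : f ∈ 𝒜.deg U hU d) :
    gA φ hφ pA chartA U hU hd f hf ≫ pA = chB φ hφ pB chartB U hU hd f hf ≫ pB := by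
  simp only [Category.assoc]
  rw [emb_comp hA, emb_comp hB, Proj.awayι_toSpecZero_assoc, Proj.awayι_toSpecZero_assoc,
    ← Spec.map_comp_assoc, ← Spec.map_comp_assoc, ← Spec.map_comp_assoc]
  congr 2
  rw [← strZero_comp φ hφ U hU]
  ext r
  exact congrArg HomogeneousLocalization.val (away_map_fromZero (ψU φ hφ U hU) f _)

variable {T : Scheme.{u}} (j : T ⟶ PB) [IsOpenImmersion j] (r : T ⟶ PA)

/-- the chart equations for a morphism defined on an open subscheme -/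
def EqsOn (pA : PA ⟶ Y) (pB : PB ⟶ Y)
    (chartA : ∀ (U : Y.Opens) (hU : IsAffineOpen U),
      ((pA ⁻¹ᵁ U : PA.Opens) : Scheme.{u}) ≅ Proj (𝒜.deg U hU))
    (chartB : ∀ (U : Y.Opens) (hU : IsAffineOpen U),
      ((pB ⁻¹ᵁ U : PB.Opens) : Scheme.{u}) ≅ Proj (ℬ.deg U hU))
    {T : Scheme.{u}} (j : T ⟶ PB) (r : T ⟶ PA) : Prop :=
  ∀ (U : Y.Opens) (hU : IsAffineOpen U) (d : ℕ) (hd : 0 < d) (f : 𝒜.presheaf.obj (op U))
    (hf : f ∈ 𝒜.deg U hU d) (ℓ : Spec (.of (Away (ℬ.deg U hU) (ψU φ hφ U hU f))) ⟶ T),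
    ℓ ≫ j = chB φ hφ pB chartB U hU hd f hf → ℓ ≫ r = gA φ hφ pA chartA U hU hd f hf

/-- all standard charts land in the open subscheme -/
def AllIn (pB : PB ⟶ Y)
    (chartB : ∀ (U : Y.Opens) (hU : IsAffineOpen U),
      ((pB ⁻¹ᵁ U : PB.Opens) : Scheme.{u}) ≅ Proj (ℬ.deg U hU))
    {T : Scheme.{u}} (j : T ⟶ PB) : Prop :=
  ∀ (U : Y.Opens) (hU : IsAffineOpen U) (d : ℕ) (hd : 0 < d) (f : 𝒜.presheaf.obj (op U))
    (hf : f ∈ 𝒜.deg U hU d), Set.range (chB φ hφ pB chartB U hU hd f hf) ⊆ Set.range j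

/-- the standard charts cover the open subscheme -/
def CovOn (pB : PB ⟶ Y)
    (chartB : ∀ (U : Y.Opens) (hU : IsAffineOpen U),
      ((pB ⁻¹ᵁ U : PB.Opens) : Scheme.{u}) ≅ Proj (ℬ.deg U hU))
    {T : Scheme.{u}} (j : T ⟶ PB) : Prop :=
  ∀ (t : T) (U : Y.Opens) (hU : IsAffineOpen U) (y : Proj (ℬ.deg U hU)),
    RelProj.emb pB chartB U hU y = j t →
      ∃ d, 0 < d ∧ ∃ f ∈ 𝒜.deg U hU d, ψU φ hφ U hU f ∉ y.asHomogeneousIdeal

/-- the lift of a standard chart -/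
noncomputable abbrev lft (hall : AllIn φ hφ pB chartB j)
    (U : Y.Opens) (hU : IsAffineOpen U) {d : ℕ} (hd : 0 < d) (f : 𝒜.presheaf.obj (op U))
    (hf : f ∈ 𝒜.deg U hU d) : Spec (.of (Away (ℬ.deg U hU) (ψU φ hφ U hU f))) ⟶ T :=
  IsOpenImmersion.lift j (chB φ hφ pB chartB U hU hd f hf) (hall U hU d hd f hf)

theorem lft_fac (hall : AllIn φ hφ pB chartB j)
    (U : Y.Opens) (hU : IsAffineOpen U) {d : ℕ} (hd : 0 < d) (f : 𝒜.presheaf.obj (op U))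
    (hf : f ∈ 𝒜.deg U hU d) :
    lft φ hφ j hall U hU hd f hf ≫ j = chB φ hφ pB chartB U hU hd f hf :=
  IsOpenImmersion.lift_fac _ _ _

instance (hall : AllIn φ hφ pB chartB j)
    (U : Y.Opens) (hU : IsAffineOpen U) {d : ℕ} (hd : 0 < d) (f : 𝒜.presheaf.obj (op U))
    (hf : f ∈ 𝒜.deg U hU d) : IsOpenImmersion (lft φ hφ j hall U hU hd f hf) := by
  have : IsOpenImmersion (lft φ hφ j hall U hU hd f hf ≫ j) := by
    rw [lft_fac]; infer_instance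
  exact IsOpenImmersion.of_comp _ j

/-- a point of `T` over `U` lies in a lifted standard chart -/
theorem exists_lft_eq (hall : AllIn φ hφ pB chartB j) (hcov : CovOn φ hφ pB chartB j)
    (t : T) (U : Y.Opens) (hU : IsAffineOpen U) (htU : pB (j t) ∈ U) :
    ∃ (d : ℕ) (hd : 0 < d) (f : 𝒜.presheaf.obj (op U)) (hf : f ∈ 𝒜.deg U hU d)
      (z : Spec (.of (Away (ℬ.deg U hU) (ψU φ hφ U hU f)))),
      lft φ hφ j hall U hU hd f hf z = t := by
  obtain ⟨y, hy⟩ := exists_emb_eq pB chartB U hU (j t) htU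
  obtain ⟨d, hd, f, hf, hfy⟩ := hcov t U hU y hy
  obtain ⟨z, rfl⟩ := exists_awayι_eq hd ((ψU φ hφ U hU).2 hf) y hfy
  refine ⟨d, hd, f, hf, z, j.isOpenEmbedding.injective ?_⟩
  rw [← Scheme.Hom.comp_apply, lft_fac, Scheme.Hom.comp_apply]
  exact hy

theorem comp_eq_on (hA : RelProj.IsRelProj 𝒜 pA chartA) (hB : RelProj.IsRelProj ℬ pB chartB)
    (hall : AllIn φ hφ pB chartB j) (hcov : CovOn φ hφ pB chartB j)
    (heq : EqsOn φ hφ pA pB chartA chartB j r) : r ≫ pA = j ≫ pB := by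
  refine hom_ext_of_covers _ _ (fun t => ?_)
  obtain ⟨U, hU, htU⟩ := exists_affine_mem (pB (j t))
  obtain ⟨d, hd, f, hf, z, hz⟩ := exists_lft_eq φ hφ j hall hcov t U hU htU
  refine ⟨_, lft φ hφ j hall U hU hd f hf, inferInstance, ⟨z, hz⟩, ?_⟩
  rw [← Category.assoc, heq U hU d hd f hf _ (lft_fac φ hφ j hall U hU hd f hf),
    ← Category.assoc, lft_fac, gA_comp φ hφ hA hB]

theorem preimage_range_on (hA : RelProj.IsRelProj 𝒜 pA chartA)
    (hB : RelProj.IsRelProj ℬ pB chartB)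
    (hall : AllIn φ hφ pB chartB j) (hcov : CovOn φ hφ pB chartB j)
    (heq : EqsOn φ hφ pA pB chartA chartB j r)
    (U : Y.Opens) (hU : IsAffineOpen U) (d : ℕ) (hd : 0 < d) (f : 𝒜.presheaf.obj (op U))
    (hf : f ∈ 𝒜.deg U hU d) :
    r ⁻¹ᵁ (Proj.awayι (𝒜.deg U hU) f hf hd ≫ RelProj.emb pA chartA U hU).opensRange =
      (lft φ hφ j hall U hU hd f hf).opensRange := by
  have hcomp := comp_eq_on φ hφ j r hA hB hall hcov heq
  apply le_antisymm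
  · intro x hx
    obtain ⟨w, hw⟩ := hx
    have hw' : RelProj.emb pA chartA U hU (Proj.awayι (𝒜.deg U hU) f hf hd w) = r x := by
      rw [← hw]; exact (Scheme.Hom.comp_apply _ _ _).symm
    have hxU : pB (j x) ∈ U := by
      rw [← Scheme.Hom.comp_apply, ← hcomp, Scheme.Hom.comp_apply, ← hw']
      have : RelProj.emb pA chartA U hU (Proj.awayι (𝒜.deg U hU) f hf hd w) ∈
          (RelProj.emb pA chartA U hU).opensRange := ⟨_, rfl⟩
      rw [opensRange_emb] at this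
      exact this
    obtain ⟨e, he, a, ha, z, rfl⟩ := exists_lft_eq φ hφ j hall hcov x U hU hxU
    have h1 := congrArg (fun g : _ ⟶ PA => g z)
      (heq U hU e he a ha _ (lft_fac φ hφ j hall U hU he a ha))
    simp only [Scheme.Hom.comp_apply] at h1
    have hw'' := hw'.trans h1
    have h2 := (RelProj.emb pA chartA U hU).isOpenEmbedding.injective hw''
    have h3 : Proj.awayι (𝒜.deg U hU) a ha he
        (Spec.map (CommRingCat.ofHom (Away.map (ψU φ hφ U hU) a)) z) ∈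
        Proj.basicOpen (𝒜.deg U hU) f := by
      rw [← h2, ← Proj.opensRange_awayι (𝒜.deg U hU) f hf hd]
      exact ⟨_, rfl⟩
    have h4 : z ∈ (Spec.map (CommRingCat.ofHom (Away.map (ψU φ hφ U hU) a)) ≫
        Proj.awayι (𝒜.deg U hU) a ha he) ⁻¹ᵁ Proj.basicOpen (𝒜.deg U hU) f := by
      change (Spec.map (CommRingCat.ofHom (Away.map (ψU φ hφ U hU) a)) ≫
        Proj.awayι (𝒜.deg U hU) a ha he) z ∈ Proj.basicOpen (𝒜.deg U hU) f
      rw [Scheme.Hom.comp_apply]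
      exact h3
    rw [preimage_eq (ψU φ hφ U hU) he hd ha hf] at h4
    have h5 : Proj.awayι (ℬ.deg U hU) (ψU φ hφ U hU a) ((ψU φ hφ U hU).2 ha) he z ∈
        Proj.basicOpen (ℬ.deg U hU) (ψU φ hφ U hU f) := h4
    have h6 : Proj.awayι (ℬ.deg U hU) (ψU φ hφ U hU a) ((ψU φ hφ U hU).2 ha) he z ∈
        (Proj.awayι (ℬ.deg U hU) (ψU φ hφ U hU f) ((ψU φ hφ U hU).2 hf) hd).opensRange :=
      (Proj.opensRange_awayι (ℬ.deg U hU) _ ((ψU φ hφ U hU).2 hf) hd).ge h5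
    obtain ⟨z', hz'⟩ := h6
    refine ⟨z', j.isOpenEmbedding.injective ?_⟩
    rw [← Scheme.Hom.comp_apply, lft_fac, ← Scheme.Hom.comp_apply, lft_fac,
      Scheme.Hom.comp_apply, Scheme.Hom.comp_apply]
    exact congrArg _ hz'
  · rintro _ ⟨z, rfl⟩
    have h1 := congrArg (fun g : _ ⟶ PA => g z)
      (heq U hU d hd f hf _ (lft_fac φ hφ j hall U hU hd f hf))
    simp only [Scheme.Hom.comp_apply] at h1
    rw [Scheme.Hom.mem_preimage]
    refine ⟨Spec.map (CommRingCat.ofHom (Away.map (ψU φ hφ U hU) f)) z, ?_⟩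
    rw [Scheme.Hom.comp_apply]
    exact h1.symm

theorem isAffineHom_on (hA : RelProj.IsRelProj 𝒜 pA chartA)
    (hB : RelProj.IsRelProj ℬ pB chartB)
    (hall : AllIn φ hφ pB chartB j) (hcov : CovOn φ hφ pB chartB j)
    (heq : EqsOn φ hφ pA pB chartA chartB j r) : IsAffineHom r := by
  apply isAffineHom_of_forall_exists_isAffineOpen
  intro x
  obtain ⟨U, hU, hxU⟩ := exists_affine_mem (pA x)
  obtain ⟨y, rfl⟩ := exists_emb_eq pA chartA U hU x hxU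
  obtain ⟨d, hd, f, hf, hfy⟩ := exists_pos_notMem y
  obtain ⟨z, rfl⟩ := exists_awayι_eq hd hf y hfy
  refine ⟨(Proj.awayι (𝒜.deg U hU) f hf hd ≫ RelProj.emb pA chartA U hU).opensRange,
    ⟨z, Scheme.Hom.comp_apply _ _ _⟩, isAffineOpen_opensRange _, ?_⟩
  rw [preimage_range_on φ hφ j r hA hB hall hcov heq U hU d hd f hf]
  exact isAffineOpen_opensRange _

section domQ

/-- all standard charts land in `G(φ)` -/
theorem allIn_domQ :
    AllIn φ hφ pB chartB (RelProj.domQ (RelProj.QGrHom.ofHom φ hφ) pB chartB).ι :=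
  fun U hU _ hd f hf =>
    RelProj.range_awayEmb_subset_domQ (RelProj.QGrHom.ofHom φ hφ) pB chartB U hU U hU le_rfl hd f hf

theorem covOn_domQ (hB : RelProj.IsRelProj ℬ pB chartB) :
    CovOn φ hφ pB chartB (RelProj.domQ (RelProj.QGrHom.ofHom φ hφ) pB chartB).ι := by
  intro t U hU y hy
  have hmem : RelProj.emb pB chartB U hU y ∈
      RelProj.domQ (RelProj.QGrHom.ofHom φ hφ) pB chartB ⊓ pB ⁻¹ᵁ U := by
    refine ⟨?_, ?_⟩
    · rw [hy]; exact t.2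
    · have : RelProj.emb pB chartB U hU y ∈ (RelProj.emb pB chartB U hU).opensRange := ⟨_, rfl⟩
      rw [opensRange_emb] at this
      exact this
  rw [domQ_inf φ hφ hB U hU] at hmem
  obtain ⟨y', hy', hyy'⟩ := hmem
  have := (RelProj.emb pB chartB U hU).isOpenEmbedding.injective hyy'
  subst this
  obtain ⟨d, hd, f, hf, hfy⟩ := exists_of_mem_domOpen _ y' hy'
  refine ⟨d, hd, f, hf, ?_⟩
  rw [ψU_apply]
  exact hfy

theorem eqsOn_domQ
    (Φ : ((RelProj.domQ (RelProj.QGrHom.ofHom φ hφ) pB chartB : PB.Opens) : Scheme.{u}) ⟶ PA)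
    (hΦ : RelProj.IsProjQMapOn (RelProj.QGrHom.ofHom φ hφ) pA chartA pB chartB
      (RelProj.domQ (RelProj.QGrHom.ofHom φ hφ) pB chartB) Φ) :
    EqsOn φ hφ pA pB chartA chartB
      (RelProj.domQ (RelProj.QGrHom.ofHom φ hφ) pB chartB).ι Φ := by
  intro U hU d hd f hf ℓ hℓ
  have h := hΦ U hU U hU le_rfl d hd f hf
    (RelProj.range_awayEmb_subset_domQ (RelProj.QGrHom.ofHom φ hφ) pB chartB U hU U hU le_rfl hd f hf)
  have e : ℓ = IsOpenImmersion.lift (RelProj.domQ (RelProj.QGrHom.ofHom φ hφ) pB chartB).ι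
      (RelProj.awayEmb (RelProj.QGrHom.ofHom φ hφ) pB chartB U hU U hU le_rfl hd f hf)
      (RelProj.range_awayEmb_subset_domQ (RelProj.QGrHom.ofHom φ hφ) pB chartB U hU U hU le_rfl
        hd f hf) := by
    rw [← cancel_mono (RelProj.domQ (RelProj.QGrHom.ofHom φ hφ) pB chartB).ι,
      IsOpenImmersion.lift_fac]
    exact hℓ
  rw [e]
  exact h

theorem isAffineHom_domQ (hA : RelProj.IsRelProj 𝒜 pA chartA)
    (hB : RelProj.IsRelProj ℬ pB chartB)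
    (Φ : ((RelProj.domQ (RelProj.QGrHom.ofHom φ hφ) pB chartB : PB.Opens) : Scheme.{u}) ⟶ PA)
    (hΦ : RelProj.IsProjQMapOn (RelProj.QGrHom.ofHom φ hφ) pA chartA pB chartB
      (RelProj.domQ (RelProj.QGrHom.ofHom φ hφ) pB chartB) Φ) : IsAffineHom Φ :=
  isAffineHom_on φ hφ _ Φ hA hB (allIn_domQ φ hφ) (covOn_domQ φ hφ hB) (eqsOn_domQ φ hφ Φ hΦ)

end domQ

end scheme

end Groth.Agent.Lib.Helper3.ProjQMapOn
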