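import Groth.Agent.Lib.Helper6.ProjMap

/-!
# `Proj` of a graded ring of the form `R[t]` (with `t` of degree one) is `Spec R`
-/

set_option autoImplicit false
set_option linter.unusedSectionVars false
universe u
open CategoryTheory CategoryTheory.Limits AlgebraicGeometry TopologicalSpace Opposite
open HomogeneousLocalization
open scoped HomogeneousIdeal

namespace Groth.Agent.Lib.Helper3.ProjRankOne

variable {A : Type u} [CommRing A] (𝒜 : ℕ → AddSubgroup A) [GradedRing 𝒜]
  (R : CommRingCat.{u}) (φ : R ⟶ CommRingCat.of (𝒜 0)) (t : A) (ht : t ∈ 𝒜 1)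

/-- the structure map to the whole ring -/
def st : R →+* A where
  toFun r := ((φ.hom r : 𝒜 0) : A)
  map_one' := by rw [map_one]; rfl
  map_mul' a b := by rw [map_mul]; rfl
  map_zero' := by rw [map_zero]; rfl
  map_add' a b := by rw [map_add]; rfl

theorem st_mem (r : R) : st 𝒜 R φ r ∈ 𝒜 0 := (φ.hom r).2

include ht in
theorem term_mem (r : R) (i : ℕ) : st 𝒜 R φ r * t ^ i ∈ 𝒜 i := by
  have h1 := SetLike.mul_mem_graded (st_mem 𝒜 R φ r) (SetLike.pow_mem_graded i ht)
  simpa using h1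

variable (hgen : Subring.closure (Set.range (st 𝒜 R φ) ∪ {t}) = ⊤)
  (g : A →+* R) (hg1 : ∀ r : R, g (st 𝒜 R φ r) = r) (hg2 : g t = 1)

include ht hgen in
/-- homogeneous elements are multiples of powers of `t` -/
theorem exists_eq_mul_pow {d : ℕ} {a : A} (ha : a ∈ 𝒜 d) :
    ∃ r : R, a = st 𝒜 R φ r * t ^ d := by
  classical
  let Φ : Polynomial R →+* A := Polynomial.eval₂RingHom (st 𝒜 R φ) t
  have hΦ : Φ.range = ⊤ := by
    rw [eq_top_iff, ← hgen, Subring.closure_le]
    rintro x (⟨r, rfl⟩ | hx)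
    · exact ⟨Polynomial.C r, by simp [Φ]⟩
    · rw [Set.mem_singleton_iff] at hx
      subst hx
      exact ⟨Polynomial.X, by simp [Φ]⟩
  have ha' : a ∈ Φ.range := by rw [hΦ]; trivial
  obtain ⟨p, rfl⟩ := ha'
  refine ⟨p.coeff d, ?_⟩
  have h1 : Φ p = ∑ i ∈ Finset.range (p.natDegree + 1), st 𝒜 R φ (p.coeff i) * t ^ i :=
    Polynomial.eval₂_eq_sum_range _ _
  have h2 : (DirectSum.decompose 𝒜 (Φ p) d : A) = Φ p := DirectSum.decompose_of_mem_same 𝒜 ha
  have h3 : (DirectSum.decompose 𝒜 (Φ p) d : A) = st 𝒜 R φ (p.coeff d) * t ^ d := by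
    rw [h1, DirectSum.decompose_sum, DFinsupp.finsetSum_apply, AddSubmonoidClass.coe_finsetSum]
    by_cases hd : d ∈ Finset.range (p.natDegree + 1)
    · rw [Finset.sum_eq_single d]
      · exact DirectSum.decompose_of_mem_same 𝒜 (term_mem 𝒜 R φ t ht _ d)
      · intro i _ hid
        exact DirectSum.decompose_of_mem_ne 𝒜 (term_mem 𝒜 R φ t ht _ i) hid
      · intro h; exact absurd hd h
    · rw [Finset.sum_eq_zero]
      · have : p.coeff d = 0 := by
          apply Polynomial.coeff_eq_zero_of_natDegree_lt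
          simpa using hd
        rw [this, map_zero, zero_mul]
      · intro i hi
        have hid : i ≠ d := fun h => hd (h ▸ hi)
        exact DirectSum.decompose_of_mem_ne 𝒜 (term_mem 𝒜 R φ t ht _ i) hid
  rw [← h2, h3]

include ht hgen in
theorem basicOpen_eq_top : Proj.basicOpen 𝒜 t = ⊤ := by
  rw [eq_top_iff]
  intro x _
  rw [Proj.mem_basicOpen]
  intro htx
  apply x.not_irrelevant_le
  rw [HomogeneousIdeal.irrelevant_le]
  intro i hi a ha
  obtain ⟨r, rfl⟩ := exists_eq_mul_pow 𝒜 R φ t ht hgen ha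
  refine Ideal.mul_mem_left _ _ ?_
  obtain ⟨k, rfl⟩ : ∃ k, i = k + 1 := ⟨i - 1, by omega⟩
  rw [pow_succ]
  exact Ideal.mul_mem_left _ _ htx

/-- the map `R ⟶ A_(t)` -/
noncomputable def rho : R →+* Away 𝒜 t :=
  (fromZeroRingHom 𝒜 (Submonoid.powers t)).comp φ.hom

theorem val_rho (r : R) : (rho 𝒜 R φ t r).val = Localization.mk (st 𝒜 R φ r) 1 := rfl

include ht hgen hg1 hg2 in
theorem rho_bijective : Function.Bijective (rho 𝒜 R φ t) := by
  constructor
  · rw [injective_iff_map_eq_zero]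
    intro r hr
    have h1 := congrArg HomogeneousLocalization.val hr
    rw [val_rho, val_zero, Localization.mk_eq_mk', IsLocalization.mk'_eq_zero_iff] at h1
    obtain ⟨⟨_, n, rfl⟩, hn⟩ := h1
    have h2 := congrArg g hn
    simp only [map_mul, map_pow, hg2, one_pow, one_mul, hg1, map_zero] at h2
    exact h2
  · intro z
    obtain ⟨n, a, ha, rfl⟩ := Away.mk_surjective 𝒜 ht z
    obtain ⟨r, rfl⟩ := exists_eq_mul_pow 𝒜 R φ t ht hgen ha
    refine ⟨r, ?_⟩
    apply val_injective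
    rw [val_rho, Away.val_mk, Localization.mk_eq_mk_iff, Localization.r_iff_exists]
    refine ⟨1, ?_⟩
    simp only [OneMemClass.coe_one, one_mul, smul_eq_mul, mul_one]
    exact mul_comm _ _

include ht hgen hg1 hg2 in
/-- the structure morphism of `Proj` is an isomorphism -/
theorem isIso_toSpec : IsIso (Proj.toSpecZero 𝒜 ≫ Spec.map φ) := by
  have h1 : Proj.awayι 𝒜 t ht Nat.one_pos ≫ Proj.toSpecZero 𝒜 ≫ Spec.map φ =
      Spec.map (CommRingCat.ofHom (rho 𝒜 R φ t)) := by
    rw [Proj.awayι_toSpecZero_assoc, ← Spec.map_comp]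
    rfl
  haveI : IsIso (Proj.awayι 𝒜 t ht Nat.one_pos) := by
    apply isIso_of_isOpenImmersion_of_opensRange_eq_top
    rw [Proj.opensRange_awayι]
    exact basicOpen_eq_top 𝒜 R φ t ht hgen
  haveI : IsIso (CommRingCat.ofHom (rho 𝒜 R φ t)) := by
    rw [ConcreteCategory.isIso_iff_bijective]
    exact rho_bijective 𝒜 R φ t ht hgen g hg1 hg2
  haveI : IsIso (Spec.map (CommRingCat.ofHom (rho 𝒜 R φ t))) := inferInstance
  have h2 : Proj.toSpecZero 𝒜 ≫ Spec.map φ =
      inv (Proj.awayι 𝒜 t ht Nat.one_pos) ≫ Spec.map (CommRingCat.ofHom (rho 𝒜 R φ t)) := by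
    rw [← h1, IsIso.inv_hom_id_assoc]
  rw [h2]
  infer_instance

end Groth.Agent.Lib.Helper3.ProjRankOne
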