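import Mathlib
import Groth.Agent.Lib.Helper3.SemilocalAlg
import Groth.Agent.Lib.Helper3.NormAlg

/-!
# Modules locally generated by one of a family of elements

`LocGen v`: around every prime some `v j` is a basis of the localization at a single element.
Equivalent (for spanning finite families) to "projective of rank one".
-/

set_option autoImplicit false
universe u

namespace Groth.Agent.Lib.Helper3.RankOneAlg

open Module

variable {R : Type u} [CommRing R] {Q : Type u} [AddCommGroup Q] [Module R Q] {ι : Type*}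

/-- local generation data -/
def LocGen (v : ι → Q) : Prop :=
  ∀ p : PrimeSpectrum R, ∃ (j : ι) (g : R), g ∉ p.asIdeal ∧
    (∀ q : Q, ∃ (k : ℕ) (r : R), g ^ k • q = r • v j) ∧
    (∀ r : R, r • v j = 0 → ∃ k : ℕ, g ^ k * r = 0)

theorem LocGen.span_eq_top {v : ι → Q} (h : LocGen (R := R) v) :
    Submodule.span R (Set.range v) = ⊤ := by
  rw [eq_top_iff]
  intro q _
  let I : Ideal R := (Submodule.span R (Set.range v)).comap (LinearMap.toSpanSingleton R Q q)
  have hI : ∀ a : R, a ∈ I ↔ a • q ∈ Submodule.span R (Set.range v) := fun a => Iff.rfl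
  by_cases hI' : I = ⊤
  · have h1 : (1 : R) ∈ I := by rw [hI']; trivial
    rw [hI, one_smul] at h1
    exact h1
  · obtain ⟨m, hm, hIm⟩ := Ideal.exists_le_maximal I hI'
    obtain ⟨j, g, hg, h1, -⟩ := h ⟨m, hm.isPrime⟩
    obtain ⟨k, r, hk⟩ := h1 q
    have h2 : g ^ k ∈ I := by
      rw [hI, hk]
      exact Submodule.smul_mem _ _ (Submodule.subset_span ⟨j, rfl⟩)
    exact absurd (hm.isPrime.mem_of_pow_mem k (hIm h2)) hg

theorem bijective_smul_mk {v : ι → Q} (j : ι) (g : R)
    (h1 : ∀ q : Q, ∃ (k : ℕ) (r : R), g ^ k • q = r • v j)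
    (h2 : ∀ r : R, r • v j = 0 → ∃ k : ℕ, g ^ k * r = 0) :
    Function.Bijective (fun a : Localization.Away g =>
      a • (LocalizedModule.mk (v j) 1 : LocalizedModule (Submonoid.powers g) Q)) := by
  constructor
  · intro a b hab
    have h0 : (a - b) • (LocalizedModule.mk (v j) 1 :
        LocalizedModule (Submonoid.powers g) Q) = 0 := by
      rw [sub_smul]
      exact sub_eq_zero.mpr hab
    suffices a - b = 0 from sub_eq_zero.mp this
    generalize a - b = c at h0
    induction c using Localization.induction_on with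
    | H x =>
      obtain ⟨r, s⟩ := x
      rw [LocalizedModule.mk_smul_mk, ← LocalizedModule.zero_mk 1, LocalizedModule.mk_eq] at h0
      obtain ⟨u, hu⟩ := h0
      obtain ⟨l, hl⟩ := u.2
      have h3 : (g ^ l * r) • v j = 0 := by
        have h4 : (u : R) • r • v j = 0 := by
          simpa [Submonoid.smul_def] using hu
        have hl' : g ^ l = (u : R) := hl
        rw [mul_smul, hl']
        exact h4
      obtain ⟨k, hk⟩ := h2 _ h3
      rw [Localization.mk_eq_mk', IsLocalization.mk'_eq_zero_iff]
      refine ⟨⟨g ^ (k + l), ⟨k + l, rfl⟩⟩, ?_⟩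
      show g ^ (k + l) * r = 0
      rw [pow_add, mul_assoc]
      exact hk
  · intro y
    induction y using LocalizedModule.induction_on with
    | h q s =>
      obtain ⟨k, r, hk⟩ := h1 q
      refine ⟨Localization.mk r ((⟨g ^ k, ⟨k, rfl⟩⟩ : Submonoid.powers g) * s), ?_⟩
      show Localization.mk r _ • LocalizedModule.mk (v j) 1 = _
      rw [LocalizedModule.mk_smul_mk, ← hk, mul_one]
      exact LocalizedModule.mk_cancel_common_left (⟨g ^ k, ⟨k, rfl⟩⟩ : Submonoid.powers g) s q

theorem LocGen.finite_projective_rank {v : ι → Q} (h : LocGen (R := R) v) :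
    Module.Finite R Q ∧ Module.Projective R Q ∧
      ∀ p : PrimeSpectrum R, rankAtStalk Q p = 1 := by
  classical
  let s : Set R := {g | ∃ j, (∀ q : Q, ∃ (k : ℕ) (r : R), g ^ k • q = r • v j) ∧
    (∀ r : R, r • v j = 0 → ∃ k : ℕ, g ^ k * r = 0)}
  have hs : Ideal.span s = ⊤ := by
    by_contra hne
    obtain ⟨m, hm, hsm⟩ := Ideal.exists_le_maximal _ hne
    obtain ⟨j, g, hg, h1, h2⟩ := h ⟨m, hm.isPrime⟩
    exact hg (hsm (Ideal.subset_span ⟨j, h1, h2⟩))
  choose j hj1 hj2 using fun g : s => g.2
  have hfin : Function.Bijective (fun a : Fin 1 → R => a 0) :=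
    Function.bijective_iff_has_inverse.mpr ⟨fun c _ => c,
      fun a => funext fun i => by rw [Subsingleton.elim i 0], fun c => rfl⟩
  exact SemilocalAlg.finite_projective_rank_of_span s hs
    (Aₚ := fun g => Localization.Away g.val)
    (Mₚ := fun g => LocalizedModule (Submonoid.powers g.val) Q)
    (fun g => LocalizedModule.mkLinearMap (Submonoid.powers g.val) Q) 1
    (fun g => NormAlg.basisOfBijective
      (fun _ : Fin 1 => (LocalizedModule.mk (v (j g)) 1 :
        LocalizedModule (Submonoid.powers g.val) Q)) (by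
      have hb := bijective_smul_mk (j g) g.val (hj1 g) (hj2 g)
      have e : (fun a : Fin 1 → Localization.Away g.val =>
          ∑ i, a i • (LocalizedModule.mk (v (j g)) 1 :
            LocalizedModule (Submonoid.powers g.val) Q)) =
          (fun a : Localization.Away g.val => a • (LocalizedModule.mk (v (j g)) 1 :
            LocalizedModule (Submonoid.powers g.val) Q)) ∘ (fun a => a 0) := by
        funext a
        simp
      rw [e]
      refine hb.comp ?_
      exact Function.bijective_iff_has_inverse.mpr ⟨fun c _ => c,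
        fun a => funext fun i => by rw [Subsingleton.elim i 0], fun c => rfl⟩))

theorem locGen_of_projective {v : ι → Q} (hv : Submodule.span R (Set.range v) = ⊤)
    [Module.Finite R Q] [Module.Projective R Q]
    (hrank : ∀ p : PrimeSpectrum R, Module.finrank (Localization.AtPrime p.asIdeal)
      (LocalizedModule p.asIdeal.primeCompl Q) = 1) : LocGen (R := R) v := by
  classical
  intro p
  haveI : Module.Free (Localization.AtPrime p.asIdeal)
      (LocalizedModule p.asIdeal.primeCompl Q) := Module.free_of_flat_of_isLocalRing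
  let b : Basis (Fin 1) (Localization.AtPrime p.asIdeal)
      (LocalizedModule p.asIdeal.primeCompl Q) := Module.finBasisOfFinrankEq _ _ (hrank p)
  let ρ : LocalizedModule p.asIdeal.primeCompl Q →ₗ[Localization.AtPrime p.asIdeal]
      Localization.AtPrime p.asIdeal := b.coord 0
  have hρ : ∀ y, y = ρ y • b 0 := by
    intro y
    have := b.sum_repr y
    rw [Fin.sum_univ_one] at this
    exact this.symm
  have hρb : ∀ c : Localization.AtPrime p.asIdeal, ρ (c • b 0) = c := by
    intro c
    rw [map_smul]
    show c • b.coord 0 (b 0) = c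
    rw [Basis.coord_apply, Basis.repr_self, Finsupp.single_eq_same, smul_eq_mul, mul_one]
  let a : ι → Localization.AtPrime p.asIdeal :=
    fun i => ρ (LocalizedModule.mk (v i) 1)
  have hsp := span_eq_top_of_isLocalizedModule (Localization.AtPrime p.asIdeal)
    p.asIdeal.primeCompl (LocalizedModule.mkLinearMap p.asIdeal.primeCompl Q) hv
  have hone : (1 : Localization.AtPrime p.asIdeal) ∈ Ideal.span (Set.range a) := by
    have h1 : b 0 ∈ Submodule.span (Localization.AtPrime p.asIdeal)
        (LocalizedModule.mkLinearMap p.asIdeal.primeCompl Q '' Set.range v) := by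
      rw [hsp]; trivial
    have h2 := Submodule.apply_mem_span_image_of_mem_span ρ h1
    have h3 : ρ (b 0) = 1 := by
      have := hρb 1
      rwa [one_smul] at this
    rw [h3] at h2
    have h4 : ρ '' (LocalizedModule.mkLinearMap p.asIdeal.primeCompl Q '' Set.range v) =
        Set.range a := by
      ext c
      constructor
      · rintro ⟨_, ⟨_, ⟨i, rfl⟩, rfl⟩, rfl⟩
        exact ⟨i, rfl⟩
      · rintro ⟨i, rfl⟩
        exact ⟨_, ⟨_, ⟨i, rfl⟩, rfl⟩, rfl⟩
    rw [h4] at h2
    exact h2
  obtain ⟨j, hj⟩ : ∃ j, IsUnit (a j) := by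
    by_contra hcon
    push Not at hcon
    have hle : Ideal.span (Set.range a) ≤
        IsLocalRing.maximalIdeal (Localization.AtPrime p.asIdeal) := by
      rw [Ideal.span_le]
      rintro _ ⟨i, rfl⟩
      exact (IsLocalRing.mem_maximalIdeal _).mpr (hcon i)
    exact (Ideal.ne_top_iff_one _).mp (IsLocalRing.maximalIdeal.isMaximal _).ne_top (hle hone)
  obtain ⟨u, hu⟩ := hj
  have hej : (LocalizedModule.mk (v j) 1 : LocalizedModule p.asIdeal.primeCompl Q) =
      (u : Localization.AtPrime p.asIdeal) • b 0 := by
    rw [hu]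
    exact hρ _
  have hb0 : b 0 = ((u⁻¹ : (Localization.AtPrime p.asIdeal)ˣ) : Localization.AtPrime p.asIdeal) •
      (LocalizedModule.mk (v j) 1 : LocalizedModule p.asIdeal.primeCompl Q) := by
    rw [hej, smul_smul, Units.inv_mul, one_smul]
  -- every element is a multiple of `v j / 1`
  have hgen : ∀ y : LocalizedModule p.asIdeal.primeCompl Q,
      ∃ c : Localization.AtPrime p.asIdeal, y = c • LocalizedModule.mk (v j) 1 := by
    intro y
    refine ⟨ρ y * ((u⁻¹ : (Localization.AtPrime p.asIdeal)ˣ) :
      Localization.AtPrime p.asIdeal), ?_⟩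
    rw [mul_smul, ← hb0]
    exact hρ y
  -- spreading out single elements
  have hel : ∀ t : Q, ∃ (gt : R) (rt : R), gt ∈ p.asIdeal.primeCompl ∧ gt • t = rt • v j := by
    intro t
    obtain ⟨c, hc⟩ := hgen (LocalizedModule.mk t 1)
    induction c using Localization.induction_on with
    | H x =>
      obtain ⟨r, s⟩ := x
      rw [LocalizedModule.mk_smul_mk, LocalizedModule.mk_eq] at hc
      obtain ⟨w, hw⟩ := hc
      refine ⟨(w : R) * ((s : R) * 1), (w : R) * r, ?_, ?_⟩
      · exact mul_mem w.2 (mul_mem s.2 (one_mem _))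
      · have h5 : (w : R) • ((s : R) * 1) • t = (w : R) • (1 : R) • r • v j := by
          simpa [Submonoid.smul_def] using hw
        rw [mul_smul, h5, one_smul, mul_smul]
  choose gt rt hgt hrt using hel
  obtain ⟨T, hT⟩ := (Module.Finite.fg_top : (⊤ : Submodule R Q).FG)
  let g₁ : R := ∏ t ∈ T, gt t
  have hg₁ : g₁ ∈ p.asIdeal.primeCompl := Submonoid.prod_mem _ fun t _ => hgt t
  let r' : T → R := fun t => (∏ x ∈ T.erase t.1, gt x) * rt t.1
  have hr' : ∀ t : T, g₁ • (t : Q) = r' t • v j := by
    intro t
    have h6 : g₁ = (∏ x ∈ T.erase t.1, gt x) * gt t.1 := (Finset.prod_erase_mul T gt t.2).symm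
    rw [h6, mul_smul, hrt, ← mul_smul]
  -- the section
  let π : (T → R) →ₗ[R] Q := Fintype.linearCombination R (fun t : T => (t : Q))
  have hπ : Function.Surjective π := by
    rw [← LinearMap.range_eq_top, Fintype.range_linearCombination, Subtype.range_coe_subtype]
    exact hT
  obtain ⟨σ, hσ⟩ := Module.projective_lifting_property π LinearMap.id hπ
  let lam : Q →ₗ[R] R := ∑ t : T, r' t • ((LinearMap.proj t).comp σ)
  have hlam : ∀ q : Q, g₁ • q = lam q • v j := by
    intro q
    have h7 : q = π (σ q) := (LinearMap.congr_fun hσ q).symm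
    conv_lhs => rw [h7]
    rw [Fintype.linearCombination_apply, Finset.smul_sum]
    show _ = (∑ t : T, r' t • ((LinearMap.proj t).comp σ)) q • v j
    rw [LinearMap.sum_apply, Finset.sum_smul]
    refine Finset.sum_congr rfl fun t _ => ?_
    rw [smul_comm, hr', LinearMap.smul_apply, LinearMap.comp_apply, LinearMap.proj_apply,
      smul_eq_mul, ← mul_smul, mul_comm]
  let w : R := lam (v j)
  have hw : w ∉ p.asIdeal := by
    have h8 : g₁ • v j = w • v j := hlam (v j)
    have h9 : algebraMap R (Localization.AtPrime p.asIdeal) (g₁ - w) = 0 := by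
      have h10 : (algebraMap R (Localization.AtPrime p.asIdeal) (g₁ - w)) •
          (LocalizedModule.mk (v j) 1 : LocalizedModule p.asIdeal.primeCompl Q) = 0 := by
        rw [algebraMap_smul, LocalizedModule.smul'_mk, sub_smul, h8, sub_self,
          LocalizedModule.zero_mk]
      rw [hej, smul_smul] at h10
      have h11 := hρb (algebraMap R (Localization.AtPrime p.asIdeal) (g₁ - w) * u)
      rw [h10, map_zero] at h11
      exact (u.isUnit.mul_left_eq_zero).mp h11.symm
    obtain ⟨m, hm⟩ := (IsLocalization.map_eq_zero_iff p.asIdeal.primeCompl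
      (Localization.AtPrime p.asIdeal) (g₁ - w)).mp h9
    intro hwp
    have h12 : (m : R) * g₁ = (m : R) * w := by
      have := hm
      rw [mul_sub, sub_eq_zero] at this
      exact this
    have h13 : (m : R) * g₁ ∈ p.asIdeal := by
      rw [h12]
      exact Ideal.mul_mem_left _ _ hwp
    exact (mul_mem m.2 hg₁) h13
  refine ⟨j, g₁ * w, ?_, ?_, ?_⟩
  · intro hmem
    rcases p.isPrime.mem_or_mem hmem with h | h
    · exact hg₁ h
    · exact hw h
  · intro q
    refine ⟨1, w * lam q, ?_⟩
    rw [pow_one, mul_comm g₁ w, mul_smul, hlam q, ← mul_smul]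
  · intro r hr
    refine ⟨1, ?_⟩
    have h14 : r * w = 0 := by
      have := congrArg lam hr
      rw [map_smul, map_zero, smul_eq_mul] at this
      exact this
    rw [pow_one, mul_assoc, mul_comm w r, h14, mul_zero]

end Groth.Agent.Lib.Helper3.RankOneAlg
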