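import Groth.Agent.Lib.Helper3.ProjOfSec
import Groth.Agent.Lib.Helper3.ProjUniq
import Groth.Agent.Lib.Helper3.SecLocGen
import Groth.Agent.Lib.Helper3.RankOneAlg
import Groth.Agent.Lib.Helper3.InvCoh
import Groth.Agent.Lib.Helper3.InvMonoidal
import Groth.Agent.Lib.Helper3.FreeBasis

/-!
# Sections of projective space over an affine base and invertible quotients of `R^{n+1}`
-/

set_option autoImplicit false
universe u
open CategoryTheory CategoryTheory.Limits AlgebraicGeometry TopologicalSpace Opposite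
open Scheme.Modules

namespace Groth.Agent.Lib.Helper3.ProjSecAff

open QCSec InvGen ProjOfSec SecCoord GrScale ProjPullGen TwistProj TwistBasic ProjUniq PbBasic
  SecLocGen RankOneAlg InvAmple

/-! ### linear combinations through a ring map -/

section lc

variable {R A N ι : Type*} [CommRing R] [CommRing A] [AddCommGroup N] [Module A N]
  (φ : R →+* A) [Fintype ι] (σ : ι → N)

/-- the linear combination `∑ φ(c i) • σ i` -/
def lc (c : ι → R) : N := ∑ i, φ (c i) • σ i

theorem lc_smul (a : R) (c : ι → R) : lc φ σ (a • c) = φ a • lc φ σ c := by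
  unfold lc
  rw [Finset.smul_sum]
  refine Finset.sum_congr rfl (fun i _ => ?_)
  rw [Pi.smul_apply, smul_eq_mul, map_mul, mul_smul]

theorem lc_sub (c c' : ι → R) : lc φ σ (c - c') = lc φ σ c - lc φ σ c' := by
  unfold lc
  rw [← Finset.sum_sub_distrib]
  refine Finset.sum_congr rfl (fun i _ => ?_)
  rw [Pi.sub_apply, map_sub, sub_smul]

theorem lc_single [DecidableEq ι] (j : ι) : lc φ σ (Pi.single j 1) = σ j := by
  unfold lc
  rw [Finset.sum_eq_single j]
  · rw [Pi.single_eq_same, map_one, one_smul]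
  · intro i _ hij
    rw [Pi.single_eq_of_ne hij, map_zero, zero_smul]
  · intro h
    exact absurd (Finset.mem_univ j) h

end lc

theorem app_zero' {X : Scheme.{u}} {M N : X.Modules} (φ : M ⟶ N) (U : X.Opens) :
    φ.app U 0 = 0 := map_zero (φ.app U).hom

/-! ### the identification `R ≃ Γ(Spec R, ⊤)` -/

section phi

variable (R : Type u) [CommRing R]

/-- the canonical ring map `R → Γ(Spec R, ⊤)` -/
noncomputable def φR : R →+* Γ(Spec (CommRingCat.of R), ⊤) :=
  (Scheme.ΓSpecIso (CommRingCat.of R)).inv.hom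

/-- its inverse -/
noncomputable def ψR : Γ(Spec (CommRingCat.of R), ⊤) →+* R :=
  (Scheme.ΓSpecIso (CommRingCat.of R)).hom.hom

variable {R}

theorem φ_ψ (z : Γ(Spec (CommRingCat.of R), ⊤)) : φR R (ψR R z) = z :=
  congrArg (fun φ => φ.hom z) (Scheme.ΓSpecIso (CommRingCat.of R)).hom_inv_id

theorem ψ_φ (r : R) : ψR R (φR R r) = r :=
  congrArg (fun φ => φ.hom r) (Scheme.ΓSpecIso (CommRingCat.of R)).inv_hom_id

theorem φ_injective : Function.Injective (φR R) := fun a b h => by
  rw [← ψ_φ a, ← ψ_φ b, h]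

theorem mem_basicOpen_iff (f : Γ(Spec (CommRingCat.of R), ⊤)) (p : PrimeSpectrum R) :
    (show (Spec (CommRingCat.of R) : Type u) from p) ∈ (Spec (CommRingCat.of R)).basicOpen f ↔
      ψR R f ∉ p.asIdeal := by
  rw [basicOpen_eq_of_affine']
  exact PrimeSpectrum.mem_basicOpen _ _

end phi

/-! ### the morphism to projective space defined by sections whose loci cover -/

section hom

variable {R : Type u} [CommRing R]

theorem exists_proj_hom (n : ℕ) {X : Scheme.{u}}
    (q : X ⟶ Spec (CommRingCat.of R)) (L : X.Modules)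
    (s : Fin (n + 1) → Γ(L, ⊤)) (hcov0 : ∀ x : X, ∃ i, x ∈ locus L (s i)) :
    ∃ (r : X ⟶ CohB1.ProjSpace n R) (_ : r ≫ CohB1.ProjSpace.toSpec n R = q)
      (τ : (Scheme.Modules.pullback r).obj
        (Twist.twist (CohB1.polyGrading n R) ((1 : ℕ) : ℤ)) ≅ L),
      ∀ i, τ.hom.app ⊤ (gpull (𝒜 := CohB1.polyGrading n R) r
        (Twist.twist (CohB1.polyGrading n R) ((1 : ℕ) : ℤ))
        (gsec (⟨MvPolynomial.X i, MvPolynomial.isHomogeneous_X R i⟩ :
          CohB1.polyGrading n R 1))) = s i := by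
  classical
  let ι := ULift.{u} (Fin (n + 1))
  let t : ι → MvPolynomial (Fin (n + 1)) R := fun j => MvPolynomial.X j.down
  have ht : ∀ j, t j ∈ CohB1.polyGrading n R 1 := fun j => MvPolynomial.isHomogeneous_X R j.down
  let σ : ι → Γ(L, ⊤) := fun j => s j.down
  have hcov : ∀ x, ∃ j : ι, x ∈ locus L (σ j) := fun x => by
    obtain ⟨i, hi⟩ := hcov0 x
    exact ⟨⟨i⟩, hi⟩
  let ρ : ∀ j : ι, R →+* Γ(X, locus L (σ j)) := fun j =>
    (rresHom X (le_top : locus L (σ j) ≤ ⊤)).comp (ProjUP.toGlobal q)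
  let ψ : ∀ j : ι, MvPolynomial (Fin (n + 1)) R →+* Γ(X, locus L (σ j)) := fun j =>
    MvPolynomial.eval₂Hom (ρ j) (fun k => ratio L (σ j) (σ ⟨k⟩))
  have hψ : ∀ j k, ψ j (t k) = ratio L (σ j) (σ k) := fun j k => by
    change MvPolynomial.eval₂Hom (ρ j) (fun k => ratio L (σ j) (σ ⟨k⟩)) (MvPolynomial.X k.down) = _
    rw [MvPolynomial.eval₂Hom_X']
  have hcoc : ∀ j k, (rresHom X (inf_le_left : locus L (σ j) ⊓ locus L (σ k) ≤
        locus L (σ j))).comp (ψ j) =
      scaleHom (CohB1.polyGrading n R) ((rresHom X (inf_le_right : locus L (σ j) ⊓ locus L (σ k) ≤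
        locus L (σ k))).comp (ψ k)) (rres X (inf_le_left : locus L (σ j) ⊓ locus L (σ k) ≤
          locus L (σ j)) (ψ j (t k))) := by
    intro j k
    apply MvPolynomial.ringHom_ext
    · intro c
      rw [scaleHom_of_mem (CohB1.polyGrading n R) _ _ (MvPolynomial.isHomogeneous_C _ c),
        pow_zero, one_mul, RingHom.comp_apply, RingHom.comp_apply]
      change rres X _ (MvPolynomial.eval₂Hom (ρ j) _ (MvPolynomial.C c)) =
        rres X _ (MvPolynomial.eval₂Hom (ρ k) _ (MvPolynomial.C c))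
      rw [MvPolynomial.eval₂Hom_C, MvPolynomial.eval₂Hom_C]
      change rres X _ (rres X _ (ProjUP.toGlobal q c)) = rres X _ (rres X _ (ProjUP.toGlobal q c))
      rw [rres_rres, rres_rres]
    · intro i
      rw [scaleHom_of_mem (CohB1.polyGrading n R) _ _ (MvPolynomial.isHomogeneous_X R i),
        pow_one, RingHom.comp_apply, RingHom.comp_apply, hψ j k]
      change rres X _ (MvPolynomial.eval₂Hom (ρ j) _ (MvPolynomial.X i)) =
        rres X _ (ratio L (σ j) (σ k)) *
          rres X _ (MvPolynomial.eval₂Hom (ρ k) _ (MvPolynomial.X i))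
      rw [MvPolynomial.eval₂Hom_X', MvPolynomial.eval₂Hom_X']
      exact ratio_chain L (σ j) (σ k) (σ ⟨i⟩) inf_le_left inf_le_right
  refine ⟨ProjOfSec.hom L t ht σ hcov ψ hψ hcoc, ?_, ?_⟩
  · refine ProjOfSec.hom_toSpec L t ht σ hcov ψ hψ hcoc q (fun j c => ?_)
    change MvPolynomial.eval₂Hom (ρ j) _ (MvPolynomial.C c) = _
    rw [MvPolynomial.eval₂Hom_C]
    rfl
  · obtain ⟨τ, hτ⟩ := ProjOfSec.exists_iso L t ht σ hcov ψ hψ hcoc
    exact ⟨τ, fun i => hτ ⟨i⟩⟩

/-- membership in the kernel of a section, as an explicit linear combination -/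
theorem mem_secKernel_iff (n : ℕ) (s : Spec (CommRingCat.of R) ⟶ CohB1.ProjSpace n R)
    (c : Fin (n + 1) → R) :
    c ∈ ProjUP.secKernel n R s ↔
      lc (φR R) (fun i : Fin (n + 1) => gpull (𝒜 := CohB1.polyGrading n R) s
        (Twist.twist (CohB1.polyGrading n R) ((1 : ℕ) : ℤ))
        (gsec (⟨MvPolynomial.X i, MvPolynomial.isHomogeneous_X R i⟩ :
          CohB1.polyGrading n R 1))) c = 0 := by
  letI : Module R (ProjUP.Γm ((Scheme.Modules.pullback s).obj (Twist.twistProjSpace n R 1))) :=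
    Module.compHom _ (Scheme.ΓSpecIso (CommRingCat.of R)).inv.hom
  change c ∈ LinearMap.ker (Fintype.linearCombination R
    (fun i => ProjUP.pullSec s (Twist.twistProjSpace n R 1) (ProjUP.coord n R i))) ↔ _
  rw [LinearMap.mem_ker, Fintype.linearCombination_apply]
  rfl

/-- (⇒): the quotient by the kernel of a section is locally generated by one coordinate. -/
theorem locGen_of_section (n : ℕ) (s : Spec (CommRingCat.of R) ⟶ CohB1.ProjSpace n R) :
    LocGen (R := R) (fun i : Fin (n + 1) =>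
      (Submodule.Quotient.mk (Pi.single i (1 : R)) :
        (Fin (n + 1) → R) ⧸ ProjUP.secKernel n R s)) := by
  classical
  let t : ULift.{u} (Fin (n + 1)) → MvPolynomial (Fin (n + 1)) R := fun j => MvPolynomial.X j.down
  have ht : ∀ j, t j ∈ CohB1.polyGrading n R 1 := fun j => MvPolynomial.isHomogeneous_X R j.down
  have hadj : Algebra.adjoin R (Set.range t) = ⊤ := by
    rw [eq_top_iff, ← MvPolynomial.adjoin_range_X]
    apply Algebra.adjoin_mono
    rintro _ ⟨i, rfl⟩
    exact ⟨⟨i⟩, rfl⟩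
  have hcovP : ∀ x : Proj (CohB1.polyGrading n R),
      ∃ i, x ∈ Proj.basicOpen (CohB1.polyGrading n R) (t i) :=
    exists_mem_basicOpen_of_adjoin t (fun _ => 1) ht hadj
  have hUF : ∀ x : Proj (CohB1.polyGrading n R), ∃ U : (Proj (CohB1.polyGrading n R)).Opens,
      x ∈ U ∧ HasUnitFrac ((1 : ℕ) : ℤ) U := by
    intro x
    obtain ⟨i, hi⟩ := hcovP x
    exact ⟨_, hi, hasUnitFrac_basicOpen (ht i)⟩
  have hinv : PicF.IsInvertible ((Scheme.Modules.pullback s).obj
      (Twist.twist (CohB1.polyGrading n R) ((1 : ℕ) : ℤ))) :=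
    isInvertible_pullback s (isInvertible_twist_of_cover _ hUF)
  haveI : ((Scheme.Modules.pullback s).obj
      (Twist.twist (CohB1.polyGrading n R) ((1 : ℕ) : ℤ))).IsQuasicoherent :=
    InvCoh.isQuasicoherent_of_isInvertible hinv
  let σ : Fin (n + 1) → Γ((Scheme.Modules.pullback s).obj
      (Twist.twist (CohB1.polyGrading n R) ((1 : ℕ) : ℤ)), ⊤) :=
    fun i => gpull (𝒜 := CohB1.polyGrading n R) s
      (Twist.twist (CohB1.polyGrading n R) ((1 : ℕ) : ℤ))
      (gsec (⟨MvPolynomial.X i, MvPolynomial.isHomogeneous_X R i⟩ : CohB1.polyGrading n R 1))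
  have hmem : ∀ c : Fin (n + 1) → R, c ∈ ProjUP.secKernel n R s ↔ lc (φR R) σ c = 0 :=
    fun c => mem_secKernel_iff n s c
  intro p
  obtain ⟨j, hj⟩ := hcovP (s (show (Spec (CommRingCat.of R) : Type u) from p))
  have hloc : (show (Spec (CommRingCat.of R) : Type u) from p) ∈ locus _ (σ j.down) := by
    have h := locus_gpull_gsec s hUF (⟨t j, ht j⟩ : CohB1.polyGrading n R 1)
    change _ ∈ locus _ (gpull (𝒜 := CohB1.polyGrading n R) s
      (Twist.twist (CohB1.polyGrading n R) ((1 : ℕ) : ℤ))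
      (gsec (⟨t j, ht j⟩ : CohB1.polyGrading n R 1)))
    rw [h]
    exact hj
  obtain ⟨f, hpf, h1, h2⟩ := exists_data_of_mem_locus (σ j.down) _ hloc
  refine ⟨j.down, ψR R f, (mem_basicOpen_iff f p).mp hpf, ?_, ?_⟩
  · intro q
    obtain ⟨c, rfl⟩ := Submodule.Quotient.mk_surjective _ q
    obtain ⟨k, r, hkr⟩ := h1 (lc (φR R) σ c)
    refine ⟨k, ψR R r, ?_⟩
    change (ψR R f) ^ k • (Submodule.Quotient.mk c : _ ⧸ ProjUP.secKernel n R s) =
      ψR R r • Submodule.Quotient.mk (Pi.single j.down (1 : R))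
    rw [← Submodule.Quotient.mk_smul, ← Submodule.Quotient.mk_smul, Submodule.Quotient.eq, hmem,
      lc_sub, lc_smul, lc_smul, lc_single, map_pow, φ_ψ, φ_ψ, hkr, sub_self]
  · intro r hr
    have hr' : r • (Submodule.Quotient.mk (Pi.single j.down (1 : R)) :
        _ ⧸ ProjUP.secKernel n R s) = 0 := hr
    rw [← Submodule.Quotient.mk_smul, Submodule.Quotient.mk_eq_zero, hmem, lc_smul,
      lc_single] at hr'
    obtain ⟨k, hk⟩ := h2 (φR R r) hr'
    refine ⟨k, φ_injective ?_⟩
    rw [map_mul, map_pow, φ_ψ, map_zero]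
    exact hk

end hom

/-! ### the converse: the section defined by an invertible quotient -/

section smulTop

theorem smul_top_eq {R : CommRingCat.{u}} {M : (Spec R).Modules} (r : R) (x : Γ(M, ⊤)) :
    r • x = ((Scheme.ΓSpecIso R).inv.hom r : Γ(Spec R, ⊤)) • x := by
  rw [Scheme.Modules.smul_Spec_def]
  have h2 : ∀ (i : (⊤ : (Spec R).Opens) ⟶ ⊤), (Spec R).presheaf.map i.op = 𝟙 _ := by
    intro i
    rw [Subsingleton.elim i (𝟙 ⊤), op_id, CategoryTheory.Functor.map_id]
  rw [h2]
  rfl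

end smulTop

section converse

variable {R : Type u} [CommRing R] (n : ℕ) (F : Submodule R (Fin (n + 1) → R))

/-- the module `R^{n+1}/F` as an object of `ModuleCat` over `CommRingCat.of R` -/
noncomputable abbrev QM : ModuleCat.{u} (CommRingCat.of R) :=
  ModuleCat.of R ((Fin (n + 1) → R) ⧸ F)

/-- the canonical map `Q → Γ(Q^~, ⊤)` -/
noncomputable def toΓ : ((Fin (n + 1) → R) ⧸ F) →+ Γ(tilde (QM n F), ⊤) :=
  (tilde.toOpen (QM n F) ⊤).hom.toAddMonoidHom

theorem toΓ_bijective : Function.Bijective (toΓ n F) :=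
  (ConcreteCategory.isIso_iff_bijective (tilde.toOpen (QM n F) ⊤)).mp
    (tilde.isIso_toOpen_top (M := QM n F))

theorem toΓ_smul (r : R) (q : (Fin (n + 1) → R) ⧸ F) :
    toΓ n F (r • q) = φR R r • toΓ n F q :=
  ((tilde.toOpen (QM n F) ⊤).hom.map_smul r q).trans
    (smul_top_eq (R := CommRingCat.of R) (M := tilde (QM n F)) r _)

theorem span_mk_single :
    Submodule.span R (Set.range (fun i : Fin (n + 1) =>
      (Submodule.Quotient.mk (Pi.single i (1 : R)) : (Fin (n + 1) → R) ⧸ F))) = ⊤ := by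
  classical
  rw [eq_top_iff]
  rintro q -
  obtain ⟨c, rfl⟩ := Submodule.Quotient.mk_surjective F q
  have hc : c = ∑ i, c i • (Pi.single i (1 : R) : Fin (n + 1) → R) := pi_eq_sum_univ' c
  have hc' : (Submodule.Quotient.mk c : (Fin (n + 1) → R) ⧸ F) =
      ∑ i, c i • Submodule.Quotient.mk (Pi.single i (1 : R)) := by
    conv_lhs => rw [hc]
    exact map_sum F.mkQ _ _
  rw [hc']
  refine Submodule.sum_mem _ (fun i _ => ?_)
  exact Submodule.smul_mem _ _ (Submodule.subset_span ⟨i, rfl⟩)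

theorem mk_eq_sum (c : Fin (n + 1) → R) :
    (Submodule.Quotient.mk c : (Fin (n + 1) → R) ⧸ F) =
      ∑ i, c i • Submodule.Quotient.mk (Pi.single i (1 : R)) := by
  classical
  have hc : c = ∑ i, c i • (Pi.single i (1 : R) : Fin (n + 1) → R) := pi_eq_sum_univ' c
  conv_lhs => rw [hc]
  exact map_sum F.mkQ _ _

/-- (⇐): local generation of the quotient gives a section with the prescribed kernel. -/
theorem exists_section_of_locGen
    (hLG : LocGen (R := R) (fun i : Fin (n + 1) =>
      (Submodule.Quotient.mk (Pi.single i (1 : R)) : (Fin (n + 1) → R) ⧸ F))) :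
    ∃ s : Spec (CommRingCat.of R) ⟶ CohB1.ProjSpace n R,
      s ≫ CohB1.ProjSpace.toSpec n R = 𝟙 _ ∧ ProjUP.secKernel n R s = F := by
  classical
  let v : Fin (n + 1) → (Fin (n + 1) → R) ⧸ F :=
    fun i => Submodule.Quotient.mk (Pi.single i (1 : R))
  let σ : Fin (n + 1) → Γ(tilde (QM n F), ⊤) := fun i => toΓ n F (v i)
  have hcov : ∀ x : Spec (CommRingCat.of R), ∃ i, x ∈ locus (tilde (QM n F)) (σ i) := by
    intro x
    obtain ⟨j, g, hg, H1, H2⟩ := hLG (show PrimeSpectrum R from x)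
    refine ⟨j, ?_⟩
    have h1 : ∀ m : Γ(tilde (QM n F), ⊤), ∃ (k : ℕ) (r : Γ(Spec (CommRingCat.of R), ⊤)),
        (φR R g) ^ k • m = r • σ j := by
      intro m
      obtain ⟨q, rfl⟩ := (toΓ_bijective n F).2 m
      obtain ⟨k, r, hkr⟩ := H1 q
      refine ⟨k, φR R r, ?_⟩
      have hkr' : g ^ k • q = r • v j := hkr
      rw [← map_pow, ← toΓ_smul, hkr', toΓ_smul]
    have h2 : ∀ r : Γ(Spec (CommRingCat.of R), ⊤), r • σ j = 0 →
        ∃ k : ℕ, (φR R g) ^ k * r = 0 := by
      intro r hr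
      have hr' : toΓ n F (ψR R r • v j) = 0 := by
        rw [toΓ_smul, φ_ψ]
        exact hr
      have hr'' : ψR R r • v j = 0 :=
        (toΓ_bijective n F).1 (hr'.trans (map_zero (toΓ n F)).symm)
      obtain ⟨k, hk⟩ := H2 (ψR R r) hr''
      refine ⟨k, ?_⟩
      have h3 := congrArg (φR R) hk
      rw [map_mul, map_pow, φ_ψ, map_zero] at h3
      exact h3
    have hG := isGen_of_data (σ j) (φR R g) h1 h2
    have hx : x ∈ (Spec (CommRingCat.of R)).basicOpen (φR R g) := by
      refine (mem_basicOpen_iff (φR R g) (show PrimeSpectrum R from x)).mpr ?_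
      rw [ψ_φ]
      exact hg
    have hW : IsGen (tilde (QM n F)) ((Spec (CommRingCat.of R)).basicOpen (φR R g))
        (sec (globalHom (tilde (QM n F)) (σ j)) ((Spec (CommRingCat.of R)).basicOpen (φR R g))) := by
      rw [sec_globalHom]
      exact hG
    exact le_genLocus (globalHom (tilde (QM n F)) (σ j)) hW hx
  obtain ⟨r, hr, τ, hτ⟩ := exists_proj_hom n (𝟙 (Spec (CommRingCat.of R))) (tilde (QM n F)) σ hcov
  refine ⟨r, hr, ?_⟩
  have key : ∀ c : Fin (n + 1) → R,
      τ.hom.app ⊤ (lc (φR R) (fun i : Fin (n + 1) => gpull (𝒜 := CohB1.polyGrading n R) r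
        (Twist.twist (CohB1.polyGrading n R) ((1 : ℕ) : ℤ))
        (gsec (⟨MvPolynomial.X i, MvPolynomial.isHomogeneous_X R i⟩ :
          CohB1.polyGrading n R 1))) c) = toΓ n F (Submodule.Quotient.mk c) := by
    intro c
    unfold lc
    rw [FreeBasis.app_sum, mk_eq_sum, map_sum]
    refine Finset.sum_congr rfl (fun i _ => ?_)
    rw [Scheme.Modules.Hom.app_smul, hτ, toΓ_smul]
  ext c
  rw [mem_secKernel_iff]
  constructor
  · intro h
    have h0 : toΓ n F (Submodule.Quotient.mk c) = 0 :=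
      (key c).symm.trans ((congrArg (τ.hom.app ⊤) h).trans (app_zero' τ.hom ⊤))
    exact (Submodule.Quotient.mk_eq_zero F).mp
      ((toΓ_bijective n F).1 (h0.trans (map_zero (toΓ n F)).symm))
  · intro hc
    have h0 : toΓ n F (Submodule.Quotient.mk c) = 0 := by
      rw [(Submodule.Quotient.mk_eq_zero F).mpr hc, map_zero]
    rw [← key] at h0
    have h3 := congrArg (τ.inv.app ⊤) h0
    rw [InvMonoidal.iso_inv_hom_app, app_zero'] at h3
    exact h3

/-- the correspondence between sections of projective space and invertible quotients -/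
theorem exists_section_iff :
    (∃ s : Spec (CommRingCat.of R) ⟶ CohB1.ProjSpace n R,
        s ≫ CohB1.ProjSpace.toSpec n R = 𝟙 _ ∧ ProjUP.secKernel n R s = F) ↔
      (Module.Projective R ((Fin (n + 1) → R) ⧸ F) ∧
        ∀ p : PrimeSpectrum R, Module.finrank (Localization.AtPrime p.asIdeal)
          (LocalizedModule p.asIdeal.primeCompl ((Fin (n + 1) → R) ⧸ F)) = 1) := by
  constructor
  · rintro ⟨s, -, rfl⟩
    have h := (locGen_of_section n s).finite_projective_rank
    exact ⟨h.2.1, h.2.2⟩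
  · rintro ⟨hproj, hrank⟩
    haveI := hproj
    exact exists_section_of_locGen n F (locGen_of_projective (span_mk_single n F) hrank)

end converse

end Groth.Agent.Lib.Helper3.ProjSecAff
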