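import Groth.Agent.Lib.Helper3.PullLemmas

set_option autoImplicit false
universe u
open CategoryTheory CategoryTheory.Limits AlgebraicGeometry TopologicalSpace Opposite
open Scheme.Modules

namespace Groth.Agent.Lib.Helper3.PullLemmas

open PbBasic QCSec InvGen

variable {X Y Z P : Scheme.{u}}

/-- local form of `compat_of_pull` -/
theorem compat_of_pull_local (r : X ⟶ P) (p : P ⟶ Y) (g : X ⟶ Y) (hr : r ≫ p = g)
    {E : Y.Modules} {O1 : P.Modules} {L : X.Modules}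
    (φ : E ⟶ (pushforward p).obj O1) (τ : (Scheme.Modules.pullback r).obj O1 ⟶ L)
    (s : (Scheme.Modules.pullback g).obj E ⟶ L)
    (h : ∀ (U : Y.Opens), IsAffineOpen U → ∀ (U' : X.Opens), IsAffineOpen U' →
      ∀ (hle : U' ≤ g ⁻¹ᵁ U) (e : Γ(E, U)),
      τ.app U' (res _ (hle.trans (preimage_le r p g hr U))
        (pull r O1 (p ⁻¹ᵁ U) (up p O1 U (φ.app U e)))) =
        s.app U' (res _ hle (pull g E U e))) :
    (pullbackCongr hr).inv.app E ≫ (pullbackComp r p).inv.app E ≫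
      (Scheme.Modules.pullback r).map
        (((pullbackPushforwardAdjunction p).homEquiv E O1).symm φ) ≫ τ = s := by
  apply compat_of_pull r p g hr φ τ s
  intro U hU e
  refine sec_eq_of_locally_eq L
    (fun V : {V : X.Opens // IsAffineOpen V ∧ V ≤ g ⁻¹ᵁ U} => V.1) (g ⁻¹ᵁ U)
    (fun V => V.2.2) ?_ _ _ (fun V => ?_)
  · intro x hx
    obtain ⟨_, ⟨V, hV, rfl⟩, hxV, hVU⟩ :=
      X.isBasis_affineOpens.exists_subset_of_mem_open hx (g ⁻¹ᵁ U).2
    exact Opens.mem_iSup.mpr ⟨⟨V, hV, hVU⟩, hxV⟩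
  · obtain ⟨V, hV, hVU⟩ := V
    rw [← QCExact.app_res', ← QCExact.app_res', res_res]
    exact h U hU V hV hVU e

/-- the isomorphism `(pL⁻¹ ≫ h)^* O ≅ L` deduced from `h^* O ≅ pL^* L`, `pL` an isomorphism -/
noncomputable def isoX (pL : Z ⟶ X) [IsIso pL] (h : Z ⟶ P) {O1 : P.Modules} {L : X.Modules}
    (θ : (Scheme.Modules.pullback h).obj O1 ≅ (Scheme.Modules.pullback pL).obj L) :
    (Scheme.Modules.pullback (inv pL ≫ h)).obj O1 ≅ L :=
  (pullbackComp (inv pL) h).symm.app O1 ≪≫ (Scheme.Modules.pullback (inv pL)).mapIso θ ≪≫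
    (pullbackComp (inv pL) pL).app L ≪≫ (pullbackCongr (IsIso.inv_hom_id pL)).app L ≪≫
    (pullbackId X).app L

theorem isoX_hom_app (pL : Z ⟶ X) [IsIso pL] (h : Z ⟶ P) {O1 : P.Modules} {L : X.Modules}
    (θ : (Scheme.Modules.pullback h).obj O1 ≅ (Scheme.Modules.pullback pL).obj L)
    (A : P.Opens) (t : Γ(O1, A)) (U' : X.Opens) (σ : Γ(L, U'))
    (hT1 : pL ⁻¹ᵁ U' ≤ h ⁻¹ᵁ A)
    (hθ : θ.hom.app (pL ⁻¹ᵁ U') (res _ hT1 (pull h O1 A t)) = pull pL L U' σ)
    (W : X.Opens) (hW : W ≤ (inv pL ≫ h) ⁻¹ᵁ A) (hW' : W ≤ U') :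
    (isoX pL h θ).hom.app W (res _ hW (pull (inv pL ≫ h) O1 A t)) = res L hW' σ := by
  have e0 : (inv pL ≫ pL) ⁻¹ᵁ U' = U' := by
    rw [IsIso.inv_hom_id]
    rfl
  have hqT : W ≤ (inv pL ≫ pL) ⁻¹ᵁ U' := hW'.trans e0.ge
  have hqT' : W ≤ inv pL ⁻¹ᵁ (pL ⁻¹ᵁ U') := hqT
  -- first two maps
  have s1 : ((pullbackComp (inv pL) h).inv.app O1).app W
      (res _ hW (pull (inv pL ≫ h) O1 A t)) =
      res _ hW (pull (inv pL) ((Scheme.Modules.pullback h).obj O1) (h ⁻¹ᵁ A)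
        (pull h O1 A t)) := by
    rw [QCExact.app_res', pullbackComp_inv_pull]
    rfl
  have s2 : ((Scheme.Modules.pullback (inv pL)).map θ.hom).app W
      (res _ hW (pull (inv pL) ((Scheme.Modules.pullback h).obj O1) (h ⁻¹ᵁ A)
        (pull h O1 A t))) =
      res _ hW (pull (inv pL) ((Scheme.Modules.pullback pL).obj L) (h ⁻¹ᵁ A)
        (θ.hom.app (h ⁻¹ᵁ A) (pull h O1 A t))) := by
    have := QCExact.app_res' ((Scheme.Modules.pullback (inv pL)).map θ.hom)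
      (show W ≤ inv pL ⁻¹ᵁ (h ⁻¹ᵁ A) from hW)
      (pull (inv pL) ((Scheme.Modules.pullback h).obj O1) (h ⁻¹ᵁ A) (pull h O1 A t))
    rw [pull_app] at this
    exact this
  have s3 : res ((Scheme.Modules.pullback (inv pL)).obj ((Scheme.Modules.pullback pL).obj L))
      (show W ≤ inv pL ⁻¹ᵁ (h ⁻¹ᵁ A) from hW)
      (pull (inv pL) ((Scheme.Modules.pullback pL).obj L) (h ⁻¹ᵁ A)
        (θ.hom.app (h ⁻¹ᵁ A) (pull h O1 A t))) =
      res _ hqT' (pull (inv pL) ((Scheme.Modules.pullback pL).obj L) (pL ⁻¹ᵁ U')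
        (pull pL L U' σ)) := by
    rw [← hθ, QCExact.app_res', ← res_pull (inv pL) _ hT1, res_res]
  have s4 : ((pullbackComp (inv pL) pL).hom.app L).app W
      (res _ hqT' (pull (inv pL) ((Scheme.Modules.pullback pL).obj L) (pL ⁻¹ᵁ U')
        (pull pL L U' σ))) =
      res _ hqT (pull (inv pL ≫ pL) L U' σ) := by
    have := QCExact.app_res' ((pullbackComp (inv pL) pL).hom.app L) hqT
      (pull (inv pL) ((Scheme.Modules.pullback pL).obj L) (pL ⁻¹ᵁ U') (pull pL L U' σ))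
    rw [pullbackComp_hom_pull] at this
    exact this
  have hW1 : W ≤ (𝟙 X) ⁻¹ᵁ U' := hW'
  have s5 : ((pullbackCongr (IsIso.inv_hom_id pL)).hom.app L).app W
      (res _ hqT (pull (inv pL ≫ pL) L U' σ)) = res _ hW1 (pull (𝟙 X) L U' σ) :=
    pullbackCongr_hom_pull (IsIso.inv_hom_id pL) L U' σ W hqT hW1
  have s6 : ((pullbackId X).hom.app L).app W (res _ hW1 (pull (𝟙 X) L U' σ)) = res L hW' σ := by
    have := QCExact.app_res' ((pullbackId X).hom.app L) hW1 (pull (𝟙 X) L U' σ)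
    refine this.trans ?_
    exact congrArg (res L hW') (pullbackId_hom_pull L U' σ)
  change ((pullbackId X).hom.app L).app W
    (((pullbackCongr (IsIso.inv_hom_id pL)).hom.app L).app W
      (((pullbackComp (inv pL) pL).hom.app L).app W
        (((Scheme.Modules.pullback (inv pL)).map θ.hom).app W
          (((pullbackComp (inv pL) h).inv.app O1).app W
            (res _ hW (pull (inv pL ≫ h) O1 A t)))))) = _
  rw [s1, s2]
  refine Eq.trans ?_ s6
  refine congrArg _ ?_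
  refine Eq.trans ?_ s5
  refine congrArg _ ?_
  refine Eq.trans ?_ s4
  exact congrArg _ s3

end Groth.Agent.Lib.Helper3.PullLemmas
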