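import Groth.Agent.Lib.Helper3.QCAlgGen

/-!
# The quasi-coherent subalgebra generated by a quasi-coherent submodule
-/

set_option autoImplicit false
universe u
open CategoryTheory CategoryTheory.Limits AlgebraicGeometry TopologicalSpace Opposite
open Scheme.Modules

namespace Groth.Agent.Lib.Helper3.QCAlgSub

open QCSec QCExtend QCAlgGen

variable {X : Scheme.{u}} (B : _root_.RelSpec.QCAlg X) {E : X.Modules} (j : E ⟶ B.toModule)

/-- restriction in `B` -/
noncomputable abbrev bres {A O : X.Opens} (h : A ≤ O) :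
    B.presheaf.obj (op O) →+* B.presheaf.obj (op A) :=
  (B.presheaf.map (homOfLE h).op).hom

theorem bres_bres {A A' O : X.Opens} (h : A ≤ A') (h' : A' ≤ O) (y : B.presheaf.obj (op O)) :
    bres B h (bres B h' y) = bres B (h.trans h') y := by
  have h0 : B.presheaf.map (homOfLE h').op ≫ B.presheaf.map (homOfLE h).op =
      B.presheaf.map (homOfLE (h.trans h')).op := by
    rw [← Functor.map_comp]; rfl
  exact congrArg (fun ψ => ψ.hom y) h0

theorem bres_self {O : X.Opens} (y : B.presheaf.obj (op O)) : bres B (le_refl O) y = y := by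
  have h0 : B.presheaf.map (homOfLE (le_refl O)).op = 𝟙 _ := by
    rw [← B.presheaf.map_id]; rfl
  exact congrArg (fun ψ => ψ.hom y) h0

theorem jmap_add (O : X.Opens) (e e' : Γ(E, O)) :
    jmap B j O (e + e') = jmap B j O e + jmap B j O e' := by
  unfold jmap
  rw [map_add, ofS_add]

theorem jmap_zero (O : X.Opens) : jmap B j O (0 : Γ(E, O)) = 0 := by
  unfold jmap
  rw [map_zero, ofS_zero]

/-- sections of `B` locally in the subring generated by `E` -/
noncomputable def locSub (O : X.Opens) : Subring (B.presheaf.obj (op O)) where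
  carrier := {y | ∀ x ∈ O, ∃ (W : X.Opens) (hW : W ≤ O), x ∈ W ∧
    bres B hW y ∈ genSubring B j W}
  mul_mem' := by
    intro a b ha hb x hx
    obtain ⟨W₁, hW₁, hx₁, h₁⟩ := ha x hx
    obtain ⟨W₂, hW₂, hx₂, h₂⟩ := hb x hx
    refine ⟨W₁ ⊓ W₂, inf_le_left.trans hW₁, ⟨hx₁, hx₂⟩, ?_⟩
    rw [map_mul]
    refine mul_mem ?_ ?_
    · have := res_mem B j (inf_le_left : W₁ ⊓ W₂ ≤ W₁) _ h₁
      rwa [bres_bres] at this
    · have := res_mem B j (inf_le_right : W₁ ⊓ W₂ ≤ W₂) _ h₂
      rwa [bres_bres] at this
  one_mem' := fun x hx => ⟨O, le_rfl, hx, by rw [map_one]; exact one_mem _⟩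
  add_mem' := by
    intro a b ha hb x hx
    obtain ⟨W₁, hW₁, hx₁, h₁⟩ := ha x hx
    obtain ⟨W₂, hW₂, hx₂, h₂⟩ := hb x hx
    refine ⟨W₁ ⊓ W₂, inf_le_left.trans hW₁, ⟨hx₁, hx₂⟩, ?_⟩
    rw [map_add]
    refine add_mem ?_ ?_
    · have := res_mem B j (inf_le_left : W₁ ⊓ W₂ ≤ W₁) _ h₁
      rwa [bres_bres] at this
    · have := res_mem B j (inf_le_right : W₁ ⊓ W₂ ≤ W₂) _ h₂
      rwa [bres_bres] at this
  zero_mem' := fun x hx => ⟨O, le_rfl, hx, by rw [map_zero]; exact zero_mem _⟩
  neg_mem' := by
    intro a ha x hx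
    obtain ⟨W, hW, hxW, h⟩ := ha x hx
    exact ⟨W, hW, hxW, by rw [map_neg]; exact neg_mem h⟩

theorem mem_locSub {O : X.Opens} (y : B.presheaf.obj (op O)) :
    y ∈ locSub B j O ↔ ∀ x ∈ O, ∃ (W : X.Opens) (hW : W ≤ O), x ∈ W ∧
      bres B hW y ∈ genSubring B j W := Iff.rfl

theorem genSubring_le_locSub (O : X.Opens) : genSubring B j O ≤ locSub B j O := by
  intro y hy x hx
  exact ⟨O, le_rfl, hx, by rw [bres_self]; exact hy⟩

theorem bres_mem_locSub {A O : X.Opens} (h : A ≤ O) (y : B.presheaf.obj (op O))
    (hy : y ∈ locSub B j O) : bres B h y ∈ locSub B j A := by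
  intro x hx
  obtain ⟨W, hW, hxW, hyW⟩ := hy x (h hx)
  refine ⟨W ⊓ A, inf_le_right, ⟨hxW, hx⟩, ?_⟩
  have := res_mem B j (inf_le_left : W ⊓ A ≤ W) _ hyW
  rw [bres_bres] at this
  rw [bres_bres]
  exact this

theorem sub_ext {O : X.Opens} (a b : locSub B j O) (h : a.1 = b.1) : a = b := Subtype.ext h

/-- restriction maps of the generated subalgebra -/
noncomputable def subMap {A O : X.Opens} (h : A ≤ O) : locSub B j O →+* locSub B j A :=
  ((bres B h).comp (locSub B j O).subtype).codRestrict (locSub B j A)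
    (fun y => bres_mem_locSub B j h y.1 y.2)

theorem subMap_val {A O : X.Opens} (h : A ≤ O) (y : locSub B j O) :
    (subMap B j h y).1 = bres B h y.1 := rfl

/-- the presheaf of rings of the generated subalgebra -/
noncomputable def subPresheaf : TopCat.Presheaf CommRingCat.{u} X.carrier where
  obj O := CommRingCat.of (locSub B j O.unop)
  map {O A} f := CommRingCat.ofHom (subMap B j (leOfHom f.unop))
  map_id O := by
    ext y
    exact bres_self B _
  map_comp {O A C} f g := by
    ext y
    exact (bres_bres B _ _ _).symm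

/-- the inclusion of the generated subalgebra -/
noncomputable def incl : subPresheaf B j ⟶ B.presheaf where
  app O := CommRingCat.ofHom (locSub B j O.unop).subtype
  naturality O A f := by
    ext y
    rfl

/-- the underlying section of `B` -/
noncomputable def subVal {O : X.Opens} (y : ToType ((subPresheaf B j).obj (op O))) :
    B.presheaf.obj (op O) := (show locSub B j O from y).1

theorem subVal_mem {O : X.Opens} (y : ToType ((subPresheaf B j).obj (op O))) :
    subVal B j y ∈ locSub B j O := (show locSub B j O from y).2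

theorem subVal_ext {O : X.Opens} (a b : ToType ((subPresheaf B j).obj (op O)))
    (h : subVal B j a = subVal B j b) : a = b := Subtype.ext h

/-- a section of the generated subalgebra from a section of `B` -/
noncomputable def subMk {O : X.Opens} (y : B.presheaf.obj (op O)) (hy : y ∈ locSub B j O) :
    ToType ((subPresheaf B j).obj (op O)) := (⟨y, hy⟩ : locSub B j O)

theorem subVal_subMk {O : X.Opens} (y : B.presheaf.obj (op O)) (hy : y ∈ locSub B j O) :
    subVal B j (subMk B j y hy) = y := rfl

theorem isSheaf_subPresheaf : (subPresheaf B j).IsSheaf := by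
  rw [TopCat.Presheaf.isSheaf_iff_isSheafUniqueGluing]
  intro ι U sf hsf
  have hB := (TopCat.Presheaf.isSheaf_iff_isSheafUniqueGluing B.presheaf).mp B.isSheaf U
    (fun i => subVal B j (sf i))
    (fun i k => congrArg (subVal B j) (hsf i k))
  obtain ⟨s, hs, huniq⟩ := hB
  have hmem : s ∈ locSub B j (iSup U) := by
    intro x hx
    obtain ⟨i, hxi⟩ := Opens.mem_iSup.mp hx
    obtain ⟨W, hW, hxW, hyW⟩ := subVal_mem B j (sf i) x hxi
    refine ⟨W, hW.trans (le_iSup U i), hxW, ?_⟩
    have h1 : bres B (le_iSup U i) s = subVal B j (sf i) := hs i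
    rw [← bres_bres B hW (le_iSup U i), h1]
    exact hyW
  refine ⟨subMk B j s hmem, ?_, ?_⟩
  · intro i
    exact subVal_ext B j _ _ (hs i)
  · intro s' hs'
    have h2 := huniq (subVal B j s') (fun i => congrArg (subVal B j) (hs' i))
    exact subVal_ext B j _ _ h2

/-- the structure map of the generated subalgebra -/
noncomputable def subStr : X.presheaf ⟶ subPresheaf B j where
  app O := CommRingCat.ofHom ((B.str.app O).hom.codRestrict (locSub B j O.unop)
    (fun r => genSubring_le_locSub B j O.unop (str_mem B j O.unop r)))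
  naturality O A f := by
    ext r
    exact subVal_ext B j _ _ (congrArg (fun ψ => ψ.hom r) (B.str.naturality f))

theorem subStr_val (O : X.Opens) (r : Γ(X, O)) :
    subVal B j (((subStr B j).app (op O)).hom r) = (B.str.app (op O)).hom r := rfl

theorem mem_genSubring_of_local [E.IsQuasicoherent] {U : X.Opens} (hU : IsAffineOpen U)
    (b : B.presheaf.obj (op U))
    (h : ∀ x ∈ U, ∃ f : Γ(X, U), x ∈ X.basicOpen f ∧
      rho B f b ∈ genSubring B j (X.basicOpen f)) :
    b ∈ genSubring B j U := by
  let I : Ideal Γ(X, U) :=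
    { carrier := {r | (B.str.app (op U)).hom r * b ∈ genSubring B j U}
      add_mem' := fun {r s} hr hs => by
        show (B.str.app (op U)).hom (r + s) * b ∈ genSubring B j U
        rw [map_add, add_mul]; exact add_mem hr hs
      zero_mem' := by
        show (B.str.app (op U)).hom 0 * b ∈ genSubring B j U
        rw [map_zero, zero_mul]; exact zero_mem _
      smul_mem' := fun c r hr => by
        show (B.str.app (op U)).hom (c • r) * b ∈ genSubring B j U
        rw [smul_eq_mul, map_mul, mul_assoc]; exact mul_mem (str_mem B j U c) hr }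
  have hI : ∀ x ∈ U, ∃ f : Γ(X, U), f ∈ I ∧ x ∈ X.basicOpen f := by
    intro x hx
    obtain ⟨f, hxf, hf⟩ := h x hx
    letI := (B.presheaf.map (homOfLE (X.basicOpen_le f)).op).hom.toAlgebra
    haveI hloc : IsLocalization.Away ((B.str.app (op U)).hom f)
        (B.presheaf.obj (op (X.basicOpen f))) := B.isQC U hU f
    obtain ⟨a, N, ha, e⟩ := exists_pow_mul_mem B j hU f (rho B f b) hf
    have e' : algebraMap (B.presheaf.obj (op U)) (B.presheaf.obj (op (X.basicOpen f))) a =
        algebraMap (B.presheaf.obj (op U)) (B.presheaf.obj (op (X.basicOpen f)))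
          (((B.str.app (op U)).hom f) ^ N * b) := by
      rw [map_mul, map_pow]; exact e
    obtain ⟨M, hM⟩ := IsLocalization.Away.exists_of_eq ((B.str.app (op U)).hom f) e'
    have hmem : f ^ (M + N + 1) ∈ I := by
      show (B.str.app (op U)).hom (f ^ (M + N + 1)) * b ∈ genSubring B j U
      have : (B.str.app (op U)).hom (f ^ (M + N + 1)) * b =
          (B.str.app (op U)).hom f * ((B.str.app (op U)).hom f ^ M * a) := by
        rw [hM, map_pow]; ring
      rw [this]
      exact mul_mem (str_mem B j U f) (mul_mem (pow_mem (str_mem B j U f) M) ha)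
    refine ⟨f ^ (M + N + 1), hmem, ?_⟩
    rw [X.basicOpen_pow f (Nat.succ_pos _)]
    exact hxf
  have hcov : U ≤ ⨆ f : (I : Set Γ(X, U)), X.basicOpen f.1 := by
    intro x hx
    obtain ⟨f, hfI, hxf⟩ := hI x hx
    exact Opens.mem_iSup.mpr ⟨⟨f, hfI⟩, hxf⟩
  have hspan := hU.self_le_iSup_basicOpen_iff.mp hcov
  rw [Ideal.span_eq] at hspan
  have h1 : (1 : Γ(X, U)) ∈ I := by rw [hspan]; exact Submodule.mem_top
  have h1' : (B.str.app (op U)).hom 1 * b ∈ genSubring B j U := h1
  rwa [map_one, one_mul] at h1'

theorem locSub_eq_genSubring [E.IsQuasicoherent] {U : X.Opens} (hU : IsAffineOpen U) :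
    locSub B j U = genSubring B j U := by
  apply le_antisymm
  · intro y hy
    apply mem_genSubring_of_local B j hU
    intro x hx
    obtain ⟨W, hW, hxW, hyW⟩ := hy x hx
    obtain ⟨f, hfW, hxf⟩ := hU.exists_basicOpen_le ⟨x, hxW⟩ hx
    refine ⟨f, hxf, ?_⟩
    have := res_mem B j hfW _ hyW
    rw [bres_bres] at this
    exact this
  · exact genSubring_le_locSub B j U

theorem isQC_sub [E.IsQuasicoherent] : _root_.RelSpec.IsQC (subPresheaf B j) (subStr B j) := by
  intro U hU r
  letI alg := ((subPresheaf B j).map (homOfLE (X.basicOpen_le r)).op).hom.toAlgebra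
  show IsLocalization.Away (((subStr B j).app (op U)).hom r)
    ((subPresheaf B j).obj (op (X.basicOpen r)))
  letI algB := (B.presheaf.map (homOfLE (X.basicOpen_le r)).op).hom.toAlgebra
  haveI hloc : IsLocalization.Away ((B.str.app (op U)).hom r)
      (B.presheaf.obj (op (X.basicOpen r))) := B.isQC U hU r
  have hD : IsAffineOpen (X.basicOpen r) := hU.basicOpen r
  have hnat : algebraMap ((subPresheaf B j).obj (op U)) ((subPresheaf B j).obj (op (X.basicOpen r)))
      (((subStr B j).app (op U)).hom r) =
      ((subStr B j).app (op (X.basicOpen r))).hom (rres X (X.basicOpen_le r) r) :=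
    (congrArg (fun ψ => ψ.hom r) ((subStr B j).naturality (homOfLE (X.basicOpen_le r)).op)).symm
  have hunit : IsUnit (algebraMap ((subPresheaf B j).obj (op U))
      ((subPresheaf B j).obj (op (X.basicOpen r))) (((subStr B j).app (op U)).hom r)) := by
    rw [hnat]
    exact (RingedSpace.isUnit_res_basicOpen _ r).map ((subStr B j).app (op (X.basicOpen r))).hom
  rw [IsLocalization.Away, isLocalization_iff]
  refine ⟨?_, ?_, ?_⟩
  · rintro ⟨_, n, rfl⟩
    rw [map_pow]
    exact hunit.pow n
  · intro z
    have hz : (z : locSub B j (X.basicOpen r)).1 ∈ genSubring B j (X.basicOpen r) := by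
      rw [← locSub_eq_genSubring B j hD]
      exact (z : locSub B j (X.basicOpen r)).2
    obtain ⟨a, N, ha, e⟩ := exists_pow_mul_mem B j hU r _ hz
    refine ⟨(⟨(⟨a, genSubring_le_locSub B j U ha⟩ : locSub B j U),
      ⟨((subStr B j).app (op U)).hom r ^ N, N, rfl⟩⟩), ?_⟩
    apply Subtype.ext
    show (z : locSub B j (X.basicOpen r)).1 * bres B (X.basicOpen_le r)
      (((B.str.app (op U)).hom r) ^ N) = bres B (X.basicOpen_le r) a
    rw [map_pow, mul_comm]
    exact e.symm
  · intro x y hxy
    have h1 : algebraMap (B.presheaf.obj (op U)) (B.presheaf.obj (op (X.basicOpen r)))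
        (x : locSub B j U).1 = algebraMap (B.presheaf.obj (op U))
          (B.presheaf.obj (op (X.basicOpen r))) (y : locSub B j U).1 :=
      congrArg Subtype.val hxy
    obtain ⟨n, hn⟩ := IsLocalization.Away.exists_of_eq ((B.str.app (op U)).hom r) h1
    refine ⟨⟨((subStr B j).app (op U)).hom r ^ n, n, rfl⟩, ?_⟩
    apply Subtype.ext
    exact hn

/-- the quasi-coherent subalgebra of `B` generated by (the image of) `E` -/
noncomputable def subAlg [E.IsQuasicoherent] : _root_.RelSpec.QCAlg X where
  presheaf := subPresheaf B j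
  isSheaf := isSheaf_subPresheaf B j
  str := subStr B j
  isQC := isQC_sub B j

/-- the inclusion of the generated subalgebra, as a homomorphism of algebras -/
noncomputable def subIncl [E.IsQuasicoherent] : subAlg B j ⟶ B :=
  ⟨incl B j, by ext O r; rfl⟩

theorem finiteType_sub [E.IsQuasicoherent] [E.IsFiniteType] {V : X.Opens} (hV : IsAffineOpen V) :
    ((subStr B j).app (op V)).hom.FiniteType := by
  classical
  haveI : Module.Finite Γ(X, V) Γ(E, V) := QCProps.finite_sections E hV
  obtain ⟨T, hT⟩ := (Module.Finite.fg_top : (⊤ : Submodule Γ(X, V) Γ(E, V)).FG)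
  letI alg : Algebra Γ(X, V) (locSub B j V) := ((subStr B j).app (op V)).hom.toAlgebra
  show Algebra.FiniteType Γ(X, V) (locSub B j V)
  let el : Γ(E, V) → locSub B j V := fun e =>
    ⟨jmap B j V e, genSubring_le_locSub B j V (jmap_mem B j V e)⟩
  refine ⟨⟨T.image el, ?_⟩⟩
  rw [eq_top_iff]
  rintro ⟨y, hy⟩ -
  have hel : ∀ e, el e ∈ Algebra.adjoin Γ(X, V) ((T.image el : Finset _) : Set (locSub B j V)) := by
    intro e
    have he : e ∈ Submodule.span Γ(X, V) (T : Set Γ(E, V)) := by rw [hT]; trivial
    induction he using Submodule.span_induction with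
    | mem x hx => exact Algebra.subset_adjoin (Finset.mem_coe.mpr (Finset.mem_image_of_mem el hx))
    | zero =>
      have : el 0 = 0 := Subtype.ext (jmap_zero B j V)
      rw [this]; exact zero_mem _
    | add x y _ _ hx hy =>
      have : el (x + y) = el x + el y := Subtype.ext (jmap_add B j V x y)
      rw [this]; exact add_mem hx hy
    | smul a x _ hx =>
      have : el (a • x) = a • el x := by
        rw [Algebra.smul_def]
        exact Subtype.ext (jmap_smul B j V a x)
      rw [this]; exact Subalgebra.smul_mem _ hx a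
  have hy' : y ∈ genSubring B j V := by rw [← locSub_eq_genSubring B j hV]; exact hy
  have hle : genSubring B j V ≤
      (Algebra.adjoin Γ(X, V) ((T.image el : Finset _) : Set (locSub B j V))).toSubring.map
        (locSub B j V).subtype := by
    apply Subring.closure_le.mpr
    rintro x (⟨r, rfl⟩ | ⟨e, rfl⟩)
    · exact Subring.mem_map.mpr ⟨algebraMap Γ(X, V) (locSub B j V) r,
        Subalgebra.algebraMap_mem _ r, rfl⟩
    · exact Subring.mem_map.mpr ⟨el e, hel e, rfl⟩
  obtain ⟨z, hz, hzy⟩ := Subring.mem_map.mp (hle hy')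
  have hzz : z = ⟨y, hy⟩ := Subtype.ext hzy
  rw [← hzz]; exact hz

/-- **EGA I 9.6.6 (sectionwise core)**: the quasi-coherent subalgebra generated by a
quasi-coherent module of finite type mapping to `B` is of finite type and contains the images of
the sections of `E`. -/
theorem exists_subalgebra [E.IsQuasicoherent] [E.IsFiniteType] :
    ∃ (B' : _root_.RelSpec.QCAlg X) (φ : B' ⟶ B),
      (∀ V : X.Opens, Function.Injective (φ.hom.app (op V)).hom) ∧
      (∀ V : X.affineOpens, (B'.str.app (op (V : X.Opens))).hom.FiniteType) ∧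
      ∀ (O : X.Opens) (e : Γ(E, O)), jmap B j O e ∈ Set.range (φ.hom.app (op O)).hom := by
  refine ⟨subAlg B j, subIncl B j, ?_, ?_, ?_⟩
  · intro V a b hab
    exact Subtype.ext hab
  · intro V
    exact finiteType_sub B j V.2
  · intro O e
    exact ⟨(⟨jmap B j O e, genSubring_le_locSub B j O (jmap_mem B j O e)⟩ : locSub B j O), rfl⟩

end Groth.Agent.Lib.Helper3.QCAlgSub
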