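import Groth.Agent.Lib.Helper3.GrProj
import Groth.Agent.Lib.Helper3.QCPush
import Groth.Agent.Lib.Helper3.RelSpecQC
import Groth.Agent.Lib.Helper3.QCAlgSub
import Groth.Prelude.Def_RelProj4

/-!
# The direct image of a quasi-coherent graded algebra along a quasi-compact quasi-separated
morphism, as a quasi-coherent graded algebra
-/

set_option autoImplicit false
set_option linter.unusedSectionVars false
universe u
open CategoryTheory CategoryTheory.Limits AlgebraicGeometry TopologicalSpace Opposite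
open Scheme.Modules

namespace Groth.Agent.Lib.Helper3.PushGr

open QCSec QCAlgGen QCAlgSub

section alg

variable {X Y : Scheme.{u}} (f : X ⟶ Y) (B : _root_.RelSpec.QCAlg X)

/-- the structure map of the direct image algebra -/
noncomputable def pushStr : Y.presheaf ⟶ f.base _* B.presheaf :=
  f.c ≫ (TopCat.Presheaf.pushforward CommRingCat.{u} f.base).map B.str

theorem pushStr_app (U : Y.Opens) (r : Γ(Y, U)) :
    ((pushStr f B).app (op U)).hom r = (B.str.app (op (f ⁻¹ᵁ U))).hom (f.app U r) := rfl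

variable [QuasiCompact f] [QuasiSeparated f]

set_option backward.isDefEq.respectTransparency false in
theorem isQC_push : _root_.RelSpec.IsQC (f.base _* B.presheaf) (pushStr f B) := by
  intro U hU r
  letI alg := ((f.base _* B.presheaf).map (homOfLE (Y.basicOpen_le r)).op).hom.toAlgebra
  show IsLocalization.Away (((pushStr f B).app (op U)).hom r)
    ((f.base _* B.presheaf).obj (op (Y.basicOpen r)))
  haveI : B.toModule.IsQuasicoherent := isQuasicoherent_toModule B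
  have hpre : f ⁻¹ᵁ (Y.basicOpen r) ≤ f ⁻¹ᵁ U := f.preimage_mono (Y.basicOpen_le r)
  have hloc : IsLocSec B.toModule (f ⁻¹ᵁ U) (f ⁻¹ᵁ (Y.basicOpen r)) hpre (f.app U r) :=
    isLocSec_of_isCompact B.toModule (f.isCompact_preimage hU.isCompact)
      (f.isQuasiSeparated_preimage hU.isQuasiSeparated) (f.app U r)
      (Scheme.preimage_basicOpen f r) hpre
  have e1 : f.app (Y.basicOpen r) (rres Y (Y.basicOpen_le r) r) = rres X hpre (f.app U r) :=
    congr($(f.naturality (homOfLE (Y.basicOpen_le r)).op) r)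
  let φU : Γ(Y, U) →+* B.presheaf.obj (op (f ⁻¹ᵁ U)) := ((pushStr f B).app (op U)).hom
  let φV : Γ(Y, Y.basicOpen r) →+* B.presheaf.obj (op (f ⁻¹ᵁ (Y.basicOpen r))) :=
    ((pushStr f B).app (op (Y.basicOpen r))).hom
  have hφU : ∀ a, φU a = (B.str.app (op (f ⁻¹ᵁ U))).hom (f.app U a) := fun a => rfl
  have hφV : ∀ a, φV a = (B.str.app (op (f ⁻¹ᵁ (Y.basicOpen r)))).hom (f.app (Y.basicOpen r) a) :=
    fun a => rfl
  have hnat : ∀ a, (B.presheaf.map (homOfLE hpre).op).hom (φU a) =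
      φV ((Y.presheaf.map (homOfLE (Y.basicOpen_le r)).op).hom a) := by
    intro a
    exact (congr($((pushStr f B).naturality (homOfLE (Y.basicOpen_le r)).op) a)).symm
  have hunit : IsUnit ((Y.presheaf.map (homOfLE (Y.basicOpen_le r)).op).hom r) :=
    RingedSpace.isUnit_res_basicOpen _ r
  have hsurj : ∀ z : B.presheaf.obj (op (f ⁻¹ᵁ (Y.basicOpen r))),
      ∃ (n : ℕ) (s : B.presheaf.obj (op (f ⁻¹ᵁ U))), (B.presheaf.map (homOfLE hpre).op).hom s =
        φV ((Y.presheaf.map (homOfLE (Y.basicOpen_le r)).op).hom r ^ n) * z := by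
    intro z
    obtain ⟨n, s, hs⟩ := hloc.surj (toS B _ z)
    refine ⟨n, ofS B _ s, ?_⟩
    have h := congrArg (ofS B _) hs
    rw [hφV, map_pow, e1]
    exact h
  have hinj : ∀ s : B.presheaf.obj (op (f ⁻¹ᵁ U)), (B.presheaf.map (homOfLE hpre).op).hom s = 0 →
      ∃ n : ℕ, φU (r ^ n) * s = 0 := by
    intro s hs
    obtain ⟨n, hn⟩ := hloc.inj (toS B _ s) hs
    refine ⟨n, ?_⟩
    rw [hφU, map_pow]
    exact congrArg (ofS B _) hn
  obtain ⟨h1, h2, h3⟩ := RelSpec.loc_core_abs (R := Γ(Y, U)) (R' := Γ(Y, Y.basicOpen r))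
    (A := B.presheaf.obj (op (f ⁻¹ᵁ U))) (A' := B.presheaf.obj (op (f ⁻¹ᵁ (Y.basicOpen r))))
    φU φV (Y.presheaf.map (homOfLE (Y.basicOpen_le r)).op).hom
    (B.presheaf.map (homOfLE hpre).op).hom r hnat hunit hsurj hinj
  refine (isLocalization_iff _ _).mpr ⟨?_, ?_, ?_⟩
  · rintro ⟨_, n, rfl⟩
    exact h1 n
  · intro z
    obtain ⟨b, n, hb⟩ := h2 z
    exact ⟨⟨b, ⟨_, n, rfl⟩⟩, hb⟩
  · intro a b hab
    obtain ⟨n, hn⟩ := h3 a b hab
    exact ⟨⟨_, n, rfl⟩, hn⟩

/-- the direct image of a quasi-coherent algebra -/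
noncomputable def pushAlg : _root_.RelSpec.QCAlg Y where
  presheaf := f.base _* B.presheaf
  isSheaf := TopCat.Sheaf.pushforward_sheaf_of_sheaf _ B.isSheaf
  str := pushStr f B
  isQC := isQC_push f B

end alg

section gr

variable {X : Scheme.{u}} (𝒮L : RelProj.QCGrAlg X)

/-- sections over an arbitrary open which are homogeneous of degree `d` over all affine opens -/
def degW (W : X.Opens) (d : ℕ) : AddSubgroup (𝒮L.presheaf.obj (op W)) where
  carrier := {x | ∀ (V : X.Opens) (hV : IsAffineOpen V) (hVW : V ≤ W),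
    bres 𝒮L.toQCAlg hVW x ∈ 𝒮L.deg V hV d}
  zero_mem' := fun V hV hVW => by
    rw [map_zero]
    exact zero_mem _
  add_mem' := fun ha hb V hV hVW => by
    rw [map_add]
    exact add_mem (ha V hV hVW) (hb V hV hVW)
  neg_mem' := fun ha V hV hVW => by
    rw [map_neg]
    exact neg_mem (ha V hV hVW)

theorem mem_degW {W : X.Opens} {d : ℕ} {x : 𝒮L.presheaf.obj (op W)} :
    x ∈ degW 𝒮L W d ↔ ∀ (V : X.Opens) (hV : IsAffineOpen V) (hVW : V ≤ W),
      bres 𝒮L.toQCAlg hVW x ∈ 𝒮L.deg V hV d := Iff.rfl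

instance gradedMonoid_degW (W : X.Opens) : SetLike.GradedMonoid (degW 𝒮L W) where
  one_mem := fun V hV hVW => by
    rw [map_one]
    exact SetLike.GradedOne.one_mem
  mul_mem := fun _ _ _ _ ha hb V hV hVW => by
    rw [map_mul]
    exact SetLike.GradedMul.mul_mem (ha V hV hVW) (hb V hV hVW)

/-- the projection onto the degree `d` component -/
noncomputable def pr (d : ℕ) : 𝒮L.toQCAlg.toModule ⟶ 𝒮L.toQCAlg.toModule :=
  (GrProj.exists_proj 𝒮L d).choose

theorem pr_spec (d : ℕ) (U : X.Opens) (hU : IsAffineOpen U) (s : Γ(𝒮L.toQCAlg.toModule, U)) :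
    ofS 𝒮L.toQCAlg U ((pr 𝒮L d).app U s) =
      (DirectSum.decompose (𝒮L.deg U hU) (ofS 𝒮L.toQCAlg U s) d : 𝒮L.presheaf.obj (op U)) :=
  (GrProj.exists_proj 𝒮L d).choose_spec U hU s

/-- the degree `d` component of a section over an arbitrary open -/
noncomputable def comp (W : X.Opens) (d : ℕ) (x : 𝒮L.presheaf.obj (op W)) :
    𝒮L.presheaf.obj (op W) :=
  ofS 𝒮L.toQCAlg W ((pr 𝒮L d).app W (toS 𝒮L.toQCAlg W x))

theorem comp_add (W : X.Opens) (d : ℕ) (x y : 𝒮L.presheaf.obj (op W)) :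
    comp 𝒮L W d (x + y) = comp 𝒮L W d x + comp 𝒮L W d y := by
  show ofS _ W (((pr 𝒮L d).app W).hom (toS _ W x + toS _ W y)) = _
  rw [map_add]
  rfl

theorem comp_zero (W : X.Opens) (d : ℕ) : comp 𝒮L W d 0 = 0 := by
  show ofS _ W (((pr 𝒮L d).app W).hom 0) = _
  rw [map_zero]
  rfl

theorem comp_res {W W' : X.Opens} (h : W' ≤ W) (d : ℕ) (x : 𝒮L.presheaf.obj (op W)) :
    bres 𝒮L.toQCAlg h (comp 𝒮L W d x) = comp 𝒮L W' d (bres 𝒮L.toQCAlg h x) :=
  (QCExact.app_res' (pr 𝒮L d) h (toS 𝒮L.toQCAlg W x)).symm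

theorem comp_affine {V : X.Opens} (hV : IsAffineOpen V) (d : ℕ) (x : 𝒮L.presheaf.obj (op V)) :
    comp 𝒮L V d x = (DirectSum.decompose (𝒮L.deg V hV) x d : 𝒮L.presheaf.obj (op V)) :=
  pr_spec 𝒮L d V hV (toS 𝒮L.toQCAlg V x)

theorem comp_mem (W : X.Opens) (d : ℕ) (x : 𝒮L.presheaf.obj (op W)) :
    comp 𝒮L W d x ∈ degW 𝒮L W d := by
  intro V hV hVW
  rw [comp_res, comp_affine 𝒮L hV]
  exact SetLike.coe_mem _

/-- sections of `𝒮L` agreeing on all affine opens are equal -/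
theorem ext_cover {W : X.Opens} {ι : Type*} (V : ι → X.Opens) (hVW : ∀ i, V i ≤ W)
    (hcov : W ≤ ⨆ i, V i) (x y : 𝒮L.presheaf.obj (op W))
    (h : ∀ i, bres 𝒮L.toQCAlg (hVW i) x = bres 𝒮L.toQCAlg (hVW i) y) : x = y := by
  have h0 : toS 𝒮L.toQCAlg W (x - y) = 0 := by
    refine ModBasis.eq_zero_of_locally_zero _ W _ (fun p hp => ?_)
    obtain ⟨i, hpi⟩ := Opens.mem_iSup.mp (hcov hp)
    refine ⟨V i, hVW i, hpi, ?_⟩
    show toS _ (V i) (bres 𝒮L.toQCAlg (hVW i) (x - y)) = 0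
    rw [map_sub, h i, sub_self]
    rfl
  exact sub_eq_zero.mp h0

theorem ext_affine {W : X.Opens} (x y : 𝒮L.presheaf.obj (op W))
    (h : ∀ (V : X.Opens) (_ : IsAffineOpen V) (hVW : V ≤ W),
      bres 𝒮L.toQCAlg hVW x = bres 𝒮L.toQCAlg hVW y) : x = y := by
  refine ext_cover 𝒮L (ι := {V : X.Opens // IsAffineOpen V ∧ V ≤ W}) (fun V => V.1)
    (fun V => V.2.2) ?_ x y (fun V => h V.1 V.2.1 V.2.2)
  intro p hp
  obtain ⟨V, hV, hpV, hVW⟩ := Opens.isBasis_iff_nbhd.mp X.isBasis_affineOpens hp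
  exact Opens.mem_iSup.mpr ⟨⟨V, hV, hVW⟩, hpV⟩

theorem comp_of_mem {W : X.Opens} {d : ℕ} {x : 𝒮L.presheaf.obj (op W)}
    (hx : x ∈ degW 𝒮L W d) : comp 𝒮L W d x = x := by
  refine ext_affine 𝒮L _ _ (fun V hV hVW => ?_)
  rw [comp_res, comp_affine 𝒮L hV, DirectSum.decompose_of_mem_same _ (hx V hV hVW)]

theorem comp_of_mem_ne {W : X.Opens} {d e : ℕ} {x : 𝒮L.presheaf.obj (op W)}
    (hx : x ∈ degW 𝒮L W d) (hde : d ≠ e) : comp 𝒮L W e x = 0 := by
  refine ext_affine 𝒮L _ _ (fun V hV hVW => ?_)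
  rw [comp_res, comp_affine 𝒮L hV, DirectSum.decompose_of_mem_ne _ (hx V hV hVW) hde, map_zero]

theorem exists_finset_comp (W : X.Opens) (hW : IsCompact (W : Set X))
    (x : 𝒮L.presheaf.obj (op W)) :
    ∃ T : Finset ℕ, (∀ d ∉ T, comp 𝒮L W d x = 0) ∧ ∑ d ∈ T, comp 𝒮L W d x = x := by
  classical
  obtain ⟨ι, hι, V, hV, hVW, hcov⟩ := QCSec.exists_finite_affine_cover W hW
  haveI := Fintype.ofFinite ι
  let T : Finset ℕ := Finset.univ.biUnion
    (fun i => (DirectSum.decompose (𝒮L.deg (V i) (hV i)) (bres 𝒮L.toQCAlg (hVW i) x)).support)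
  have hsub : ∀ i, (DirectSum.decompose (𝒮L.deg (V i) (hV i))
      (bres 𝒮L.toQCAlg (hVW i) x)).support ⊆ T :=
    fun i d hd => Finset.mem_biUnion.mpr ⟨i, Finset.mem_univ _, hd⟩
  refine ⟨T, fun d hd => ?_, ?_⟩
  · refine ext_cover 𝒮L V hVW hcov _ _ (fun i => ?_)
    rw [comp_res, comp_affine 𝒮L (hV i), map_zero]
    have h1 : d ∉ (DirectSum.decompose (𝒮L.deg (V i) (hV i))
        (bres 𝒮L.toQCAlg (hVW i) x)).support := fun h => hd (hsub i h)
    rw [DFinsupp.notMem_support_iff] at h1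
    rw [h1]
    rfl
  · refine ext_cover 𝒮L V hVW hcov _ _ (fun i => ?_)
    rw [map_sum]
    simp only [comp_res, comp_affine 𝒮L (hV i)]
    refine Eq.trans ?_ (DirectSum.sum_support_decompose (𝒮L.deg (V i) (hV i))
      (bres 𝒮L.toQCAlg (hVW i) x))
    symm
    refine Finset.sum_subset (hsub i) (fun d _ hd => ?_)
    rw [DFinsupp.notMem_support_iff] at hd
    rw [hd]
    rfl

theorem isInternal_degW (W : X.Opens) (hW : IsCompact (W : Set X)) :
    DirectSum.IsInternal (degW 𝒮L W) := by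
  classical
  have hcomp : ∀ (z : DirectSum ℕ (fun i => degW 𝒮L W i)) (e : ℕ),
      comp 𝒮L W e (DirectSum.coeAddMonoidHom (degW 𝒮L W) z) =
        ((z e : degW 𝒮L W e) : 𝒮L.presheaf.obj (op W)) := by
    intro z e
    induction z using DirectSum.induction_on with
    | zero =>
      rw [map_zero, comp_zero]
      rfl
    | of k x =>
      rw [DirectSum.coeAddMonoidHom_of]
      by_cases hke : k = e
      · subst hke
        rw [comp_of_mem 𝒮L x.2, DirectSum.of_eq_same]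
      · rw [comp_of_mem_ne 𝒮L x.2 hke, DirectSum.of_eq_of_ne _ _ _ (fun h => hke h.symm)]
        rfl
    | add z z' hz hz' =>
      rw [map_add, comp_add, hz, hz', DirectSum.add_apply]
      rfl
  constructor
  · intro z z' h
    refine DFinsupp.ext (fun i => Subtype.ext ?_)
    rw [← hcomp z i, ← hcomp z' i, h]
  · intro x
    obtain ⟨T, -, hTsum⟩ := exists_finset_comp 𝒮L W hW x
    refine ⟨∑ d ∈ T, DirectSum.of (fun i => degW 𝒮L W i) d
      ⟨comp 𝒮L W d x, comp_mem 𝒮L W d x⟩, ?_⟩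
    rw [map_sum]
    simp only [DirectSum.coeAddMonoidHom_of]
    exact hTsum

/-- the grading of the sections over a quasi-compact open -/
@[instance_reducible]
noncomputable def gradedDegW (W : X.Opens) (hW : IsCompact (W : Set X)) :
    GradedRing (degW 𝒮L W) :=
  { gradedMonoid_degW 𝒮L W, (isInternal_degW 𝒮L W hW).chooseDecomposition with }

variable {Y : Scheme.{u}} (f : X ⟶ Y) [QuasiCompact f] [QuasiSeparated f]

/-- the direct image of a quasi-coherent graded algebra -/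
noncomputable def pushGr : RelProj.QCGrAlg Y where
  toQCAlg := pushAlg f 𝒮L.toQCAlg
  deg U hU d := degW 𝒮L (f ⁻¹ᵁ U) d
  graded U hU := gradedDegW 𝒮L (f ⁻¹ᵁ U) (f.isCompact_preimage hU.isCompact)
  map_mem := fun {U V} hU hV i {d x} hx W hW hWV => by
    show bres 𝒮L.toQCAlg hWV (bres 𝒮L.toQCAlg (f.preimage_mono i) x) ∈ _
    rw [bres_bres]
    exact hx W hW _
  str_mem := fun U hU r W hW hWU => by
    show bres 𝒮L.toQCAlg hWU ((𝒮L.str.app (op (f ⁻¹ᵁ U))).hom (f.app U r)) ∈ _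
    rw [← str_res 𝒮L.toQCAlg hWU]
    exact 𝒮L.str_mem W hW _

/-- the canonical graded `f`-morphism `f_*𝒮L → 𝒮L` -/
noncomputable def pushU : RelProj.QGrHom f (pushGr 𝒮L f) 𝒮L where
  toQHom :=
    { app := fun U => 𝟙 (𝒮L.presheaf.obj (op (f ⁻¹ᵁ U)))
      naturality := fun {U V} i => by
        show 𝟙 (𝒮L.presheaf.obj (op (f ⁻¹ᵁ U))) ≫
            𝒮L.presheaf.map (homOfLE (f.preimage_mono i)).op =
          𝒮L.presheaf.map (homOfLE (f.preimage_mono i)).op ≫ 𝟙 _
        rw [Category.id_comp, Category.comp_id]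
      str_app := fun U => by
        show (f.app U ≫ 𝒮L.str.app (op (f ⁻¹ᵁ U))) ≫ 𝟙 _ = _
        rw [Category.comp_id] }
  map_mem := fun U hU U' hU' hle {d x} hx => hx U' hU' hle

theorem pushU_bijective (U : Y.Opens) : Function.Bijective ((pushU 𝒮L f).app U).hom :=
  Function.bijective_id

end gr

end Groth.Agent.Lib.Helper3.PushGr
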