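import Groth.Agent.Lib.Helper3.RLPsiInv
import Groth.Agent.Lib.Helper3.RelProjMap
import Groth.Agent.Lib.Helper3.AwayBC
import Groth.Agent.S12144
import Groth.Agent.S12145

/-!
# Criteria for `r_{L,ψ}` to be an immersion / open immersion / closed immersion
-/

set_option autoImplicit false
set_option linter.unusedSectionVars false
universe u
open CategoryTheory CategoryTheory.Limits AlgebraicGeometry TopologicalSpace Opposite
open scoped HomogeneousIdeal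

namespace Groth.Agent.Lib.Helper3.RLPsiImm

open HomogeneousLocalization ProjQMap Groth.Agent.Lib.Helper3.AwayBC

section generic

theorem surjective_of_isClosedImmersion_SpecMap {R S : CommRingCat.{u}} (f : R ⟶ S)
    [IsClosedImmersion (Spec.map f)] : Function.Surjective f.hom := by
  have h := (IsClosedImmersion.isAffine_surjective_of_isAffine (Spec.map f)).2
  have e : f = (Scheme.ΓSpecIso R).inv ≫ (Spec.map f).appTop ≫ (Scheme.ΓSpecIso S).hom := by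
    rw [← Category.assoc, ← Scheme.ΓSpecIso_inv_naturality, Category.assoc, Iso.inv_hom_id,
      Category.comp_id]
  have h2 : Function.Surjective
      ((Scheme.ΓSpecIso R).inv ≫ (Spec.map f).appTop ≫ (Scheme.ΓSpecIso S).hom).hom := by
    simp only [CommRingCat.hom_comp, RingHom.coe_comp]
    exact ((ConcreteCategory.bijective_of_isIso (Scheme.ΓSpecIso S).hom).2).comp
      (h.comp (ConcreteCategory.bijective_of_isIso (Scheme.ΓSpecIso R).inv).2)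
  intro s
  obtain ⟨t, ht⟩ := h2 s
  exact ⟨t, (congrArg (fun g => g.hom t) e).trans ht⟩

theorem isIso_ι_of_eq_top {P : Scheme.{u}} (O : P.Opens) (h : O = ⊤) : IsIso O.ι := by
  subst h
  exact (inferInstance : IsIso (Scheme.topIso P).hom)

/-- a morphism which over charts covering its source is of type `Q` (local at the target)
factors through the union of the charts by a morphism of type `Q`. -/
theorem exists_lift_of_charts (Q : MorphismProperty Scheme.{u}) [IsZariskiLocalAtTarget Q]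
    {X Y : Scheme.{u}} (f : X ⟶ Y) {J : Type u}
    (Yo Xo : J → Scheme.{u}) (c : ∀ a, Yo a ⟶ Y) [∀ a, IsOpenImmersion (c a)]
    (l : ∀ a, Xo a ⟶ X) [∀ a, IsOpenImmersion (l a)] (θ : ∀ a, Xo a ⟶ Yo a)
    (D : J → Y.Opens) (hD : ∀ a, (c a).opensRange = D a)
    (hθ : ∀ a, Q (θ a))
    (hcomm : ∀ a, l a ≫ f = θ a ≫ c a)
    (hpre : ∀ a, f ⁻¹ᵁ D a = (l a).opensRange)
    (hcov : ∀ x : X, ∃ a y, l a y = x) :
    ∃ fO : X ⟶ ((⨆ a, D a : Y.Opens) : Scheme.{u}),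
      fO ≫ (⨆ a, D a : Y.Opens).ι = f ∧ Q fO := by
  have hfO : Set.range f ⊆ Set.range (⨆ a, D a : Y.Opens).ι := by
    rw [Scheme.Opens.range_ι]
    rintro _ ⟨x, rfl⟩
    obtain ⟨a, y, rfl⟩ := hcov x
    refine Opens.mem_iSup.mpr ⟨a, ?_⟩
    rw [← hD a, ← Scheme.Hom.comp_apply, hcomm a, Scheme.Hom.comp_apply]
    exact ⟨_, rfl⟩
  obtain ⟨fO, hfac⟩ : ∃ fO : X ⟶ ((⨆ a, D a : Y.Opens) : Scheme.{u}),
      fO ≫ (⨆ a, D a : Y.Opens).ι = f :=
    ⟨IsOpenImmersion.lift _ _ hfO, IsOpenImmersion.lift_fac _ _ _⟩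
  have hcO : ∀ a, Set.range (c a) ⊆ Set.range (⨆ a, D a : Y.Opens).ι := by
    intro a
    rw [Scheme.Opens.range_ι]
    rintro _ ⟨y, rfl⟩
    refine Opens.mem_iSup.mpr ⟨a, ?_⟩
    rw [← hD a]
    exact ⟨y, rfl⟩
  choose cO hcfac using fun a =>
    (⟨IsOpenImmersion.lift _ _ (hcO a), IsOpenImmersion.lift_fac _ _ _⟩ :
      ∃ g : Yo a ⟶ ((⨆ a, D a : Y.Opens) : Scheme.{u}), g ≫ (⨆ a, D a : Y.Opens).ι = c a)
  haveI : ∀ a, IsOpenImmersion (cO a) := fun a => by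
    haveI : IsOpenImmersion (cO a ≫ (⨆ a, D a : Y.Opens).ι) := by
      rw [hcfac]
      infer_instance
    exact IsOpenImmersion.of_comp (cO a) (⨆ a, D a : Y.Opens).ι
  have hcovO : ∀ z : ((⨆ a, D a : Y.Opens) : Scheme.{u}), ∃ a y, cO a y = z := by
    intro z
    obtain ⟨a, ha⟩ := Opens.mem_iSup.mp z.2
    rw [← hD a] at ha
    obtain ⟨y, hy⟩ := ha
    refine ⟨a, y, (⨆ a, D a : Y.Opens).ι.isOpenEmbedding.injective ?_⟩
    rw [← Scheme.Hom.comp_apply, hcfac]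
    exact hy
  refine ⟨fO, hfac, ?_⟩
  refine RelProjMap.of_cover_isPullback (P := Q)
    (Scheme.Cover.mkOfCovers J Yo cO hcovO (fun a => inferInstance)) Xo l θ
    (fun (a : J) => ?_) hθ
  refine (IsOpenImmersion.isPullback (θ a) (l a) (cO a) fO ?_ ?_).flip
  · rw [← cancel_mono (⨆ a, D a : Y.Opens).ι, Category.assoc, Category.assoc, hfac, hcfac, hcomm]
  · have e1 : D a = (⨆ a, D a : Y.Opens).ι ''ᵁ (cO a).opensRange := by
      rw [← hD a]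
      ext x
      constructor
      · rintro ⟨y, rfl⟩
        exact ⟨cO a y, ⟨y, rfl⟩, congrArg (fun g : Yo a ⟶ Y => g y) (hcfac a)⟩
      · rintro ⟨_, ⟨y, rfl⟩, rfl⟩
        exact ⟨y, (congrArg (fun g : Yo a ⟶ Y => g y) (hcfac a)).symm⟩
    have e2 : f ⁻¹ᵁ D a = fO ⁻¹ᵁ (cO a).opensRange := by
      rw [e1, ← hfac, Scheme.Hom.comp_preimage, Scheme.Hom.preimage_image_eq]
    rw [← e2, hpre]

end generic

section alg
variable {B A R : Type u} [CommRing B] [CommRing A] [CommRing R] {ℬ : ℕ → AddSubgroup B}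
  {𝒜 : ℕ → AddSubgroup A} [GradedRing ℬ] [GradedRing 𝒜] (φ : ℬ →+*ᵍ 𝒜) {n : ℕ} {s : B}
  (hs : s ∈ ℬ n) (str : R →+* A) (h0 : ∀ t, str t ∈ 𝒜 0)

include hs in
theorem awayMap_surjective_of (hθ : Function.Surjective (awayStruct 𝒜 (φ s) str h0))
    (h3 : ∀ t : R, ∃ (m : ℕ) (_ : 0 < m) (s' : B) (_ : s' ∈ ℬ (m * n)),
      str t * (φ s) ^ m = φ s') :
    Function.Surjective (Away.map φ s) := by
  intro ξ
  obtain ⟨t, rfl⟩ := hθ ξ
  obtain ⟨m, hm, s', hs', heq⟩ := h3 t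
  have hs'' : s' ∈ ℬ (m • n) := by rwa [smul_eq_mul]
  refine ⟨Away.mk ℬ hs m s' hs'', ?_⟩
  rw [Away.map_mk]
  apply HomogeneousLocalization.val_injective
  rw [Away.val_mk, awayStruct_val, Localization.mk_eq_mk_iff, Localization.r_iff_exists]
  refine ⟨1, ?_⟩
  show (1 : A) * (1 * φ s') = 1 * ((φ s) ^ m * str t)
  rw [← heq]
  ring

include hs h0 in
theorem iii_of_surjective (hsurj : Function.Surjective (Away.map φ s)) (t : R) :
    ∃ (m : ℕ) (_ : 0 < m) (s' : B) (_ : s' ∈ ℬ (m * n)), str t * (φ s) ^ m = φ s' := by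
  obtain ⟨ξ, hξ⟩ := hsurj (awayStruct 𝒜 (φ s) str h0 t)
  obtain ⟨m, s', hs', rfl⟩ := Away.mk_surjective ℬ hs ξ
  rw [Away.map_mk] at hξ
  have h1 := congrArg HomogeneousLocalization.val hξ
  rw [Away.val_mk, awayStruct_val, Localization.mk_eq_mk_iff, Localization.r_iff_exists] at h1
  obtain ⟨⟨_, N, rfl⟩, hN⟩ := h1
  have hN' : (φ s) ^ N * φ s' = (φ s) ^ N * ((φ s) ^ m * str t) := by
    simpa using hN
  refine ⟨N + m + 1, by omega, s ^ (N + 1) * s', ?_, ?_⟩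
  · have h2 := SetLike.mul_mem_graded (SetLike.pow_mem_graded (N + 1) hs) hs'
    have e : (N + 1) • n + m • n = (N + m + 1) * n := by
      simp only [smul_eq_mul]
      ring
    rwa [e] at h2
  · rw [map_mul, map_pow]
    calc str t * (φ s) ^ (N + m + 1) = (φ s) * ((φ s) ^ N * ((φ s) ^ m * str t)) := by ring
      _ = (φ s) * ((φ s) ^ N * φ s') := by rw [hN']
      _ = (φ s) ^ (N + 1) * φ s' := by ring

include hs in
theorem vi_of_injective (hinj : Function.Injective (Away.map φ s)) (m : ℕ) (s' : B)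
    (hs' : s' ∈ ℬ (m * n)) (h : φ s' = 0) : ∃ k, 0 < k ∧ s ^ k * s' = 0 := by
  have hs'' : s' ∈ ℬ (m • n) := by rwa [smul_eq_mul]
  have h1 : Away.map φ s (Away.mk ℬ hs m s' hs'') = 0 := by
    rw [Away.map_mk]
    exact (awayMk_congr 𝒜 _ m h _ (zero_mem _)).trans (awayMk_zero 𝒜 _ m _)
  have h2 : Away.mk ℬ hs m s' hs'' = 0 := hinj (h1.trans (map_zero _).symm)
  obtain ⟨N, hN⟩ := awayMk_eq_zero ℬ hs m hs'' h2
  exact ⟨N + 1, by omega, by rw [pow_succ, mul_right_comm, hN, zero_mul]⟩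

include hs in
theorem injective_of_vi
    (h6 : ∀ m, 0 < m → ∀ s' ∈ ℬ (m * n), φ s' = 0 → ∃ k, 0 < k ∧ s ^ k * s' = 0) :
    Function.Injective (Away.map φ s) := by
  rw [injective_iff_map_eq_zero]
  intro ξ hξ
  obtain ⟨m, s', hs', rfl⟩ := Away.mk_surjective ℬ hs ξ
  rw [Away.map_mk] at hξ
  obtain ⟨N, hN⟩ := awayMk_eq_zero 𝒜 _ m _ hξ
  have hdeg : s ^ (N + 1) * s' ∈ ℬ ((N + 1 + m) * n) := by
    have h2 := SetLike.mul_mem_graded (SetLike.pow_mem_graded (N + 1) hs) hs'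
    have e : (N + 1) • n + m • n = (N + 1 + m) * n := by
      simp only [smul_eq_mul]
      ring
    rwa [e] at h2
  have hz : φ (s ^ (N + 1) * s') = 0 := by
    rw [map_mul, map_pow, pow_succ, mul_right_comm, hN, zero_mul]
  obtain ⟨k, hk, hk0⟩ := h6 (N + 1 + m) (by omega) _ hdeg hz
  apply HomogeneousLocalization.val_injective
  rw [Away.val_mk, HomogeneousLocalization.val_zero, Localization.mk_eq_mk',
    IsLocalization.mk'_eq_zero_iff]
  refine ⟨⟨s ^ (k + (N + 1)), _, rfl⟩, ?_⟩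
  show s ^ (k + (N + 1)) * s' = 0
  rw [pow_add, mul_assoc]
  exact hk0

end alg

section main
variable {Y X P PL : Scheme.{u}} {q : X ⟶ Y} {L : X.Modules}
  {𝒮 : RelProj.QCGrAlg Y} {𝒮L : RelProj.QCGrAlg X} {j : L ⟶ 𝒮L.toModule}
  (u : RelProj.QGrHom q 𝒮 𝒮L)
  {p : P ⟶ Y} {chart : ∀ (U : Y.Opens) (hU : IsAffineOpen U),
    (((p ⁻¹ᵁ U : P.Opens) : Scheme.{u}) ≅ Proj (𝒮.deg U hU))}
  {pL : PL ⟶ X} {chartL : ∀ (U : X.Opens) (hU : IsAffineOpen U),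
    (((pL ⁻¹ᵁ U : PL.Opens) : Scheme.{u}) ≅ Proj (𝒮L.deg U hU))}
  (r : ((RelProj.domQ u pL chartL : PL.Opens) : Scheme.{u}) ⟶ P)

instance isOpenImmersion_awayEmb' (U : Y.Opens) (hU : IsAffineOpen U) (U' : X.Opens)
    (hU' : IsAffineOpen U') (hle : U' ≤ q ⁻¹ᵁ U) {d : ℕ} (hd : 0 < d) (g : 𝒮.presheaf.obj (op U))
    (hg : g ∈ 𝒮.deg U hU d) :
    IsOpenImmersion (RelProj.awayEmb u pL chartL U hU U' hU' hle hd g hg) := by
  unfold RelProj.awayEmb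
  infer_instance

instance isOpenImmersion_lft' (U : Y.Opens) (hU : IsAffineOpen U) (U' : X.Opens)
    (hU' : IsAffineOpen U') (hle : U' ≤ q ⁻¹ᵁ U) {d : ℕ} (hd : 0 < d) (g : 𝒮.presheaf.obj (op U))
    (hg : g ∈ 𝒮.deg U hU d) :
    IsOpenImmersion (RLPsi.lft u pL chartL U hU U' hU' hle hd g hg) :=
  RLPsi.isOpenImmersion_lft u U hU U' hU' hle hd g hg

theorem le_top' (V : X.Opens) : V ≤ q ⁻¹ᵁ (⊤ : Y.Opens) :=
  le_top.trans (Scheme.Hom.preimage_top q).ge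

/-- the open `X_{u(s)}` -/
abbrev XF (n : ℕ) (s : 𝒮.presheaf.obj (op ⊤)) : X.Opens :=
  ⨆ V : {V : X.affineOpens //
      ((𝒮L.deg V.1 V.2 n : AddSubgroup (𝒮L.presheaf.obj (op (V.1 : X.Opens)))) :
        Set (𝒮L.presheaf.obj (op (V.1 : X.Opens)))) ⊆
        (Ideal.span {(u.appLE ⊤ (V.1 : X.Opens)
          (le_top.trans (Scheme.Hom.preimage_top q).ge)).hom s} :
            Set (𝒮L.presheaf.obj (op (V.1 : X.Opens))))},
    (V.1.1 : X.Opens)

variable (hL : PicF.IsInvertible L) (hLq : Coh.IsQCoh L) (hj : RelProj.IsGrSymAlg L 𝒮L j)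
  (hP : RelProj.IsRelProj 𝒮 p chart) (hPL : RelProj.IsRelProj 𝒮L pL chartL)
  (hr : RelProj.IsProjQMapOn u p chart pL chartL (RelProj.domQ u pL chartL) r)
  (hY : IsAffineOpen (⊤ : Y.Opens))
  {n : ℕ} (hn : 0 < n) (s : 𝒮.presheaf.obj (op ⊤)) (hs : s ∈ 𝒮.deg ⊤ hY n)

include hL hLq hj hP hPL hr hn hs in
theorem image_preimage_eq :
    (RelProj.domQ u pL chartL).ι ''ᵁ
      (r ⁻¹ᵁ ((RelProj.emb p chart ⊤ hY) ''ᵁ Proj.basicOpen (𝒮.deg ⊤ hY) s)) =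
      pL ⁻¹ᵁ XF u n s :=
  Groth.Agent.S12144.result q L hL hLq 𝒮 𝒮L j hj u p chart hP pL chartL hPL r hr hY n hn s hs

include hLq hj hPL hr hn hs in
theorem notMem_XF (hXT : IsAffineOpen (XF u n s)) (y : Proj (𝒮L.deg (XF u n s) hXT)) :
    (u.appLE ⊤ (XF u n s) (le_top' _)).hom s ∉ y.asHomogeneousIdeal := by
  haveI : L.IsQuasicoherent := hLq
  have hx'T : pL (RelProj.emb pL chartL (XF u n s) hXT y) ∈ XF u n s := by
    have h1 : RelProj.emb pL chartL (XF u n s) hXT y ∈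
        (RelProj.emb pL chartL (XF u n s) hXT).opensRange := ⟨y, rfl⟩
    rw [opensRange_emb] at h1
    exact h1
  obtain ⟨⟨⟨V, hV⟩, hspan⟩, hxV⟩ := Opens.mem_iSup.mp hx'T
  obtain ⟨y', hy'⟩ := exists_emb_eq pL chartL V hV _ hxV
  have hsy' := RLPsiInv.notMem_of_span hj V hV y' hspan
  have hdom : RelProj.emb pL chartL (XF u n s) hXT y ∈ RelProj.domQ u pL chartL :=
    RLPsi.mem_domQ_of_loc u _ ⊤ hY V hV (le_top' V) ⟨y', hy', n, hn, s, hs, hsy'⟩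
  have h1 := (RLPsi.r_mem_iff u r hr hPL ⟨_, hdom⟩ ⊤ hY V hV (le_top' V) y' hy' hn s hs).mpr hsy'
  exact (RLPsi.r_mem_iff u r hr hPL ⟨_, hdom⟩ ⊤ hY (XF u n s) hXT (le_top' _) y rfl hn s hs).mp h1

include hLq hj hPL hr hn hs in
theorem basicOpen_XF_eq_top (hXT : IsAffineOpen (XF u n s)) :
    Proj.basicOpen (𝒮L.deg (XF u n s) hXT) (u.gradedAt ⊤ hY (XF u n s) hXT (le_top' _) s) = ⊤ := by
  rw [eq_top_iff]
  intro y _
  exact (Proj.mem_basicOpen _ _ _).mpr (notMem_XF u r hLq hj hPL hr hY hn s hs hXT y)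

include hLq hj hPL hr in
theorem opensRange_awayEmb (hXT : IsAffineOpen (XF u n s)) :
    (RelProj.awayEmb u pL chartL ⊤ hY (XF u n s) hXT (le_top' _) hn s hs).opensRange =
      pL ⁻¹ᵁ XF u n s := by
  unfold RelProj.awayEmb
  rw [Scheme.Hom.opensRange_comp, Proj.opensRange_awayι,
    basicOpen_XF_eq_top u r hLq hj hPL hr hY hn s hs hXT, Scheme.Hom.image_top_eq_opensRange,
    opensRange_emb]

include hL hLq hj hP hPL hr in
theorem opensRange_lft (hXT : IsAffineOpen (XF u n s)) :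
    (RLPsi.lft u pL chartL ⊤ hY (XF u n s) hXT (le_top' _) hn s hs).opensRange =
      r ⁻¹ᵁ ((RelProj.emb p chart ⊤ hY) ''ᵁ Proj.basicOpen (𝒮.deg ⊤ hY) s) := by
  have h2 : (RLPsi.lft u pL chartL ⊤ hY (XF u n s) hXT (le_top' _) hn s hs ≫
      (RelProj.domQ u pL chartL).ι).opensRange =
      (RelProj.awayEmb u pL chartL ⊤ hY (XF u n s) hXT (le_top' _) hn s hs).opensRange := by
    apply Opens.ext
    show Set.range (RLPsi.lft u pL chartL ⊤ hY (XF u n s) hXT (le_top' _) hn s hs ≫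
      (RelProj.domQ u pL chartL).ι) =
      Set.range (RelProj.awayEmb u pL chartL ⊤ hY (XF u n s) hXT (le_top' _) hn s hs)
    rw [RLPsi.lft_fac]
  apply (RelProj.domQ u pL chartL).ι.image_injective
  show (RelProj.domQ u pL chartL).ι ''ᵁ _ = (RelProj.domQ u pL chartL).ι ''ᵁ _
  rw [image_preimage_eq u r hL hLq hj hP hPL hr hY hn s hs, ← Scheme.Hom.opensRange_comp,
    h2, opensRange_awayEmb u r hLq hj hPL hr hY hn s hs hXT]

include hr in
theorem lft_r (hXT : IsAffineOpen (XF u n s)) :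
    RLPsi.lft u pL chartL ⊤ hY (XF u n s) hXT (le_top' _) hn s hs ≫ r =
      Spec.map (CommRingCat.ofHom (Away.map (u.gradedAt ⊤ hY (XF u n s) hXT (le_top' _)) s)) ≫
        Proj.awayι (𝒮.deg ⊤ hY) s hs hn ≫ RelProj.emb p chart ⊤ hY :=
  hr ⊤ hY (XF u n s) hXT (le_top' _) n hn s hs
    (RelProj.range_awayEmb_subset_domQ u pL chartL ⊤ hY (XF u n s) hXT (le_top' _) hn s hs)

include hL hLq hj hPL hr hn hs in
theorem theta_bijective (hXT : IsAffineOpen (XF u n s)) :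
    Function.Bijective (awayStruct (𝒮L.deg (XF u n s) hXT)
      (u.gradedAt ⊤ hY (XF u n s) hXT (le_top' _) s) (𝒮L.str.app (op (XF u n s))).hom
      (𝒮L.str_mem (XF u n s) hXT)) := by
  haveI : L.IsQuasicoherent := hLq
  haveI := SymInvProj.isIso_p hL hj pL chartL hPL
  have hfac : RelProj.awayEmb u pL chartL ⊤ hY (XF u n s) hXT (le_top' _) hn s hs ≫ pL =
      Spec.map (CommRingCat.ofHom (awayStruct (𝒮L.deg (XF u n s) hXT)
        (u.gradedAt ⊤ hY (XF u n s) hXT (le_top' _) s) (𝒮L.str.app (op (XF u n s))).hom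
        (𝒮L.str_mem (XF u n s) hXT))) ≫ hXT.fromSpec := by
    unfold RelProj.awayEmb
    rw [Category.assoc, emb_comp hPL (XF u n s) hXT, Proj.awayι_toSpecZero_assoc,
      ← Spec.map_comp_assoc]
    rfl
  have h1 : (RelProj.awayEmb u pL chartL ⊤ hY (XF u n s) hXT (le_top' _) hn s hs ≫ pL).opensRange =
      XF u n s := by
    rw [Scheme.Hom.opensRange_comp, opensRange_awayEmb u r hLq hj hPL hr hY hn s hs hXT,
      Scheme.Hom.image_preimage_eq_opensRange_inf, Scheme.Hom.opensRange_of_isIso, top_inf_eq]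
  have hrange : Set.range (RelProj.awayEmb u pL chartL ⊤ hY (XF u n s) hXT (le_top' _) hn s hs ≫ pL) =
      Set.range hXT.fromSpec :=
    congrArg (fun O : X.Opens => (O : Set X)) (h1.trans hXT.opensRange_fromSpec.symm)
  have he : (IsOpenImmersion.isoOfRangeEq _ _ hrange).hom =
      Spec.map (CommRingCat.ofHom (awayStruct (𝒮L.deg (XF u n s) hXT)
        (u.gradedAt ⊤ hY (XF u n s) hXT (le_top' _) s) (𝒮L.str.app (op (XF u n s))).hom
        (𝒮L.str_mem (XF u n s) hXT))) := by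
    rw [← cancel_mono hXT.fromSpec, IsOpenImmersion.isoOfRangeEq_hom_fac, hfac]
  haveI : IsIso (Spec.map (CommRingCat.ofHom (awayStruct (𝒮L.deg (XF u n s) hXT)
        (u.gradedAt ⊤ hY (XF u n s) hXT (le_top' _) s) (𝒮L.str.app (op (XF u n s))).hom
        (𝒮L.str_mem (XF u n s) hXT)))) := by
    rw [← he]
    infer_instance
  have hb := (isIso_SpecMap_iff (f := CommRingCat.ofHom (awayStruct (𝒮L.deg (XF u n s) hXT)
        (u.gradedAt ⊤ hY (XF u n s) hXT (le_top' _) s) (𝒮L.str.app (op (XF u n s))).hom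
        (𝒮L.str_mem (XF u n s) hXT)))).mp inferInstance
  exact hb

section fam
variable {ι : Type u} (nn : ι → ℕ) (ss : ι → 𝒮.presheaf.obj (op ⊤))
  (h1 : ∀ a, 0 < nn a ∧ ss a ∈ 𝒮.deg ⊤ hY (nn a))
  (h3 : (⨆ a, XF u (nn a) (ss a)) = ⊤) (h4 : ∀ a, IsAffineOpen (XF u (nn a) (ss a)))

include hL hLq hj hP hPL h1 h3 in
theorem domQ_eq_top_of_family : RelProj.domQ u pL chartL = ⊤ := by
  refine (Groth.Agent.S12145.result q L hL hLq 𝒮 𝒮L j hj u p chart hP pL chartL hPL hY).mpr ?_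
  intro x
  have hx : x ∈ (⨆ a, XF u (nn a) (ss a)) := by
    rw [h3]
    trivial
  obtain ⟨a, ha⟩ := Opens.mem_iSup.mp hx
  obtain ⟨⟨⟨V, hV⟩, hspan⟩, hxV⟩ := Opens.mem_iSup.mp ha
  exact ⟨nn a, (h1 a).1, ss a, (h1 a).2, V, hV, hxV, hspan⟩

include hL hLq hj hP hPL hr h1 h3 in
/-- the morphism `r` factors through the union of the `D₊(s_a)` by a morphism of type `Q`,
if the ring maps `S_(s_a) → 𝒮L(X_a)_(u s_a)` have spectra of type `Q` -/
theorem exists_fO (Q : MorphismProperty Scheme.{u}) [IsZariskiLocalAtTarget Q]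
    (hQ : ∀ a, Q (Spec.map (CommRingCat.ofHom (Away.map
      (u.gradedAt ⊤ hY (XF u (nn a) (ss a)) (h4 a) (le_top' _)) (ss a))))) :
    ∃ fO : ((RelProj.domQ u pL chartL : PL.Opens) : Scheme.{u}) ⟶
        ((⨆ a, (RelProj.emb p chart ⊤ hY) ''ᵁ Proj.basicOpen (𝒮.deg ⊤ hY) (ss a) : P.Opens) :
          Scheme.{u}),
      fO ≫ (⨆ a, (RelProj.emb p chart ⊤ hY) ''ᵁ Proj.basicOpen (𝒮.deg ⊤ hY) (ss a) :
        P.Opens).ι = r ∧ Q fO := by
  refine exists_lift_of_charts Q r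
    (fun a => Spec (.of (Away (𝒮.deg ⊤ hY) (ss a))))
    (fun a => Spec (.of (Away (𝒮L.deg (XF u (nn a) (ss a)) (h4 a))
      (u.gradedAt ⊤ hY (XF u (nn a) (ss a)) (h4 a) (le_top' _) (ss a)))))
    (fun a => Proj.awayι (𝒮.deg ⊤ hY) (ss a) (h1 a).2 (h1 a).1 ≫ RelProj.emb p chart ⊤ hY)
    (fun a => RLPsi.lft u pL chartL ⊤ hY (XF u (nn a) (ss a)) (h4 a) (le_top' _) (h1 a).1 (ss a)
      (h1 a).2)
    (fun a => Spec.map (CommRingCat.ofHom (Away.map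
      (u.gradedAt ⊤ hY (XF u (nn a) (ss a)) (h4 a) (le_top' _)) (ss a))))
    (fun a => (RelProj.emb p chart ⊤ hY) ''ᵁ Proj.basicOpen (𝒮.deg ⊤ hY) (ss a))
    (fun a => by rw [Scheme.Hom.opensRange_comp, Proj.opensRange_awayι])
    hQ
    (fun a => lft_r u r hr hY (h1 a).1 (ss a) (h1 a).2 (h4 a))
    (fun a => (opensRange_lft u r hL hLq hj hP hPL hr hY (h1 a).1 (ss a) (h1 a).2 (h4 a)).symm)
    ?_
  intro z
  have hx : pL ((RelProj.domQ u pL chartL).ι z) ∈ (⨆ a, XF u (nn a) (ss a)) := by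
    rw [h3]
    trivial
  obtain ⟨a, ha⟩ := Opens.mem_iSup.mp hx
  have h2 : (RelProj.domQ u pL chartL).ι z ∈ pL ⁻¹ᵁ XF u (nn a) (ss a) := ha
  rw [← image_preimage_eq u r hL hLq hj hP hPL hr hY (h1 a).1 (ss a) (h1 a).2] at h2
  obtain ⟨z', hz', hzz⟩ := h2
  have hzz' : z' = z := (RelProj.domQ u pL chartL).ι.isOpenEmbedding.injective hzz
  rw [hzz', ← opensRange_lft u r hL hLq hj hP hPL hr hY (h1 a).1 (ss a) (h1 a).2 (h4 a)] at hz'
  obtain ⟨y, hy⟩ := hz'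
  exact ⟨a, y, hy⟩

end fam

section conv
variable (O : P.Opens) (lc : ((RelProj.domQ u pL chartL : PL.Opens) : Scheme.{u}) ⟶ (O : Scheme.{u}))
  (hlc : lc ≫ O.ι = r)

include hL hLq hj hP hPL hr hlc hn hs in
theorem isAffineOpen_XF_of_le [IsClosedImmersion lc]
    (hD : (RelProj.emb p chart ⊤ hY) ''ᵁ Proj.basicOpen (𝒮.deg ⊤ hY) s ≤ O) :
    IsAffineOpen (XF u n s) := by
  haveI : L.IsQuasicoherent := hLq
  haveI := SymInvProj.isIso_p hL hj pL chartL hPL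
  have hDaff : IsAffineOpen ((RelProj.emb p chart ⊤ hY) ''ᵁ Proj.basicOpen (𝒮.deg ⊤ hY) s) :=
    (Proj.isAffineOpen_basicOpen _ s hs hn).image_of_isOpenImmersion _
  have hD' : IsAffineOpen (O.ι ⁻¹ᵁ ((RelProj.emb p chart ⊤ hY) ''ᵁ
      Proj.basicOpen (𝒮.deg ⊤ hY) s)) :=
    hDaff.preimage_of_isOpenImmersion O.ι (by rw [Scheme.Opens.opensRange_ι]; exact hD)
  have h1 := hD'.preimage lc
  have h2 : lc ⁻¹ᵁ (O.ι ⁻¹ᵁ ((RelProj.emb p chart ⊤ hY) ''ᵁ Proj.basicOpen (𝒮.deg ⊤ hY) s)) =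
      r ⁻¹ᵁ ((RelProj.emb p chart ⊤ hY) ''ᵁ Proj.basicOpen (𝒮.deg ⊤ hY) s) := by
    rw [← Scheme.Hom.comp_preimage, hlc]
  rw [h2] at h1
  have h3 := h1.image_of_isOpenImmersion (RelProj.domQ u pL chartL).ι
  rw [image_preimage_eq u r hL hLq hj hP hPL hr hY hn s hs] at h3
  have h4 := h3.image_of_isOpenImmersion pL
  rwa [Scheme.Hom.image_preimage_eq_opensRange_inf, Scheme.Hom.opensRange_of_isIso,
    top_inf_eq] at h4

include hL hLq hj hP hPL hr hlc in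
theorem isPullback_chart
    (hD : (RelProj.emb p chart ⊤ hY) ''ᵁ Proj.basicOpen (𝒮.deg ⊤ hY) s ≤ O)
    (hXT : IsAffineOpen (XF u n s)) :
    ∃ c' : Spec (.of (Away (𝒮.deg ⊤ hY) s)) ⟶ (O : Scheme.{u}),
      IsPullback (RLPsi.lft u pL chartL ⊤ hY (XF u n s) hXT (le_top' _) hn s hs)
        (Spec.map (CommRingCat.ofHom (Away.map (u.gradedAt ⊤ hY (XF u n s) hXT (le_top' _)) s)))
        lc c' := by
  have hcr : (Proj.awayι (𝒮.deg ⊤ hY) s hs hn ≫ RelProj.emb p chart ⊤ hY).opensRange =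
      (RelProj.emb p chart ⊤ hY) ''ᵁ Proj.basicOpen (𝒮.deg ⊤ hY) s := by
    rw [Scheme.Hom.opensRange_comp, Proj.opensRange_awayι]
  have hcO : Set.range (Proj.awayι (𝒮.deg ⊤ hY) s hs hn ≫ RelProj.emb p chart ⊤ hY) ⊆
      Set.range O.ι := by
    rw [Scheme.Opens.range_ι]
    rintro _ ⟨y, rfl⟩
    apply hD
    rw [← hcr]
    exact ⟨y, rfl⟩
  obtain ⟨c', hc'⟩ : ∃ c' : Spec (.of (Away (𝒮.deg ⊤ hY) s)) ⟶ (O : Scheme.{u}),
      c' ≫ O.ι = Proj.awayι (𝒮.deg ⊤ hY) s hs hn ≫ RelProj.emb p chart ⊤ hY :=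
    ⟨IsOpenImmersion.lift O.ι _ hcO, IsOpenImmersion.lift_fac _ _ _⟩
  haveI : IsOpenImmersion c' := by
    haveI : IsOpenImmersion (c' ≫ O.ι) := by
      rw [hc']
      infer_instance
    exact IsOpenImmersion.of_comp c' O.ι
  refine ⟨c', (IsOpenImmersion.isPullback _ _ _ _ ?_ ?_).flip⟩
  · rw [← cancel_mono O.ι, Category.assoc, Category.assoc, hlc, hc', lft_r u r hr hY hn s hs hXT]
  · have e1 : (RelProj.emb p chart ⊤ hY) ''ᵁ Proj.basicOpen (𝒮.deg ⊤ hY) s =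
        O.ι ''ᵁ c'.opensRange := by
      rw [← hcr]
      ext x
      constructor
      · rintro ⟨y, rfl⟩
        exact ⟨c' y, ⟨y, rfl⟩, congrArg (fun g : Spec (.of (Away (𝒮.deg ⊤ hY) s)) ⟶ P => g y) hc'⟩
      · rintro ⟨_, ⟨y, rfl⟩, rfl⟩
        exact ⟨y, (congrArg (fun g : Spec (.of (Away (𝒮.deg ⊤ hY) s)) ⟶ P => g y) hc').symm⟩
    have e2 : r ⁻¹ᵁ ((RelProj.emb p chart ⊤ hY) ''ᵁ Proj.basicOpen (𝒮.deg ⊤ hY) s) =
        lc ⁻¹ᵁ (O.ι ⁻¹ᵁ ((RelProj.emb p chart ⊤ hY) ''ᵁ Proj.basicOpen (𝒮.deg ⊤ hY) s)) := by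
      rw [← Scheme.Hom.comp_preimage, hlc]
    rw [opensRange_lft u r hL hLq hj hP hPL hr hY hn s hs hXT, e2, e1,
      Scheme.Hom.preimage_image_eq]

include hL hLq hj hP hPL hr hlc in
theorem exists_XF_mem (hW : RelProj.domQ u pL chartL = ⊤) (x : X) :
    ∃ (n : ℕ) (s : 𝒮.presheaf.obj (op ⊤)), 0 < n ∧ s ∈ 𝒮.deg ⊤ hY n ∧
      (RelProj.emb p chart ⊤ hY) ''ᵁ Proj.basicOpen (𝒮.deg ⊤ hY) s ≤ O ∧ x ∈ XF u n s := by
  haveI : L.IsQuasicoherent := hLq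
  haveI := SymInvProj.isIso_p hL hj pL chartL hPL
  obtain ⟨x', rfl⟩ := pL.surjective x
  have hx' : x' ∈ RelProj.domQ u pL chartL := by
    rw [hW]
    trivial
  obtain ⟨y₀, hy₀⟩ := exists_emb_eq p chart ⊤ hY (r ⟨x', hx'⟩) trivial
  have hrO : r ⟨x', hx'⟩ ∈ O := by
    have h1 : r ⟨x', hx'⟩ = O.ι (lc ⟨x', hx'⟩) := by
      rw [← Scheme.Hom.comp_apply, hlc]
    rw [h1]
    exact (lc ⟨x', hx'⟩).2
  have hy₀O : y₀ ∈ (RelProj.emb p chart ⊤ hY) ⁻¹ᵁ O := by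
    rw [Scheme.Hom.mem_preimage, hy₀]
    exact hrO
  obtain ⟨n, hn, s, hs, hys, hsO⟩ := RLPsi.exists_basicOpen_le _ y₀ hy₀O
  refine ⟨n, s, hn, hs, ?_, ?_⟩
  · rintro _ ⟨y, hy, rfl⟩
    exact hsO hy
  · have hz : r ⟨x', hx'⟩ ∈
        (RelProj.emb p chart ⊤ hY) ''ᵁ Proj.basicOpen (𝒮.deg ⊤ hY) s := by
      rw [← hy₀]
      exact ⟨y₀, hys, rfl⟩
    have h2 : x' ∈ (RelProj.domQ u pL chartL).ι ''ᵁ
        (r ⁻¹ᵁ ((RelProj.emb p chart ⊤ hY) ''ᵁ Proj.basicOpen (𝒮.deg ⊤ hY) s)) :=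
      ⟨⟨x', hx'⟩, hz, rfl⟩
    rw [image_preimage_eq u r hL hLq hj hP hPL hr hY hn s hs] at h2
    exact h2

end conv

end main

end Groth.Agent.Lib.Helper3.RLPsiImm
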