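import Groth.Agent.Lib.Helper3.ProjBundleUP
import Groth.Agent.Lib.Helper3.ProjBundleUniq
import Groth.Agent.Lib.Helper3.PbTensor

/-!
# Twisting the universal quotient of `P(E)` by an invertible module: the map `p^*F → O(1) ⊗ p^*L`
-/

set_option autoImplicit false
set_option linter.unusedSectionVars false
universe u
open CategoryTheory CategoryTheory.Limits AlgebraicGeometry TopologicalSpace Opposite
open Scheme.Modules
open scoped HomogeneousIdeal

namespace Groth.Agent.Lib.Helper3.TwistHom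

open QCSec InvGen InvTensor InvMonoidal PbBasic PbTensor PullLemmas RelChart SymGen

section pullY

variable {X Y P : Scheme.{u}} (r : X ⟶ P) (p : P ⟶ Y) (g : X ⟶ Y) (hr : r ≫ p = g)

/-- pullback of a section over `p⁻¹U` along a `Y`-morphism, restricted to `g⁻¹U` -/
noncomputable def pullY (M : P.Modules) (U : Y.Opens) (σ : Γ(M, p ⁻¹ᵁ U)) :
    Γ((Scheme.Modules.pullback r).obj M, g ⁻¹ᵁ U) :=
  res _ (preimage_le r p g hr U) (pull r M (p ⁻¹ᵁ U) σ)

theorem pullY_app {M N : P.Modules} (ψ : M ⟶ N) (U : Y.Opens) (σ : Γ(M, p ⁻¹ᵁ U)) :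
    ((Scheme.Modules.pullback r).map ψ).app (g ⁻¹ᵁ U) (pullY r p g hr M U σ) =
      pullY r p g hr N U (ψ.app (p ⁻¹ᵁ U) σ) := by
  unfold pullY
  rw [QCExact.app_res', pull_app]

theorem delta_pullY_tm (M N : P.Modules) (U : Y.Opens) (σ : Γ(M, p ⁻¹ᵁ U))
    (σ' : Γ(N, p ⁻¹ᵁ U)) :
    (delta r M N).app (g ⁻¹ᵁ U) (pullY r p g hr _ U (tm M N (p ⁻¹ᵁ U) σ σ')) =
      tm _ _ (g ⁻¹ᵁ U) (pullY r p g hr M U σ) (pullY r p g hr N U σ') := by
  unfold pullY
  rw [QCExact.app_res', delta_pull_tm, tm_res]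

theorem pullbackComp_inv_pullY {P' : Scheme.{u}} (r' : P ⟶ P') (p' : P' ⟶ Y)
    (hr' : r' ≫ p' = p) (hrr : (r ≫ r') ≫ p' = g) (M : P'.Modules) (U : Y.Opens)
    (σ : Γ(M, p' ⁻¹ᵁ U)) :
    ((pullbackComp r r').inv.app M).app (g ⁻¹ᵁ U) (pullY (r ≫ r') p' g hrr M U σ) =
      pullY r p g hr _ U (pullY r' p' p hr' M U σ) := by
  unfold pullY
  rw [QCExact.app_res', pullbackComp_inv_pull,
    ← res_pull r _ (preimage_le r' p' p hr' U), res_res]
  rfl

/-- `r^* p^* M ≅ g^* M` -/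
noncomputable def compIso (M : Y.Modules) :
    (Scheme.Modules.pullback r).obj ((Scheme.Modules.pullback p).obj M) ≅
      (Scheme.Modules.pullback g).obj M :=
  (pullbackComp r p).app M ≪≫ (pullbackCongr hr).app M

theorem compIso_hom_pullY (M : Y.Modules) (U : Y.Opens) (m : Γ(M, U)) :
    (compIso r p g hr M).hom.app (g ⁻¹ᵁ U) (pullY r p g hr _ U (pull p M U m)) =
      pull g M U m := by
  subst hr
  have e1 : pullY r p (r ≫ p) rfl _ U (pull p M U m) = pull r _ (p ⁻¹ᵁ U) (pull p M U m) :=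
    res_self _ _ _
  have h1 := pullbackComp_hom_pull r p M U m
  have h2 := pullbackCongr_hom_pull (rfl : r ≫ p = r ≫ p) M U m _ le_rfl le_rfl
  rw [res_self] at h2
  refine (congrArg ((compIso r p (r ≫ p) rfl M).hom.app ((r ≫ p) ⁻¹ᵁ U)) e1).trans ?_
  change ((pullbackCongr rfl).hom.app M).app _ (((pullbackComp r p).hom.app M).app _ _) = _
  rw [h1, h2]

theorem pullbackId_hom_pullY (h : 𝟙 P ≫ p = p) (M : P.Modules) (U : Y.Opens)
    (σ : Γ(M, p ⁻¹ᵁ U)) :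
    ((pullbackId P).hom.app M).app (p ⁻¹ᵁ U) (pullY (𝟙 P) p p h M U σ) = σ := by
  have e1 : pullY (𝟙 P) p p h M U σ = pull (𝟙 P) M (p ⁻¹ᵁ U) σ := res_self _ _ _
  exact (congrArg (((pullbackId P).hom.app M).app (p ⁻¹ᵁ U)) e1).trans
    (pullbackId_hom_pull M (p ⁻¹ᵁ U) σ)

/-- a version of `compat_of_pull` for a basis of small opens -/
theorem compat_of_pull_small {E : Y.Modules} {O1 : P.Modules} {L : X.Modules}
    (φ : E ⟶ (pushforward p).obj O1) (τ : (Scheme.Modules.pullback r).obj O1 ⟶ L)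
    (s : (Scheme.Modules.pullback g).obj E ⟶ L) (Small : Y.Opens → Prop)
    (hcov : ∀ (W : Y.Opens) (y : Y), y ∈ W → ∃ V : Y.Opens, Small V ∧ y ∈ V ∧ V ≤ W)
    (h : ∀ (U : Y.Opens), Small U → ∀ (e : Γ(E, U)),
      τ.app (g ⁻¹ᵁ U) (pullY r p g hr O1 U (up p O1 U (φ.app U e))) =
        s.app (g ⁻¹ᵁ U) (pull g E U e)) :
    (pullbackCongr hr).inv.app E ≫ (pullbackComp r p).inv.app E ≫
      (Scheme.Modules.pullback r).map
        (((pullbackPushforwardAdjunction p).homEquiv E O1).symm φ) ≫ τ = s := by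
  apply hom_ext_pull g Small hcov
  intro U hU e
  rw [← h U hU e]
  exact (pull_of_compat r p g hr φ τ _ rfl U e).symm

end pullY

section gen

variable {X : Scheme.{u}}

/-- a morphism whose image contains local generators of the target is an epimorphism -/
theorem epi_of_isGen {G H : X.Modules} (φ : G ⟶ H)
    (h : ∀ x : X, ∃ (V : X.Opens) (t : Γ(G, V)), x ∈ V ∧ IsGen H V (φ.app V t)) : Epi φ := by
  apply QCExact.epi_of_locally_surjective
  intro W s x hx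
  obtain ⟨V, t, hxV, hg⟩ := h x
  have hle : W ⊓ V ≤ V := inf_le_right
  obtain ⟨c, hc⟩ := (hg (W ⊓ V) hle).2 (res H inf_le_left s)
  refine ⟨W ⊓ V, inf_le_left, ⟨hx, hxV⟩, c • res G hle t, ?_⟩
  rw [Scheme.Modules.Hom.app_smul, QCExact.app_res']
  exact hc

end gen

section sNu

variable {Y P : Scheme.{u}} {E F L : Y.Modules} (p : P ⟶ Y) {O1 : P.Modules}
  (φ : E ⟶ (pushforward p).obj O1) (ν : F ⟶ CohB1.tensorMod E L)

/-- the twisted surjection `p^*F → O(1) ⊗ p^*L` -/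
noncomputable def sNu : (Scheme.Modules.pullback p).obj F ⟶
    CohB1.tensorMod O1 ((Scheme.Modules.pullback p).obj L) :=
  (Scheme.Modules.pullback p).map ν ≫ delta p E L ≫
    tensorMap (((pullbackPushforwardAdjunction p).homEquiv E O1).symm φ) (𝟙 _)

theorem sNu_pull (U : Y.Opens) (f : Γ(F, U)) (e : Γ(E, U)) (ℓ : Γ(L, U))
    (h : ν.app U f = tm E L U e ℓ) :
    (sNu p φ ν).app (p ⁻¹ᵁ U) (pull p F U f) =
      tm O1 _ (p ⁻¹ᵁ U) (up p O1 U (φ.app U e)) (pull p L U ℓ) := by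
  change (tensorMap _ (𝟙 _)).app _ ((delta p E L).app _
    (((Scheme.Modules.pullback p).map ν).app _ _)) = _
  rw [pull_app, h, delta_pull_tm, tensorMap_tm, adjoint_pull]
  rfl

end sNu

section epi

variable {Y P : Scheme.{u}} {E : Y.Modules} [E.IsQuasicoherent]
  {𝒮 : RelProj.QCGrAlg Y} {j : E ⟶ 𝒮.toModule} (hj : RelProj.IsGrSymAlg E 𝒮 j) {p : P ⟶ Y}
  {chart : ∀ (U : Y.Opens) (hU : IsAffineOpen U),
    ((p ⁻¹ᵁ U : P.Opens) : Scheme.{u}) ≅ Proj (𝒮.deg U hU)}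
  (hP : RelProj.IsRelProj 𝒮 p chart) {O1 : P.Modules}
  {lam : ∀ (U : Y.Opens) (hU : IsAffineOpen U),
    O1 ⟶ (Scheme.Modules.pushforward (RelProj.emb p chart U hU)).obj
      (GrTwist.twist (𝒮.deg U hU) 1)}
  (hO1 : RelProj.IsRelTwist 𝒮 p chart 1 O1 lam)
  {φ : E ⟶ (pushforward p).obj O1}
  (hφ : ∀ (U : Y.Opens) (hU : IsAffineOpen U) (e : Γ(E, U)),
    Reads lam U hU (p ⁻¹ᵁ U) (up p O1 U (φ.app U e)) (jj 𝒮.toQCAlg j U e) 1)

include hj hO1 hφ in
theorem epi_sNu {F L : Y.Modules} (hL : PicF.IsInvertible L) (ν : F ≅ CohB1.tensorMod E L) :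
    Epi (sNu p φ ν.hom) := by
  apply epi_of_isGen
  intro x
  obtain ⟨U, ℓ, hU, hxU, -, hg⟩ := exists_affine_isGen_le hL (p x) ⊤ trivial
  obtain ⟨y, hy⟩ := ProjQMap.exists_emb_eq p chart U hU x hxU
  obtain ⟨e, he⟩ := SymGenProj.exists_jj_notMem hj hU y
  have hxA : x ∈ ProjBundleUniq.AA j chart U hU e := ⟨y, he, hy⟩
  refine ⟨ProjBundleUniq.AA j chart U hU e, res _ (ProjBundleUniq.AA_le j chart U hU e)
    (pull p F U (ν.inv.app U (tm E L U e ℓ))), hxA, ?_⟩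
  rw [QCExact.app_res', sNu_pull p φ ν.hom U _ e ℓ (iso_hom_inv_app ν U _), tm_res]
  exact isGen_tm (ProjBundleUniq.isGen_phi hj hO1 hφ U hU e)
    ((isGen_pull p hg).mono (ProjBundleUniq.AA_le j chart U hU e))

end epi

end Groth.Agent.Lib.Helper3.TwistHom
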