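import Groth.Agent.Lib.Helper3.LinProj
import Groth.Agent.Lib.Helper3.TwistHom
import Groth.Agent.Lib.Helper3.ProjBundleUP2

/-!
# `r_{L,σ}` is an immersion when `L` is relatively very ample
-/

set_option autoImplicit false
set_option linter.unusedSectionVars false
universe u
open CategoryTheory CategoryTheory.Limits AlgebraicGeometry TopologicalSpace Opposite
open Scheme.Modules
open scoped HomogeneousIdeal

namespace Groth.Agent.Lib.Helper3.RLSigmaImm

open QCSec InvGen InvTensor InvMonoidal PbBasic PullLemmas RelChart SymGen TwistHom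
  ProjBundleUniq LinProj ProjBundleUP Groth.Agent.Lib.Helper17.UnitBC Groth.Agent.Lib.Helper17

variable {X Y : Scheme.{u}}

/-- the data of a relatively very ample module, with the canonical sections and the induced
quotient of the inverse image -/
theorem exists_data (g : X ⟶ Y) (L : X.Modules) (hva : RelProj.IsRelVeryAmple g L) :
    ∃ (E : Y.Modules) (_ : E.IsQuasicoherent) (𝒮 : RelProj.QCGrAlg Y) (j : E ⟶ 𝒮.toModule)
      (_ : RelProj.IsGrSymAlg E 𝒮 j) (P : Scheme.{u}) (p : P ⟶ Y)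
      (chart : ∀ (U : Y.Opens) (hU : IsAffineOpen U),
        ((p ⁻¹ᵁ U : P.Opens) : Scheme.{u}) ≅ Proj (𝒮.deg U hU))
      (_ : RelProj.IsRelProj 𝒮 p chart) (O1 : P.Modules)
      (lam : ∀ (U : Y.Opens) (hU : IsAffineOpen U),
        O1 ⟶ (Scheme.Modules.pushforward (RelProj.emb p chart U hU)).obj
          (GrTwist.twist (𝒮.deg U hU) 1))
      (_ : RelProj.IsRelTwist 𝒮 p chart 1 O1 lam) (φ : E ⟶ (pushforward p).obj O1)
      (_ : ∀ (U : Y.Opens) (hU : IsAffineOpen U) (e : Γ(E, U)),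
        Reads lam U hU (p ⁻¹ᵁ U) (up p O1 U (φ.app U e)) (jj 𝒮.toQCAlg j U e) 1)
      (i : X ⟶ P) (_ : IsImmersion i) (hip : i ≫ p = g)
      (τ : (Scheme.Modules.pullback i).obj O1 ≅ L)
      (s : (Scheme.Modules.pullback g).obj E ⟶ L), Epi s ∧
      ∀ (U : Y.Opens), IsAffineOpen U → ∀ e : Γ(E, U),
        τ.hom.app (g ⁻¹ᵁ U) (res _ (preimage_le i p g hip U)
          (pull i O1 (p ⁻¹ᵁ U) (up p O1 U (φ.app U e)))) = s.app (g ⁻¹ᵁ U) (pull g E U e) := by
  classical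
  obtain ⟨E, hE, 𝒮, j, hj, P, p, chart, hP, O1, lam, hO1, i, hi, hip, ⟨eL⟩⟩ := hva
  haveI : E.IsQuasicoherent := hE
  obtain ⟨φ, hφ0⟩ := CanonPhi.exists_phi hj.2 hP hO1
  have hφ : ∀ (U : Y.Opens) (hU : IsAffineOpen U) (e : Γ(E, U)),
      Reads lam U hU (p ⁻¹ᵁ U) (up p O1 U (φ.app U e)) (jj 𝒮.toQCAlg j U e) 1 :=
    fun U hU e => ProjBundleUP.reads_of_fr (d := 1) U hU _ (hj.2 U hU e) _ (hφ0 U hU e)
  let s : (Scheme.Modules.pullback g).obj E ⟶ L :=
    (pullbackCongr hip).inv.app E ≫ (pullbackComp i p).inv.app E ≫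
      (Scheme.Modules.pullback i).map
        (((pullbackPushforwardAdjunction p).homEquiv E O1).symm φ) ≫ eL.symm.hom
  have hc : ∀ (U : Y.Opens), IsAffineOpen U → ∀ e : Γ(E, U),
      eL.symm.hom.app (g ⁻¹ᵁ U) (res _ (preimage_le i p g hip U)
        (pull i O1 (p ⁻¹ᵁ U) (up p O1 U (φ.app U e)))) = s.app (g ⁻¹ᵁ U) (pull g E U e) :=
    fun U _ e => pull_of_compat i p g hip φ eL.symm.hom s rfl U e
  refine ⟨E, hE, 𝒮, j, hj, P, p, chart, hP, O1, lam, hO1, φ, hφ, i, hi, hip, eL.symm, s, ?_, hc⟩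
  apply epi_of_isGen
  intro x
  obtain ⟨U, hU, hxU⟩ := ProjQMap.exists_affine_mem (g x)
  have hpx : p (i x) ∈ U := by
    rw [← Scheme.Hom.comp_apply, hip]
    exact hxU
  obtain ⟨y, hy⟩ := ProjQMap.exists_emb_eq p chart U hU (i x) hpx
  obtain ⟨e, he⟩ := SymGenProj.exists_jj_notMem hj hU y
  have hx1 : x ∈ i ⁻¹ᵁ AA j chart U hU e := ⟨y, he, hy⟩
  refine ⟨i ⁻¹ᵁ AA j chart U hU e, res _ (pre_le j chart g i hip U hU e) (pull g E U e), hx1, ?_⟩
  rw [QCExact.app_res']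
  intro W hW
  rw [res_res]
  exact isGenAt_sigma hj hO1 hφ g s i hip eL.symm hc U hU e W hW

/-- **`r_{L,σ}` is everywhere defined and an immersion** when `L` is very ample -/
theorem domQ_eq_top_and_isImmersion {P PL : Scheme.{u}} (q : X ⟶ Y)
    (L : X.Modules) (hL : PicF.IsInvertible L)
    (𝒮L : RelProj.QCGrAlg X) (jL : L ⟶ 𝒮L.toModule) (hjL : RelProj.IsGrSymAlg L 𝒮L jL)
    (pL : PL ⟶ X)
    (chartL : ∀ (U : X.Opens) (hU : IsAffineOpen U),
      (((pL ⁻¹ᵁ U : PL.Opens) : Scheme.{u}) ≅ Proj (𝒮L.deg U hU)))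
    (hPL : RelProj.IsRelProj 𝒮L pL chartL)
    (hEq : ((Scheme.Modules.pushforward q).obj L).IsQuasicoherent)
    (𝒜 : RelProj.QCGrAlg Y) (jE : (Scheme.Modules.pushforward q).obj L ⟶ 𝒜.toModule)
    (h𝒜 : RelProj.IsGrSymAlg ((Scheme.Modules.pushforward q).obj L) 𝒜 jE)
    (u : RelProj.QGrHom q 𝒜 𝒮L)
    (hu : ∀ (U : Y.Opens) (x : Γ((Scheme.Modules.pushforward q).obj L, U)),
      (u.app U).hom ((jE.app U) x) = (jL.app (q ⁻¹ᵁ U)) x)
    (p : P ⟶ Y)
    (chart : ∀ (U : Y.Opens) (hU : IsAffineOpen U),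
      (((p ⁻¹ᵁ U : P.Opens) : Scheme.{u}) ≅ Proj (𝒜.deg U hU)))
    (hP : RelProj.IsRelProj 𝒜 p chart)
    (r : ((RelProj.domQ u pL chartL : PL.Opens) : Scheme.{u}) ⟶ P)
    (hr : RelProj.IsProjQMapOn u p chart pL chartL (RelProj.domQ u pL chartL) r)
    (h : RelProj.IsRelVeryAmple q L) :
    RelProj.domQ u pL chartL = ⊤ ∧ IsImmersion r := by
  classical
  haveI := hEq
  haveI : L.IsQuasicoherent := InvCoh.isQuasicoherent_of_isInvertible hL
  obtain ⟨E', hE', 𝒮', j', hj', P', p', chart', hP', O1', lam', hO1', φ', hφ', i, hi, hip, τ', s',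
    hs', hc'⟩ := exists_data q L h
  haveI := hE'
  haveI := hi
  haveI := hs'
  let t' : E' ⟶ (pushforward q).obj L := (pullbackPushforwardAdjunction q).homEquiv E' L s'
  have hst : (Scheme.Modules.pullback q).map t' ≫
      (pullbackPushforwardAdjunction q).counit.app L = s' := by
    have h0 := ((pullbackPushforwardAdjunction q).homEquiv E' L).symm_apply_apply s'
    rw [Adjunction.homEquiv_counit] at h0
    exact h0
  haveI : Epi ((pullbackPushforwardAdjunction q).counit.app L) := by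
    haveI : Epi ((Scheme.Modules.pullback q).map t' ≫
        (pullbackPushforwardAdjunction q).counit.app L) := by
      rw [hst]
      infer_instance
    exact epi_of_epi ((Scheme.Modules.pullback q).map t') _
  have key : ∀ (U : Y.Opens) (e₁ : Γ(E', U)),
      ((pullbackPushforwardAdjunction q).counit.app L).app (q ⁻¹ᵁ U)
        (pull q _ U (t'.app U e₁)) = s'.app (q ⁻¹ᵁ U) (pull q E' U e₁) := by
    intro U e₁
    have h1 := CounitGG.counit_pull q L U (up q L U (t'.app U e₁))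
    refine h1.trans ?_
    have h2 : t' = (pullbackPushforwardAdjunction q).unit.app E' ≫ (pushforward q).map s' :=
      (pullbackPushforwardAdjunction q).homEquiv_unit E' L s'
    rw [h2]
    rfl
  obtain ⟨O1, lam, hO1⟩ := RelTwistExist.exists_isRelTwist hP 1
  obtain ⟨φ, hφ0⟩ := CanonPhi.exists_phi h𝒜.2 hP hO1
  have hφ : ∀ (U : Y.Opens) (hU : IsAffineOpen U) (e : Γ((pushforward q).obj L, U)),
      Reads lam U hU (p ⁻¹ᵁ U) (up p O1 U (φ.app U e)) (jj 𝒜.toQCAlg jE U e) 1 :=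
    fun U hU e => ProjBundleUP.reads_of_fr (d := 1) U hU _ (h𝒜.2 U hU e) _ (hφ0 U hU e)
  have hu' : ∀ (U : Y.Opens) (x : Γ((pushforward q).obj L, U)),
      (u.toQHom.app U).hom (jE.app U x) =
        ((pullbackPushforwardAdjunction q).counit.app L ≫ jL).app (q ⁻¹ᵁ U)
          (((pullbackPushforwardAdjunction q).unit.app ((pushforward q).obj L)).app U x) := by
    intro U x
    rw [hu U x]
    have h1 := CounitGG.counit_pull q L U (up q L U x)
    exact congrArg (jL.app (q ⁻¹ᵁ U)) h1.symm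
  have hdom : RelProj.domQ u pL chartL = ⊤ := by
    rw [eq_top_iff]
    intro x' _
    obtain ⟨U, hU, hxU⟩ := ProjQMap.exists_affine_mem (q (pL x'))
    obtain ⟨V, hV, hVU, e, hxV, hgen⟩ := exists_gen_of_epi q _ hL
      ((pullbackPushforwardAdjunction q).counit.app L) (pL x') U hU hxU
    obtain ⟨y, hy⟩ := ProjQMap.exists_emb_eq pL chartL V hV x' hxV
    refine RLPsi.mem_domQ_of_loc u x' U hU V hV hVU
      ⟨y, hy, 1, one_pos, jj 𝒜.toQCAlg jE U e, h𝒜.2 U hU e, ?_⟩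
    rw [SymBC.appLE_jj q u.toQHom hu' U V hVU e]
    exact RLPsiInv.jj_notMem hjL hV hgen.self y
  obtain ⟨ρ, hρ, τ, hfac, hτ0⟩ := ProjBundleUP2.exists_iso_of_projQMapOn h𝒜 hP hO1 hφ q L hL
    ((pullbackPushforwardAdjunction q).counit.app L) hjL hPL u hu' hdom r hr
  have hτc := compat_of_pull_local ρ p q hρ φ τ.hom _ hτ0
  have hcQ : ∀ (U : Y.Opens), IsAffineOpen U → ∀ f : Γ((pushforward q).obj L, U),
      τ.hom.app (q ⁻¹ᵁ U) (res _ (preimage_le ρ p q hρ U)
        (pull ρ O1 (p ⁻¹ᵁ U) (up p O1 U (φ.app U f)))) =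
        ((pullbackPushforwardAdjunction q).counit.app L).app (q ⁻¹ᵁ U) (pull q _ U f) :=
    fun U _ f => pull_of_compat ρ p q hρ φ τ.hom _ hτc U f
  haveI : IsImmersion ρ := by
    refine isImmersion_of_linProj hj' hP' hO1' hφ' h𝒜 hP hO1 hφ q s' i hip τ' hc'
      ((pullbackPushforwardAdjunction q).counit.app L) ρ hρ τ hcQ (fun x => ?_)
    obtain ⟨U, hU, hxU⟩ := ProjQMap.exists_affine_mem (q x)
    have hpx : p' (i x) ∈ U := by
      rw [← Scheme.Hom.comp_apply, hip]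
      exact hxU
    obtain ⟨y, hy⟩ := ProjQMap.exists_emb_eq p' chart' U hU (i x) hpx
    obtain ⟨e', he'⟩ := SymGenProj.exists_jj_notMem hj' hU y
    have hx1 : x ∈ i ⁻¹ᵁ AA j' chart' U hU e' := ⟨y, he', hy⟩
    refine ⟨U, hU, e', AddMonoidHom.mk' (fun e₁ : Γ(E', U) => t'.app U e₁)
      (fun a b => QCExact.app_add t' U a b), ?_, ?_, ?_, ?_⟩
    · intro a e₁
      change t'.app U (a • e₁) = a • t'.app U e₁
      rw [Scheme.Modules.Hom.app_smul]
    · refine le_preimage_AA_of_isGenAt h𝒜 hP hO1 hφ q _ ρ hρ τ hcQ U hU (t'.app U e') _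
        (pre_le j' chart' q i hip U hU e') (fun W' hW' => ?_) hx1
      rw [key]
      exact isGenAt_sigma hj' hO1' hφ' q s' i hip τ' hc' U hU e' W' hW'
    · refine le_preimage_AA_of_isGenAt hj' hP' hO1' hφ' q s' i hip τ' hc' U hU e' _
        (pre_le jE chart q ρ hρ U hU (t'.app U e')) (fun W' hW' => ?_)
      rw [← key]
      exact isGenAt_sigma h𝒜 hO1 hφ q _ ρ hρ τ hcQ U hU (t'.app U e') W' hW'
    · intro hXV e₁ c hrel
      change res L hXV (((pullbackPushforwardAdjunction q).counit.app L).app (q ⁻¹ᵁ U)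
          (pull q _ U (t'.app U e₁))) =
        c • res L hXV (((pullbackPushforwardAdjunction q).counit.app L).app (q ⁻¹ᵁ U)
          (pull q _ U (t'.app U e')))
      rw [key, key]
      exact hrel
  refine ⟨hdom, ?_⟩
  haveI : IsIso pL := SymInvProj.isIso_p hL hjL pL chartL hPL
  haveI : IsIso (RelProj.domQ u pL chartL).ι := RelTwistQ2.isIso_ι_of_eq_top _ hdom
  rw [← hfac]
  infer_instance

end Groth.Agent.Lib.Helper3.RLSigmaImm
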