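import Groth.Agent.Lib.Helper3.RLPsiColim
import Groth.Agent.Lib.Helper3.RLSigmaImm
import Groth.Agent.Lib.Helper3.QCAlgGen
import Groth.Agent.Lib.Helper3.SymGr
import Groth.Agent.Lib.Helper3.SymQHom
import Groth.Agent.Lib.Helper3.SymBiprod
import Groth.Agent.Lib.Helper3.VAFin
import Groth.Agent.Lib.Helper3.ProjQGlue
import Groth.Agent.Lib.Helper3.RelProjExist
import Groth.Agent.Lib.Helper3.QCPush

/-!
# `r_{L,φ}` for a finite type submodule (EGA II 4.4.4 - 4.4.7 in the `r_{L,ψ}` format)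
-/

set_option autoImplicit false
set_option linter.unusedSectionVars false
universe u
open CategoryTheory CategoryTheory.Limits AlgebraicGeometry TopologicalSpace Opposite
open Scheme.Modules
open scoped HomogeneousIdeal

namespace Groth.Agent.Lib.Helper3.RLSub

open QCSec InvGen SymGen HomogeneousLocalization Groth.Agent.Lib.Helper3.RLPsiImm
  Groth.Agent.Lib.Helper3.RLPsiImmU

section algebra

variable {A B : Type u} [CommRing A] [CommRing B] {𝒜 : ℕ → AddSubgroup A} {ℬ : ℕ → AddSubgroup B}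
  [GradedRing 𝒜] [GradedRing ℬ]

/-- a homogeneous element in the image of a graded homomorphism has a homogeneous preimage -/
theorem exists_homog_preimage (ψ : 𝒜 →+*ᵍ ℬ) {n : ℕ} {b : B} (hb : b ∈ ℬ n) (a' : A)
    (ha' : ψ a' = b) : ∃ a ∈ 𝒜 n, ψ a = b := by
  classical
  refine ⟨(DirectSum.decompose 𝒜 a' n : A), SetLike.coe_mem _, ?_⟩
  rw [GradedRingHom.map_directSumDecompose, ha', DirectSum.decompose_of_mem_same ℬ hb]

end algebra

section precomp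

variable {Y X : Scheme.{u}} {q : X ⟶ Y} {𝒯 𝒯' : RelProj.QCGrAlg Y} {𝒮L : RelProj.QCGrAlg X}

/-- precomposition of a graded `q`-morphism with a graded homomorphism on the base -/
def precomp (u : RelProj.QGrHom q 𝒯 𝒮L) (v : 𝒯'.toQCAlg ⟶ 𝒯.toQCAlg)
    (hv : RelProj.IsGradedHom v) : RelProj.QGrHom q 𝒯' 𝒮L where
  toQHom :=
    { app := fun U => v.hom.app (op U) ≫ u.app U
      naturality := fun {U V} i => by
        rw [Category.assoc, u.naturality i, ← Category.assoc, ← v.hom.naturality, Category.assoc]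
      str_app := fun U => by
        rw [← Category.assoc, ← NatTrans.comp_app, v.comm, u.str_app] }
  map_mem := fun U hU U' hU' hle d x hx => u.map_mem U hU U' hU' hle (hv U hU d x hx)

theorem precomp_app (u : RelProj.QGrHom q 𝒯 𝒮L) (v : 𝒯'.toQCAlg ⟶ 𝒯.toQCAlg)
    (hv : RelProj.IsGradedHom v) (U : Y.Opens) :
    (precomp u v hv).app U = v.hom.app (op U) ≫ u.app U := rfl

end precomp

section sym

variable {Y : Scheme.{u}} {E F : Y.Modules} [E.IsQuasicoherent] [F.IsQuasicoherent]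
  {𝒯' : RelProj.QCGrAlg Y} {jE : E ⟶ 𝒯'.toModule} (hjE : RelProj.IsGrSymAlg E 𝒯' jE)
  {𝒯 : RelProj.QCGrAlg Y} {jF : F ⟶ 𝒯.toModule} (hjF : RelProj.IsGrSymAlg F 𝒯 jF)

include hjE hjF in
/-- the graded homomorphism `Sym(E) → Sym(F)` induced by `ι : E → F` -/
theorem exists_symMap (ι : E ⟶ F) :
    ∃ v : 𝒯'.toQCAlg ⟶ 𝒯.toQCAlg, RelProj.IsGradedHom v ∧
      ∀ (U : Y.Opens) (x : Γ(E, U)),
        (v.hom.app (op U)).hom (jE.app U x) = jF.app U (ι.app U x) := by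
  obtain ⟨v, hv, -⟩ := hjE.1 𝒯.toQCAlg (ι ≫ jF)
  have hv' : ∀ (U : Y.Opens) (x : Γ(E, U)),
      (v.hom.app (op U)).hom (jE.app U x) = jF.app U (ι.app U x) := by
    intro U x
    have := congr($(hv).app U x)
    exact this
  refine ⟨v, ?_, hv'⟩
  intro U hU d x hx
  refine SymQHom.map_mem_of_closure (𝒯'.deg U hU) (𝒯.deg U hU) (v.hom.app (op U)).hom
    (Set.range (st 𝒯'.toQCAlg U) ∪ Set.range (jj 𝒯'.toQCAlg jE U))
    (G_eq_top 𝒯'.toQCAlg jE hjE.1 hU) ?_ hx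
  rintro y (⟨a, rfl⟩ | ⟨e, rfl⟩)
  · refine ⟨0, 𝒯'.str_mem U hU a, ?_⟩
    have h1 : (v.hom.app (op U)).hom (st 𝒯'.toQCAlg U a) = (𝒯.str.app (op U)).hom a :=
      SymBiprod.ψ_str v U a
    rw [h1]
    exact 𝒯.str_mem U hU a
  · refine ⟨1, hjE.2 U hU e, ?_⟩
    have h1 : (v.hom.app (op U)).hom (jj 𝒯'.toQCAlg jE U e) = jF.app U (ι.app U e) := hv' U e
    rw [h1]
    exact hjF.2 U hU _

include hjF in
/-- every section of `Sym(F)` over an affine open is a polynomial in finitely many sections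
of `F` -/
theorem exists_finset_sections {U : Y.Opens} (hU : IsAffineOpen U)
    (x : 𝒯.presheaf.obj (op U)) :
    ∃ Sg : Finset Γ(F, U), x ∈ Subring.closure
      (Set.range (st 𝒯.toQCAlg U) ∪ (jj 𝒯.toQCAlg jF U) '' (Sg : Set Γ(F, U))) := by
  classical
  have hx : x ∈ Subring.closure
      (Set.range (Sum.elim (st 𝒯.toQCAlg U) (jj 𝒯.toQCAlg jF U))) := by
    rw [Set.Sum.elim_range]
    have h := G_eq_top 𝒯.toQCAlg jF hjF.1 hU
    unfold G at h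
    rw [h]
    trivial
  obtain ⟨T, hT⟩ := VAFin.exists_finset_image_closure _ hx
  refine ⟨T.preimage Sum.inr Sum.inr_injective.injOn, ?_⟩
  refine Subring.closure_mono ?_ hT
  rintro _ ⟨t, ht, rfl⟩
  rcases t with a | σ
  · exact Or.inl ⟨a, rfl⟩
  · exact Or.inr ⟨σ, Finset.mem_coe.mpr (Finset.mem_preimage.mpr ht), rfl⟩

end sym

section capture

variable {Y : Scheme.{u}}

/-- a finite type quasi-coherent submodule capturing finitely many local sections -/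
theorem exists_sub_capture [CompactSpace Y] [QuasiSeparatedSpace Y] (F : Y.Modules)
    [F.IsQuasicoherent] {J : Type*} [Finite J] (UU : J → Y.Opens)
    (hUU : ∀ k, IsAffineOpen (UU k)) (sec : ∀ k, Γ(F, UU k)) :
    ∃ (E : Y.Modules) (ι : E ⟶ F), Mono ι ∧ E.IsQuasicoherent ∧ E.IsFiniteType ∧
      ∀ k, ∃ g : Γ(E, UU k), ι.app (UU k) g = sec k := by
  have key : ∀ k : J, ∃ (G : Y.Modules) (m : G ⟶ F), Mono m ∧ G.IsQuasicoherent ∧
      G.IsFiniteType ∧ ∃ g : Γ(G, UU k), m.app (UU k) g = sec k :=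
    fun k => QCAlgGen.exists_sub_through_section F (hUU k) (sec k)
  choose G m hm hq hft g hg using key
  obtain ⟨E, ι, hιm, hEq, hEft, hp⟩ := QCAlgGen.exists_sum F G m hq hft
  refine ⟨E, ι, hιm, hEq, hEft, fun k => ?_⟩
  obtain ⟨pk, hpk⟩ := hp k
  refine ⟨pk.app _ (g k), ?_⟩
  show ι.app _ (pk.app _ (g k)) = sec k
  rw [← hg k, ← hpk]
  rfl

end capture

section core

variable {Y X P PL : Scheme.{u}} {q : X ⟶ Y} {L : X.Modules}
  {𝒮L : RelProj.QCGrAlg X} {jL : L ⟶ 𝒮L.toModule}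
  {pL : PL ⟶ X} {chartL : ∀ (U : X.Opens) (hU : IsAffineOpen U),
    (((pL ⁻¹ᵁ U : PL.Opens) : Scheme.{u}) ≅ Proj (𝒮L.deg U hU))}
  (hL : PicF.IsInvertible L) (hLq : Coh.IsQCoh L) (hjL : RelProj.IsGrSymAlg L 𝒮L jL)
  (hPL : RelProj.IsRelProj 𝒮L pL chartL)
  {F : Y.Modules} [F.IsQuasicoherent] {𝒯 : RelProj.QCGrAlg Y} {jF : F ⟶ 𝒯.toModule}
  (h𝒯 : RelProj.IsGrSymAlg F 𝒯 jF) (u : RelProj.QGrHom q 𝒯 𝒮L)
  {p : P ⟶ Y} {chart : ∀ (U : Y.Opens) (hU : IsAffineOpen U),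
    (((p ⁻¹ᵁ U : P.Opens) : Scheme.{u}) ≅ Proj (𝒯.deg U hU))}
  (hP : RelProj.IsRelProj 𝒯 p chart)
  (r : ((RelProj.domQ u pL chartL : PL.Opens) : Scheme.{u}) ⟶ P)
  (hr : RelProj.IsProjQMapOn u p chart pL chartL (RelProj.domQ u pL chartL) r)

include hLq hjL h𝒯 in
/-- surjectivity of `φ` makes `r_{L,φ}` everywhere defined -/
theorem domQ_eq_top_of_surj
    (hsurj : ∀ x : X, ∃ (U : Y.Opens) (hU : IsAffineOpen U) (e : Γ(F, U)) (V : X.Opens)
      (hV : IsAffineOpen V) (hVU : V ≤ q ⁻¹ᵁ U), x ∈ V ∧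
        ((𝒮L.deg V hV 1 : AddSubgroup (𝒮L.presheaf.obj (op V))) :
          Set (𝒮L.presheaf.obj (op V))) ⊆
          (Ideal.span {(u.appLE U V hVU).hom ((jF.app U) e)} : Set (𝒮L.presheaf.obj (op V)))) :
    RelProj.domQ u pL chartL = ⊤ := by
  haveI : L.IsQuasicoherent := hLq
  rw [eq_top_iff]
  intro x' _
  obtain ⟨U, hU, e, V, hV, hVU, hxV, hspan⟩ := hsurj (pL x')
  obtain ⟨y, hy⟩ := ProjQMap.exists_emb_eq pL chartL V hV x' hxV
  have hsy := RLPsiInv.notMem_of_span hjL V hV y hspan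
  exact RLPsi.mem_domQ_of_loc u x' U hU V hV hVU
    ⟨y, hy, 1, one_pos, jF.app U e, h𝒯.2 U hU e, hsy⟩

include hL hLq hjL hPL h𝒯 hP hr in
/-- **EGA II 4.4.7**, necessity: an everywhere defined immersion `r_{L,φ}` comes from a finite
type submodule -/
theorem exists_finiteType_sub [CompactSpace Y] [QuasiSeparatedSpace Y] [QuasiCompact q]
    [LocallyOfFiniteType q]
    (hsurj : ∀ x : X, ∃ (U : Y.Opens) (hU : IsAffineOpen U) (e : Γ(F, U)) (V : X.Opens)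
      (hV : IsAffineOpen V) (hVU : V ≤ q ⁻¹ᵁ U), x ∈ V ∧
        ((𝒮L.deg V hV 1 : AddSubgroup (𝒮L.presheaf.obj (op V))) :
          Set (𝒮L.presheaf.obj (op V))) ⊆
          (Ideal.span {(u.appLE U V hVU).hom ((jF.app U) e)} : Set (𝒮L.presheaf.obj (op V))))
    (hW : RelProj.domQ u pL chartL = ⊤) [IsImmersion r] :
    ∃ (E : Y.Modules) (_ : Coh.IsQCoh E) (_ : CohB1.IsFT E) (ι : E ⟶ F)
      (_ : ∀ U : Y.Opens, Function.Injective (ι.app U))
      (𝒯' : RelProj.QCGrAlg Y) (jE : E ⟶ 𝒯'.toModule) (_ : RelProj.IsGrSymAlg E 𝒯' jE)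
      (u' : RelProj.QGrHom q 𝒯' 𝒮L)
      (_ : ∀ (U : Y.Opens) (x : Γ(E, U)),
        (u'.app U).hom ((jE.app U) x) = (u.app U).hom ((jF.app U) ((ι.app U) x))),
      (∀ x : X, ∃ (U : Y.Opens) (hU : IsAffineOpen U) (e : Γ(E, U)) (V : X.Opens)
        (hV : IsAffineOpen V) (hVU : V ≤ q ⁻¹ᵁ U), x ∈ V ∧
          ((𝒮L.deg V hV 1 : AddSubgroup (𝒮L.presheaf.obj (op V))) :
            Set (𝒮L.presheaf.obj (op V))) ⊆
            (Ideal.span {(u'.appLE U V hVU).hom ((jE.app U) e)} :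
              Set (𝒮L.presheaf.obj (op V)))) ∧
      ∀ (P' : Scheme.{u}) (p' : P' ⟶ Y)
        (chart' : ∀ (U : Y.Opens) (hU : IsAffineOpen U),
          (((p' ⁻¹ᵁ U : P'.Opens) : Scheme.{u}) ≅ Proj (𝒯'.deg U hU)))
        (_ : RelProj.IsRelProj 𝒯' p' chart')
        (r' : ((RelProj.domQ u' pL chartL : PL.Opens) : Scheme.{u}) ⟶ P')
        (_ : RelProj.IsProjQMapOn u' p' chart' pL chartL (RelProj.domQ u' pL chartL) r'),
        RelProj.domQ u' pL chartL = ⊤ ∧ IsImmersion r' := by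
  classical
  haveI : CompactSpace X := QuasiCompact.compactSpace_of_compactSpace q
  -- local data of the immersion
  choose U hU n s hXT hn hs hx hsj using
    fun x : X => exists_local_data u r hL hLq hjL hP hPL hr hW x
  choose U₂ hU₂ e₂ V₂ hV₂ hVU₂ hxV₂ hspan₂ using hsurj
  have hcov : (Set.univ : Set X) ⊆
      ⋃ x : X, ((XFU u (U x) (n x) (s x) ⊓ V₂ x : X.Opens) : Set X) :=
    fun x _ => Set.mem_iUnion.mpr ⟨x, ⟨hx x, hxV₂ x⟩⟩
  obtain ⟨F₀, hF₀⟩ := isCompact_univ.elim_finite_subcover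
    (fun x : X => ((XFU u (U x) (n x) (s x) ⊓ V₂ x : X.Opens) : Set X))
    (fun x => (XFU u (U x) (n x) (s x) ⊓ V₂ x).isOpen) hcov
  have hF₀' : ∀ x : X, ∃ y ∈ F₀, x ∈ XFU u (U y) (n y) (s y) ∧ x ∈ V₂ y := by
    intro x
    obtain ⟨y, hyF, hxy⟩ := Set.mem_iUnion₂.mp (hF₀ (Set.mem_univ x))
    exact ⟨y, hyF, hxy⟩
  -- condition (iii)
  have h3 : ∀ (x : X) (τ : X.presheaf.obj (op (XFU u (U x) (n x) (s x)))),
      ∃ (m : ℕ) (_ : 0 < m) (s' : 𝒯.presheaf.obj (op (U x)))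
        (_ : s' ∈ 𝒯.deg (U x) (hU x) (m * n x)),
        (𝒮L.str.app (op (XFU u (U x) (n x) (s x)))).hom τ *
          ((u.appLE (U x) (XFU u (U x) (n x) (s x)) (XFU_le u _ _ _)).hom (s x)) ^ m =
          (u.appLE (U x) (XFU u (U x) (n x) (s x)) (XFU_le u _ _ _)).hom s' :=
    fun x τ => iii_of_surjective (u.gradedAt (U x) (hU x) _ (hXT x) (XFU_le u _ _ _)) (hs x)
      (𝒮L.str.app (op _)).hom (𝒮L.str_mem _ (hXT x)) (hsj x) τ
  choose m hm s' hs' he' using h3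
  choose G hG using fun x : X => RLPsiColim.exists_finset_gen (𝒮L := 𝒮L) (q := q) (U x) (hU x)
    (XFU u (U x) (n x) (s x)) (hXT x) (XFU_le u _ _ _)
  -- the finitely many sections of `F` needed
  choose Sx hSx using fun (x : X) (t : 𝒯.presheaf.obj (op (U x))) =>
    exists_finset_sections h𝒯 (hU x) t
  let Sg : ∀ x : X, Finset Γ(F, U x) := fun x =>
    Sx x (s x) ∪ (G x).biUnion (fun τ => Sx x (s' x τ))
  have hSg1 : ∀ x : X, Sx x (s x) ⊆ Sg x := fun x => Finset.subset_union_left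
  have hSg2 : ∀ (x : X) (τ : X.presheaf.obj (op (XFU u (U x) (n x) (s x)))), τ ∈ G x →
      Sx x (s' x τ) ⊆ Sg x := fun x τ hτ =>
    (Finset.subset_biUnion_of_mem (fun τ => Sx x (s' x τ)) hτ).trans Finset.subset_union_right
  -- capture them in a finite type submodule
  let J := (Σ y : {x : X // x ∈ F₀}, {σ : Γ(F, U y.1) // σ ∈ Sg y.1}) ⊕ {x : X // x ∈ F₀}
  haveI : Finite J := inferInstance
  let UU : J → Y.Opens := fun k => Sum.elim (fun k' => U k'.1.1) (fun y => U₂ y.1) k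
  have hUU : ∀ k, IsAffineOpen (UU k) := by
    rintro (k | y)
    · exact hU _
    · exact hU₂ _
  let sec : ∀ k : J, Γ(F, UU k) := fun k => match k with
    | Sum.inl k' => k'.2.1
    | Sum.inr y => e₂ y.1
  obtain ⟨E, ι, hιm, hEq, hEft, hcap⟩ := exists_sub_capture F UU hUU sec
  haveI := hιm
  haveI := hEq
  have hrange : ∀ (y : {x : X // x ∈ F₀}) (σ : Γ(F, U y.1)), σ ∈ Sg y.1 →
      ∃ g : Γ(E, U y.1), ι.app (U y.1) g = σ :=
    fun y σ hσ => hcap (Sum.inl ⟨y, σ, hσ⟩)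
  have hrange₂ : ∀ y : {x : X // x ∈ F₀}, ∃ g : Γ(E, U₂ y.1), ι.app (U₂ y.1) g = e₂ y.1 :=
    fun y => hcap (Sum.inr y)
  obtain ⟨𝒯', jE, hjE⟩ := SymGr.exists_isGrSymAlg E
  obtain ⟨v, hvg, hv⟩ := exists_symMap hjE h𝒯 ι
  have hu'le : ∀ (U₀ : Y.Opens) (V₀ : X.Opens) (hle : V₀ ≤ q ⁻¹ᵁ U₀)
      (τ : 𝒯'.presheaf.obj (op U₀)),
      ((precomp u v hvg).appLE U₀ V₀ hle).hom τ =
        (u.appLE U₀ V₀ hle).hom ((v.hom.app (op U₀)).hom τ) :=
    fun U₀ V₀ hle τ => RLPsi.appLE_of_comp u (precomp u v hvg) v (fun _ => rfl) U₀ V₀ hle τ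
  -- lifting along `v`
  have hlift : ∀ (y : {x : X // x ∈ F₀}) (d : ℕ) (t : 𝒯.presheaf.obj (op (U y.1))),
      t ∈ 𝒯.deg (U y.1) (hU y.1) d → Sx y.1 t ⊆ Sg y.1 →
      ∃ t' ∈ 𝒯'.deg (U y.1) (hU y.1) d, (v.hom.app (op (U y.1))).hom t' = t := by
    intro y d t ht hsub
    have h1 := hSx y.1 t
    have h2 : Subring.closure (Set.range (st 𝒯.toQCAlg (U y.1)) ∪
        (jj 𝒯.toQCAlg jF (U y.1)) '' (Sx y.1 t : Set Γ(F, U y.1))) ≤
        (v.hom.app (op (U y.1))).hom.range := by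
      rw [Subring.closure_le]
      rintro _ (⟨a, rfl⟩ | ⟨σ, hσ, rfl⟩)
      · exact RingHom.mem_range.mpr ⟨st 𝒯'.toQCAlg (U y.1) a, SymBiprod.ψ_str v (U y.1) a⟩
      · obtain ⟨g, hg⟩ := hrange y σ (hsub (Finset.mem_coe.mp hσ))
        refine RingHom.mem_range.mpr ⟨jj 𝒯'.toQCAlg jE (U y.1) g, ?_⟩
        rw [← hg]
        exact hv (U y.1) g
    obtain ⟨t₀, ht₀⟩ := RingHom.mem_range.mp (h2 h1)
    exact exists_homog_preimage (RelProj.gradedHomAt v hvg (U y.1) (hU y.1)) ht t₀ ht₀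
  have hσex : ∀ y : {x : X // x ∈ F₀}, ∃ σ ∈ 𝒯'.deg (U y.1) (hU y.1) (n y.1),
      (v.hom.app (op (U y.1))).hom σ = s y.1 :=
    fun y => hlift y _ (s y.1) (hs y.1) (hSg1 y.1)
  choose σ hσ hσs using hσex
  have hτex : ∀ (y : {x : X // x ∈ F₀})
      (τ : X.presheaf.obj (op (XFU u (U y.1) (n y.1) (s y.1)))), τ ∈ G y.1 →
      ∃ t' ∈ 𝒯'.deg (U y.1) (hU y.1) (m y.1 τ * n y.1),
        (v.hom.app (op (U y.1))).hom t' = s' y.1 τ :=
    fun y τ hτ => hlift y _ (s' y.1 τ) (hs' y.1 τ) (hSg2 y.1 τ hτ)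
  refine ⟨E, hEq, hEft, ι, fun U₀ => QCExact.injective_sections ι U₀, 𝒯', jE, hjE,
    precomp u v hvg, fun U₀ x => ?_, fun x => ?_, fun P' p' chart' hP' r' hr' => ?_⟩
  · change (u.app U₀).hom ((v.hom.app (op U₀)).hom (jE.app U₀ x)) = _
    rw [hv U₀ x]
  · obtain ⟨y, hyF, -, hxy⟩ := hF₀' x
    obtain ⟨g, hg⟩ := hrange₂ ⟨y, hyF⟩
    refine ⟨U₂ y, hU₂ y, g, V₂ y, hV₂ y, hVU₂ y, hxy, ?_⟩
    rw [hu'le, hv, hg]
    exact hspan₂ y
  · refine isImmersion_of_family (precomp u v hvg) r' hL hLq hjL hP' hPL hr'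
      (fun a : {x : X // x ∈ F₀} => U a.1) (fun a => hU a.1) (fun a => n a.1) σ
      (fun a => XFU u (U a.1) (n a.1) (s a.1))
      (fun a => ⟨hn a.1, hσ a⟩) ?_ ?_ (fun a => hXT a.1) (fun a => XFU_le u _ _ _) ?_
    · intro a
      refine XFU_congr u (precomp u v hvg) (U a.1) (n a.1) (s a.1) (σ a) (fun V hle => ?_)
      rw [hu'le, hσs a]
    · rw [eq_top_iff]
      intro x _
      obtain ⟨y, hyF, hxy, -⟩ := hF₀' x
      exact Opens.mem_iSup.mpr ⟨⟨y, hyF⟩, hxy⟩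
    · intro a
      refine hG a.1 𝒯' (precomp u v hvg) (n a.1) (σ a) (hσ a) ?_
      intro τ hτ
      obtain ⟨t', ht', hvt'⟩ := hτex a τ hτ
      refine ⟨m a.1 τ, hm a.1 τ, t', ht', ?_⟩
      rw [hu'le, hu'le, hσs a, hvt', he' a.1 τ]

include hL hLq hjL hPL h𝒯 hP hr in
/-- **EGA II 4.4.7**, sufficiency: if `r_{L,φ'}` for a submodule is an everywhere defined
immersion, so is `r_{L,φ}` -/
theorem isImmersion_of_sub {E : Y.Modules} [E.IsQuasicoherent] (ι : E ⟶ F)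
    {𝒯' : RelProj.QCGrAlg Y} {jE : E ⟶ 𝒯'.toModule} (hjE : RelProj.IsGrSymAlg E 𝒯' jE)
    (u' : RelProj.QGrHom q 𝒯' 𝒮L)
    (hu' : ∀ (U : Y.Opens) (x : Γ(E, U)),
      (u'.app U).hom ((jE.app U) x) = (u.app U).hom ((jF.app U) ((ι.app U) x)))
    (hmain : ∀ (P' : Scheme.{u}) (p' : P' ⟶ Y)
      (chart' : ∀ (U : Y.Opens) (hU : IsAffineOpen U),
        (((p' ⁻¹ᵁ U : P'.Opens) : Scheme.{u}) ≅ Proj (𝒯'.deg U hU)))
      (_ : RelProj.IsRelProj 𝒯' p' chart')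
      (r' : ((RelProj.domQ u' pL chartL : PL.Opens) : Scheme.{u}) ⟶ P')
      (_ : RelProj.IsProjQMapOn u' p' chart' pL chartL (RelProj.domQ u' pL chartL) r'),
      RelProj.domQ u' pL chartL = ⊤ ∧ IsImmersion r') :
    RelProj.domQ u pL chartL = ⊤ ∧ IsImmersion r := by
  classical
  obtain ⟨P', p', chart', hP'⟩ := RelProjExist.exists_isRelProj 𝒯'
  obtain ⟨r', hr'⟩ := ProjQGlue.exists_isProjQMapOn (u := u') p' chart' pL chartL hP' hPL
  obtain ⟨hdom', hri'⟩ := hmain P' p' chart' hP' r' hr'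
  haveI := hri'
  obtain ⟨v, hvg, hv⟩ := exists_symMap hjE h𝒯 ι
  have hcomp : ∀ (U₀ : Y.Opens) (hU₀ : IsAffineOpen U₀) (τ : 𝒯'.presheaf.obj (op U₀)),
      (u'.app U₀).hom τ = (u.app U₀).hom ((v.hom.app (op U₀)).hom τ) := by
    intro U₀ hU₀ τ
    have hfg : (u'.app U₀).hom = ((u.app U₀).hom).comp (v.hom.app (op U₀)).hom := by
      refine RingHom.eq_of_eqOn_set_dense
        (s := Set.range (st 𝒯'.toQCAlg U₀) ∪ Set.range (jj 𝒯'.toQCAlg jE U₀))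
        (G_eq_top 𝒯'.toQCAlg jE hjE.1 hU₀) ?_
      rintro _ (⟨a, rfl⟩ | ⟨e, rfl⟩)
      · change (u'.app U₀).hom ((𝒯'.str.app (op U₀)).hom a) =
          (u.app U₀).hom ((v.hom.app (op U₀)).hom ((𝒯'.str.app (op U₀)).hom a))
        rw [SymBiprod.ψ_str v U₀ a]
        have h1 := congr($(u'.str_app U₀) a)
        have h2 := congr($(u.str_app U₀) a)
        exact h1.trans h2.symm
      · change (u'.app U₀).hom (jE.app U₀ e) =
          (u.app U₀).hom ((v.hom.app (op U₀)).hom (jE.app U₀ e))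
        rw [hv U₀ e]
        exact hu' U₀ e
    exact congr($hfg τ)
  have hcompLE : ∀ (U₀ : Y.Opens) (hU₀ : IsAffineOpen U₀) (V₀ : X.Opens)
      (hle : V₀ ≤ q ⁻¹ᵁ U₀) (τ : 𝒯'.presheaf.obj (op U₀)),
      (u'.appLE U₀ V₀ hle).hom τ = (u.appLE U₀ V₀ hle).hom ((v.hom.app (op U₀)).hom τ) :=
    fun U₀ hU₀ V₀ hle τ =>
      congrArg (𝒮L.presheaf.map (homOfLE hle).op).hom (hcomp U₀ hU₀ τ)
  choose U hU n σ hXT hn hσ hx hsj using
    fun x : X => exists_local_data u' r' hL hLq hjL hP' hPL hr' hdom' x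
  refine isImmersion_of_family u r hL hLq hjL hP hPL hr U hU n
    (fun x => (v.hom.app (op (U x))).hom (σ x))
    (fun x => XFU u' (U x) (n x) (σ x)) (fun x => ⟨hn x, hvg (U x) (hU x) _ _ (hσ x)⟩) ?_ ?_
    hXT (fun x => XFU_le u' _ _ _) ?_
  · intro x
    exact XFU_congr u' u (U x) (n x) (σ x) _ (fun V hle => hcompLE (U x) (hU x) V hle (σ x))
  · rw [eq_top_iff]
    intro x _
    exact Opens.mem_iSup.mpr ⟨x, hx x⟩
  · intro x t
    obtain ⟨m, hm, s'', hs'', e⟩ := iii_of_surjective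
      (u'.gradedAt (U x) (hU x) _ (hXT x) (XFU_le u' _ _ _)) (hσ x)
      (𝒮L.str.app (op _)).hom (𝒮L.str_mem _ (hXT x)) (hsj x) t
    refine ⟨m, hm, (v.hom.app (op (U x))).hom s'', hvg _ _ _ _ hs'', ?_⟩
    rw [← hcompLE (U x) (hU x), ← hcompLE (U x) (hU x)]
    exact e

end core

end Groth.Agent.Lib.Helper3.RLSub
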