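import Groth.Agent.Lib.Helper3.SpecQMap
import Groth.Agent.Lib.Helper3.RLPsiImm
import Groth.Agent.Lib.Helper3.RLSub
import Groth.Agent.Lib.Helper3.QCAlgSub
import Groth.Agent.Lib.Helper3.TrivFin
import Groth.Agent.Lib.Helper13.RelSpecBasic
import Mathlib.AlgebraicGeometry.QuasiAffine

/-!
# Quasi-affine morphisms of finite type factor through an immersion into an affine morphism of
finite type (EGA II 5.1.9)
-/

set_option autoImplicit false
universe u
open CategoryTheory CategoryTheory.Limits AlgebraicGeometry TopologicalSpace Opposite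
open Scheme.Modules

namespace Groth.Agent.Lib.Helper3.QAffImm

open QCSec

variable {X Y : Scheme.{u}}

/-- a quasi-affine open is covered by affine basic opens of its functions -/
theorem exists_affine_basicOpen (U : X.Opens) [Scheme.IsQuasiAffine (U : Scheme.{u})] (x : X)
    (hx : x ∈ U) : ∃ g : Γ(X, U), IsAffineOpen (X.basicOpen g) ∧ x ∈ X.basicOpen g := by
  obtain ⟨_, ⟨_, ⟨r, hr, rfl⟩, rfl⟩, hxr, -⟩ :=
    (Scheme.IsQuasiAffine.isBasis_basicOpen (U : Scheme.{u})).exists_subset_of_mem_open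
      (Set.mem_univ (⟨x, hx⟩ : (U : Scheme.{u}))) isOpen_univ
  have e : U.topIso.inv (U.topIso.hom r) = r :=
    congrArg (fun φ => φ.hom r) U.topIso.hom_inv_id
  have h := Scheme.Opens.ι_image_basicOpen_topIso_inv U (U.topIso.hom r)
  rw [e] at h
  refine ⟨U.topIso.hom r, ?_, ?_⟩
  · rw [← h]
    exact hr.image_of_isOpenImmersion U.ι
  · rw [← h]
    exact ⟨⟨x, hx⟩, hxr, rfl⟩

theorem opensRange_away {R : CommRingCat.{u}} (r : R) :
    (Spec.map (CommRingCat.ofHom (algebraMap R (Localization.Away r)))).opensRange =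
      (PrimeSpectrum.basicOpen r : (Spec (CommRingCat.of R)).Opens) :=
  TopologicalSpace.Opens.ext
    (PrimeSpectrum.localization_away_comap_range (Localization.Away r) r)

/-- the relative spectrum of an algebra of finite type is of finite type over the base -/
theorem locallyOfFiniteType_π (A : RelSpec.QCAlg Y)
    (h : ∀ V : Y.affineOpens, (A.str.app (op (V : Y.Opens))).hom.FiniteType) :
    LocallyOfFiniteType A.π := by
  refine (IsZariskiLocalAtSource.iff_of_openCover (P := @LocallyOfFiniteType) (f := A.π)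
    (show A.spec.OpenCover from A.glueData.cover)).mpr ?_
  intro U
  change LocallyOfFiniteType (A.ι U.1 U.2 ≫ A.π)
  rw [A.ι_π]
  haveI : LocallyOfFiniteType (Spec.map (A.str.app (op U.1))) := by
    rw [HasRingHomProperty.Spec_iff (P := @LocallyOfFiniteType)]
    exact h ⟨U.1, U.2⟩
  infer_instance

/-- a morphism to a relative spectrum with prescribed charts, from a homomorphism of algebras
over a morphism to the structure sheaf -/
theorem exists_hom_of_qhom (f : X ⟶ Y) (B' : RelSpec.QCAlg Y)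
    (u : RelSpec.QHom f B' (RelSpec.QCAlg.unit X)) :
    ∃ i : X ⟶ B'.spec, (∀ (U : Y.Opens) (hU : IsAffineOpen U) (U' : X.Opens)
      (hU' : IsAffineOpen U') (hle : U' ≤ f ⁻¹ᵁ U),
        hU'.fromSpec ≫ i = Spec.map (u.appLE U U' hle) ≫ B'.ι U hU) ∧ i ≫ B'.π = f := by
  obtain ⟨h, hh⟩ := SpecQMap.exists_isSpecQMap u
  refine ⟨Groth.Agent.Lib.Helper13.sectionOf (RelSpec.QCAlg.unit X) (𝟙 _) ≫ h, ?_, ?_⟩
  · intro U hU U' hU' hle
    rw [← Category.assoc, Groth.Agent.Lib.Helper13.fromSpec_sectionOf, Category.assoc,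
      hh U hU U' hU' hle]
    have e : Spec.map (Groth.Agent.Lib.Helper13.augApp (RelSpec.QCAlg.unit X) (𝟙 _) U') =
        𝟙 (Spec Γ(X, U')) := Spec.map_id _
    rw [e]
    exact Category.id_comp _
  · rw [Category.assoc, SpecQMap.comp_π_of_isSpecQMap h hh, ← Category.assoc,
      Groth.Agent.Lib.Helper13.sectionOf_π, Category.id_comp]

section main

variable (f : X ⟶ Y) {B' : RelSpec.QCAlg Y} (u : RelSpec.QHom f B' (RelSpec.QCAlg.unit X))

/-- the ring map `B'(V) → Γ(X, U')` of `u` -/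
noncomputable def psi (V : Y.Opens) (U' : X.Opens) (hle : U' ≤ f ⁻¹ᵁ V) :
    ↑(B'.presheaf.obj (op V)) →+* ↑Γ(X, U') := (u.appLE V U' hle).hom

theorem psi_apply (V : Y.Opens) (U' : X.Opens) (hle : U' ≤ f ⁻¹ᵁ V)
    (b : B'.presheaf.obj (op V)) : psi f u V U' hle b = rres X hle ((u.app V).hom b) := rfl

variable (i : X ⟶ B'.spec)
  (hi : ∀ (U : Y.Opens) (hU : IsAffineOpen U) (U' : X.Opens) (hU' : IsAffineOpen U')
    (hle : U' ≤ f ⁻¹ᵁ U), hU'.fromSpec ≫ i = Spec.map (u.appLE U U' hle) ≫ B'.ι U hU)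
  (hπ : i ≫ B'.π = f)

include hi in
theorem mem_image_basicOpen_iff {V : Y.Opens} (hV : IsAffineOpen V) (g : Γ(X, f ⁻¹ᵁ V))
    (g' : B'.presheaf.obj (op V)) (hg' : (u.app V).hom g' = g) (x : X) (hxV : x ∈ f ⁻¹ᵁ V) :
    i x ∈ (B'.ι V hV ''ᵁ
        (PrimeSpectrum.basicOpen g' : (Spec (B'.presheaf.obj (op V))).Opens)) ↔
      x ∈ X.basicOpen g := by
  obtain ⟨U'', hU'', hxU'', hle⟩ := Opens.isBasis_iff_nbhd.mp X.isBasis_affineOpens hxV
  have hxr : x ∈ Set.range hU''.fromSpec := by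
    rw [hU''.range_fromSpec]
    exact hxU''
  obtain ⟨y, rfl⟩ := hxr
  have e1 : i (hU''.fromSpec y) = B'.ι V hV (Spec.map (u.appLE V U'' hle) y) :=
    congrArg (fun φ : Spec Γ(X, U'') ⟶ B'.spec => φ y) (hi V hV U'' hU'' hle)
  rw [e1]
  have e2 : B'.ι V hV (Spec.map (u.appLE V U'' hle) y) ∈
      (B'.ι V hV ''ᵁ (PrimeSpectrum.basicOpen g' : (Spec (B'.presheaf.obj (op V))).Opens)) ↔
      Spec.map (u.appLE V U'' hle) y ∈
        (PrimeSpectrum.basicOpen g' : (Spec (B'.presheaf.obj (op V))).Opens) := by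
    constructor
    · rintro ⟨z, hz, hzy⟩
      have hzz : z = Spec.map (u.appLE V U'' hle) y :=
        (B'.ι V hV).isOpenEmbedding.injective hzy
      rw [← hzz]
      exact hz
    · intro h
      exact ⟨_, h, rfl⟩
  rw [e2]
  have e3 : psi f u V U'' hle g' = rres X hle g := by
    rw [psi_apply, hg']
  have e4 : (Spec.map (u.appLE V U'' hle) y ∈
      (PrimeSpectrum.basicOpen g' : (Spec (B'.presheaf.obj (op V))).Opens)) ↔
      y ∈ (PrimeSpectrum.basicOpen (psi f u V U'' hle g') : (Spec Γ(X, U'')).Opens) := Iff.rfl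
  rw [e4, e3, ← hU''.fromSpec_preimage_basicOpen, Scheme.basicOpen_res]
  constructor
  · intro h
    exact h.2
  · intro h
    exact ⟨hxU'', h⟩

include hi hπ in
theorem preimage_image_basicOpen {V : Y.Opens} (hV : IsAffineOpen V) (g : Γ(X, f ⁻¹ᵁ V))
    (g' : B'.presheaf.obj (op V)) (hg' : (u.app V).hom g' = g) :
    i ⁻¹ᵁ (B'.ι V hV ''ᵁ
        (PrimeSpectrum.basicOpen g' : (Spec (B'.presheaf.obj (op V))).Opens)) =
      X.basicOpen g := by
  apply le_antisymm
  · intro x hx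
    have hxV : x ∈ f ⁻¹ᵁ V := by
      have h1 : i x ∈ Set.range (B'.ι V hV) := by
        obtain ⟨z, -, hz⟩ := hx
        exact ⟨z, hz⟩
      have h2 := (SpecQMap.mem_range_ι_iff B' V hV (i x)).mp h1
      have h3 : B'.π (i x) = f x := by
        rw [← hπ]
        rfl
      rw [h3] at h2
      exact h2
    exact (mem_image_basicOpen_iff f u i hi hV g g' hg' x hxV).mp hx
  · intro x hx
    exact (mem_image_basicOpen_iff f u i hi hV g g' hg' x (X.basicOpen_le g hx)).mpr hx

include hi hπ in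
/-- the immersion criterion -/
theorem isImmersion_of_charts {J : Type u} (V : J → Y.Opens) (hV : ∀ t, IsAffineOpen (V t))
    (g : ∀ t, Γ(X, f ⁻¹ᵁ V t)) (hg : ∀ t, IsAffineOpen (X.basicOpen (g t)))
    (hcov : ∀ x : X, ∃ t, x ∈ X.basicOpen (g t))
    (g' : ∀ t, B'.presheaf.obj (op (V t))) (hg' : ∀ t, (u.app (V t)).hom (g' t) = g t)
    (hsurj : ∀ t (S : Subring Γ(X, X.basicOpen (g t))),
      (∀ b, psi f u (V t) (X.basicOpen (g t)) (X.basicOpen_le (g t)) b ∈ S) →
      (∃ w ∈ S, rres X (X.basicOpen_le (g t)) (g t) * w = 1) → ∀ z, z ∈ S) :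
    IsImmersion i := by
  have e3 : ∀ t, psi f u (V t) (X.basicOpen (g t)) (X.basicOpen_le (g t)) (g' t) =
      rres X (X.basicOpen_le (g t)) (g t) := fun t => by
    rw [psi_apply, hg' t]
  have hunit : ∀ t, IsUnit (psi f u (V t) (X.basicOpen (g t)) (X.basicOpen_le (g t)) (g' t)) :=
    fun t => by
      rw [e3 t]
      exact TrivFin.isUnit_rres_of_le_basicOpen (g t) (X.basicOpen_le (g t)) le_rfl
  have hsurj' : ∀ t, Function.Surjective
      (IsLocalization.Away.lift (S := Localization.Away (g' t)) (g' t) (hunit t)) := by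
    intro t z
    apply RingHom.mem_range.mp
    apply hsurj t (IsLocalization.Away.lift (S := Localization.Away (g' t)) (g' t) (hunit t)).range
    · intro b
      exact RingHom.mem_range.mpr
        ⟨algebraMap _ _ b, IsLocalization.Away.lift_eq (g' t) (hunit t) b⟩
    · refine ⟨IsLocalization.Away.lift (S := Localization.Away (g' t)) (g' t) (hunit t)
        (IsLocalization.Away.invSelf (g' t)), RingHom.mem_range.mpr ⟨_, rfl⟩, ?_⟩
      rw [← e3 t, ← IsLocalization.Away.lift_eq (S := Localization.Away (g' t)) (g' t) (hunit t)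
        (g' t), ← map_mul, IsLocalization.Away.mul_invSelf, map_one]
  have hcomm : ∀ t, (hg t).fromSpec ≫ i =
      Spec.map (CommRingCat.ofHom
          (IsLocalization.Away.lift (S := Localization.Away (g' t)) (g' t) (hunit t))) ≫
        (Spec.map (CommRingCat.ofHom
            (algebraMap (B'.presheaf.obj (op (V t))) (Localization.Away (g' t)))) ≫
          B'.ι (V t) (hV t)) := by
    intro t
    have e : u.appLE (V t) (X.basicOpen (g t)) (X.basicOpen_le (g t)) =
        ((CommRingCat.ofHom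
            (algebraMap (B'.presheaf.obj (op (V t))) (Localization.Away (g' t))) ≫
          CommRingCat.ofHom
            (IsLocalization.Away.lift (S := Localization.Away (g' t)) (g' t) (hunit t)) :
          B'.presheaf.obj (op (V t)) ⟶
            (RelSpec.QCAlg.unit X).presheaf.obj (op (X.basicOpen (g t))))) := by
      apply CommRingCat.hom_ext
      exact (IsLocalization.Away.lift_comp (g' t) (hunit t)).symm
    rw [hi (V t) (hV t) (X.basicOpen (g t)) (hg t) (X.basicOpen_le (g t)), e, Spec.map_comp,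
      Category.assoc]
    rfl
  have hD : ∀ t, (Spec.map (CommRingCat.ofHom
        (algebraMap (B'.presheaf.obj (op (V t))) (Localization.Away (g' t)))) ≫
        B'.ι (V t) (hV t)).opensRange =
      B'.ι (V t) (hV t) ''ᵁ
        (PrimeSpectrum.basicOpen (g' t) : (Spec (B'.presheaf.obj (op (V t)))).Opens) := by
    intro t
    rw [Scheme.Hom.opensRange_comp, opensRange_away]
  obtain ⟨fO, hfO, hQ⟩ := RLPsiImm.exists_lift_of_charts @IsClosedImmersion i
    (fun t => Spec (CommRingCat.of (Localization.Away (g' t))))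
    (fun t => Spec Γ(X, X.basicOpen (g t)))
    (fun t => Spec.map (CommRingCat.ofHom
        (algebraMap (B'.presheaf.obj (op (V t))) (Localization.Away (g' t)))) ≫
        B'.ι (V t) (hV t))
    (fun t => (hg t).fromSpec)
    (fun t => Spec.map (CommRingCat.ofHom
          (IsLocalization.Away.lift (S := Localization.Away (g' t)) (g' t) (hunit t))))
    (fun t => B'.ι (V t) (hV t) ''ᵁ
        (PrimeSpectrum.basicOpen (g' t) : (Spec (B'.presheaf.obj (op (V t)))).Opens))
    hD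
    (fun t => IsClosedImmersion.spec_of_surjective _ (hsurj' t))
    hcomm
    (fun t => by
      rw [(hg t).opensRange_fromSpec]
      exact preimage_image_basicOpen f u i hi hπ (hV t) (g t) (g' t) (hg' t))
    (fun x => by
      obtain ⟨t, ht⟩ := hcov x
      have : x ∈ Set.range (hg t).fromSpec := by
        rw [(hg t).range_fromSpec]
        exact ht
      obtain ⟨y, hy⟩ := this
      exact ⟨t, y, hy⟩)
  haveI := hQ
  rw [← hfO]
  infer_instance

end main

/-- a chart datum -/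
structure Dat (f : X ⟶ Y) where
  V : Y.Opens
  hV : IsAffineOpen V
  g : Γ(X, f ⁻¹ᵁ V)
  hg : IsAffineOpen (X.basicOpen g)

theorem exists_finite_dat [CompactSpace X] (f : X ⟶ Y)
    (hqa : ∀ V : Y.Opens, IsAffineOpen V → Scheme.IsQuasiAffine (f ⁻¹ᵁ V : Scheme.{u})) :
    ∃ s : Finset (Dat f), ∀ x : X, ∃ d ∈ s, x ∈ X.basicOpen d.g := by
  have hcov : (Set.univ : Set X) ⊆ ⋃ d : Dat f, (X.basicOpen d.g : Set X) := by
    intro x _
    obtain ⟨V, hV, hxV⟩ := QCProps.exists_affine_nbhd (f x)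
    haveI := hqa V hV
    obtain ⟨g, hg, hxg⟩ := exists_affine_basicOpen (f ⁻¹ᵁ V) x hxV
    exact Set.mem_iUnion.mpr ⟨⟨V, hV, g, hg⟩, hxg⟩
  obtain ⟨s, hs⟩ := isCompact_univ.elim_finite_subcover
    (fun d : Dat f => (X.basicOpen d.g : Set X)) (fun d => (X.basicOpen d.g).2) hcov
  refine ⟨s, fun x => ?_⟩
  obtain ⟨d, hd, hx⟩ := Set.mem_iUnion₂.mp (hs (Set.mem_univ x))
  exact ⟨d, hd, hx⟩

/-- numerators of generators of `Γ(X, X_g)` over `Γ(Y, V)` -/
theorem exists_numerators (f : X ⟶ Y) [QuasiCompact f] [QuasiSeparated f]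
    [LocallyOfFiniteType f] {V : Y.Opens} (hV : IsAffineOpen V) (g : Γ(X, f ⁻¹ᵁ V))
    (hg : IsAffineOpen (X.basicOpen g)) :
    ∃ (κ : Type u) (_ : Finite κ) (b : κ → Γ(X, f ⁻¹ᵁ V)),
      ∀ S : Subring Γ(X, X.basicOpen g),
        (∀ r : Γ(Y, V), (f.appLE V (X.basicOpen g) (X.basicOpen_le g)).hom r ∈ S) →
        (∀ k, rres X (X.basicOpen_le g) (b k) ∈ S) →
        (∃ w ∈ S, rres X (X.basicOpen_le g) g * w = 1) → ∀ z, z ∈ S := by
  have hft : (f.appLE V (X.basicOpen g) (X.basicOpen_le g)).hom.FiniteType :=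
    HasRingHomProperty.appLE (P := @LocallyOfFiniteType) f inferInstance ⟨V, hV⟩
      ⟨X.basicOpen g, hg⟩ (X.basicOpen_le g)
  letI alg : Algebra Γ(Y, V) Γ(X, X.basicOpen g) :=
    (f.appLE V (X.basicOpen g) (X.basicOpen_le g)).hom.toAlgebra
  obtain ⟨s, hs⟩ : ∃ s : Finset Γ(X, X.basicOpen g),
      Algebra.adjoin Γ(Y, V) (s : Set Γ(X, X.basicOpen g)) = ⊤ := hft.out
  have hnum : ∀ h : Γ(X, X.basicOpen g), ∃ (n : ℕ) (y : Γ(X, f ⁻¹ᵁ V)),
      rres X (X.basicOpen_le g) y = (rres X (X.basicOpen_le g) g) ^ n * h := fun h => by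
    obtain ⟨n, y, e⟩ := exists_eq_pow_mul_of_isCompact_of_isQuasiSeparated X (f ⁻¹ᵁ V)
      (f.isCompact_preimage hV.isCompact) (f.isQuasiSeparated_preimage hV.isQuasiSeparated) g h
    exact ⟨n, y, e⟩
  choose n y hy using hnum
  refine ⟨↥s, inferInstance, fun k => y k.1, fun S h1 h2 hw' => ?_⟩
  obtain ⟨w, hwS, hw⟩ := hw'
  let S' : Subalgebra Γ(Y, V) Γ(X, X.basicOpen g) :=
    { S.toSubsemiring with algebraMap_mem' := fun r => h1 r }
  have hle : Algebra.adjoin Γ(Y, V) (s : Set Γ(X, X.basicOpen g)) ≤ S' := by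
    apply Algebra.adjoin_le
    intro h hh
    have e : h = rres X (X.basicOpen_le g) (y h) * w ^ (n h) := by
      rw [hy h, mul_comm _ h, mul_assoc, ← mul_pow, hw, one_pow, mul_one]
    change h ∈ S
    rw [e]
    exact mul_mem (h2 ⟨h, Finset.mem_coe.mp hh⟩) (pow_mem hwS _)
  intro z
  have hz : z ∈ Algebra.adjoin Γ(Y, V) (s : Set Γ(X, X.basicOpen g)) := by
    rw [hs]
    trivial
  exact hle hz

/-- **EGA II 5.1.9** -/
theorem exists_factor [CompactSpace Y] [QuasiSeparatedSpace Y] (f : X ⟶ Y) [QuasiCompact f]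
    [IsSeparated f] [LocallyOfFiniteType f]
    (hqa : ∀ V : Y.Opens, IsAffineOpen V → Scheme.IsQuasiAffine (f ⁻¹ᵁ V : Scheme.{u})) :
    ∃ (X'' : Scheme.{u}) (g : X'' ⟶ Y) (j : X ⟶ X''), IsAffineHom g ∧ LocallyOfFiniteType g ∧
      IsImmersion j ∧ j ≫ g = f := by
  classical
  haveI : CompactSpace X := QuasiCompact.compactSpace_of_compactSpace f
  obtain ⟨s, hs⟩ := exists_finite_dat f hqa
  have hnum := fun t : s => exists_numerators f t.1.hV t.1.g t.1.hg
  choose κ hκ b hb using hnum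
  haveI : ∀ t, Finite (κ t) := hκ
  haveI : (RelSpec.QCAlg.directImage f).toModule.IsQuasicoherent :=
    QCAlgGen.isQuasicoherent_toModule (RelSpec.QCAlg.directImage f)
  obtain ⟨E, ι, -, hEq, hEft, hcap⟩ := RLSub.exists_sub_capture
    (RelSpec.QCAlg.directImage f).toModule
    (J := Σ t : s, Option (κ t)) (fun k => k.1.1.V) (fun k => k.1.1.hV)
    (fun k => QCAlgGen.toS (RelSpec.QCAlg.directImage f) k.1.1.V
      (k.2.elim k.1.1.g (fun l => b k.1 l)))
  haveI := hEq
  haveI := hEft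
  obtain ⟨B', φ, -, hφft, hφr⟩ := QCAlgSub.exists_subalgebra (RelSpec.QCAlg.directImage f) ι
  have hg'ex : ∀ t : s, ∃ g' : B'.presheaf.obj (op t.1.V),
      (φ.hom.app (op t.1.V)).hom g' = t.1.g := by
    intro t
    obtain ⟨e, he⟩ := hcap ⟨t, none⟩
    obtain ⟨g', hg'⟩ := hφr t.1.V e
    exact ⟨g', hg'.trans
      (congrArg (QCAlgGen.ofS (RelSpec.QCAlg.directImage f) t.1.V) he)⟩
  have hb'ex : ∀ (t : s) (l : κ t), ∃ b' : B'.presheaf.obj (op t.1.V),
      (φ.hom.app (op t.1.V)).hom b' = b t l := by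
    intro t l
    obtain ⟨e, he⟩ := hcap ⟨t, some l⟩
    obtain ⟨b', hb'⟩ := hφr t.1.V e
    exact ⟨b', hb'.trans
      (congrArg (QCAlgGen.ofS (RelSpec.QCAlg.directImage f) t.1.V) he)⟩
  choose g' hg' using hg'ex
  choose b' hb' using hb'ex
  have hw : B'.str ≫ φ.hom = f.c ≫
      (TopCat.Presheaf.pushforward CommRingCat.{u} f.base).map (RelSpec.QCAlg.unit X).str := by
    rw [φ.comm]
    change f.c = f.c ≫ (TopCat.Presheaf.pushforward CommRingCat.{u} f.base).map (𝟙 X.presheaf)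
    rw [CategoryTheory.Functor.map_id, Category.comp_id]
  obtain ⟨u, hu⟩ : ∃ u : RelSpec.QHom f B' (RelSpec.QCAlg.unit X),
      ∀ V : Y.Opens, u.app V = φ.hom.app (op V) :=
    ⟨SpecQMap.ofNatTrans φ.hom hw, fun V => rfl⟩
  obtain ⟨i, hi, hπ⟩ := exists_hom_of_qhom f B' u
  have hug' : ∀ t : s, (u.app t.1.V).hom (g' t) = t.1.g := fun t =>
    (congrArg (fun ψ => ψ.hom (g' t)) (hu t.1.V)).trans (hg' t)
  have hub' : ∀ (t : s) (l : κ t), (u.app t.1.V).hom (b' t l) = b t l := fun t l =>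
    (congrArg (fun ψ => ψ.hom (b' t l)) (hu t.1.V)).trans (hb' t l)
  refine ⟨B'.spec, B'.π, i, inferInstance, locallyOfFiniteType_π B' hφft, ?_, hπ⟩
  refine isImmersion_of_charts f u i hi hπ (J := s) (fun t => t.1.V) (fun t => t.1.hV)
    (fun t => t.1.g) (fun t => t.1.hg)
    (fun x => by
      obtain ⟨d, hd, hx⟩ := hs x
      exact ⟨⟨d, hd⟩, hx⟩)
    g' hug' ?_
  intro t S hS1 hS2
  refine hb t S (fun r => ?_) (fun l => ?_) hS2
  · have h1 := hS1 ((B'.str.app (op t.1.V)).hom r)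
    have h2 : psi f u t.1.V (X.basicOpen t.1.g) (X.basicOpen_le t.1.g)
          ((B'.str.app (op t.1.V)).hom r) =
        (f.appLE t.1.V (X.basicOpen t.1.g) (X.basicOpen_le t.1.g)).hom r :=
      congrArg (fun ψ => ψ.hom r)
        (u.str_appLE t.1.V (X.basicOpen t.1.g) (X.basicOpen_le t.1.g))
    rw [← h2]
    exact h1
  · have h1 := hS1 (b' t l)
    have h2 : psi f u t.1.V (X.basicOpen t.1.g) (X.basicOpen_le t.1.g) (b' t l) =
        rres X (X.basicOpen_le t.1.g) (b t l) := by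
      rw [psi_apply, hub' t l]
    rw [← h2]
    exact h1

end Groth.Agent.Lib.Helper3.QAffImm
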