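import Groth.Agent.Lib.Helper3.LinEmb
import Groth.Agent.Lib.Helper3.SymGr
import Groth.Agent.Lib.Helper3.SymFT
import Groth.Agent.Lib.Helper3.ProjProper
import Groth.Agent.Lib.Helper3.PbAmple
import Groth.Agent.Lib.Helper3.InvAmple
import Groth.Agent.Lib.Helper3.LocFreeCrit
import Groth.Agent.Lib.Helper3.RelTwistExist
import Groth.Agent.Lib.Helper3.RelProjExist

/-!
# A quotient of an ample finite locally free module is ample
-/

set_option autoImplicit false
set_option linter.unusedSectionVars false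
universe u
open CategoryTheory CategoryTheory.Limits AlgebraicGeometry TopologicalSpace Opposite
open Scheme.Modules

namespace Groth.Agent.Lib.Helper3.QuotAmple

open QCSec FreeBasis

variable {X : Scheme.{u}}

theorem isFiniteType_of_isFinLocFree {M : X.Modules} (hM : FlatMod.IsFinLocFree M) :
    SheafOfModules.IsFiniteType (R := X.ringCatSheaf) M := by
  haveI : M.IsQuasicoherent := LocFreeCrit.isQuasicoherent_of_isFinLocFree hM
  apply QCProps.isFiniteType_of_charts
  intro x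
  obtain ⟨U, n, e, hxU, he⟩ := LocFreeCrit.isFinLocFree_iff.mp hM x
  obtain ⟨W, hW, hxW, hWU⟩ := Opens.isBasis_iff_nbhd.mp X.isBasis_affineOpens hxU
  refine ⟨W, hW, hxW, Scheme.Modules.isQuasicoherent_restrictFunctor _ _, ?_⟩
  have hb : IsBasisAt M W (fun i => res M hWU (e i)) := he W hWU
  refine Module.Finite.of_surjective
    (Fintype.linearCombination Γ(X, W) (fun i => res M hWU (e i))) ?_
  intro y
  obtain ⟨a, ha⟩ := hb.2 y
  exact ⟨a, (Fintype.linearCombination_apply _ _ _).trans ha⟩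

/-- a quotient of an ample finite locally free module is ample -/
theorem isAmple_of_epi (k : Type u) [Field k] (X : Scheme.{u})
    [X.Over (Spec (CommRingCat.of k))] [IsProper (X ↘ (Spec (CommRingCat.of k)))]
    (E F : X.Modules)
    (hE : FlatMod.IsFinLocFree E) (hF : FlatMod.IsFinLocFree F) (φ : E ⟶ F) [Epi φ]
    (hample : ∀ (𝒮 : RelProj.QCGrAlg X) (j : E ⟶ 𝒮.toModule) (P : Scheme.{u}) (p : P ⟶ X)
        (chart : ∀ (U : X.Opens) (hU : IsAffineOpen U),
          (((p ⁻¹ᵁ U : P.Opens) : Scheme.{u}) ≅ Proj (𝒮.deg U hU)))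
        (O1 : P.Modules)
        (lam : ∀ (U : X.Opens) (hU : IsAffineOpen U),
          O1 ⟶ (Scheme.Modules.pushforward (RelProj.emb p chart U hU)).obj
            (GrTwist.twist (𝒮.deg U hU) 1)),
        RelProj.IsGrSymAlg E 𝒮 j → RelProj.IsRelProj 𝒮 p chart →
        RelProj.IsRelTwist 𝒮 p chart 1 O1 lam → CohB1.IsAmple O1)
    (𝒮 : RelProj.QCGrAlg X) (j : F ⟶ 𝒮.toModule) (P : Scheme.{u}) (p : P ⟶ X)
    (chart : ∀ (U : X.Opens) (hU : IsAffineOpen U),
      (((p ⁻¹ᵁ U : P.Opens) : Scheme.{u}) ≅ Proj (𝒮.deg U hU)))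
    (O1 : P.Modules)
    (lam : ∀ (U : X.Opens) (hU : IsAffineOpen U),
      O1 ⟶ (Scheme.Modules.pushforward (RelProj.emb p chart U hU)).obj
        (GrTwist.twist (𝒮.deg U hU) 1))
    (hj : RelProj.IsGrSymAlg F 𝒮 j) (hP : RelProj.IsRelProj 𝒮 p chart)
    (hO1 : RelProj.IsRelTwist 𝒮 p chart 1 O1 lam) : CohB1.IsAmple O1 := by
  haveI hEq : E.IsQuasicoherent := LocFreeCrit.isQuasicoherent_of_isFinLocFree hE
  haveI hFq : F.IsQuasicoherent := LocFreeCrit.isQuasicoherent_of_isFinLocFree hF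
  haveI hFft : F.IsFiniteType := isFiniteType_of_isFinLocFree hF
  obtain ⟨𝒮E, jE, hjE⟩ := SymGr.exists_isGrSymAlg E
  obtain ⟨PE, pE, chartE, hPE⟩ := RelProjExist.exists_isRelProj 𝒮E
  obtain ⟨O1E, lamE, hO1E⟩ := RelTwistExist.exists_isRelTwist hPE 1
  have hampleE := hample 𝒮E jE PE pE chartE O1E lamE hjE hPE hO1E
  obtain ⟨ς, hς, hςp, ⟨iso⟩⟩ := LinEmb.exists_immersion_of_epi hj hP hO1 hjE hPE hO1E φ p (𝟙 P)
    (Category.id_comp p)
  have hgen := SymGenProj.isGenDegOne hj
  have hft := SymFT.isFTDeg_one hj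
  haveI : IsProper p := ProjProper.isProper_of_isGenDegOne hP hgen hft
  haveI : CompactSpace X :=
    QuasiCompact.compactSpace_of_compactSpace (X ↘ (Spec (CommRingCat.of k)))
  haveI : CompactSpace P := QuasiCompact.compactSpace_of_compactSpace p
  have h1 : CohB1.IsAmple ((Scheme.Modules.pullback ς).obj O1E) :=
    PbAmple.isAmple_pullback_of_isEmbedding ς ς.isEmbedding hampleE
  exact InvAmple.isAmple_of_iso (iso ≪≫ (Scheme.Modules.pullbackId P).app O1) h1

end Groth.Agent.Lib.Helper3.QuotAmple
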