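import Groth.Agent.Lib.Helper3.RLPsiImmU

/-!
# `r_{L,ψ}` and filtered colimits of graded algebras: the immersion criterion descends to a
finite stage
-/

set_option autoImplicit false
set_option linter.unusedSectionVars false
universe u
open CategoryTheory CategoryTheory.Limits AlgebraicGeometry TopologicalSpace Opposite
open scoped HomogeneousIdeal

namespace Groth.Agent.Lib.Helper3.RLPsiColim

open HomogeneousLocalization Groth.Agent.Lib.Helper3.RLPsiImm Groth.Agent.Lib.Helper3.RLPsiImmU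

section alg
variable {R₀ R B A : Type u} [CommRing R₀] [CommRing R] [CommRing B] [CommRing A]
  {ℬ : ℕ → AddSubgroup B} [GradedRing ℬ]

/-- condition (iii) may be checked on algebra generators -/
theorem iii_of_generators [Algebra R₀ R] (φ : B →+* A) {n : ℕ} {σ : B} (hσ : σ ∈ ℬ n)
    (b : R₀ →+* B) (hb : ∀ r, b r ∈ ℬ 0) (c : R →+* A)
    (hsq : ∀ r, φ (b r) = c (algebraMap R₀ R r))
    (G : Set R) (hG : Algebra.adjoin R₀ G = ⊤)
    (h : ∀ t ∈ G, ∃ (m : ℕ) (_ : 0 < m) (s' : B) (_ : s' ∈ ℬ (m * n)), c t * (φ σ) ^ m = φ s')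
    (t : R) :
    ∃ (m : ℕ) (_ : 0 < m) (s' : B) (_ : s' ∈ ℬ (m * n)), c t * (φ σ) ^ m = φ s' := by
  have ht : t ∈ Algebra.adjoin R₀ G := by
    rw [hG]
    exact Algebra.mem_top
  induction ht using Algebra.adjoin_induction with
  | mem x hx => exact h x hx
  | algebraMap r =>
    refine ⟨1, one_pos, b r * σ, ?_, ?_⟩
    · have h1 := SetLike.mul_mem_graded (hb r) hσ
      have e : 0 + n = 1 * n := by ring
      rwa [e] at h1
    · rw [pow_one, map_mul, hsq]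
  | add x y _ _ ihx ihy =>
    obtain ⟨m₁, hm₁, s₁, hs₁, e₁⟩ := ihx
    obtain ⟨m₂, hm₂, s₂, hs₂, e₂⟩ := ihy
    refine ⟨m₁ + m₂, by omega, σ ^ m₂ * s₁ + σ ^ m₁ * s₂, ?_, ?_⟩
    · have h1 := SetLike.mul_mem_graded (SetLike.pow_mem_graded m₂ hσ) hs₁
      have h2 := SetLike.mul_mem_graded (SetLike.pow_mem_graded m₁ hσ) hs₂
      have e1 : m₂ • n + m₁ * n = (m₁ + m₂) * n := by
        simp only [smul_eq_mul]
        ring
      have e2 : m₁ • n + m₂ * n = (m₁ + m₂) * n := by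
        simp only [smul_eq_mul]
        ring
      rw [e1] at h1
      rw [e2] at h2
      exact add_mem h1 h2
    · simp only [map_add, map_mul, map_pow]
      rw [← e₁, ← e₂]
      ring
  | mul x y _ _ ihx ihy =>
    obtain ⟨m₁, hm₁, s₁, hs₁, e₁⟩ := ihx
    obtain ⟨m₂, hm₂, s₂, hs₂, e₂⟩ := ihy
    refine ⟨m₁ + m₂, by omega, s₁ * s₂, ?_, ?_⟩
    · have h1 := SetLike.mul_mem_graded hs₁ hs₂
      rwa [← add_mul] at h1
    · simp only [map_mul]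
      rw [← e₁, ← e₂]
      ring

end alg

section main
variable {Y X : Scheme.{u}} {q : X ⟶ Y}
  {𝒮 : RelProj.QCGrAlg Y} {𝒮L : RelProj.QCGrAlg X}

/-- finite generation: condition (iii) may be checked on finitely many sections -/
theorem exists_finset_gen [LocallyOfFiniteType q] (U : Y.Opens) (hU : IsAffineOpen U)
    (V : X.Opens) (hV : IsAffineOpen V) (hle : V ≤ q ⁻¹ᵁ U) :
    ∃ G : Finset (X.presheaf.obj (op V)), ∀ (𝒯 : RelProj.QCGrAlg Y)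
      (u' : RelProj.QGrHom q 𝒯 𝒮L) (n : ℕ) (σ : 𝒯.presheaf.obj (op U)), σ ∈ 𝒯.deg U hU n →
      (∀ τ ∈ G, ∃ (m : ℕ) (_ : 0 < m) (s' : 𝒯.presheaf.obj (op U))
        (_ : s' ∈ 𝒯.deg U hU (m * n)),
        (𝒮L.str.app (op V)).hom τ * ((u'.appLE U V hle).hom σ) ^ m =
          (u'.appLE U V hle).hom s') →
      ∀ τ : X.presheaf.obj (op V), ∃ (m : ℕ) (_ : 0 < m) (s' : 𝒯.presheaf.obj (op U))
        (_ : s' ∈ 𝒯.deg U hU (m * n)),
        (𝒮L.str.app (op V)).hom τ * ((u'.appLE U V hle).hom σ) ^ m =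
          (u'.appLE U V hle).hom s' := by
  letI := (q.appLE U V hle).hom.toAlgebra
  have hft : Algebra.FiniteType Γ(Y, U) Γ(X, V) := Scheme.Hom.finiteType_appLE q hU hV hle
  obtain ⟨G, hG⟩ := hft.out
  refine ⟨G, fun 𝒯 u' n σ hσ h τ => ?_⟩
  exact iii_of_generators (ℬ := 𝒯.deg U hU) (u'.appLE U V hle).hom hσ (𝒯.str.app (op U)).hom
    (𝒯.str_mem U hU) (𝒮L.str.app (op V)).hom
    (fun r => congrArg (fun θ => θ.hom r) (u'.str_appLE U V hle)) (G : Set _) hG h τ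

section colim
variable (u : RelProj.QGrHom q 𝒮 𝒮L)
  {Λ : Type u} [Preorder Λ] [IsDirected Λ (· ≤ ·)] [Nonempty Λ]
  (𝒮i : Λ → RelProj.QCGrAlg Y) (φ : ∀ i, (𝒮i i).toQCAlg ⟶ 𝒮.toQCAlg)
  (hφ : ∀ i, RelProj.IsGradedHom (φ i))
  (t : ∀ i j, i ≤ j → ((𝒮i i).toQCAlg ⟶ (𝒮i j).toQCAlg))
  (ht : ∀ i j (h : i ≤ j), RelProj.IsGradedHom (t i j h))
  (hφt : ∀ i j (h : i ≤ j), t i j h ≫ φ j = φ i)
  (hsurj : ∀ (U : Y.Opens), IsAffineOpen U → ∀ x : 𝒮.presheaf.obj (op U),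
      ∃ (i : Λ) (y : (𝒮i i).presheaf.obj (op U)), ((φ i).hom.app (op U)).hom y = x)
  (ui : ∀ i, RelProj.QGrHom q (𝒮i i) 𝒮L)
  (hui : ∀ i (U : Y.Opens), (ui i).app U = (φ i).hom.app (op U) ≫ u.app U)

include hφt in
theorem phi_t (i k : Λ) (h : i ≤ k) (U : Y.Opens) (y : (𝒮i i).presheaf.obj (op U)) :
    ((φ k).hom.app (op U)).hom (((t i k h).hom.app (op U)).hom y) =
      ((φ i).hom.app (op U)).hom y :=
  congrArg (fun f : (𝒮i i).toQCAlg ⟶ 𝒮.toQCAlg => (f.hom.app (op U)).hom y) (hφt i k h)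

include hφ hsurj in
theorem exists_homog_lift (U : Y.Opens) (hU : IsAffineOpen U) (d : ℕ)
    (x : 𝒮.presheaf.obj (op U)) (hx : x ∈ 𝒮.deg U hU d) :
    ∃ (i : Λ) (y : (𝒮i i).presheaf.obj (op U)), y ∈ (𝒮i i).deg U hU d ∧
      ((φ i).hom.app (op U)).hom y = x := by
  obtain ⟨i, y₀, hy₀⟩ := hsurj U hU x
  refine ⟨i, (DirectSum.decompose ((𝒮i i).deg U hU) y₀ d : (𝒮i i).presheaf.obj (op U)),
    SetLike.coe_mem _, ?_⟩
  have h1 := (RelProj.gradedHomAt (φ i) (hφ i) U hU).map_directSumDecompose (x := y₀) (i := d)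
  have h2 : RelProj.gradedHomAt (φ i) (hφ i) U hU y₀ = x := hy₀
  rw [h2, DirectSum.decompose_of_mem_same _ hx] at h1
  exact h1

/-- the stage `i` carries a homogeneous lift of `s` for which condition (iii) holds on `V` -/
def Good (U : Y.Opens) (hU : IsAffineOpen U) (V : X.Opens) (hle : V ≤ q ⁻¹ᵁ U) (n : ℕ)
    (s : 𝒮.presheaf.obj (op U)) (i : Λ) : Prop :=
  ∃ σ : (𝒮i i).presheaf.obj (op U), σ ∈ (𝒮i i).deg U hU n ∧
    ((φ i).hom.app (op U)).hom σ = s ∧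
    ∀ τ : X.presheaf.obj (op V), ∃ (m : ℕ) (_ : 0 < m) (s' : (𝒮i i).presheaf.obj (op U))
      (_ : s' ∈ (𝒮i i).deg U hU (m * n)),
      (𝒮L.str.app (op V)).hom τ * (((ui i).appLE U V hle).hom σ) ^ m =
        ((ui i).appLE U V hle).hom s'

include ht hφt hui in
theorem good_mono (U : Y.Opens) (hU : IsAffineOpen U) (V : X.Opens) (hle : V ≤ q ⁻¹ᵁ U) (n : ℕ)
    (s : 𝒮.presheaf.obj (op U)) (i k : Λ) (h : i ≤ k)
    (hg : Good 𝒮i φ ui U hU V hle n s i) : Good 𝒮i φ ui U hU V hle n s k := by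
  obtain ⟨σ, hσ, hσs, h3⟩ := hg
  have key : ∀ y : (𝒮i i).presheaf.obj (op U),
      ((ui k).appLE U V hle).hom (((t i k h).hom.app (op U)).hom y) =
        ((ui i).appLE U V hle).hom y := by
    intro y
    rw [RLPsi.appLE_of_comp u (ui k) (φ k) (hui k) U V hle,
      RLPsi.appLE_of_comp u (ui i) (φ i) (hui i) U V hle, phi_t 𝒮i φ t hφt i k h U y]
  refine ⟨((t i k h).hom.app (op U)).hom σ, ht i k h U hU n σ hσ, ?_, ?_⟩
  · rw [phi_t 𝒮i φ t hφt i k h U σ, hσs]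
  · intro τ
    obtain ⟨m, hm, s', hs', e⟩ := h3 τ
    refine ⟨m, hm, ((t i k h).hom.app (op U)).hom s', ht i k h U hU _ s' hs', ?_⟩
    rw [key, key, e]

include hφ ht hφt hsurj hui in
theorem exists_good [LocallyOfFiniteType q] (U : Y.Opens) (hU : IsAffineOpen U) (V : X.Opens)
    (hV : IsAffineOpen V) (hle : V ≤ q ⁻¹ᵁ U) {n : ℕ} (s : 𝒮.presheaf.obj (op U))
    (hs : s ∈ 𝒮.deg U hU n)
    (h3 : ∀ τ : X.presheaf.obj (op V), ∃ (m : ℕ) (_ : 0 < m) (s' : 𝒮.presheaf.obj (op U))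
      (_ : s' ∈ 𝒮.deg U hU (m * n)),
      (𝒮L.str.app (op V)).hom τ * ((u.appLE U V hle).hom s) ^ m = (u.appLE U V hle).hom s') :
    ∃ i, Good 𝒮i φ ui U hU V hle n s i := by
  classical
  obtain ⟨G, hG⟩ := exists_finset_gen (𝒮L := 𝒮L) (q := q) U hU V hV hle
  choose m hm s' hs' e using h3
  obtain ⟨i₀, σ₀, hσ₀, hσ₀s⟩ := exists_homog_lift 𝒮i φ hφ hsurj U hU n s hs
  have hl : ∀ τ : X.presheaf.obj (op V), ∃ (i : Λ) (y : (𝒮i i).presheaf.obj (op U)),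
      y ∈ (𝒮i i).deg U hU (m τ * n) ∧ ((φ i).hom.app (op U)).hom y = s' τ :=
    fun τ => exists_homog_lift 𝒮i φ hφ hsurj U hU _ (s' τ) (hs' τ)
  choose iτ yτ hyτ hyτe using hl
  obtain ⟨k, hk⟩ := Finset.exists_le (insert i₀ (G.image iτ))
  have hk₀ : i₀ ≤ k := hk i₀ (Finset.mem_insert_self _ _)
  have hkτ : ∀ τ ∈ G, iτ τ ≤ k := fun τ hτ =>
    hk _ (Finset.mem_insert_of_mem (Finset.mem_image_of_mem _ hτ))
  refine ⟨k, ((t i₀ k hk₀).hom.app (op U)).hom σ₀, ht i₀ k hk₀ U hU n σ₀ hσ₀, ?_, ?_⟩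
  · rw [phi_t 𝒮i φ t hφt i₀ k hk₀ U σ₀, hσ₀s]
  · refine hG (𝒮i k) (ui k) n _ (ht i₀ k hk₀ U hU n σ₀ hσ₀) ?_
    intro τ hτ
    refine ⟨m τ, hm τ, ((t (iτ τ) k (hkτ τ hτ)).hom.app (op U)).hom (yτ τ),
      ht _ _ _ U hU _ _ (hyτ τ), ?_⟩
    rw [RLPsi.appLE_of_comp u (ui k) (φ k) (hui k) U V hle,
      RLPsi.appLE_of_comp u (ui k) (φ k) (hui k) U V hle,
      phi_t 𝒮i φ t hφt i₀ k hk₀ U σ₀, phi_t 𝒮i φ t hφt (iτ τ) k (hkτ τ hτ) U (yτ τ),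
      hσ₀s, hyτe, e]

variable {P PL : Scheme.{u}} {L : X.Modules} {j : L ⟶ 𝒮L.toModule}
  {p : P ⟶ Y} {chart : ∀ (U : Y.Opens) (hU : IsAffineOpen U),
    (((p ⁻¹ᵁ U : P.Opens) : Scheme.{u}) ≅ Proj (𝒮.deg U hU))}
  {pL : PL ⟶ X} {chartL : ∀ (U : X.Opens) (hU : IsAffineOpen U),
    (((pL ⁻¹ᵁ U : PL.Opens) : Scheme.{u}) ≅ Proj (𝒮L.deg U hU))}
  (r : ((RelProj.domQ u pL chartL : PL.Opens) : Scheme.{u}) ⟶ P)
  (hL : PicF.IsInvertible L) (hLq : Coh.IsQCoh L) (hj : RelProj.IsGrSymAlg L 𝒮L j)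
  (hP : RelProj.IsRelProj 𝒮 p chart) (hPL : RelProj.IsRelProj 𝒮L pL chartL)
  (hr : RelProj.IsProjQMapOn u p chart pL chartL (RelProj.domQ u pL chartL) r)
  {Pi : Λ → Scheme.{u}} {pi : ∀ i, Pi i ⟶ Y}
  {charti : ∀ i (U : Y.Opens) (hU : IsAffineOpen U),
    ((((pi i) ⁻¹ᵁ U : (Pi i).Opens) : Scheme.{u}) ≅ Proj ((𝒮i i).deg U hU))}
  (hPi : ∀ i, RelProj.IsRelProj (𝒮i i) (pi i) (charti i))
  (ri : ∀ i, ((RelProj.domQ (ui i) pL chartL : PL.Opens) : Scheme.{u}) ⟶ Pi i)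
  (hri : ∀ i, RelProj.IsProjQMapOn (ui i) (pi i) (charti i) pL chartL
    (RelProj.domQ (ui i) pL chartL) (ri i))

include hφ ht hφt hsurj hui hL hLq hj hP hPL hr hPi hri in
/-- if `r` is an everywhere defined immersion, so is some `r_i` -/
theorem exists_index [CompactSpace X] [LocallyOfFiniteType q]
    (hW : RelProj.domQ u pL chartL = ⊤) [IsImmersion r] :
    ∃ i, RelProj.domQ (ui i) pL chartL = ⊤ ∧ IsImmersion (ri i) := by
  classical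
  choose U hU n s hXT hn hs hx hsj using
    fun x : X => exists_local_data u r hL hLq hj hP hPL hr hW x
  have hcov : (Set.univ : Set X) ⊆ ⋃ x : X, ((XFU u (U x) (n x) (s x) : X.Opens) : Set X) :=
    fun x _ => Set.mem_iUnion.mpr ⟨x, hx x⟩
  obtain ⟨F, hF⟩ := isCompact_univ.elim_finite_subcover
    (fun x : X => ((XFU u (U x) (n x) (s x) : X.Opens) : Set X))
    (fun x => (XFU u (U x) (n x) (s x)).isOpen) hcov
  have h3 : ∀ (x : X) (τ : X.presheaf.obj (op (XFU u (U x) (n x) (s x)))),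
      ∃ (m : ℕ) (_ : 0 < m) (s' : 𝒮.presheaf.obj (op (U x)))
        (_ : s' ∈ 𝒮.deg (U x) (hU x) (m * n x)),
        (𝒮L.str.app (op (XFU u (U x) (n x) (s x)))).hom τ *
          ((u.appLE (U x) (XFU u (U x) (n x) (s x)) (XFU_le u _ _ _)).hom (s x)) ^ m =
          (u.appLE (U x) (XFU u (U x) (n x) (s x)) (XFU_le u _ _ _)).hom s' :=
    fun x τ => iii_of_surjective (u.gradedAt (U x) (hU x) _ (hXT x) (XFU_le u _ _ _)) (hs x)
      (𝒮L.str.app (op _)).hom (𝒮L.str_mem _ (hXT x)) (hsj x) τ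
  have hgood : ∀ x : X, ∃ i, Good 𝒮i φ ui (U x) (hU x) (XFU u (U x) (n x) (s x))
      (XFU_le u _ _ _) (n x) (s x) i :=
    fun x => exists_good u 𝒮i φ hφ t ht hφt hsurj ui hui (U x) (hU x) _ (hXT x)
      (XFU_le u _ _ _) (s x) (hs x) (h3 x)
  choose i₀ hi₀ using hgood
  obtain ⟨k, hk⟩ := Finset.exists_le (F.image i₀)
  refine ⟨k, ?_⟩
  have hgk : ∀ a : {x : X // x ∈ F},
      ∃ σ : (𝒮i k).presheaf.obj (op (U a.1)), σ ∈ (𝒮i k).deg (U a.1) (hU a.1) (n a.1) ∧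
      ((φ k).hom.app (op (U a.1))).hom σ = s a.1 ∧
      ∀ τ : X.presheaf.obj (op (XFU u (U a.1) (n a.1) (s a.1))), ∃ (m : ℕ) (_ : 0 < m)
        (s' : (𝒮i k).presheaf.obj (op (U a.1)))
        (_ : s' ∈ (𝒮i k).deg (U a.1) (hU a.1) (m * n a.1)),
        (𝒮L.str.app (op (XFU u (U a.1) (n a.1) (s a.1)))).hom τ *
          (((ui k).appLE (U a.1) (XFU u (U a.1) (n a.1) (s a.1)) (XFU_le u _ _ _)).hom σ) ^ m =
          ((ui k).appLE (U a.1) (XFU u (U a.1) (n a.1) (s a.1)) (XFU_le u _ _ _)).hom s' :=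
    fun a => good_mono u 𝒮i φ t ht hφt ui hui (U a.1) (hU a.1) _ (XFU_le u _ _ _) (n a.1) (s a.1)
      (i₀ a.1) k (hk _ (Finset.mem_image_of_mem _ a.2)) (hi₀ a.1)
  choose σ hσ hσs h5 using hgk
  refine isImmersion_of_family (ui k) (ri k) hL hLq hj (hPi k) hPL (hri k)
    (fun a : {x : X // x ∈ F} => U a.1) (fun a => hU a.1) (fun a => n a.1) σ
    (fun a => XFU u (U a.1) (n a.1) (s a.1))
    (fun a => ⟨hn a.1, hσ a⟩) ?_ ?_ (fun a => hXT a.1) (fun a => XFU_le u _ _ _) h5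
  · intro a
    refine XFU_congr u (ui k) (U a.1) (n a.1) (s a.1) (σ a) (fun V hle => ?_)
    rw [RLPsi.appLE_of_comp u (ui k) (φ k) (hui k) _ V hle (σ a), hσs a]
  · rw [eq_top_iff]
    intro x _
    obtain ⟨y, hyF, hxy⟩ := Set.mem_iUnion₂.mp (hF (Set.mem_univ x))
    exact Opens.mem_iSup.mpr ⟨⟨y, hyF⟩, hxy⟩

end colim

end main

end Groth.Agent.Lib.Helper3.RLPsiColim
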