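import Groth.Agent.Lib.Helper3.RLPsi
import Groth.Agent.Lib.Helper3.ProjQGlue

/-!
# Functoriality of `Proj(u)`: composite of a graded `q`-morphism with a graded homomorphism on
the base
-/

set_option autoImplicit false
set_option linter.unusedSectionVars false
universe u
open CategoryTheory CategoryTheory.Limits AlgebraicGeometry TopologicalSpace Opposite
open scoped HomogeneousIdeal

namespace Groth.Agent.Lib.Helper3.RLPsiComp

open HomogeneousLocalization ProjQMap ProjQMapOn ProjQGlue RLPsi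

variable {Y X : Scheme.{u}} {q : X ⟶ Y} {𝒮 𝒯 : RelProj.QCGrAlg Y} {𝒮' : RelProj.QCGrAlg X}
  (u : RelProj.QGrHom q 𝒮 𝒮') (u₂ : RelProj.QGrHom q 𝒯 𝒮')
  (v : 𝒯.toQCAlg ⟶ 𝒮.toQCAlg) (hv : RelProj.IsGradedHom v)
  (hu : ∀ U : Y.Opens, u₂.app U = v.hom.app (op U) ≫ u.app U)
  {P' : Scheme.{u}} {p' : P' ⟶ X}
  {chart' : ∀ (U : X.Opens) (hU : IsAffineOpen U),
    ((p' ⁻¹ᵁ U : P'.Opens) : Scheme.{u}) ≅ Proj (𝒮'.deg U hU)}
  {P : Scheme.{u}} {p : P ⟶ Y}
  {chart : ∀ (U : Y.Opens) (hU : IsAffineOpen U),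
    ((p ⁻¹ᵁ U : P.Opens) : Scheme.{u}) ≅ Proj (𝒮.deg U hU)}
  {P₂ : Scheme.{u}} {p₂ : P₂ ⟶ Y}
  {chart₂ : ∀ (U : Y.Opens) (hU : IsAffineOpen U),
    ((p₂ ⁻¹ᵁ U : P₂.Opens) : Scheme.{u}) ≅ Proj (𝒯.deg U hU)}

theorem emb_mem_G (U : Y.Opens) (hU : IsAffineOpen U) (y₁ : Proj (𝒮.deg U hU)) {d : ℕ}
    (hd : 0 < d) (τ : 𝒯.presheaf.obj (op U)) (hτ : τ ∈ 𝒯.deg U hU d)
    (h : (v.hom.app (op U)).hom τ ∉ y₁.asHomogeneousIdeal) :
    RelProj.emb p chart U hU y₁ ∈ RelProj.domQ (RelProj.QGrHom.ofHom v hv) p chart := by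
  refine mem_domQ_of_loc (RelProj.QGrHom.ofHom v hv) _ U hU U hU le_rfl
    ⟨y₁, rfl, d, hd, τ, hτ, ?_⟩
  have e : ((RelProj.QGrHom.ofHom v hv).appLE U U le_rfl).hom τ = (v.hom.app (op U)).hom τ :=
    ψU_apply v hv U hU τ
  rw [e]
  exact h

variable (r : ((RelProj.domQ u p' chart' : P'.Opens) : Scheme.{u}) ⟶ P)
  (hr : RelProj.IsProjQMapOn u p chart p' chart' (RelProj.domQ u p' chart') r)
  (r₂ : ((RelProj.domQ u₂ p' chart' : P'.Opens) : Scheme.{u}) ⟶ P₂)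
  (hr₂ : RelProj.IsProjQMapOn u₂ p₂ chart₂ p' chart' (RelProj.domQ u₂ p' chart') r₂)
  (ϖ : ((RelProj.domQ (RelProj.QGrHom.ofHom v hv) p chart : P.Opens) : Scheme.{u}) ⟶ P₂)
  (hϖ : RelProj.IsProjQMapOn (RelProj.QGrHom.ofHom v hv) p₂ chart₂ p chart
    (RelProj.domQ (RelProj.QGrHom.ofHom v hv) p chart) ϖ)

include hr hu in
/-- `Proj(u)` maps `G(u ∘ v)` into `G(v)` -/
theorem r_mem_G (hP' : RelProj.IsRelProj 𝒮' p' chart')
    (z₂ : ((RelProj.domQ u₂ p' chart' : P'.Opens) : Scheme.{u}))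
    (hz : (RelProj.domQ u₂ p' chart').ι z₂ ∈ RelProj.domQ u p' chart') :
    r ⟨(RelProj.domQ u₂ p' chart').ι z₂, hz⟩ ∈
      RelProj.domQ (RelProj.QGrHom.ofHom v hv) p chart := by
  obtain ⟨U, hU, hxU⟩ := exists_affine_mem (q (p' ((RelProj.domQ u₂ p' chart').ι z₂)))
  obtain ⟨U', hU', hxU', hle⟩ := exists_affine_pair q _ U hxU
  obtain ⟨y, hy, d, hd, τ, hτ, hτy⟩ := loc_of_mem_domQ u₂ hP' _ z₂.2 U hU U' hU' hle hxU'
  rw [appLE_of_comp u u₂ v hu U U' hle τ] at hτy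
  obtain ⟨y₁, hy₁, hy₁e⟩ := (r_mem_iff u r hr hP' ⟨_, hz⟩ U hU U' hU' hle y hy hd _
    (hv U hU d τ hτ)).mpr hτy
  have h1 := emb_mem_G v hv (p := p) (chart := chart) U hU y₁ hd τ hτ hy₁
  have h2 : RelProj.emb p chart U hU y₁ = r ⟨(RelProj.domQ u₂ p' chart').ι z₂, hz⟩ := hy₁e
  rw [h2] at h1
  exact h1

include hr hr₂ hϖ hu in
/-- `Proj(u ∘ v) = Proj(v) ∘ Proj(u)` on `G(u ∘ v)` -/
theorem comp_eq (hle1 : RelProj.domQ u₂ p' chart' ≤ RelProj.domQ u p' chart')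
    (ρ : ((RelProj.domQ u₂ p' chart' : P'.Opens) : Scheme.{u}) ⟶
      ((RelProj.domQ (RelProj.QGrHom.ofHom v hv) p chart : P.Opens) : Scheme.{u}))
    (hρ : ρ ≫ (RelProj.domQ (RelProj.QGrHom.ofHom v hv) p chart).ι = P'.homOfLE hle1 ≫ r) :
    ρ ≫ ϖ = r₂ := by
  refine eq_of_isProjQMapOn p₂ chart₂ p' chart' (ρ ≫ ϖ) r₂ ?_ hr₂
  intro U hU U' hU' hle d hd τ hτ hW
  have hvτ : (v.hom.app (op U)).hom τ ∈ 𝒮.deg U hU d := hv U hU d τ hτ
  have e1 : (u.gradedAt U hU U' hU' hle) ((v.hom.app (op U)).hom τ) =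
      (u₂.gradedAt U hU U' hU' hle) τ := (appLE_of_comp u u₂ v hu U U' hle τ).symm
  have e2 : ((RelProj.QGrHom.ofHom v hv).gradedAt U hU U hU le_rfl) τ =
      (v.hom.app (op U)).hom τ := ψU_apply v hv U hU τ
  have hχ : ∀ x, (u₂.gradedAt U hU U' hU' hle) x =
      (u.gradedAt U hU U' hU' hle) (((RelProj.QGrHom.ofHom v hv).gradedAt U hU U hU le_rfl) x) := by
    intro x
    have h1 : ((RelProj.QGrHom.ofHom v hv).gradedAt U hU U hU le_rfl) x =
        (v.hom.app (op U)).hom x := ψU_apply v hv U hU x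
    rw [h1]
    exact appLE_of_comp u u₂ v hu U U' hle x
  have hc₂ : IsOpenImmersion.lift (RelProj.domQ u₂ p' chart').ι
      (RelProj.awayEmb u₂ p' chart' U hU U' hU' hle hd τ hτ) hW ≫
        (RelProj.domQ u₂ p' chart').ι = RelProj.awayEmb u₂ p' chart' U hU U' hU' hle hd τ hτ :=
    IsOpenImmersion.lift_fac _ _ _
  generalize IsOpenImmersion.lift (RelProj.domQ u₂ p' chart').ι
      (RelProj.awayEmb u₂ p' chart' U hU U' hU' hle hd τ hτ) hW = c₂ at hc₂ ⊢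
  -- step A
  have hA : c₂ ≫ P'.homOfLE hle1 =
      Spec.map (CommRingCat.ofHom (mapTo (GradedRingHom.id (𝒮'.deg U' hU'))
          ((u.gradedAt U hU U' hU' hle) ((v.hom.app (op U)).hom τ))
          ((u₂.gradedAt U hU U' hU' hle) τ) e1)) ≫
        lft u p' chart' U hU U' hU' hle hd ((v.hom.app (op U)).hom τ) hvτ := by
    rw [← cancel_mono (RelProj.domQ u p' chart').ι]
    simp only [Category.assoc]
    rw [Scheme.homOfLE_ι, hc₂, RLPsi.lft_fac]
    unfold RelProj.awayEmb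
    rw [← Category.assoc, awayι_congr hd ((u.gradedAt U hU U' hU' hle) ((v.hom.app (op U)).hom τ)) ((u₂.gradedAt U hU U' hU' hle) τ) e1 _ _]
  -- step B
  have hB : Proj.awayι (𝒮.deg U hU) ((v.hom.app (op U)).hom τ) hvτ hd ≫
        RelProj.emb p chart U hU =
      Spec.map (CommRingCat.ofHom (mapTo (GradedRingHom.id (𝒮.deg U hU))
          (((RelProj.QGrHom.ofHom v hv).gradedAt U hU U hU le_rfl) τ)
          ((v.hom.app (op U)).hom τ) e2)) ≫
        lft (RelProj.QGrHom.ofHom v hv) p chart U hU U hU le_rfl hd τ hτ ≫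
          (RelProj.domQ (RelProj.QGrHom.ofHom v hv) p chart).ι := by
    rw [RLPsi.lft_fac]
    unfold RelProj.awayEmb
    rw [← Category.assoc, awayι_congr hd (((RelProj.QGrHom.ofHom v hv).gradedAt U hU U hU le_rfl) τ) ((v.hom.app (op U)).hom τ) e2 _ _]
  -- step C
  have hC : c₂ ≫ ρ =
      Spec.map (CommRingCat.ofHom (mapTo (GradedRingHom.id (𝒮'.deg U' hU'))
          ((u.gradedAt U hU U' hU' hle) ((v.hom.app (op U)).hom τ))
          ((u₂.gradedAt U hU U' hU' hle) τ) e1)) ≫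
        Spec.map (CommRingCat.ofHom (Away.map (u.gradedAt U hU U' hU' hle)
          ((v.hom.app (op U)).hom τ))) ≫
        Spec.map (CommRingCat.ofHom (mapTo (GradedRingHom.id (𝒮.deg U hU))
          (((RelProj.QGrHom.ofHom v hv).gradedAt U hU U hU le_rfl) τ)
          ((v.hom.app (op U)).hom τ) e2)) ≫
          lft (RelProj.QGrHom.ofHom v hv) p chart U hU U hU le_rfl hd τ hτ := by
    rw [← cancel_mono (RelProj.domQ (RelProj.QGrHom.ofHom v hv) p chart).ι]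
    simp only [Category.assoc]
    rw [hρ, ← Category.assoc c₂, hA, Category.assoc,
      hr U hU U' hU' hle d hd _ hvτ
        (RelProj.range_awayEmb_subset_domQ u p' chart' U hU U' hU' hle hd _ hvτ), hB]
  rw [← Category.assoc, hC]
  simp only [Category.assoc]
  rw [hϖ U hU U hU le_rfl d hd τ hτ
    (RelProj.range_awayEmb_subset_domQ (RelProj.QGrHom.ofHom v hv) p chart U hU U hU le_rfl hd τ hτ),
    ← Spec.map_comp_assoc, ← Spec.map_comp_assoc, ← Spec.map_comp_assoc]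
  congr 1
  refine congrArg Spec.map ?_
  refine CommRingCat.hom_ext ?_
  change (mapTo (GradedRingHom.id (𝒮'.deg U' hU'))
          ((u.gradedAt U hU U' hU' hle) ((v.hom.app (op U)).hom τ))
          ((u₂.gradedAt U hU U' hU' hle) τ) e1).comp
    ((Away.map (u.gradedAt U hU U' hU' hle) ((v.hom.app (op U)).hom τ)).comp
      ((mapTo (GradedRingHom.id (𝒮.deg U hU))
          (((RelProj.QGrHom.ofHom v hv).gradedAt U hU U hU le_rfl) τ)
          ((v.hom.app (op U)).hom τ) e2).comp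
        (Away.map ((RelProj.QGrHom.ofHom v hv).gradedAt U hU U hU le_rfl) τ))) =
    Away.map (u₂.gradedAt U hU U' hU' hle) τ
  have s1 : (mapTo (GradedRingHom.id (𝒮.deg U hU))
          (((RelProj.QGrHom.ofHom v hv).gradedAt U hU U hU le_rfl) τ)
          ((v.hom.app (op U)).hom τ) e2).comp
      (Away.map ((RelProj.QGrHom.ofHom v hv).gradedAt U hU U hU le_rfl) τ) =
      mapTo ((RelProj.QGrHom.ofHom v hv).gradedAt U hU U hU le_rfl) τ
        ((v.hom.app (op U)).hom τ) e2 :=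
    mapTo_comp ((RelProj.QGrHom.ofHom v hv).gradedAt U hU U hU le_rfl)
      (GradedRingHom.id (𝒮.deg U hU)) ((RelProj.QGrHom.ofHom v hv).gradedAt U hU U hU le_rfl)
      (fun _ => rfl) τ (((RelProj.QGrHom.ofHom v hv).gradedAt U hU U hU le_rfl) τ) ((v.hom.app (op U)).hom τ) rfl e2
  rw [s1]
  have s2 : (Away.map (u.gradedAt U hU U' hU' hle) ((v.hom.app (op U)).hom τ)).comp
      (mapTo ((RelProj.QGrHom.ofHom v hv).gradedAt U hU U hU le_rfl) τ
        ((v.hom.app (op U)).hom τ) e2) =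
      mapTo (u₂.gradedAt U hU U' hU' hle) τ
        ((u.gradedAt U hU U' hU' hle) ((v.hom.app (op U)).hom τ)) e1.symm :=
    mapTo_comp ((RelProj.QGrHom.ofHom v hv).gradedAt U hU U hU le_rfl)
      (u.gradedAt U hU U' hU' hle) (u₂.gradedAt U hU U' hU' hle) hχ τ ((v.hom.app (op U)).hom τ) ((u.gradedAt U hU U' hU' hle) ((v.hom.app (op U)).hom τ)) e2 rfl
  rw [s2]
  exact mapTo_comp (u₂.gradedAt U hU U' hU' hle) (GradedRingHom.id (𝒮'.deg U' hU'))
    (u₂.gradedAt U hU U' hU' hle) (fun _ => rfl) τ ((u.gradedAt U hU U' hU' hle) ((v.hom.app (op U)).hom τ)) ((u₂.gradedAt U hU U' hU' hle) τ) e1.symm e1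

include hr hu in
/-- the factorization of `Proj(u)` restricted to `G(u ∘ v)` through `G(v)` -/
theorem exists_rho (hP' : RelProj.IsRelProj 𝒮' p' chart')
    (hle1 : RelProj.domQ u₂ p' chart' ≤ RelProj.domQ u p' chart') :
    ∃ ρ : ((RelProj.domQ u₂ p' chart' : P'.Opens) : Scheme.{u}) ⟶
      ((RelProj.domQ (RelProj.QGrHom.ofHom v hv) p chart : P.Opens) : Scheme.{u}),
      ρ ≫ (RelProj.domQ (RelProj.QGrHom.ofHom v hv) p chart).ι = P'.homOfLE hle1 ≫ r := by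
  have hrange : Set.range (P'.homOfLE hle1 ≫ r) ⊆
      Set.range (RelProj.domQ (RelProj.QGrHom.ofHom v hv) p chart).ι := by
    rw [Scheme.Opens.range_ι]
    rintro _ ⟨z₂, rfl⟩
    have h1 : P'.homOfLE hle1 z₂ = ⟨(RelProj.domQ u₂ p' chart').ι z₂, hle1 z₂.2⟩ :=
      Scheme.homOfLE_apply' hle1 z₂.1 z₂.2
    rw [Scheme.Hom.comp_apply, h1]
    exact r_mem_G u u₂ v hv hu r hr hP' z₂ (hle1 z₂.2)
  exact ⟨IsOpenImmersion.lift _ _ hrange, IsOpenImmersion.lift_fac _ _ _⟩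

end Groth.Agent.Lib.Helper3.RLPsiComp
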