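import Groth.Agent.Lib.Helper3.RLPsiImm

/-!
# Criteria for `r_{L,ψ}` to be an immersion, over a general base
(local sections `s_a ∈ 𝒮(U_a)` over affine opens `U_a` of the base)
-/

set_option autoImplicit false
set_option linter.unusedSectionVars false
universe u
open CategoryTheory CategoryTheory.Limits AlgebraicGeometry TopologicalSpace Opposite
open scoped HomogeneousIdeal

namespace Groth.Agent.Lib.Helper3.RLPsiImmU

open HomogeneousLocalization ProjQMap Groth.Agent.Lib.Helper3.AwayBC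
  Groth.Agent.Lib.Helper3.RLPsiImm

section main
variable {Y X P PL : Scheme.{u}} {q : X ⟶ Y} {L : X.Modules}
  {𝒮 : RelProj.QCGrAlg Y} {𝒮L : RelProj.QCGrAlg X} {j : L ⟶ 𝒮L.toModule}
  (u : RelProj.QGrHom q 𝒮 𝒮L)
  {p : P ⟶ Y} {chart : ∀ (U : Y.Opens) (hU : IsAffineOpen U),
    (((p ⁻¹ᵁ U : P.Opens) : Scheme.{u}) ≅ Proj (𝒮.deg U hU))}
  {pL : PL ⟶ X} {chartL : ∀ (U : X.Opens) (hU : IsAffineOpen U),
    (((pL ⁻¹ᵁ U : PL.Opens) : Scheme.{u}) ≅ Proj (𝒮L.deg U hU))}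
  (r : ((RelProj.domQ u pL chartL : PL.Opens) : Scheme.{u}) ⟶ P)

/-- the open `X_{u(s)} ∩ q⁻¹(U)`, for `s ∈ 𝒮(U)` -/
def XFU (U : Y.Opens) (n : ℕ) (s : 𝒮.presheaf.obj (op U)) : X.Opens :=
  ⨆ V : {V : X.affineOpens // ∃ hle : (V.1 : X.Opens) ≤ q ⁻¹ᵁ U,
      ((𝒮L.deg V.1 V.2 n : AddSubgroup (𝒮L.presheaf.obj (op (V.1 : X.Opens)))) :
        Set (𝒮L.presheaf.obj (op (V.1 : X.Opens)))) ⊆
        (Ideal.span {(u.appLE U (V.1 : X.Opens) hle).hom s} :
            Set (𝒮L.presheaf.obj (op (V.1 : X.Opens))))},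
    (V.1.1 : X.Opens)

theorem XFU_le (U : Y.Opens) (n : ℕ) (s : 𝒮.presheaf.obj (op U)) : XFU u U n s ≤ q ⁻¹ᵁ U := by
  refine iSup_le fun V => ?_
  obtain ⟨hle, -⟩ := V.2
  exact hle

theorem XFU_congr {𝒯 : RelProj.QCGrAlg Y} (u' : RelProj.QGrHom q 𝒯 𝒮L) (U : Y.Opens) (n : ℕ)
    (s : 𝒮.presheaf.obj (op U)) (s' : 𝒯.presheaf.obj (op U))
    (h : ∀ (V : X.Opens) (hle : V ≤ q ⁻¹ᵁ U), (u.appLE U V hle).hom s = (u'.appLE U V hle).hom s') :
    XFU u U n s = XFU u' U n s' := by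
  apply le_antisymm
  · refine iSup_le fun V => ?_
    obtain ⟨hle, hspan⟩ := V.2
    exact le_iSup_of_le ⟨V.1, hle, by rw [← h _ hle]; exact hspan⟩ le_rfl
  · refine iSup_le fun V => ?_
    obtain ⟨hle, hspan⟩ := V.2
    exact le_iSup_of_le ⟨V.1, hle, by rw [h _ hle]; exact hspan⟩ le_rfl

variable (hL : PicF.IsInvertible L) (hLq : Coh.IsQCoh L) (hj : RelProj.IsGrSymAlg L 𝒮L j)
  (hP : RelProj.IsRelProj 𝒮 p chart) (hPL : RelProj.IsRelProj 𝒮L pL chartL)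
  (hr : RelProj.IsProjQMapOn u p chart pL chartL (RelProj.domQ u pL chartL) r)
  (U : Y.Opens) (hU : IsAffineOpen U)
  {n : ℕ} (hn : 0 < n) (s : 𝒮.presheaf.obj (op U)) (hs : s ∈ 𝒮.deg U hU n)

include hL hLq hj hP hPL hr hn hs in
theorem image_preimage_eq :
    (RelProj.domQ u pL chartL).ι ''ᵁ
      (r ⁻¹ᵁ ((RelProj.emb p chart U hU) ''ᵁ Proj.basicOpen (𝒮.deg U hU) s)) =
      pL ⁻¹ᵁ XFU u U n s := by
  haveI : L.IsQuasicoherent := hLq
  apply le_antisymm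
  · rintro x' ⟨z, hz, rfl⟩
    rw [Scheme.Hom.mem_preimage]
    have hz' : r z ∈ (RelProj.emb p chart U hU) ''ᵁ Proj.basicOpen (𝒮.deg U hU) s := hz
    have hqU : pL ((RelProj.domQ u pL chartL).ι z) ∈ q ⁻¹ᵁ U := by
      rw [Scheme.Hom.mem_preimage, ← RLPsi.p_r_apply u r hr hP hPL z]
      obtain ⟨y, -, hy⟩ := hz'
      have hy' : RelProj.emb p chart U hU y = r z := hy
      have h1 : RelProj.emb p chart U hU y ∈ (RelProj.emb p chart U hU).opensRange := ⟨y, rfl⟩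
      rw [opensRange_emb, hy'] at h1
      exact h1
    obtain ⟨V, e, hV, hxV, hle, hg⟩ := InvGen.exists_affine_isGen_le hL
      (pL ((RelProj.domQ u pL chartL).ι z)) (q ⁻¹ᵁ U) hqU
    obtain ⟨y, hy⟩ := exists_emb_eq pL chartL V hV _ hxV
    have hfy := (RLPsi.r_mem_iff u r hr hPL z U hU V hV hle y hy hn s hs).mp hz'
    have ha : (u.appLE U V hle).hom s ∈ 𝒮L.deg V hV n :=
      (u.gradedAt U hU V hV hle).map_mem hs
    obtain ⟨V₁, hV₁, hle₁, hxV₁, hspan⟩ := RLPsiInv.exists_affine_span hj hPL hV hg ha y hfy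
    rw [hy] at hxV₁
    refine Opens.mem_iSup.mpr ⟨⟨⟨V₁, hV₁⟩, hle₁.trans hle, ?_⟩, hxV₁⟩
    rw [← RLPsi.appLE_res u U hle hle₁ s]
    exact hspan
  · intro x' hx
    rw [Scheme.Hom.mem_preimage] at hx
    obtain ⟨⟨⟨V, hV⟩, hle, hspan⟩, hxV⟩ := Opens.mem_iSup.mp hx
    obtain ⟨y, hy⟩ := exists_emb_eq pL chartL V hV x' hxV
    have hfy := RLPsiInv.notMem_of_span hj V hV y hspan
    have hdom : x' ∈ RelProj.domQ u pL chartL :=
      RLPsi.mem_domQ_of_loc u x' U hU V hV hle ⟨y, hy, n, hn, s, hs, hfy⟩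
    refine ⟨⟨x', hdom⟩, ?_, rfl⟩
    exact (RLPsi.r_mem_iff u r hr hPL ⟨x', hdom⟩ U hU V hV hle y hy hn s hs).mpr hfy

include hLq hj hPL hr hn hs in
theorem notMem_XF (hXT : IsAffineOpen (XFU u U n s)) (y : Proj (𝒮L.deg (XFU u U n s) hXT)) :
    (u.appLE U (XFU u U n s) (XFU_le u U n s)).hom s ∉ y.asHomogeneousIdeal := by
  haveI : L.IsQuasicoherent := hLq
  have hx'T : pL (RelProj.emb pL chartL (XFU u U n s) hXT y) ∈ XFU u U n s := by
    have h1 : RelProj.emb pL chartL (XFU u U n s) hXT y ∈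
        (RelProj.emb pL chartL (XFU u U n s) hXT).opensRange := ⟨y, rfl⟩
    rw [opensRange_emb] at h1
    exact h1
  obtain ⟨⟨⟨V, hV⟩, hle, hspan⟩, hxV⟩ := Opens.mem_iSup.mp hx'T
  obtain ⟨y', hy'⟩ := exists_emb_eq pL chartL V hV _ hxV
  have hsy' := RLPsiInv.notMem_of_span hj V hV y' hspan
  have hdom : RelProj.emb pL chartL (XFU u U n s) hXT y ∈ RelProj.domQ u pL chartL :=
    RLPsi.mem_domQ_of_loc u _ U hU V hV hle ⟨y', hy', n, hn, s, hs, hsy'⟩
  have h1 := (RLPsi.r_mem_iff u r hr hPL ⟨_, hdom⟩ U hU V hV hle y' hy' hn s hs).mpr hsy'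
  exact (RLPsi.r_mem_iff u r hr hPL ⟨_, hdom⟩ U hU (XFU u U n s) hXT (XFU_le u U n s) y rfl
    hn s hs).mp h1

include hLq hj hPL hr hn hs in
theorem basicOpen_XF_eq_top (hXT : IsAffineOpen (XFU u U n s)) :
    Proj.basicOpen (𝒮L.deg (XFU u U n s) hXT)
      (u.gradedAt U hU (XFU u U n s) hXT (XFU_le u U n s) s) = ⊤ := by
  rw [eq_top_iff]
  intro y _
  exact (Proj.mem_basicOpen _ _ _).mpr (notMem_XF u r hLq hj hPL hr U hU hn s hs hXT y)

include hLq hj hPL hr in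
theorem opensRange_awayEmb (hXT : IsAffineOpen (XFU u U n s)) :
    (RelProj.awayEmb u pL chartL U hU (XFU u U n s) hXT (XFU_le u U n s) hn s hs).opensRange =
      pL ⁻¹ᵁ XFU u U n s := by
  unfold RelProj.awayEmb
  rw [Scheme.Hom.opensRange_comp, Proj.opensRange_awayι,
    basicOpen_XF_eq_top u r hLq hj hPL hr U hU hn s hs hXT, Scheme.Hom.image_top_eq_opensRange,
    opensRange_emb]

include hL hLq hj hP hPL hr in
theorem opensRange_lft (hXT : IsAffineOpen (XFU u U n s)) :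
    (RLPsi.lft u pL chartL U hU (XFU u U n s) hXT (XFU_le u U n s) hn s hs).opensRange =
      r ⁻¹ᵁ ((RelProj.emb p chart U hU) ''ᵁ Proj.basicOpen (𝒮.deg U hU) s) := by
  have h2 : (RLPsi.lft u pL chartL U hU (XFU u U n s) hXT (XFU_le u U n s) hn s hs ≫
      (RelProj.domQ u pL chartL).ι).opensRange =
      (RelProj.awayEmb u pL chartL U hU (XFU u U n s) hXT (XFU_le u U n s) hn s hs).opensRange := by
    apply Opens.ext
    show Set.range (RLPsi.lft u pL chartL U hU (XFU u U n s) hXT (XFU_le u U n s) hn s hs ≫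
      (RelProj.domQ u pL chartL).ι) =
      Set.range (RelProj.awayEmb u pL chartL U hU (XFU u U n s) hXT (XFU_le u U n s) hn s hs)
    rw [RLPsi.lft_fac]
  apply (RelProj.domQ u pL chartL).ι.image_injective
  show (RelProj.domQ u pL chartL).ι ''ᵁ _ = (RelProj.domQ u pL chartL).ι ''ᵁ _
  rw [image_preimage_eq u r hL hLq hj hP hPL hr U hU hn s hs, ← Scheme.Hom.opensRange_comp,
    h2, opensRange_awayEmb u r hLq hj hPL hr U hU hn s hs hXT]

include hr in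
theorem lft_r (hXT : IsAffineOpen (XFU u U n s)) :
    RLPsi.lft u pL chartL U hU (XFU u U n s) hXT (XFU_le u U n s) hn s hs ≫ r =
      Spec.map (CommRingCat.ofHom
        (Away.map (u.gradedAt U hU (XFU u U n s) hXT (XFU_le u U n s)) s)) ≫
        Proj.awayι (𝒮.deg U hU) s hs hn ≫ RelProj.emb p chart U hU :=
  hr U hU (XFU u U n s) hXT (XFU_le u U n s) n hn s hs
    (RelProj.range_awayEmb_subset_domQ u pL chartL U hU (XFU u U n s) hXT (XFU_le u U n s)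
      hn s hs)

include hL hLq hj hPL hr hn hs in
theorem theta_bijective (hXT : IsAffineOpen (XFU u U n s)) :
    Function.Bijective (awayStruct (𝒮L.deg (XFU u U n s) hXT)
      (u.gradedAt U hU (XFU u U n s) hXT (XFU_le u U n s) s)
      (𝒮L.str.app (op (XFU u U n s))).hom (𝒮L.str_mem (XFU u U n s) hXT)) := by
  haveI : L.IsQuasicoherent := hLq
  haveI := SymInvProj.isIso_p hL hj pL chartL hPL
  have hfac : RelProj.awayEmb u pL chartL U hU (XFU u U n s) hXT (XFU_le u U n s) hn s hs ≫ pL =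
      Spec.map (CommRingCat.ofHom (awayStruct (𝒮L.deg (XFU u U n s) hXT)
        (u.gradedAt U hU (XFU u U n s) hXT (XFU_le u U n s) s)
        (𝒮L.str.app (op (XFU u U n s))).hom
        (𝒮L.str_mem (XFU u U n s) hXT))) ≫ hXT.fromSpec := by
    unfold RelProj.awayEmb
    rw [Category.assoc, emb_comp hPL (XFU u U n s) hXT, Proj.awayι_toSpecZero_assoc,
      ← Spec.map_comp_assoc]
    rfl
  have h1 : (RelProj.awayEmb u pL chartL U hU (XFU u U n s) hXT (XFU_le u U n s) hn s hs ≫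
      pL).opensRange = XFU u U n s := by
    rw [Scheme.Hom.opensRange_comp, opensRange_awayEmb u r hLq hj hPL hr U hU hn s hs hXT,
      Scheme.Hom.image_preimage_eq_opensRange_inf, Scheme.Hom.opensRange_of_isIso, top_inf_eq]
  have hrange : Set.range (RelProj.awayEmb u pL chartL U hU (XFU u U n s) hXT (XFU_le u U n s)
      hn s hs ≫ pL) = Set.range hXT.fromSpec :=
    congrArg (fun O : X.Opens => (O : Set X)) (h1.trans hXT.opensRange_fromSpec.symm)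
  have he : (IsOpenImmersion.isoOfRangeEq _ _ hrange).hom =
      Spec.map (CommRingCat.ofHom (awayStruct (𝒮L.deg (XFU u U n s) hXT)
        (u.gradedAt U hU (XFU u U n s) hXT (XFU_le u U n s) s)
        (𝒮L.str.app (op (XFU u U n s))).hom
        (𝒮L.str_mem (XFU u U n s) hXT))) := by
    rw [← cancel_mono hXT.fromSpec, IsOpenImmersion.isoOfRangeEq_hom_fac, hfac]
  haveI : IsIso (Spec.map (CommRingCat.ofHom (awayStruct (𝒮L.deg (XFU u U n s) hXT)
        (u.gradedAt U hU (XFU u U n s) hXT (XFU_le u U n s) s)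
        (𝒮L.str.app (op (XFU u U n s))).hom
        (𝒮L.str_mem (XFU u U n s) hXT)))) := by
    rw [← he]
    infer_instance
  have hb := (isIso_SpecMap_iff (f := CommRingCat.ofHom (awayStruct (𝒮L.deg (XFU u U n s) hXT)
        (u.gradedAt U hU (XFU u U n s) hXT (XFU_le u U n s) s)
        (𝒮L.str.app (op (XFU u U n s))).hom
        (𝒮L.str_mem (XFU u U n s) hXT)))).mp inferInstance
  exact hb

section fam
variable {J : Type u} (UU : J → Y.Opens) (hUU : ∀ a, IsAffineOpen (UU a)) (nn : J → ℕ)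
  (ss : ∀ a, 𝒮.presheaf.obj (op (UU a)))
  (h1 : ∀ a, 0 < nn a ∧ ss a ∈ 𝒮.deg (UU a) (hUU a) (nn a))
  (h3 : (⨆ a, XFU u (UU a) (nn a) (ss a)) = ⊤)
  (h4 : ∀ a, IsAffineOpen (XFU u (UU a) (nn a) (ss a)))

include hLq hj h1 h3 in
theorem domQ_eq_top_of_family : RelProj.domQ u pL chartL = ⊤ := by
  haveI : L.IsQuasicoherent := hLq
  rw [eq_top_iff]
  intro x' _
  have hx : pL x' ∈ (⨆ a, XFU u (UU a) (nn a) (ss a)) := by
    rw [h3]
    trivial
  obtain ⟨a, ha⟩ := Opens.mem_iSup.mp hx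
  obtain ⟨⟨⟨V, hV⟩, hle, hspan⟩, hxV⟩ := Opens.mem_iSup.mp ha
  obtain ⟨y, hy⟩ := exists_emb_eq pL chartL V hV x' hxV
  have hsy := RLPsiInv.notMem_of_span hj V hV y hspan
  exact RLPsi.mem_domQ_of_loc u x' (UU a) (hUU a) V hV hle
    ⟨y, hy, nn a, (h1 a).1, ss a, (h1 a).2, hsy⟩

include hL hLq hj hP hPL hr h1 h3 in
theorem exists_fO (Q : MorphismProperty Scheme.{u}) [IsZariskiLocalAtTarget Q]
    (hQ : ∀ a, Q (Spec.map (CommRingCat.ofHom (Away.map
      (u.gradedAt (UU a) (hUU a) (XFU u (UU a) (nn a) (ss a)) (h4 a) (XFU_le u _ _ _)) (ss a))))) :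
    ∃ fO : ((RelProj.domQ u pL chartL : PL.Opens) : Scheme.{u}) ⟶
        ((⨆ a, (RelProj.emb p chart (UU a) (hUU a)) ''ᵁ
          Proj.basicOpen (𝒮.deg (UU a) (hUU a)) (ss a) : P.Opens) : Scheme.{u}),
      fO ≫ (⨆ a, (RelProj.emb p chart (UU a) (hUU a)) ''ᵁ
          Proj.basicOpen (𝒮.deg (UU a) (hUU a)) (ss a) : P.Opens).ι = r ∧ Q fO := by
  refine exists_lift_of_charts Q r
    (fun a => Spec (.of (Away (𝒮.deg (UU a) (hUU a)) (ss a))))
    (fun a => Spec (.of (Away (𝒮L.deg (XFU u (UU a) (nn a) (ss a)) (h4 a))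
      (u.gradedAt (UU a) (hUU a) (XFU u (UU a) (nn a) (ss a)) (h4 a) (XFU_le u _ _ _) (ss a)))))
    (fun a => Proj.awayι (𝒮.deg (UU a) (hUU a)) (ss a) (h1 a).2 (h1 a).1 ≫
      RelProj.emb p chart (UU a) (hUU a))
    (fun a => RLPsi.lft u pL chartL (UU a) (hUU a) (XFU u (UU a) (nn a) (ss a)) (h4 a)
      (XFU_le u _ _ _) (h1 a).1 (ss a) (h1 a).2)
    (fun a => Spec.map (CommRingCat.ofHom (Away.map
      (u.gradedAt (UU a) (hUU a) (XFU u (UU a) (nn a) (ss a)) (h4 a) (XFU_le u _ _ _)) (ss a))))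
    (fun a => (RelProj.emb p chart (UU a) (hUU a)) ''ᵁ
      Proj.basicOpen (𝒮.deg (UU a) (hUU a)) (ss a))
    (fun a => by rw [Scheme.Hom.opensRange_comp, Proj.opensRange_awayι])
    hQ
    (fun a => lft_r u r hr (UU a) (hUU a) (h1 a).1 (ss a) (h1 a).2 (h4 a))
    (fun a => (opensRange_lft u r hL hLq hj hP hPL hr (UU a) (hUU a) (h1 a).1 (ss a) (h1 a).2
      (h4 a)).symm)
    ?_
  intro z
  have hx : pL ((RelProj.domQ u pL chartL).ι z) ∈ (⨆ a, XFU u (UU a) (nn a) (ss a)) := by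
    rw [h3]
    trivial
  obtain ⟨a, ha⟩ := Opens.mem_iSup.mp hx
  have h2 : (RelProj.domQ u pL chartL).ι z ∈ pL ⁻¹ᵁ XFU u (UU a) (nn a) (ss a) := ha
  rw [← image_preimage_eq u r hL hLq hj hP hPL hr (UU a) (hUU a) (h1 a).1 (ss a) (h1 a).2] at h2
  obtain ⟨z', hz', hzz⟩ := h2
  have hzz' : z' = z := (RelProj.domQ u pL chartL).ι.isOpenEmbedding.injective hzz
  rw [hzz', ← opensRange_lft u r hL hLq hj hP hPL hr (UU a) (hUU a) (h1 a).1 (ss a) (h1 a).2
    (h4 a)] at hz'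
  obtain ⟨y, hy⟩ := hz'
  exact ⟨a, y, hy⟩

end fam

include hL hLq hj hP hPL hr in
/-- the immersion criterion, sufficiency, in a flexible form -/
theorem isImmersion_of_family {J : Type u} (UU : J → Y.Opens) (hUU : ∀ a, IsAffineOpen (UU a))
    (nn : J → ℕ) (ss : ∀ a, 𝒮.presheaf.obj (op (UU a))) (XT : J → X.Opens)
    (h1 : ∀ a, 0 < nn a ∧ ss a ∈ 𝒮.deg (UU a) (hUU a) (nn a))
    (h2 : ∀ a, XT a = XFU u (UU a) (nn a) (ss a))
    (h3 : (⨆ a, XT a) = ⊤) (h4 : ∀ a, IsAffineOpen (XT a))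
    (hle : ∀ a, XT a ≤ q ⁻¹ᵁ UU a)
    (h5 : ∀ (a : J) (t : X.presheaf.obj (op (XT a))), ∃ (m : ℕ) (_ : 0 < m)
      (s' : 𝒮.presheaf.obj (op (UU a))) (_ : s' ∈ 𝒮.deg (UU a) (hUU a) (m * nn a)),
      (𝒮L.str.app (op (XT a))).hom t * ((u.appLE (UU a) (XT a) (hle a)).hom (ss a)) ^ m =
        (u.appLE (UU a) (XT a) (hle a)).hom s') :
    RelProj.domQ u pL chartL = ⊤ ∧ IsImmersion r := by
  obtain rfl : XT = fun a => XFU u (UU a) (nn a) (ss a) := funext h2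
  refine ⟨domQ_eq_top_of_family u hLq hj UU hUU nn ss h1 h3, ?_⟩
  have hQ : ∀ a, IsClosedImmersion (Spec.map (CommRingCat.ofHom (Away.map
      (u.gradedAt (UU a) (hUU a) (XFU u (UU a) (nn a) (ss a)) (h4 a) (XFU_le u _ _ _))
      (ss a)))) := fun a =>
    IsClosedImmersion.spec_of_surjective _
      (awayMap_surjective_of (u.gradedAt (UU a) (hUU a) _ (h4 a) (XFU_le u _ _ _)) (h1 a).2
        (𝒮L.str.app (op _)).hom (𝒮L.str_mem _ (h4 a))
        (theta_bijective u r hL hLq hj hPL hr (UU a) (hUU a) (h1 a).1 (ss a) (h1 a).2 (h4 a)).2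
        (h5 a))
  obtain ⟨fO, hfO, hcl⟩ := exists_fO u r hL hLq hj hP hPL hr UU hUU nn ss h1 h3 h4
    @IsClosedImmersion hQ
  haveI := hcl
  rw [← hfO]
  infer_instance

section conv
variable (O : P.Opens)
  (lc : ((RelProj.domQ u pL chartL : PL.Opens) : Scheme.{u}) ⟶ (O : Scheme.{u}))
  (hlc : lc ≫ O.ι = r)

include hL hLq hj hP hPL hr hlc hn hs in
theorem isAffineOpen_XF_of_le [IsClosedImmersion lc]
    (hD : (RelProj.emb p chart U hU) ''ᵁ Proj.basicOpen (𝒮.deg U hU) s ≤ O) :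
    IsAffineOpen (XFU u U n s) := by
  haveI : L.IsQuasicoherent := hLq
  haveI := SymInvProj.isIso_p hL hj pL chartL hPL
  have hDaff : IsAffineOpen ((RelProj.emb p chart U hU) ''ᵁ Proj.basicOpen (𝒮.deg U hU) s) :=
    (Proj.isAffineOpen_basicOpen _ s hs hn).image_of_isOpenImmersion _
  have hD' : IsAffineOpen (O.ι ⁻¹ᵁ ((RelProj.emb p chart U hU) ''ᵁ
      Proj.basicOpen (𝒮.deg U hU) s)) :=
    hDaff.preimage_of_isOpenImmersion O.ι (by rw [Scheme.Opens.opensRange_ι]; exact hD)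
  have h1 := hD'.preimage lc
  have h2 : lc ⁻¹ᵁ (O.ι ⁻¹ᵁ ((RelProj.emb p chart U hU) ''ᵁ Proj.basicOpen (𝒮.deg U hU) s)) =
      r ⁻¹ᵁ ((RelProj.emb p chart U hU) ''ᵁ Proj.basicOpen (𝒮.deg U hU) s) := by
    rw [← Scheme.Hom.comp_preimage, hlc]
  rw [h2] at h1
  have h3 := h1.image_of_isOpenImmersion (RelProj.domQ u pL chartL).ι
  rw [image_preimage_eq u r hL hLq hj hP hPL hr U hU hn s hs] at h3
  have h4 := h3.image_of_isOpenImmersion pL
  rwa [Scheme.Hom.image_preimage_eq_opensRange_inf, Scheme.Hom.opensRange_of_isIso,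
    top_inf_eq] at h4

include hL hLq hj hP hPL hr hlc in
theorem isPullback_chart
    (hD : (RelProj.emb p chart U hU) ''ᵁ Proj.basicOpen (𝒮.deg U hU) s ≤ O)
    (hXT : IsAffineOpen (XFU u U n s)) :
    ∃ c' : Spec (.of (Away (𝒮.deg U hU) s)) ⟶ (O : Scheme.{u}),
      IsPullback (RLPsi.lft u pL chartL U hU (XFU u U n s) hXT (XFU_le u U n s) hn s hs)
        (Spec.map (CommRingCat.ofHom
          (Away.map (u.gradedAt U hU (XFU u U n s) hXT (XFU_le u U n s)) s)))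
        lc c' := by
  have hcr : (Proj.awayι (𝒮.deg U hU) s hs hn ≫ RelProj.emb p chart U hU).opensRange =
      (RelProj.emb p chart U hU) ''ᵁ Proj.basicOpen (𝒮.deg U hU) s := by
    rw [Scheme.Hom.opensRange_comp, Proj.opensRange_awayι]
  have hcO : Set.range (Proj.awayι (𝒮.deg U hU) s hs hn ≫ RelProj.emb p chart U hU) ⊆
      Set.range O.ι := by
    rw [Scheme.Opens.range_ι]
    rintro _ ⟨y, rfl⟩
    apply hD
    rw [← hcr]
    exact ⟨y, rfl⟩
  obtain ⟨c', hc'⟩ : ∃ c' : Spec (.of (Away (𝒮.deg U hU) s)) ⟶ (O : Scheme.{u}),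
      c' ≫ O.ι = Proj.awayι (𝒮.deg U hU) s hs hn ≫ RelProj.emb p chart U hU :=
    ⟨IsOpenImmersion.lift O.ι _ hcO, IsOpenImmersion.lift_fac _ _ _⟩
  haveI : IsOpenImmersion c' := by
    haveI : IsOpenImmersion (c' ≫ O.ι) := by
      rw [hc']
      infer_instance
    exact IsOpenImmersion.of_comp c' O.ι
  refine ⟨c', (IsOpenImmersion.isPullback _ _ _ _ ?_ ?_).flip⟩
  · rw [← cancel_mono O.ι, Category.assoc, Category.assoc, hlc, hc',
      lft_r u r hr U hU hn s hs hXT]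
  · have e1 : (RelProj.emb p chart U hU) ''ᵁ Proj.basicOpen (𝒮.deg U hU) s =
        O.ι ''ᵁ c'.opensRange := by
      rw [← hcr]
      ext x
      constructor
      · rintro ⟨y, rfl⟩
        exact ⟨c' y, ⟨y, rfl⟩, congrArg (fun g : Spec (.of (Away (𝒮.deg U hU) s)) ⟶ P => g y) hc'⟩
      · rintro ⟨_, ⟨y, rfl⟩, rfl⟩
        exact ⟨y, (congrArg (fun g : Spec (.of (Away (𝒮.deg U hU) s)) ⟶ P => g y) hc').symm⟩
    have e2 : r ⁻¹ᵁ ((RelProj.emb p chart U hU) ''ᵁ Proj.basicOpen (𝒮.deg U hU) s) =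
        lc ⁻¹ᵁ (O.ι ⁻¹ᵁ ((RelProj.emb p chart U hU) ''ᵁ Proj.basicOpen (𝒮.deg U hU) s)) := by
      rw [← Scheme.Hom.comp_preimage, hlc]
    rw [opensRange_lft u r hL hLq hj hP hPL hr U hU hn s hs hXT, e2, e1,
      Scheme.Hom.preimage_image_eq]

include hL hLq hj hP hPL hr hlc in
theorem exists_XF_mem (hW : RelProj.domQ u pL chartL = ⊤) (x : X) :
    ∃ (U : Y.Opens) (hU : IsAffineOpen U) (n : ℕ) (s : 𝒮.presheaf.obj (op U)), 0 < n ∧
      s ∈ 𝒮.deg U hU n ∧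
      (RelProj.emb p chart U hU) ''ᵁ Proj.basicOpen (𝒮.deg U hU) s ≤ O ∧ x ∈ XFU u U n s := by
  haveI : L.IsQuasicoherent := hLq
  haveI := SymInvProj.isIso_p hL hj pL chartL hPL
  obtain ⟨x', rfl⟩ := pL.surjective x
  have hx' : x' ∈ RelProj.domQ u pL chartL := by
    rw [hW]
    trivial
  obtain ⟨U, hU, hyU⟩ := exists_affine_mem (p (r ⟨x', hx'⟩))
  obtain ⟨y₀, hy₀⟩ := exists_emb_eq p chart U hU (r ⟨x', hx'⟩) hyU
  have hrO : r ⟨x', hx'⟩ ∈ O := by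
    have h1 : r ⟨x', hx'⟩ = O.ι (lc ⟨x', hx'⟩) := by
      rw [← Scheme.Hom.comp_apply, hlc]
    rw [h1]
    exact (lc ⟨x', hx'⟩).2
  have hy₀O : y₀ ∈ (RelProj.emb p chart U hU) ⁻¹ᵁ O := by
    rw [Scheme.Hom.mem_preimage, hy₀]
    exact hrO
  obtain ⟨n, hn, s, hs, hys, hsO⟩ := RLPsi.exists_basicOpen_le _ y₀ hy₀O
  refine ⟨U, hU, n, s, hn, hs, ?_, ?_⟩
  · rintro _ ⟨y, hy, rfl⟩
    exact hsO hy
  · have hz : r ⟨x', hx'⟩ ∈
        (RelProj.emb p chart U hU) ''ᵁ Proj.basicOpen (𝒮.deg U hU) s := by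
      rw [← hy₀]
      exact ⟨y₀, hys, rfl⟩
    have h2 : x' ∈ (RelProj.domQ u pL chartL).ι ''ᵁ
        (r ⁻¹ᵁ ((RelProj.emb p chart U hU) ''ᵁ Proj.basicOpen (𝒮.deg U hU) s)) :=
      ⟨⟨x', hx'⟩, hz, rfl⟩
    rw [image_preimage_eq u r hL hLq hj hP hPL hr U hU hn s hs] at h2
    exact h2

end conv

include hL hLq hj hP hPL hr in
/-- local data of an everywhere defined immersion `r` near a point of `X` -/
theorem exists_local_data (hW : RelProj.domQ u pL chartL = ⊤) [IsImmersion r] (x : X) :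
    ∃ (U : Y.Opens) (hU : IsAffineOpen U) (n : ℕ) (s : 𝒮.presheaf.obj (op U))
      (hXT : IsAffineOpen (XFU u U n s)),
      0 < n ∧ s ∈ 𝒮.deg U hU n ∧ x ∈ XFU u U n s ∧
      Function.Surjective (Away.map (u.gradedAt U hU (XFU u U n s) hXT (XFU_le u U n s)) s) := by
  have hlc : r.liftCoborder ≫ r.coborderRange.ι = r := r.liftCoborder_ι
  obtain ⟨U, hU, n, s, hn, hs, hD, hx⟩ :=
    exists_XF_mem u r hL hLq hj hP hPL hr r.coborderRange r.liftCoborder hlc hW x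
  have hXT := isAffineOpen_XF_of_le u r hL hLq hj hP hPL hr U hU hn s hs r.coborderRange
    r.liftCoborder hlc hD
  obtain ⟨c', sq⟩ := isPullback_chart u r hL hLq hj hP hPL hr U hU hn s hs r.coborderRange
    r.liftCoborder hlc hD hXT
  haveI : IsClosedImmersion (Spec.map (CommRingCat.ofHom (Away.map
      (u.gradedAt U hU (XFU u U n s) hXT (XFU_le u U n s)) s))) :=
    MorphismProperty.of_isPullback (P := @IsClosedImmersion) sq inferInstance
  exact ⟨U, hU, n, s, hXT, hn, hs, hx, surjective_of_isClosedImmersion_SpecMap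
    (CommRingCat.ofHom (Away.map (u.gradedAt U hU (XFU u U n s) hXT (XFU_le u U n s)) s))⟩

end main

end Groth.Agent.Lib.Helper3.RLPsiImmU
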