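import Groth.Agent.Lib.Helper3.RLSub
import Groth.Agent.Lib.Helper3.VALocal
import Groth.Agent.Lib.Helper3.CounitGG
import Groth.Agent.Lib.Helper3.QCPush

/-!
# A finite type submodule of `q_*L` defining an immersion (EGA II 4.4.7)
-/

set_option autoImplicit false
set_option linter.unusedSectionVars false
universe u
open CategoryTheory CategoryTheory.Limits AlgebraicGeometry TopologicalSpace Opposite
open Scheme.Modules
open scoped HomogeneousIdeal

namespace Groth.Agent.Lib.Helper3.RLSub2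

open QCSec InvGen InvTensor InvMonoidal PbBasic PullLemmas RelChart SymGen TwistHom

theorem exists_finiteType_sub_pushforward {X Y PL : Scheme.{u}} [CompactSpace Y]
    [QuasiSeparatedSpace Y] (q : X ⟶ Y) [QuasiCompact q] [LocallyOfFiniteType q]
    (L : X.Modules) (hL : PicF.IsInvertible L) (hLq : Coh.IsQCoh L)
    (𝒮L : RelProj.QCGrAlg X) (jL : L ⟶ 𝒮L.toModule) (hjL : RelProj.IsGrSymAlg L 𝒮L jL)
    (pL : PL ⟶ X) (chartL : ∀ (U : X.Opens) (hU : IsAffineOpen U),
      (((pL ⁻¹ᵁ U : PL.Opens) : Scheme.{u}) ≅ Proj (𝒮L.deg U hU)))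
    (hPL : RelProj.IsRelProj 𝒮L pL chartL)
    (h : RelProj.IsRelVeryAmple q L) :
    ∃ (E : Y.Modules) (_ : Coh.IsQCoh E) (_ : CohB1.IsFT E)
      (ι : E ⟶ (Scheme.Modules.pushforward q).obj L)
      (_ : ∀ U : Y.Opens, Function.Injective (ι.app U))
      (𝒯 : RelProj.QCGrAlg Y) (jE : E ⟶ 𝒯.toModule) (_ : RelProj.IsGrSymAlg E 𝒯 jE)
      (u : RelProj.QGrHom q 𝒯 𝒮L)
      (_ : ∀ (U : Y.Opens) (x : Γ(E, U)),
        (u.app U).hom ((jE.app U) x) = (jL.app (q ⁻¹ᵁ U)) ((ι.app U) x)),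
      (∀ x : X, ∃ (U : Y.Opens) (hU : IsAffineOpen U) (e : Γ(E, U)) (V : X.Opens)
        (hV : IsAffineOpen V) (hVU : V ≤ q ⁻¹ᵁ U), x ∈ V ∧
          ((𝒮L.deg V hV 1 : AddSubgroup (𝒮L.presheaf.obj (op V))) :
            Set (𝒮L.presheaf.obj (op V))) ⊆
            (Ideal.span {(u.appLE U V hVU).hom ((jE.app U) e)} :
              Set (𝒮L.presheaf.obj (op V)))) ∧
      ∀ (P : Scheme.{u}) (p : P ⟶ Y)
        (chart : ∀ (U : Y.Opens) (hU : IsAffineOpen U),
          (((p ⁻¹ᵁ U : P.Opens) : Scheme.{u}) ≅ Proj (𝒯.deg U hU)))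
        (_ : RelProj.IsRelProj 𝒯 p chart)
        (r : ((RelProj.domQ u pL chartL : PL.Opens) : Scheme.{u}) ⟶ P)
        (_ : RelProj.IsProjQMapOn u p chart pL chartL (RelProj.domQ u pL chartL) r),
        RelProj.domQ u pL chartL = ⊤ ∧ IsImmersion r := by
  classical
  haveI : IsSeparated q := VALocal.isSeparated_of_isRelVeryAmple q L h
  haveI : L.IsQuasicoherent := hLq
  haveI hEq : ((Scheme.Modules.pushforward q).obj L).IsQuasicoherent :=
    QCSec.isQuasicoherent_pushforward q L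
  obtain ⟨𝒜, jF, h𝒜⟩ := SymGr.exists_isGrSymAlg ((Scheme.Modules.pushforward q).obj L)
  obtain ⟨u₀, hu₀⟩ := ProjBundleUP.exists_qGrHom q h𝒜
    ((pullbackPushforwardAdjunction q).counit.app L ≫ jL) (fun U' hU' x => hjL.2 U' hU' _)
  have hu₀' : ∀ (U : Y.Opens) (x : Γ((Scheme.Modules.pushforward q).obj L, U)),
      (u₀.app U).hom ((jF.app U) x) = (jL.app (q ⁻¹ᵁ U)) x := by
    intro U x
    have h0 := hu₀ U x
    refine h0.trans ?_
    have h1 := CounitGG.counit_pull q L U (up q L U x)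
    exact congrArg (jL.app (q ⁻¹ᵁ U)) h1
  obtain ⟨P, p, chart, hP⟩ := RelProjExist.exists_isRelProj 𝒜
  obtain ⟨r, hr⟩ := ProjQGlue.exists_isProjQMapOn (u := u₀) p chart pL chartL hP hPL
  obtain ⟨hdom, hri⟩ := RLSigmaImm.domQ_eq_top_and_isImmersion q L hL 𝒮L jL hjL pL chartL hPL
    hEq 𝒜 jF h𝒜 u₀ hu₀' p chart hP r hr h
  haveI := hri
  -- the canonical map is surjective
  obtain ⟨E', hE', 𝒮', j', hj', P', p', chart', hP', O1', lam', hO1', φ', hφ', i, hi, hip, τ', s',
    hs', hc'⟩ := RLSigmaImm.exists_data q L h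
  haveI := hE'
  haveI := hs'
  let t' : E' ⟶ (pushforward q).obj L := (pullbackPushforwardAdjunction q).homEquiv E' L s'
  have hst : (Scheme.Modules.pullback q).map t' ≫
      (pullbackPushforwardAdjunction q).counit.app L = s' := by
    have h0 := ((pullbackPushforwardAdjunction q).homEquiv E' L).symm_apply_apply s'
    rw [Adjunction.homEquiv_counit] at h0
    exact h0
  haveI : Epi ((pullbackPushforwardAdjunction q).counit.app L) := by
    haveI : Epi ((Scheme.Modules.pullback q).map t' ≫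
        (pullbackPushforwardAdjunction q).counit.app L) := by
      rw [hst]
      infer_instance
    exact epi_of_epi ((Scheme.Modules.pullback q).map t') _
  have hu₀'' : ∀ (U : Y.Opens) (x : Γ((pushforward q).obj L, U)),
      (u₀.toQHom.app U).hom (jF.app U x) =
        ((pullbackPushforwardAdjunction q).counit.app L ≫ jL).app (q ⁻¹ᵁ U)
          (((pullbackPushforwardAdjunction q).unit.app ((pushforward q).obj L)).app U x) :=
    hu₀
  have hsurj : ∀ x : X, ∃ (U : Y.Opens) (hU : IsAffineOpen U)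
      (e : Γ((Scheme.Modules.pushforward q).obj L, U)) (V : X.Opens)
      (hV : IsAffineOpen V) (hVU : V ≤ q ⁻¹ᵁ U), x ∈ V ∧
        ((𝒮L.deg V hV 1 : AddSubgroup (𝒮L.presheaf.obj (op V))) :
          Set (𝒮L.presheaf.obj (op V))) ⊆
          (Ideal.span {(u₀.appLE U V hVU).hom ((jF.app U) e)} :
            Set (𝒮L.presheaf.obj (op V))) := by
    intro x
    obtain ⟨U, hU, hxU⟩ := ProjQMap.exists_affine_mem (q x)
    obtain ⟨V, hV, hVU, e, hxV, hgen⟩ := ProjBundleUP.exists_gen_of_epi q _ hL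
      ((pullbackPushforwardAdjunction q).counit.app L) x U hU hxU
    refine ⟨U, hU, e, V, hV, hVU, hxV, ?_⟩
    intro a ha
    have hrw := SymBC.appLE_jj q u₀.toQHom hu₀'' U V hVU e
    obtain ⟨c, hc⟩ := RLPsiInv.exists_eq_mul_pow hjL hV hgen.self ha
    have hmem : a ∈ Ideal.span {jj 𝒮L.toQCAlg jL V
        (((pullbackPushforwardAdjunction q).counit.app L).app V
          (Groth.Agent.Lib.Helper17.UnitBC.unitSec q _ U V hVU e))} := by
      rw [Ideal.mem_span_singleton']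
      exact ⟨st 𝒮L.toQCAlg V c, by rw [hc, pow_one]⟩
    have hrw' : (u₀.appLE U V hVU).hom ((jF.app U) e) = jj 𝒮L.toQCAlg jL V
        (((pullbackPushforwardAdjunction q).counit.app L).app V
          (Groth.Agent.Lib.Helper17.UnitBC.unitSec q _ U V hVU e)) := hrw
    rw [hrw']
    exact hmem
  obtain ⟨E, hEq', hEft, ι, hι, 𝒯', jE, hjE, u', hu', hsE, hmain⟩ :=
    RLSub.exists_finiteType_sub hL hLq hjL hPL h𝒜 u₀ hP r hr hsurj hdom
  exact ⟨E, hEq', hEft, ι, hι, 𝒯', jE, hjE, u', fun U x => (hu' U x).trans (hu₀' U _), hsE,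
    hmain⟩

end Groth.Agent.Lib.Helper3.RLSub2
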