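import Groth.Agent.Lib.Helper3.RLSub
import Groth.Agent.Lib.Helper3.GrProj
import Groth.Agent.Lib.Helper3.GrSubAlg

/-!
# `r_{L,ψ}` for a graded subalgebra of finite type generated in one degree (EGA II 3.8.5)
-/

set_option autoImplicit false
set_option linter.unusedSectionVars false
universe u
open CategoryTheory CategoryTheory.Limits AlgebraicGeometry TopologicalSpace Opposite
open Scheme.Modules
open scoped HomogeneousIdeal

namespace Groth.Agent.Lib.Helper3.RLSubAlg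

open QCSec InvGen SymGen HomogeneousLocalization Groth.Agent.Lib.Helper3.RLPsiImm
  Groth.Agent.Lib.Helper3.RLPsiImmU QCAlgGen GrSubAlg

section core

variable {Y X P PL : Scheme.{u}} {q : X ⟶ Y} {L : X.Modules}
  {𝒮 : RelProj.QCGrAlg Y} {𝒮L : RelProj.QCGrAlg X} {jL : L ⟶ 𝒮L.toModule}
  {pL : PL ⟶ X} {chartL : ∀ (U : X.Opens) (hU : IsAffineOpen U),
    (((pL ⁻¹ᵁ U : PL.Opens) : Scheme.{u}) ≅ Proj (𝒮L.deg U hU))}
  (hL : PicF.IsInvertible L) (hLq : Coh.IsQCoh L) (hjL : RelProj.IsGrSymAlg L 𝒮L jL)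
  (hPL : RelProj.IsRelProj 𝒮L pL chartL)
  (u : RelProj.QGrHom q 𝒮 𝒮L)
  {p : P ⟶ Y} {chart : ∀ (U : Y.Opens) (hU : IsAffineOpen U),
    (((p ⁻¹ᵁ U : P.Opens) : Scheme.{u}) ≅ Proj (𝒮.deg U hU))}
  (hP : RelProj.IsRelProj 𝒮 p chart)
  (r : ((RelProj.domQ u pL chartL : PL.Opens) : Scheme.{u}) ⟶ P)
  (hr : RelProj.IsProjQMapOn u p chart pL chartL (RelProj.domQ u pL chartL) r)

include hL hLq hjL hPL hP hr in
/-- `X_{u(s^k)} = X_{u(s)}` -/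
theorem XFU_pow (U : Y.Opens) (hU : IsAffineOpen U) {n : ℕ} (hn : 0 < n)
    (s : 𝒮.presheaf.obj (op U)) (hs : s ∈ 𝒮.deg U hU n) {k : ℕ} (hk : 0 < k) {N : ℕ}
    (hN : k * n = N) : XFU u U N (s ^ k) = XFU u U n s := by
  subst hN
  have hsk : s ^ k ∈ 𝒮.deg U hU (k * n) := by
    have := SetLike.pow_mem_graded k hs
    rwa [smul_eq_mul] at this
  have h1 := image_preimage_eq u r hL hLq hjL hP hPL hr U hU hn s hs
  have h2 := image_preimage_eq u r hL hLq hjL hP hPL hr U hU (Nat.mul_pos hk hn) (s ^ k) hsk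
  rw [Proj.basicOpen_pow (𝒮.deg U hU) s k hk] at h2
  have h3 : pL ⁻¹ᵁ XFU u U (k * n) (s ^ k) = pL ⁻¹ᵁ XFU u U n s := h2.symm.trans h1
  haveI : IsIso pL := SymInvProj.isIso_p hL hjL pL chartL hPL
  ext x
  obtain ⟨x', rfl⟩ := pL.surjective x
  exact (show x' ∈ pL ⁻¹ᵁ XFU u U (k * n) (s ^ k) ↔ x' ∈ pL ⁻¹ᵁ XFU u U n s by rw [h3])

include hL hLq hjL hPL hP hr in
/-- sufficiency in **EGA II 3.8.5** -/
theorem isImmersion_of_sub {𝒮' : RelProj.QCGrAlg Y} (j' : 𝒮'.toQCAlg ⟶ 𝒮.toQCAlg)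
    (hj' : RelProj.IsGradedHom j') (u' : RelProj.QGrHom q 𝒮' 𝒮L)
    (hu' : ∀ U : Y.Opens, u'.app U = j'.hom.app (op U) ≫ u.app U)
    (hmain : ∀ (P' : Scheme.{u}) (p' : P' ⟶ Y)
      (chart' : ∀ (U : Y.Opens) (hU : IsAffineOpen U),
        (((p' ⁻¹ᵁ U : P'.Opens) : Scheme.{u}) ≅ Proj (𝒮'.deg U hU)))
      (_ : RelProj.IsRelProj 𝒮' p' chart')
      (r' : ((RelProj.domQ u' pL chartL : PL.Opens) : Scheme.{u}) ⟶ P')
      (_ : RelProj.IsProjQMapOn u' p' chart' pL chartL (RelProj.domQ u' pL chartL) r'),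
      RelProj.domQ u' pL chartL = ⊤ ∧ IsImmersion r') :
    RelProj.domQ u pL chartL = ⊤ ∧ IsImmersion r := by
  classical
  obtain ⟨P', p', chart', hP'⟩ := RelProjExist.exists_isRelProj 𝒮'
  obtain ⟨r', hr'⟩ := ProjQGlue.exists_isProjQMapOn (u := u') p' chart' pL chartL hP' hPL
  obtain ⟨hdom', hri'⟩ := hmain P' p' chart' hP' r' hr'
  haveI := hri'
  have hcompLE : ∀ (U₀ : Y.Opens) (V₀ : X.Opens) (hle : V₀ ≤ q ⁻¹ᵁ U₀)
      (τ : 𝒮'.presheaf.obj (op U₀)),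
      (u'.appLE U₀ V₀ hle).hom τ = (u.appLE U₀ V₀ hle).hom ((j'.hom.app (op U₀)).hom τ) :=
    fun U₀ V₀ hle τ => RLPsi.appLE_of_comp u u' j' hu' U₀ V₀ hle τ
  choose U hU n σ hXT hn hσ hx hsj using
    fun x : X => exists_local_data u' r' hL hLq hjL hP' hPL hr' hdom' x
  refine isImmersion_of_family u r hL hLq hjL hP hPL hr U hU n
    (fun x => (j'.hom.app (op (U x))).hom (σ x))
    (fun x => XFU u' (U x) (n x) (σ x)) (fun x => ⟨hn x, hj' (U x) (hU x) _ _ (hσ x)⟩) ?_ ?_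
    hXT (fun x => XFU_le u' _ _ _) ?_
  · intro x
    exact XFU_congr u' u (U x) (n x) (σ x) _ (fun V hle => hcompLE (U x) V hle (σ x))
  · rw [eq_top_iff]
    intro x _
    exact Opens.mem_iSup.mpr ⟨x, hx x⟩
  · intro x t
    obtain ⟨m, hm, s'', hs'', e⟩ := iii_of_surjective
      (u'.gradedAt (U x) (hU x) _ (hXT x) (XFU_le u' _ _ _)) (hσ x)
      (𝒮L.str.app (op _)).hom (𝒮L.str_mem _ (hXT x)) (hsj x) t
    refine ⟨m, hm, (j'.hom.app (op (U x))).hom s'', hj' _ _ _ _ hs'', ?_⟩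
    rw [← hcompLE (U x), ← hcompLE (U x)]
    exact e

include hL hLq hjL hPL hP hr in
/-- necessity in **EGA II 3.8.5** -/
theorem exists_subalgebra [CompactSpace Y] [QuasiSeparatedSpace Y] [QuasiCompact q]
    [LocallyOfFiniteType q] (hW : RelProj.domQ u pL chartL = ⊤) [IsImmersion r] :
    ∃ (n : ℕ) (_ : 0 < n) (𝒮' : RelProj.QCGrAlg Y) (j' : 𝒮'.toQCAlg ⟶ 𝒮.toQCAlg) (_ : RelProj.IsGradedHom j')
        (_ : ∀ (U : Y.Opens), IsAffineOpen U → Function.Injective (j'.hom.app (op U)).hom)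
        (_ : ∀ (U : Y.Opens) (hU : IsAffineOpen U),
          ((𝒮'.deg U hU 0 : AddSubgroup (𝒮'.presheaf.obj (op U))) : Set (𝒮'.presheaf.obj (op U))) =
            Set.range (𝒮'.str.app (op U)).hom)
        (_ : ∀ (U : Y.Opens) (hU : IsAffineOpen U),
          Subring.closure (((𝒮'.deg U hU 0 : AddSubgroup (𝒮'.presheaf.obj (op U))) : Set (𝒮'.presheaf.obj (op U))) ∪
            ((𝒮'.deg U hU n : AddSubgroup (𝒮'.presheaf.obj (op U))) : Set (𝒮'.presheaf.obj (op U)))) = ⊤)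
        (_ : 𝒮'.IsFTDeg n)
        (u' : RelProj.QGrHom q 𝒮' 𝒮L) (_ : ∀ U : Y.Opens, u'.app U = j'.hom.app (op U) ≫ u.app U),
        (∀ x : X, ∃ (U : Y.Opens) (hU : IsAffineOpen U) (e : 𝒮'.presheaf.obj (op U)) (_ : e ∈ 𝒮'.deg U hU n)
            (V : X.Opens) (hV : IsAffineOpen V) (hVU : V ≤ q ⁻¹ᵁ U), x ∈ V ∧
              ((𝒮L.deg V hV n : AddSubgroup (𝒮L.presheaf.obj (op V))) : Set (𝒮L.presheaf.obj (op V))) ⊆
                (Ideal.span {(u'.appLE U V hVU).hom e} : Set (𝒮L.presheaf.obj (op V)))) ∧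
        (∀ (P' : Scheme.{u}) (p' : P' ⟶ Y)
            (chart' : ∀ (U : Y.Opens) (hU : IsAffineOpen U), (((p' ⁻¹ᵁ U : P'.Opens) : Scheme.{u}) ≅ Proj (𝒮'.deg U hU)))
            (_ : RelProj.IsRelProj 𝒮' p' chart')
            (r' : ((RelProj.domQ u' pL chartL : PL.Opens) : Scheme.{u}) ⟶ P')
            (_ : RelProj.IsProjQMapOn u' p' chart' pL chartL (RelProj.domQ u' pL chartL) r'),
          RelProj.domQ u' pL chartL = ⊤ ∧ IsImmersion r') := by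
  classical
  haveI : CompactSpace X := QuasiCompact.compactSpace_of_compactSpace q
  -- local data of the immersion
  choose U hU n s hXT hn hs hx hsj using
    fun x : X => exists_local_data u r hL hLq hjL hP hPL hr hW x
  have hcov : (Set.univ : Set X) ⊆
      ⋃ x : X, ((XFU u (U x) (n x) (s x) : X.Opens) : Set X) :=
    fun x _ => Set.mem_iUnion.mpr ⟨x, hx x⟩
  obtain ⟨F₀, hF₀⟩ := isCompact_univ.elim_finite_subcover
    (fun x : X => ((XFU u (U x) (n x) (s x) : X.Opens) : Set X))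
    (fun x => (XFU u (U x) (n x) (s x)).isOpen) hcov
  have hF₀' : ∀ x : X, ∃ y ∈ F₀, x ∈ XFU u (U y) (n y) (s y) := by
    intro x
    obtain ⟨y, hyF, hxy⟩ := Set.mem_iUnion₂.mp (hF₀ (Set.mem_univ x))
    exact ⟨y, hyF, hxy⟩
  -- condition (iii)
  have h3 : ∀ (x : X) (τ : X.presheaf.obj (op (XFU u (U x) (n x) (s x)))),
      ∃ (m : ℕ) (_ : 0 < m) (s' : 𝒮.presheaf.obj (op (U x)))
        (_ : s' ∈ 𝒮.deg (U x) (hU x) (m * n x)),
        (𝒮L.str.app (op (XFU u (U x) (n x) (s x)))).hom τ *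
          ((u.appLE (U x) (XFU u (U x) (n x) (s x)) (XFU_le u _ _ _)).hom (s x)) ^ m =
          (u.appLE (U x) (XFU u (U x) (n x) (s x)) (XFU_le u _ _ _)).hom s' :=
    fun x τ => iii_of_surjective (u.gradedAt (U x) (hU x) _ (hXT x) (XFU_le u _ _ _)) (hs x)
      (𝒮L.str.app (op _)).hom (𝒮L.str_mem _ (hXT x)) (hsj x) τ
  choose m hm s' hs' he' using h3
  choose G hG using fun x : X => RLPsiColim.exists_finset_gen (𝒮L := 𝒮L) (q := q) (U x) (hU x)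
    (XFU u (U x) (n x) (s x)) (hXT x) (XFU_le u _ _ _)
  -- the common degree
  obtain ⟨N₀, hN₀def⟩ : ∃ N₀ : ℕ, N₀ = ∏ y ∈ F₀, n y := ⟨_, rfl⟩
  obtain ⟨M₀, hM₀def⟩ : ∃ M₀ : ℕ, M₀ = 1 + ∑ y ∈ F₀, ∑ τ ∈ G y, m y τ := ⟨_, rfl⟩
  obtain ⟨N, hNdef⟩ : ∃ N : ℕ, N = N₀ * M₀ := ⟨_, rfl⟩
  have hN₀ : 0 < N₀ := by
    rw [hN₀def]
    exact Finset.prod_pos (fun y _ => hn y)
  have hM₀ : 0 < M₀ := by omega
  have hN : 0 < N := by
    rw [hNdef]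
    exact Nat.mul_pos hN₀ hM₀
  have hdvd : ∀ y ∈ F₀, n y ∣ N₀ := by
    intro y hy
    rw [hN₀def]
    exact Finset.dvd_prod_of_mem n hy
  obtain ⟨k, hkdef⟩ : ∃ k : X → ℕ, k = fun y => N₀ / n y * M₀ := ⟨_, rfl⟩
  have hk : ∀ y ∈ F₀, k y * n y = N := by
    intro y hy
    rw [hkdef, hNdef]
    show N₀ / n y * M₀ * n y = N₀ * M₀
    rw [mul_right_comm, Nat.div_mul_cancel (hdvd y hy)]
  have hdivpos : ∀ y ∈ F₀, 0 < N₀ / n y := fun y hy =>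
    Nat.div_pos (Nat.le_of_dvd hN₀ (hdvd y hy)) (hn y)
  have hkpos : ∀ y ∈ F₀, 0 < k y := by
    intro y hy
    rw [hkdef]
    exact Nat.mul_pos (hdivpos y hy) hM₀
  have hmk : ∀ y ∈ F₀, ∀ τ ∈ G y, m y τ ≤ k y := by
    intro y hy τ hτ
    have h1 : m y τ ≤ ∑ τ ∈ G y, m y τ :=
      Finset.single_le_sum (f := fun τ => m y τ) (fun _ _ => Nat.zero_le _) hτ
    have h2 : ∑ τ ∈ G y, m y τ ≤ ∑ y ∈ F₀, ∑ τ ∈ G y, m y τ :=
      Finset.single_le_sum (f := fun y => ∑ τ ∈ G y, m y τ) (fun _ _ => Nat.zero_le _) hy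
    have h3 : M₀ ≤ k y := by
      rw [hkdef]
      exact Nat.le_mul_of_pos_left _ (hdivpos y hy)
    omega
  -- the new sections, all of degree `N`
  have hσ : ∀ y ∈ F₀, s y ^ k y ∈ 𝒮.deg (U y) (hU y) N := by
    intro y hy
    have h := SetLike.pow_mem_graded (k y) (hs y)
    rw [smul_eq_mul, hk y hy] at h
    exact h
  have ht : ∀ y ∈ F₀, ∀ τ ∈ G y, s' y τ * s y ^ (k y - m y τ) ∈ 𝒮.deg (U y) (hU y) N := by
    intro y hy τ hτ
    have h1 := SetLike.pow_mem_graded (k y - m y τ) (hs y)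
    have h2 := SetLike.GradedMul.mul_mem (hs' y τ) h1
    have hdeg : m y τ * n y + (k y - m y τ) • n y = N := by
      rw [smul_eq_mul, ← add_mul, Nat.add_sub_cancel' (hmk y hy τ hτ), hk y hy]
    rw [hdeg] at h2
    exact h2
  have het : ∀ y ∈ F₀, ∀ τ ∈ G y,
      (𝒮L.str.app (op (XFU u (U y) (n y) (s y)))).hom τ *
        ((u.appLE (U y) (XFU u (U y) (n y) (s y)) (XFU_le u _ _ _)).hom (s y ^ k y)) ^ 1 =
        (u.appLE (U y) (XFU u (U y) (n y) (s y)) (XFU_le u _ _ _)).hom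
          (s' y τ * s y ^ (k y - m y τ)) := by
    intro y hy τ hτ
    rw [pow_one, map_pow, map_mul, map_pow, ← he' y τ]
    have hkm : k y = m y τ + (k y - m y τ) := (Nat.add_sub_cancel' (hmk y hy τ hτ)).symm
    conv_lhs => rw [hkm, pow_add]
    ring
  -- capture them in a finite type submodule of `𝒮`
  let J := (Σ y : {x : X // x ∈ F₀},
    {τ : X.presheaf.obj (op (XFU u (U y.1) (n y.1) (s y.1))) // τ ∈ G y.1}) ⊕ {x : X // x ∈ F₀}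
  haveI : Finite J := inferInstance
  let UU : J → Y.Opens := fun k' => Sum.elim (fun k'' => U k''.1.1) (fun y => U y.1) k'
  have hUU : ∀ k', IsAffineOpen (UU k') := by
    rintro (k' | y)
    · exact hU _
    · exact hU _
  let sec : ∀ k' : J, Γ(𝒮.toQCAlg.toModule, UU k') := fun k' => match k' with
    | Sum.inl k'' => toS 𝒮.toQCAlg _ (s' k''.1.1 k''.2.1 * s k''.1.1 ^ (k k''.1.1 - m k''.1.1 k''.2.1))
    | Sum.inr y => toS 𝒮.toQCAlg _ (s y.1 ^ k y.1)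
  haveI : (𝒮.toQCAlg.toModule).IsQuasicoherent := QCAlgGen.isQuasicoherent_toModule 𝒮.toQCAlg
  obtain ⟨E₀, ι₀, hι₀m, hE₀q, hE₀ft, hcap⟩ :=
    RLSub.exists_sub_capture 𝒮.toQCAlg.toModule UU hUU sec
  haveI := hι₀m
  haveI := hE₀q
  haveI := hE₀ft
  obtain ⟨π, hπ⟩ := GrProj.exists_proj 𝒮 N
  let d : E₀ ⟶ 𝒮.toQCAlg.toModule := ι₀ ≫ π
  haveI hEq : (Abelian.image d : Y.Modules).IsQuasicoherent := QCLim.isQuasicoherent_image d
  let p₀ : E₀ ⟶ Abelian.image d := Abelian.factorThruImage d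
  have hp₀ : p₀ ≫ Abelian.image.ι d = d := Abelian.image.fac d
  haveI : Epi p₀ := inferInstance
  haveI hEft : (Abelian.image d : Y.Modules).IsFiniteType := QCProps.isFiniteType_of_epi p₀
  let jE : (Abelian.image d : Y.Modules) ⟶ 𝒮.toQCAlg.toModule := Abelian.image.ι d
  have hjE_p : ∀ (U₀ : Y.Opens) (e₀ : Γ(E₀, U₀)),
      jE.app U₀ (p₀.app U₀ e₀) = π.app U₀ (ι₀.app U₀ e₀) := by
    intro U₀ e₀
    have := congr($(hp₀).app U₀ e₀)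
    exact this
  have hjn : ∀ (U₀ : Y.Opens) (hU₀ : IsAffineOpen U₀) (e : Γ((Abelian.image d : Y.Modules), U₀)),
      jmap 𝒮.toQCAlg jE U₀ e ∈ 𝒮.deg U₀ hU₀ N := by
    intro U₀ hU₀ e
    obtain ⟨e₀, rfl⟩ := (QCExact.epi_iff_surjective_on_affines p₀).mp inferInstance U₀ hU₀ e
    show ofS 𝒮.toQCAlg U₀ (jE.app U₀ (p₀.app U₀ e₀)) ∈ _
    rw [hjE_p, hπ U₀ hU₀]
    exact SetLike.coe_mem _
  have hcapE : ∀ (k' : J), ofS 𝒮.toQCAlg _ (sec k') ∈ 𝒮.deg (UU k') (hUU k') N →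
      ∃ e : Γ((Abelian.image d : Y.Modules), UU k'),
        jmap 𝒮.toQCAlg jE (UU k') e = ofS 𝒮.toQCAlg _ (sec k') := by
    intro k' hdeg
    obtain ⟨g, hg⟩ := hcap k'
    refine ⟨p₀.app _ g, ?_⟩
    show ofS 𝒮.toQCAlg _ (jE.app _ (p₀.app _ g)) = _
    rw [hjE_p, hπ _ (hUU k'), hg, DirectSum.decompose_of_mem_same _ hdeg]
  have hσE : ∀ (y : {x : X // x ∈ F₀}), ∃ e : Γ((Abelian.image d : Y.Modules), U y.1),
      jmap 𝒮.toQCAlg jE (U y.1) e = s y.1 ^ k y.1 :=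
    fun y => hcapE (Sum.inr y) (hσ y.1 y.2)
  have htE : ∀ (y : {x : X // x ∈ F₀})
      (τ : {τ : X.presheaf.obj (op (XFU u (U y.1) (n y.1) (s y.1))) // τ ∈ G y.1}),
      ∃ e : Γ((Abelian.image d : Y.Modules), U y.1),
        jmap 𝒮.toQCAlg jE (U y.1) e = s' y.1 τ.1 * s y.1 ^ (k y.1 - m y.1 τ.1) :=
    fun y τ => hcapE (Sum.inl ⟨y, τ⟩) (ht y.1 y.2 τ.1 τ.2)
  choose eσ heσ using hσE
  choose et het' using htE
  -- the graded subalgebra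
  have hu'le : ∀ (U₀ : Y.Opens) (V₀ : X.Opens) (hle : V₀ ≤ q ⁻¹ᵁ U₀)
      (τ : (grSub 𝒮 jE hjn).presheaf.obj (op U₀)),
      ((RLSub.precomp u (grIncl 𝒮 jE hjn) (grIncl_graded 𝒮 jE hjn)).appLE U₀ V₀ hle).hom τ =
        (u.appLE U₀ V₀ hle).hom (((grIncl 𝒮 jE hjn).hom.app (op U₀)).hom τ) :=
    fun U₀ V₀ hle τ => RLPsi.appLE_of_comp u
      (RLSub.precomp u (grIncl 𝒮 jE hjn) (grIncl_graded 𝒮 jE hjn)) (grIncl 𝒮 jE hjn)
      (fun _ => rfl) U₀ V₀ hle τ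
  have hσ'val : ∀ y : {x : X // x ∈ F₀},
      ((grIncl 𝒮 jE hjn).hom.app (op (U y.1))).hom (el 𝒮 jE hjn (U y.1) (eσ y)) =
        s y.1 ^ k y.1 := fun y => heσ y
  have ht'val : ∀ (y : {x : X // x ∈ F₀})
      (τ : {τ : X.presheaf.obj (op (XFU u (U y.1) (n y.1) (s y.1))) // τ ∈ G y.1}),
      ((grIncl 𝒮 jE hjn).hom.app (op (U y.1))).hom (el 𝒮 jE hjn (U y.1) (et y τ)) =
        s' y.1 τ.1 * s y.1 ^ (k y.1 - m y.1 τ.1) := fun y τ => het' y τ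
  have hXeq : ∀ y ∈ F₀, XFU u (U y) N (s y ^ k y) = XFU u (U y) (n y) (s y) := fun y hy =>
    XFU_pow hL hLq hjL hPL u hP r hr (U y) (hU y) (hn y) (s y) (hs y) (hkpos y hy) (hk y hy)
  refine ⟨N, hN, grSub 𝒮 jE hjn, grIncl 𝒮 jE hjn, grIncl_graded 𝒮 jE hjn,
    fun U₀ _ => grIncl_injective 𝒮 jE hjn U₀,
    fun U₀ hU₀ => deg_zero_eq 𝒮 jE hjn hN hU₀, fun U₀ hU₀ => closure_eq_top 𝒮 jE hjn hU₀,
    isFTDeg 𝒮 jE hjn hN, RLSub.precomp u (grIncl 𝒮 jE hjn) (grIncl_graded 𝒮 jE hjn),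
    fun _ => rfl, fun x => ?_, fun P' p' chart' hP' r' hr' => ?_⟩
  · obtain ⟨y, hyF, hxy⟩ := hF₀' x
    rw [← hXeq y hyF] at hxy
    obtain ⟨⟨⟨V, hV⟩, hle, hspan⟩, hxV⟩ := Opens.mem_iSup.mp hxy
    refine ⟨U y, hU y, el 𝒮 jE hjn (U y) (eσ ⟨y, hyF⟩), el_mem 𝒮 jE hjn (hU y) _, V, hV, hle,
      hxV, ?_⟩
    rw [hu'le, hσ'val ⟨y, hyF⟩]
    exact hspan
  · refine isImmersion_of_family
      (RLSub.precomp u (grIncl 𝒮 jE hjn) (grIncl_graded 𝒮 jE hjn)) r' hL hLq hjL hP' hPL hr'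
      (fun a : {x : X // x ∈ F₀} => U a.1) (fun a => hU a.1) (fun _ => N)
      (fun a => el 𝒮 jE hjn (U a.1) (eσ a))
      (fun a => XFU u (U a.1) (n a.1) (s a.1))
      (fun a => ⟨hN, el_mem 𝒮 jE hjn (hU a.1) _⟩) ?_ ?_ (fun a => hXT a.1)
      (fun a => XFU_le u _ _ _) ?_
    · intro a
      rw [← hXeq a.1 a.2]
      refine XFU_congr u _ (U a.1) N (s a.1 ^ k a.1) _ (fun V hle => ?_)
      rw [hu'le, hσ'val a]
    · rw [eq_top_iff]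
      intro x _
      obtain ⟨y, hyF, hxy⟩ := hF₀' x
      exact Opens.mem_iSup.mpr ⟨⟨y, hyF⟩, hxy⟩
    · intro a
      refine hG a.1 (grSub 𝒮 jE hjn)
        (RLSub.precomp u (grIncl 𝒮 jE hjn) (grIncl_graded 𝒮 jE hjn)) N
        (el 𝒮 jE hjn (U a.1) (eσ a)) (el_mem 𝒮 jE hjn (hU a.1) _) ?_
      intro τ hτ
      refine ⟨1, one_pos, el 𝒮 jE hjn (U a.1) (et a ⟨τ, hτ⟩), ?_, ?_⟩
      · rw [one_mul]
        exact el_mem 𝒮 jE hjn (hU a.1) _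
      · rw [hu'le, hu'le, hσ'val a, ht'val a ⟨τ, hτ⟩]
        exact het a.1 a.2 τ hτ

end core

end Groth.Agent.Lib.Helper3.RLSubAlg
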