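import Groth.Agent.Lib.Helper3.ReesSheaf
import Groth.Agent.Lib.Helper17.BlowUpLocal
import Groth.Agent.Lib.Helper17.AmbProd

/-!
# The relative Proj of the Rees algebra of an ideal sheaf is the blow-up
-/

set_option autoImplicit false
set_option linter.unusedSectionVars false
universe u
open CategoryTheory CategoryTheory.Limits AlgebraicGeometry TopologicalSpace Opposite
open Polynomial

namespace Groth.Agent.Lib.Helper3.ReesBlow

open ReesSheaf ReesLoc GrTransport Groth.Agent.Lib.Helper17.ReesAlg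
  Groth.Agent.Lib.Helper17.ProjRees Groth.Agent.Lib.Helper17.BlowUpGlue
  Groth.Agent.Lib.Helper17.BlowUpLocal

/-- blow-ups are stable under isomorphisms of the source -/
theorem isBlowUp_iso_comp {T T' T'' : Scheme.{u}} (φ : T'' ≅ T') (J : T.IdealSheafData)
    (b : T' ⟶ T) (hb : BlowUp.IsBlowUp b J) : BlowUp.IsBlowUp (φ.hom ≫ b) J := by
  refine ⟨?_, fun Y g hg => ?_⟩
  · rw [Scheme.IdealSheafData.comap_comp]
    exact Groth.Agent.Lib.Helper17.AmbProd.isEffCartierIdeal_comap_of_flat φ.hom _ hb.1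
  · obtain ⟨h, hh, hu⟩ := hb.2 Y g hg
    have hh' : h ≫ b = g := hh
    refine ⟨h ≫ φ.inv, ?_, fun h' hh2 => ?_⟩
    · change (h ≫ φ.inv) ≫ φ.hom ≫ b = g
      rw [Category.assoc, Iso.inv_hom_id_assoc, hh']
    · have hh2' : h' ≫ φ.hom ≫ b = g := hh2
      have := hu (h' ≫ φ.hom) (by change (h' ≫ φ.hom) ≫ b = g; rw [Category.assoc, hh2'])
      rw [← this, Category.assoc, Iso.hom_inv_id, Category.comp_id]

/-- two blow-ups of the same ideal are isomorphic over the base -/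
theorem exists_iso_of_isBlowUp {X X' P : Scheme.{u}} (𝓘 : X.IdealSheafData) (b : X' ⟶ X)
    (p : P ⟶ X) (hb : BlowUp.IsBlowUp b 𝓘) (hp : BlowUp.IsBlowUp p 𝓘) :
    ∃ e : X' ≅ P, e.hom ≫ p = b := by
  obtain ⟨h1, hh1, -⟩ := hp.2 X' b hb.1
  obtain ⟨h2, hh2, -⟩ := hb.2 P p hp.1
  have hh1' : h1 ≫ p = b := hh1
  have hh2' : h2 ≫ b = p := hh2
  refine ⟨⟨h1, h2, ?_, ?_⟩, hh1'⟩
  · refine lift_unique hb (h1 ≫ h2) (𝟙 X') ?_ ?_
    · rw [Category.assoc, hh2', hh1', Category.id_comp]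
    · rw [Category.assoc, hh2', hh1']
      exact hb.1
  · refine lift_unique hp (h2 ≫ h1) (𝟙 P) ?_ ?_
    · rw [Category.assoc, hh1', hh2', Category.id_comp]
    · rw [Category.assoc, hh1', hh2']
      exact hp.1

theorem fromSpec_appLE_top {X : Scheme.{u}} {U : X.Opens} (hU : IsAffineOpen U)
    (h : (⊤ : (Spec Γ(X, U)).Opens) ≤ hU.fromSpec ⁻¹ᵁ U) :
    hU.fromSpec.appLE U ⊤ h = (Scheme.ΓSpecIso Γ(X, U)).inv := by
  rw [Scheme.Hom.appLE, hU.fromSpec_app_self, Category.assoc, ← Functor.map_comp]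
  have : (eqToHom hU.fromSpec_preimage_self).op ≫ (homOfLE h).op = 𝟙 _ := Subsingleton.elim _ _
  rw [this, CategoryTheory.Functor.map_id, Category.comp_id]

theorem comap_fromSpec {X : Scheme.{u}} (𝓘 : X.IdealSheafData) {U : X.Opens}
    (hU : IsAffineOpen U) :
    𝓘.comap hU.fromSpec =
      Scheme.IdealSheafData.ofIdealTop
        ((𝓘.ideal ⟨U, hU⟩).map (Scheme.ΓSpecIso Γ(X, U)).inv.hom) := by
  apply Scheme.IdealSheafData.ext_of_isAffine
  rw [Groth.Agent.Lib.Helper28.ideal_comap_of_le 𝓘 hU.fromSpec ⟨U, hU⟩ ⟨⊤, isAffineOpen_top _⟩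
    (by rw [hU.fromSpec_preimage_self]), ofIdealTop_ideal_top, fromSpec_appLE_top]

variable {X : Scheme.{u}} (𝓘 : X.IdealSheafData) {P : Scheme.{u}} (p : P ⟶ X)
  (chart : ∀ (U : X.Opens) (hU : IsAffineOpen U),
    (((p ⁻¹ᵁ U : P.Opens) : Scheme.{u}) ≅ Proj ((reesQC 𝓘).deg U hU)))

/-- the comparison isomorphism of `Proj`s over an affine open -/
noncomputable def gIso (U : X.Opens) (hU : IsAffineOpen U) :
    Proj ((reesQC 𝓘).deg U hU) ≅ Proj (Rees.deg (reesAlgebra (𝓘.ideal ⟨U, hU⟩))) :=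
  projIso (epsU 𝓘 ⟨U, hU⟩) (fun d a => mem_deg_iff 𝓘 ⟨U, hU⟩ d a)

theorem gIso_hom_bl (U : X.Opens) (hU : IsAffineOpen U) :
    (gIso 𝓘 U hU).hom ≫ bl Γ(X, U) (𝓘.ideal ⟨U, hU⟩) =
      Proj.toSpecZero ((reesQC 𝓘).deg U hU) ≫ Spec.map ((reesQC 𝓘).strZero U hU) := by
  rw [bl_eq, gIso, projIso_hom, map_toSpecZero_assoc, ← Spec.map_comp]
  congr 2
  refine CommRingCat.hom_ext (RingHom.ext fun r => ?_)
  apply Subtype.ext
  exact epsU_symm_algebraMap 𝓘 ⟨U, hU⟩ r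

variable (hP : RelProj.IsRelProj (reesQC 𝓘) p chart)

include hP in
theorem chart_gIso_bl (U : X.Opens) (hU : IsAffineOpen U) :
    (chart U hU).hom ≫ (gIso 𝓘 U hU).hom ≫ bl Γ(X, U) (𝓘.ideal ⟨U, hU⟩) ≫ hU.fromSpec =
      (p ⁻¹ᵁ U).ι ≫ p := by
  rw [← hP.chart_over U hU, ← Category.assoc (gIso 𝓘 U hU).hom, gIso_hom_bl, Category.assoc]

include hP in
theorem isBlowUp_restrict (U : X.Opens) (hU : IsAffineOpen U) :
    BlowUp.IsBlowUp (pullback.snd p U.ι) (𝓘.comap U.ι) := by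
  have h0 := isBlowUp_proj_reesAlgebra Γ(X, U) (𝓘.ideal ⟨U, hU⟩)
  let φ : pullback p U.ι ≅ Proj (Rees.deg (reesAlgebra (𝓘.ideal ⟨U, hU⟩))) :=
    pullbackRestrictIsoRestrict p U ≪≫ chart U hU ≪≫ gIso 𝓘 U hU
  have h1 := isBlowUp_iso_comp φ _ _ h0
  have h2 := isBlowUp_comp_iso_inv hU.isoSpec _ _ h1
  have eq1 : (φ.hom ≫ bl Γ(X, U) (𝓘.ideal ⟨U, hU⟩)) ≫ hU.isoSpec.inv = pullback.snd p U.ι := by
    rw [← cancel_mono U.ι, Category.assoc, Category.assoc, hU.isoSpec_inv_ι]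
    change ((pullbackRestrictIsoRestrict p U).hom ≫ (chart U hU).hom ≫ (gIso 𝓘 U hU).hom) ≫
      bl Γ(X, U) (𝓘.ideal ⟨U, hU⟩) ≫ hU.fromSpec = _
    rw [Category.assoc, Category.assoc, chart_gIso_bl 𝓘 p chart hP U hU,
      pullbackRestrictIsoRestrict_hom_ι_assoc, pullback.condition]
  have eq2 : (idl Γ(X, U) (𝓘.ideal ⟨U, hU⟩)).comap hU.isoSpec.hom = 𝓘.comap U.ι := by
    have := comap_fromSpec 𝓘 hU
    change _ = idl Γ(X, U) (𝓘.ideal ⟨U, hU⟩) at this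
    rw [← this, ← Scheme.IdealSheafData.comap_comp, hU.isoSpec_hom_fromSpec]
  rw [eq1] at h2
  rw [← eq2]
  exact h2

include hP in
/-- the relative `Proj` of the Rees algebra is a blow-up -/
theorem isBlowUp_relProj : BlowUp.IsBlowUp p 𝓘 := by
  refine isBlowUp_of_openCover p 𝓘
    (X.openCoverOfIsOpenCover (fun i : X.affineOpens => (i : X.Opens))
      (iSup_affineOpens_eq_top X)) (fun i => ?_)
  exact isBlowUp_restrict 𝓘 p chart hP i.1 i.2

end Groth.Agent.Lib.Helper3.ReesBlow
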