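import Mathlib
import Groth.Prelude.Def_Rees
import Groth.Agent.Lib.Helper17.ReesAlg

/-!
# Functoriality and localization of Rees algebras
-/

set_option autoImplicit false
universe u
open Polynomial

namespace Groth.Agent.Lib.Helper3.ReesLoc

open Groth.Agent.Lib.Helper17.ReesAlg

variable {A B D : Type u} [CommRing A] [CommRing B] [CommRing D]

theorem map_mem (ρ : A →+* B) (I : Ideal A) (J : Ideal B) (h : I.map ρ ≤ J) (p : A[X])
    (hp : p ∈ reesAlgebra I) : p.map ρ ∈ reesAlgebra J := by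
  rw [mem_reesAlgebra_iff] at hp ⊢
  intro i
  rw [Polynomial.coeff_map]
  have h1 : ρ (p.coeff i) ∈ (I ^ i).map ρ := Ideal.mem_map_of_mem ρ (hp i)
  rw [Ideal.map_pow] at h1
  exact Ideal.pow_right_mono h i h1

/-- the map of Rees algebras induced by a ring homomorphism -/
noncomputable def reesMap (ρ : A →+* B) (I : Ideal A) (J : Ideal B) (h : I.map ρ ≤ J) :
    reesAlgebra I →+* reesAlgebra J where
  toFun p := ⟨(p : A[X]).map ρ, map_mem ρ I J h p p.2⟩
  map_one' := Subtype.ext (by
    change Polynomial.map ρ ((1 : reesAlgebra I) : A[X]) = ((1 : reesAlgebra J) : B[X])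
    rw [Subalgebra.coe_one, Subalgebra.coe_one, Polynomial.map_one])
  map_mul' p q := Subtype.ext (by
    change Polynomial.map ρ ((p * q : reesAlgebra I) : A[X]) =
      ((⟨(p : A[X]).map ρ, map_mem ρ I J h p p.2⟩ * ⟨(q : A[X]).map ρ, map_mem ρ I J h q q.2⟩ :
        reesAlgebra J) : B[X])
    rw [Subalgebra.coe_mul, Subalgebra.coe_mul, Polynomial.map_mul])
  map_zero' := Subtype.ext (by
    change Polynomial.map ρ ((0 : reesAlgebra I) : A[X]) = ((0 : reesAlgebra J) : B[X])
    rw [Subalgebra.coe_zero, Subalgebra.coe_zero, Polynomial.map_zero])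
  map_add' p q := Subtype.ext (by
    change Polynomial.map ρ ((p + q : reesAlgebra I) : A[X]) =
      ((⟨(p : A[X]).map ρ, map_mem ρ I J h p p.2⟩ + ⟨(q : A[X]).map ρ, map_mem ρ I J h q q.2⟩ :
        reesAlgebra J) : B[X])
    rw [Subalgebra.coe_add, Subalgebra.coe_add, Polynomial.map_add])

theorem coe_reesMap (ρ : A →+* B) (I : Ideal A) (J : Ideal B) (h : I.map ρ ≤ J)
    (p : reesAlgebra I) : ((reesMap ρ I J h p : reesAlgebra J) : B[X]) = (p : A[X]).map ρ := rfl

theorem reesMap_algebraMap (ρ : A →+* B) (I : Ideal A) (J : Ideal B) (h : I.map ρ ≤ J) (r : A) :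
    reesMap ρ I J h (algebraMap A (reesAlgebra I) r) = algebraMap B (reesAlgebra J) (ρ r) := by
  apply Subtype.ext
  rw [coe_reesMap, Subalgebra.coe_algebraMap, Subalgebra.coe_algebraMap,
    Polynomial.algebraMap_apply, Polynomial.algebraMap_apply, Algebra.algebraMap_self_apply,
    Algebra.algebraMap_self_apply, Polynomial.map_C]

theorem reesMap_mon (ρ : A →+* B) (I : Ideal A) (J : Ideal B) (h : I.map ρ ≤ J) (n : ℕ) (c : A)
    (hc : c ∈ I ^ n) (hc' : ρ c ∈ J ^ n) :
    reesMap ρ I J h (mon I n c hc) = mon J n (ρ c) hc' := by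
  apply Subtype.ext
  rw [coe_reesMap, coe_mon, coe_mon, Polynomial.map_monomial]

theorem reesMap_id (I : Ideal A) (h : I.map (RingHom.id A) ≤ I) (p : reesAlgebra I) :
    reesMap (RingHom.id A) I I h p = p := by
  apply Subtype.ext
  rw [coe_reesMap, Polynomial.map_id]

theorem reesMap_eq_self (ρ : A →+* A) (hρ : ∀ a, ρ a = a) (I : Ideal A) (h : I.map ρ ≤ I)
    (p : reesAlgebra I) : reesMap ρ I I h p = p := by
  have : ρ = RingHom.id A := RingHom.ext hρ
  subst this
  exact reesMap_id I h p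

theorem reesMap_comp (ρ : A →+* B) (σ : B →+* D) (τ : A →+* D) (hτ : ∀ a, τ a = σ (ρ a))
    (I : Ideal A) (J : Ideal B) (K : Ideal D)
    (h1 : I.map ρ ≤ J) (h2 : J.map σ ≤ K) (h3 : I.map τ ≤ K) (p : reesAlgebra I) :
    reesMap τ I K h3 p = reesMap σ J K h2 (reesMap ρ I J h1 p) := by
  have : τ = σ.comp ρ := RingHom.ext hτ
  subst this
  apply Subtype.ext
  rw [coe_reesMap, coe_reesMap, coe_reesMap, Polynomial.map_map]

theorem reesMap_mem_deg (ρ : A →+* B) (I : Ideal A) (J : Ideal B) (h : I.map ρ ≤ J) (n : ℕ)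
    (p : reesAlgebra I) (hp : p ∈ Rees.deg (reesAlgebra I) n) :
    reesMap ρ I J h p ∈ Rees.deg (reesAlgebra J) n := by
  rw [Rees.mem_deg_iff] at hp ⊢
  intro m hm
  rw [coe_reesMap, Polynomial.coeff_map, hp m hm, map_zero]

section Loc

variable (ρ : A →+* B) (I : Ideal A) (s : A)

theorem exists_mul_pow_eq_map (hB : letI := ρ.toAlgebra; IsLocalization.Away s B)
    (q : B[X]) (hq : q ∈ reesAlgebra (I.map ρ)) :
    ∃ (K : ℕ) (p : A[X]), p ∈ reesAlgebra I ∧ q * C (ρ s) ^ K = p.map ρ := by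
  letI : Algebra A B := ρ.toAlgebra
  haveI : IsLocalization.Away s B := hB
  have hsum : q = ∑ i ∈ q.support, monomial i (q.coeff i) := q.as_sum_support
  rw [hsum]
  refine Finset.sum_induction _
    (fun q' : B[X] => ∃ (K : ℕ) (p : A[X]), p ∈ reesAlgebra I ∧ q' * C (ρ s) ^ K = p.map ρ)
    ?_ ?_ ?_
  · rintro a b ⟨K1, p1, hp1, e1⟩ ⟨K2, p2, hp2, e2⟩
    have hCs : ∀ k : ℕ, (C s : A[X]) ^ k ∈ reesAlgebra I := fun k =>
      pow_mem (by
        have := (reesAlgebra I).algebraMap_mem s
        rwa [Polynomial.algebraMap_apply, Algebra.algebraMap_self_apply] at this) k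
    refine ⟨K1 + K2, p1 * C s ^ K2 + p2 * C s ^ K1,
      add_mem (mul_mem hp1 (hCs K2)) (mul_mem hp2 (hCs K1)), ?_⟩
    rw [Polynomial.map_add, Polynomial.map_mul, Polynomial.map_mul, Polynomial.map_pow,
      Polynomial.map_pow, Polynomial.map_C, ← e1, ← e2, pow_add]
    ring
  · exact ⟨0, 0, zero_mem _, by rw [zero_mul, Polynomial.map_zero]⟩
  · intro i _
    have hqi : q.coeff i ∈ (I ^ i).map (algebraMap A B) := by
      have := hq i
      rwa [← Ideal.map_pow] at this
    obtain ⟨⟨⟨c, hc⟩, ⟨_, k, rfl⟩⟩, hck⟩ :=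
      (IsLocalization.mem_map_algebraMap_iff (Submonoid.powers s) B).mp hqi
    have hck' : q.coeff i * ρ s ^ k = ρ c := by
      have := hck
      simp only [map_pow] at this
      exact this
    refine ⟨k, monomial i c, reesAlgebra.monomial_mem.mpr hc, ?_⟩
    rw [Polynomial.map_monomial, ← hck', ← C_pow, Polynomial.monomial_mul_C]

theorem exists_pow_mul_eq_zero (hB : letI := ρ.toAlgebra; IsLocalization.Away s B)
    (d : A[X]) (hd : d.map ρ = 0) : ∃ K : ℕ, C (s ^ K) * d = 0 := by
  classical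
  letI : Algebra A B := ρ.toAlgebra
  haveI : IsLocalization.Away s B := hB
  have h1 : ∀ i : ℕ, ∃ k : ℕ, s ^ k * d.coeff i = 0 := by
    intro i
    have h2 : algebraMap A B (d.coeff i) = 0 := by
      have := congrArg (fun q : B[X] => q.coeff i) hd
      change ρ (d.coeff i) = 0
      simpa only [Polynomial.coeff_map, Polynomial.coeff_zero] using this
    obtain ⟨⟨_, k, rfl⟩, hk⟩ := (IsLocalization.map_eq_zero_iff (Submonoid.powers s) B _).mp h2
    exact ⟨k, hk⟩
  choose k hk using h1
  refine ⟨d.support.sup k, ?_⟩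
  ext i
  rw [Polynomial.coeff_C_mul, Polynomial.coeff_zero]
  by_cases hi : i ∈ d.support
  · have hle : k i ≤ d.support.sup k := Finset.le_sup hi
    obtain ⟨m, hm⟩ := Nat.exists_eq_add_of_le hle
    rw [hm, pow_add, mul_comm (s ^ k i), mul_assoc, hk i, mul_zero]
  · rw [Polynomial.notMem_support_iff.mp hi, mul_zero]

theorem isLocalization_reesMap (hB : letI := ρ.toAlgebra; IsLocalization.Away s B)
    (J : Ideal B) (hJ : I.map ρ = J) :
    letI := (reesMap ρ I J hJ.le).toAlgebra
    IsLocalization.Away (algebraMap A (reesAlgebra I) s) (reesAlgebra J) := by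
  subst hJ
  letI : Algebra A B := ρ.toAlgebra
  haveI : IsLocalization.Away s B := hB
  letI : Algebra (reesAlgebra I) (reesAlgebra (I.map ρ)) := (reesMap ρ I _ le_rfl).toAlgebra
  have hu : IsUnit (algebraMap B (reesAlgebra (I.map ρ)) (ρ s)) :=
    (IsLocalization.Away.algebraMap_isUnit (S := B) s).map (algebraMap B (reesAlgebra (I.map ρ)))
  refine (isLocalization_iff _ _).mpr ⟨?_, ?_, ?_⟩
  · rintro ⟨_, n, rfl⟩
    change IsUnit (reesMap ρ I _ le_rfl (algebraMap A (reesAlgebra I) s ^ n))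
    rw [map_pow, reesMap_algebraMap]
    exact hu.pow n
  · intro z
    obtain ⟨K, p, hp, e⟩ := exists_mul_pow_eq_map ρ I s hB z.1 z.2
    refine ⟨(⟨p, hp⟩, ⟨algebraMap A (reesAlgebra I) s ^ K, K, rfl⟩), ?_⟩
    change z * reesMap ρ I _ le_rfl (algebraMap A (reesAlgebra I) s ^ K) =
      reesMap ρ I _ le_rfl ⟨p, hp⟩
    apply Subtype.ext
    rw [Subalgebra.coe_mul, coe_reesMap, coe_reesMap, Subalgebra.coe_pow,
      Subalgebra.coe_algebraMap, Polynomial.algebraMap_apply, Algebra.algebraMap_self_apply,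
      Polynomial.map_pow, Polynomial.map_C]
    exact e
  · intro x y hxy
    have hxy' : reesMap ρ I _ le_rfl x = reesMap ρ I _ le_rfl y := hxy
    have hd : ((x : A[X]) - (y : A[X])).map ρ = 0 := by
      rw [Polynomial.map_sub, ← coe_reesMap ρ I _ le_rfl x, ← coe_reesMap ρ I _ le_rfl y, hxy',
        sub_self]
    obtain ⟨K, hK⟩ := exists_pow_mul_eq_zero ρ s hB _ hd
    refine ⟨⟨algebraMap A (reesAlgebra I) s ^ K, K, rfl⟩, ?_⟩
    apply Subtype.ext
    change ((algebraMap A (reesAlgebra I) s ^ K * x : reesAlgebra I) : A[X]) =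
      ((algebraMap A (reesAlgebra I) s ^ K * y : reesAlgebra I) : A[X])
    rw [Subalgebra.coe_mul, Subalgebra.coe_mul, Subalgebra.coe_pow, Subalgebra.coe_algebraMap,
      Polynomial.algebraMap_apply, Algebra.algebraMap_self_apply, ← C_pow]
    rw [mul_sub] at hK
    exact sub_eq_zero.mp hK

end Loc

section Gen

variable (I : Ideal A)

/-- the Rees algebra is generated by its parts of degree `0` and `1` -/
theorem closure_eq_top :
    Subring.closure (((Rees.deg (reesAlgebra I) 0 : Submodule A (reesAlgebra I)) :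
        Set (reesAlgebra I)) ∪
      ((Rees.deg (reesAlgebra I) 1 : Submodule A (reesAlgebra I)) : Set (reesAlgebra I))) = ⊤ := by
  classical
  set T := Subring.closure (((Rees.deg (reesAlgebra I) 0 : Submodule A (reesAlgebra I)) :
        Set (reesAlgebra I)) ∪
      ((Rees.deg (reesAlgebra I) 1 : Submodule A (reesAlgebra I)) : Set (reesAlgebra I))) with hT
  have hmon : ∀ (n : ℕ) (c : A) (hc : c ∈ I ^ n), mon I n c hc ∈ T := by
    intro n c hc
    induction hc using Submodule.pow_induction_on_left' with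
    | algebraMap r =>
      exact Subring.subset_closure (Or.inl (mon_mem I 0 _ _))
    | add x y i hx hy ihx ihy =>
      have : mon I i (x + y) (add_mem hx hy) = mon I i x hx + mon I i y hy := by
        apply Subtype.ext
        rw [Subalgebra.coe_add, coe_mon, coe_mon, coe_mon, map_add]
      rw [this]
      exact add_mem ihx ihy
    | mem_mul m hm i x hx ih =>
      have hm1 : m ∈ I ^ 1 := by rw [pow_one]; exact hm
      have h1 : mon I 1 m hm1 ∈ T := Subring.subset_closure (Or.inr (mon_mem I 1 _ _))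
      have := mul_mem h1 ih
      rw [mon_mul] at this
      convert this using 1
      apply Subtype.ext
      rw [coe_mon, coe_mon, add_comm]
  rw [eq_top_iff]
  intro x _
  have hx : x = ∑ i ∈ (x : A[X]).support, mon I i ((x : A[X]).coeff i) (x.2 i) := by
    apply Subtype.ext
    rw [AddSubmonoidClass.coe_finsetSum]
    simp only [coe_mon]
    exact (x : A[X]).as_sum_support
  rw [hx]
  exact sum_mem fun i _ => hmon i _ _

/-- the degree one part is finitely generated when `I` is -/
theorem exists_finset_deg_one (hI : I.FG) :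
    ∃ T : Finset (reesAlgebra I),
      (↑T : Set (reesAlgebra I)) ⊆ (Rees.deg (reesAlgebra I) 1 : Submodule A (reesAlgebra I)) ∧
      ∀ x ∈ Rees.deg (reesAlgebra I) 1, ∃ c : reesAlgebra I → A,
        x = ∑ t ∈ T, algebraMap A (reesAlgebra I) (c t) * t := by
  classical
  obtain ⟨G, hG⟩ := hI
  have hGI : ∀ g ∈ G, g ∈ I ^ 1 := fun g hg => by
    rw [pow_one, ← hG]
    exact Submodule.subset_span hg
  let f : A → reesAlgebra I := fun g =>
    if hg : g ∈ I ^ 1 then mon I 1 g hg else 0
  have hf : ∀ g (hg : g ∈ I ^ 1), f g = mon I 1 g hg := fun g hg => dif_pos hg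
  refine ⟨G.image f, ?_, ?_⟩
  · intro t ht
    rw [Finset.coe_image] at ht
    obtain ⟨g, hg, rfl⟩ := ht
    rw [hf g (hGI g hg)]
    exact mon_mem I 1 _ _
  · intro x hx
    obtain ⟨a, ha, rfl⟩ := exists_mon_of_mem_deg I 1 x hx
    have ha'' : a ∈ Ideal.span (G : Set A) := by
      rw [hG, ← pow_one I]
      exact ha
    have ha' : a ∈ Submodule.span A (G : Set A) := ha''
    obtain ⟨r, -, hr⟩ := Submodule.mem_span_finset.mp ha'
    refine ⟨fun t => r ((t : A[X]).coeff 1), ?_⟩
    have hinj : ∀ g ∈ G, ∀ g' ∈ G, f g = f g' → g = g' := by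
      intro g hg g' hg' h
      rw [hf g (hGI g hg), hf g' (hGI g' hg')] at h
      have h2 := congrArg (fun t : reesAlgebra I => (t : A[X]).coeff 1) h
      simpa only [coe_mon, Polynomial.coeff_monomial, if_true] using h2
    rw [Finset.sum_image hinj]
    apply Subtype.ext
    rw [AddSubmonoidClass.coe_finsetSum, coe_mon, ← hr, map_sum]
    refine Finset.sum_congr rfl fun g hg => ?_
    rw [hf g (hGI g hg), Subalgebra.coe_mul, Subalgebra.coe_algebraMap, coe_mon,
      Polynomial.algebraMap_apply, Algebra.algebraMap_self_apply]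
    dsimp only
    rw [coe_mon, Polynomial.coeff_monomial, if_pos rfl, Polynomial.C_mul_monomial, smul_eq_mul]

end Gen

end Groth.Agent.Lib.Helper3.ReesLoc
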