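import Groth.Agent.Lib.Helper3.ReesLoc
import Groth.Agent.Lib.Helper3.AffGr
import Groth.Agent.Lib.Helper3.QCSec
import Groth.Prelude.Def_BlowUp2

/-!
# The Rees algebra of a quasi-coherent ideal sheaf, as a quasi-coherent graded algebra
-/

set_option autoImplicit false
set_option linter.unusedSectionVars false
universe u
open CategoryTheory CategoryTheory.Limits AlgebraicGeometry TopologicalSpace Opposite
open AlgebraicGeometry.Scheme AlgebraicGeometry.Scheme.AffineZariskiSite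
open Polynomial

namespace Groth.Agent.Lib.Helper3.ReesSheaf

open QCSec AffGr ReesLoc Groth.Agent.Lib.Helper17.ReesAlg

variable {X : Scheme.{u}} (𝓘 : X.IdealSheafData)

/-- the ideal over an affine open -/
abbrev Id (U : X.AffineZariskiSite) : Ideal Γ(X, U.1) := 𝓘.ideal ⟨U.1, U.2⟩

/-- restriction of functions on the base -/
noncomputable abbrev θ {U V : X.AffineZariskiSite} (j : V ⟶ U) : Γ(X, U.1) →+* Γ(X, V.1) :=
  (X.presheaf.map (homOfLE (toOpens_mono j.le)).op).hom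

theorem map_Id {U V : X.AffineZariskiSite} (j : V ⟶ U) : (Id 𝓘 U).map (θ j) = Id 𝓘 V :=
  𝓘.map_ideal (U := ⟨V.1, V.2⟩) (V := ⟨U.1, U.2⟩) (toOpens_mono j.le)

/-- the transition maps -/
noncomputable def tUV {U V : X.AffineZariskiSite} (j : V ⟶ U) :
    reesAlgebra (Id 𝓘 U) →+* reesAlgebra (Id 𝓘 V) :=
  reesMap (θ j) (Id 𝓘 U) (Id 𝓘 V) (map_Id 𝓘 j).le

/-- the Rees functor on the affine site -/
noncomputable def F : X.AffineZariskiSiteᵒᵖ ⥤ CommRingCat.{u} where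
  obj U := CommRingCat.of (reesAlgebra (Id 𝓘 U.unop))
  map {U V} j := CommRingCat.ofHom (tUV 𝓘 j.unop)
  map_id U := by
    refine CommRingCat.hom_ext ?_
    change tUV 𝓘 (𝟙 U.unop) = RingHom.id _
    exact RingHom.ext fun p => reesMap_eq_self _ (fun r => rres_self _ r) _ _ p
  map_comp {U V W} j k := by
    refine CommRingCat.hom_ext ?_
    change tUV 𝓘 (k.unop ≫ j.unop) = (tUV 𝓘 k.unop).comp (tUV 𝓘 j.unop)
    exact RingHom.ext fun p =>
      reesMap_comp (θ j.unop) (θ k.unop) (θ (k.unop ≫ j.unop)) (fun r => (rres_rres _ _ r).symm)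
        (Id 𝓘 U.unop) (Id 𝓘 V.unop) (Id 𝓘 W.unop) (map_Id 𝓘 j.unop).le (map_Id 𝓘 k.unop).le
        (map_Id 𝓘 (k.unop ≫ j.unop)).le p

/-- the structure map -/
noncomputable def α : (toOpensFunctor X).op ⋙ X.presheaf ⟶ F 𝓘 where
  app U := CommRingCat.ofHom (algebraMap Γ(X, U.unop.1) (reesAlgebra (Id 𝓘 U.unop)))
  naturality U V j := by
    refine CommRingCat.hom_ext (RingHom.ext fun c => ?_)
    exact (reesMap_algebraMap (θ j.unop) (Id 𝓘 U.unop) (Id 𝓘 V.unop) (map_Id 𝓘 j.unop).le c).symm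

theorem α_app (U : X.AffineZariskiSite) (c : Γ(X, U.1)) :
    ((α 𝓘).app (op U)).hom c = algebraMap Γ(X, U.1) (reesAlgebra (Id 𝓘 U)) c := rfl

theorem F_map {U V : X.AffineZariskiSite} (j : V ⟶ U) (x : reesAlgebra (Id 𝓘 U)) :
    ((F 𝓘).map j.op).hom x = tUV 𝓘 j x := rfl

theorem isLocalization_away (U : X.AffineZariskiSite) (s : Γ(X, U.1)) :
    letI := ((F 𝓘).map (homOfLE (U.basicOpen_le s)).op).hom.toAlgebra
    IsLocalization.Away ((α 𝓘).app (op U) s) ((F 𝓘).obj (op (U.basicOpen s))) := by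
  have hloc : letI := (θ (homOfLE (U.basicOpen_le s))).toAlgebra
      IsLocalization.Away s Γ(X, (U.basicOpen s).1) :=
    U.2.isLocalization_of_eq_basicOpen s (homOfLE (toOpens_mono (U.basicOpen_le s))) rfl
  exact isLocalization_reesMap (θ (homOfLE (U.basicOpen_le s))) (Id 𝓘 U) s hloc _
    (map_Id 𝓘 _)

theorem coequifibered : (α 𝓘).Coequifibered :=
  coequifibered_iff_forall_isLocalizationAway.mpr (fun U s => isLocalization_away 𝓘 U s)

/-- the grading, as additive subgroups -/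
noncomputable def 𝒢 (U : X.AffineZariskiSite) (d : ℕ) : AddSubgroup ((F 𝓘).obj (op U)) :=
  GrTransport.tr (RingEquiv.refl (reesAlgebra (Id 𝓘 U))) (Rees.deg (reesAlgebra (Id 𝓘 U))) d

noncomputable instance (U : X.AffineZariskiSite) : GradedRing (𝒢 𝓘 U) :=
  GrTransport.gradedRing (RingEquiv.refl (reesAlgebra (Id 𝓘 U))) (Rees.deg (reesAlgebra (Id 𝓘 U)))

theorem mem_𝒢 (U : X.AffineZariskiSite) (d : ℕ) (x : reesAlgebra (Id 𝓘 U)) :
    x ∈ 𝒢 𝓘 U d ↔ x ∈ Rees.deg (reesAlgebra (Id 𝓘 U)) d := Iff.rfl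

theorem hmap (U V : X.AffineZariskiSite) (i : V ⟶ U) (d : ℕ) (x : (F 𝓘).obj (op U))
    (hx : x ∈ 𝒢 𝓘 U d) : ((F 𝓘).map i.op).hom x ∈ 𝒢 𝓘 V d :=
  reesMap_mem_deg (θ i) (Id 𝓘 U) (Id 𝓘 V) (map_Id 𝓘 i).le d x hx

theorem hstr (U : X.AffineZariskiSite) (r : Γ(X, U.1)) : ((α 𝓘).app (op U)).hom r ∈ 𝒢 𝓘 U 0 := by
  change algebraMap Γ(X, U.1) (reesAlgebra (Id 𝓘 U)) r ∈ Rees.deg (reesAlgebra (Id 𝓘 U)) 0
  rw [algebraMap_eq_mon]
  exact mon_mem _ 0 _ _

/-- the Rees algebra of an ideal sheaf, as a quasi-coherent graded algebra -/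
noncomputable def reesQC : RelProj.QCGrAlg X :=
  qcGrAlg (coequifibered 𝓘) (𝒢 𝓘) (hmap 𝓘) (hstr 𝓘)

/-- sections over affine opens -/
noncomputable def epsU (U : X.AffineZariskiSite) :
    (reesQC 𝓘).presheaf.obj (op U.1) ≃+* reesAlgebra (Id 𝓘 U) :=
  eps (coequifibered 𝓘) U

theorem mem_deg_iff (U : X.AffineZariskiSite) (d : ℕ) (x : (reesQC 𝓘).presheaf.obj (op U.1)) :
    x ∈ (reesQC 𝓘).deg U.1 U.2 d ↔ epsU 𝓘 U x ∈ Rees.deg (reesAlgebra (Id 𝓘 U)) d := Iff.rfl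

theorem epsU_str (U : X.AffineZariskiSite) (r : Γ(X, U.1)) :
    epsU 𝓘 U (((reesQC 𝓘).str.app (op U.1)).hom r) = algebraMap _ _ r :=
  eps_str (coequifibered 𝓘) U r

theorem epsU_symm_algebraMap (U : X.AffineZariskiSite) (r : Γ(X, U.1)) :
    (epsU 𝓘 U).symm (algebraMap _ _ r) = ((reesQC 𝓘).str.app (op U.1)).hom r := by
  rw [← epsU_str, RingEquiv.symm_apply_apply]

theorem isGenDegOne : (reesQC 𝓘).IsGenDegOne := by
  intro U hU
  rw [eq_top_iff]
  intro x _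
  set e := epsU 𝓘 ⟨U, hU⟩ with he
  have h1 : e x ∈ Subring.closure
      (((Rees.deg (reesAlgebra (Id 𝓘 ⟨U, hU⟩)) 0 : Submodule _ _) : Set (reesAlgebra (Id 𝓘 ⟨U, hU⟩))) ∪
        ((Rees.deg (reesAlgebra (Id 𝓘 ⟨U, hU⟩)) 1 : Submodule _ _) :
          Set (reesAlgebra (Id 𝓘 ⟨U, hU⟩)))) := by
    rw [ReesLoc.closure_eq_top]
    trivial
  have h2 : ∀ y, y ∈ Subring.closure
      (((Rees.deg (reesAlgebra (Id 𝓘 ⟨U, hU⟩)) 0 : Submodule _ _) : Set (reesAlgebra (Id 𝓘 ⟨U, hU⟩))) ∪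
        ((Rees.deg (reesAlgebra (Id 𝓘 ⟨U, hU⟩)) 1 : Submodule _ _) :
          Set (reesAlgebra (Id 𝓘 ⟨U, hU⟩)))) →
      e.symm y ∈ Subring.closure
        ((((reesQC 𝓘).deg U hU 0 : AddSubgroup ((reesQC 𝓘).presheaf.obj (op U))) : Set _) ∪
          (((reesQC 𝓘).deg U hU 1 : AddSubgroup ((reesQC 𝓘).presheaf.obj (op U))) : Set _)) := by
    intro y hy
    induction hy using Subring.closure_induction with
    | mem y hy =>
      refine Subring.subset_closure ?_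
      rcases hy with hy | hy
      · left
        change e (e.symm y) ∈ Rees.deg (reesAlgebra (Id 𝓘 ⟨U, hU⟩)) 0
        rw [e.apply_symm_apply]
        exact hy
      · right
        change e (e.symm y) ∈ Rees.deg (reesAlgebra (Id 𝓘 ⟨U, hU⟩)) 1
        rw [e.apply_symm_apply]
        exact hy
    | zero => rw [map_zero]; exact zero_mem _
    | one => rw [map_one]; exact one_mem _
    | add a b _ _ ha hb => rw [map_add]; exact add_mem ha hb
    | neg a _ ha => rw [map_neg]; exact neg_mem ha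
    | mul a b _ _ ha hb => rw [map_mul]; exact mul_mem ha hb
  have := h2 _ h1
  rwa [e.symm_apply_apply] at this

theorem isFTDeg (h𝓘 : BlowUp.IsFiniteTypeIdeal 𝓘) : (reesQC 𝓘).IsFTDeg 1 := by
  classical
  intro U hU
  set e := epsU 𝓘 ⟨U, hU⟩ with he
  obtain ⟨T₀, hT₀, hgen⟩ := exists_finset_deg_one (Id 𝓘 ⟨U, hU⟩) (h𝓘 ⟨U, hU⟩)
  refine ⟨T₀.image e.symm, ?_, ?_⟩
  · intro t ht
    rw [Finset.coe_image] at ht
    obtain ⟨t₀, ht₀, rfl⟩ := ht
    change e (e.symm t₀) ∈ Rees.deg (reesAlgebra (Id 𝓘 ⟨U, hU⟩)) 1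
    rw [e.apply_symm_apply]
    exact hT₀ ht₀
  · intro x hx
    obtain ⟨c, hc⟩ := hgen (e x) hx
    refine ⟨fun t => c (e t), ?_⟩
    rw [Finset.sum_image (fun a _ b _ h => e.symm.injective h)]
    apply e.injective
    rw [hc, map_sum]
    refine Finset.sum_congr rfl fun t₀ _ => ?_
    dsimp only
    rw [map_mul, e.apply_symm_apply]
    exact congrArg (· * t₀) (epsU_str 𝓘 ⟨U, hU⟩ (c t₀)).symm

end Groth.Agent.Lib.Helper3.ReesSheaf
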