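import Groth.Agent.Lib.Helper3.GlobGenFin
import Groth.Agent.Lib.Helper3.QCSubSec
import Groth.Agent.Lib.Helper3.PbEpi
import Groth.Agent.Lib.Helper3.AmpleMisc
import Groth.Agent.Lib.Helper3.QCPush

/-!
# EGA II 4.6.8-type: for a relatively ample `K`, `E ⊗ K^m` is a quotient of `g^* F`, `F` of finite type
-/

set_option autoImplicit false
set_option linter.unusedSectionVars false
universe u
open CategoryTheory CategoryTheory.Limits AlgebraicGeometry TopologicalSpace Opposite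
open Scheme.Modules

namespace Groth.Agent.Lib.Helper3.RelAmpleQuot

open QCSec InvGen InvTensor InvTwist InvMonoidal InvCoh InvAmple InvSum QCExtend GlobGen GlobGenFin
  InvRestrict CounitGG PbEpi AmpleMisc

variable {X : Scheme.{u}}

/-- EGA II 4.5.5, with finitely many sections -/
theorem exists_isFinSpanned_twist [CompactSpace X] [QuasiSeparatedSpace X] {L : X.Modules}
    (hA : CohB1.IsAmple L) (F : X.Modules) [F.IsQuasicoherent] [F.IsFiniteType] :
    ∃ n₀ : ℕ, ∀ n, n₀ ≤ n →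
      IsFinSpanned (CohB1.tensorMod F (CohB1.tensorPow L n)) := by
  classical
  have hL : PicF.IsInvertible L := hA.1
  obtain ⟨d, hd, ι, hι, s, haff, hcov⟩ := exists_finite_secLocus_cover hA
  have hN := isInvertible_tensorPow hL d
  have haux : ∀ r : ℕ, ∃ k₀ : ℕ, ∀ k, k₀ ≤ k → IsFinSpanned
      (CohB1.tensorMod (CohB1.tensorMod F (CohB1.tensorPow L r))
        (CohB1.tensorPow (CohB1.tensorPow L d) k)) := by
    intro r
    haveI := isQuasicoherent_tensorMod F _ (isInvertible_tensorPow hL r)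
    haveI := isFiniteType_tensorMod F _ (isInvertible_tensorPow hL r)
    exact exists_isFinSpanned_twist_aux hN s haff hcov _
  choose k₀ hk₀ using haux
  refine ⟨d * (Finset.range d).sup k₀, fun n hn => ?_⟩
  obtain ⟨r, k, hr, hk, rfl⟩ : ∃ r k, r < d ∧ (Finset.range d).sup k₀ ≤ k ∧ n = r + d * k := by
    refine ⟨n % d, n / d, Nat.mod_lt _ hd, ?_, ?_⟩
    · rw [Nat.le_div_iff_mul_le hd, Nat.mul_comm]; exact hn
    · rw [add_comm]; exact (Nat.div_add_mod n d).symm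
  have h1 := hk₀ r k ((Finset.le_sup (f := k₀) (Finset.mem_range.mpr hr)).trans hk)
  exact IsFinSpanned.of_iso
    (tensorMapIso (Iso.refl _) (powMul L d k) ≪≫ twistAdd F L r (d * k)) h1


/-- EGA II 4.6.8-type statement: if `K` is ample relative to `g : Y ⟶ Z`, `Z` quasi-compact and
quasi-separated, and `E` is quasi-coherent of finite type on `Y`, then for `m` large `E ⊗ K^m` is
a quotient of `g^* F` with `F` quasi-coherent of finite type on `Z` -/
theorem exists_quotient {Y Z : Scheme.{u}} [CompactSpace Z] [QuasiSeparatedSpace Z] (g : Y ⟶ Z)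
    {K : Y.Modules} (hK : RelAmple.IsRelAmple g K) (E : Y.Modules) [E.IsQuasicoherent]
    [E.IsFiniteType] :
    ∃ m₀ : ℕ, ∀ m : ℕ, m₀ ≤ m →
      ∃ (F : Z.Modules)
        (φ : (Scheme.Modules.pullback g).obj F ⟶ CohB1.tensorMod E (CohB1.tensorPow K m)),
        F.IsQuasicoherent ∧ F.IsFiniteType ∧ Epi φ := by
  classical
  haveI := hK.1
  haveI := quasiSeparated_of_isRelAmple g hK
  have hKinv := isInvertible_of_isRelAmple g hK
  have hcov : ∀ z : Z, ∃ V : Z.Opens, IsAffineOpen V ∧ z ∈ V := fun z => by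
    obtain ⟨V, hV, hzV⟩ := QCProps.exists_affine_nbhd z
    exact ⟨V, hV, hzV⟩
  choose V hV hzV using hcov
  obtain ⟨t, ht⟩ := isCompact_univ.elim_finite_subcover (fun z : Z => ((V z : Z.Opens) : Set Z))
    (fun z => (V z).isOpen) (fun z _ => Set.mem_iUnion.mpr ⟨z, hzV z⟩)
  have hk : ∀ z : Z, ∃ k₀ : ℕ, ∀ k, k₀ ≤ k →
      IsFinSpanned ((CohB1.tensorMod E (CohB1.tensorPow K k)).restrict (g ⁻¹ᵁ V z).ι) := by
    intro z
    have hA := hK.2 ⟨V z, hV z⟩
    haveI : CompactSpace ((g ⁻¹ᵁ V z : Y.Opens) : Scheme.{u}) := hA.2.1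
    haveI := RelAmpleLib.isSeparated_of_isAmple hA
    haveI : (E.restrict (g ⁻¹ᵁ V z).ι).IsQuasicoherent :=
      Scheme.Modules.isQuasicoherent_restrictFunctor _ E
    haveI : (E.restrict (g ⁻¹ᵁ V z).ι).IsFiniteType := QCProps.isFiniteType_restrict _ E
    obtain ⟨n₀, hn₀⟩ := exists_isFinSpanned_twist hA (E.restrict (g ⁻¹ᵁ V z).ι)
    exact ⟨n₀, fun n hn => (hn₀ n hn).of_iso
      (tensorMapIso (Iso.refl _) (restrictPowIso (g ⁻¹ᵁ V z).ι K n) ≪≫
        restrictTensorIso (g ⁻¹ᵁ V z).ι E (CohB1.tensorPow K n))⟩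
  choose k₀ hk₀ using hk
  refine ⟨t.sup k₀, fun m hm => ?_⟩
  haveI hMq : (CohB1.tensorMod E (CohB1.tensorPow K m)).IsQuasicoherent :=
    isQuasicoherent_tensorMod E _ (isInvertible_tensorPow hKinv m)
  haveI : ((pushforward g).obj (CohB1.tensorMod E (CohB1.tensorPow K m))).IsQuasicoherent :=
    QCSec.isQuasicoherent_pushforward g _
  have hfs : ∀ i : {z // z ∈ t},
      IsFinSpanned ((CohB1.tensorMod E (CohB1.tensorPow K m)).restrict (g ⁻¹ᵁ V i.1).ι) :=
    fun i => hk₀ i.1 m ((Finset.le_sup (f := k₀) i.2).trans hm)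
  choose I hI σ' hσ' using hfs
  haveI := hI
  let O : (Σ i : {z // z ∈ t}, I i) → Z.Opens := fun j => V j.1.1
  let τ : ∀ j : (Σ i : {z // z ∈ t}, I i),
      Γ((pushforward g).obj (CohB1.tensorMod E (CohB1.tensorPow K m)), O j) := fun j =>
    (show Γ(CohB1.tensorMod E (CohB1.tensorPow K m), g ⁻¹ᵁ V j.1.1) from
      res (CohB1.tensorMod E (CohB1.tensorPow K m)) (le_of_eq (g ⁻¹ᵁ V j.1.1).ι_image_top.symm)
        (show Γ(CohB1.tensorMod E (CohB1.tensorPow K m), (g ⁻¹ᵁ V j.1.1).ι ''ᵁ ⊤) from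
          σ' j.1 j.2))
  obtain ⟨F, mF, hm', hFq, hFf, hmem⟩ := QCSubSec.exists_finiteType_sub_sections
    ((pushforward g).obj (CohB1.tensorMod E (CohB1.tensorPow K m))) O
    (fun j => (hV j.1.1).isCompact) τ
  refine ⟨F, (Scheme.Modules.pullback g).map mF ≫
      (pullbackPushforwardAdjunction g).counit.app (CohB1.tensorMod E (CohB1.tensorPow K m)),
    hFq, hFf, ?_⟩
  apply epi_adjoint_of_isLocSpannedOn
  intro x
  obtain ⟨z, hz⟩ := Set.mem_iUnion.mp (ht (Set.mem_univ (g x)))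
  obtain ⟨hzt, hxz⟩ := Set.mem_iUnion.mp hz
  haveI : ((CohB1.tensorMod E (CohB1.tensorPow K m)).restrict (g ⁻¹ᵁ V z).ι).IsQuasicoherent :=
    Scheme.Modules.isQuasicoherent_restrictFunctor (g ⁻¹ᵁ V z).ι _
  refine ⟨V z, hxz, I ⟨z, hzt⟩, _, isLocSpannedOn_of_restrict
    (CohB1.tensorMod E (CohB1.tensorPow K m))
    (g ⁻¹ᵁ V z) (σ' ⟨z, hzt⟩) (isLocSpannedBy_of_isSpannedBy _ (hσ' ⟨z, hzt⟩)), ?_⟩
  intro j
  obtain ⟨a, ha⟩ := hmem ⟨⟨z, hzt⟩, j⟩
  exact ⟨a, ha⟩

end Groth.Agent.Lib.Helper3.RelAmpleQuot
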