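import Groth.Agent.Lib.Helper3.RelTwistPull
import Groth.Agent.Lib.Helper3.RelTwistExist
import Groth.Agent.Lib.Helper3.ToProj

/-!
# Sections of the twisting sheaves of a relative `Proj` read in charts
-/

set_option autoImplicit false
set_option linter.unusedSectionVars false
universe u
open CategoryTheory CategoryTheory.Limits AlgebraicGeometry TopologicalSpace Opposite
open Scheme.Modules
open scoped HomogeneousIdeal

namespace Groth.Agent.Lib.Helper3.RelChart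

open QCSec InvGen GrModQC

section ring

variable {A σ : Type u} [CommRing A] [SetLike σ A] [AddSubgroupClass σ A] {𝒜 : ℕ → σ}
  [GradedRing 𝒜]

/-- the chart `Spec A_(f) → Proj A` on functions -/
theorem awayToSection_awayι_appLE {d : ℕ} (hd : 0 < d) {f : A} (hf : f ∈ 𝒜 d)
    (e : (⊤ : (Spec (.of (HomogeneousLocalization.Away 𝒜 f))).Opens) ≤
      Proj.awayι 𝒜 f hf hd ⁻¹ᵁ Proj.basicOpen 𝒜 f) :
    Proj.awayToSection 𝒜 f ≫ (Proj.awayι 𝒜 f hf hd).appLE (Proj.basicOpen 𝒜 f) ⊤ e =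
      (Scheme.ΓSpecIso _).inv := by
  have h1 : (Proj.basicOpenIsoSpec 𝒜 f hf hd).hom.appTop =
      (Scheme.ΓSpecIso _).hom ≫ Proj.awayToSection 𝒜 f ≫ (Proj.basicOpen 𝒜 f).topIso.inv := by
    rw [Proj.basicOpenIsoSpec_hom]
    exact Proj.basicOpenToSpec_app_top 𝒜 f
  have h2 : (Proj.basicOpenIsoSpec 𝒜 f hf hd).hom.appTop ≫
      (Proj.basicOpenIsoSpec 𝒜 f hf hd).inv.appTop = 𝟙 _ := by
    rw [← Scheme.Hom.comp_appTop, Iso.inv_hom_id, Scheme.Hom.id_appTop]
  have h3 : Proj.awayToSection 𝒜 f ≫ (Proj.basicOpen 𝒜 f).topIso.inv =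
      (Scheme.ΓSpecIso _).inv ≫ (Proj.basicOpenIsoSpec 𝒜 f hf hd).hom.appTop := by
    rw [h1, Iso.inv_hom_id_assoc]
  have h4 : (Proj.awayι 𝒜 f hf hd).appLE (Proj.basicOpen 𝒜 f) ⊤ e =
      (Proj.basicOpen 𝒜 f).topIso.inv ≫ (Proj.basicOpenIsoSpec 𝒜 f hf hd).inv.appTop :=
    ToProj.comp_ι_appLE _ _ e
  rw [h4, ← Category.assoc, h3, Category.assoc, h2, Category.comp_id]

theorem awayι_mem_basicOpen {d : ℕ} (hd : 0 < d) {f : A} (hf : f ∈ 𝒜 d)
    (z : Spec (.of (HomogeneousLocalization.Away 𝒜 f))) :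
    Proj.awayι 𝒜 f hf hd z ∈ Proj.basicOpen 𝒜 f := by
  rw [← Proj.opensRange_awayι 𝒜 f hf hd]
  exact ⟨z, rfl⟩

theorem mem_deg_of_eq {d d' : ℕ} (h : d = d') {a : A} (ha : a ∈ 𝒜 d) : a ∈ 𝒜 d' := h ▸ ha

end ring

section single

variable {Y P : Scheme.{u}} {𝒮 : RelProj.QCGrAlg Y} {p : P ⟶ Y}
  {chart : ∀ (U : Y.Opens) (hU : IsAffineOpen U),
    ((p ⁻¹ᵁ U : P.Opens) : Scheme.{u}) ≅ Proj (𝒮.deg U hU)}
  {n : ℤ} {L : P.Modules}
  {lam : ∀ (U : Y.Opens) (hU : IsAffineOpen U),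
    L ⟶ (Scheme.Modules.pushforward (RelProj.emb p chart U hU)).obj
      (GrTwist.twist (𝒮.deg U hU) n)}

variable (lam) in
/-- the section `s` of `L` over `W` reads as the fraction `a / b` in the chart over `U` -/
def Reads (U : Y.Opens) (hU : IsAffineOpen U) (W : P.Opens) (s : Γ(L, W))
    (a b : 𝒮.presheaf.obj (op U)) : Prop :=
  ∀ (y : ProjectiveSpectrum (𝒮.deg U hU)) (hy : (RelProj.emb p chart U hU).base y ∈ W),
    ∃ hb : b ∉ y.asHomogeneousIdeal,
      GrTwist.val (V := RelProj.emb p chart U hU ⁻¹ᵁ W) ((lam U hU).app W s) ⟨y, hy⟩ =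
        Localization.mk a ⟨b, hb⟩

variable (chart) in
/-- the function `γ` on `W` reads as the fraction `a / b` in the chart over `U` -/
def FReads (U : Y.Opens) (hU : IsAffineOpen U) (W : P.Opens) (γ : Γ(P, W))
    (a b : 𝒮.presheaf.obj (op U)) : Prop :=
  ∀ (y : ProjectiveSpectrum (𝒮.deg U hU)) (hy : (RelProj.emb p chart U hU).base y ∈ W),
    ∃ hb : b ∉ y.asHomogeneousIdeal,
      fval (U := RelProj.emb p chart U hU ⁻¹ᵁ W) ((RelProj.emb p chart U hU).app W γ) ⟨y, hy⟩ =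
        Localization.mk a ⟨b, hb⟩

theorem Reads.res {U : Y.Opens} {hU : IsAffineOpen U} {W : P.Opens} {s : Γ(L, W)}
    {a b : 𝒮.presheaf.obj (op U)} (h : Reads lam U hU W s a b) {W' : P.Opens} (hW : W' ≤ W) :
    Reads lam U hU W' (res L hW s) a b := by
  intro y hy
  obtain ⟨hb, hval⟩ := h y (hW hy)
  refine ⟨hb, ?_⟩
  rw [← hval]
  exact (RelTwistMap.val_app_res (RelProj.emb p chart U hU) (lam U hU) hW s ⟨y, hW hy⟩ hy).symm

theorem Reads.congr {U : Y.Opens} {hU : IsAffineOpen U} {W : P.Opens} {s : Γ(L, W)}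
    {a b a' b' : 𝒮.presheaf.obj (op U)} (h : Reads lam U hU W s a b) (ha : a = a')
    (hb : b = b') : Reads lam U hU W s a' b' := by
  subst ha
  subst hb
  exact h

theorem Reads.basic (hP : RelProj.IsRelProj 𝒮 p chart)
    (hL : RelProj.IsRelTwist 𝒮 p chart n L lam)
    {U : Y.Opens} {hU : IsAffineOpen U} {W : P.Opens} {s : Γ(L, W)}
    {a b : 𝒮.presheaf.obj (op U)} (h : Reads lam U hU W s a b) (r : Γ(Y, U)) {V : Y.Opens}
    (hV : IsAffineOpen V) (e : V = Y.basicOpen r) :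
    Reads lam V hV W s (𝒮.res hU hV (e.le.trans (Y.basicOpen_le r)) a)
      (𝒮.res hU hV (e.le.trans (Y.basicOpen_le r)) b) := by
  subst e
  intro y hy
  have hy' := RelTildeMap.emb_comap_mem hP U hU r W y hy
  obtain ⟨hb, hval⟩ := h _ hy'
  have c := hL.compat U hU r W s y hy hy'
  refine ⟨hb, ?_⟩
  rw [c, hval, GrTwist.locMap_mk]

/-- image of a basic open of a chart over a basic open -/
theorem image_le_image_basic (hP : RelProj.IsRelProj 𝒮 p chart) {U : Y.Opens}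
    {hU : IsAffineOpen U} (r : Γ(Y, U)) {V : Y.Opens} (hV : IsAffineOpen V)
    (e : V = Y.basicOpen r) (a : 𝒮.presheaf.obj (op U)) (D : (Proj (𝒮.deg V hV)).Opens)
    (hD : D ≤ Proj.basicOpen (𝒮.deg V hV) (𝒮.res hU hV (e.le.trans (Y.basicOpen_le r)) a)) :
    RelProj.emb p chart V hV ''ᵁ D ≤
      RelProj.emb p chart U hU ''ᵁ Proj.basicOpen (𝒮.deg U hU) a := by
  rintro _ ⟨z, hz, rfl⟩
  refine ⟨ProjectiveSpectrum.comap (𝒮.res hU hV (e.le.trans (Y.basicOpen_le r)))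
    (RelTwistExist.hirr_of_eq hU hV r e) z, ?_, RelTwistExist.emb_comap hP hU hV r e z⟩
  exact hD hz

/-- a point of the image of `D₊(a)` read in the chart over a basic open -/
theorem notMem_of_mem_image (hP : RelProj.IsRelProj 𝒮 p chart) {U : Y.Opens}
    {hU : IsAffineOpen U} (r : Γ(Y, U)) {V : Y.Opens} (hV : IsAffineOpen V)
    (e : V = Y.basicOpen r) (a : 𝒮.presheaf.obj (op U)) (y : Proj (𝒮.deg V hV))
    (h : (RelProj.emb p chart V hV).base y ∈
      RelProj.emb p chart U hU ''ᵁ Proj.basicOpen (𝒮.deg U hU) a) :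
    𝒮.res hU hV (e.le.trans (Y.basicOpen_le r)) a ∉ y.asHomogeneousIdeal := by
  obtain ⟨z, hz, hzy⟩ := h
  have h1 := RelTwistExist.emb_comap hP hU hV r e y
  have h2 : z = ProjectiveSpectrum.comap (𝒮.res hU hV (e.le.trans (Y.basicOpen_le r)))
      (RelTwistExist.hirr_of_eq hU hV r e) y :=
    (RelProj.emb p chart U hU).isOpenEmbedding.injective (hzy.trans h1.symm)
  rw [h2] at hz
  exact hz

theorem eq_smul_of_reads (hL : RelProj.IsRelTwist 𝒮 p chart n L lam)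
    {U : Y.Opens} {hU : IsAffineOpen U} {W : P.Opens} (hW : W ≤ p ⁻¹ᵁ U) {s s' : Γ(L, W)}
    {γ : Γ(P, W)} {a b a' b' c d : 𝒮.presheaf.obj (op U)}
    (h : Reads lam U hU W s a b) (h' : Reads lam U hU W s' a' b')
    (hγ : FReads chart U hU W γ c d) (hid : a * (d * b') = c * a' * b) : s = γ • s' := by
  apply (hL.bijective U hU W hW).1
  have e1 : (lam U hU).app W (γ • s') =
      (show Γ(GrTwist.twist (𝒮.deg U hU) n, RelProj.emb p chart U hU ⁻¹ᵁ W) from
        (RelProj.emb p chart U hU).app W γ •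
          (show Γ(GrTwist.twist (𝒮.deg U hU) n, RelProj.emb p chart U hU ⁻¹ᵁ W) from
            (lam U hU).app W s')) := by
    rw [Scheme.Modules.Hom.app_smul]
    rfl
  refine Eq.trans ?_ e1.symm
  refine val_ext (U := RelProj.emb p chart U hU ⁻¹ᵁ W) (fun y => ?_)
  obtain ⟨hb, hv⟩ := h y.1 y.2
  obtain ⟨hb', hv'⟩ := h' y.1 y.2
  obtain ⟨hd, hf⟩ := hγ y.1 y.2
  have h3 : (Localization.mk a ⟨b, hb⟩ : GrTwist.Loc (𝒮.deg U hU) y.1) =
      Localization.mk c ⟨d, hd⟩ * Localization.mk a' ⟨b', hb'⟩ := by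
    rw [Localization.mk_mul, Localization.mk_eq_mk_iff, Localization.r_iff_exists]
    refine ⟨1, ?_⟩
    simp only [OneMemClass.coe_one, one_mul, Submonoid.coe_mul]
    linear_combination hid
  refine hv.trans (h3.trans ?_)
  refine Eq.trans ?_ (val_smul _ _ y).symm
  exact congrArg₂ (· * ·) hf.symm hv'.symm

/-- the function on the image of `D₊(F)` in `P` with prescribed coordinate -/
noncomputable def chartFun (chart : ∀ (U : Y.Opens) (hU : IsAffineOpen U),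
      ((p ⁻¹ᵁ U : P.Opens) : Scheme.{u}) ≅ Proj (𝒮.deg U hU))
    (U : Y.Opens) (hU : IsAffineOpen U) (F : 𝒮.presheaf.obj (op U))
    (g₀ : HomogeneousLocalization.Away (𝒮.deg U hU) F) :
    Γ(P, RelProj.emb p chart U hU ''ᵁ Proj.basicOpen (𝒮.deg U hU) F) :=
  ((RelProj.emb p chart U hU).appIso (Proj.basicOpen (𝒮.deg U hU) F)).inv
    ((Proj.awayToSection (𝒮.deg U hU) F).hom g₀)

theorem chartFun_appLE (U : Y.Opens) (hU : IsAffineOpen U) (F : 𝒮.presheaf.obj (op U))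
    (g₀ : HomogeneousLocalization.Away (𝒮.deg U hU) F)
    (e : Proj.basicOpen (𝒮.deg U hU) F ≤ RelProj.emb p chart U hU ⁻¹ᵁ
      (RelProj.emb p chart U hU ''ᵁ Proj.basicOpen (𝒮.deg U hU) F)) :
    (RelProj.emb p chart U hU).appLE _ _ e (chartFun chart U hU F g₀) =
      (Proj.awayToSection (𝒮.deg U hU) F).hom g₀ := by
  have h := Scheme.Hom.appIso_hom' (RelProj.emb p chart U hU)
    (Proj.basicOpen (𝒮.deg U hU) F)
  have h2 : ((RelProj.emb p chart U hU).appIso (Proj.basicOpen (𝒮.deg U hU) F)).hom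
      (chartFun chart U hU F g₀) = (Proj.awayToSection (𝒮.deg U hU) F).hom g₀ :=
    congrArg (fun m => m.hom ((Proj.awayToSection (𝒮.deg U hU) F).hom g₀))
      (Iso.inv_hom_id ((RelProj.emb p chart U hU).appIso (Proj.basicOpen (𝒮.deg U hU) F)))
  rw [h] at h2
  exact h2

theorem freads_chartFun (U : Y.Opens) (hU : IsAffineOpen U) {d : ℕ}
    {F : 𝒮.presheaf.obj (op U)} (hF : F ∈ 𝒮.deg U hU d) (m : ℕ) (a : 𝒮.presheaf.obj (op U))
    (ha : a ∈ 𝒮.deg U hU (m • d)) :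
    FReads chart U hU (RelProj.emb p chart U hU ''ᵁ Proj.basicOpen (𝒮.deg U hU) F)
      (chartFun chart U hU F (HomogeneousLocalization.Away.mk (𝒮.deg U hU) hF m a ha))
      a (F ^ m) := by
  intro y hy
  have hyD : y ∈ Proj.basicOpen (𝒮.deg U hU) F := by
    obtain ⟨z, hz, hzy⟩ := hy
    have := (RelProj.emb p chart U hU).isOpenEmbedding.injective hzy
    rwa [← this]
  have hFy : F ^ m ∉ y.asHomogeneousIdeal.toIdeal := fun h =>
    hyD (y.isPrime.mem_of_pow_mem m h)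
  refine ⟨hFy, ?_⟩
  have e : Proj.basicOpen (𝒮.deg U hU) F ≤ RelProj.emb p chart U hU ⁻¹ᵁ
      (RelProj.emb p chart U hU ''ᵁ Proj.basicOpen (𝒮.deg U hU) F) :=
    ((RelProj.emb p chart U hU).preimage_image_eq _).ge
  have h1 := chartFun_appLE (chart := chart) U hU F
    (HomogeneousLocalization.Away.mk (𝒮.deg U hU) hF m a ha) e
  have h2 : fval (U := RelProj.emb p chart U hU ⁻¹ᵁ
        (RelProj.emb p chart U hU ''ᵁ Proj.basicOpen (𝒮.deg U hU) F))
      ((RelProj.emb p chart U hU).app _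
        (chartFun chart U hU F (HomogeneousLocalization.Away.mk (𝒮.deg U hU) hF m a ha)))
      ⟨y, hy⟩ =
      fval (U := Proj.basicOpen (𝒮.deg U hU) F)
        ((RelProj.emb p chart U hU).appLE _ _ e
          (chartFun chart U hU F (HomogeneousLocalization.Away.mk (𝒮.deg U hU) hF m a ha)))
        ⟨y, hyD⟩ := rfl
  rw [h2, h1]
  exact fval_mk_away hF m a ha ⟨y, hyD⟩ hFy

theorem chartFun_coord (U : Y.Opens) (hU : IsAffineOpen U) {d : ℕ} (hd : 0 < d)
    {F : 𝒮.presheaf.obj (op U)} (hF : F ∈ 𝒮.deg U hU d)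
    (g₀ : HomogeneousLocalization.Away (𝒮.deg U hU) F)
    (e : (⊤ : (Spec (.of (HomogeneousLocalization.Away (𝒮.deg U hU) F))).Opens) ≤
      (Proj.awayι (𝒮.deg U hU) F hF hd ≫ RelProj.emb p chart U hU) ⁻¹ᵁ
        (RelProj.emb p chart U hU ''ᵁ Proj.basicOpen (𝒮.deg U hU) F)) :
    (Proj.awayι (𝒮.deg U hU) F hF hd ≫ RelProj.emb p chart U hU).appLE _ ⊤ e
        (chartFun chart U hU F g₀) = (Scheme.ΓSpecIso _).inv g₀ := by
  have e₁ : Proj.basicOpen (𝒮.deg U hU) F ≤ RelProj.emb p chart U hU ⁻¹ᵁ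
      (RelProj.emb p chart U hU ''ᵁ Proj.basicOpen (𝒮.deg U hU) F) :=
    ((RelProj.emb p chart U hU).preimage_image_eq _).ge
  have e₂ : (⊤ : (Spec (.of (HomogeneousLocalization.Away (𝒮.deg U hU) F))).Opens) ≤
      Proj.awayι (𝒮.deg U hU) F hF hd ⁻¹ᵁ Proj.basicOpen (𝒮.deg U hU) F :=
    fun z _ => awayι_mem_basicOpen hd hF z
  have h := Scheme.Hom.appLE_comp_appLE (Proj.awayι (𝒮.deg U hU) F hF hd)
    (RelProj.emb p chart U hU) _ _ ⊤ e₁ e₂
  have h2 : (Proj.awayι (𝒮.deg U hU) F hF hd).appLE _ ⊤ e₂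
      ((RelProj.emb p chart U hU).appLE _ _ e₁ (chartFun chart U hU F g₀)) =
      (Proj.awayι (𝒮.deg U hU) F hF hd ≫ RelProj.emb p chart U hU).appLE _ ⊤ e
        (chartFun chart U hU F g₀) :=
    congrArg (fun m => m.hom (chartFun chart U hU F g₀)) h
  rw [← h2, chartFun_appLE]
  exact congrArg (fun m => m.hom g₀) (awayToSection_awayι_appLE hd hF e₂)

/-- the relation between two sections read in the same chart over `D₊(F)` -/
theorem eq_chartFun_smul (hL : RelProj.IsRelTwist 𝒮 p chart n L lam)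
    (U : Y.Opens) (hU : IsAffineOpen U) {d : ℕ} {F : 𝒮.presheaf.obj (op U)}
    (hF : F ∈ 𝒮.deg U hU d) (m : ℕ) (a : 𝒮.presheaf.obj (op U))
    (ha : a ∈ 𝒮.deg U hU (m • d))
    {t t' : Γ(L, RelProj.emb p chart U hU ''ᵁ Proj.basicOpen (𝒮.deg U hU) F)}
    {x y x' y' : 𝒮.presheaf.obj (op U)}
    (h : Reads lam U hU _ t x y) (h' : Reads lam U hU _ t' x' y')
    (hid : x * (F ^ m * y') = a * x' * y) :
    t = chartFun chart U hU F (HomogeneousLocalization.Away.mk (𝒮.deg U hU) hF m a ha) • t' := by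
  have hW : RelProj.emb p chart U hU ''ᵁ Proj.basicOpen (𝒮.deg U hU) F ≤ p ⁻¹ᵁ U := by
    rw [← ProjQMap.opensRange_emb p chart U hU]
    exact (RelProj.emb p chart U hU).image_le_opensRange _
  exact eq_smul_of_reads hL hW h h' (freads_chartFun U hU hF m a ha) hid

include lam in
/-- the standard generator of `O(n)` over the image of `D₊(f)`, `f` of degree one -/
theorem exists_gen (hL : RelProj.IsRelTwist 𝒮 p chart n L lam) (U : Y.Opens)
    (hU : IsAffineOpen U) (f : 𝒮.presheaf.obj (op U)) (hf : f ∈ 𝒮.deg U hU 1) :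
    ∃ e : Γ(L, RelProj.emb p chart U hU ''ᵁ Proj.basicOpen (𝒮.deg U hU) f),
      IsGen L _ e ∧ Reads lam U hU _ e (f ^ n.toNat) (f ^ (-n).toNat) := by
  have hdeg : ((n.toNat : ℕ) : ℤ) = ((-n).toNat : ℕ) + n := by
    rcases le_total 0 n with h' | h'
    · rw [Int.toNat_of_nonneg h', Int.toNat_eq_zero.mpr (by omega)]
      simp
    · rw [Int.toNat_eq_zero.mpr h', Int.toNat_of_nonneg (by omega)]
      simp
  let V' : (Proj (𝒮.deg U hU)).Opens := Proj.basicOpen (𝒮.deg U hU) f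
  let V : P.Opens := RelProj.emb p chart U hU ''ᵁ V'
  have hpre : RelProj.emb p chart U hU ⁻¹ᵁ V = V' :=
    (RelProj.emb p chart U hU).preimage_image_eq V'
  have hle : V ≤ (RelProj.emb p chart U hU).opensRange :=
    (RelProj.emb p chart U hU).image_le_opensRange V'
  have hle' : V ≤ p ⁻¹ᵁ U := by rwa [ProjQMap.opensRange_emb] at hle
  have hmem : ∀ k : ℕ, f ^ k ∈ 𝒮.deg U hU k := fun k => by
    have := SetLike.pow_mem_graded k hf
    rwa [smul_eq_mul, mul_one] at this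
  have hnot : ∀ (k : ℕ) (z : (RelProj.emb p chart U hU ⁻¹ᵁ V : (Proj (𝒮.deg U hU)).Opens)),
      f ^ k ∉ z.1.asHomogeneousIdeal := by
    intro k z hz
    have hz' : z.1 ∈ V' := by rw [← hpre]; exact z.2
    exact hz' (z.1.isPrime.mem_of_pow_mem k hz)
  let t := frac (RelProj.emb p chart U hU ⁻¹ᵁ V) ⟨f ^ n.toNat, hmem _⟩
    ⟨f ^ (-n).toNat, hmem _⟩ (hnot _) n hdeg
  obtain ⟨e, he⟩ := (hL.bijective U hU V hle').2 t
  refine ⟨e, ?_, ?_⟩
  · apply GrTwistGen.isGen_of_pushforward (RelProj.emb p chart U hU) _ (lam U hU) V hle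
      (fun W hW => hL.bijective U hU W (hW.trans hle'))
    rw [he]
    exact GrTwistGen.isGen_frac _ _ _ (hnot _) (hnot _) _ _
  · intro y hy
    refine ⟨hnot _ ⟨y, hy⟩, ?_⟩
    exact congrArg (fun q => GrTwist.val (V := RelProj.emb p chart U hU ⁻¹ᵁ V) q ⟨y, hy⟩) he

end single

end Groth.Agent.Lib.Helper3.RelChart
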