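import Groth.Agent.Lib.Helper3.FpqcAmpleFam
import Groth.Agent.Lib.Helper3.PbAmple

/-!
# fpqc descent of relative ampleness (EGA IV 2.7.2), assembly from the affine family version
-/

set_option autoImplicit false
universe u
open CategoryTheory CategoryTheory.Limits AlgebraicGeometry TopologicalSpace Opposite
open Scheme.Modules

namespace Groth.Agent.Lib.Helper3.RelFpqc

open InvGen InvTensor InvMonoidal InvCoh PbBasic InvRestrict InvAmple

theorem apply_condition {X S S' : Scheme.{u}} (f : X ⟶ S) (g : S' ⟶ S) (z : ↥(pullback f g)) :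
    f (pullback.fst f g z) = g (pullback.snd f g z) := by
  have h := congrArg (fun φ : pullback f g ⟶ S => φ z) (pullback.condition (f := f) (g := g))
  exact h

/-- quasi-compactness descends along a quasi-compact surjective base change -/
theorem quasiCompact_of_pullback_snd {X S S' : Scheme.{u}} (f : X ⟶ S) (g : S' ⟶ S)
    [QuasiCompact g] [Surjective g] [QuasiCompact (pullback.snd f g)] : QuasiCompact f := by
  rw [quasiCompact_iff_forall_isAffineOpen]
  intro U hU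
  have h1 : IsCompact ((g ⁻¹ᵁ U : S'.Opens) : Set S') :=
    QuasiCompact.isCompact_preimage (f := g) _ U.2 hU.isCompact
  have h2 : IsCompact (((pullback.snd f g) ⁻¹ᵁ (g ⁻¹ᵁ U) : (pullback f g).Opens) :
      Set ↥(pullback f g)) :=
    QuasiCompact.isCompact_preimage (f := pullback.snd f g) _ (g ⁻¹ᵁ U).2 h1
  have h3 : ((f ⁻¹ᵁ U : X.Opens) : Set X) = (pullback.fst f g) ''
      (((pullback.snd f g) ⁻¹ᵁ (g ⁻¹ᵁ U) : (pullback f g).Opens) : Set ↥(pullback f g)) := by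
    ext x
    constructor
    · intro hx
      obtain ⟨s', hs'⟩ := (inferInstance : Surjective g).surj (f x)
      obtain ⟨z, hz1, hz2⟩ :=
        Scheme.Pullback.exists_preimage_pullback (f := f) (g := g) x s' hs'.symm
      refine ⟨z, ?_, hz1⟩
      show g (pullback.snd f g z) ∈ U
      rw [hz2, hs']
      exact hx
    · rintro ⟨z, hz, rfl⟩
      show f (pullback.fst f g z) ∈ U
      rw [apply_condition]
      exact hz
  rw [h3]
  exact h2.image (pullback.fst f g).continuous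

/-- the restricted cartesian square -/
theorem exists_square {X S S' : Scheme.{u}} (f : X ⟶ S) (g : S' ⟶ S) (V : S.Opens)
    (V' : S'.Opens) (hle : V' ≤ g ⁻¹ᵁ V) :
    ∃ (p : ((pullback.snd f g) ⁻¹ᵁ V' : Scheme.{u}) ⟶ (f ⁻¹ᵁ V : Scheme.{u}))
      (t : (V' : Scheme.{u}) ⟶ (V : Scheme.{u})),
      p ≫ (f ⁻¹ᵁ V).ι = ((pullback.snd f g) ⁻¹ᵁ V').ι ≫ pullback.fst f g ∧
      t ≫ V.ι = V'.ι ≫ g ∧ (Flat g → Flat t) ∧
      IsPullback p ((pullback.snd f g) ∣_ V') (f ∣_ V) t := by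
  obtain ⟨t, ht⟩ : ∃ t : (V' : Scheme.{u}) ⟶ (V : Scheme.{u}), t = S'.homOfLE hle ≫ g ∣_ V :=
    ⟨_, rfl⟩
  have htι : t ≫ V.ι = V'.ι ≫ g := by
    rw [ht, Category.assoc, morphismRestrict_ι, ← Category.assoc, Scheme.homOfLE_ι]
  have hw : ((pullback.snd f g) ∣_ V' ≫ t) ≫ V.ι =
      (((pullback.snd f g) ⁻¹ᵁ V').ι ≫ pullback.fst f g) ≫ f := by
    rw [Category.assoc, htι, ← Category.assoc, morphismRestrict_ι, Category.assoc,
      Category.assoc, pullback.condition]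
  obtain ⟨p, hp⟩ : ∃ p : ((pullback.snd f g) ⁻¹ᵁ V' : Scheme.{u}) ⟶ (f ⁻¹ᵁ V : Scheme.{u}),
      p = (isPullback_morphismRestrict f V).lift _ _ hw := ⟨_, rfl⟩
  have hp1 : p ≫ f ∣_ V = (pullback.snd f g) ∣_ V' ≫ t := by
    rw [hp]; exact (isPullback_morphismRestrict f V).lift_fst _ _ hw
  have hp2 : p ≫ (f ⁻¹ᵁ V).ι = ((pullback.snd f g) ⁻¹ᵁ V').ι ≫ pullback.fst f g := by
    rw [hp]; exact (isPullback_morphismRestrict f V).lift_snd _ _ hw
  refine ⟨p, t, hp2, htι, ?_, ?_⟩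
  · intro hflat
    rw [ht]
    infer_instance
  · have s := (isPullback_morphismRestrict (pullback.snd f g) V').flip.paste_horiz
      (IsPullback.of_hasPullback f g)
    rw [← hp2, ← htι] at s
    exact IsPullback.of_right s hp1 (isPullback_morphismRestrict f V).flip

set_option maxHeartbeats 1000000 in
/-- **EGA IV 2.7.2** reduced to the family version of the descent of global generation -/
theorem isRelAmple_of_baseChange_aux {X S S' : Scheme.{u}} (f : X ⟶ S) (L : X.Modules)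
    (hL : PicF.IsInvertible L) (g : S' ⟶ S) [QuasiCompact g] [Flat g] [Surjective g]
    (h : RelAmple.IsRelAmple (pullback.snd f g)
      ((Scheme.Modules.pullback (pullback.fst f g)).obj L))
    (hN : ∀ {X Y : Scheme.{u}} [IsAffine Y] (f : X ⟶ Y) [QuasiCompact f] [QuasiSeparated f]
      {n : ℕ} (Y' X' : Fin n → Scheme.{u}) [∀ i, IsAffine (Y' i)] (g : ∀ i, Y' i ⟶ Y)
      (p : ∀ i, X' i ⟶ X) (f' : ∀ i, X' i ⟶ Y' i)
      (_ : ∀ i, IsPullback (p i) (f' i) f (g i)) [∀ i, Flat (g i)]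
      (_ : ∀ y : Y, ∃ (i : Fin n) (y' : Y' i), g i y' = y)
      (G : X.Modules) [G.IsQuasicoherent]
      (_ : ∀ i, Curv2.IsGloballyGenerated ((Scheme.Modules.pullback (p i)).obj G)),
      Curv2.IsGloballyGenerated G) :
    RelAmple.IsRelAmple f L := by
  obtain ⟨hqc', hamp'⟩ := h
  haveI := hqc'
  haveI hqc : QuasiCompact f := quasiCompact_of_pullback_snd f g
  refine ⟨hqc, fun V => ?_⟩
  have hcomp : IsCompact ((g ⁻¹ᵁ V.1 : S'.Opens) : Set S') :=
    QuasiCompact.isCompact_preimage (f := g) _ V.1.2 V.2.isCompact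
  obtain ⟨s, hs, hsU⟩ := isCompact_iff_finite_and_eq_biUnion_affineOpens.mp hcomp
  obtain ⟨n, e, he⟩ := hs.fin_embedding
  have hle : ∀ i, (e i).1 ≤ g ⁻¹ᵁ V.1 := fun i => by
    rw [hsU]
    exact le_iSup₂ (f := fun (j : S'.affineOpens) (_ : j ∈ s) => (j : S'.Opens)) (e i)
      (he ▸ Set.mem_range_self i)
  have hcov : ∀ x ∈ g ⁻¹ᵁ V.1, ∃ i, x ∈ (e i).1 := by
    intro x hx
    rw [hsU] at hx
    obtain ⟨j, hj⟩ := Opens.mem_iSup.mp hx
    obtain ⟨hjs, hxj⟩ := Opens.mem_iSup.mp hj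
    rw [← he] at hjs
    obtain ⟨i, rfl⟩ := hjs
    exact ⟨i, hxj⟩
  haveI : IsAffine (V.1 : Scheme.{u}) := V.2
  haveI : ∀ i, IsAffine ((e i).1 : Scheme.{u}) := fun i => (e i).2
  choose p t hp ht hflat hsq using fun i => exists_square f g V.1 (e i).1 (hle i)
  haveI : ∀ i, Flat (t i) := fun i => hflat i inferInstance
  have hsurj : ∀ y : ↥(V.1 : Scheme.{u}), ∃ (i : Fin n) (y' : ↥((e i).1 : Scheme.{u})),
      t i y' = y := by
    intro y
    obtain ⟨s', hs'⟩ := (inferInstance : Surjective g).surj y.1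
    have hs'V : s' ∈ g ⁻¹ᵁ V.1 := by
      show g s' ∈ V.1
      rw [hs']
      exact y.2
    obtain ⟨i, hi⟩ := hcov s' hs'V
    refine ⟨i, ⟨s', hi⟩, ?_⟩
    apply Subtype.ext
    have h1 := congrArg (fun φ : ((e i).1 : Scheme.{u}) ⟶ S => φ ⟨s', hi⟩) (ht i)
    exact h1.trans hs'
  refine FpqcAmpleFam.isAmple_of_pullback_family (f ∣_ V.1) (L.restrict (f ⁻¹ᵁ V.1).ι)
    (isInvertible_restrict _ hL)
    (fun i => ((e i).1 : Scheme.{u})) (fun i => ((pullback.snd f g) ⁻¹ᵁ (e i).1 : Scheme.{u}))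
    t p (fun i => (pullback.snd f g) ∣_ (e i).1) hsq hsurj ?_ ?_
  · intro i
    exact isAmple_of_iso (PbAmple.pbSquare (pullback.fst f g) ((pullback.snd f g) ⁻¹ᵁ (e i).1).ι
      (f ⁻¹ᵁ V.1).ι (p i) (hp i).symm L) (hamp' (e i))
  · intro hqs G hG hgg
    haveI := hqs
    haveI := hG
    exact hN (f ∣_ V.1) (fun i => ((e i).1 : Scheme.{u}))
      (fun i => ((pullback.snd f g) ⁻¹ᵁ (e i).1 : Scheme.{u})) t p
      (fun i => (pullback.snd f g) ∣_ (e i).1) hsq hsurj G hgg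

end Groth.Agent.Lib.Helper3.RelFpqc
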