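import Groth.Agent.Lib.Helper3.RelTildeMap

/-!
# Gluing morphisms of modules on a scheme over `Y` from chartwise descriptions

Abstract form of the construction of `RelTildeMap`: a module `G` identified, over the preimages
of the affine opens `U` of the base, with modules `T U`, and a family of morphisms `F ⟶ T U`
compatible along basic opens, give a unique morphism `F ⟶ G`.
-/

set_option autoImplicit false
set_option linter.unusedSectionVars false
universe u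
open CategoryTheory CategoryTheory.Limits AlgebraicGeometry TopologicalSpace Opposite
open Scheme.Modules

namespace Groth.Agent.Lib.Helper3.RelGlueHom

open QCSec InvGen

variable {Y P : Scheme.{u}} (p : P ⟶ Y) {F G : P.Modules}
  {T : ∀ (U : Y.Opens) (_ : IsAffineOpen U), P.Modules}
  (lam' : ∀ (U : Y.Opens) (hU : IsAffineOpen U), G ⟶ T U hU)
  (κ : ∀ (U : Y.Opens) (hU : IsAffineOpen U), F ⟶ T U hU)
  (hbij : ∀ (U : Y.Opens) (hU : IsAffineOpen U) (V : P.Opens), V ≤ p ⁻¹ᵁ U →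
    Function.Bijective ((lam' U hU).app V))

/-- the local definition of the glued morphism -/
noncomputable def Dmap (U : Y.Opens) (hU : IsAffineOpen U) (V : P.Opens) (hVU : V ≤ p ⁻¹ᵁ U)
    (s : Γ(F, V)) : Γ(G, V) :=
  (Equiv.ofBijective _ (hbij U hU V hVU)).symm ((κ U hU).app V s)

theorem Dmap_spec (U : Y.Opens) (hU : IsAffineOpen U) (V : P.Opens) (hVU : V ≤ p ⁻¹ᵁ U)
    (s : Γ(F, V)) :
    (lam' U hU).app V (Dmap p lam' κ hbij U hU V hVU s) = (κ U hU).app V s :=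
  (Equiv.ofBijective _ (hbij U hU V hVU)).apply_symm_apply _

theorem Dmap_unique (U : Y.Opens) (hU : IsAffineOpen U) (V : P.Opens) (hVU : V ≤ p ⁻¹ᵁ U)
    (s : Γ(F, V)) (t : Γ(G, V)) (ht : (lam' U hU).app V t = (κ U hU).app V s) :
    t = Dmap p lam' κ hbij U hU V hVU s :=
  (hbij U hU V hVU).1 (ht.trans (Dmap_spec p lam' κ hbij U hU V hVU s).symm)

theorem Dmap_add (U : Y.Opens) (hU : IsAffineOpen U) (V : P.Opens) (hVU : V ≤ p ⁻¹ᵁ U)
    (s s' : Γ(F, V)) :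
    Dmap p lam' κ hbij U hU V hVU (s + s') =
      Dmap p lam' κ hbij U hU V hVU s + Dmap p lam' κ hbij U hU V hVU s' := by
  refine (Dmap_unique p lam' κ hbij U hU V hVU _ _ ?_).symm
  rw [map_add, map_add, Dmap_spec, Dmap_spec]

theorem Dmap_smul (U : Y.Opens) (hU : IsAffineOpen U) (V : P.Opens) (hVU : V ≤ p ⁻¹ᵁ U)
    (a : Γ(P, V)) (s : Γ(F, V)) :
    Dmap p lam' κ hbij U hU V hVU (a • s) = a • Dmap p lam' κ hbij U hU V hVU s := by
  refine (Dmap_unique p lam' κ hbij U hU V hVU _ _ ?_).symm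
  rw [Scheme.Modules.Hom.app_smul, Scheme.Modules.Hom.app_smul, Dmap_spec]

theorem Dmap_res (U : Y.Opens) (hU : IsAffineOpen U) {V V' : P.Opens} (h : V' ≤ V)
    (hVU : V ≤ p ⁻¹ᵁ U) (s : Γ(F, V)) :
    res G h (Dmap p lam' κ hbij U hU V hVU s) =
      Dmap p lam' κ hbij U hU V' (h.trans hVU) (res F h s) := by
  refine Dmap_unique p lam' κ hbij U hU V' (h.trans hVU) _ _ ?_
  rw [QCExact.app_res', QCExact.app_res', Dmap_spec]

theorem Dmap_congr (U₁ U₂ : Y.Opens) (h : U₁ = U₂) (hU₁ : IsAffineOpen U₁)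
    (hU₂ : IsAffineOpen U₂) (V : P.Opens) (hV₁ : V ≤ p ⁻¹ᵁ U₁) (hV₂ : V ≤ p ⁻¹ᵁ U₂)
    (s : Γ(F, V)) :
    Dmap p lam' κ hbij U₁ hU₁ V hV₁ s = Dmap p lam' κ hbij U₂ hU₂ V hV₂ s := by
  subst h
  rfl

variable (hbasic : ∀ (U : Y.Opens) (hU : IsAffineOpen U) (r : Γ(Y, U)) (V : P.Opens)
    (_ : V ≤ p ⁻¹ᵁ Y.basicOpen r) (s : Γ(F, V)) (t : Γ(G, V)),
    (lam' U hU).app V t = (κ U hU).app V s →
      (lam' (Y.basicOpen r) (hU.basicOpen r)).app V t =
        (κ (Y.basicOpen r) (hU.basicOpen r)).app V s)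

include hbasic in
theorem Dmap_basicOpen (U : Y.Opens) (hU : IsAffineOpen U) (r : Γ(Y, U)) (V : P.Opens)
    (hV : V ≤ p ⁻¹ᵁ Y.basicOpen r) (s : Γ(F, V)) :
    Dmap p lam' κ hbij U hU V (hV.trans (p.preimage_mono (Y.basicOpen_le r))) s =
      Dmap p lam' κ hbij (Y.basicOpen r) (hU.basicOpen r) V hV s :=
  Dmap_unique p lam' κ hbij _ _ V hV s _
    (hbasic U hU r V hV s _ (Dmap_spec p lam' κ hbij U hU V _ s))

include hbasic in
/-- the local definition does not depend on the affine open -/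
theorem Dmap_indep (U U' : Y.Opens) (hU : IsAffineOpen U) (hU' : IsAffineOpen U') (V : P.Opens)
    (hV : V ≤ p ⁻¹ᵁ U) (hV' : V ≤ p ⁻¹ᵁ U') (s : Γ(F, V)) :
    Dmap p lam' κ hbij U hU V hV s = Dmap p lam' κ hbij U' hU' V hV' s := by
  have h0 : Dmap p lam' κ hbij U hU V hV s - Dmap p lam' κ hbij U' hU' V hV' s = 0 := by
    refine ModBasis.eq_zero_of_locally_zero G V _ (fun x hx => ?_)
    obtain ⟨r, r', hrr', hxr⟩ := exists_basicOpen_le_affine_inter hU hU' (p x) ⟨hV hx, hV' hx⟩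
    have hV₁ : V ⊓ p ⁻¹ᵁ Y.basicOpen r ≤ p ⁻¹ᵁ Y.basicOpen r := inf_le_right
    have hV₁' : V ⊓ p ⁻¹ᵁ Y.basicOpen r ≤ p ⁻¹ᵁ Y.basicOpen r' := by
      rw [← hrr']
      exact inf_le_right
    refine ⟨V ⊓ p ⁻¹ᵁ Y.basicOpen r, inf_le_left, ⟨hx, hxr⟩, ?_⟩
    rw [res_sub, Dmap_res, Dmap_res, Dmap_basicOpen p lam' κ hbij hbasic U hU r _ hV₁,
      Dmap_basicOpen p lam' κ hbij hbasic U' hU' r' _ hV₁',
      Dmap_congr p lam' κ hbij _ _ hrr' (hU.basicOpen r) (hU'.basicOpen r') _ hV₁ hV₁', sub_self]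
  exact sub_eq_zero.mp h0

include hbij hbasic in
/-- existence of the glued morphism, on the opens over affine opens of the base -/
theorem exists_hom_small : ∃ θ : F ⟶ G, ∀ (U : Y.Opens) (hU : IsAffineOpen U) (V : P.Opens),
    V ≤ p ⁻¹ᵁ U → ∀ s : Γ(F, V), (lam' U hU).app V (θ.app V s) = (κ U hU).app V s := by
  obtain ⟨φ, hφ⟩ := ModGlue.exists_hom_of_small (M := F) (N := G) (RelTildeMap.Small p)
    (fun {V V'} h hV => by
      obtain ⟨U, hU, hVU⟩ := hV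
      exact ⟨U, hU, h.trans hVU⟩)
    (fun x => by
      obtain ⟨U, hU, hxU⟩ := ProjQMap.exists_affine_mem (p x)
      exact ⟨p ⁻¹ᵁ U, ⟨U, hU, le_rfl⟩, hxU⟩)
    (fun V hV s => Dmap p lam' κ hbij hV.choose hV.choose_spec.1 V hV.choose_spec.2 s)
    (fun V hV s s' => Dmap_add p lam' κ hbij _ _ V _ s s')
    (fun V hV a s => Dmap_smul p lam' κ hbij _ _ V _ a s)
    (fun {V V'} h hV hV' s => by
      rw [Dmap_res]
      exact Dmap_indep p lam' κ hbij hbasic _ _ _ _ V' _ _ _)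
  refine ⟨φ, fun U hU V hVU s => ?_⟩
  have hS : RelTildeMap.Small p V := ⟨U, hU, hVU⟩
  have e1 : φ.app V s = Dmap p lam' κ hbij U hU V hVU s :=
    (hφ V hS s).trans (Dmap_indep p lam' κ hbij hbasic _ _ _ _ V _ _ _)
  rw [e1, Dmap_spec]

include hbij in
/-- uniqueness of the glued morphism -/
theorem hom_unique_small (θ θ' : F ⟶ G)
    (h : ∀ (U : Y.Opens) (hU : IsAffineOpen U) (V : P.Opens),
      V ≤ p ⁻¹ᵁ U → ∀ s : Γ(F, V), (lam' U hU).app V (θ.app V s) = (κ U hU).app V s)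
    (h' : ∀ (U : Y.Opens) (hU : IsAffineOpen U) (V : P.Opens),
      V ≤ p ⁻¹ᵁ U → ∀ s : Γ(F, V), (lam' U hU).app V (θ'.app V s) = (κ U hU).app V s) :
    θ = θ' := by
  refine ModGlue.hom_ext_of_small (RelTildeMap.Small p) RelTildeMap.small_cover θ θ'
    (fun V hV s => ?_)
  obtain ⟨U, hU, hVU⟩ := hV
  apply (hbij U hU V hVU).1
  exact (h U hU V hVU s).trans (h' U hU V hVU s).symm

end Groth.Agent.Lib.Helper3.RelGlueHom
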