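import Groth.Agent.Lib.Helper3.NormAlg
import Groth.Agent.Lib.Helper3.FreeBasis
import Groth.Agent.Lib.Helper3.PbAmple
import Groth.Agent.Lib.Helper3.InvAmple
import Groth.Agent.Lib.Helper3.RelAmpleLib
import Groth.Agent.S2324
import Groth.Agent.Lib.Helper3.InvRestrict

set_option autoImplicit false
universe u
open CategoryTheory CategoryTheory.Limits AlgebraicGeometry TopologicalSpace Opposite
open Scheme.Modules

namespace Groth.Agent.Lib.Helper3.RelNorm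

open QCSec InvGen InvTensor InvMonoidal InvAmple PbBasic NormAlg FreeBasis

variable {X X' : Scheme.{u}} (g : X' ⟶ X)

theorem preimage_mono' {W U : X.Opens} (h : W ≤ U) : g ⁻¹ᵁ W ≤ g ⁻¹ᵁ U := fun _ hx => h hx

/-- `e` is a basis of `g_* O_{X'}` over `U`, as a sheaf of `O_X`-modules. -/
def IsRelBasis (U : X.Opens) {r : ℕ} (e : Fin r → Γ(X', g ⁻¹ᵁ U)) : Prop :=
  ∀ (W : X.Opens) (hW : W ≤ U), Function.Bijective (fun a : Fin r → Γ(X, W) =>
    ∑ i, g.app W (a i) * rres X' (preimage_mono' g hW) (e i))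

theorem IsRelBasis.mono {U : X.Opens} {r : ℕ} {e : Fin r → Γ(X', g ⁻¹ᵁ U)}
    (he : IsRelBasis g U e) {U' : X.Opens} (h : U' ≤ U) :
    IsRelBasis g U' (fun i => rres X' (preimage_mono' g h) (e i)) := by
  intro W hW
  simp only [rres_rres]
  exact he W (hW.trans h)

/-- the algebra structure on `Γ(X', g⁻¹ W)` over `Γ(X, W)` -/
@[reducible] noncomputable def algW (W : X.Opens) : Algebra Γ(X, W) Γ(X', g ⁻¹ᵁ W) :=
  (g.app W).hom.toAlgebra

/-- the norm `Γ(X', g⁻¹ W) → Γ(X, W)` -/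
noncomputable def relNorm (W : X.Opens) (b : Γ(X', g ⁻¹ᵁ W)) : Γ(X, W) :=
  letI := algW g W
  Algebra.norm Γ(X, W) b

theorem relNorm_mul (W : X.Opens) (b b' : Γ(X', g ⁻¹ᵁ W)) :
    relNorm g W (b * b') = relNorm g W b * relNorm g W b' := by
  letI := algW g W
  exact map_mul (Algebra.norm Γ(X, W)) b b'

theorem relNorm_one (W : X.Opens) : relNorm g W 1 = 1 := by
  letI := algW g W
  exact map_one (Algebra.norm Γ(X, W))

theorem isUnit_relNorm (W : X.Opens) {b : Γ(X', g ⁻¹ᵁ W)} (hb : IsUnit b) :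
    IsUnit (relNorm g W b) := by
  letI := algW g W
  exact hb.map (Algebra.norm Γ(X, W))

/-- the Mathlib basis attached to a relative basis -/
noncomputable def IsRelBasis.basis {U : X.Opens} {r : ℕ} {e : Fin r → Γ(X', g ⁻¹ᵁ U)}
    (he : IsRelBasis g U e) (W : X.Opens) (hW : W ≤ U) :
    letI := algW g W
    Module.Basis (Fin r) Γ(X, W) Γ(X', g ⁻¹ᵁ W) :=
  letI := algW g W
  basisOfBijective (fun i => rres X' (preimage_mono' g hW) (e i)) (by
    have := he W hW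
    convert this using 2
    rfl)

theorem IsRelBasis.basis_apply {U : X.Opens} {r : ℕ} {e : Fin r → Γ(X', g ⁻¹ᵁ U)}
    (he : IsRelBasis g U e) (W : X.Opens) (hW : W ≤ U) (i : Fin r) :
    he.basis g W hW i = rres X' (preimage_mono' g hW) (e i) := by
  letI := algW g W
  exact basisOfBijective_apply _ _ i

theorem app_rres {W' W : X.Opens} (h : W' ≤ W) (a : Γ(X, W)) :
    g.app W' (rres X h a) = rres X' (preimage_mono' g h) (g.app W a) :=
  congr($(g.naturality (homOfLE h).op) a)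

theorem relNorm_app {U : X.Opens} {r : ℕ} {e : Fin r → Γ(X', g ⁻¹ᵁ U)}
    (he : IsRelBasis g U e) (W : X.Opens) (hW : W ≤ U) (a : Γ(X, W)) :
    relNorm g W (g.app W a) = a ^ r := by
  letI := algW g W
  have := Algebra.norm_algebraMap_of_basis (he.basis g W hW) a
  rw [Fintype.card_fin] at this
  exact this

theorem rres_relNorm {U : X.Opens} {r : ℕ} {e : Fin r → Γ(X', g ⁻¹ᵁ U)}
    (he : IsRelBasis g U e) {W' W : X.Opens} (hW' : W' ≤ W) (hW : W ≤ U)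
    (b : Γ(X', g ⁻¹ᵁ W)) :
    rres X hW' (relNorm g W b) = relNorm g W' (rres X' (preimage_mono' g hW') b) := by
  letI := algW g W
  letI := algW g W'
  exact (norm_map_of_bases (X.presheaf.map (homOfLE hW').op).hom
    (X'.presheaf.map (homOfLE (preimage_mono' g hW')).op).hom
    (fun a => (app_rres g hW' a).symm)
    (he.basis g W hW) (he.basis g W' (hW'.trans hW))
    (fun i => by
      rw [he.basis_apply, he.basis_apply]
      exact (rres_rres (preimage_mono' g hW') (preimage_mono' g hW) (e i)).symm) b).symm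

theorem dvd_app_relNorm {U : X.Opens} {r : ℕ} {e : Fin r → Γ(X', g ⁻¹ᵁ U)}
    (he : IsRelBasis g U e) (W : X.Opens) (hW : W ≤ U) (b : Γ(X', g ⁻¹ᵁ W)) :
    b ∣ g.app W (relNorm g W b) := by
  letI := algW g W
  haveI : Module.Free Γ(X, W) Γ(X', g ⁻¹ᵁ W) := Module.Free.of_basis (he.basis g W hW)
  haveI : Module.Finite Γ(X, W) Γ(X', g ⁻¹ᵁ W) := Module.Finite.of_basis (he.basis g W hW)
  exact dvd_algebraMap_norm b

/-- two relative bases over a nonempty open have the same size -/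
theorem IsRelBasis.card_eq {U U' : X.Opens} {r r' : ℕ} {e : Fin r → Γ(X', g ⁻¹ᵁ U)}
    {e' : Fin r' → Γ(X', g ⁻¹ᵁ U')} (he : IsRelBasis g U e) (he' : IsRelBasis g U' e')
    {z : X} (hz : z ∈ U) (hz' : z ∈ U') : r = r' := by
  letI := algW g (U ⊓ U')
  haveI : Nonempty ↥(U ⊓ U') := ⟨⟨z, hz, hz'⟩⟩
  exact card_eq_of_bases (he.basis g (U ⊓ U') inf_le_left) (he'.basis g (U ⊓ U') inf_le_right)

/-- over a nonempty open whose preimage is nonempty, the size of a relative basis is positive -/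
theorem IsRelBasis.pos {U : X.Opens} {r : ℕ} {e : Fin r → Γ(X', g ⁻¹ᵁ U)}
    (he : IsRelBasis g U e) {z' : X'} (hz' : g z' ∈ U) : 0 < r := by
  by_contra h
  obtain rfl : r = 0 := by omega
  haveI : Nonempty ↥(g ⁻¹ᵁ U) := ⟨⟨z', hz'⟩⟩
  have hb := he U le_rfl
  have h1 : (1 : Γ(X', g ⁻¹ᵁ U)) = 0 := by
    obtain ⟨a, ha⟩ := hb.2 1
    obtain ⟨a', ha'⟩ := hb.2 0
    have : a = a' := Subsingleton.elim _ _
    rw [← ha, ← ha', this]
  exact one_ne_zero h1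

theorem sec_eq_of_nonempty (M : X.Modules) (V : X.Opens) (a b : Γ(M, V))
    (h : ∀ z ∈ V, a = b) : a = b := by
  apply sec_eq_of_locally_eq M (fun _ : {z : X // z ∈ V} => V) V (fun _ => le_rfl)
    (fun z hz => Opens.mem_iSup.mpr ⟨⟨z, hz⟩, hz⟩)
  intro z
  rw [h z.1 z.2]

variable (L : X.Modules)

/-- a chart trivialising both `L` and `g_* O_{X'}` -/
structure Chart where
  /-- the open -/
  U : X.Opens
  /-- a generator of `L` -/
  ℓ : Γ(L, U)
  hℓ : IsGen L U ℓ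
  /-- the rank -/
  r : ℕ
  /-- a basis of `g_* O` -/
  e : Fin r → Γ(X', g ⁻¹ᵁ U)
  he : IsRelBasis g U e

variable {g L}

/-- the generator of `(g^*L)^m` over `g⁻¹ U` -/
noncomputable def Chart.lam (c : Chart g L) (m : ℕ) :
    Γ(CohB1.tensorPow ((Scheme.Modules.pullback g).obj L) m, g ⁻¹ᵁ c.U) :=
  lpow _ (pull g L c.U c.ℓ) m

theorem Chart.isGen_lam (c : Chart g L) (m : ℕ) :
    IsGen (CohB1.tensorPow ((Scheme.Modules.pullback g).obj L) m) (g ⁻¹ᵁ c.U) (c.lam m) :=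
  isGen_lpow (isGen_pull g c.hℓ) m

variable {m : ℕ}
  (s' : Coh.structureModule X' ⟶ CohB1.tensorPow ((Scheme.Modules.pullback g).obj L) m)

/-- the coordinate of `s'` in a chart -/
noncomputable def Chart.coord (c : Chart g L) : Γ(X', g ⁻¹ᵁ c.U) :=
  Classical.choose ((c.isGen_lam m).self.exists_coord (sec s' (g ⁻¹ᵁ c.U)))

theorem Chart.coord_spec (c : Chart g L) : c.coord s' • c.lam m = sec s' (g ⁻¹ᵁ c.U) :=
  Classical.choose_spec ((c.isGen_lam m).self.exists_coord (sec s' (g ⁻¹ᵁ c.U)))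

/-- the local norm of `s'` in a chart -/
noncomputable def Chart.nsec (c : Chart g L) (ρ : ℕ) : Γ(CohB1.tensorPow L (m * ρ), c.U) :=
  if c.r = ρ then relNorm g c.U (c.coord s') • lpow L c.ℓ (m * ρ) else 0

theorem Chart.nsec_compat (c c' : Chart g L) (ρ : ℕ) :
    res _ (inf_le_left : c.U ⊓ c'.U ≤ c.U) (c.nsec s' ρ) =
      res _ (inf_le_right : c.U ⊓ c'.U ≤ c'.U) (c'.nsec s' ρ) := by
  apply sec_eq_of_nonempty
  rintro z ⟨hz, hz'⟩
  have hr : c.r = c'.r := c.he.card_eq g c'.he hz hz'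
  unfold Chart.nsec
  by_cases hρ : c.r = ρ
  · have hρ' : c'.r = ρ := hr ▸ hρ
    rw [if_pos hρ, if_pos hρ']
    obtain ⟨u, hu, hue⟩ := (c.hℓ (c.U ⊓ c'.U) inf_le_left).exists_unit
      (c'.hℓ (c.U ⊓ c'.U) inf_le_right)
    have hlam : res _ (preimage_mono' g (inf_le_right : c.U ⊓ c'.U ≤ c'.U)) (c'.lam m) =
        (g.app (c.U ⊓ c'.U) u) ^ m •
          res _ (preimage_mono' g (inf_le_left : c.U ⊓ c'.U ≤ c.U)) (c.lam m) := by
      unfold Chart.lam
      rw [lpow_res, lpow_res, res_pull g L (inf_le_right : c.U ⊓ c'.U ≤ c'.U),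
        res_pull g L (inf_le_left : c.U ⊓ c'.U ≤ c.U), hue, pull_smul, lpow_smul]
    have hcoord : rres X' (preimage_mono' g (inf_le_left : c.U ⊓ c'.U ≤ c.U)) (c.coord s') =
        rres X' (preimage_mono' g (inf_le_right : c.U ⊓ c'.U ≤ c'.U)) (c'.coord s') *
          (g.app (c.U ⊓ c'.U) u) ^ m := by
      apply ((c.isGen_lam m) (g ⁻¹ᵁ (c.U ⊓ c'.U)) (preimage_mono' g inf_le_left)).smul_inj
      rw [← res_smul, c.coord_spec, res_sec, mul_smul, ← hlam, ← res_smul, c'.coord_spec, res_sec]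
    rw [res_smul, res_smul, rres_relNorm g c.he inf_le_left le_rfl,
      rres_relNorm g c'.he inf_le_right le_rfl, hcoord, relNorm_mul, ← map_pow,
      relNorm_app g c.he _ inf_le_left, lpow_res, lpow_res, hue, lpow_smul, ← mul_smul, hρ,
      pow_mul]
  · have hρ' : ¬ c'.r = ρ := hr ▸ hρ
    rw [if_neg hρ, if_neg hρ', res_zero, res_zero]

/-- the local norms glue to a global section of `L^{mρ}` -/
theorem exists_normSec (hcov : ∀ x : X, ∃ c : Chart g L, x ∈ c.U) (ρ : ℕ) :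
    ∃ s : Coh.structureModule X ⟶ CohB1.tensorPow L (m * ρ),
      ∀ c : Chart g L, sec s c.U = c.nsec s' ρ := by
  obtain ⟨τ, hτ⟩ := sec_glue (CohB1.tensorPow L (m * ρ)) (fun c : Chart g L => c.U) ⊤
    (fun _ => le_top)
    (fun x _ => by obtain ⟨c, hc⟩ := hcov x; exact Opens.mem_iSup.mpr ⟨c, hc⟩)
    (fun c => c.nsec s' ρ) (fun c c' => Chart.nsec_compat s' c c' ρ)
  refine ⟨globalHom _ τ, fun c => ?_⟩
  rw [sec_globalHom]
  exact hτ c

section locus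

variable {s'} {ρ : ℕ} {s : Coh.structureModule X ⟶ CohB1.tensorPow L (m * ρ)}
  (hs : ∀ c : Chart g L, sec s c.U = c.nsec s' ρ)
include hs

theorem genLocus_inf_chart (c : Chart g L) (hc : c.r = ρ) :
    CohB1.genLocus _ s ⊓ c.U = X.basicOpen (relNorm g c.U (c.coord s')) := by
  apply genLocus_inf_eq_basicOpen s (isGen_lpow c.hℓ (m * ρ))
  rw [hs c]
  unfold Chart.nsec
  rw [if_pos hc]

theorem genLocus_inf_chart_of_ne (c : Chart g L) (hc : c.r ≠ ρ) :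
    CohB1.genLocus _ s ⊓ c.U = ⊥ := by
  rw [genLocus_inf_eq_basicOpen s (isGen_lpow c.hℓ (m * ρ)) 0, Scheme.basicOpen_zero]
  rw [hs c]
  unfold Chart.nsec
  rw [if_neg hc, zero_smul]

omit hs in
theorem genLocus_inf_preimage_chart (c : Chart g L) :
    CohB1.genLocus _ s' ⊓ g ⁻¹ᵁ c.U = X'.basicOpen (c.coord s') :=
  genLocus_inf_eq_basicOpen s' (c.isGen_lam m) (c.coord s') (c.coord_spec s').symm

theorem preimage_genLocus_le (hcov : ∀ x : X, ∃ c : Chart g L, x ∈ c.U) :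
    g ⁻¹ᵁ CohB1.genLocus _ s ≤ CohB1.genLocus _ s' := by
  intro z' hz'
  obtain ⟨c, hc⟩ := hcov (g z')
  by_cases hr : c.r = ρ
  · have h1 : g z' ∈ X.basicOpen (relNorm g c.U (c.coord s')) := by
      rw [← genLocus_inf_chart hs c hr]
      exact ⟨hz', hc⟩
    have h2 : z' ∈ X'.basicOpen (g.app c.U (relNorm g c.U (c.coord s'))) := by
      rw [← Scheme.preimage_basicOpen]
      exact h1
    obtain ⟨q, hq⟩ := dvd_app_relNorm g c.he c.U le_rfl (c.coord s')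
    rw [hq, Scheme.basicOpen_mul] at h2
    have h3 : z' ∈ CohB1.genLocus _ s' ⊓ g ⁻¹ᵁ c.U := by
      rw [genLocus_inf_preimage_chart]
      exact h2.1
    exact h3.1
  · have h1 : g z' ∈ CohB1.genLocus _ s ⊓ c.U := ⟨hz', hc⟩
    rw [genLocus_inf_chart_of_ne hs c hr] at h1
    exact h1.elim

theorem mem_genLocus_of_chart (c : Chart g L) (hc : c.r = ρ)
    (hle : g ⁻¹ᵁ c.U ≤ CohB1.genLocus _ s') {x : X} (hx : x ∈ c.U) :
    x ∈ CohB1.genLocus _ s := by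
  have h1 : IsGen _ (g ⁻¹ᵁ c.U) (sec s' (g ⁻¹ᵁ c.U)) := isGen_sec_of_le s' hle
  obtain ⟨u, hu, hue⟩ := (c.isGen_lam m).self.exists_unit h1.self
  have h2 : c.coord s' = u := by
    apply (c.isGen_lam m).self.smul_inj
    rw [c.coord_spec, hue]
  have h3 : IsUnit (relNorm g c.U (c.coord s')) := by
    rw [h2]
    exact isUnit_relNorm g c.U hu
  have h4 : x ∈ CohB1.genLocus _ s ⊓ c.U := by
    rw [genLocus_inf_chart hs c hc, Scheme.basicOpen_of_isUnit _ h3]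
    exact hx
  exact h4.1

end locus

/-- **EGA II 6.6.1, absolute form**: if `g : X' ⟶ X` is finite surjective with `g_* O_{X'}`
finite locally free and `g^* L` is ample, then `L` is ample. -/
theorem isAmple_of_isAmple_pullback (g : X' ⟶ X) [IsFinite g] [Surjective g]
    (hB : ∀ x : X, ∃ (U : X.Opens) (r : ℕ) (e : Fin r → Γ(X', g ⁻¹ᵁ U)),
      x ∈ U ∧ IsRelBasis g U e)
    {L : X.Modules} (hL : PicF.IsInvertible L)
    (hA : CohB1.IsAmple ((Scheme.Modules.pullback g).obj L)) :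
    CohB1.IsAmple L := by
  haveI : CompactSpace X' := hA.2.1
  haveI := RelAmpleLib.isSeparated_of_isAmple hA
  haveI : CompactSpace X := ⟨by
    have := isCompact_range g.continuous
    rwa [g.surjective.range_eq] at this⟩
  have hcov : ∀ x : X, ∃ c : Chart g L, x ∈ c.U := by
    intro x
    obtain ⟨U, r, e, hxU, he⟩ := hB x
    obtain ⟨U₂, ℓ, hxU₂, hℓ⟩ := exists_isGen hL x
    exact ⟨⟨U ⊓ U₂, res L inf_le_right ℓ, hℓ.mono _, r, _, he.mono g inf_le_left⟩, ⟨hxU, hxU₂⟩⟩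
  apply isAmple_of_secLocus hL
  intro x
  obtain ⟨V, hV, hxV⟩ := QCProps.exists_affine_nbhd x
  have hfin : (g ⁻¹' {x}).Finite := g.finite_preimage_singleton x
  obtain ⟨n, s', hZs, hsV, -⟩ := Groth.Agent.S2324.result X' _ hA (g ⁻¹' {x}) hfin (g ⁻¹ᵁ V)
    (by
      intro z hz
      have : g z = x := hz
      change g z ∈ V
      rw [this]
      exact hxV)
  have hclosed : IsClosed (g '' ((CohB1.genLocus _ s' : Set X')ᶜ)) :=
    g.isClosedMap _ (CohB1.genLocus _ s').2.isClosed_compl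
  have hxC : x ∉ g '' ((CohB1.genLocus _ s' : Set X')ᶜ) := by
    rintro ⟨z, hz, hzx⟩
    exact hz (hZs hzx)
  let U₀ : X.Opens := ⟨(g '' ((CohB1.genLocus _ s' : Set X')ᶜ))ᶜ, hclosed.isOpen_compl⟩
  obtain ⟨c, hc⟩ := hcov x
  let c₀ : Chart g L := ⟨c.U ⊓ U₀, res L inf_le_left c.ℓ, c.hℓ.mono _, c.r, _,
    c.he.mono g inf_le_left⟩
  have hx₀ : x ∈ c₀.U := ⟨hc, hxC⟩
  have hle : g ⁻¹ᵁ c₀.U ≤ CohB1.genLocus _ s' := by
    intro z hz
    by_contra hzs
    exact hz.2 ⟨z, hzs, rfl⟩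
  obtain ⟨z', hz'⟩ := g.surjective x
  have hρ : 0 < c₀.r := c₀.he.pos g (z' := z') (by rw [hz']; exact hx₀)
  obtain ⟨s, hs⟩ := exists_normSec s' hcov c₀.r
  have hxs : x ∈ CohB1.genLocus _ s := mem_genLocus_of_chart hs c₀ rfl hle hx₀
  have hsV' : CohB1.genLocus _ s ≤ V := by
    intro z hz
    obtain ⟨w, rfl⟩ := g.surjective z
    exact hsV (preimage_genLocus_le hs hcov hz)
  refine ⟨CohB1.genLocus _ s, secLocus_of_pos (Nat.mul_pos (Nat.succ_pos n) hρ) s, hxs, ?_⟩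
  have := isAffineOpen_genLocus_inf (isInvertible_tensorPow hL _) s hV
  rwa [inf_eq_left.mpr hsV'] at this

/-! ### restriction to an open of the base -/

theorem surjective_morphismRestrict (g : X' ⟶ X) [Surjective g] (X₁ : X.Opens) :
    Surjective (g ∣_ X₁) := by
  constructor
  intro y
  obtain ⟨x', hx'⟩ := g.surjective y.1
  refine ⟨⟨x', show g x' ∈ X₁ from hx' ▸ y.2⟩, ?_⟩
  apply Subtype.ext
  rw [morphismRestrict_base_coe]
  exact hx'

theorem IsRelBasis.morphismRestrict {g : X' ⟶ X} {U : X.Opens} {r : ℕ}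
    {e : Fin r → Γ(X', g ⁻¹ᵁ U)} (he : IsRelBasis g U e) (X₁ : X.Opens)
    (hle : (g ⁻¹ᵁ X₁).ι ''ᵁ ((g ∣_ X₁) ⁻¹ᵁ (X₁.ι ⁻¹ᵁ U)) ≤ g ⁻¹ᵁ U) :
    IsRelBasis (g ∣_ X₁) (X₁.ι ⁻¹ᵁ U)
      (fun i => (show Γ(((g ⁻¹ᵁ X₁ : X'.Opens) : Scheme.{u}), (g ∣_ X₁) ⁻¹ᵁ (X₁.ι ⁻¹ᵁ U)) from
        rres X' hle (e i))) := by
  intro W₁ hW₁
  have hWU : X₁.ι ''ᵁ W₁ ≤ U := by
    rintro _ ⟨w, hw, rfl⟩
    exact hW₁ hw
  have heq : (g ⁻¹ᵁ X₁).ι ''ᵁ ((g ∣_ X₁) ⁻¹ᵁ W₁) = g ⁻¹ᵁ (X₁.ι ''ᵁ W₁) :=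
    image_morphismRestrict_preimage g X₁ W₁
  have hτ : Function.Bijective (X'.presheaf.map (eqToHom heq).op) :=
    (ConcreteCategory.isIso_iff_bijective _).mp inferInstance
  have key : (fun a : Fin r → Γ((X₁ : Scheme.{u}), W₁) =>
      ∑ i, (g ∣_ X₁).app W₁ (a i) * rres ((g ⁻¹ᵁ X₁ : X'.Opens) : Scheme.{u})
        (preimage_mono' (g ∣_ X₁) hW₁)
        (show Γ(((g ⁻¹ᵁ X₁ : X'.Opens) : Scheme.{u}), (g ∣_ X₁) ⁻¹ᵁ (X₁.ι ⁻¹ᵁ U)) from
          rres X' hle (e i))) =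
      (X'.presheaf.map (eqToHom heq).op) ∘ (fun a : Fin r → Γ(X, X₁.ι ''ᵁ W₁) =>
        ∑ i, g.app (X₁.ι ''ᵁ W₁) (a i) * rres X' (preimage_mono' g hWU) (e i)) := by
    funext a
    change _ = (X'.presheaf.map (eqToHom heq).op).hom _
    rw [map_sum]
    refine Finset.sum_congr rfl fun i _ => ?_
    rw [map_mul]
    congr 1
    · rw [morphismRestrict_app]
      rfl
    · change X'.presheaf.map _ (X'.presheaf.map _ (e i)) = X'.presheaf.map _ (X'.presheaf.map _ (e i))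
      rw [← ConcreteCategory.comp_apply, ← Functor.map_comp, ← ConcreteCategory.comp_apply,
        ← Functor.map_comp]
      rfl
  rw [key]
  exact hτ.comp (he _ hWU)

/-- a sheaf-theoretic basis of `g_* O_{X'}` is a relative basis -/
theorem isRelBasis_of_isBasis (g : X' ⟶ X) {U : X.Opens} {r : ℕ}
    {e : Fin r → Γ((Scheme.Modules.pushforward g).obj (Coh.structureModule X'), U)}
    (he : IsBasis ((Scheme.Modules.pushforward g).obj (Coh.structureModule X')) U e) :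
    IsRelBasis g U (fun i => (show Γ(X', g ⁻¹ᵁ U) from e i)) := by
  intro W hW
  exact he W hW

theorem exists_isRelBasis_of_isFinLocFree (g : X' ⟶ X)
    (hfree : FlatMod.IsFinLocFree ((Coh.push g).obj (Coh.structureModule X'))) (x : X) :
    ∃ (U : X.Opens) (r : ℕ) (e : Fin r → Γ(X', g ⁻¹ᵁ U)), x ∈ U ∧ IsRelBasis g U e := by
  obtain ⟨U, n, hxU, ⟨φ⟩⟩ := hfree x
  obtain ⟨e, he⟩ := exists_isBasis_of_iso φ
  exact ⟨U, n, _, hxU, isRelBasis_of_isBasis g he⟩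

/-- **EGA II 6.6.1**: let `g : X' ⟶ X` be finite surjective with `g_* O_{X'}` finite locally
free, and `L` an invertible module on `X`. If `g^* L` is ample relative to `g ≫ f`, then `L` is
ample relative to `f`. -/
theorem isRelAmple_of_isRelAmple_pullback {Y : Scheme.{u}} (f : X ⟶ Y) [QuasiCompact f]
    (g : X' ⟶ X) [IsFinite g] [Surjective g]
    (hfree : FlatMod.IsFinLocFree ((Coh.push g).obj (Coh.structureModule X')))
    {L : X.Modules} (hL : PicF.IsInvertible L)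
    (hA : RelAmple.IsRelAmple (g ≫ f) ((Scheme.Modules.pullback g).obj L)) :
    RelAmple.IsRelAmple f L := by
  refine ⟨inferInstance, fun V => ?_⟩
  have h1 : CohB1.IsAmple (((Scheme.Modules.pullback g).obj L).restrict
      (g ⁻¹ᵁ (f ⁻¹ᵁ V.1)).ι) := hA.2 V
  have h2 : CohB1.IsAmple ((Scheme.Modules.pullback (g ∣_ (f ⁻¹ᵁ V.1))).obj
      (L.restrict (f ⁻¹ᵁ V.1).ι)) :=
    isAmple_of_iso ((pbRestrict g (f ⁻¹ᵁ V.1)).app L) h1
  haveI := surjective_morphismRestrict g (f ⁻¹ᵁ V.1)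
  apply isAmple_of_isAmple_pullback (g ∣_ (f ⁻¹ᵁ V.1)) _ (InvRestrict.isInvertible_restrict _ hL) h2
  intro x₁
  obtain ⟨U, r, e, hxU, he⟩ := exists_isRelBasis_of_isFinLocFree g hfree x₁.1
  have hle : (g ⁻¹ᵁ (f ⁻¹ᵁ V.1)).ι ''ᵁ ((g ∣_ (f ⁻¹ᵁ V.1)) ⁻¹ᵁ ((f ⁻¹ᵁ V.1).ι ⁻¹ᵁ U)) ≤ g ⁻¹ᵁ U := by
    rw [image_morphismRestrict_preimage]
    rintro z ⟨w, hw, hwz⟩
    change g z ∈ U
    rw [← hwz]
    exact hw
  exact ⟨(f ⁻¹ᵁ V.1).ι ⁻¹ᵁ U, r, _, hxU, he.morphismRestrict (f ⁻¹ᵁ V.1) hle⟩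

end Groth.Agent.Lib.Helper3.RelNorm
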