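import Groth.Agent.Lib.Helper3.RelProjGlue

set_option autoImplicit false
universe u
open CategoryTheory CategoryTheory.Limits AlgebraicGeometry TopologicalSpace Opposite
open scoped HomogeneousIdeal

namespace Groth.Agent.Lib.Helper3.RelProjBasic

variable {Y P : Scheme.{u}} {𝒮 : RelProj.QCGrAlg Y} {p : P ⟶ Y}
  {chart : ∀ (U : Y.Opens) (hU : IsAffineOpen U),
    ((p ⁻¹ᵁ U : P.Opens) : Scheme.{u}) ≅ Proj (𝒮.deg U hU)}

/-- the restriction of a global section to an open -/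
noncomputable def resTop (𝒮 : RelProj.QCGrAlg Y) (f : 𝒮.presheaf.obj (op ⊤)) (U : Y.Opens) :
    𝒮.presheaf.obj (op U) :=
  (𝒮.presheaf.map (homOfLE (le_top : U ≤ ⊤)).op).hom f

theorem res_resTop (f : 𝒮.presheaf.obj (op ⊤)) {U V : Y.Opens} (i : V ≤ U) :
    (𝒮.presheaf.map (homOfLE i).op).hom (resTop 𝒮 f U) = resTop 𝒮 f V := by
  unfold resTop
  rw [← CommRingCat.comp_apply, ← Functor.map_comp]
  rfl

/-- pointwise membership in the transported basic open -/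
def Q (chart : ∀ (U : Y.Opens) (hU : IsAffineOpen U),
      ((p ⁻¹ᵁ U : P.Opens) : Scheme.{u}) ≅ Proj (𝒮.deg U hU))
    (f : 𝒮.presheaf.obj (op ⊤)) (U : Y.Opens) (hU : IsAffineOpen U) (x : P) : Prop :=
  ∃ hx : x ∈ p ⁻¹ᵁ U, (chart U hU).hom ⟨x, hx⟩ ∈ Proj.basicOpen (𝒮.deg U hU) (resTop 𝒮 f U)

theorem mem_piece_iff (f : 𝒮.presheaf.obj (op ⊤)) (U : Y.Opens) (hU : IsAffineOpen U) (x : P) :
    x ∈ (p ⁻¹ᵁ U).ι ''ᵁ ((chart U hU).hom ⁻¹ᵁ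
      Proj.basicOpen (𝒮.deg U hU) (resTop 𝒮 f U)) ↔ Q chart f U hU x := by
  constructor
  · rintro ⟨y, hy, rfl⟩
    exact ⟨y.2, hy⟩
  · rintro ⟨hx, h⟩
    exact ⟨⟨x, hx⟩, h, rfl⟩

theorem Q_basicOpen (hP : RelProj.IsRelProj 𝒮 p chart) (f : 𝒮.presheaf.obj (op ⊤))
    (U : Y.Opens) (hU : IsAffineOpen U) (r : Γ(Y, U)) (x : P) (hx : p x ∈ Y.basicOpen r) :
    Q chart f U hU x ↔ Q chart f (Y.basicOpen r) (hU.basicOpen r) x := by
  have hxU : x ∈ p ⁻¹ᵁ U := Y.basicOpen_le r hx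
  have hxr : x ∈ p ⁻¹ᵁ (Y.basicOpen r) := hx
  have key : (chart U hU).hom ⟨x, hxU⟩ =
      Proj.map (𝒮.res hU (hU.basicOpen r) (Y.basicOpen_le r)) (𝒮.irrelevant_le_map U hU r)
        ((chart (Y.basicOpen r) (hU.basicOpen r)).hom ⟨x, hxr⟩) := by
    have := congrArg (fun ψ : ((p ⁻¹ᵁ (Y.basicOpen r) : P.Opens) : Scheme.{u}) ⟶ _ => ψ ⟨x, hxr⟩)
      (hP.chart_res U hU r)
    simp only [Scheme.Hom.comp_apply] at this
    rw [← this, Scheme.homOfLE_apply']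
  have hmem : ∀ z : Proj (𝒮.deg (Y.basicOpen r) (hU.basicOpen r)),
      Proj.map (𝒮.res hU (hU.basicOpen r) (Y.basicOpen_le r)) (𝒮.irrelevant_le_map U hU r) z ∈
        Proj.basicOpen (𝒮.deg U hU) (resTop 𝒮 f U) ↔
      z ∈ Proj.basicOpen (𝒮.deg (Y.basicOpen r) (hU.basicOpen r))
        (resTop 𝒮 f (Y.basicOpen r)) := by
    intro z
    rw [← res_resTop f (Y.basicOpen_le r)]
    exact Iff.rfl
  constructor
  · rintro ⟨_, h⟩
    refine ⟨hxr, ?_⟩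
    rw [key] at h
    exact (hmem _).mp h
  · rintro ⟨_, h⟩
    refine ⟨hxU, ?_⟩
    rw [key]
    exact (hmem _).mpr h

theorem Q_congr (f : 𝒮.presheaf.obj (op ⊤)) {W W' : Y.Opens} (e : W = W')
    (hW : IsAffineOpen W) (hW' : IsAffineOpen W') (x : P) :
    Q chart f W hW x ↔ Q chart f W' hW' x := by
  subst e
  exact Iff.rfl

theorem Q_iff (hP : RelProj.IsRelProj 𝒮 p chart) (f : 𝒮.presheaf.obj (op ⊤))
    (U V : Y.Opens) (hU : IsAffineOpen U) (hV : IsAffineOpen V) (x : P) (hxU : p x ∈ U)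
    (hxV : p x ∈ V) : Q chart f U hU x ↔ Q chart f V hV x := by
  obtain ⟨a, b, hab, hxa⟩ := exists_basicOpen_le_affine_inter hU hV (p x) ⟨hxU, hxV⟩
  rw [Q_basicOpen hP f U hU a x hxa, Q_basicOpen hP f V hV b x (hab ▸ hxa)]
  exact Q_congr f hab _ _ x

theorem exists_basicOpen (hP : RelProj.IsRelProj 𝒮 p chart) {d : ℕ} (hd : 0 < d)
    (f : 𝒮.presheaf.obj (op ⊤))
    (hf : ∀ (U : Y.Opens) (hU : IsAffineOpen U),
      (𝒮.presheaf.map (homOfLE le_top).op).hom f ∈ 𝒮.deg U hU d) :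
    ∃ Xf : P.Opens,
      (∀ (U : Y.Opens) (hU : IsAffineOpen U),
        Xf ⊓ p ⁻¹ᵁ U =
          (p ⁻¹ᵁ U).ι ''ᵁ ((chart U hU).hom ⁻¹ᵁ
            Proj.basicOpen (𝒮.deg U hU) ((𝒮.presheaf.map (homOfLE le_top).op).hom f))) ∧
      IsAffineHom (Xf.ι ≫ p) := by
  let Xf : P.Opens := ⨆ U : Y.affineOpens, (p ⁻¹ᵁ U.1).ι ''ᵁ ((chart U.1 U.2).hom ⁻¹ᵁ
    Proj.basicOpen (𝒮.deg U.1 U.2) (resTop 𝒮 f U.1))
  have hXf : ∀ (U : Y.Opens) (hU : IsAffineOpen U),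
      Xf ⊓ p ⁻¹ᵁ U = (p ⁻¹ᵁ U).ι ''ᵁ ((chart U hU).hom ⁻¹ᵁ
        Proj.basicOpen (𝒮.deg U hU) (resTop 𝒮 f U)) := by
    intro U hU
    ext x
    rw [SetLike.mem_coe, SetLike.mem_coe, mem_piece_iff]
    constructor
    · rintro ⟨hx1, hx2⟩
      obtain ⟨V, hV⟩ := Opens.mem_iSup.mp hx1
      rw [mem_piece_iff] at hV
      exact (Q_iff hP f V.1 U V.2 hU x hV.1 hx2).mp hV
    · intro hx
      refine ⟨Opens.mem_iSup.mpr ⟨⟨U, hU⟩, ?_⟩, hx.1⟩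
      rw [mem_piece_iff]
      exact hx
  refine ⟨Xf, hXf, ⟨fun U hU => ?_⟩⟩
  rw [Scheme.Hom.comp_preimage, ← Xf.ι.isAffineOpen_iff_of_isOpenImmersion,
    Xf.ι.image_preimage_eq_opensRange_inf, Scheme.Opens.opensRange_ι, hXf U hU]
  refine IsAffineOpen.image_of_isOpenImmersion ?_ _
  refine IsAffineOpen.preimage_of_isIso ?_ _
  exact Proj.isAffineOpen_basicOpen _ _ (hf U hU) hd

end Groth.Agent.Lib.Helper3.RelProjBasic
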