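import Groth.Agent.Lib.Helper3.RelTilde
import Groth.Agent.Lib.Helper3.ModGlue

/-!
# The morphism of modules on a relative Proj induced by a homomorphism of graded modules
-/

set_option autoImplicit false
set_option linter.unusedSectionVars false
universe u
open CategoryTheory CategoryTheory.Limits AlgebraicGeometry TopologicalSpace Opposite
open Scheme.Modules

namespace Groth.Agent.Lib.Helper3.RelTildeMap

open QCSec InvGen GrModSec GrModExact

section general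

variable {A σ : Type u} [CommRing A] [SetLike σ A] [AddSubgroupClass σ A] {𝒜 : ℕ → σ} [GradedRing 𝒜]
  {M τ : Type u} [AddCommGroup M] [Module A M] [SetLike τ M] [AddSubgroupClass τ M] {ℳ : ℕ → τ}
  [SetLike.GradedSMul 𝒜 ℳ] {P : Scheme.{u}} (e : Proj 𝒜 ⟶ P) {n : ℤ}

/-- the value of a section of a direct image of `M(n)~` -/
theorem val_app_res {F : P.Modules}
    (φ : F ⟶ (Scheme.Modules.pushforward e).obj (GrMod.tilde 𝒜 ℳ n)) {W V : P.Opens} (h : V ≤ W)
    (s : Γ(F, W)) (y : (e ⁻¹ᵁ W : (Proj 𝒜).Opens)) (hy : y.1 ∈ e ⁻¹ᵁ V) :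
    GrMod.val (V := e ⁻¹ᵁ W) (φ.app W s) y =
      GrMod.val (V := e ⁻¹ᵁ V) (φ.app V (res F h s)) ⟨y.1, hy⟩ := by
  rw [QCExact.app_res']
  rfl

/-- two morphisms into a direct image of `M(n)~` which agree on sections over the opens contained
in an open containing the image agree -/
theorem hom_ext_pushforward {F : P.Modules} (O : P.Opens) (hO : ∀ y, e y ∈ O)
    (φ ψ : F ⟶ (Scheme.Modules.pushforward e).obj (GrMod.tilde 𝒜 ℳ n))
    (h : ∀ (V : P.Opens), V ≤ O → ∀ s : Γ(F, V), φ.app V s = ψ.app V s) : φ = ψ := by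
  apply Scheme.Modules.hom_ext
  intro W
  ext s
  refine val_ext (U := e ⁻¹ᵁ W) (fun y => ?_)
  have hy : y.1 ∈ e ⁻¹ᵁ (W ⊓ O) := ⟨y.2, hO y.1⟩
  rw [val_app_res e φ (inf_le_left : W ⊓ O ≤ W) s y hy, val_app_res e ψ inf_le_left s y hy,
    h _ inf_le_right]

end general

section rel

variable {Y P : Scheme.{u}} {𝒮 : RelProj.QCGrAlg Y} {p : P ⟶ Y}
  {chart : ∀ (U : Y.Opens) (hU : IsAffineOpen U),
    ((p ⁻¹ᵁ U : P.Opens) : Scheme.{u}) ≅ Proj (𝒮.deg U hU)}
  {ℳ 𝒩 : RelProj.GrModule 𝒮} (u : ℳ.mod ⟶ 𝒩.mod) (hu : RelProj.IsGrModHom u) (n : ℤ)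
  {F G : P.Modules}
  {lam : ∀ (U : Y.Opens) (hU : IsAffineOpen U),
    F ⟶ (Scheme.Modules.pushforward (RelProj.emb p chart U hU)).obj
      (GrMod.tilde (𝒮.deg U hU) (ℳ.deg U hU) n)}
  {lam' : ∀ (U : Y.Opens) (hU : IsAffineOpen U),
    G ⟶ (Scheme.Modules.pushforward (RelProj.emb p chart U hU)).obj
      (GrMod.tilde (𝒮.deg U hU) (𝒩.deg U hU) n)}

/-- the homomorphism over an affine open -/
abbrev uU (U : Y.Opens) : ℳ.mod.val.obj (op U) →ₗ[𝒮.presheaf.obj (op U)] 𝒩.mod.val.obj (op U) :=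
  (u.val.app (op U)).hom

/-- the chartwise morphism -/
noncomputable abbrev μ (U : Y.Opens) (hU : IsAffineOpen U) :
    (Scheme.Modules.pushforward (RelProj.emb p chart U hU)).obj
        (GrMod.tilde (𝒮.deg U hU) (ℳ.deg U hU) n) ⟶
      (Scheme.Modules.pushforward (RelProj.emb p chart U hU)).obj
        (GrMod.tilde (𝒮.deg U hU) (𝒩.deg U hU) n) :=
  (Scheme.Modules.pushforward (RelProj.emb p chart U hU)).map
    (GrMod.map (𝒮.deg U hU) (uU u U) (hu U hU) n)

variable (hG : RelProj.IsRelTilde 𝒮 p chart 𝒩 n G lam')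

/-- the local definition of the induced morphism -/
noncomputable def Dmap (U : Y.Opens) (hU : IsAffineOpen U) (V : P.Opens) (hVU : V ≤ p ⁻¹ᵁ U)
    (s : Γ(F, V)) : Γ(G, V) :=
  (Equiv.ofBijective _ (hG.bijective U hU V hVU)).symm
    ((μ (chart := chart) u hu n U hU).app V ((lam U hU).app V s))

theorem Dmap_spec (U : Y.Opens) (hU : IsAffineOpen U) (V : P.Opens) (hVU : V ≤ p ⁻¹ᵁ U)
    (s : Γ(F, V)) :
    (lam' U hU).app V (Dmap u hu n hG (lam := lam) U hU V hVU s) =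
      (μ (chart := chart) u hu n U hU).app V ((lam U hU).app V s) :=
  (Equiv.ofBijective _ (hG.bijective U hU V hVU)).apply_symm_apply _

theorem Dmap_unique (U : Y.Opens) (hU : IsAffineOpen U) (V : P.Opens) (hVU : V ≤ p ⁻¹ᵁ U)
    (s : Γ(F, V)) (t : Γ(G, V))
    (ht : (lam' U hU).app V t = (μ (chart := chart) u hu n U hU).app V ((lam U hU).app V s)) :
    t = Dmap u hu n hG (lam := lam) U hU V hVU s :=
  (hG.bijective U hU V hVU).1 (ht.trans (Dmap_spec u hu n hG U hU V hVU s).symm)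

theorem Dmap_add (U : Y.Opens) (hU : IsAffineOpen U) (V : P.Opens) (hVU : V ≤ p ⁻¹ᵁ U)
    (s s' : Γ(F, V)) :
    Dmap u hu n hG (lam := lam) U hU V hVU (s + s') =
      Dmap u hu n hG (lam := lam) U hU V hVU s + Dmap u hu n hG (lam := lam) U hU V hVU s' := by
  refine (Dmap_unique u hu n hG U hU V hVU _ _ ?_).symm
  rw [map_add, map_add, map_add, Dmap_spec, Dmap_spec]

theorem Dmap_smul (U : Y.Opens) (hU : IsAffineOpen U) (V : P.Opens) (hVU : V ≤ p ⁻¹ᵁ U)
    (a : Γ(P, V)) (s : Γ(F, V)) :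
    Dmap u hu n hG (lam := lam) U hU V hVU (a • s) =
      a • Dmap u hu n hG (lam := lam) U hU V hVU s := by
  refine (Dmap_unique u hu n hG U hU V hVU _ _ ?_).symm
  rw [Scheme.Modules.Hom.app_smul, Scheme.Modules.Hom.app_smul, Scheme.Modules.Hom.app_smul,
    Dmap_spec]

theorem Dmap_res (U : Y.Opens) (hU : IsAffineOpen U) {V V' : P.Opens} (h : V' ≤ V)
    (hVU : V ≤ p ⁻¹ᵁ U) (s : Γ(F, V)) :
    res G h (Dmap u hu n hG (lam := lam) U hU V hVU s) =
      Dmap u hu n hG (lam := lam) U hU V' (h.trans hVU) (res F h s) := by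
  refine Dmap_unique u hu n hG U hU V' (h.trans hVU) _ _ ?_
  rw [QCExact.app_res', QCExact.app_res', QCExact.app_res', Dmap_spec]

/-- commutation of the localized maps with restriction -/
theorem locModMap_locMap {U V : Y.Opens} (hU : IsAffineOpen U) (hV : IsAffineOpen V) (i : V ≤ U)
    (hirr : HomogeneousIdeal.irrelevant (𝒮.deg V hV) ≤
      (HomogeneousIdeal.irrelevant (𝒮.deg U hU)).map (𝒮.res hU hV i))
    (y : ProjectiveSpectrum (𝒮.deg V hV))
    (q : GrMod.LocMod (𝒮.deg U hU) (M := ℳ.mod.val.obj (op U))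
      (ProjectiveSpectrum.comap (𝒮.res hU hV i) hirr y)) :
    GrMod.locModMap (𝒮.res hU hV i) hirr (𝒩.res hU hV i) y (GrMod.locMap (uU u U) _ q) =
      GrMod.locMap (uU u V) y (GrMod.locModMap (𝒮.res hU hV i) hirr (ℳ.res hU hV i) y q) := by
  induction q using LocalizedModule.induction_on with
  | h m s =>
    rw [GrMod.locMap_mk, GrMod.locModMap_mk, GrMod.locModMap_mk, GrMod.locMap_mk]
    congr 1
    exact (PresheafOfModules.naturality_apply u.val (homOfLE i).op m).symm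

variable (hP : RelProj.IsRelProj 𝒮 p chart) (hF : RelProj.IsRelTilde 𝒮 p chart ℳ n F lam)

include hP in
theorem emb_comap_mem (U : Y.Opens) (hU : IsAffineOpen U) (r : Γ(Y, U)) (V : P.Opens)
    (y : ProjectiveSpectrum (𝒮.deg (Y.basicOpen r) (hU.basicOpen r)))
    (hy : (RelProj.emb p chart (Y.basicOpen r) (hU.basicOpen r)).base y ∈ V) :
    (RelProj.emb p chart U hU).base (ProjectiveSpectrum.comap
      (𝒮.res hU (hU.basicOpen r) (Y.basicOpen_le r)) (𝒮.irrelevant_le_map U hU r) y) ∈ V := by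
  have e := RelProj.map_res_emb hP U hU r
  have e' : (Proj.map (𝒮.res hU (hU.basicOpen r) (Y.basicOpen_le r))
      (𝒮.irrelevant_le_map U hU r) ≫ RelProj.emb p chart U hU).base y =
      (RelProj.emb p chart (Y.basicOpen r) (hU.basicOpen r)).base y := by rw [e]
  rw [← e'] at hy
  exact hy

include hP hF in
/-- the local definitions over `U` and over a basic open of `U` agree -/
theorem Dmap_basicOpen (U : Y.Opens) (hU : IsAffineOpen U) (r : Γ(Y, U)) (V : P.Opens)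
    (hV : V ≤ p ⁻¹ᵁ Y.basicOpen r) (s : Γ(F, V)) :
    Dmap u hu n hG (lam := lam) U hU V (hV.trans (p.preimage_mono (Y.basicOpen_le r))) s =
      Dmap u hu n hG (lam := lam) (Y.basicOpen r) (hU.basicOpen r) V hV s := by
  refine Dmap_unique u hu n hG _ _ V hV s _ ?_
  refine val_ext (U := RelProj.emb p chart (Y.basicOpen r) (hU.basicOpen r) ⁻¹ᵁ V) (fun y => ?_)
  have hy : (RelProj.emb p chart (Y.basicOpen r) (hU.basicOpen r)).base y.1 ∈ V := y.2
  have hy' := emb_comap_mem hP U hU r V y.1 hy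
  have c1 := hG.compat U hU r V
    (Dmap u hu n hG (lam := lam) U hU V (hV.trans (p.preimage_mono (Y.basicOpen_le r))) s)
    y.1 hy hy'
  have c2 := hF.compat U hU r V s y.1 hy hy'
  refine c1.trans ?_
  rw [Dmap_spec]
  refine (locModMap_locMap u hU (hU.basicOpen r) (Y.basicOpen_le r)
    (𝒮.irrelevant_le_map U hU r) y.1 _).trans ?_
  exact congrArg (GrMod.locMap (uU u (Y.basicOpen r)) y.1) c2.symm

theorem Dmap_congr (U₁ U₂ : Y.Opens) (h : U₁ = U₂) (hU₁ : IsAffineOpen U₁)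
    (hU₂ : IsAffineOpen U₂) (V : P.Opens) (hV₁ : V ≤ p ⁻¹ᵁ U₁) (hV₂ : V ≤ p ⁻¹ᵁ U₂)
    (s : Γ(F, V)) :
    Dmap u hu n hG (lam := lam) U₁ hU₁ V hV₁ s = Dmap u hu n hG (lam := lam) U₂ hU₂ V hV₂ s := by
  subst h
  rfl

include hP hF in
/-- the local definition does not depend on the affine open -/
theorem Dmap_indep (U U' : Y.Opens) (hU : IsAffineOpen U) (hU' : IsAffineOpen U') (V : P.Opens)
    (hV : V ≤ p ⁻¹ᵁ U) (hV' : V ≤ p ⁻¹ᵁ U') (s : Γ(F, V)) :
    Dmap u hu n hG (lam := lam) U hU V hV s = Dmap u hu n hG (lam := lam) U' hU' V hV' s := by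
  have h0 : Dmap u hu n hG (lam := lam) U hU V hV s -
      Dmap u hu n hG (lam := lam) U' hU' V hV' s = 0 := by
    refine ModBasis.eq_zero_of_locally_zero G V _ (fun x hx => ?_)
    obtain ⟨r, r', hrr', hxr⟩ := exists_basicOpen_le_affine_inter hU hU' (p x) ⟨hV hx, hV' hx⟩
    have hV₁ : V ⊓ p ⁻¹ᵁ Y.basicOpen r ≤ p ⁻¹ᵁ Y.basicOpen r := inf_le_right
    have hV₁' : V ⊓ p ⁻¹ᵁ Y.basicOpen r ≤ p ⁻¹ᵁ Y.basicOpen r' := by
      rw [← hrr']
      exact inf_le_right
    refine ⟨V ⊓ p ⁻¹ᵁ Y.basicOpen r, inf_le_left, ⟨hx, hxr⟩, ?_⟩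
    rw [res_sub, Dmap_res, Dmap_res, Dmap_basicOpen u hu n hG hP hF U hU r _ hV₁,
      Dmap_basicOpen u hu n hG hP hF U' hU' r' _ hV₁',
      Dmap_congr u hu n hG _ _ hrr' (hU.basicOpen r) (hU'.basicOpen r') _ hV₁ hV₁', sub_self]
  exact sub_eq_zero.mp h0

variable (p) in
/-- the opens lying over an affine open of the base -/
def Small (V : P.Opens) : Prop := ∃ U : Y.Opens, IsAffineOpen U ∧ V ≤ p ⁻¹ᵁ U

theorem small_cover (W : P.Opens) (x : P) (hx : x ∈ W) :
    ∃ V : P.Opens, Small p V ∧ x ∈ V ∧ V ≤ W := by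
  obtain ⟨U, hU, hxU⟩ := ProjQMap.exists_affine_mem (p x)
  exact ⟨W ⊓ p ⁻¹ᵁ U, ⟨U, hU, inf_le_right⟩, ⟨hx, hxU⟩, inf_le_left⟩

include hP hF hG in
/-- existence of the induced morphism -/
theorem exists_map : ∃ ut : F ⟶ G, ∀ (U : Y.Opens) (hU : IsAffineOpen U),
    ut ≫ lam' U hU = lam U hU ≫ μ (chart := chart) u hu n U hU := by
  obtain ⟨φ, hφ⟩ := ModGlue.exists_hom_of_small (M := F) (N := G) (Small p)
    (fun {V V'} h hV => by
      obtain ⟨U, hU, hVU⟩ := hV
      exact ⟨U, hU, h.trans hVU⟩)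
    (fun x => by
      obtain ⟨U, hU, hxU⟩ := ProjQMap.exists_affine_mem (p x)
      exact ⟨p ⁻¹ᵁ U, ⟨U, hU, le_rfl⟩, hxU⟩)
    (fun V hV s => Dmap u hu n hG (lam := lam) hV.choose hV.choose_spec.1 V hV.choose_spec.2 s)
    (fun V hV s s' => Dmap_add u hu n hG _ _ V _ s s')
    (fun V hV a s => Dmap_smul u hu n hG _ _ V _ a s)
    (fun {V V'} h hV hV' s => by
      rw [Dmap_res]
      exact Dmap_indep u hu n hG hP hF _ _ _ _ V' _ _ _)
  refine ⟨φ, fun U hU => ?_⟩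
  refine hom_ext_pushforward (RelProj.emb p chart U hU) (p ⁻¹ᵁ U) (fun y => ?_) _ _
    (fun V hVU s => ?_)
  · have : RelProj.emb p chart U hU y ∈ (RelProj.emb p chart U hU).opensRange := ⟨y, rfl⟩
    rw [ProjQMap.opensRange_emb] at this
    exact this
  · have hS : Small p V := ⟨U, hU, hVU⟩
    have e1 : φ.app V s = Dmap u hu n hG (lam := lam) U hU V hVU s :=
      (hφ V hS s).trans (Dmap_indep u hu n hG hP hF _ _ _ _ V _ _ _)
    change (lam' U hU).app V (φ.app V s) =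
      (μ (chart := chart) u hu n U hU).app V ((lam U hU).app V s)
    rw [e1, Dmap_spec]

include hG in
/-- uniqueness of the induced morphism -/
theorem map_unique (ut ut' : F ⟶ G)
    (h : ∀ (U : Y.Opens) (hU : IsAffineOpen U),
      ut ≫ lam' U hU = lam U hU ≫ μ (chart := chart) u hu n U hU)
    (h' : ∀ (U : Y.Opens) (hU : IsAffineOpen U),
      ut' ≫ lam' U hU = lam U hU ≫ μ (chart := chart) u hu n U hU) : ut = ut' := by
  refine ModGlue.hom_ext_of_small (Small p) small_cover ut ut' (fun V hV s => ?_)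
  obtain ⟨U, hU, hVU⟩ := hV
  apply (hG.bijective U hU V hVU).1
  have e1 : (lam' U hU).app V (ut.app V s) = _ := congrArg (fun φ => φ.app V s) (h U hU)
  have e2 : (lam' U hU).app V (ut'.app V s) = _ := congrArg (fun φ => φ.app V s) (h' U hU)
  exact e1.trans e2.symm

end rel

end Groth.Agent.Lib.Helper3.RelTildeMap
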