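import Groth.Agent.Lib.Helper3.SecFam

/-!
# Base change of the twisting sheaves `O(n)` on `Proj`, gradings by additive subgroups;
transport of base change maps along isomorphisms of rings
-/

set_option autoImplicit false
set_option linter.unusedSectionVars false
universe u
open CategoryTheory CategoryTheory.Limits AlgebraicGeometry TopologicalSpace Opposite
open Scheme.Modules HomogeneousLocalization
open scoped HomogeneousIdeal

namespace Groth.Agent.Lib.Helper3.TwistFamBC2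

open QCSec GrModSec GrModExact Groth.Agent.Lib.Helper17.UnitBC SecFam

section transport

/-- transport of a base change map along isomorphisms of the rings and modules -/
theorem isBCHom_transport
    {T T' T₀ T₀' : Type u} [CommRing T] [CommRing T'] [CommRing T₀] [CommRing T₀']
    {M N M₀ N₀ : Type u} [AddCommGroup M] [Module T M] [AddCommGroup N] [Module T' N]
    [AddCommGroup M₀] [Module T₀ M₀] [AddCommGroup N₀] [Module T₀' N₀]
    (ρ : T →+* T') (ρ₀ : T₀ →+* T₀') (eT : T ≃+* T₀) (eT' : T' ≃+* T₀')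
    (hsq : ∀ t, eT' (ρ t) = ρ₀ (eT t))
    (β : M →+ N) (hβ : ∀ t m, β (t • m) = ρ t • β m)
    (β₀ : M₀ → N₀) (eM : M ≃+ M₀) (eN : N ≃+ N₀)
    (heM : ∀ t m, eM (t • m) = eT t • eM m) (heN : ∀ t' y, eN (t' • y) = eT' t' • eN y)
    (hcomm : ∀ m, eN (β m) = β₀ (eM m))
    (h₀ : IsBCHom ρ₀ β₀) : IsBCHom ρ (fun m => β m) := by
  letI algρ : Algebra T T' := ρ.toAlgebra
  letI mTN : Module T N := Module.compHom N ρ
  haveI st : IsScalarTower T T' N := IsScalarTower.of_algebraMap_smul fun _ _ => rfl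
  letI algρ₀ : Algebra T₀ T₀' := ρ₀.toAlgebra
  letI mTN₀ : Module T₀ N₀ := Module.compHom N₀ ρ₀
  haveI st₀ : IsScalarTower T₀ T₀' N₀ := IsScalarTower.of_algebraMap_smul fun _ _ => rfl
  obtain ⟨lin₀, hlin₀, hbc₀⟩ := h₀
  let lin : M →ₗ[T] N :=
    { toFun := β
      map_add' := map_add β
      map_smul' := fun t m => hβ t m }
  refine ⟨lin, fun m => rfl, ?_⟩
  apply IsBaseChange.of_lift_unique
  intro Q _ _ _ _ g
  letI mQ₀' : Module T₀' Q := Module.compHom Q (eT'.symm : T₀' →+* T')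
  letI mQ₀ : Module T₀ Q := Module.compHom Q ((eT'.symm : T₀' →+* T').comp ρ₀)
  haveI stQ : IsScalarTower T₀ T₀' Q := IsScalarTower.of_algebraMap_smul fun _ _ => rfl
  have hTQ : ∀ (t : T) (q : Q), t • q = ρ t • q := fun t q => (algebraMap_smul T' t q).symm
  have hsymM : ∀ (t₀ : T₀) (m₀ : M₀), eM.symm (t₀ • m₀) = eT.symm t₀ • eM.symm m₀ := by
    intro t₀ m₀
    apply eM.injective
    rw [heM, AddEquiv.apply_symm_apply, RingEquiv.apply_symm_apply, AddEquiv.apply_symm_apply]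
  have hsymN : ∀ (t₀' : T₀') (y₀ : N₀), eN.symm (t₀' • y₀) = eT'.symm t₀' • eN.symm y₀ := by
    intro t₀' y₀
    apply eN.injective
    rw [heN, AddEquiv.apply_symm_apply, RingEquiv.apply_symm_apply, AddEquiv.apply_symm_apply]
  have hsq' : ∀ t₀ : T₀, eT'.symm (ρ₀ t₀) = ρ (eT.symm t₀) := by
    intro t₀
    apply eT'.injective
    rw [RingEquiv.apply_symm_apply, hsq, RingEquiv.apply_symm_apply]
  let g₀ : M₀ →ₗ[T₀] Q :=
    { toFun := fun m₀ => g (eM.symm m₀)
      map_add' := fun x y => by rw [map_add, map_add]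
      map_smul' := fun t₀ m₀ => by
        change g (eM.symm (t₀ • m₀)) = eT'.symm (ρ₀ t₀) • g (eM.symm m₀)
        rw [hsymM, g.map_smul, hTQ, hsq'] }
  let g₁ : N₀ →ₗ[T₀'] Q := hbc₀.lift g₀
  have hg₁ : ∀ m₀, g₁ (lin₀ m₀) = g₀ m₀ := fun m₀ => hbc₀.lift_eq g₀ m₀
  have hβsym : ∀ m₀ : M₀, eN.symm (lin₀ m₀) = β (eM.symm m₀) := by
    intro m₀
    apply eN.injective
    rw [AddEquiv.apply_symm_apply, hcomm, AddEquiv.apply_symm_apply, hlin₀]
  let g' : N →ₗ[T'] Q :=
    { toFun := fun y => g₁ (eN y)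
      map_add' := fun y y' => by rw [map_add, map_add]
      map_smul' := fun t' y => by
        change g₁ (eN (t' • y)) = t' • g₁ (eN y)
        rw [heN, g₁.map_smul]
        change eT'.symm (eT' t') • g₁ (eN y) = _
        rw [RingEquiv.symm_apply_apply] }
  refine ⟨g', ?_, ?_⟩
  · ext m
    change g₁ (eN (β m)) = g m
    rw [hcomm, ← hlin₀, hg₁]
    change g (eM.symm (eM m)) = g m
    rw [AddEquiv.symm_apply_apply]
  · intro g'' hg''
    have hg''m : ∀ m, g'' (β m) = g m := fun m => LinearMap.congr_fun hg'' m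
    let G : N₀ →ₗ[T₀'] Q :=
      { toFun := fun y₀ => g'' (eN.symm y₀)
        map_add' := fun x y => by rw [map_add, map_add]
        map_smul' := fun t₀' y₀ => by
          change g'' (eN.symm (t₀' • y₀)) = eT'.symm t₀' • g'' (eN.symm y₀)
          rw [hsymN, g''.map_smul] }
    have hG : G = g₁ := hbc₀.algHom_ext G g₁ (fun m₀ => by
      change g'' (eN.symm (lin₀ m₀)) = g₁ (lin₀ m₀)
      rw [hg₁, hβsym, hg''m]
      rfl)
    ext y
    change g'' y = g₁ (eN y)
    rw [← hG]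
    change g'' y = g'' (eN.symm (eN y))
    rw [AddEquiv.symm_apply_apply]

end transport

section bc

variable {R' R B A : Type u} [CommRing R'] [CommRing R] [CommRing B] [CommRing A]
  {σ' σ : Type u} [SetLike σ' B] [AddSubgroupClass σ' B] {ℬ : ℕ → σ'} [GradedRing ℬ]
  [SetLike σ A] [AddSubgroupClass σ A] {𝒜 : ℕ → σ} [GradedRing 𝒜]
  (a : R' →+* R) (b : R' →+* B) (c : R →+* A) (φ : ℬ →+*ᵍ 𝒜)
  (hb : ∀ r, b r ∈ ℬ 0) (hc : ∀ r, c r ∈ 𝒜 0)
  (hpo : IsPushout (CommRingCat.ofHom a) (CommRingCat.ofHom b) (CommRingCat.ofHom c)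
    (CommRingCat.ofHom φ.toRingHom))
  (hφ : 𝒜₊ ≤ (ℬ₊).map φ) (n : ℤ)

include hb hc hpo in
theorem isBCHom_secMap_of_isPushout {d : ℕ} (hd : 0 < d) {g : B} (hg : g ∈ ℬ d) :
    IsBCHom ((Proj.map φ hφ).appLE (Proj.basicOpen ℬ g) (Proj.basicOpen 𝒜 (φ g)) (by rfl)).hom
      (fun m => GrComapCrit.secMap φ hφ ℬ 𝒜 (GrComapCrit.ψlin φ) (GrComapCrit.ψlin_mem φ)
        n g m) := by
  have hsq : ∀ r, φ (b r) = c (a r) := fun r =>
    (congrArg (fun t => t.hom r) hpo.w).symm
  letI iR : Algebra R' R := a.toAlgebra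
  letI iB : Algebra R' B := b.toAlgebra
  letI iA : Algebra R A := c.toAlgebra
  letI iA' : Algebra R' A := (c.comp a).toAlgebra
  letI iBA : Algebra B A := φ.toRingHom.toAlgebra
  haveI : IsScalarTower R' R A := IsScalarTower.of_algebraMap_eq (fun r => rfl)
  haveI : IsScalarTower R' B A := IsScalarTower.of_algebraMap_eq (fun r => (hsq r).symm)
  haveI hP : Algebra.IsPushout R' R B A := CommRingCat.isPushout_iff_isPushout.mp hpo
  have hφg : φ g ∈ 𝒜 d := φ.map_mem hg
  have hb0' : ∀ r : R', b r ∈ ℬ (0 • d) := fun r => by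
    rw [zero_smul]
    exact hb r
  have hc0' : ∀ r : R, c r ∈ 𝒜 (0 • d) := fun r => by
    rw [zero_smul]
    exact hc r
  let σ' : ℕ → ℕ → B →ₗ[R'] B := fun e k =>
    { toFun := fun x => g ^ e * dec ℬ (idx n d k) x
      map_add' := fun x y => by rw [dec_add, mul_add]
      map_smul' := fun r x => by
        rw [RingHom.id_apply, Algebra.smul_def, Algebra.smul_def]
        change g ^ e * dec ℬ (idx n d k) (b r * x) = b r * (g ^ e * dec ℬ (idx n d k) x)
        have h1 : dec ℬ (idx n d k) (b r * x) = b r * dec ℬ (idx n d k) x :=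
          dec_smul_zero ℬ (hb r) (idx n d k) x
        rw [h1, mul_left_comm] }
  let τ' : ℕ → ℕ → A →ₗ[R] A := fun e k =>
    { toFun := fun x => φ g ^ e * dec 𝒜 (idx n d k) x
      map_add' := fun x y => by rw [dec_add, mul_add]
      map_smul' := fun r x => by
        rw [RingHom.id_apply, Algebra.smul_def, Algebra.smul_def]
        change φ g ^ e * dec 𝒜 (idx n d k) (c r * x) = c r * (φ g ^ e * dec 𝒜 (idx n d k) x)
        have h1 : dec 𝒜 (idx n d k) (c r * x) = c r * dec 𝒜 (idx n d k) x :=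
          dec_smul_zero 𝒜 (hc r) (idx n d k) x
        rw [h1, mul_left_comm] }
  refine FamilyBC.isBCHom_of_family (R' := R') (R := R) (B := B) (A := A)
    (ι g b hb) (ι (φ g) c hc) _ ?_ ?_
    (IsScalarTower.toAlgHom R' B A).toLinearMap Algebra.IsPushout.out
    (GrComapCrit.secMap φ hφ ℬ 𝒜 (GrComapCrit.ψlin φ) (GrComapCrit.ψlin_mem φ) n g)
    (GrComapCrit.secMap_smul φ hφ ℬ 𝒜 _ _ n g)
    (fun k => secFam ℬ hd hg n k) ?_
    (fun k => secFam 𝒜 hd hφg n k) ?_
    ?_ (secFam_surj ℬ hd hg n) (secFam_surj 𝒜 hd hφg n)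
    (fun e => LinearMap.mulLeft R' (g ^ e)) ?_
    σ' τ' ?_ ?_ ?_
  · -- hsq
    intro r
    rw [ι_eq_mk hg _ hb r (hb0' r), appLE_awayToSection φ hφ hg, Away.map_mk]
    change _ = ι (φ g) c hc (a r)
    rw [ι_eq_mk hφg _ hc (a r) (hc0' _)]
    congr 1
    apply awayMk_congr
    exact hsq r
  · -- hT
    intro t'
    refine mem_closure φ hφ c hc hd hg ?_ t'
    intro P h0 hφP hsmul hadd y
    refine (Algebra.IsPushout.out (R := R') (S := R) (R' := B) (S' := A)).inductionOn y P h0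
      (fun x => ?_) (fun r y hy => ?_) hadd
    · exact hφP x
    · rw [Algebra.smul_def]
      exact hsmul r y hy
  · -- hψlin
    intro k r x
    rw [Algebra.smul_def, ι_eq_mk hg _ hb r (hb0' r)]
    exact secFam_smul_zero ℬ hd hg n (hb0' r) k x
  · -- hχlin
    intro k r x
    rw [Algebra.smul_def, ι_eq_mk hφg _ hc r (hc0' r)]
    exact secFam_smul_zero 𝒜 hd hφg n (hc0' r) k x
  · -- hμψ
    intro k x
    exact comap_secFam φ hφ ℬ 𝒜 (GrComapCrit.ψlin φ) (GrComapCrit.ψlin_mem φ) hd hg n k x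
  · -- hν
    intro e k x
    exact secFam_pow_smul ℬ hd hg n e k x
  · -- hστ
    intro e k x
    change φ (g ^ e * dec ℬ (idx n d k) x) = φ g ^ e * dec 𝒜 (idx n d k) (φ x)
    rw [map_mul, map_pow]
    congr 1
    exact v_dec φ ℬ 𝒜 (GrComapCrit.ψlin φ) (GrComapCrit.ψlin_mem φ) (idx n d k) x
  · -- hσ
    intro e k x
    exact (secFam_pow_smul ℬ hd hg n e k _).trans (secFam_dec ℬ hd hg n k x)
  · -- hker
    intro k x h
    exact secFam_eq_zero 𝒜 hd hφg n k x h

end bc

end Groth.Agent.Lib.Helper3.TwistFamBC2
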