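import Groth.Agent.Lib.Helper3.RelTwistMap
import Groth.Agent.Lib.Helper3.RelTildeMap
import Groth.Agent.Lib.Helper3.RelTildeQC
import Groth.Agent.Lib.Helper3.RelTwistExist
import Groth.Agent.Lib.Helper3.GlueIdx
import Groth.Agent.Lib.Helper3.TwistFamBC2
import Groth.Agent.Lib.Helper3.PbIsoCrit
import Groth.Agent.Lib.Helper3.PullLemmas

/-!
# Base change of the twisting sheaves of a relative Proj

`g : Proj(𝒮') ⟶ Proj(𝒮)` over `ψ : Y' ⟶ Y`, `𝒮' = ψ^* 𝒮` (pushout squares over affine pairs):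
`g^* O(n) ≅ O'(n)`.
-/

set_option autoImplicit false
set_option linter.unusedSectionVars false
universe u
open CategoryTheory CategoryTheory.Limits AlgebraicGeometry TopologicalSpace Opposite
open Scheme.Modules
open scoped HomogeneousIdeal

namespace Groth.Agent.Lib.Helper3.RelTwistBC

open QCSec InvGen GrModQC PbBasic PullLemmas Groth.Agent.Lib.Helper17.UnitBC
  Groth.Agent.Lib.Helper17

/-! ### Transport of a base change property through charts -/

section charts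

theorem appLE_congr_hom {X Y : Scheme.{u}} {f f' : X ⟶ Y} (h : f = f') (U : Y.Opens)
    (V : X.Opens) (e : V ≤ f ⁻¹ᵁ U) (e' : V ≤ f' ⁻¹ᵁ U) : f.appLE U V e = f'.appLE U V e' := by
  subst h
  rfl

variable {Q Q' P P' : Scheme.{u}} (e : Q ⟶ P) [IsOpenImmersion e] (e' : Q' ⟶ P')
  [IsOpenImmersion e'] (g : P' ⟶ P) (k : Q' ⟶ Q) (hsq : e' ≫ g = k ≫ e)
  {F : P.Modules} {F' : P'.Modules} {T : Q.Modules} {T' : Q'.Modules}
  (l : F ⟶ (Scheme.Modules.pushforward e).obj T)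
  (l' : F' ⟶ (Scheme.Modules.pushforward e').obj T')
  (D : Q.Opens) (D' : Q'.Opens)

theorem le_pre : D ≤ e ⁻¹ᵁ (e ''ᵁ D) := (e.preimage_image_eq D).ge

/-- reading a section over the image of a chart open through the chart -/
noncomputable def rd : Γ(F, e ''ᵁ D) →+ Γ(T, D) where
  toFun m := res T (le_pre e D) (up e T (e ''ᵁ D) (l.app (e ''ᵁ D) m))
  map_zero' := by
    rw [map_zero]
    exact res_zero T _
  map_add' a b := by
    rw [map_add]
    exact QCExact.res_add T _ _ _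

theorem rd_bijective (hb : Function.Bijective (l.app (e ''ᵁ D))) :
    Function.Bijective (rd e l D) := by
  have e1 : e ⁻¹ᵁ (e ''ᵁ D) ≤ D := (e.preimage_image_eq D).le
  have hres : Function.Bijective
      (fun t : Γ(T, e ⁻¹ᵁ (e ''ᵁ D)) => res T (le_pre e D) t) := by
    refine Function.bijective_iff_has_inverse.mpr ⟨fun t => res T e1 t, fun t => ?_, fun t => ?_⟩
    · change res T e1 (res T (le_pre e D) t) = t
      rw [res_res, res_self]
    · change res T (le_pre e D) (res T e1 t) = t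
      rw [res_res, res_self]
  exact hres.comp hb

theorem rd_smul (t : Γ(P, e ''ᵁ D)) (m : Γ(F, e ''ᵁ D)) :
    rd e l D (t • m) = (e.appIso D).hom t • rd e l D m := by
  change res T (le_pre e D) (up e T (e ''ᵁ D) (l.app (e ''ᵁ D) (t • m))) =
    (e.appIso D).hom t • res T (le_pre e D) (up e T (e ''ᵁ D) (l.app (e ''ᵁ D) m))
  rw [Scheme.Modules.Hom.app_smul, PbTensor.pushforward_smul]
  change res T (le_pre e D) ((e.app (e ''ᵁ D) t) • (up e T (e ''ᵁ D) (l.app (e ''ᵁ D) m))) = _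
  rw [res_smul, Scheme.Hom.appIso_hom']
  rfl

include hsq in
/-- a base change property on the charts transports to the ambient schemes -/
theorem isBCHom_of_charts (hDD : D' ≤ k ⁻¹ᵁ D) (hWV : e' ''ᵁ D' ≤ g ⁻¹ᵁ (e ''ᵁ D))
    (hb : Function.Bijective (l.app (e ''ᵁ D))) (hb' : Function.Bijective (l'.app (e' ''ᵁ D')))
    (β : Γ(F, e ''ᵁ D) →+ Γ(F', e' ''ᵁ D'))
    (hβ : ∀ (t : Γ(P, e ''ᵁ D)) (m : Γ(F, e ''ᵁ D)),
      β (t • m) = (g.appLE _ _ hWV).hom t • β m)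
    (β₀ : Γ(T, D) → Γ(T', D'))
    (hcomm : ∀ m, rd e' l' D' (β m) = β₀ (rd e l D m))
    (h₀ : IsBCHom (k.appLE D D' hDD).hom β₀) :
    IsBCHom (g.appLE _ _ hWV).hom (fun m => β m) := by
  refine TwistFamBC2.isBCHom_transport (g.appLE _ _ hWV).hom (k.appLE D D' hDD).hom
    (e.appIso D).commRingCatIsoToRingEquiv (e'.appIso D').commRingCatIsoToRingEquiv ?_ β hβ β₀
    (AddEquiv.ofBijective (rd e l D) (rd_bijective e l D hb))
    (AddEquiv.ofBijective (rd e' l' D') (rd_bijective e' l' D' hb'))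
    (fun t m => rd_smul e l D t m) (fun t m => rd_smul e' l' D' t m) hcomm h₀
  intro t
  have h1 : g.appLE _ _ hWV ≫ (e'.appIso D').hom = (e.appIso D).hom ≫ k.appLE D D' hDD := by
    rw [Scheme.Hom.appIso_hom', Scheme.Hom.appIso_hom', Scheme.Hom.appLE_comp_appLE,
      Scheme.Hom.appLE_comp_appLE]
    exact appLE_congr_hom hsq _ _ _ _
  exact congrArg (fun q => q.hom t) h1

end charts

/-! ### Naturality of a morphism of presheaves of rings over a morphism of schemes -/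

theorem res_nat {Y Y' : Scheme.{u}} (ψ : Y' ⟶ Y) (𝒮 : RelProj.QCGrAlg Y) (𝒮' : RelProj.QCGrAlg Y')
    (w : 𝒮.presheaf ⟶ ψ.base _* 𝒮'.presheaf) {U V : Y.Opens} {U' V' : Y'.Opens}
    (hle : U' ≤ ψ ⁻¹ᵁ U) (hle' : V' ≤ ψ ⁻¹ᵁ V) (hVU : V ≤ U) (hVU' : V' ≤ U')
    (a : 𝒮.presheaf.obj (op U)) :
    (𝒮'.presheaf.map (homOfLE hle').op).hom
        ((w.app (op V)).hom ((𝒮.presheaf.map (homOfLE hVU).op).hom a)) =
      (𝒮'.presheaf.map (homOfLE hVU').op).hom
        ((𝒮'.presheaf.map (homOfLE hle).op).hom ((w.app (op U)).hom a)) := by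
  have nat := w.naturality (homOfLE hVU).op
  have h1 : (w.app (op V)).hom ((𝒮.presheaf.map (homOfLE hVU).op).hom a) =
      ((ψ.base _* 𝒮'.presheaf).map (homOfLE hVU).op).hom ((w.app (op U)).hom a) :=
    congrArg (fun q => q.hom a) nat
  rw [h1]
  have hUV' : V' ≤ ψ ⁻¹ᵁ U := hVU'.trans hle
  have e1 : (𝒮'.presheaf.map (homOfLE hle').op).hom
      (((ψ.base _* 𝒮'.presheaf).map (homOfLE hVU).op).hom ((w.app (op U)).hom a)) =
      (𝒮'.presheaf.map (homOfLE hUV').op).hom ((w.app (op U)).hom a) :=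
    (congrArg (fun q => q.hom ((w.app (op U)).hom a))
      (𝒮'.presheaf.map_comp ((Opens.map ψ.base).op.map (homOfLE hVU).op) (homOfLE hle').op)).symm
  have e2 : (𝒮'.presheaf.map (homOfLE hVU').op).hom
      ((𝒮'.presheaf.map (homOfLE hle).op).hom ((w.app (op U)).hom a)) =
      (𝒮'.presheaf.map (homOfLE hUV').op).hom ((w.app (op U)).hom a) :=
    (congrArg (fun q => q.hom ((w.app (op U)).hom a))
      (𝒮'.presheaf.map_comp (homOfLE hle).op (homOfLE hVU').op)).symm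
  rw [e1, e2]

/-! ### The relative situation -/

/-- pairs of affine opens `U' ⊆ ψ⁻¹ U` -/
structure Idx {Y Y' : Scheme.{u}} (ψ : Y' ⟶ Y) where
  U : Y.Opens
  hU : IsAffineOpen U
  U' : Y'.Opens
  hU' : IsAffineOpen U'
  hle : U' ≤ ψ ⁻¹ᵁ U

section rel

variable {Y Y' P P' : Scheme.{u}} (ψ : Y' ⟶ Y) {𝒮 : RelProj.QCGrAlg Y}
  {𝒮' : RelProj.QCGrAlg Y'}
  (φ : ∀ (U : Y.Opens) (hU : IsAffineOpen U) (U' : Y'.Opens) (hU' : IsAffineOpen U')
    (_ : U' ≤ ψ ⁻¹ᵁ U), 𝒮.deg U hU →+*ᵍ 𝒮'.deg U' hU')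
  (hirr : ∀ (U : Y.Opens) (hU : IsAffineOpen U) (U' : Y'.Opens) (hU' : IsAffineOpen U')
    (hle : U' ≤ ψ ⁻¹ᵁ U), (𝒮'.deg U' hU')₊ ≤ ((𝒮.deg U hU)₊).map (φ U hU U' hU' hle))
  {p : P ⟶ Y}
  {chart : ∀ (U : Y.Opens) (hU : IsAffineOpen U),
    ((p ⁻¹ᵁ U : P.Opens) : Scheme.{u}) ≅ Proj (𝒮.deg U hU)}
  {p' : P' ⟶ Y'}
  {chart' : ∀ (U' : Y'.Opens) (hU' : IsAffineOpen U'),
    ((p' ⁻¹ᵁ U' : P'.Opens) : Scheme.{u}) ≅ Proj (𝒮'.deg U' hU')}
  (g : P' ⟶ P)
  (hg : ∀ (U : Y.Opens) (hU : IsAffineOpen U) (U' : Y'.Opens) (hU' : IsAffineOpen U')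
    (hle : U' ≤ ψ ⁻¹ᵁ U), (p' ⁻¹ᵁ U').ι ≫ g =
      (chart' U' hU').hom ≫ Proj.map (φ U hU U' hU' hle) (hirr U hU U' hU' hle) ≫
        RelProj.emb p chart U hU)
  (n : ℤ)

include hg in
theorem emb_comp_g (U : Y.Opens) (hU : IsAffineOpen U) (U' : Y'.Opens) (hU' : IsAffineOpen U')
    (hle : U' ≤ ψ ⁻¹ᵁ U) :
    RelProj.emb p' chart' U' hU' ≫ g =
      Proj.map (φ U hU U' hU' hle) (hirr U hU U' hU' hle) ≫ RelProj.emb p chart U hU := by
  have h := hg U hU U' hU' hle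
  have e : RelProj.emb p' chart' U' hU' ≫ g =
      (chart' U' hU').inv ≫ ((p' ⁻¹ᵁ U').ι ≫ g) := by
    unfold RelProj.emb
    rw [Category.assoc]
  rw [e, h, Iso.inv_hom_id_assoc]

include hg in
theorem emb_comp_g_apply (U : Y.Opens) (hU : IsAffineOpen U) (U' : Y'.Opens)
    (hU' : IsAffineOpen U') (hle : U' ≤ ψ ⁻¹ᵁ U) (y : Proj (𝒮'.deg U' hU')) :
    g (RelProj.emb p' chart' U' hU' y) =
      RelProj.emb p chart U hU
        (ProjectiveSpectrum.comap (φ U hU U' hU' hle) (hirr U hU U' hU' hle) y) := by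
  have := congrArg (fun q : Proj (𝒮'.deg U' hU') ⟶ P => q y)
    (emb_comp_g ψ φ hirr g hg U hU U' hU' hle)
  exact this

/-- the chartwise comparison morphism -/
noncomputable def ν (U : Y.Opens) (hU : IsAffineOpen U) (U' : Y'.Opens) (hU' : IsAffineOpen U')
    (hle : U' ≤ ψ ⁻¹ᵁ U) :
    (Scheme.Modules.pushforward (RelProj.emb p chart U hU)).obj
        (GrTwist.twist (𝒮.deg U hU) n) ⟶
      (Scheme.Modules.pushforward g).obj
        ((Scheme.Modules.pushforward (RelProj.emb p' chart' U' hU')).obj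
          (GrTwist.twist (𝒮'.deg U' hU') n)) :=
  (Scheme.Modules.pushforward (RelProj.emb p chart U hU)).map
      (GrTwist.comap (φ U hU U' hU' hle) (hirr U hU U' hU' hle) n) ≫
    (Scheme.Modules.pushforwardComp (Proj.map (φ U hU U' hU' hle) (hirr U hU U' hU' hle))
      (RelProj.emb p chart U hU)).hom.app _ ≫
    (Scheme.Modules.pushforwardCongr (emb_comp_g ψ φ hirr g hg U hU U' hU' hle).symm).hom.app _ ≫
    (Scheme.Modules.pushforwardComp (RelProj.emb p' chart' U' hU') g).inv.app _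

theorem val_ν (U : Y.Opens) (hU : IsAffineOpen U) (U' : Y'.Opens) (hU' : IsAffineOpen U')
    (hle : U' ≤ ψ ⁻¹ᵁ U) (V : P.Opens)
    (t : Γ(GrTwist.twist (𝒮.deg U hU) n, RelProj.emb p chart U hU ⁻¹ᵁ V))
    (y : ProjectiveSpectrum (𝒮'.deg U' hU'))
    (hy : (RelProj.emb p' chart' U' hU').base y ∈ g ⁻¹ᵁ V)
    (hy' : (RelProj.emb p chart U hU).base
      (ProjectiveSpectrum.comap (φ U hU U' hU' hle) (hirr U hU U' hU' hle) y) ∈ V) :
    GrTwist.val (V := RelProj.emb p' chart' U' hU' ⁻¹ᵁ (g ⁻¹ᵁ V))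
        ((ν ψ φ hirr g hg n U hU U' hU' hle).app V t) ⟨y, hy⟩ =
      GrTwist.locMap (φ U hU U' hU' hle) (hirr U hU U' hU' hle) y
        (GrTwist.val (V := RelProj.emb p chart U hU ⁻¹ᵁ V) t ⟨_, hy'⟩) := rfl

variable {L : P.Modules}
  (lam : ∀ (U : Y.Opens) (hU : IsAffineOpen U),
    L ⟶ (Scheme.Modules.pushforward (RelProj.emb p chart U hU)).obj
      (GrTwist.twist (𝒮.deg U hU) n))
  {L' : P'.Modules}
  (lam' : ∀ (U' : Y'.Opens) (hU' : IsAffineOpen U'),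
    L' ⟶ (Scheme.Modules.pushforward (RelProj.emb p' chart' U' hU')).obj
      (GrTwist.twist (𝒮'.deg U' hU') n))

/-- the chartwise morphism out of the pullback -/
noncomputable def κ (U : Y.Opens) (hU : IsAffineOpen U) (U' : Y'.Opens) (hU' : IsAffineOpen U')
    (hle : U' ≤ ψ ⁻¹ᵁ U) :
    (Scheme.Modules.pullback g).obj L ⟶
      (Scheme.Modules.pushforward (RelProj.emb p' chart' U' hU')).obj
        (GrTwist.twist (𝒮'.deg U' hU') n) :=
  ((pullbackPushforwardAdjunction g).homEquiv _ _).symm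
    (lam U hU ≫ ν ψ φ hirr g hg n U hU U' hU' hle)

variable (hP : RelProj.IsRelProj 𝒮 p chart) (hP' : RelProj.IsRelProj 𝒮' p' chart')
  (hL : RelProj.IsRelTwist 𝒮 p chart n L lam) (hL' : RelProj.IsRelTwist 𝒮' p' chart' n L' lam')
  (hφres : ∀ (U : Y.Opens) (hU : IsAffineOpen U) (U' : Y'.Opens) (hU' : IsAffineOpen U')
    (hle : U' ≤ ψ ⁻¹ᵁ U) (r : Γ(Y, U)) (r' : Γ(Y', U'))
    (hle' : Y'.basicOpen r' ≤ ψ ⁻¹ᵁ Y.basicOpen r) (a : 𝒮.presheaf.obj (op U)),
    φ (Y.basicOpen r) (hU.basicOpen r) (Y'.basicOpen r') (hU'.basicOpen r') hle'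
        (𝒮.res hU (hU.basicOpen r) (Y.basicOpen_le r) a) =
      𝒮'.res hU' (hU'.basicOpen r') (Y'.basicOpen_le r') (φ U hU U' hU' hle a))

include hP hP' hL hφres in
/-- compatibility of the chartwise comparison along basic opens -/
theorem lam_ν_basic (U : Y.Opens) (hU : IsAffineOpen U) (U' : Y'.Opens) (hU' : IsAffineOpen U')
    (hle : U' ≤ ψ ⁻¹ᵁ U) (r : Γ(Y, U)) (r' : Γ(Y', U'))
    (hle' : Y'.basicOpen r' ≤ ψ ⁻¹ᵁ Y.basicOpen r) :
    lam (Y.basicOpen r) (hU.basicOpen r) ≫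
        ν ψ φ hirr g hg n (Y.basicOpen r) (hU.basicOpen r) (Y'.basicOpen r') (hU'.basicOpen r')
          hle' =
      (lam U hU ≫ ν ψ φ hirr g hg n U hU U' hU' hle) ≫ (Scheme.Modules.pushforward g).map
        (RelTwistExist.ν0 hU' (hU'.basicOpen r') (Y'.basicOpen_le r')
          (𝒮'.irrelevant_le_map U' hU' r') (RelProj.map_res_emb hP' U' hU' r') n) := by
  apply Scheme.Modules.hom_ext
  intro V
  ext s
  change (ν ψ φ hirr g hg n (Y.basicOpen r) (hU.basicOpen r) (Y'.basicOpen r')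
      (hU'.basicOpen r') hle').app V ((lam (Y.basicOpen r) (hU.basicOpen r)).app V s) =
    (RelTwistExist.ν0 hU' (hU'.basicOpen r') (Y'.basicOpen_le r')
      (𝒮'.irrelevant_le_map U' hU' r') (RelProj.map_res_emb hP' U' hU' r') n).app (g ⁻¹ᵁ V)
      ((ν ψ φ hirr g hg n U hU U' hU' hle).app V ((lam U hU).app V s))
  refine val_ext
    (U := RelProj.emb p' chart' (Y'.basicOpen r') (hU'.basicOpen r') ⁻¹ᵁ (g ⁻¹ᵁ V))
    (fun y => ?_)
  have hy : (RelProj.emb p' chart' (Y'.basicOpen r') (hU'.basicOpen r')).base y.1 ∈ g ⁻¹ᵁ V :=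
    y.2
  have hy1 := RelTildeMap.emb_comap_mem hP' U' hU' r' (g ⁻¹ᵁ V) y.1 hy
  have m3 : (RelProj.emb p chart (Y.basicOpen r) (hU.basicOpen r)).base
      (ProjectiveSpectrum.comap
        (φ (Y.basicOpen r) (hU.basicOpen r) (Y'.basicOpen r') (hU'.basicOpen r') hle')
        (hirr _ (hU.basicOpen r) _ (hU'.basicOpen r') hle') y.1) ∈ V := by
    have := emb_comp_g_apply ψ φ hirr g hg (Y.basicOpen r) (hU.basicOpen r) (Y'.basicOpen r')
      (hU'.basicOpen r') hle' y.1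
    rw [← this]
    exact hy
  have m2 := RelTildeMap.emb_comap_mem hP U hU r V _ m3
  have m1 : (RelProj.emb p chart U hU).base
      (ProjectiveSpectrum.comap (φ U hU U' hU' hle) (hirr U hU U' hU' hle)
        (ProjectiveSpectrum.comap (𝒮'.res hU' (hU'.basicOpen r') (Y'.basicOpen_le r'))
          (𝒮'.irrelevant_le_map U' hU' r') y.1)) ∈ V := by
    have := emb_comp_g_apply ψ φ hirr g hg U hU U' hU' hle
      (ProjectiveSpectrum.comap (𝒮'.res hU' (hU'.basicOpen r') (Y'.basicOpen_le r'))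
          (𝒮'.irrelevant_le_map U' hU' r') y.1)
    rw [← this]
    exact hy1
  have c2 := hL.compat U hU r V s _ m3 m2
  have e2 : GrTwist.locMap
      (φ (Y.basicOpen r) (hU.basicOpen r) (Y'.basicOpen r') (hU'.basicOpen r') hle')
      (hirr _ (hU.basicOpen r) _ (hU'.basicOpen r') hle') y.1
      (GrTwist.val (V := RelProj.emb p chart (Y.basicOpen r) (hU.basicOpen r) ⁻¹ᵁ V)
        ((lam (Y.basicOpen r) (hU.basicOpen r)).app V s) ⟨_, m3⟩) =
      GrTwist.locMap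
        (φ (Y.basicOpen r) (hU.basicOpen r) (Y'.basicOpen r') (hU'.basicOpen r') hle')
        (hirr _ (hU.basicOpen r) _ (hU'.basicOpen r') hle') y.1
        (GrTwist.locMap (𝒮.res hU (hU.basicOpen r) (Y.basicOpen_le r))
          (𝒮.irrelevant_le_map U hU r) _
          (GrTwist.val (V := RelProj.emb p chart U hU ⁻¹ᵁ V) ((lam U hU).app V s) ⟨_, m2⟩)) :=
    congrArg (GrTwist.locMap
      (φ (Y.basicOpen r) (hU.basicOpen r) (Y'.basicOpen r') (hU'.basicOpen r') hle')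
      (hirr _ (hU.basicOpen r) _ (hU'.basicOpen r') hle') y.1) c2
  exact e2.trans (RelTwistMap.locMap_locMap_val
    (𝒮.res hU (hU.basicOpen r) (Y.basicOpen_le r)) (𝒮.irrelevant_le_map U hU r)
    (φ (Y.basicOpen r) (hU.basicOpen r) (Y'.basicOpen r') (hU'.basicOpen r') hle')
    (hirr _ (hU.basicOpen r) _ (hU'.basicOpen r') hle')
    (φ U hU U' hU' hle) (hirr U hU U' hU' hle)
    (𝒮'.res hU' (hU'.basicOpen r') (Y'.basicOpen_le r')) (𝒮'.irrelevant_le_map U' hU' r')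
    (fun a => hφres U hU U' hU' hle r r' hle' a) y.1 ((lam U hU).app V s) m2 m1)

include hP hP' hL hφres in
theorem κ_basic (U : Y.Opens) (hU : IsAffineOpen U) (U' : Y'.Opens) (hU' : IsAffineOpen U')
    (hle : U' ≤ ψ ⁻¹ᵁ U) (r : Γ(Y, U)) (r' : Γ(Y', U'))
    (hle' : Y'.basicOpen r' ≤ ψ ⁻¹ᵁ Y.basicOpen r) :
    κ ψ φ hirr g hg n lam (Y.basicOpen r) (hU.basicOpen r) (Y'.basicOpen r')
        (hU'.basicOpen r') hle' =
      κ ψ φ hirr g hg n lam U hU U' hU' hle ≫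
        RelTwistExist.ν0 hU' (hU'.basicOpen r') (Y'.basicOpen_le r')
          (𝒮'.irrelevant_le_map U' hU' r') (RelProj.map_res_emb hP' U' hU' r') n :=
  (congrArg ((pullbackPushforwardAdjunction g).homEquiv _ _).symm
    (lam_ν_basic ψ φ hirr g hg n lam hP hP' hL hφres U hU U' hU' hle r r' hle')).trans
    (Adjunction.homEquiv_naturality_right_symm (pullbackPushforwardAdjunction g) _ _)

include hP' hL' in
theorem lam'_basic (U' : Y'.Opens) (hU' : IsAffineOpen U') (r' : Γ(Y', U')) (V : P'.Opens)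
    (t : Γ(L', V)) :
    (lam' (Y'.basicOpen r') (hU'.basicOpen r')).app V t =
      (RelTwistExist.ν0 hU' (hU'.basicOpen r') (Y'.basicOpen_le r')
        (𝒮'.irrelevant_le_map U' hU' r') (RelProj.map_res_emb hP' U' hU' r') n).app V
        ((lam' U' hU').app V t) := by
  refine val_ext (U := RelProj.emb p' chart' (Y'.basicOpen r') (hU'.basicOpen r') ⁻¹ᵁ V)
    (fun y => ?_)
  have hy : (RelProj.emb p' chart' (Y'.basicOpen r') (hU'.basicOpen r')).base y.1 ∈ V := y.2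
  have hy' := RelTildeMap.emb_comap_mem hP' U' hU' r' V y.1 hy
  exact hL'.compat U' hU' r' V t y.1 hy hy'

include hP hP' hL hL' hφres in
/-- the glued comparison morphism `g^* L ⟶ L'` -/
theorem exists_θ : ∃ θ : (Scheme.Modules.pullback g).obj L ⟶ L',
    ∀ (U : Y.Opens) (hU : IsAffineOpen U) (U' : Y'.Opens) (hU' : IsAffineOpen U')
      (hle : U' ≤ ψ ⁻¹ᵁ U) (V : P'.Opens), V ≤ p' ⁻¹ᵁ U' →
      ∀ s : Γ((Scheme.Modules.pullback g).obj L, V),
        (lam' U' hU').app V (θ.app V s) = (κ ψ φ hirr g hg n lam U hU U' hU' hle).app V s := by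
  refine Exists.elim (GlueIdx.exists_hom (P := P') (F := (Scheme.Modules.pullback g).obj L)
    (G := L') (I := Idx ψ) (fun i => p' ⁻¹ᵁ i.U')
    (T := fun i => (Scheme.Modules.pushforward (RelProj.emb p' chart' i.U' i.hU')).obj
      (GrTwist.twist (𝒮'.deg i.U' i.hU') n))
    (fun i => lam' i.U' i.hU') (fun i => κ ψ φ hirr g hg n lam i.U i.hU i.U' i.hU' i.hle)
    (fun i V hV => hL'.bijective i.U' i.hU' V hV)
    (fun i j => ∃ (r : Γ(Y, i.U)) (r' : Γ(Y', i.U')),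
      j.U = Y.basicOpen r ∧ j.U' = Y'.basicOpen r')
    ?_ ?_ ?_ ?_)
    (fun θ hθ => ⟨θ, fun U hU U' hU' hle V hV s => hθ ⟨U, hU, U', hU', hle⟩ V hV s⟩)
  · -- hRW
    rintro i j ⟨r, r', h1, h2⟩
    change p' ⁻¹ᵁ j.U' ≤ p' ⁻¹ᵁ i.U'
    rw [h2]
    exact p'.preimage_mono (Y'.basicOpen_le r')
  · -- hbasic
    rintro i ⟨U, hU, U', hU', hle⟩ ⟨r, r', h1, h2⟩ V hV s t H
    dsimp only at h1 h2
    subst h1 h2
    have e1 := lam'_basic n lam' hP' hL' i.U' i.hU' r' V t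
    have e2 := κ_basic ψ φ hirr g hg n lam hP hP' hL hφres i.U i.hU i.U' i.hU' i.hle r r' hle
    have H' : (lam' i.U' i.hU').app V t =
      (κ ψ φ hirr g hg n lam i.U i.hU i.U' i.hU' i.hle).app V s := H
    refine e1.trans ?_
    refine (congrArg (fun x => (RelTwistExist.ν0 i.hU' (i.hU'.basicOpen r')
      (Y'.basicOpen_le r') (𝒮'.irrelevant_le_map i.U' i.hU' r')
      (RelProj.map_res_emb hP' i.U' i.hU' r') n).app V x) H').trans ?_
    exact (congrArg (fun q : (Scheme.Modules.pullback g).obj L ⟶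
      (Scheme.Modules.pushforward (RelProj.emb p' chart' (Y'.basicOpen r')
        (i.hU'.basicOpen r'))).obj
        (GrTwist.twist (𝒮'.deg (Y'.basicOpen r') (i.hU'.basicOpen r')) n) => (q.app V) s)
      e2).symm
  · -- hdir
    intro i₁ i₂ x hx₁ hx₂
    have hy₁ : p' x ∈ i₁.U' := hx₁
    have hy₂ : p' x ∈ i₂.U' := hx₂
    have hz₁ : ψ (p' x) ∈ i₁.U := i₁.hle hy₁
    have hz₂ : ψ (p' x) ∈ i₂.U := i₂.hle hy₂
    obtain ⟨r₁, r₂, hr, hzr⟩ :=
      exists_basicOpen_le_affine_inter i₁.hU i₂.hU (ψ (p' x)) ⟨hz₁, hz₂⟩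
    obtain ⟨s₁, s₂, hs, hys⟩ :=
      exists_basicOpen_le_affine_inter i₁.hU' i₂.hU' (p' x) ⟨hy₁, hy₂⟩
    have hD₁ : Y'.basicOpen (s₁ * ψ.appLE i₁.U i₁.U' i₁.hle r₁) =
        Y'.basicOpen s₁ ⊓ ψ ⁻¹ᵁ Y.basicOpen r₁ := by
      rw [Scheme.basicOpen_mul, Scheme.basicOpen_appLE, ← inf_assoc,
        inf_eq_left.mpr (Y'.basicOpen_le s₁)]
    have hD₂ : Y'.basicOpen (s₂ * ψ.appLE i₂.U i₂.U' i₂.hle r₂) =
        Y'.basicOpen s₂ ⊓ ψ ⁻¹ᵁ Y.basicOpen r₂ := by
      rw [Scheme.basicOpen_mul, Scheme.basicOpen_appLE, ← inf_assoc,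
        inf_eq_left.mpr (Y'.basicOpen_le s₂)]
    have hD : Y'.basicOpen (s₁ * ψ.appLE i₁.U i₁.U' i₁.hle r₁) =
        Y'.basicOpen (s₂ * ψ.appLE i₂.U i₂.U' i₂.hle r₂) := by
      rw [hD₁, hD₂, hs, hr]
    have hle_j : Y'.basicOpen (s₁ * ψ.appLE i₁.U i₁.U' i₁.hle r₁) ≤ ψ ⁻¹ᵁ Y.basicOpen r₁ := by
      rw [hD₁]
      exact inf_le_right
    refine ⟨⟨Y.basicOpen r₁, i₁.hU.basicOpen r₁,
      Y'.basicOpen (s₁ * ψ.appLE i₁.U i₁.U' i₁.hle r₁), i₁.hU'.basicOpen _, hle_j⟩,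
      ⟨r₁, s₁ * ψ.appLE i₁.U i₁.U' i₁.hle r₁, rfl, rfl⟩,
      ⟨r₂, s₂ * ψ.appLE i₂.U i₂.U' i₂.hle r₂, hr, hD⟩, ?_⟩
    change p' x ∈ Y'.basicOpen (s₁ * ψ.appLE i₁.U i₁.U' i₁.hle r₁)
    rw [hD₁]
    exact ⟨hys, hzr⟩
  · -- hcov
    intro x
    obtain ⟨U, hU, hxU⟩ := ProjQMap.exists_affine_mem (ψ (p' x))
    obtain ⟨_, ⟨U', hU', rfl⟩, hxU', hle⟩ := Y'.isBasis_affineOpens.exists_subset_of_mem_open
      (show p' x ∈ ((ψ ⁻¹ᵁ U : Y'.Opens) : Set Y') from hxU) (ψ ⁻¹ᵁ U).isOpen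
    exact ⟨⟨U, hU, U', hU', hle⟩, hxU'⟩

include hL hL' hg hirr in
/-- the base change property of the glued morphism on the standard charts -/
theorem isBCHom_chart (θ : (Scheme.Modules.pullback g).obj L ⟶ L')
    (hθ : ∀ (U : Y.Opens) (hU : IsAffineOpen U) (U' : Y'.Opens) (hU' : IsAffineOpen U')
      (hle : U' ≤ ψ ⁻¹ᵁ U) (V : P'.Opens), V ≤ p' ⁻¹ᵁ U' →
      ∀ s : Γ((Scheme.Modules.pullback g).obj L, V),
        (lam' U' hU').app V (θ.app V s) = (κ ψ φ hirr g hg n lam U hU U' hU' hle).app V s)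
    (hpo : ∀ (U : Y.Opens) (hU : IsAffineOpen U) (U' : Y'.Opens) (hU' : IsAffineOpen U')
      (hle : U' ≤ ψ ⁻¹ᵁ U), IsPushout (ψ.appLE U U' hle) (𝒮.str.app (op U))
        (𝒮'.str.app (op U')) (CommRingCat.ofHom (φ U hU U' hU' hle).toRingHom))
    (U : Y.Opens) (hU : IsAffineOpen U) (U' : Y'.Opens) (hU' : IsAffineOpen U')
    (hle : U' ≤ ψ ⁻¹ᵁ U) {d : ℕ} (hd : 0 < d) {f : 𝒮.presheaf.obj (op U)}
    (hf : f ∈ 𝒮.deg U hU d)
    (hWV : RelProj.emb p' chart' U' hU' ''ᵁ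
        Proj.basicOpen (𝒮'.deg U' hU') (φ U hU U' hU' hle f) ≤
      g ⁻¹ᵁ (RelProj.emb p chart U hU ''ᵁ Proj.basicOpen (𝒮.deg U hU) f)) :
    IsBCHom (g.appLE _ _ hWV).hom
      (fun m : Γ(L, RelProj.emb p chart U hU ''ᵁ Proj.basicOpen (𝒮.deg U hU) f) =>
        res L' hWV (up g L' _
          (((pullbackPushforwardAdjunction g).homEquiv L L' θ).app _ m))) := by
  have hVle : RelProj.emb p chart U hU ''ᵁ Proj.basicOpen (𝒮.deg U hU) f ≤ p ⁻¹ᵁ U :=
    ((RelProj.emb p chart U hU).image_le_opensRange _).trans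
      (ProjQMap.opensRange_emb p chart U hU).le
  have hWle : RelProj.emb p' chart' U' hU' ''ᵁ
      Proj.basicOpen (𝒮'.deg U' hU') (φ U hU U' hU' hle f) ≤ p' ⁻¹ᵁ U' :=
    ((RelProj.emb p' chart' U' hU').image_le_opensRange _).trans
      (ProjQMap.opensRange_emb p' chart' U' hU').le
  let β : Γ(L, RelProj.emb p chart U hU ''ᵁ Proj.basicOpen (𝒮.deg U hU) f) →+
      Γ(L', RelProj.emb p' chart' U' hU' ''ᵁ
        Proj.basicOpen (𝒮'.deg U' hU') (φ U hU U' hU' hle f)) :=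
    { toFun := fun m => res L' hWV (up g L' _
        (((pullbackPushforwardAdjunction g).homEquiv L L' θ).app _ m))
      map_zero' := by
        rw [map_zero]
        exact res_zero L' _
      map_add' := fun a b => by
        rw [map_add]
        exact QCExact.res_add L' _ _ _ }
  refine isBCHom_of_charts (RelProj.emb p chart U hU) (RelProj.emb p' chart' U' hU') g
    (Proj.map (φ U hU U' hU' hle) (hirr U hU U' hU' hle))
    (emb_comp_g ψ φ hirr g hg U hU U' hU' hle) (lam U hU) (lam' U' hU')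
    (Proj.basicOpen (𝒮.deg U hU) f) (Proj.basicOpen (𝒮'.deg U' hU') (φ U hU U' hU' hle f))
    (by rfl) hWV (hL.bijective U hU _ hVle) (hL'.bijective U' hU' _ hWle) β ?_
    (fun t => ((GrTwist.comap (φ U hU U' hU' hle) (hirr U hU U' hU' hle) n).app
      (Proj.basicOpen (𝒮.deg U hU) f) t :
        Γ(GrTwist.twist (𝒮'.deg U' hU') n,
          Proj.basicOpen (𝒮'.deg U' hU') (φ U hU U' hU' hle f)))) ?_ ?_
  · -- semilinearity of β
    intro t m
    change res L' hWV (up g L' _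
        (((pullbackPushforwardAdjunction g).homEquiv L L' θ).app _ (t • m))) =
      (g.appLE _ _ hWV).hom t • res L' hWV (up g L' _
        (((pullbackPushforwardAdjunction g).homEquiv L L' θ).app _ m))
    rw [Scheme.Modules.Hom.app_smul, PbTensor.pushforward_smul]
    change res L' hWV ((g.app _ t) • (up g L' _
      (((pullbackPushforwardAdjunction g).homEquiv L L' θ).app _ m))) = _
    rw [res_smul]
    rfl
  · -- the chart readings commute
    intro m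
    have h2 : up g L' _ (((pullbackPushforwardAdjunction g).homEquiv L L' θ).app _ m) =
        θ.app (g ⁻¹ᵁ (RelProj.emb p chart U hU ''ᵁ Proj.basicOpen (𝒮.deg U hU) f))
          (pull g L _ m) := by
      rw [Adjunction.homEquiv_unit]
      rfl
    have h1 : β m = θ.app _ (res ((Scheme.Modules.pullback g).obj L) hWV (pull g L _ m)) :=
      (congrArg (fun q => res L' hWV q) h2).trans (QCExact.app_res' θ hWV _).symm
    have hX : (lam' U' hU').app _ (β m) =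
        res ((Scheme.Modules.pushforward (RelProj.emb p' chart' U' hU')).obj
          (GrTwist.twist (𝒮'.deg U' hU') n)) hWV
          (up g ((Scheme.Modules.pushforward (RelProj.emb p' chart' U' hU')).obj
            (GrTwist.twist (𝒮'.deg U' hU') n)) _
            ((lam U hU ≫ ν ψ φ hirr g hg n U hU U' hU' hle).app _ m)) := by
      rw [h1, hθ U hU U' hU' hle _ hWle, QCExact.app_res']
      unfold κ
      rw [adjoint_pull]
    refine val_ext (fun y => ?_)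
    exact congrArg (fun q => GrTwist.val (V := RelProj.emb p' chart' U' hU' ⁻¹ᵁ
      (RelProj.emb p' chart' U' hU' ''ᵁ
        Proj.basicOpen (𝒮'.deg U' hU') (φ U hU U' hU' hle f))) q
      ⟨y.1, le_pre (RelProj.emb p' chart' U' hU') _ y.2⟩) hX
  · -- the base change property on the chart
    have hbc := TwistFamBC2.isBCHom_secMap_of_isPushout (ψ.appLE U U' hle).hom
      (𝒮.str.app (op U)).hom (𝒮'.str.app (op U')).hom (φ U hU U' hU' hle) (𝒮.str_mem U hU)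
      (𝒮'.str_mem U' hU') (hpo U hU U' hU' hle) (hirr U hU U' hU' hle) n hd hf
    refine hbc.congr (fun t => ?_)
    exact congrArg (fun q => (q.app (Proj.basicOpen (𝒮.deg U hU) f)) t)
      (GrComapCrit.comap_eq (φ U hU U' hU' hle) (hirr U hU U' hU' hle) n).symm

include hP hP' hL hL' hφres hg hirr in
/-- **base change of the twisting sheaves** -/
theorem nonempty_iso
    (hpo : ∀ (U : Y.Opens) (hU : IsAffineOpen U) (U' : Y'.Opens) (hU' : IsAffineOpen U')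
      (hle : U' ≤ ψ ⁻¹ᵁ U), IsPushout (ψ.appLE U U' hle) (𝒮.str.app (op U))
        (𝒮'.str.app (op U')) (CommRingCat.ofHom (φ U hU U' hU' hle).toRingHom)) :
    Nonempty ((Scheme.Modules.pullback g).obj L ≅ L') := by
  obtain ⟨θ, hθ⟩ := exists_θ ψ φ hirr g hg n lam lam' hP hP' hL hL' hφres
  haveI hqL : L.IsQuasicoherent :=
    RelTildeQC.isQuasicoherent_of_charts p chart (fun U hU => GrTwist.twist (𝒮.deg U hU) n)
      (fun U hU => (GrModQC.isQuasicoherent_tilde (𝒜 := 𝒮.deg U hU) (ℳ := 𝒮.deg U hU) n :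
        (GrMod.tilde (𝒮.deg U hU) (𝒮.deg U hU) n).IsQuasicoherent)) L lam hL.bijective
  haveI hqL' : L'.IsQuasicoherent :=
    RelTildeQC.isQuasicoherent_of_charts p' chart' (fun U hU => GrTwist.twist (𝒮'.deg U hU) n)
      (fun U hU => (GrModQC.isQuasicoherent_tilde (𝒜 := 𝒮'.deg U hU) (ℳ := 𝒮'.deg U hU) n :
        (GrMod.tilde (𝒮'.deg U hU) (𝒮'.deg U hU) n).IsQuasicoherent)) L' lam' hL'.bijective
  have hiso : IsIso (((pullbackPushforwardAdjunction g).homEquiv L L').symm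
      ((pullbackPushforwardAdjunction g).homEquiv L L' θ)) := by
    apply PbIsoCrit.isIso_adjunct_of_isBCHom
    intro x
    obtain ⟨U, hU, hxU⟩ := ProjQMap.exists_affine_mem (ψ (p' x))
    obtain ⟨_, ⟨U', hU', rfl⟩, hxU', hle⟩ := Y'.isBasis_affineOpens.exists_subset_of_mem_open
      (show p' x ∈ ((ψ ⁻¹ᵁ U : Y'.Opens) : Set Y') from hxU) (ψ ⁻¹ᵁ U).isOpen
    obtain ⟨z, hz⟩ := ProjQMap.exists_emb_eq p' chart' U' hU' x hxU'
    obtain ⟨d, hd, f, hf, hzf⟩ := GrComapCrit.exists_mem_basicOpen_map (φ U hU U' hU' hle)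
      (hirr U hU U' hU' hle) z
    have hWV : RelProj.emb p' chart' U' hU' ''ᵁ
        Proj.basicOpen (𝒮'.deg U' hU') (φ U hU U' hU' hle f) ≤
        g ⁻¹ᵁ (RelProj.emb p chart U hU ''ᵁ Proj.basicOpen (𝒮.deg U hU) f) := by
      rintro _ ⟨z', hz', rfl⟩
      change g (RelProj.emb p' chart' U' hU' z') ∈
        RelProj.emb p chart U hU ''ᵁ Proj.basicOpen (𝒮.deg U hU) f
      rw [emb_comp_g_apply ψ φ hirr g hg U hU U' hU' hle z']
      exact ⟨ProjectiveSpectrum.comap (φ U hU U' hU' hle) (hirr U hU U' hU' hle) z', hz', rfl⟩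
    refine ⟨_, _, (Proj.isAffineOpen_basicOpen _ f hf hd).image_of_isOpenImmersion
        (RelProj.emb p chart U hU),
      (Proj.isAffineOpen_basicOpen _ _ ((φ U hU U' hU' hle).map_mem hf)
        hd).image_of_isOpenImmersion (RelProj.emb p' chart' U' hU'), hWV, ⟨z, hzf, hz⟩, ?_⟩
    exact isBCHom_chart ψ φ hirr g hg n lam lam' hL hL' θ hθ hpo U hU U' hU' hle hd hf hWV
  rw [Equiv.symm_apply_apply] at hiso
  exact ⟨@asIso _ _ _ _ θ hiso⟩

end rel

end Groth.Agent.Lib.Helper3.RelTwistBC
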