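import Groth.Agent.Lib.Helper3.GrModFT
import Groth.Agent.Lib.Helper3.RelTildeQC
import Groth.Agent.Lib.Helper3.GrTwistGen

/-!
# `ℳ~` on a relative Proj is of finite type under (TF), the algebra generated in degree one
-/

set_option autoImplicit false
set_option linter.unusedSectionVars false
universe u
open CategoryTheory CategoryTheory.Limits AlgebraicGeometry TopologicalSpace Opposite
open Scheme.Modules
open scoped HomogeneousIdeal

namespace Groth.Agent.Lib.Helper3.RelTildeFT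

open QCSec InvGen GrModQC

section transfer

variable {P Q : Scheme.{u}} (e : Q ⟶ P) [IsOpenImmersion e] (T : Q.Modules) {F : P.Modules}
  (l : F ⟶ (Scheme.Modules.pushforward e).obj T)

/-- finite generation of sections transfers to a module identified with a direct image along an
open immersion -/
theorem finite_of_pushforward (V : P.Opens) (hV : V ≤ e.opensRange)
    (b : Function.Bijective (l.app V)) {ι : Type*} (G₀ : Finset ι) (γ : ι → Γ(T, e ⁻¹ᵁ V))
    (h : ∀ t : Γ(T, e ⁻¹ᵁ V), ∃ c : ι → Γ(Q, e ⁻¹ᵁ V), t = ∑ g ∈ G₀, c g • γ g) :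
    Module.Finite Γ(P, V) Γ(F, V) := by
  classical
  have hiso : IsIso (e.app V) := Scheme.Hom.isIso_app e V hV
  have hbij : Function.Bijective (e.app V) :=
    (ConcreteCategory.isIso_iff_bijective (e.app V)).mp hiso
  choose δ hδ using fun g => b.2 (γ g)
  refine ⟨⟨G₀.image δ, ?_⟩⟩
  rw [eq_top_iff]
  rintro s -
  obtain ⟨c, hc⟩ := h (l.app V s)
  choose a ha using fun g => hbij.2 (c g)
  have hs : s = ∑ g ∈ G₀, a g • δ g := by
    apply b.1
    rw [map_sum]
    refine hc.trans (Finset.sum_congr rfl (fun g _ => ?_))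
    rw [Scheme.Modules.Hom.app_smul, hδ g, ← ha g]
    rfl
  rw [hs]
  exact Submodule.sum_mem _ (fun g hg => Submodule.smul_mem _ _
    (Submodule.subset_span (Finset.mem_coe.mpr (Finset.mem_image_of_mem δ hg))))

end transfer

variable {Y P : Scheme.{u}} {𝒮 : RelProj.QCGrAlg Y} {p : P ⟶ Y}
  {chart : ∀ (U : Y.Opens) (hU : IsAffineOpen U),
    ((p ⁻¹ᵁ U : P.Opens) : Scheme.{u}) ≅ Proj (𝒮.deg U hU)}
  {ℳ : RelProj.GrModule 𝒮} {F : P.Modules}
  {lam : ∀ (U : Y.Opens) (hU : IsAffineOpen U),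
    F ⟶ (Scheme.Modules.pushforward (RelProj.emb p chart U hU)).obj
      (GrMod.tilde (𝒮.deg U hU) (ℳ.deg U hU) 0)}

/-- `ℳ~` is of finite type under (TF) when the algebra is generated in degree one -/
theorem isFT (hgen : 𝒮.IsGenDegOne) (hTF : ℳ.IsTF)
    (hb : ∀ (U : Y.Opens) (hU : IsAffineOpen U) (W : P.Opens), W ≤ p ⁻¹ᵁ U →
      Function.Bijective ((lam U hU).app W)) : CohB1.IsFT F := by
  obtain ⟨n₀, hn₀⟩ := hTF
  apply QCProps.isFiniteType_of_charts
  intro x
  obtain ⟨U, hU, hxU⟩ := ProjQMap.exists_affine_mem (p x)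
  obtain ⟨y, rfl⟩ := ProjQMap.exists_emb_eq p chart U hU x hxU
  obtain ⟨f, hf, hfy⟩ := GrTwistGen.exists_deg_one_notMem (hgen U hU) y
  let V : P.Opens := RelProj.emb p chart U hU ''ᵁ Proj.basicOpen (𝒮.deg U hU) f
  have hpre : RelProj.emb p chart U hU ⁻¹ᵁ V = Proj.basicOpen (𝒮.deg U hU) f :=
    (RelProj.emb p chart U hU).preimage_image_eq _
  have hle : V ≤ (RelProj.emb p chart U hU).opensRange :=
    (RelProj.emb p chart U hU).image_le_opensRange _
  have hle' : V ≤ p ⁻¹ᵁ U := by rwa [ProjQMap.opensRange_emb] at hle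
  have hVe : IsAffineOpen (RelProj.emb p chart U hU ⁻¹ᵁ V) := by
    rw [hpre]
    exact Proj.isAffineOpen_basicOpen (𝒮.deg U hU) f hf one_pos
  have hVaff : IsAffineOpen V :=
    (Proj.isAffineOpen_basicOpen (𝒮.deg U hU) f hf one_pos).image_of_isOpenImmersion _
  haveI : (GrMod.tilde (𝒮.deg U hU) (ℳ.deg U hU) 0).IsQuasicoherent :=
    GrModQC.isQuasicoherent_tilde 0
  refine ⟨V, hVaff, ⟨y, hfy, rfl⟩,
    RelTildeQC.isQuasicoherent_chart (RelProj.emb p chart U hU) _ (lam U hU) V hVaff hVe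
      (fun W hW => hb U hU W (hW.trans hle')), ?_⟩
  obtain ⟨G₀, γ, hγ⟩ := GrModFT.exists_generators (ℳ := ℳ.deg U hU) hf n₀ (hn₀ U hU)
    (RelProj.emb p chart U hU ⁻¹ᵁ V) hpre
  exact finite_of_pushforward (RelProj.emb p chart U hU) _ (lam U hU) V hle (hb U hU V hle')
    G₀ γ hγ

end Groth.Agent.Lib.Helper3.RelTildeFT
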