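import Groth.Agent.Lib.Helper3.GrTwistNoethFT
import Groth.Agent.Lib.Helper3.RelTildeFT

/-!
# `O_P(n)` on a relative Proj of a finite type algebra over a locally Noetherian base is coherent
-/

set_option autoImplicit false
set_option linter.unusedSectionVars false
universe u
open CategoryTheory CategoryTheory.Limits AlgebraicGeometry TopologicalSpace Opposite
open Scheme.Modules
open scoped HomogeneousIdeal

namespace Groth.Agent.Lib.Helper3.RelTwistNoethFT

open QCSec InvGen GrModQC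

variable {Y P : Scheme.{u}} {𝒮 : RelProj.QCGrAlg Y} {p : P ⟶ Y}
  {chart : ∀ (U : Y.Opens) (hU : IsAffineOpen U),
    ((p ⁻¹ᵁ U : P.Opens) : Scheme.{u}) ≅ Proj (𝒮.deg U hU)}
  {n : ℤ} {L : P.Modules}
  {lam : ∀ (U : Y.Opens) (hU : IsAffineOpen U),
    L ⟶ (Scheme.Modules.pushforward (RelProj.emb p chart U hU)).obj
      (GrTwist.twist (𝒮.deg U hU) n)}

theorem exists_homogeneous_notMem {A σ : Type u} [CommRing A] [SetLike σ A] [AddSubgroupClass σ A]
    {𝒜 : ℕ → σ} [GradedRing 𝒜] (y : ProjectiveSpectrum 𝒜) :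
    ∃ (d : ℕ) (f : A), 0 < d ∧ f ∈ 𝒜 d ∧ f ∉ y.asHomogeneousIdeal := by
  have h := y.not_irrelevant_le
  rw [HomogeneousIdeal.irrelevant_le] at h
  push Not at h
  obtain ⟨i, hi, hle⟩ := h
  obtain ⟨s, hs, hsx⟩ := SetLike.not_le_iff_exists.1 hle
  exact ⟨i, s, hi, hs, hsx⟩

/-- `O_P(n)` is of finite type when the rings `𝒮(U)` are Noetherian -/
theorem isFT (hN : ∀ (U : Y.Opens) (hU : IsAffineOpen U), IsNoetherianRing (𝒮.presheaf.obj (op U)))
    (hb : ∀ (U : Y.Opens) (hU : IsAffineOpen U) (W : P.Opens), W ≤ p ⁻¹ᵁ U →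
      Function.Bijective ((lam U hU).app W)) : CohB1.IsFT L := by
  apply QCProps.isFiniteType_of_charts
  intro x
  obtain ⟨U, hU, hxU⟩ := ProjQMap.exists_affine_mem (p x)
  obtain ⟨y, rfl⟩ := ProjQMap.exists_emb_eq p chart U hU x hxU
  obtain ⟨d, f, hd, hf, hfy⟩ := exists_homogeneous_notMem (𝒜 := 𝒮.deg U hU) y
  let V : P.Opens := RelProj.emb p chart U hU ''ᵁ Proj.basicOpen (𝒮.deg U hU) f
  have hpre : RelProj.emb p chart U hU ⁻¹ᵁ V = Proj.basicOpen (𝒮.deg U hU) f :=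
    (RelProj.emb p chart U hU).preimage_image_eq _
  have hle : V ≤ (RelProj.emb p chart U hU).opensRange :=
    (RelProj.emb p chart U hU).image_le_opensRange _
  have hle' : V ≤ p ⁻¹ᵁ U := by rwa [ProjQMap.opensRange_emb] at hle
  have hVe : IsAffineOpen (RelProj.emb p chart U hU ⁻¹ᵁ V) := by
    rw [hpre]
    exact Proj.isAffineOpen_basicOpen (𝒮.deg U hU) f hf hd
  have hVaff : IsAffineOpen V :=
    (Proj.isAffineOpen_basicOpen (𝒮.deg U hU) f hf hd).image_of_isOpenImmersion _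
  haveI : (GrTwist.twist (𝒮.deg U hU) n).IsQuasicoherent :=
    (GrModQC.isQuasicoherent_tilde (𝒜 := 𝒮.deg U hU) (ℳ := 𝒮.deg U hU) n :
      (GrMod.tilde (𝒮.deg U hU) (𝒮.deg U hU) n).IsQuasicoherent)
  refine ⟨V, hVaff, ⟨y, hfy, rfl⟩,
    RelTildeQC.isQuasicoherent_chart (RelProj.emb p chart U hU) _ (lam U hU) V hVaff hVe
      (fun W hW => hb U hU W (hW.trans hle')), ?_⟩
  haveI := hN U hU
  obtain ⟨G₀, γ, hγ⟩ := GrTwistNoethFT.exists_generators (𝒜 := 𝒮.deg U hU) hd hf n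
    (RelProj.emb p chart U hU ⁻¹ᵁ V) hpre
  exact RelTildeFT.finite_of_pushforward (RelProj.emb p chart U hU)
    (GrTwist.twist (𝒮.deg U hU) n) (lam U hU) V hle (hb U hU V hle') G₀ γ hγ

end Groth.Agent.Lib.Helper3.RelTwistNoethFT
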