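import Groth.Agent.Lib.Helper3.FlatFam
import Groth.Agent.Lib.Helper3.RelTwistBC
import Groth.Agent.Lib.Helper3.RelTwistZero
import Groth.Agent.Lib.Helper3.RelTwistNoethFT
import Groth.Agent.Lib.Helper17.FlatStructure
import Groth.Agent.Lib.Helper1.FlatAffine

/-!
# Flatness of a relative Proj and of its twisting sheaves when the graded pieces are eventually flat
-/

set_option autoImplicit false
set_option linter.unusedSectionVars false
universe u
open CategoryTheory CategoryTheory.Limits AlgebraicGeometry TopologicalSpace Opposite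
open Scheme.Modules
open scoped HomogeneousIdeal

namespace Groth.Agent.Lib.Helper3.RelProjFlat

open QCSec InvGen GrModQC PbBasic PullLemmas RelTwistBC

variable {S P : Scheme.{u}} {𝒜 : RelProj.QCGrAlg S} {p : P ⟶ S}
  {chart : ∀ (U : S.Opens) (hU : IsAffineOpen U),
    ((p ⁻¹ᵁ U : P.Opens) : Scheme.{u}) ≅ Proj (𝒜.deg U hU)}
  (hP : RelProj.IsRelProj 𝒜 p chart)

include hP in
/-- the structure map of `P` on a standard chart is the structure map of the graded algebra -/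
theorem appIso_appLE_eq_ι (U : S.Opens) (hU : IsAffineOpen U) {d : ℕ} (hd : 0 < d)
    {f : 𝒜.presheaf.obj (op U)} (hf : f ∈ 𝒜.deg U hU d)
    (hWU : RelProj.emb p chart U hU ''ᵁ Proj.basicOpen (𝒜.deg U hU) f ≤ p ⁻¹ᵁ U)
    (r : Γ(S, U)) :
    ((RelProj.emb p chart U hU).appIso (Proj.basicOpen (𝒜.deg U hU) f)).hom
        ((p.appLE U _ hWU).hom r) =
      SecFam.ι f (𝒜.str.app (op U)).hom (𝒜.str_mem U hU) r := by
  have hD : Proj.basicOpen (𝒜.deg U hU) f ≤ (RelProj.emb p chart U hU ≫ p) ⁻¹ᵁ U := by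
    intro z _
    exact hWU ⟨z, ‹_›, rfl⟩
  have h1 : ((RelProj.emb p chart U hU).appIso (Proj.basicOpen (𝒜.deg U hU) f)).hom
      ((p.appLE U _ hWU).hom r) =
      ((RelProj.emb p chart U hU ≫ p).appLE U (Proj.basicOpen (𝒜.deg U hU) f) hD).hom r := by
    rw [Scheme.Hom.appIso_hom']
    exact congrArg (fun q => q.hom r)
      (Scheme.Hom.appLE_comp_appLE (RelProj.emb p chart U hU) p U _ _ hWU _)
  rw [h1]
  refine GrModQC.fval_ext (fun x => ?_)
  have h2 := ProjStruct.fval_appLE (𝒜.deg U hU) hU (𝒜.strZero U hU)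
    (RelProj.emb p chart U hU ≫ p) (ProjQMap.emb_comp hP U hU)
    (Proj.basicOpen (𝒜.deg U hU) f) hD r x
  refine h2.trans ?_
  exact (ProjStruct.fval_awayToSection_fromZero (𝒜.deg U hU) hf
    (SecFam.zeroHom (𝒜.str.app (op U)).hom (𝒜.str_mem U hU) r) x).symm

variable {n : ℤ} {L : P.Modules}
  {lam : ∀ (U : S.Opens) (hU : IsAffineOpen U),
    L ⟶ (Scheme.Modules.pushforward (RelProj.emb p chart U hU)).obj
      (GrTwist.twist (𝒜.deg U hU) n)}
  (hL : RelProj.IsRelTwist 𝒜 p chart n L lam)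

include hP hL in
/-- the twisting sheaves are flat over the base when the graded pieces are eventually flat -/
theorem isFlatOver_twist (d₀ : ℕ)
    (hflat : ∀ d : ℕ, d₀ ≤ d → ∀ (U : S.Opens) (hU : IsAffineOpen U),
      letI := (𝒜.str.app (op U)).hom.toAlgebra
      Module.Flat Γ(S, U)
        ↥(Submodule.span Γ(S, U) (𝒜.deg U hU d : Set (𝒜.presheaf.obj (op U))))) :
    FlatMod.IsFlatOver p L := by
  haveI hqL : L.IsQuasicoherent :=
    RelTildeQC.isQuasicoherent_of_charts p chart (fun U hU => GrTwist.twist (𝒜.deg U hU) n)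
      (fun U hU => (GrModQC.isQuasicoherent_tilde (𝒜 := 𝒜.deg U hU) (ℳ := 𝒜.deg U hU) n :
        (GrMod.tilde (𝒜.deg U hU) (𝒜.deg U hU) n).IsQuasicoherent)) L lam hL.bijective
  intro x
  obtain ⟨U, hU, hxU⟩ := ProjQMap.exists_affine_mem (p x)
  obtain ⟨y, rfl⟩ := ProjQMap.exists_emb_eq p chart U hU x hxU
  obtain ⟨d, f, hd, hf, hfy⟩ := RelTwistNoethFT.exists_homogeneous_notMem (𝒜 := 𝒜.deg U hU) y
  have hWaff : IsAffineOpen (RelProj.emb p chart U hU ''ᵁ Proj.basicOpen (𝒜.deg U hU) f) :=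
    (Proj.isAffineOpen_basicOpen (𝒜.deg U hU) f hf hd).image_of_isOpenImmersion _
  have hWU : RelProj.emb p chart U hU ''ᵁ Proj.basicOpen (𝒜.deg U hU) f ≤ p ⁻¹ᵁ U :=
    ((RelProj.emb p chart U hU).image_le_opensRange _).trans
      (ProjQMap.opensRange_emb p chart U hU).le
  refine (Groth.Agent.Lib.Helper1.FlatAffine.flat_sections_iff p L hWaff hU hWU).1 ?_ _
    ⟨y, hfy, rfl⟩
  letI m1 : Module Γ(S, U)
      Γ(L, RelProj.emb p chart U hU ''ᵁ Proj.basicOpen (𝒜.deg U hU) f) :=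
    Module.compHom _ (p.appLE U _ hWU).hom
  letI m2 : Module Γ(S, U)
      Γ(GrMod.tilde (𝒜.deg U hU) (𝒜.deg U hU) n, Proj.basicOpen (𝒜.deg U hU) f) :=
    Module.compHom _ (SecFam.ι f (𝒜.str.app (op U)).hom (𝒜.str_mem U hU))
  haveI hfl : Module.Flat Γ(S, U)
      Γ(GrMod.tilde (𝒜.deg U hU) (𝒜.deg U hU) n, Proj.basicOpen (𝒜.deg U hU) f) :=
    FlatFam.flat_sections (𝒜.str.app (op U)).hom (𝒜.str_mem U hU) n hd hf d₀
      (fun i hi => hflat i hi U hU)
  let e0 := AddEquiv.ofBijective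
    (rd (RelProj.emb p chart U hU) (lam U hU) (Proj.basicOpen (𝒜.deg U hU) f))
    (rd_bijective (RelProj.emb p chart U hU) (lam U hU) (Proj.basicOpen (𝒜.deg U hU) f)
      (hL.bijective U hU _ hWU))
  let e : Γ(L, RelProj.emb p chart U hU ''ᵁ Proj.basicOpen (𝒜.deg U hU) f) ≃ₗ[Γ(S, U)]
      Γ(GrMod.tilde (𝒜.deg U hU) (𝒜.deg U hU) n, Proj.basicOpen (𝒜.deg U hU) f) :=
    { e0 with
      map_smul' := fun r m => by
        change rd (RelProj.emb p chart U hU) (lam U hU) (Proj.basicOpen (𝒜.deg U hU) f)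
            ((p.appLE U _ hWU).hom r • m) =
          SecFam.ι f (𝒜.str.app (op U)).hom (𝒜.str_mem U hU) r •
            rd (RelProj.emb p chart U hU) (lam U hU) (Proj.basicOpen (𝒜.deg U hU) f) m
        rw [rd_smul, appIso_appLE_eq_ι hP U hU hd hf hWU r] }
  exact Module.Flat.of_linearEquiv e

include hP in
/-- the relative Proj is flat over the base when the graded pieces are eventually flat -/
theorem flat (d₀ : ℕ)
    (hflat : ∀ d : ℕ, d₀ ≤ d → ∀ (U : S.Opens) (hU : IsAffineOpen U),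
      letI := (𝒜.str.app (op U)).hom.toAlgebra
      Module.Flat Γ(S, U)
        ↥(Submodule.span Γ(S, U) (𝒜.deg U hU d : Set (𝒜.presheaf.obj (op U))))) :
    Flat p := by
  rw [Groth.Agent.Lib.Helper17.FlatStructure.flat_iff_isFlatOver]
  exact isFlatOver_twist hP (RelTwistZero.isRelTwist_structureModule (𝒮 := 𝒜) (p := p)
    (chart := chart) hP 0 rfl) d₀ hflat

end Groth.Agent.Lib.Helper3.RelProjFlat
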