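import Groth.Agent.Lib.Helper3.RelProjLoc

set_option autoImplicit false
universe u
open CategoryTheory CategoryTheory.Limits AlgebraicGeometry TopologicalSpace Opposite
open scoped HomogeneousIdeal

namespace Groth.Agent.Lib.Helper3.RelProjInt

open HomogeneousLocalization

section algebra

variable {A : Type u} [CommRing A] (𝒜 : ℕ → AddSubgroup A) [GradedRing 𝒜]

theorem away_isDomain [IsDomain A] {f : A} (hf : f ≠ 0) : IsDomain (Away 𝒜 f) := by
  haveI : IsDomain (Localization (Submonoid.powers f)) :=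
    IsLocalization.isDomain_localization (powers_le_nonZeroDivisors_of_noZeroDivisors hf)
  exact Function.Injective.isDomain
    (algebraMap (Away 𝒜 f) (Localization (Submonoid.powers f)))
    (HomogeneousLocalization.val_injective _)

theorem basicOpen_isIntegral [IsDomain A] {f : A} (hf : f ≠ 0) {i : ℕ} (hi : 0 < i)
    (hfi : f ∈ 𝒜 i) : IsIntegral (Proj.basicOpen 𝒜 f).toScheme := by
  haveI : IsDomain (Away 𝒜 f) := away_isDomain 𝒜 hf
  haveI : IsDomain (CommRingCat.of (Away 𝒜 f)) := ‹_›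
  exact IsIntegral.of_isIso (Proj.basicOpenIsoSpec 𝒜 f hfi hi).inv

theorem proj_isIntegral [IsDomain A] (hne : (𝒜₊).toIdeal ≠ ⊥) : IsIntegral (Proj 𝒜) := by
  haveI : IsReduced (Proj 𝒜) := RelProjLoc.proj_isReduced _ (fun x _ hx => hx.eq_zero)
  let I := {x : A // x ≠ 0 ∧ ∃ i, 0 < i ∧ x ∈ 𝒜 i}
  have hcov : ⨆ s : I, Proj.basicOpen 𝒜 s.1 = ⊤ := by
    refine Proj.iSup_basicOpen_eq_top 𝒜 (fun s : I => s.1) ?_
    rw [HomogeneousIdeal.irrelevant_eq_span, Ideal.span_le]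
    intro x hx
    simp only [Set.mem_iUnion] at hx
    obtain ⟨i, hi, hxi⟩ := hx
    by_cases hx0 : x = 0
    · rw [hx0]; exact zero_mem _
    · exact Ideal.subset_span ⟨⟨x, hx0, i, hi, hxi⟩, rfl⟩
  have hint : ∀ s : I, IsIntegral (Proj.basicOpen 𝒜 s.1).toScheme := by
    rintro ⟨x, hx0, i, hi, hxi⟩
    exact basicOpen_isIntegral 𝒜 hx0 hi hxi
  have hpair : Pairwise (Function.onFun (fun U V : (Proj 𝒜).Opens => ¬ Disjoint U V)
      (fun s : I => Proj.basicOpen 𝒜 s.1)) := by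
    rintro ⟨x, hx0, i, hi, hxi⟩ ⟨y, hy0, j, hj, hyj⟩ _
    change ¬ Disjoint (Proj.basicOpen 𝒜 x) (Proj.basicOpen 𝒜 y)
    rw [disjoint_iff, ← Proj.basicOpen_mul]
    haveI := basicOpen_isIntegral 𝒜 (mul_ne_zero hx0 hy0) (Nat.add_pos_left hi j)
      (SetLike.mul_mem_graded hxi hyj)
    intro h
    obtain ⟨z⟩ := (inferInstance : Nonempty (Proj.basicOpen 𝒜 (x * y)).toScheme)
    have : ∃ w : Proj 𝒜, w ∈ Proj.basicOpen 𝒜 (x * y) := ⟨z.1, z.2⟩
    obtain ⟨w, hw⟩ := this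
    rw [h] at hw
    exact hw
  haveI : PreirreducibleSpace (Proj 𝒜) :=
    PreirreducibleSpace.of_isOpenCover hpair hcov (fun s => by
      haveI := hint s
      exact (inferInstance : IrreducibleSpace (Proj.basicOpen 𝒜 s.1).toScheme).toPreirreducibleSpace)
  haveI : Nonempty (Proj 𝒜) := by
    have : ∃ x ∈ (⋃ i > 0, (𝒜 i : Set A)), x ≠ 0 := by
      by_contra hcon
      push Not at hcon
      apply hne
      rw [HomogeneousIdeal.irrelevant_eq_span, Ideal.span_eq_bot]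
      exact hcon
    obtain ⟨x, hx, hx0⟩ := this
    simp only [Set.mem_iUnion] at hx
    obtain ⟨i, hi, hxi⟩ := hx
    haveI := basicOpen_isIntegral 𝒜 hx0 hi hxi
    obtain ⟨z⟩ := (inferInstance : Nonempty (Proj.basicOpen 𝒜 x).toScheme)
    exact ⟨z.1⟩
  haveI : IrreducibleSpace (Proj 𝒜) := { toPreirreducibleSpace := ‹_›, toNonempty := ‹_› }
  exact isIntegral_of_irreducibleSpace_of_isReduced _

end algebra

variable {Y P : Scheme.{u}} {𝒮 : RelProj.QCGrAlg Y} {p : P ⟶ Y}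
  {chart : ∀ (U : Y.Opens) (hU : IsAffineOpen U),
    ((p ⁻¹ᵁ U : P.Opens) : Scheme.{u}) ≅ Proj (𝒮.deg U hU)}

theorem isIntegral_and_dense [IsIntegral Y] (hP : RelProj.IsRelProj 𝒮 p chart)
    (hint : ∀ (U : Y.Opens) (hU : IsAffineOpen U), (U : Set Y).Nonempty →
      IsDomain (𝒮.presheaf.obj (op U)) ∧ ((𝒮.deg U hU)₊).toIdeal ≠ ⊥) :
    IsIntegral P ∧ DenseRange p.base := by
  -- every preimage of a nonempty affine open is integral
  have hpre : ∀ (U : Y.Opens) (hU : IsAffineOpen U), (U : Set Y).Nonempty →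
      IsIntegral (p ⁻¹ᵁ U).toScheme := by
    intro U hU hne
    obtain ⟨hdom, hirr⟩ := hint U hU hne
    haveI : IsIntegral (Proj (𝒮.deg U hU)) := proj_isIntegral _ hirr
    exact IsIntegral.of_isIso (chart U hU).inv
  have hpre_ne : ∀ (U : Y.Opens), IsAffineOpen U → (U : Set Y).Nonempty →
      ∃ x : P, p x ∈ U := by
    intro U hU hne
    haveI := hpre U hU hne
    obtain ⟨z⟩ := (inferInstance : Nonempty (p ⁻¹ᵁ U).toScheme)
    exact ⟨z.1, z.2⟩
  -- any nonempty open contains the image of a point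
  have hopen : ∀ O : Y.Opens, (O : Set Y).Nonempty → ∃ x : P, p x ∈ O := by
    intro O ⟨y, hy⟩
    obtain ⟨W, hW, hyW, hWO⟩ := (Opens.isBasis_iff_nbhd.mp Y.isBasis_affineOpens) hy
    obtain ⟨x, hx⟩ := hpre_ne W hW ⟨y, hyW⟩
    exact ⟨x, hWO hx⟩
  refine ⟨?_, ?_⟩
  · let I := {U : Y.affineOpens // (U.1 : Set Y).Nonempty}
    have hcov : ⨆ U : I, p ⁻¹ᵁ U.1.1 = ⊤ := by
      rw [eq_top_iff]
      intro x _
      obtain ⟨W, hW, hxW, -⟩ := (Opens.isBasis_iff_nbhd.mp Y.isBasis_affineOpens)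
        (show p x ∈ (⊤ : Y.Opens) from trivial)
      exact Opens.mem_iSup.mpr ⟨⟨⟨W, hW⟩, ⟨p x, hxW⟩⟩, hxW⟩
    have hpair : Pairwise (Function.onFun (fun U V : P.Opens => ¬ Disjoint U V)
        (fun U : I => p ⁻¹ᵁ U.1.1)) := by
      rintro ⟨U, hU⟩ ⟨V, hV⟩ _
      change ¬ Disjoint (p ⁻¹ᵁ U.1) (p ⁻¹ᵁ V.1)
      have hUV : ((U.1 ⊓ V.1 : Y.Opens) : Set Y).Nonempty :=
        nonempty_preirreducible_inter U.1.2 V.1.2 hU hV
      obtain ⟨x, hx⟩ := hopen _ hUV
      rw [disjoint_iff]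
      intro h
      have hx' : x ∈ p ⁻¹ᵁ U.1 ⊓ p ⁻¹ᵁ V.1 := hx
      rw [h] at hx'
      exact hx'
    haveI : IsReduced P := by
      let 𝒰 : P.OpenCover := P.openCoverOfIsOpenCover (fun U : I => p ⁻¹ᵁ U.1.1) hcov
      haveI : ∀ i, IsReduced (𝒰.X i) := by
        intro (U : I)
        haveI := hpre U.1.1 U.1.2 U.2
        exact (inferInstance : IsReduced (p ⁻¹ᵁ U.1.1).toScheme)
      exact IsReduced.of_openCover _ 𝒰
    haveI : PreirreducibleSpace P :=
      PreirreducibleSpace.of_isOpenCover hpair hcov (fun U => by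
        haveI := hpre U.1.1 U.1.2 U.2
        exact (inferInstance : IrreducibleSpace (p ⁻¹ᵁ U.1.1).toScheme).toPreirreducibleSpace)
    haveI : Nonempty P := by
      obtain ⟨x, -⟩ := hopen ⊤ ⟨Classical.arbitrary Y, trivial⟩
      exact ⟨x⟩
    haveI : IrreducibleSpace P := { toPreirreducibleSpace := ‹_›, toNonempty := ‹_› }
    exact isIntegral_of_irreducibleSpace_of_isReduced _
  · rw [DenseRange, dense_iff_inter_open]
    intro O hO hne
    obtain ⟨x, hx⟩ := hopen ⟨O, hO⟩ hne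
    exact ⟨p x, hx, x, rfl⟩

end Groth.Agent.Lib.Helper3.RelProjInt
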