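import Groth.Agent.Lib.Helper3.RelProjInt

set_option autoImplicit false
universe u
open CategoryTheory CategoryTheory.Limits AlgebraicGeometry TopologicalSpace Opposite
open scoped HomogeneousIdeal

namespace Groth.Agent.Lib.Helper3.RelProjInt2

open HomogeneousLocalization

section algebra

variable {A : Type u} [CommRing A] (𝒜 : ℕ → AddSubgroup A) [GradedRing 𝒜]

/-- a non-nilpotent homogeneous element of positive degree has a nonempty basic open -/
theorem basicOpen_nonempty {b : A} {n : ℕ} (hn : 0 < n) (hb : b ∈ 𝒜 n) (hnil : ¬ IsNilpotent b) :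
    ∃ z : Proj 𝒜, z ∈ Proj.basicOpen 𝒜 b := by
  haveI : Nontrivial (Away 𝒜 b) := by
    by_contra hcon
    rw [not_nontrivial_iff_subsingleton] at hcon
    have h10 : (1 : Away 𝒜 b) = 0 := Subsingleton.elim _ _
    have h1 := congrArg HomogeneousLocalization.val h10
    rw [val_one, val_zero] at h1
    haveI : Subsingleton (Localization (Submonoid.powers b)) :=
      subsingleton_of_zero_eq_one h1.symm
    have h0 : (0 : A) ∈ Submonoid.powers b :=
      (IsLocalization.subsingleton_iff (M := Submonoid.powers b)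
        (S := Localization (Submonoid.powers b))).mp inferInstance
    obtain ⟨k, hk⟩ := h0
    exact hnil ⟨k, hk⟩
  obtain ⟨w⟩ := (inferInstance : Nonempty (Spec (CommRingCat.of (Away 𝒜 b))))
  let z := (Proj.basicOpenIsoSpec 𝒜 b hb hn).inv w
  exact ⟨z.1, z.2⟩

theorem irrelevant_ne_bot_of_nonempty (z : Proj 𝒜) : (𝒜₊).toIdeal ≠ ⊥ := by
  intro h
  have hcov := Proj.iSup_basicOpen_eq_top 𝒜 (fun e : PEmpty.{1} => (e.elim : A))
    (by rw [h]; exact bot_le)
  have hz : z ∈ (⊤ : (Proj 𝒜).Opens) := trivial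
  rw [← hcov] at hz
  obtain ⟨e, -⟩ := Opens.mem_iSup.mp hz
  exact e.elim

end algebra

variable {Y P : Scheme.{u}} {𝒮 : RelProj.QCGrAlg Y} {p : P ⟶ Y}
  {chart : ∀ (U : Y.Opens) (hU : IsAffineOpen U),
    ((p ⁻¹ᵁ U : P.Opens) : Scheme.{u}) ≅ Proj (𝒮.deg U hU)}

theorem isDomain_and_ne_bot [IsIntegral Y] (hP : RelProj.IsRelProj 𝒮 p chart)
    (h0 : ∀ (U : Y.Opens) (hU : IsAffineOpen U), Function.Bijective (𝒮.strZero U hU).hom)
    (hred : ∀ (U : Y.Opens) (hU : IsAffineOpen U) (x : 𝒮.presheaf.obj (op U)),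
      x ∈ (𝒮.deg U hU)₊ → IsNilpotent x → x = 0)
    [IsIntegral P] (hdom : DenseRange p.base)
    (U : Y.Opens) (hU : IsAffineOpen U) (hne : (U : Set Y).Nonempty) :
    IsDomain (𝒮.presheaf.obj (op U)) ∧ ((𝒮.deg U hU)₊).toIdeal ≠ ⊥ := by
  -- any nonempty open of `Y` contains the image of a point
  have hopen : ∀ O : Y.Opens, (O : Set Y).Nonempty → ∃ x : P, p x ∈ O := by
    intro O hO
    obtain ⟨_, hy, x, rfl⟩ := (dense_iff_inter_open.mp hdom) O O.2 hO
    exact ⟨x, hy⟩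
  obtain ⟨x₀, hx₀⟩ := hopen U hne
  haveI : Nonempty (p ⁻¹ᵁ U) := ⟨⟨x₀, hx₀⟩⟩
  haveI : IsIntegral (p ⁻¹ᵁ U).toScheme := inferInstance
  haveI : IsIntegral (Proj (𝒮.deg U hU)) := IsIntegral.of_isIso (chart U hU).hom
  have hirr : ((𝒮.deg U hU)₊).toIdeal ≠ ⊥ :=
    irrelevant_ne_bot_of_nonempty _ ((chart U hU).hom ⟨x₀, hx₀⟩)
  refine ⟨?_, hirr⟩
  haveI : IsDomain Γ(Y, U) := by
    haveI : Nonempty U := ⟨⟨p x₀, hx₀⟩⟩
    infer_instance
  -- nonzero homogeneous elements of positive degree have nonempty basic open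
  have hN : ∀ {n : ℕ} (b : 𝒮.presheaf.obj (op U)), 0 < n → b ∈ 𝒮.deg U hU n → b ≠ 0 →
      ∃ z : Proj (𝒮.deg U hU), z ∈ Proj.basicOpen (𝒮.deg U hU) b := by
    intro n b hn hb hb0
    refine basicOpen_nonempty _ hn hb (fun hnil => hb0 ?_)
    exact hred U hU b (HomogeneousIdeal.mem_irrelevant_of_mem _ hn hb) hnil
  -- the degree zero / positive degree case
  have hZ : ∀ {n : ℕ} (a b : 𝒮.presheaf.obj (op U)), a ∈ 𝒮.deg U hU 0 → 0 < n →
      b ∈ 𝒮.deg U hU n → a * b = 0 → a = 0 ∨ b = 0 := by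
    intro n a b ha hn hb hab
    by_contra hcon
    push Not at hcon
    obtain ⟨ha0, hb0⟩ := hcon
    obtain ⟨r, hr⟩ := (h0 U hU).2 ⟨a, ha⟩
    have hra : (𝒮.str.app (op U)).hom r = a := congrArg Subtype.val hr
    have hr0 : r ≠ 0 := by
      rintro rfl
      rw [map_zero] at hra
      exact ha0 hra.symm
    have hDr : ((Y.basicOpen r : Y.Opens) : Set Y).Nonempty := by
      by_contra hcon
      apply hr0
      rw [← AlgebraicGeometry.basicOpen_eq_bot_iff]
      ext y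
      simp only [Opens.coe_bot, Set.mem_empty_iff_false, iff_false]
      exact fun hy => hcon ⟨y, hy⟩
    obtain ⟨z, hz⟩ := hN b hn hb hb0
    -- two nonempty opens of `P`
    let O₁ : P.Opens := p ⁻¹ᵁ (Y.basicOpen r)
    let O₂ : P.Opens := (p ⁻¹ᵁ U).ι ''ᵁ ((chart U hU).hom ⁻¹ᵁ Proj.basicOpen (𝒮.deg U hU) b)
    have hO₁ : (O₁ : Set P).Nonempty := by
      obtain ⟨x, hx⟩ := hopen _ hDr
      exact ⟨x, hx⟩
    have hO₂ : (O₂ : Set P).Nonempty := by
      refine ⟨((chart U hU).inv z).1, (chart U hU).inv z, ?_, rfl⟩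
      change (chart U hU).hom ((chart U hU).inv z) ∈ Proj.basicOpen (𝒮.deg U hU) b
      rw [← Scheme.Hom.comp_apply, Iso.inv_hom_id]
      exact hz
    obtain ⟨x, hx1, ⟨y, hy, hyx⟩⟩ := nonempty_preirreducible_inter O₁.2 O₂.2 hO₁ hO₂
    have hxr : x ∈ p ⁻¹ᵁ (Y.basicOpen r) := hx1
    have hxU : x ∈ p ⁻¹ᵁ U := Y.basicOpen_le r hxr
    have hyx' : y = ⟨x, hxU⟩ := Subtype.ext hyx
    subst hyx'
    have key : (chart U hU).hom ⟨x, hxU⟩ =
        Proj.map (𝒮.res hU (hU.basicOpen r) (Y.basicOpen_le r)) (𝒮.irrelevant_le_map U hU r)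
          ((chart (Y.basicOpen r) (hU.basicOpen r)).hom ⟨x, hxr⟩) := by
      have := congrArg (fun ψ : ((p ⁻¹ᵁ (Y.basicOpen r) : P.Opens) : Scheme.{u}) ⟶ _ => ψ ⟨x, hxr⟩)
        (hP.chart_res U hU r)
      simp only [Scheme.Hom.comp_apply] at this
      rw [← this, Scheme.homOfLE_apply']
    have hy' : (chart U hU).hom ⟨x, hxU⟩ ∈ Proj.basicOpen (𝒮.deg U hU) b := hy
    rw [key] at hy'
    have hy'' : (chart (Y.basicOpen r) (hU.basicOpen r)).hom ⟨x, hxr⟩ ∈
        Proj.basicOpen (𝒮.deg (Y.basicOpen r) (hU.basicOpen r))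
          (𝒮.res hU (hU.basicOpen r) (Y.basicOpen_le r) b) := hy'
    -- the restriction of `b` vanishes
    have hres : 𝒮.res hU (hU.basicOpen r) (Y.basicOpen_le r) b = 0 := by
      let ψ := 𝒮.res hU (hU.basicOpen r) (Y.basicOpen_le r)
      letI := (𝒮.presheaf.map (homOfLE (Y.basicOpen_le r)).op).hom.toAlgebra
      haveI hloc : IsLocalization.Away ((𝒮.str.app (op U)).hom r)
        (𝒮.presheaf.obj (op (Y.basicOpen r))) := 𝒮.isQC U hU r
      have hu : IsUnit (ψ ((𝒮.str.app (op U)).hom r)) :=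
        IsLocalization.Away.algebraMap_isUnit ((𝒮.str.app (op U)).hom r)
      have hzero : ψ ((𝒮.str.app (op U)).hom r) * ψ b = 0 := by
        rw [← map_mul, hra, hab, map_zero]
      exact (hu.mul_right_eq_zero).mp hzero
    rw [hres, Proj.basicOpen_zero] at hy''
    exact hy''
  haveI : (⊥ : Ideal (𝒮.presheaf.obj (op U))).IsPrime := by
    refine Ideal.IsHomogeneous.isPrime_of_homogeneous_mem_or_mem (𝒜 := 𝒮.deg U hU)
      (Ideal.IsHomogeneous.bot _) ?_ ?_
    · intro h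
      apply hirr
      rw [eq_bot_iff, h]
      exact le_top
    · rintro x y ⟨m, hx⟩ ⟨n, hy⟩ hxy
      rw [Ideal.mem_bot] at hxy
      simp only [Ideal.mem_bot]
      rcases Nat.eq_zero_or_pos m with rfl | hm <;> rcases Nat.eq_zero_or_pos n with rfl | hn
      · -- both of degree zero
        obtain ⟨r, hr⟩ := (h0 U hU).2 ⟨x, hx⟩
        obtain ⟨s, hs⟩ := (h0 U hU).2 ⟨y, hy⟩
        have hrx : (𝒮.str.app (op U)).hom r = x := congrArg Subtype.val hr
        have hsy : (𝒮.str.app (op U)).hom s = y := congrArg Subtype.val hs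
        have hrs : (𝒮.strZero U hU).hom (r * s) = (𝒮.strZero U hU).hom 0 := by
          apply Subtype.ext
          change (𝒮.str.app (op U)).hom (r * s) = (𝒮.str.app (op U)).hom 0
          rw [map_mul, hrx, hsy, hxy, map_zero]
        rcases mul_eq_zero.mp ((h0 U hU).1 hrs) with h | h
        · left; rw [← hrx, h, map_zero]
        · right; rw [← hsy, h, map_zero]
      · exact hZ x y hx hn hy hxy
      · rw [mul_comm] at hxy
        exact (hZ y x hy hm hx hxy).symm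
      · by_contra hcon
        push Not at hcon
        obtain ⟨z₁, hz₁⟩ := hN x hm hx hcon.1
        obtain ⟨z₂, hz₂⟩ := hN y hn hy hcon.2
        obtain ⟨w, hw1, hw2⟩ := nonempty_preirreducible_inter
          (Proj.basicOpen (𝒮.deg U hU) x).2 (Proj.basicOpen (𝒮.deg U hU) y).2 ⟨z₁, hz₁⟩ ⟨z₂, hz₂⟩
        have hw : w ∈ Proj.basicOpen (𝒮.deg U hU) (x * y) := by
          rw [Proj.basicOpen_mul]
          exact ⟨hw1, hw2⟩
        rw [hxy, Proj.basicOpen_zero] at hw
        exact hw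
  exact IsDomain.of_bot_isPrime _

end Groth.Agent.Lib.Helper3.RelProjInt2
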