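import Mathlib.AlgebraicGeometry.Sites.SmallAffineZariski
import Mathlib.AlgebraicGeometry.Morphisms.Affine

/-!
# The relative spectrum of a quasi-coherent algebra (general part)

For `F : S.AffineZariskiSiteᵒᵖ ⥤ CommRingCat` with a coequifibered structure map `α` from `𝒪_S`
(i.e. `F(D(r)) = F(U)[1/r]`), Mathlib glues the `Spec F(U)` to a scheme `rspec H` over `S`.  We record
the identification `Γ(rspec H, proj⁻¹ U) ≅ F(U)` (`psi`), its naturality and its compatibility with `α`.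
-/

set_option autoImplicit false
universe u
open CategoryTheory CategoryTheory.Limits AlgebraicGeometry TopologicalSpace Opposite
open AlgebraicGeometry.Scheme AlgebraicGeometry.Scheme.AffineZariskiSite

namespace Groth.Agent.Lib.Helper3.RelSpec

theorem appLE_of_eq {X Y : Scheme.{u}} {f g : X ⟶ Y} (h : f = g) (U : Y.Opens) (V : X.Opens)
    (e : V ≤ f ⁻¹ᵁ U) : f.appLE U V e = g.appLE U V (h ▸ e) := by
  subst h; rfl

theorem appLE_top_top {X Y : Scheme.{u}} (f : X ⟶ Y) (e : (⊤ : X.Opens) ≤ f ⁻¹ᵁ ⊤) :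
    f.appLE ⊤ ⊤ e = f.appTop := by
  have h : f.appTop = f.appLE ⊤ (f ⁻¹ᵁ ⊤) le_rfl := Scheme.Hom.app_eq_appLE f
  rw [h]
  rfl

variable {S : Scheme.{u}} {F : S.AffineZariskiSiteᵒᵖ ⥤ CommRingCat.{u}}
  {α : (toOpensFunctor S).op ⋙ S.presheaf ⟶ F} (H : α.Coequifibered)

instance : ((relativeGluingData H).functor ⋙ Scheme.forget).IsLocallyDirected :=
  Cover.RelativeGluingData.instIsLocallyDirectedI₀CompFunctorForgetOfIsThin ..

/-- The relative spectrum. -/
noncomputable abbrev rspec : Scheme.{u} := (relativeGluingData H).glued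

/-- The structure morphism of the relative spectrum. -/
noncomputable abbrev proj : rspec H ⟶ S := (relativeGluingData H).toBase

/-- The open chart `Spec F(U) ⟶ rspec`. -/
noncomputable abbrev inc (U : S.AffineZariskiSite) : Spec (F.obj (op U)) ⟶ rspec H :=
  colimit.ι (relativeGluingData H).functor U

instance (U : S.AffineZariskiSite) : IsOpenImmersion (inc H U) :=
  inferInstanceAs (IsOpenImmersion ((relativeGluingData H).cover.f U))

theorem inc_proj (U : S.AffineZariskiSite) :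
    inc H U ≫ proj H = Spec.map (α.app (op U)) ≫ U.2.fromSpec :=
  (Cover.RelativeGluingData.ι_toBase (relativeGluingData H) U).trans rfl

theorem inc_w {U V : S.AffineZariskiSite} (j : V ⟶ U) :
    inc H V = Spec.map (F.map j.op) ≫ inc H U :=
  (colimit.w (relativeGluingData H).functor j).symm

theorem proj_preimage (U : S.AffineZariskiSite) :
    proj H ⁻¹ᵁ U.1 = (inc H U).opensRange := by
  simpa using! (relativeGluingData H).toBase_preimage_eq_opensRange_ι U

theorem top_le (U : S.AffineZariskiSite) :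
    (⊤ : (Spec (F.obj (op U))).Opens) ≤ inc H U ⁻¹ᵁ (proj H ⁻¹ᵁ U.1) := by
  rw [proj_preimage]
  intro x _
  exact ⟨x, rfl⟩

/-- `Γ(rspec, proj⁻¹ U) ⟶ F(U)`. -/
noncomputable def psi (U : S.AffineZariskiSite) : Γ(rspec H, proj H ⁻¹ᵁ U.1) ⟶ F.obj (op U) :=
  (inc H U).appLE (proj H ⁻¹ᵁ U.1) ⊤ (top_le H U) ≫ (Scheme.ΓSpecIso (F.obj (op U))).hom

instance isIso_psi (U : S.AffineZariskiSite) : IsIso (psi H U) := by
  unfold psi
  have h1 : IsIso ((inc H U).app (proj H ⁻¹ᵁ U.1)) :=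
    Scheme.Hom.isIso_app _ _ (by rw [proj_preimage])
  have h2 : IsIso ((inc H U).appLE (proj H ⁻¹ᵁ U.1) ⊤ (top_le H U)) := by
    unfold Scheme.Hom.appLE
    have h3 : IsIso (homOfLE (top_le H U)) :=
      ⟨⟨homOfLE le_top, Subsingleton.elim _ _, Subsingleton.elim _ _⟩⟩
    infer_instance
  infer_instance

theorem psi_naturality {U V : S.AffineZariskiSite} (j : V ⟶ U)
    (k : proj H ⁻¹ᵁ V.1 ⟶ proj H ⁻¹ᵁ U.1) :
    (rspec H).presheaf.map k.op ≫ psi H V = psi H U ≫ F.map j.op := by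
  unfold psi
  rw [Scheme.Hom.map_appLE_assoc, appLE_of_eq (inc_w H j),
    ← Scheme.Hom.appLE_comp_appLE (Spec.map (F.map j.op)) (inc H U) (proj H ⁻¹ᵁ U.1) ⊤ ⊤
      (top_le H U) le_top, appLE_top_top, Category.assoc, Category.assoc,
    Scheme.ΓSpecIso_naturality]

set_option backward.isDefEq.respectTransparency false in
theorem proj_app_psi (U : S.AffineZariskiSite) :
    (proj H).app U.1 ≫ psi H U = α.app (op U) := by
  unfold psi
  have e1 : (⊤ : (Spec Γ(S, U.1)).Opens) ≤ U.2.fromSpec ⁻¹ᵁ U.1 := by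
    rw [U.2.fromSpec_preimage_self]
  have e2 : U.2.fromSpec.appLE U.1 ⊤ e1 = (Scheme.ΓSpecIso Γ(S, U.1)).inv := by
    unfold Scheme.Hom.appLE
    rw [U.2.fromSpec_app_self, Category.assoc, ← Functor.map_comp]
    have : (eqToHom U.2.fromSpec_preimage_self).op ≫ (homOfLE e1).op = 𝟙 _ :=
      Subsingleton.elim _ _
    rw [this, CategoryTheory.Functor.map_id, Category.comp_id]
  rw [← Category.assoc, Scheme.Hom.app_eq_appLE, Scheme.Hom.appLE_comp_appLE,
    appLE_of_eq (inc_proj H U),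
    ← Scheme.Hom.appLE_comp_appLE (Spec.map (α.app (op U))) U.2.fromSpec U.1 ⊤ ⊤ e1 le_top,
    appLE_top_top, e2, Category.assoc, Scheme.ΓSpecIso_naturality]
  exact (Scheme.ΓSpecIso Γ(S, U.1)).inv_hom_id_assoc _

theorem isAffineHom_proj : IsAffineHom (proj H) := by
  apply isAffineHom_of_forall_exists_isAffineOpen
  intro x
  obtain ⟨_, ⟨U, hU, rfl⟩, hxU, -⟩ :=
    S.isBasis_affineOpens.exists_subset_of_mem_open (Set.mem_univ x) isOpen_univ
  refine ⟨U, hxU, hU, ?_⟩
  rw [proj_preimage H ⟨U, hU⟩]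
  exact isAffineOpen_opensRange _

end Groth.Agent.Lib.Helper3.RelSpec
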