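import Groth.Agent.Lib.Helper3.GrModTNFin
import Groth.Agent.Lib.Helper3.RelTildeFT
import Groth.Agent.Lib.Helper3.RelProjFT
import Groth.Agent.Lib.Helper3.GrModExact

/-!
# (TF) and `ℳ~ = 0` imply (TN) over a quasi-compact base
-/

set_option autoImplicit false
set_option linter.unusedSectionVars false
universe u
open CategoryTheory CategoryTheory.Limits AlgebraicGeometry TopologicalSpace Opposite
open Scheme.Modules
open scoped HomogeneousIdeal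

namespace Groth.Agent.Lib.Helper3.RelTildeTN

open QCSec InvGen GrModQC

variable {Y P : Scheme.{u}} {𝒮 : RelProj.QCGrAlg Y} {p : P ⟶ Y}
  {chart : ∀ (U : Y.Opens) (hU : IsAffineOpen U),
    ((p ⁻¹ᵁ U : P.Opens) : Scheme.{u}) ≅ Proj (𝒮.deg U hU)}
  {ℳ : RelProj.GrModule 𝒮} {F : P.Modules}
  {lam : ∀ (U : Y.Opens) (hU : IsAffineOpen U),
    F ⟶ (Scheme.Modules.pushforward (RelProj.emb p chart U hU)).obj
      (GrMod.tilde (𝒮.deg U hU) (ℳ.deg U hU) 0)}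

theorem eq_zero_of_isZero {X : Scheme.{u}} {F : X.Modules} (h : IsZero F) (W : X.Opens)
    (s : Γ(F, W)) : s = 0 := by
  have h1 : 𝟙 F = 0 := h.eq_of_src _ _
  have h2 : (𝟙 F : F ⟶ F).app W s = (0 : F ⟶ F).app W s := by rw [h1]
  exact h2

/-- the bound over one affine open -/
theorem exists_bound_affine (hgen : 𝒮.IsGenDegOne) (hft : 𝒮.IsFTDeg 1) (hTF : ℳ.IsTF)
    (hb : ∀ (U : Y.Opens) (hU : IsAffineOpen U) (W : P.Opens), W ≤ p ⁻¹ᵁ U →
      Function.Bijective ((lam U hU).app W)) (h0 : IsZero F) (U : Y.Opens) (hU : IsAffineOpen U) :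
    ∃ n₁ : ℕ, ∀ k : ℕ, n₁ ≤ k → ∀ m ∈ ℳ.deg U hU k, m = 0 := by
  obtain ⟨n₀, hn₀⟩ := hTF
  obtain ⟨T, hT1, hT⟩ := hft U hU
  have hspan := RelProjFT.irrelevant_le_span (𝒮.deg U hU) (𝒮.str.app (op U)).hom
    (𝒮.str_mem U hU) (hgen U hU) T hT1 hT
  refine GrModTNFin.exists_bound (ℳ := ℳ.deg U hU) T hT1 hspan n₀ (hn₀ U hU) (fun f hf t => ?_)
  let V : P.Opens := RelProj.emb p chart U hU ''ᵁ Proj.basicOpen (𝒮.deg U hU) f
  have hpre : RelProj.emb p chart U hU ⁻¹ᵁ V = Proj.basicOpen (𝒮.deg U hU) f :=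
    (RelProj.emb p chart U hU).preimage_image_eq _
  have hle : V ≤ (RelProj.emb p chart U hU).opensRange :=
    (RelProj.emb p chart U hU).image_le_opensRange _
  have hle' : V ≤ p ⁻¹ᵁ U := by rwa [ProjQMap.opensRange_emb] at hle
  obtain ⟨s, hs⟩ := (hb U hU V hle').2
    (res (GrMod.tilde (𝒮.deg U hU) (ℳ.deg U hU) 0) (le_of_eq hpre) t)
  rw [eq_zero_of_isZero h0 V s, map_zero] at hs
  apply mval_ext
  intro x
  have hx : x.1 ∈ RelProj.emb p chart U hU ⁻¹ᵁ V := by rw [hpre]; exact x.2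
  have := congrArg (fun q => mval q ⟨x.1, hx⟩) hs
  exact this.symm

section loc

variable (ℳ)

/-- the underlying `O_Y`-module -/
noncomputable abbrev OM : Y.Modules := (AMod.toOS 𝒮.toQCAlg).obj ℳ.mod

theorem OM_smul (U : Y.Opens) (a : Γ(Y, U)) (t : ℳ.mod.val.obj (op U)) :
    (a • (show Γ(OM ℳ, U) from t) : Γ(OM ℳ, U)) =
      (show Γ(OM ℳ, U) from ((𝒮.str.app (op U)).hom a • t : ℳ.mod.val.obj (op U))) := rfl

theorem OM_res {U V : Y.Opens} (h : V ≤ U) (t : ℳ.mod.val.obj (op U)) :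
    res (OM ℳ) h (show Γ(OM ℳ, U) from t) =
      (show Γ(OM ℳ, V) from (ℳ.mod.val.map (homOfLE h).op).hom t) := rfl

/-- a bound over an affine open is a bound over its basic opens -/
theorem bound_basicOpen (hℳ : Coh.IsQCoh (OM ℳ)) (U : Y.Opens) (hU : IsAffineOpen U) (n₁ : ℕ)
    (H : ∀ k : ℕ, n₁ ≤ k → ∀ m ∈ ℳ.deg U hU k, m = 0) (r : Γ(Y, U)) :
    ∀ k : ℕ, n₁ ≤ k → ∀ m ∈ ℳ.deg (Y.basicOpen r) (hU.basicOpen r) k, m = 0 := by
  intro k hk m' hm'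
  haveI : (OM ℳ).IsQuasicoherent := hℳ
  have hloc := isLocSec_of_isQuasicoherent (OM ℳ) hU r (Y.basicOpen r) rfl (Y.basicOpen_le r)
  obtain ⟨N, s, hs⟩ := hloc.surj (show Γ(OM ℳ, Y.basicOpen r) from m')
  -- the component of degree `k` of `s` vanishes
  have hsk : ((DirectSum.decompose (ℳ.deg U hU) (show ℳ.mod.val.obj (op U) from s) k :
      ℳ.deg U hU k) : ℳ.mod.val.obj (op U)) = 0 := H k hk _ (SetLike.coe_mem _)
  set ρ : 𝒮.presheaf.obj (op (Y.basicOpen r)) :=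
    (𝒮.str.app (op (Y.basicOpen r))).hom (rres Y (Y.basicOpen_le r) r) with hρ
  have hs' : ℳ.res hU (hU.basicOpen r) (Y.basicOpen_le r) (show ℳ.mod.val.obj (op U) from s) =
      ρ ^ N • m' := by
    have h1 : (rres Y (Y.basicOpen_le r) r ^ N • (show Γ(OM ℳ, Y.basicOpen r) from m') :
        Γ(OM ℳ, Y.basicOpen r)) =
        (show Γ(OM ℳ, Y.basicOpen r) from
          ((𝒮.str.app (op (Y.basicOpen r))).hom (rres Y (Y.basicOpen_le r) r ^ N) • m' :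
            ℳ.mod.val.obj (op (Y.basicOpen r)))) := rfl
    rw [h1, map_pow] at hs
    exact hs
  have hρ0 : ρ ^ N ∈ 𝒮.deg (Y.basicOpen r) (hU.basicOpen r) 0 := by
    have := SetLike.pow_mem_graded N (𝒮.str_mem (Y.basicOpen r) (hU.basicOpen r)
      (rres Y (Y.basicOpen_le r) r))
    rwa [smul_zero] at this
  have hmem : ρ ^ N • m' ∈ ℳ.deg (Y.basicOpen r) (hU.basicOpen r) k := by
    have := SetLike.GradedSMul.smul_mem hρ0 hm'
    rwa [vadd_eq_add, zero_add] at this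
  have h2 := GrModExact.coe_decompose_map (ℳ.deg U hU)
    (ℳ.deg (Y.basicOpen r) (hU.basicOpen r))
    (ℳ.res hU (hU.basicOpen r) (Y.basicOpen_le r))
    (fun i m hm => ℳ.res_mem hU (hU.basicOpen r) (Y.basicOpen_le r) i m hm)
    (show ℳ.mod.val.obj (op U) from s) k
  rw [hs', DirectSum.decompose_of_mem_same _ hmem, hsk, map_zero] at h2
  -- `ρ` is a unit
  have hu : IsUnit (rres Y (Y.basicOpen_le r) r) :=
    RingedSpace.isUnit_res_basicOpen Y.toRingedSpace r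
  have hρu : IsUnit (ρ ^ N) := (hu.map _).pow N
  obtain ⟨c, hc⟩ := hρu.exists_left_inv
  calc m' = (c * ρ ^ N) • m' := by rw [hc, one_smul]
    _ = 0 := by rw [mul_smul, h2, smul_zero]

theorem bound_congr {V V' : Y.Opens} (h : V = V') (hV : IsAffineOpen V) (hV' : IsAffineOpen V')
    (n₁ : ℕ) (H : ∀ k : ℕ, n₁ ≤ k → ∀ m ∈ ℳ.deg V hV k, m = 0) :
    ∀ k : ℕ, n₁ ≤ k → ∀ m ∈ ℳ.deg V' hV' k, m = 0 := by
  subst h
  exact H

end loc

/-- (TF) and `ℳ~ = 0` imply (TN) over a quasi-compact base -/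
theorem isTN [CompactSpace Y] (hgen : 𝒮.IsGenDegOne) (hft : 𝒮.IsFTDeg 1)
    (hℳ : Coh.IsQCoh ((AMod.toOS 𝒮.toQCAlg).obj ℳ.mod)) (hTF : ℳ.IsTF)
    (hb : ∀ (U : Y.Opens) (hU : IsAffineOpen U) (W : P.Opens), W ≤ p ⁻¹ᵁ U →
      Function.Bijective ((lam U hU).app W)) (h0 : IsZero F) : ℳ.IsTN := by
  classical
  have key := fun U : Y.affineOpens => exists_bound_affine hgen hft hTF hb h0 U.1 U.2
  choose nb hnb using key
  obtain ⟨t, ht⟩ := isCompact_univ.elim_finite_subcover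
    (fun U : Y.affineOpens => ((U.1 : Y.Opens) : Set Y)) (fun U => U.1.isOpen)
    (fun x _ => by
      obtain ⟨U, hU, hxU⟩ := ProjQMap.exists_affine_mem x
      exact Set.mem_iUnion.mpr ⟨⟨U, hU⟩, hxU⟩)
  refine ⟨∑ U ∈ t, nb U, fun U hU k hk m hm => ?_⟩
  have hm0 : (show Γ(OM ℳ, U) from m) = 0 := by
    refine ModBasis.eq_zero_of_locally_zero (OM ℳ) U _ (fun x hxU => ?_)
    obtain ⟨Ui, hUi⟩ := Set.mem_iUnion.mp (ht (Set.mem_univ x))
    obtain ⟨hUit, hxUi⟩ := Set.mem_iUnion.mp hUi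
    obtain ⟨r, r', hrr', hxr⟩ := exists_basicOpen_le_affine_inter Ui.2 hU x ⟨hxUi, hxU⟩
    have hle : nb Ui ≤ k :=
      (Finset.single_le_sum (fun _ _ => Nat.zero_le _) hUit).trans hk
    have H1 := bound_basicOpen ℳ hℳ Ui.1 Ui.2 (nb Ui) (hnb Ui) r
    have H2 := bound_congr ℳ hrr' (Ui.2.basicOpen r) (hU.basicOpen r') (nb Ui) H1
    refine ⟨Y.basicOpen r', Y.basicOpen_le r', hrr' ▸ hxr, ?_⟩
    exact H2 k hle _ (ℳ.res_mem hU (hU.basicOpen r') (Y.basicOpen_le r') k m hm)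
  exact hm0

end Groth.Agent.Lib.Helper3.RelTildeTN
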