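import Groth.Agent.Lib.Helper3.RelGlueMod
import Groth.Agent.Lib.Helper3.GrModLoc
import Groth.Agent.Lib.Helper3.RelTwistExist
import Groth.Agent.Lib.Helper3.RelTildeTN

/-!
# Existence of the modules `(ℳ(n))~` on a relative Proj
-/

set_option autoImplicit false
set_option linter.unusedSectionVars false
universe u
open CategoryTheory CategoryTheory.Limits AlgebraicGeometry TopologicalSpace Opposite
open Scheme.Modules
open scoped HomogeneousIdeal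

namespace Groth.Agent.Lib.Helper3.RelTildeExist

open QCSec InvGen GrModQC

section ring

variable {A B C σ τ ρ : Type u} [CommRing A] [CommRing B] [CommRing C]
  [SetLike σ A] [AddSubgroupClass σ A] {𝒜 : ℕ → σ} [GradedRing 𝒜]
  [SetLike τ B] [AddSubgroupClass τ B] {ℬ : ℕ → τ} [GradedRing ℬ]
  [SetLike ρ C] [AddSubgroupClass ρ C] {𝒞 : ℕ → ρ} [GradedRing 𝒞]
  {M₁ τ₁ : Type u} [AddCommGroup M₁] [Module A M₁] [SetLike τ₁ M₁] [AddSubgroupClass τ₁ M₁]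
  {ℳ₁ : ℕ → τ₁} [SetLike.GradedSMul 𝒜 ℳ₁]
  {M₂ τ₂ : Type u} [AddCommGroup M₂] [Module B M₂] [SetLike τ₂ M₂] [AddSubgroupClass τ₂ M₂]
  {ℳ₂ : ℕ → τ₂} [SetLike.GradedSMul ℬ ℳ₂]
  {M₃ τ₃ : Type u} [AddCommGroup M₃] [Module C M₃] [SetLike τ₃ M₃] [AddSubgroupClass τ₃ M₃]
  {ℳ₃ : ℕ → τ₃} [SetLike.GradedSMul 𝒞 ℳ₃]

/-- the maps of localized modules along a commutative triangle agree on the values of a section
of `M(n)~` -/
theorem locModMap_locModMap_val' (ψ₁ : 𝒜 →+*ᵍ ℬ) (h₁ : ℬ₊ ≤ (𝒜₊).map ψ₁)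
    (v₁ : M₁ →ₛₗ[ψ₁.toRingHom] M₂) (ψ₂ : ℬ →+*ᵍ 𝒞)
    (h₂ : 𝒞₊ ≤ (ℬ₊).map ψ₂) (v₂ : M₂ →ₛₗ[ψ₂.toRingHom] M₃) (ψ₃ : 𝒜 →+*ᵍ 𝒞)
    (h₃ : 𝒞₊ ≤ (𝒜₊).map ψ₃) (v₃ : M₁ →ₛₗ[ψ₃.toRingHom] M₃)
    (hcomm : ∀ a, ψ₂ (ψ₁ a) = ψ₃ a) (hcommM : ∀ m, v₂ (v₁ m) = v₃ m)
    (y : ProjectiveSpectrum 𝒞) {n : ℤ} {W : (Proj 𝒜).Opens} (t : Γ(GrMod.tilde 𝒜 ℳ₁ n, W))
    (m1 : ProjectiveSpectrum.comap ψ₁ h₁ (ProjectiveSpectrum.comap ψ₂ h₂ y) ∈ W)
    (m2 : ProjectiveSpectrum.comap ψ₃ h₃ y ∈ W) :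
    GrMod.locModMap ψ₂ h₂ v₂ y (GrMod.locModMap ψ₁ h₁ v₁ _ (GrMod.val t ⟨_, m1⟩)) =
      GrMod.locModMap ψ₃ h₃ v₃ y (GrMod.val t ⟨_, m2⟩) := by
  have hx : ProjectiveSpectrum.comap ψ₁ h₁ (ProjectiveSpectrum.comap ψ₂ h₂ y) =
      ProjectiveSpectrum.comap ψ₃ h₃ y := by
    apply ProjectiveSpectrum.ext
    apply HomogeneousIdeal.toIdeal_injective
    ext a
    change ψ₂ (ψ₁ a) ∈ y.asHomogeneousIdeal ↔ ψ₃ a ∈ y.asHomogeneousIdeal
    rw [hcomm]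
  obtain ⟨V, hxV, hVW, i, j, a, s, hs, -, hv⟩ := isLocMFrac_mval t ⟨_, m1⟩
  have hxV' : ProjectiveSpectrum.comap ψ₃ h₃ y ∈ V := hx ▸ hxV
  have e1 := hv ⟨_, hxV⟩
  have e2 := hv ⟨_, hxV'⟩
  change GrMod.val t ⟨_, m1⟩ = _ at e1
  change GrMod.val t ⟨_, m2⟩ = _ at e2
  rw [e1, e2, GrMod.locModMap_mk, GrMod.locModMap_mk, GrMod.locModMap_mk]
  congr 1
  · exact hcommM _
  · exact Subtype.ext (hcomm _)

end ring

variable {Y P : Scheme.{u}} {𝒮 : RelProj.QCGrAlg Y} {p : P ⟶ Y}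
  {chart : ∀ (U : Y.Opens) (hU : IsAffineOpen U),
    ((p ⁻¹ᵁ U : P.Opens) : Scheme.{u}) ≅ Proj (𝒮.deg U hU)}
  (ℳ : RelProj.GrModule 𝒮)

open RelTwistExist (hirr_of_eq emb_of_eq emb_mem emb_comap res_res_apply)

section trans

variable {U V : Y.Opens} (hU : IsAffineOpen U) (hV : IsAffineOpen V) (hle : V ≤ U)
  (hirr : (𝒮.deg V hV)₊ ≤ ((𝒮.deg U hU)₊).map (𝒮.res hU hV hle))
  (hemb : Proj.map (𝒮.res hU hV hle) hirr ≫ RelProj.emb p chart U hU = RelProj.emb p chart V hV)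
  (n : ℤ)

/-- the transition morphism between the chart modules -/
noncomputable def ν0 :
    (Scheme.Modules.pushforward (RelProj.emb p chart U hU)).obj
        (GrMod.tilde (𝒮.deg U hU) (ℳ.deg U hU) n) ⟶
      (Scheme.Modules.pushforward (RelProj.emb p chart V hV)).obj
        (GrMod.tilde (𝒮.deg V hV) (ℳ.deg V hV) n) :=
  (Scheme.Modules.pushforward (RelProj.emb p chart U hU)).map
      (GrMod.comap (𝒮.res hU hV hle) hirr (ℳ.res hU hV hle)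
        (fun i m hm => ℳ.res_mem hU hV hle i m hm) n) ≫
    (Scheme.Modules.pushforwardComp (Proj.map (𝒮.res hU hV hle) hirr)
      (RelProj.emb p chart U hU)).hom.app _ ≫
    (Scheme.Modules.pushforwardCongr hemb).hom.app _

theorem val_ν0 (W : P.Opens)
    (t : Γ(GrMod.tilde (𝒮.deg U hU) (ℳ.deg U hU) n, RelProj.emb p chart U hU ⁻¹ᵁ W))
    (y : ProjectiveSpectrum (𝒮.deg V hV))
    (hy : (RelProj.emb p chart V hV).base y ∈ W)
    (hy' : (RelProj.emb p chart U hU).base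
      (ProjectiveSpectrum.comap (𝒮.res hU hV hle) hirr y) ∈ W) :
    GrMod.val (V := RelProj.emb p chart V hV ⁻¹ᵁ W)
        ((ν0 ℳ hU hV hle hirr hemb n).app W t) ⟨y, hy⟩ =
      GrMod.locModMap (𝒮.res hU hV hle) hirr (ℳ.res hU hV hle) y
        (GrMod.val (V := RelProj.emb p chart U hU ⁻¹ᵁ W) t ⟨_, hy'⟩) := rfl

end trans

/-- the chart modules are supported over their charts -/
theorem supp (n : ℤ) (U : Y.Opens) (hU : IsAffineOpen U) (W : P.Opens) :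
    Function.Bijective (res ((Scheme.Modules.pushforward (RelProj.emb p chart U hU)).obj
      (GrMod.tilde (𝒮.deg U hU) (ℳ.deg U hU) n)) (inf_le_left : W ⊓ p ⁻¹ᵁ U ≤ W)) := by
  constructor
  · intro s s' hss
    refine mval_ext (U := RelProj.emb p chart U hU ⁻¹ᵁ W) (fun y => ?_)
    have hy : y.1 ∈ RelProj.emb p chart U hU ⁻¹ᵁ (W ⊓ p ⁻¹ᵁ U) := ⟨y.2, emb_mem U hU y.1⟩
    exact congrArg (fun q => mval (U := RelProj.emb p chart U hU ⁻¹ᵁ (W ⊓ p ⁻¹ᵁ U)) q ⟨y.1, hy⟩)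
      hss
  · intro s₁
    have hle : RelProj.emb p chart U hU ⁻¹ᵁ W ≤ RelProj.emb p chart U hU ⁻¹ᵁ (W ⊓ p ⁻¹ᵁ U) :=
      fun y hy => ⟨hy, emb_mem U hU y⟩
    refine ⟨res (GrMod.tilde (𝒮.deg U hU) (ℳ.deg U hU) n) hle s₁, ?_⟩
    exact mval_ext (U := RelProj.emb p chart U hU ⁻¹ᵁ (W ⊓ p ⁻¹ᵁ U)) (fun y => rfl)

/-- the transition morphisms are bijective on sections over opens lying over the basic open -/
theorem bij (hP : RelProj.IsRelProj 𝒮 p chart) (hℳ : Coh.IsQCoh (RelTildeTN.OM ℳ)) (n : ℤ)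
    {U V : Y.Opens} (hU : IsAffineOpen U)
    (hV : IsAffineOpen V) (r : Γ(Y, U)) (h : V = Y.basicOpen r) (W : P.Opens)
    (hW : W ≤ p ⁻¹ᵁ V) :
    Function.Bijective ((ν0 ℳ hU hV (h.le.trans (Y.basicOpen_le r)) (hirr_of_eq hU hV r h)
      (emb_of_eq hP hU hV r h) n).app W) := by
  subst h
  have hirr := 𝒮.irrelevant_le_map U hU r
  have hemb : Proj.map (𝒮.res hU hV (Y.basicOpen_le r)) hirr ≫ RelProj.emb p chart U hU =
      RelProj.emb p chart (Y.basicOpen r) hV := RelProj.map_res_emb hP U hU r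
  haveI : IsOpenImmersion (Proj.map (𝒮.res hU hV (Y.basicOpen_le r)) hirr) := by
    haveI : IsOpenImmersion (Proj.map (𝒮.res hU hV (Y.basicOpen_le r)) hirr ≫
        RelProj.emb p chart U hU) := by
      rw [hemb]; infer_instance
    exact IsOpenImmersion.of_comp _ (RelProj.emb p chart U hU)
  have hembz : ∀ z : Proj (𝒮.deg (Y.basicOpen r) hV),
      (RelProj.emb p chart U hU).base
        (ProjectiveSpectrum.comap (𝒮.res hU hV (Y.basicOpen_le r)) hirr z) =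
      (RelProj.emb p chart (Y.basicOpen r) hV).base z := by
    intro z
    have := congrArg (fun g : Proj (𝒮.deg (Y.basicOpen r) hV) ⟶ P => g z) hemb
    exact this
  let c := (𝒮.str.app (op U)).hom r
  letI := (𝒮.presheaf.map (homOfLE (Y.basicOpen_le r)).op).hom.toAlgebra
  have hloc : IsLocalization.Away c (𝒮.presheaf.obj (op (Y.basicOpen r))) := 𝒮.isQC U hU r
  have hc : c ∈ 𝒮.deg U hU 0 := 𝒮.str_mem U hU r
  have hu : IsUnit (𝒮.res hU hV (Y.basicOpen_le r) c) :=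
    IsLocalization.map_units (M := Submonoid.powers c) (𝒮.presheaf.obj (op (Y.basicOpen r)))
      ⟨c, Submonoid.mem_powers c⟩
  have hsurj : ∀ b : 𝒮.presheaf.obj (op (Y.basicOpen r)), ∃ (k : ℕ) (a : 𝒮.presheaf.obj (op U)),
      b * 𝒮.res hU hV (Y.basicOpen_le r) c ^ k = 𝒮.res hU hV (Y.basicOpen_le r) a := by
    intro b
    obtain ⟨⟨x, s, hs⟩, hxs⟩ := IsLocalization.surj (Submonoid.powers c) b
    obtain ⟨k, rfl⟩ := (Submonoid.mem_powers_iff _ _).mp hs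
    refine ⟨k, x, ?_⟩
    change b * 𝒮.res hU hV (Y.basicOpen_le r) (c ^ k) = 𝒮.res hU hV (Y.basicOpen_le r) x at hxs
    rw [map_pow] at hxs
    exact hxs
  -- the module is the localization
  haveI : (RelTildeTN.OM ℳ).IsQuasicoherent := hℳ
  have hlocM := isLocSec_of_isQuasicoherent (RelTildeTN.OM ℳ) hU r (Y.basicOpen r) rfl
    (Y.basicOpen_le r)
  have hρ : 𝒮.res hU hV (Y.basicOpen_le r) c =
      (𝒮.str.app (op (Y.basicOpen r))).hom (rres Y (Y.basicOpen_le r) r) := by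
    have := congrArg (fun φ => φ.hom r) (𝒮.str.naturality (homOfLE (Y.basicOpen_le r)).op)
    exact this.symm
  have hsurjM : ∀ x : ℳ.mod.val.obj (op (Y.basicOpen r)), ∃ (k : ℕ) (m : ℳ.mod.val.obj (op U)),
      𝒮.res hU hV (Y.basicOpen_le r) c ^ k • x = ℳ.res hU hV (Y.basicOpen_le r) m := by
    intro x
    obtain ⟨N, s, hs⟩ := hlocM.surj (show Γ(RelTildeTN.OM ℳ, Y.basicOpen r) from x)
    have h1 : (rres Y (Y.basicOpen_le r) r ^ N •
        (show Γ(RelTildeTN.OM ℳ, Y.basicOpen r) from x) : Γ(RelTildeTN.OM ℳ, Y.basicOpen r)) =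
        (show Γ(RelTildeTN.OM ℳ, Y.basicOpen r) from
          ((𝒮.str.app (op (Y.basicOpen r))).hom (rres Y (Y.basicOpen_le r) r ^ N) • x :
            ℳ.mod.val.obj (op (Y.basicOpen r)))) := rfl
    rw [h1, map_pow] at hs
    refine ⟨N, s, ?_⟩
    rw [hρ]
    exact hs.symm
  have hkerM : ∀ m : ℳ.mod.val.obj (op U), ℳ.res hU hV (Y.basicOpen_le r) m = 0 →
      ∃ k : ℕ, c ^ k • m = 0 := by
    intro m hm
    obtain ⟨k, hk⟩ := hlocM.inj (show Γ(RelTildeTN.OM ℳ, U) from m) hm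
    refine ⟨k, ?_⟩
    have h1 : (r ^ k • (show Γ(RelTildeTN.OM ℳ, U) from m) : Γ(RelTildeTN.OM ℳ, U)) =
        (show Γ(RelTildeTN.OM ℳ, U) from
          ((𝒮.str.app (op U)).hom (r ^ k) • m : ℳ.mod.val.obj (op U))) := rfl
    rw [h1, map_pow] at hk
    exact hk
  have hW' : ∀ x ∈ RelProj.emb p chart U hU ⁻¹ᵁ W,
      ∃ y, ProjectiveSpectrum.comap (𝒮.res hU hV (Y.basicOpen_le r)) hirr y = x := by
    intro x hx
    have h1 : (RelProj.emb p chart U hU).base x ∈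
        (RelProj.emb p chart (Y.basicOpen r) hV).opensRange := by
      rw [ProjQMap.opensRange_emb]
      exact hW hx
    obtain ⟨y, hy⟩ := h1
    refine ⟨y, ?_⟩
    apply (RelProj.emb p chart U hU).isOpenEmbedding.injective
    rw [hembz]
    exact hy
  have hb := GrModLoc.comap_app_bijective (𝒮.res hU hV (Y.basicOpen_le r)) hirr
    (ℳ.res hU hV (Y.basicOpen_le r))
    (fun i m hm => ℳ.res_mem hU hV (Y.basicOpen_le r) i m hm) c hu hsurj hsurjM hkerM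
    hc n (RelProj.emb p chart U hU ⁻¹ᵁ W) hW'
  constructor
  · intro t t' htt
    apply hb.1
    apply mval_ext (U := Proj.map (𝒮.res hU hV (Y.basicOpen_le r)) hirr ⁻¹ᵁ
      (RelProj.emb p chart U hU ⁻¹ᵁ W))
    rintro ⟨z, hz⟩
    have hz' : (RelProj.emb p chart (Y.basicOpen r) hV).base z ∈ W := by
      rw [← hembz]
      exact hz
    exact congrArg (fun q => mval (U := RelProj.emb p chart (Y.basicOpen r) hV ⁻¹ᵁ W) q ⟨z, hz'⟩)
      htt
  · intro t₂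
    have hle : Proj.map (𝒮.res hU hV (Y.basicOpen_le r)) hirr ⁻¹ᵁ
        (RelProj.emb p chart U hU ⁻¹ᵁ W) ≤ RelProj.emb p chart (Y.basicOpen r) hV ⁻¹ᵁ W := by
      intro z hz
      change (RelProj.emb p chart (Y.basicOpen r) hV).base z ∈ W
      rw [← hembz]
      exact hz
    obtain ⟨t, ht⟩ := hb.2 (res (GrMod.tilde (𝒮.deg (Y.basicOpen r) hV)
      (ℳ.deg (Y.basicOpen r) hV) n) hle t₂)
    refine ⟨t, ?_⟩
    apply mval_ext (U := RelProj.emb p chart (Y.basicOpen r) hV ⁻¹ᵁ W)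
    rintro ⟨y, hy⟩
    have hy2 : y ∈ Proj.map (𝒮.res hU hV (Y.basicOpen_le r)) hirr ⁻¹ᵁ
        (RelProj.emb p chart U hU ⁻¹ᵁ W) := by
      change (RelProj.emb p chart U hU).base
        (ProjectiveSpectrum.comap (𝒮.res hU hV (Y.basicOpen_le r)) hirr y) ∈ W
      rw [hembz]
      exact hy
    exact congrArg (fun q => mval (U := Proj.map (𝒮.res hU hV (Y.basicOpen_le r)) hirr ⁻¹ᵁ
      (RelProj.emb p chart U hU ⁻¹ᵁ W)) q ⟨y, hy2⟩) ht

theorem mres_mres_apply {U V V' : Y.Opens} (hU : IsAffineOpen U) (hV : IsAffineOpen V)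
    (hV' : IsAffineOpen V') (h1 : V ≤ U) (h2 : V' ≤ V) (h3 : V' ≤ U)
    (m : ℳ.mod.val.obj (op U)) :
    ℳ.res hV hV' h2 (ℳ.res hU hV h1 m) = ℳ.res hU hV' h3 m := by
  have := res_res (RelTildeTN.OM ℳ) h2 h1 (show Γ(RelTildeTN.OM ℳ, U) from m)
  exact this

theorem cocycle (hP : RelProj.IsRelProj 𝒮 p chart) (n : ℤ) {U V V' : Y.Opens}
    (hU : IsAffineOpen U) (hV : IsAffineOpen V) (hV' : IsAffineOpen V') (r : Γ(Y, U))
    (h : V = Y.basicOpen r) (ρ : Γ(Y, V)) (h' : V' = Y.basicOpen ρ) (r' : Γ(Y, U))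
    (h'' : V' = Y.basicOpen r') :
    ν0 ℳ hU hV (h.le.trans (Y.basicOpen_le r)) (hirr_of_eq hU hV r h)
        (emb_of_eq hP hU hV r h) n ≫
      ν0 ℳ hV hV' (h'.le.trans (Y.basicOpen_le ρ)) (hirr_of_eq hV hV' ρ h')
        (emb_of_eq hP hV hV' ρ h') n =
    ν0 ℳ hU hV' (h''.le.trans (Y.basicOpen_le r')) (hirr_of_eq hU hV' r' h'')
      (emb_of_eq hP hU hV' r' h'') n := by
  apply Scheme.Modules.hom_ext
  intro W
  ext t
  apply mval_ext (U := RelProj.emb p chart V' hV' ⁻¹ᵁ W)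
  rintro ⟨y, hy⟩
  have hy' : (RelProj.emb p chart V' hV').base y ∈ W := hy
  have m2 : (RelProj.emb p chart U hU).base
      (ProjectiveSpectrum.comap (𝒮.res hU hV' (h''.le.trans (Y.basicOpen_le r')))
        (hirr_of_eq hU hV' r' h'') y) ∈ W := by
    rw [emb_comap hP hU hV' r' h'']
    exact hy'
  have m1 : (RelProj.emb p chart U hU).base
      (ProjectiveSpectrum.comap (𝒮.res hU hV (h.le.trans (Y.basicOpen_le r)))
        (hirr_of_eq hU hV r h)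
        (ProjectiveSpectrum.comap (𝒮.res hV hV' (h'.le.trans (Y.basicOpen_le ρ)))
          (hirr_of_eq hV hV' ρ h') y)) ∈ W := by
    rw [emb_comap hP hU hV r h, emb_comap hP hV hV' ρ h']
    exact hy'
  exact locModMap_locModMap_val' _ (hirr_of_eq hU hV r h) (ℳ.res hU hV _) _
    (hirr_of_eq hV hV' ρ h') (ℳ.res hV hV' _) _
    (hirr_of_eq hU hV' r' h'') (ℳ.res hU hV' _) (fun a => res_res_apply hU hV hV' _ _ _ a)
    (fun m => mres_mres_apply ℳ hU hV hV' _ _ _ m) y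
    (W := RelProj.emb p chart U hU ⁻¹ᵁ W) t m1 m2

/-- the glueing data of the modules `(ℳ(n))~` -/
noncomputable def data (hP : RelProj.IsRelProj 𝒮 p chart) (hℳ : Coh.IsQCoh (RelTildeTN.OM ℳ))
    (n : ℤ) : RelGlueMod.Data p where
  T U hU := (Scheme.Modules.pushforward (RelProj.emb p chart U hU)).obj
    (GrMod.tilde (𝒮.deg U hU) (ℳ.deg U hU) n)
  ν _ hU _ hV r h := ν0 ℳ hU hV (h.le.trans (Y.basicOpen_le r)) (hirr_of_eq hU hV r h)
    (emb_of_eq hP hU hV r h) n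
  supp U hU W := supp ℳ n U hU W
  bij _ hU _ hV r h W hW := bij ℳ hP hℳ n hU hV r h W hW
  indep _ _ _ _ _ _ _ _ := rfl
  cocycle _ hU _ hV r h _ hV' ρ h' r' h'' := cocycle ℳ hP n hU hV hV' r h ρ h' r' h''

/-- existence of the module `(ℳ(n))~` on a relative Proj -/
theorem exists_isRelTilde (hP : RelProj.IsRelProj 𝒮 p chart)
    (hℳ : Coh.IsQCoh ((AMod.toOS 𝒮.toQCAlg).obj ℳ.mod)) (n : ℤ) :
    ∃ (F : P.Modules) (lam : ∀ (U : Y.Opens) (hU : IsAffineOpen U),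
      F ⟶ (Scheme.Modules.pushforward (RelProj.emb p chart U hU)).obj
        (GrMod.tilde (𝒮.deg U hU) (ℳ.deg U hU) n)),
      RelProj.IsRelTilde 𝒮 p chart ℳ n F lam := by
  refine ⟨RelGlueMod.L (data ℳ hP hℳ n), RelGlueMod.lam (data ℳ hP hℳ n), ?_, ?_⟩
  · intro U hU W hW
    exact RelGlueMod.bijective_lam (data ℳ hP hℳ n) U hU W hW
  · intro U hU r W s y hy hy'
    have h1 := RelGlueMod.lam_comp_apply (data ℳ hP hℳ n) U hU (Y.basicOpen r)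
      (hU.basicOpen r) r rfl W s
    exact (congrArg (fun q => GrMod.val
      (V := RelProj.emb p chart (Y.basicOpen r) (hU.basicOpen r) ⁻¹ᵁ W) q ⟨y, hy⟩) h1).symm

end Groth.Agent.Lib.Helper3.RelTildeExist
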