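import Groth.Agent.Lib.Helper3.RelTildeMap

/-!
# Uniqueness up to unique isomorphism of the module `(ℳ(n))~` on a relative Proj
-/

set_option autoImplicit false
set_option linter.unusedSectionVars false
universe u
open CategoryTheory CategoryTheory.Limits AlgebraicGeometry TopologicalSpace Opposite
open Scheme.Modules

namespace Groth.Agent.Lib.Helper3.RelTildeIso

open QCSec InvGen GrModSec GrModExact RelTildeMap

variable {Y P : Scheme.{u}} {𝒮 : RelProj.QCGrAlg Y} {p : P ⟶ Y}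
  {chart : ∀ (U : Y.Opens) (hU : IsAffineOpen U),
    ((p ⁻¹ᵁ U : P.Opens) : Scheme.{u}) ≅ Proj (𝒮.deg U hU)}
  {ℳ : RelProj.GrModule 𝒮} (n : ℤ)

theorem isGrModHom_id : RelProj.IsGrModHom (𝟙 ℳ.mod) := fun _ _ _ _ hm => hm

theorem map_id_eq (U : Y.Opens) (hU : IsAffineOpen U) :
    GrMod.map (𝒮.deg U hU) (uU (𝟙 ℳ.mod) U) (isGrModHom_id U hU) n = 𝟙 _ := by
  apply Scheme.Modules.hom_ext
  intro V
  ext s
  refine val_ext (fun y => ?_)
  rw [GrMod.map_app_val]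
  have key : ∀ q : GrMod.LocMod (𝒮.deg U hU) (M := ℳ.mod.val.obj (op U)) y.1,
      GrMod.locMap (uU (𝟙 ℳ.mod) U) y.1 q = q := by
    intro q
    induction q using LocalizedModule.induction_on with
    | h m t =>
      rw [GrMod.locMap_mk]
      rfl
  exact key _

theorem μ_id (U : Y.Opens) (hU : IsAffineOpen U) :
    μ (chart := chart) (𝟙 ℳ.mod) isGrModHom_id n U hU = 𝟙 _ := by
  change (Scheme.Modules.pushforward (RelProj.emb p chart U hU)).map _ = _
  rw [map_id_eq, CategoryTheory.Functor.map_id]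

variable (hP : RelProj.IsRelProj 𝒮 p chart) {F F' : P.Modules}
  {lam : ∀ (U : Y.Opens) (hU : IsAffineOpen U),
    F ⟶ (Scheme.Modules.pushforward (RelProj.emb p chart U hU)).obj
      (GrMod.tilde (𝒮.deg U hU) (ℳ.deg U hU) n)}
  {lam' : ∀ (U : Y.Opens) (hU : IsAffineOpen U),
    F' ⟶ (Scheme.Modules.pushforward (RelProj.emb p chart U hU)).obj
      (GrMod.tilde (𝒮.deg U hU) (ℳ.deg U hU) n)}
  (hF : RelProj.IsRelTilde 𝒮 p chart ℳ n F lam) (hF' : RelProj.IsRelTilde 𝒮 p chart ℳ n F' lam')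

include hP hF hF' in
theorem exists_hom : ∃ φ : F ⟶ F', ∀ (U : Y.Opens) (hU : IsAffineOpen U),
    φ ≫ lam' U hU = lam U hU := by
  obtain ⟨φ, hφ⟩ := exists_map (𝟙 ℳ.mod) isGrModHom_id n hF' hP hF
  refine ⟨φ, fun U hU => ?_⟩
  rw [hφ U hU, μ_id, Category.comp_id]

include hF' in
theorem hom_unique (φ φ' : F ⟶ F')
    (h : ∀ (U : Y.Opens) (hU : IsAffineOpen U), φ ≫ lam' U hU = lam U hU)
    (h' : ∀ (U : Y.Opens) (hU : IsAffineOpen U), φ' ≫ lam' U hU = lam U hU) : φ = φ' := by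
  refine map_unique (lam := lam) (𝟙 ℳ.mod) isGrModHom_id n hF' φ φ' (fun U hU => ?_) (fun U hU => ?_)
  · rw [h U hU, μ_id, Category.comp_id]
  · rw [h' U hU, μ_id, Category.comp_id]

include hP hF hF' in
theorem isIso_of_comp (φ : F ⟶ F')
    (h : ∀ (U : Y.Opens) (hU : IsAffineOpen U), φ ≫ lam' U hU = lam U hU) : IsIso φ := by
  obtain ⟨ψ, hψ⟩ := exists_hom n hP hF' hF
  refine ⟨ψ, ?_, ?_⟩
  · refine hom_unique n hF (φ ≫ ψ) (𝟙 F) (fun U hU => ?_) (fun U hU => Category.id_comp _)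
    rw [Category.assoc, hψ U hU, h U hU]
  · refine hom_unique n hF' (ψ ≫ φ) (𝟙 F') (fun U hU => ?_) (fun U hU => Category.id_comp _)
    rw [Category.assoc, h U hU, hψ U hU]

end Groth.Agent.Lib.Helper3.RelTildeIso
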