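import Groth.Agent.Lib.Helper3.RelTildeSec
import Groth.Agent.Lib.Helper3.RelTwistTensor

/-!
# `ℳ(n)~ ≅ ℳ~ ⊗ O_P(n)` on a relative Proj of an algebra generated in degree one
-/

set_option autoImplicit false
set_option linter.unusedSectionVars false
universe u
open CategoryTheory CategoryTheory.Limits AlgebraicGeometry TopologicalSpace Opposite
open Scheme.Modules
open scoped HomogeneousIdeal

namespace Groth.Agent.Lib.Helper3.RelTildeTwist

open QCSec InvGen GrModQC

section ring

variable {A σ : Type u} [CommRing A] [SetLike σ A] [AddSubgroupClass σ A] {𝒜 : ℕ → σ} [GradedRing 𝒜]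
  {M τ : Type u} [AddCommGroup M] [Module A M] [SetLike τ M] [AddSubgroupClass τ M]
  {ℳ : ℕ → τ} [SetLike.GradedSMul 𝒜 ℳ]

/-- the product of a section of `O(p)` and a section of `M(k)~`, a section of `M(p + k)~` -/
def smulT {p k : ℤ} {U : (Proj 𝒜).Opens} (c : Γ(GrTwist.twist 𝒜 p, U))
    (t : Γ(GrMod.tilde 𝒜 ℳ k, U)) (q : ℤ) (hq : p + k = q) : Γ(GrMod.tilde 𝒜 ℳ q, U) :=
  mkMSec ℳ q U (fun x => val c x • mval t x)
    ((IsLocMFrac.smul (isLocFrac_val c) (isLocMFrac_mval t)).cast hq)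

theorem mval_smulT {p k : ℤ} {U : (Proj 𝒜).Opens} (c : Γ(GrTwist.twist 𝒜 p, U))
    (t : Γ(GrMod.tilde 𝒜 ℳ k, U)) (q : ℤ) (hq : p + k = q) (x : U) :
    mval (smulT c t q hq) x = val c x • mval t x := rfl

theorem smulT_add_left {p k : ℤ} {U : (Proj 𝒜).Opens} (c c' : Γ(GrTwist.twist 𝒜 p, U))
    (t : Γ(GrMod.tilde 𝒜 ℳ k, U)) (q : ℤ) (hq : p + k = q) :
    smulT (c + c') t q hq = smulT c t q hq + smulT c' t q hq :=
  mval_ext fun x => by rw [mval_smulT, val_add, mval_add, mval_smulT, mval_smulT, add_smul]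

theorem smulT_add_right {p k : ℤ} {U : (Proj 𝒜).Opens} (c : Γ(GrTwist.twist 𝒜 p, U))
    (t t' : Γ(GrMod.tilde 𝒜 ℳ k, U)) (q : ℤ) (hq : p + k = q) :
    smulT c (t + t') q hq = smulT c t q hq + smulT c t' q hq :=
  mval_ext fun x => by rw [mval_smulT, mval_add, mval_add, mval_smulT, mval_smulT, smul_add]

theorem smulT_smul_left {p k : ℤ} {U : (Proj 𝒜).Opens} (a : Γ(Proj 𝒜, U))
    (c : Γ(GrTwist.twist 𝒜 p, U)) (t : Γ(GrMod.tilde 𝒜 ℳ k, U)) (q : ℤ) (hq : p + k = q) :
    smulT (a • c) t q hq = a • smulT c t q hq :=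
  mval_ext fun x => by rw [mval_smulT, val_smul, mval_smul, mval_smulT, mul_smul]

theorem smulT_smul_right {p k : ℤ} {U : (Proj 𝒜).Opens} (a : Γ(Proj 𝒜, U))
    (c : Γ(GrTwist.twist 𝒜 p, U)) (t : Γ(GrMod.tilde 𝒜 ℳ k, U)) (q : ℤ) (hq : p + k = q) :
    smulT c (a • t) q hq = a • smulT c t q hq :=
  mval_ext fun x => by
    rw [mval_smulT, mval_smul, mval_smul, mval_smulT, smul_smul, smul_smul, mul_comm]

theorem smulT_res {p k : ℤ} {U V : (Proj 𝒜).Opens} (h : V ≤ U) (c : Γ(GrTwist.twist 𝒜 p, U))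
    (t : Γ(GrMod.tilde 𝒜 ℳ k, U)) (q : ℤ) (hq : p + k = q) :
    res (GrMod.tilde 𝒜 ℳ q) h (smulT c t q hq) =
      smulT (res (GrTwist.twist 𝒜 p) h c) (res (GrMod.tilde 𝒜 ℳ k) h t) q hq :=
  mval_ext fun _ => rfl

/-- multiplication by a fraction with nowhere vanishing numerator and denominator is bijective -/
theorem smulT_frac_bijective {p k : ℤ} (U : (Proj 𝒜).Opens) {i j : ℕ} (a : 𝒜 i) (b : 𝒜 j)
    (ha : ∀ x : U, a.1 ∉ x.1.asHomogeneousIdeal)
    (hb : ∀ x : U, b.1 ∉ x.1.asHomogeneousIdeal) (hp : (i : ℤ) = j + p) (q : ℤ)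
    (hq : p + k = q) :
    Function.Bijective (fun t : Γ(GrMod.tilde 𝒜 ℳ k, U) => smulT (frac U a b hb p hp) t q hq) := by
  have hp' : (j : ℤ) = i + -p := by omega
  have hq' : -p + q = k := by omega
  constructor
  · intro t t' h
    have h' : smulT (frac U a b hb p hp) t q hq = smulT (frac U a b hb p hp) t' q hq := h
    apply mval_ext
    intro x
    have h1 := congrArg (fun s => (Localization.mk b.1 ⟨a.1, ha x⟩ : GrTwist.Loc 𝒜 x.1) • mval s x) h'
    simp only [mval_smulT, val_frac, smul_smul] at h1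
    rw [mul_comm, mk_mul_mk_swap (x := x.1) a.1 b.1 (ha x) (hb x), one_smul, one_smul] at h1
    exact h1
  · intro s
    refine ⟨smulT (frac U b a ha (-p) hp') s k hq', ?_⟩
    apply mval_ext
    intro x
    change val (frac U a b hb p hp) x • (val (frac U b a ha (-p) hp') x • mval s x) = mval s x
    rw [val_frac, val_frac, smul_smul, mk_mul_mk_swap (x := x.1) a.1 b.1 (ha x) (hb x), one_smul]

end ring

section rel

variable {Y P : Scheme.{u}} {𝒮 : RelProj.QCGrAlg Y} {p : P ⟶ Y}
  {chart : ∀ (U : Y.Opens) (hU : IsAffineOpen U),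
    ((p ⁻¹ᵁ U : P.Opens) : Scheme.{u}) ≅ Proj (𝒮.deg U hU)}
  (hP : RelProj.IsRelProj 𝒮 p chart) {ℳ : RelProj.GrModule 𝒮} {n k q : ℤ} (hq : n + k = q)
  {F F' L : P.Modules}
  {lam : ∀ (U : Y.Opens) (hU : IsAffineOpen U),
    F ⟶ (Scheme.Modules.pushforward (RelProj.emb p chart U hU)).obj
      (GrMod.tilde (𝒮.deg U hU) (ℳ.deg U hU) k)}
  {lam' : ∀ (U : Y.Opens) (hU : IsAffineOpen U),
    F' ⟶ (Scheme.Modules.pushforward (RelProj.emb p chart U hU)).obj
      (GrMod.tilde (𝒮.deg U hU) (ℳ.deg U hU) q)}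
  {lamL : ∀ (U : Y.Opens) (hU : IsAffineOpen U),
    L ⟶ (Scheme.Modules.pushforward (RelProj.emb p chart U hU)).obj
      (GrTwist.twist (𝒮.deg U hU) n)}
  (hF : RelProj.IsRelTilde 𝒮 p chart ℳ k F lam) (hF' : RelProj.IsRelTilde 𝒮 p chart ℳ q F' lam')
  (hL : RelProj.IsRelTwist 𝒮 p chart n L lamL)

/-- the chartwise form of a section of `ℳ(k)~` -/
noncomputable def rdM {k : ℤ} {K : P.Modules} (U : Y.Opens) (hU : IsAffineOpen U)
    (l : K ⟶ (Scheme.Modules.pushforward (RelProj.emb p chart U hU)).obj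
      (GrMod.tilde (𝒮.deg U hU) (ℳ.deg U hU) k)) (W : P.Opens) (a : Γ(K, W)) :
    Γ(GrMod.tilde (𝒮.deg U hU) (ℳ.deg U hU) k, RelProj.emb p chart U hU ⁻¹ᵁ W) := l.app W a

theorem rdM_add {k : ℤ} {K : P.Modules} (U : Y.Opens) (hU : IsAffineOpen U)
    (l : K ⟶ (Scheme.Modules.pushforward (RelProj.emb p chart U hU)).obj
      (GrMod.tilde (𝒮.deg U hU) (ℳ.deg U hU) k)) (W : P.Opens) (a a' : Γ(K, W)) :
    rdM U hU l W (a + a') = rdM U hU l W a + rdM U hU l W a' := map_add (l.app W).hom a a'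

theorem rdM_smul {k : ℤ} {K : P.Modules} (U : Y.Opens) (hU : IsAffineOpen U)
    (l : K ⟶ (Scheme.Modules.pushforward (RelProj.emb p chart U hU)).obj
      (GrMod.tilde (𝒮.deg U hU) (ℳ.deg U hU) k)) (W : P.Opens) (c : Γ(P, W)) (a : Γ(K, W)) :
    rdM U hU l W (c • a) = (RelProj.emb p chart U hU).app W c • rdM U hU l W a := by
  unfold rdM
  rw [Scheme.Modules.Hom.app_smul]
  rfl

theorem rdM_res {k : ℤ} {K : P.Modules} (U : Y.Opens) (hU : IsAffineOpen U)
    (l : K ⟶ (Scheme.Modules.pushforward (RelProj.emb p chart U hU)).obj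
      (GrMod.tilde (𝒮.deg U hU) (ℳ.deg U hU) k)) {W V : P.Opens} (h : V ≤ W) (a : Γ(K, W)) :
    rdM U hU l V (res K h a) =
      res (GrMod.tilde (𝒮.deg U hU) (ℳ.deg U hU) k) ((RelProj.emb p chart U hU).preimage_mono h)
        (rdM U hU l W a) :=
  QCExact.app_res' l h a

open RelTwistTensor in
include hP hF hF' hL in
theorem exists_pair (W : P.Opens) (t : Γ(F, W)) (c : Γ(L, W)) :
    ∃ s : Γ(F', W), ∀ (U : Y.Opens) (hU : IsAffineOpen U),
      rdM U hU (lam' U hU) W s =
        smulT (rd U hU (lamL U hU) W c) (rdM U hU (lam U hU) W t) q hq := by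
  refine RelTildeSec.exists_sec hP hF' W _ ?_
  intro U hU r y hy hy'
  have c1 := hL.compat U hU r W c y hy hy'
  have c2 := hF.compat U hU r W t y hy hy'
  change GrTwist.val ((lamL (Y.basicOpen r) (hU.basicOpen r)).app W c) ⟨y, hy⟩ •
    GrMod.val ((lam (Y.basicOpen r) (hU.basicOpen r)).app W t) ⟨y, hy⟩ = _
  rw [c1, c2, ← GrMod.locModMap_smul]
  rfl

open RelTwistTensor in
/-- the multiplication pairing `ℳ(k)~ × O_P(n) → ℳ(n + k)~` -/
noncomputable def pair (W : P.Opens) (t : Γ(F, W)) (c : Γ(L, W)) : Γ(F', W) :=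
  (exists_pair hP hq hF hF' hL W t c).choose

open RelTwistTensor in
theorem rdM_pair (W : P.Opens) (t : Γ(F, W)) (c : Γ(L, W)) (U : Y.Opens) (hU : IsAffineOpen U) :
    rdM U hU (lam' U hU) W (pair hP hq hF hF' hL W t c) =
      smulT (rd U hU (lamL U hU) W c) (rdM U hU (lam U hU) W t) q hq :=
  (exists_pair hP hq hF hF' hL W t c).choose_spec U hU

include hF' in
theorem ext_rdM (W : P.Opens) (s s' : Γ(F', W))
    (h : ∀ (U : Y.Opens) (hU : IsAffineOpen U),
      rdM U hU (lam' U hU) W s = rdM U hU (lam' U hU) W s') : s = s' :=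
  RelTildeSec.sec_ext hF' W s s' h

open RelTwistTensor in
theorem pair_add_left (W : P.Opens) (t t' : Γ(F, W)) (c : Γ(L, W)) :
    pair hP hq hF hF' hL W (t + t') c =
      pair hP hq hF hF' hL W t c + pair hP hq hF hF' hL W t' c := by
  refine ext_rdM hF' W _ _ (fun U hU => ?_)
  calc rdM U hU (lam' U hU) W (pair hP hq hF hF' hL W (t + t') c)
      = smulT (rd U hU (lamL U hU) W c) (rdM U hU (lam U hU) W (t + t')) q hq :=
        rdM_pair hP hq hF hF' hL W (t + t') c U hU
    _ = smulT (rd U hU (lamL U hU) W c)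
          (rdM U hU (lam U hU) W t + rdM U hU (lam U hU) W t') q hq :=
        congrArg (fun z => smulT (rd U hU (lamL U hU) W c) z q hq) (rdM_add U hU (lam U hU) W t t')
    _ = smulT (rd U hU (lamL U hU) W c) (rdM U hU (lam U hU) W t) q hq +
          smulT (rd U hU (lamL U hU) W c) (rdM U hU (lam U hU) W t') q hq :=
        smulT_add_right _ _ _ _ _
    _ = rdM U hU (lam' U hU) W (pair hP hq hF hF' hL W t c) +
          rdM U hU (lam' U hU) W (pair hP hq hF hF' hL W t' c) :=
        congrArg₂ (· + ·) (rdM_pair hP hq hF hF' hL W t c U hU).symm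
          (rdM_pair hP hq hF hF' hL W t' c U hU).symm
    _ = rdM U hU (lam' U hU) W
          (pair hP hq hF hF' hL W t c + pair hP hq hF hF' hL W t' c) :=
        (rdM_add U hU (lam' U hU) W _ _).symm

open RelTwistTensor in
theorem pair_add_right (W : P.Opens) (t : Γ(F, W)) (c c' : Γ(L, W)) :
    pair hP hq hF hF' hL W t (c + c') =
      pair hP hq hF hF' hL W t c + pair hP hq hF hF' hL W t c' := by
  refine ext_rdM hF' W _ _ (fun U hU => ?_)
  calc rdM U hU (lam' U hU) W (pair hP hq hF hF' hL W t (c + c'))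
      = smulT (rd U hU (lamL U hU) W (c + c')) (rdM U hU (lam U hU) W t) q hq :=
        rdM_pair hP hq hF hF' hL W t (c + c') U hU
    _ = smulT (rd U hU (lamL U hU) W c + rd U hU (lamL U hU) W c')
          (rdM U hU (lam U hU) W t) q hq :=
        congrArg (fun z => smulT z (rdM U hU (lam U hU) W t) q hq) (rd_add U hU (lamL U hU) W c c')
    _ = smulT (rd U hU (lamL U hU) W c) (rdM U hU (lam U hU) W t) q hq +
          smulT (rd U hU (lamL U hU) W c') (rdM U hU (lam U hU) W t) q hq :=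
        smulT_add_left _ _ _ _ _
    _ = rdM U hU (lam' U hU) W (pair hP hq hF hF' hL W t c) +
          rdM U hU (lam' U hU) W (pair hP hq hF hF' hL W t c') :=
        congrArg₂ (· + ·) (rdM_pair hP hq hF hF' hL W t c U hU).symm
          (rdM_pair hP hq hF hF' hL W t c' U hU).symm
    _ = rdM U hU (lam' U hU) W
          (pair hP hq hF hF' hL W t c + pair hP hq hF hF' hL W t c') :=
        (rdM_add U hU (lam' U hU) W _ _).symm

open RelTwistTensor in
theorem pair_smul_left (W : P.Opens) (a : Γ(P, W)) (t : Γ(F, W)) (c : Γ(L, W)) :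
    pair hP hq hF hF' hL W (a • t) c = a • pair hP hq hF hF' hL W t c := by
  refine ext_rdM hF' W _ _ (fun U hU => ?_)
  calc rdM U hU (lam' U hU) W (pair hP hq hF hF' hL W (a • t) c)
      = smulT (rd U hU (lamL U hU) W c) (rdM U hU (lam U hU) W (a • t)) q hq :=
        rdM_pair hP hq hF hF' hL W (a • t) c U hU
    _ = smulT (rd U hU (lamL U hU) W c)
          ((RelProj.emb p chart U hU).app W a • rdM U hU (lam U hU) W t) q hq :=
        congrArg (fun z => smulT (rd U hU (lamL U hU) W c) z q hq) (rdM_smul U hU (lam U hU) W a t)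
    _ = (RelProj.emb p chart U hU).app W a •
          smulT (rd U hU (lamL U hU) W c) (rdM U hU (lam U hU) W t) q hq :=
        smulT_smul_right _ _ _ _ _
    _ = (RelProj.emb p chart U hU).app W a •
          rdM U hU (lam' U hU) W (pair hP hq hF hF' hL W t c) :=
        congrArg (fun z => (RelProj.emb p chart U hU).app W a • z)
          (rdM_pair hP hq hF hF' hL W t c U hU).symm
    _ = rdM U hU (lam' U hU) W (a • pair hP hq hF hF' hL W t c) :=
        (rdM_smul U hU (lam' U hU) W a _).symm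

open RelTwistTensor in
theorem pair_smul_right (W : P.Opens) (a : Γ(P, W)) (t : Γ(F, W)) (c : Γ(L, W)) :
    pair hP hq hF hF' hL W t (a • c) = a • pair hP hq hF hF' hL W t c := by
  refine ext_rdM hF' W _ _ (fun U hU => ?_)
  calc rdM U hU (lam' U hU) W (pair hP hq hF hF' hL W t (a • c))
      = smulT (rd U hU (lamL U hU) W (a • c)) (rdM U hU (lam U hU) W t) q hq :=
        rdM_pair hP hq hF hF' hL W t (a • c) U hU
    _ = smulT ((RelProj.emb p chart U hU).app W a • rd U hU (lamL U hU) W c)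
          (rdM U hU (lam U hU) W t) q hq :=
        congrArg (fun z => smulT z (rdM U hU (lam U hU) W t) q hq)
          (rd_smul U hU (lamL U hU) W a c)
    _ = (RelProj.emb p chart U hU).app W a •
          smulT (rd U hU (lamL U hU) W c) (rdM U hU (lam U hU) W t) q hq :=
        smulT_smul_left _ _ _ _ _
    _ = (RelProj.emb p chart U hU).app W a •
          rdM U hU (lam' U hU) W (pair hP hq hF hF' hL W t c) :=
        congrArg (fun z => (RelProj.emb p chart U hU).app W a • z)
          (rdM_pair hP hq hF hF' hL W t c U hU).symm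
    _ = rdM U hU (lam' U hU) W (a • pair hP hq hF hF' hL W t c) :=
        (rdM_smul U hU (lam' U hU) W a _).symm

open RelTwistTensor in
theorem pair_res {W V : P.Opens} (h : V ≤ W) (t : Γ(F, W)) (c : Γ(L, W)) :
    res F' h (pair hP hq hF hF' hL W t c) =
      pair hP hq hF hF' hL V (res F h t) (res L h c) := by
  refine ext_rdM hF' V _ _ (fun U hU => ?_)
  have hpre := (RelProj.emb p chart U hU).preimage_mono h
  calc rdM U hU (lam' U hU) V (res F' h (pair hP hq hF hF' hL W t c))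
      = res (GrMod.tilde (𝒮.deg U hU) (ℳ.deg U hU) q) hpre
          (rdM U hU (lam' U hU) W (pair hP hq hF hF' hL W t c)) := rdM_res U hU (lam' U hU) h _
    _ = res (GrMod.tilde (𝒮.deg U hU) (ℳ.deg U hU) q) hpre
          (smulT (rd U hU (lamL U hU) W c) (rdM U hU (lam U hU) W t) q hq) :=
        congrArg (res (GrMod.tilde (𝒮.deg U hU) (ℳ.deg U hU) q) hpre)
          (rdM_pair hP hq hF hF' hL W t c U hU)
    _ = smulT (res (GrTwist.twist (𝒮.deg U hU) n) hpre (rd U hU (lamL U hU) W c))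
          (res (GrMod.tilde (𝒮.deg U hU) (ℳ.deg U hU) k) hpre (rdM U hU (lam U hU) W t)) q hq :=
        smulT_res hpre _ _ _ _
    _ = smulT (rd U hU (lamL U hU) V (res L h c)) (rdM U hU (lam U hU) V (res F h t)) q hq :=
        congrArg₂ (fun z w => smulT z w q hq) (rd_res U hU (lamL U hU) h c).symm
          (rdM_res U hU (lam U hU) h t).symm
    _ = rdM U hU (lam' U hU) V (pair hP hq hF hF' hL V (res F h t) (res L h c)) :=
        (rdM_pair hP hq hF hF' hL V _ _ U hU).symm

/-- the multiplication pairing, as a pairing of modules -/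
noncomputable def pairing : TensorDesc.Pairing F L F' where
  toFun W t c := pair hP hq hF hF' hL W t c
  add_left W t t' c := pair_add_left hP hq hF hF' hL W t t' c
  add_right W t c c' := pair_add_right hP hq hF hF' hL W t c c'
  smul_left W a t c := pair_smul_left hP hq hF hF' hL W a t c
  smul_right W a t c := pair_smul_right hP hq hF hF' hL W a t c
  map_res h t c := pair_res hP hq hF hF' hL h t c

open RelTwistTensor in
include hP hq hF hF' hL in
/-- `ℳ(n + k)~ ≅ ℳ(k)~ ⊗ O_P(n)` when the algebra is generated in degree one -/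
theorem nonempty_iso (hgen : 𝒮.IsGenDegOne) : Nonempty (F' ≅ CohB1.tensorMod F L) := by
  haveI : IsIso (pairing hP hq hF hF' hL).hom := by
    apply GrModComap.isIso_of_bijective_on_basis
    intro W x hxW
    obtain ⟨U, hU, hxU⟩ := ProjQMap.exists_affine_mem (p x)
    obtain ⟨y, rfl⟩ := ProjQMap.exists_emb_eq p chart U hU x hxU
    obtain ⟨f, hf, hfy⟩ := GrTwistGen.exists_deg_one_notMem (hgen U hU) y
    let V' : (Proj (𝒮.deg U hU)).Opens :=
      Proj.basicOpen (𝒮.deg U hU) f ⊓ RelProj.emb p chart U hU ⁻¹ᵁ W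
    let V : P.Opens := RelProj.emb p chart U hU ''ᵁ V'
    have hpre : RelProj.emb p chart U hU ⁻¹ᵁ V = V' :=
      (RelProj.emb p chart U hU).preimage_image_eq V'
    have hle : V ≤ (RelProj.emb p chart U hU).opensRange :=
      (RelProj.emb p chart U hU).image_le_opensRange V'
    have hle' : V ≤ p ⁻¹ᵁ U := by rwa [ProjQMap.opensRange_emb] at hle
    have hVW : V ≤ W := by
      rintro _ ⟨z, hz, rfl⟩
      exact hz.2
    have hmem : ∀ j : ℕ, f ^ j ∈ 𝒮.deg U hU j := fun j => by
      have := SetLike.pow_mem_graded j hf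
      rwa [smul_eq_mul, mul_one] at this
    have hnot : ∀ (j : ℕ) (z : (RelProj.emb p chart U hU ⁻¹ᵁ V : (Proj (𝒮.deg U hU)).Opens)),
        f ^ j ∉ z.1.asHomogeneousIdeal := by
      intro j z hz
      have hz' : z.1 ∈ V' := by rw [← hpre]; exact z.2
      exact hz'.1 (z.1.isPrime.mem_of_pow_mem j hz)
    have hdeg : ((n.toNat : ℕ) : ℤ) = ((-n).toNat : ℕ) + n := by
      rcases le_total 0 n with h' | h'
      · rw [Int.toNat_of_nonneg h', Int.toNat_eq_zero.mpr (by omega)]
        simp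
      · rw [Int.toNat_eq_zero.mpr h', Int.toNat_of_nonneg (by omega)]
        simp
    obtain ⟨e, he⟩ := (hL.bijective U hU V hle').2
      (frac (RelProj.emb p chart U hU ⁻¹ᵁ V) ⟨f ^ n.toNat, hmem _⟩
        ⟨f ^ (-n).toNat, hmem _⟩ (hnot _) n hdeg)
    have hge : IsGen L V e := by
      apply GrTwistGen.isGen_of_pushforward (RelProj.emb p chart U hU) _ (lamL U hU) V hle
        (fun W' hW' => hL.bijective U hU W' (hW'.trans hle'))
      rw [he]
      exact GrTwistGen.isGen_frac _ _ _ (hnot _) (hnot _) _ _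
    refine ⟨V, ⟨y, ⟨hfy, hxW⟩, rfl⟩, hVW, ?_⟩
    have h1 := InvTensor.tm_gen_bijective F L hge V le_rfl
    have h2 : Function.Bijective (fun t : Γ(F, V) => pair hP hq hF hF' hL V t e) := by
      have hc : ((lam' U hU).app V) ∘ (fun t : Γ(F, V) => pair hP hq hF hF' hL V t e) =
          (fun z : Γ(GrMod.tilde (𝒮.deg U hU) (ℳ.deg U hU) k, RelProj.emb p chart U hU ⁻¹ᵁ V) =>
            smulT (frac (RelProj.emb p chart U hU ⁻¹ᵁ V) ⟨f ^ n.toNat, hmem _⟩
              ⟨f ^ (-n).toNat, hmem _⟩ (hnot _) n hdeg) z q hq) ∘ ((lam U hU).app V) := by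
        funext t
        have := rdM_pair hP hq hF hF' hL V t e U hU
        unfold rd at this
        rw [he] at this
        exact this
      rw [← Function.Bijective.of_comp_iff' (hF'.bijective U hU V hle'), hc]
      exact (smulT_frac_bijective _ _ _ (hnot _) (hnot _) hdeg q hq).comp
        (hF.bijective U hU V hle')
    have h3 : ((pairing hP hq hF hF' hL).hom.app V) ∘
        (fun t : Γ(F, V) => InvTensor.tm F L V t (res L le_rfl e)) =
        fun t : Γ(F, V) => pair hP hq hF hF' hL V t e := by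
      funext t
      change (pairing hP hq hF hF' hL).hom.app V (InvTensor.tm F L V t (res L le_rfl e)) = _
      rw [TensorDesc.Pairing.hom_tm, res_self]
      rfl
    rw [← h3] at h2
    exact (Function.Bijective.of_comp_iff _ h1).mp h2
  exact ⟨(asIso (pairing hP hq hF hF' hL).hom).symm⟩

end rel

end Groth.Agent.Lib.Helper3.RelTildeTwist
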