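import Groth.Agent.Lib.Helper3.RelTwistXf

/-!
# `X_f` is the non-vanishing locus of the section `α_d(f)` of `O_P(d)`
-/

set_option autoImplicit false
set_option linter.unusedSectionVars false
universe u
open CategoryTheory CategoryTheory.Limits AlgebraicGeometry TopologicalSpace Opposite
open Scheme.Modules
open scoped HomogeneousIdeal

namespace Groth.Agent.Lib.Helper3.RelTwistAlpha

open QCSec InvGen GrModQC RelProjBasic

section transfer

variable {P Q : Scheme.{u}} (e : Q ⟶ P) [IsOpenImmersion e] (T : Q.Modules) {L : P.Modules}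
  (l : L ⟶ (Scheme.Modules.pushforward e).obj T)

/-- coordinates with respect to a generator, transferred to a direct image -/
theorem exists_coord_pushforward (V : P.Opens) (b : Function.Surjective (l.app V)) (s : Γ(L, V))
    (hs : IsGenAt L V s) (t' : Γ(T, e ⁻¹ᵁ V)) :
    ∃ c : Γ(Q, e ⁻¹ᵁ V), c • (show Γ(T, e ⁻¹ᵁ V) from l.app V s) = t' := by
  obtain ⟨s', rfl⟩ := b t'
  obtain ⟨a, rfl⟩ := hs.exists_coord s'
  refine ⟨e.app V a, ?_⟩
  rw [Scheme.Modules.Hom.app_smul]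
  rfl

end transfer

section ring

variable {A σ : Type u} [CommRing A] [SetLike σ A] [AddSubgroupClass σ A] {𝒜 : ℕ → σ} [GradedRing 𝒜]

/-- if `f / 1` generates `O(d)` near a point where some `g` of degree one does not vanish, then
`f` does not vanish at that point -/
theorem notMem_of_coord {d : ℕ} {f g : A} (hg : g ∈ 𝒜 1) (y : ProjectiveSpectrum 𝒜)
    (hgy : g ∉ y.asHomogeneousIdeal) (c : GrTwist.Loc 𝒜 y)
    (h : c * Localization.mk f 1 = Localization.mk (g ^ d) 1) : f ∉ y.asHomogeneousIdeal := by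
  intro hf
  have h1 : (Localization.mk f 1 : GrTwist.Loc 𝒜 y) ∈
      IsLocalRing.maximalIdeal (GrTwist.Loc 𝒜 y) := by
    rw [Localization.mk_one_eq_algebraMap]
    exact (IsLocalization.AtPrime.to_map_mem_maximal_iff (GrTwist.Loc 𝒜 y)
      y.asHomogeneousIdeal.toIdeal f).mpr hf
  have h2 : (Localization.mk (g ^ d) 1 : GrTwist.Loc 𝒜 y) ∈
      IsLocalRing.maximalIdeal (GrTwist.Loc 𝒜 y) := by
    rw [← h]
    exact Ideal.mul_mem_left _ _ h1
  rw [Localization.mk_one_eq_algebraMap] at h2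
  have h3 := (IsLocalization.AtPrime.to_map_mem_maximal_iff (GrTwist.Loc 𝒜 y)
      y.asHomogeneousIdeal.toIdeal (g ^ d)).mp h2
  exact hgy (y.isPrime.mem_of_pow_mem d h3)

end ring

variable {Y P : Scheme.{u}} {𝒮 : RelProj.QCGrAlg Y} {p : P ⟶ Y}
  {chart : ∀ (U : Y.Opens) (hU : IsAffineOpen U),
    ((p ⁻¹ᵁ U : P.Opens) : Scheme.{u}) ≅ Proj (𝒮.deg U hU)}
  (f : 𝒮.presheaf.obj (op ⊤)) (Xf : P.Opens)
  (hXf : ∀ (U : Y.Opens) (hU : IsAffineOpen U),
    Xf ⊓ p ⁻¹ᵁ U = (p ⁻¹ᵁ U).ι ''ᵁ ((chart U hU).hom ⁻¹ᵁ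
      Proj.basicOpen (𝒮.deg U hU) (resTop 𝒮 f U)))
  (hP : RelProj.IsRelProj 𝒮 p chart) {d : ℕ}
  (hf : ∀ (U : Y.Opens) (hU : IsAffineOpen U), resTop 𝒮 f U ∈ 𝒮.deg U hU d)
  {L : P.Modules}
  {lam : ∀ (U : Y.Opens) (hU : IsAffineOpen U),
    L ⟶ (Scheme.Modules.pushforward (RelProj.emb p chart U hU)).obj
      (GrTwist.twist (𝒮.deg U hU) (d : ℤ))}
  (hL : RelProj.IsRelTwist 𝒮 p chart (d : ℤ) L lam) (s : Coh.structureModule P ⟶ L)
  (hs : ∀ (U : Y.Opens) (hU : IsAffineOpen U) (y : Proj (𝒮.deg U hU)),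
    GrTwist.val (V := RelProj.emb p chart U hU ⁻¹ᵁ ⊤)
      ((lam U hU).app ⊤ (s.app ⊤ (show Γ(Coh.structureModule P, ⊤) from (1 : Γ(P, ⊤)))))
        ⟨y, Set.mem_univ _⟩ = Localization.mk (resTop 𝒮 f U) 1)

include hs in
theorem val_sec (U : Y.Opens) (hU : IsAffineOpen U) (W : P.Opens)
    (y : (RelProj.emb p chart U hU ⁻¹ᵁ W : (Proj (𝒮.deg U hU)).Opens)) :
    GrTwist.val (V := RelProj.emb p chart U hU ⁻¹ᵁ W) ((lam U hU).app W (sec s W)) y =
      Localization.mk (resTop 𝒮 f U) 1 := by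
  rw [← hs U hU y.1, ← res_sec s (le_top : W ≤ ⊤)]
  exact (RelTwistMap.val_app_res (RelProj.emb p chart U hU) (lam U hU) (le_top : W ≤ ⊤)
    (sec s ⊤) ⟨y.1, Set.mem_univ _⟩ y.2).symm

include hXf hP hf hL hs in
theorem le_genLocus : Xf ≤ CohB1.genLocus L s := by
  rw [le_genLocus_iff]
  refine RelTwistSec.isGen_of_charts Xf _ (fun U hU => ?_) hL.bijective
  have e1 : (lam U hU).app Xf (sec s Xf) =
      res (GrTwist.twist (𝒮.deg U hU) (d : ℤ))
        (le_of_eq (RelTwistXf.emb_preimage_Xf f Xf hXf U hU))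
        (RelTwistXf.gen f hf U hU 1 0 (d : ℤ) (by push_cast; ring)) := by
    refine val_ext (U := RelProj.emb p chart U hU ⁻¹ᵁ Xf) (fun y => ?_)
    refine (val_sec f s hs U hU Xf y).trans ?_
    change _ = Localization.mk (resTop 𝒮 f U ^ 1) ⟨resTop 𝒮 f U ^ 0, _⟩
    congr 1
    · rw [pow_one]
    · exact Subtype.ext (pow_zero _).symm
  rw [e1]
  exact (RelTwistXf.isGen_gen f hf U hU 1 0 (d : ℤ) (by push_cast; ring)).mono _

include hXf hL hs in
theorem genLocus_le (hgen : 𝒮.IsGenDegOne) : CohB1.genLocus L s ≤ Xf := by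
  intro x hx
  obtain ⟨W, hxW, hW⟩ := (mem_genLocus_iff s x).mp hx
  obtain ⟨U, hU, hxU⟩ := ProjQMap.exists_affine_mem (p x)
  obtain ⟨y, rfl⟩ := ProjQMap.exists_emb_eq p chart U hU x hxU
  rw [RelTwistXf.emb_mem_Xf_iff f Xf hXf U hU y]
  obtain ⟨g, hg, hgy⟩ := GrTwistGen.exists_deg_one_notMem (hgen U hU) y
  -- the small open
  let V' : (Proj (𝒮.deg U hU)).Opens :=
    RelProj.emb p chart U hU ⁻¹ᵁ (W ⊓ p ⁻¹ᵁ U) ⊓ Proj.basicOpen (𝒮.deg U hU) g
  have hyV' : y ∈ V' := ⟨⟨hxW, hxU⟩, hgy⟩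
  let V : P.Opens := RelProj.emb p chart U hU ''ᵁ V'
  have hpre : RelProj.emb p chart U hU ⁻¹ᵁ V = V' :=
    (RelProj.emb p chart U hU).preimage_image_eq V'
  have hVW : V ≤ W ⊓ p ⁻¹ᵁ U := by
    rintro _ ⟨z, hz, rfl⟩
    exact hz.1
  have hgenV : IsGenAt L V (sec s V) := by
    have := hW V (hVW.trans inf_le_left)
    rwa [res_sec] at this
  -- the generator `g ^ d / 1` over `V'`
  have hgd : g ^ d ∈ 𝒮.deg U hU d := by
    have := SetLike.pow_mem_graded d hg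
    rwa [smul_eq_mul, mul_one] at this
  have hone : ∀ z : (RelProj.emb p chart U hU ⁻¹ᵁ V : (Proj (𝒮.deg U hU)).Opens),
      (1 : 𝒮.presheaf.obj (op U)) ∉ z.1.asHomogeneousIdeal := fun z h =>
    z.1.isPrime.ne_top ((Ideal.eq_top_iff_one _).mpr h)
  obtain ⟨c, hc⟩ := exists_coord_pushforward (RelProj.emb p chart U hU) _ (lam U hU) V
    (hL.bijective U hU V (hVW.trans inf_le_right)).2 (sec s V) hgenV
    (frac (RelProj.emb p chart U hU ⁻¹ᵁ V) ⟨g ^ d, hgd⟩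
      ⟨1, SetLike.GradedOne.one_mem⟩ hone (d : ℤ) (by simp))
  have hyV : y ∈ RelProj.emb p chart U hU ⁻¹ᵁ V := by rw [hpre]; exact hyV'
  have h1 := congrArg (fun t => GrModQC.val t ⟨y, hyV⟩) hc
  simp only at h1
  rw [GrModQC.val_smul] at h1
  have h2 : GrModQC.val (show Γ(GrTwist.twist (𝒮.deg U hU) (d : ℤ),
      RelProj.emb p chart U hU ⁻¹ᵁ V) from (lam U hU).app V (sec s V)) ⟨y, hyV⟩ =
      Localization.mk (resTop 𝒮 f U) 1 := val_sec f s hs U hU V ⟨y, hyV⟩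
  rw [h2] at h1
  exact notMem_of_coord hg y hgy _ h1

include hXf hP hf hL hs in
theorem eq_genLocus (hgen : 𝒮.IsGenDegOne) : Xf = CohB1.genLocus L s :=
  le_antisymm (le_genLocus f Xf hXf hP hf hL s hs) (genLocus_le f Xf hXf hL s hs hgen)

end Groth.Agent.Lib.Helper3.RelTwistAlpha
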