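import Groth.Agent.Lib.Helper3.RelTwistQ

/-!
# Pullback of `O(n)` along `Proj(u)`: the general cocycle criterion

A version of `RelTwistQ.nonempty_iso` without the hypothesis that the source algebra is generated
in degree one: it is enough that the charts on which both `O(n)` and `O'(n)` have matching
fractional generators cover.
-/

set_option autoImplicit false
set_option linter.unusedSectionVars false
universe u
open CategoryTheory CategoryTheory.Limits AlgebraicGeometry TopologicalSpace Opposite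
open Scheme.Modules
open scoped HomogeneousIdeal

namespace Groth.Agent.Lib.Helper3.RelTwistQG

open QCSec InvGen GrModQC RelChart ProjQGlue HomogeneousLocalization RelTwistQ

section single

variable {Y P : Scheme.{u}} {𝒮 : RelProj.QCGrAlg Y} {p : P ⟶ Y}
  {chart : ∀ (U : Y.Opens) (hU : IsAffineOpen U),
    ((p ⁻¹ᵁ U : P.Opens) : Scheme.{u}) ≅ Proj (𝒮.deg U hU)}
  {n : ℤ} {L : P.Modules}
  {lam : ∀ (U : Y.Opens) (hU : IsAffineOpen U),
    L ⟶ (Scheme.Modules.pushforward (RelProj.emb p chart U hU)).obj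
      (GrTwist.twist (𝒮.deg U hU) n)}

include lam in
/-- a fractional generator of `O(n)` over the image of `D₊(F)` -/
theorem exists_gen' (hL : RelProj.IsRelTwist 𝒮 p chart n L lam) (U : Y.Opens)
    (hU : IsAffineOpen U) (F x y : 𝒮.presheaf.obj (op U)) {i j : ℕ}
    (hx : x ∈ 𝒮.deg U hU i) (hy : y ∈ 𝒮.deg U hU j) (hdeg : (i : ℤ) = j + n)
    (hFx : Proj.basicOpen (𝒮.deg U hU) F ≤ Proj.basicOpen (𝒮.deg U hU) x)
    (hFy : Proj.basicOpen (𝒮.deg U hU) F ≤ Proj.basicOpen (𝒮.deg U hU) y) :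
    ∃ e : Γ(L, RelProj.emb p chart U hU ''ᵁ Proj.basicOpen (𝒮.deg U hU) F),
      IsGen L _ e ∧ Reads lam U hU _ e x y := by
  let V' : (Proj (𝒮.deg U hU)).Opens := Proj.basicOpen (𝒮.deg U hU) F
  let V : P.Opens := RelProj.emb p chart U hU ''ᵁ V'
  have hpre : RelProj.emb p chart U hU ⁻¹ᵁ V = V' :=
    (RelProj.emb p chart U hU).preimage_image_eq V'
  have hle : V ≤ (RelProj.emb p chart U hU).opensRange :=
    (RelProj.emb p chart U hU).image_le_opensRange V'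
  have hle' : V ≤ p ⁻¹ᵁ U := by rwa [ProjQMap.opensRange_emb] at hle
  have hnx : ∀ (z : (RelProj.emb p chart U hU ⁻¹ᵁ V : (Proj (𝒮.deg U hU)).Opens)),
      x ∉ z.1.asHomogeneousIdeal := by
    intro z hz
    have hz' : z.1 ∈ V' := by rw [← hpre]; exact z.2
    exact hFx hz' hz
  have hny : ∀ (z : (RelProj.emb p chart U hU ⁻¹ᵁ V : (Proj (𝒮.deg U hU)).Opens)),
      y ∉ z.1.asHomogeneousIdeal := by
    intro z hz
    have hz' : z.1 ∈ V' := by rw [← hpre]; exact z.2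
    exact hFy hz' hz
  let t := frac (RelProj.emb p chart U hU ⁻¹ᵁ V) ⟨x, hx⟩ ⟨y, hy⟩ hny n hdeg
  obtain ⟨e, he⟩ := (hL.bijective U hU V hle').2 t
  refine ⟨e, ?_, ?_⟩
  · apply GrTwistGen.isGen_of_pushforward (RelProj.emb p chart U hU) _ (lam U hU) V hle
      (fun W hW => hL.bijective U hU W (hW.trans hle'))
    rw [he]
    exact GrTwistGen.isGen_frac _ _ _ hnx hny _ _
  · intro y' hy'
    refine ⟨hny ⟨y', hy'⟩, ?_⟩
    exact congrArg (fun q => GrTwist.val (V := RelProj.emb p chart U hU ⁻¹ᵁ V) q ⟨y', hy'⟩) he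

end single

variable {Y X P P' W' : Scheme.{u}} {q : X ⟶ Y} {𝒮 : RelProj.QCGrAlg Y} {𝒮' : RelProj.QCGrAlg X}
  (u : RelProj.QGrHom q 𝒮 𝒮')
  (p : P ⟶ Y)
  (chart : ∀ (U : Y.Opens) (hU : IsAffineOpen U),
    ((p ⁻¹ᵁ U : P.Opens) : Scheme.{u}) ≅ Proj (𝒮.deg U hU))
  (p' : P' ⟶ X)
  (chart' : ∀ (U : X.Opens) (hU : IsAffineOpen U),
    ((p' ⁻¹ᵁ U : P'.Opens) : Scheme.{u}) ≅ Proj (𝒮'.deg U hU))

/-- the index of a standard chart together with a fraction `x / y` of degree `n`, both of whose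
terms divide the equation `x * y * c` of the chart -/
structure IdxG (u : RelProj.QGrHom q 𝒮 𝒮') (n : ℤ) where
  U : Y.Opens
  hU : IsAffineOpen U
  U' : X.Opens
  hU' : IsAffineOpen U'
  hle : U' ≤ q ⁻¹ᵁ U
  i : ℕ
  j : ℕ
  δ : ℕ
  hδ : 0 < δ
  x : 𝒮.presheaf.obj (op U)
  y : 𝒮.presheaf.obj (op U)
  c : 𝒮.presheaf.obj (op U)
  hx : x ∈ 𝒮.deg U hU i
  hy : y ∈ 𝒮.deg U hU j
  hc : c ∈ 𝒮.deg U hU δ
  hdeg : (i : ℤ) = j + n

variable {u} {n : ℤ}

noncomputable abbrev IdxG.ψ (k : IdxG u n) : 𝒮.deg k.U k.hU →+*ᵍ 𝒮'.deg k.U' k.hU' :=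
  u.gradedAt k.U k.hU k.U' k.hU' k.hle

/-- the equation of the chart -/
abbrev IdxG.f (k : IdxG u n) : 𝒮.presheaf.obj (op k.U) := k.x * k.y * k.c

theorem IdxG.hf (k : IdxG u n) : k.f ∈ 𝒮.deg k.U k.hU (k.i + k.j + k.δ) :=
  SetLike.mul_mem_graded (SetLike.mul_mem_graded k.hx k.hy) k.hc

theorem IdxG.hd (k : IdxG u n) : 0 < k.i + k.j + k.δ := by
  have := k.hδ
  omega

abbrev IdxG.toIdx (k : IdxG u n) : Idx u :=
  ⟨k.U, k.hU, k.U', k.hU', k.hle, k.i + k.j + k.δ, k.hd, k.f, k.hf⟩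

/-- the open of `P` attached to an index -/
noncomputable abbrev IdxG.A (k : IdxG u n) : P.Opens :=
  RelProj.emb p chart k.U k.hU ''ᵁ Proj.basicOpen (𝒮.deg k.U k.hU) k.f

/-- the open of `P'` attached to an index -/
noncomputable abbrev IdxG.B (k : IdxG u n) : P'.Opens :=
  RelProj.emb p' chart' k.U' k.hU' ''ᵁ Proj.basicOpen (𝒮'.deg k.U' k.hU') (k.ψ k.f)

theorem IdxG.basicOpen_f_le_x (k : IdxG u n) :
    Proj.basicOpen (𝒮.deg k.U k.hU) k.f ≤ Proj.basicOpen (𝒮.deg k.U k.hU) k.x := by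
  change Proj.basicOpen (𝒮.deg k.U k.hU) (k.x * k.y * k.c) ≤ _
  rw [Proj.basicOpen_mul, Proj.basicOpen_mul]
  exact inf_le_left.trans inf_le_left

theorem IdxG.basicOpen_f_le_y (k : IdxG u n) :
    Proj.basicOpen (𝒮.deg k.U k.hU) k.f ≤ Proj.basicOpen (𝒮.deg k.U k.hU) k.y := by
  change Proj.basicOpen (𝒮.deg k.U k.hU) (k.x * k.y * k.c) ≤ _
  rw [Proj.basicOpen_mul, Proj.basicOpen_mul]
  exact inf_le_left.trans inf_le_right

theorem IdxG.ψ_f (k : IdxG u n) : k.ψ k.f = k.ψ k.x * k.ψ k.y * k.ψ k.c := by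
  change k.ψ (k.x * k.y * k.c) = _
  rw [map_mul, map_mul]

theorem IdxG.basicOpen_ψf_le_x (k : IdxG u n) :
    Proj.basicOpen (𝒮'.deg k.U' k.hU') (k.ψ k.f) ≤
      Proj.basicOpen (𝒮'.deg k.U' k.hU') (k.ψ k.x) := by
  rw [k.ψ_f, Proj.basicOpen_mul, Proj.basicOpen_mul]
  exact inf_le_left.trans inf_le_left

theorem IdxG.basicOpen_ψf_le_y (k : IdxG u n) :
    Proj.basicOpen (𝒮'.deg k.U' k.hU') (k.ψ k.f) ≤
      Proj.basicOpen (𝒮'.deg k.U' k.hU') (k.ψ k.y) := by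
  rw [k.ψ_f, Proj.basicOpen_mul, Proj.basicOpen_mul]
  exact inf_le_left.trans inf_le_right

section main

variable {p chart p' chart'}
variable {L : P.Modules}
  {lam : ∀ (U : Y.Opens) (hU : IsAffineOpen U),
    L ⟶ (Scheme.Modules.pushforward (RelProj.emb p chart U hU)).obj
      (GrTwist.twist (𝒮.deg U hU) n)}
  {L' : P'.Modules}
  {lam' : ∀ (U : X.Opens) (hU : IsAffineOpen U),
    L' ⟶ (Scheme.Modules.pushforward (RelProj.emb p' chart' U hU)).obj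
      (GrTwist.twist (𝒮'.deg U hU) n)}
  (hP : RelProj.IsRelProj 𝒮 p chart) (hP' : RelProj.IsRelProj 𝒮' p' chart')
  (hL : RelProj.IsRelTwist 𝒮 p chart n L lam)
  (hL' : RelProj.IsRelTwist 𝒮' p' chart' n L' lam')
  (w : W' ⟶ P') [IsOpenImmersion w] (r : W' ⟶ P)
  (hk : ∀ k : Idx u, Set.range (k.cB p' chart').base ⊆ Set.range w.base)
  (hr : ∀ k : Idx u, IsOpenImmersion.lift w (k.cB p' chart') (hk k) ≫ r = k.gA p chart)

include hP hP' hL hL' hr in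
/-- the local relation between the fractional generators of two indices -/
theorem local_rel' (i j : IdxG u n)
    (ei : Γ(L, i.A p chart)) (hei : Reads lam i.U i.hU _ ei i.x i.y)
    (ej : Γ(L, j.A p chart)) (hej : Reads lam j.U j.hU _ ej j.x j.y)
    (ei' : Γ(L', i.B p' chart'))
    (hei' : Reads lam' i.U' i.hU' _ ei' (i.ψ i.x) (i.ψ i.y))
    (ej' : Γ(L', j.B p' chart'))
    (hej' : Reads lam' j.U' j.hU' _ ej' (j.ψ j.x) (j.ψ j.y))
    (x : W') (hxi : w x ∈ i.B p' chart') (hxj : w x ∈ j.B p' chart') :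
    ∃ (T : W'.Opens) (hTi : w ''ᵁ T ≤ i.B p' chart') (hTj : w ''ᵁ T ≤ j.B p' chart')
      (hTAi : T ≤ r ⁻¹ᵁ i.A p chart) (hTAj : T ≤ r ⁻¹ᵁ j.A p chart)
      (γ₂ : Γ(P', w ''ᵁ T)), x ∈ T ∧
      res _ hTAi (PbBasic.pull r L _ ei) =
        (w.appIso T).hom γ₂ • res _ hTAj (PbBasic.pull r L _ ej) ∧
      res L' hTi ei' = γ₂ • res L' hTj ej' := by
  classical
  have hptUi : p' (w x) ∈ i.U' := p'_mem_of_mem_image p' chart' i.U' i.hU' _ _ hxi
  have hptUj : p' (w x) ∈ j.U' := p'_mem_of_mem_image p' chart' j.U' j.hU' _ _ hxj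
  have hgUi : q (p' (w x)) ∈ i.U := i.hle hptUi
  have hgUj : q (p' (w x)) ∈ j.U := j.hle hptUj
  obtain ⟨s, t, hst, hxs⟩ :=
    exists_basicOpen_le_affine_inter i.hU j.hU (q (p' (w x))) ⟨hgUi, hgUj⟩
  have hU₃ : IsAffineOpen (Y.basicOpen s) := i.hU.basicOpen s
  have eU1 := Scheme.basicOpen_appLE q i.U' i.U i.hle s
  have eU2 := Scheme.basicOpen_appLE q j.U' j.U j.hle t
  have hU1 := i.hU'.basicOpen (q.appLE i.U i.U' i.hle s)
  have hU2 := j.hU'.basicOpen (q.appLE j.U j.U' j.hle t)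
  have hpt1 : p' (w x) ∈ X.basicOpen (q.appLE i.U i.U' i.hle s) := by
    rw [eU1]; exact ⟨hptUi, hxs⟩
  have hpt2 : p' (w x) ∈ X.basicOpen (q.appLE j.U j.U' j.hle t) := by
    rw [eU2, ← hst]; exact ⟨hptUj, hxs⟩
  obtain ⟨b1, b2, hb, hxb⟩ := exists_basicOpen_le_affine_inter hU1 hU2 (p' (w x)) ⟨hpt1, hpt2⟩
  have hU₃' : IsAffineOpen (X.basicOpen b1) := hU1.basicOpen b1
  have hle₃ : X.basicOpen b1 ≤ q ⁻¹ᵁ Y.basicOpen s :=
    (X.basicOpen_le b1).trans (eU1.le.trans inf_le_right)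
  -- the restricted elements
  have hiU : Y.basicOpen s ≤ i.U := Y.basicOpen_le s
  have hjU : Y.basicOpen s ≤ j.U := hst.le.trans (Y.basicOpen_le t)
  obtain ⟨ρi, hρi⟩ : ∃ ρi : 𝒮.deg i.U i.hU →+*ᵍ 𝒮.deg (Y.basicOpen s) hU₃,
      ρi = 𝒮.res i.hU hU₃ hiU := ⟨_, rfl⟩
  obtain ⟨ρj, hρj⟩ : ∃ ρj : 𝒮.deg j.U j.hU →+*ᵍ 𝒮.deg (Y.basicOpen s) hU₃,
      ρj = 𝒮.res j.hU hU₃ hjU := ⟨_, rfl⟩
  have hFi : ρi i.f ∈ 𝒮.deg (Y.basicOpen s) hU₃ (i.i + i.j + i.δ) := Graded.map_mem ρi i.hf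
  have hFj : ρj j.f ∈ 𝒮.deg (Y.basicOpen s) hU₃ (j.i + j.j + j.δ) := Graded.map_mem ρj j.hf
  have hF : ρi i.f * ρj j.f ∈
      𝒮.deg (Y.basicOpen s) hU₃ ((i.i + i.j + i.δ) + (j.i + j.j + j.δ)) :=
    SetLike.mul_mem_graded hFi hFj
  have hd₃ : 0 < (i.i + i.j + i.δ) + (j.i + j.j + j.δ) := by
    have := i.hd
    omega
  have ha0 : ρi i.x ^ 2 * ρi i.c * (ρj j.y ^ 2 * ρj j.c) ∈
      𝒮.deg (Y.basicOpen s) hU₃ (1 • ((i.i + i.j + i.δ) + (j.i + j.j + j.δ))) := by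
    have h1 := SetLike.mul_mem_graded
      (SetLike.mul_mem_graded (SetLike.pow_mem_graded 2 (Graded.map_mem ρi i.hx))
        (Graded.map_mem ρi i.hc))
      (SetLike.mul_mem_graded (SetLike.pow_mem_graded 2 (Graded.map_mem ρj j.hy))
        (Graded.map_mem ρj j.hc))
    refine mem_deg_of_eq ?_ h1
    have e1 := i.hdeg
    have e2 := j.hdeg
    simp only [smul_eq_mul]
    omega
  -- the common chart
  let k₃ : Idx u := ⟨Y.basicOpen s, hU₃, X.basicOpen b1, hU₃', hle₃,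
    (i.i + i.j + i.δ) + (j.i + j.j + j.δ), hd₃, ρi i.f * ρj j.f, hF⟩
  haveI := isOpenImmersion_lft p' chart' w hk k₃
  -- compatibilities with `u`
  have h1i : X.basicOpen (q.appLE i.U i.U' i.hle s) ≤ i.U' := X.basicOpen_le _
  have h1j : X.basicOpen (q.appLE j.U j.U' j.hle t) ≤ j.U' := X.basicOpen_le _
  have h2i : X.basicOpen b1 ≤ X.basicOpen (q.appLE i.U i.U' i.hle s) := X.basicOpen_le b1
  have h2j : X.basicOpen b1 ≤ X.basicOpen (q.appLE j.U j.U' j.hle t) :=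
    hb.le.trans (X.basicOpen_le b2)
  have key_i : ∀ a : 𝒮.presheaf.obj (op i.U),
      𝒮'.res hU1 hU₃' h2i (𝒮'.res i.hU' hU1 h1i (i.ψ a)) = k₃.ψ (ρi a) := fun a => by
    rw [hρi]
    exact key u i.hU hU₃ i.hU' hU1 hU₃' i.hle hle₃ hiU h1i h2i a
  have key_j : ∀ a : 𝒮.presheaf.obj (op j.U),
      𝒮'.res hU2 hU₃' h2j (𝒮'.res j.hU' hU2 h1j (j.ψ a)) = k₃.ψ (ρj a) := fun a => by
    rw [hρj]
    exact key u j.hU hU₃ j.hU' hU2 hU₃' j.hle hle₃ hjU h1j h2j a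
  -- inclusions of opens on `P`
  have hA₃i : RelProj.emb p chart k₃.U k₃.hU ''ᵁ Proj.basicOpen (𝒮.deg k₃.U k₃.hU) k₃.f ≤
      i.A p chart := by
    have := image_le_image_basic (p := p) (chart := chart) hP s hU₃ rfl i.f
      (Proj.basicOpen (𝒮.deg (Y.basicOpen s) hU₃) (ρi i.f * ρj j.f)) (by
        rw [Proj.basicOpen_mul, hρi]; exact inf_le_left)
    exact this
  have hA₃j : RelProj.emb p chart k₃.U k₃.hU ''ᵁ Proj.basicOpen (𝒮.deg k₃.U k₃.hU) k₃.f ≤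
      j.A p chart := by
    have := image_le_image_basic (p := p) (chart := chart) hP t hU₃ hst j.f
      (Proj.basicOpen (𝒮.deg (Y.basicOpen s) hU₃) (ρi i.f * ρj j.f)) (by
        rw [Proj.basicOpen_mul, hρj]; exact inf_le_right)
    exact this
  -- inclusions of opens on `P'`
  have hψF : k₃.ψ k₃.f = k₃.ψ (ρi i.f) * k₃.ψ (ρj j.f) := map_mul k₃.ψ _ _
  have hB₃i : BB p' chart' k₃ ≤ i.B p' chart' := by
    refine (image_le_image_basic hP' b1 hU₃' rfl (𝒮'.res i.hU' hU1 h1i (i.ψ i.f)) _ ?_).trans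
      (image_le_image_basic hP' (q.appLE i.U i.U' i.hle s) hU1 rfl (i.ψ i.f) _ le_rfl)
    change Proj.basicOpen _ (k₃.ψ k₃.f) ≤
      Proj.basicOpen _ (𝒮'.res hU1 hU₃' h2i (𝒮'.res i.hU' hU1 h1i (i.ψ i.f)))
    rw [key_i, hψF, Proj.basicOpen_mul]
    exact inf_le_left
  have hB₃j : BB p' chart' k₃ ≤ j.B p' chart' := by
    refine (image_le_image_basic hP' b2 hU₃' hb (𝒮'.res j.hU' hU2 h1j (j.ψ j.f)) _ ?_).trans
      (image_le_image_basic hP' (q.appLE j.U j.U' j.hle t) hU2 rfl (j.ψ j.f) _ le_rfl)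
    change Proj.basicOpen _ (k₃.ψ k₃.f) ≤
      Proj.basicOpen _ (𝒮'.res hU2 hU₃' h2j (𝒮'.res j.hU' hU2 h1j (j.ψ j.f)))
    rw [key_j, hψF, Proj.basicOpen_mul]
    exact inf_le_right
  -- readings on `P`
  have hti : Reads lam k₃.U k₃.hU _ (res L hA₃i ei) (ρi i.x) (ρi i.y) :=
    ((hei.res hA₃i).basic hP hL s hU₃ rfl).congr (by rw [hρi]) (by rw [hρi])
  have htj : Reads lam k₃.U k₃.hU _ (res L hA₃j ej) (ρj j.x) (ρj j.y) :=
    ((hej.res hA₃j).basic hP hL t hU₃ hst).congr (by rw [hρj]) (by rw [hρj])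
  -- readings on `P'`
  have hti' : Reads lam' k₃.U' k₃.hU' _ (res L' hB₃i ei') (k₃.ψ (ρi i.x)) (k₃.ψ (ρi i.y)) :=
    (((hei'.res hB₃i).basic hP' hL' (q.appLE i.U i.U' i.hle s) hU1 rfl).basic hP' hL' b1 hU₃'
      rfl).congr (key_i _) (key_i _)
  have htj' : Reads lam' k₃.U' k₃.hU' _ (res L' hB₃j ej') (k₃.ψ (ρj j.x)) (k₃.ψ (ρj j.y)) :=
    (((hej'.res hB₃j).basic hP' hL' (q.appLE j.U j.U' j.hle t) hU2 rfl).basic hP' hL' b2 hU₃'
      hb).congr (key_j _) (key_j _)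
  -- the algebra
  have hfi : ρi i.f = ρi i.x * ρi i.y * ρi i.c := by
    change ρi (i.x * i.y * i.c) = _
    rw [map_mul, map_mul]
  have hfj : ρj j.f = ρj j.x * ρj j.y * ρj j.c := by
    change ρj (j.x * j.y * j.c) = _
    rw [map_mul, map_mul]
  have hk₃f : k₃.f = ρi i.f * ρj j.f := rfl
  -- the core
  obtain ⟨hTA, hTB, γ₂, h1, h2⟩ := core hL hL' w r hk hr k₃ 1
    (ρi i.x ^ 2 * ρi i.c * (ρj j.y ^ 2 * ρj j.c)) ha0 hti htj
    (by rw [hk₃f, hfi, hfj]; ring)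
    hti' htj'
    (by
      rw [hψF, hfi, hfj]
      simp only [map_mul, map_pow]
      ring)
  -- the point lies in the chart
  have hxT : x ∈ lft p' chart' w hk k₃ ''ᵁ ⊤ := by
    obtain ⟨y₃, hy₃⟩ := ProjQMap.exists_emb_eq p' chart' (X.basicOpen b1) hU₃' (w x) hxb
    have hni : k₃.ψ (ρi i.f) ∉ y₃.asHomogeneousIdeal := by
      rw [← key_i]
      refine notMem_of_mem_image hP' (q.appLE i.U i.U' i.hle s) hU1 rfl (i.ψ i.f)
        (ProjectiveSpectrum.comap (𝒮'.res hU1 hU₃' h2i)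
          (RelTwistExist.hirr_of_eq hU1 hU₃' b1 rfl) y₃) ?_
      rw [RelTwistExist.emb_comap hP' hU1 hU₃' b1 rfl y₃]
      change RelProj.emb p' chart' (X.basicOpen b1) hU₃' y₃ ∈ _
      rw [hy₃]
      exact hxi
    have hnj : k₃.ψ (ρj j.f) ∉ y₃.asHomogeneousIdeal := by
      rw [← key_j]
      refine notMem_of_mem_image hP' (q.appLE j.U j.U' j.hle t) hU2 rfl (j.ψ j.f)
        (ProjectiveSpectrum.comap (𝒮'.res hU2 hU₃' h2j)
          (RelTwistExist.hirr_of_eq hU2 hU₃' b2 hb) y₃) ?_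
      rw [RelTwistExist.emb_comap hP' hU2 hU₃' b2 hb y₃]
      change RelProj.emb p' chart' (X.basicOpen b1) hU₃' y₃ ∈ _
      rw [hy₃]
      exact hxj
    have hmem : w x ∈ BB p' chart' k₃ := by
      refine ⟨y₃, ?_, hy₃⟩
      change k₃.ψ k₃.f ∉ y₃.asHomogeneousIdeal
      rw [hψF]
      exact fun h => (y₃.isPrime.mem_or_mem h).elim hni hnj
    obtain ⟨z, hz⟩ := exists_lft_eq p' chart' w hk k₃ x ((mem_BB_iff p' chart' k₃ _).mp hmem)
    exact ⟨z, trivial, hz⟩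
  refine ⟨lft p' chart' w hk k₃ ''ᵁ ⊤, hTB.trans hB₃i, hTB.trans hB₃j,
    hTA.trans (r.preimage_mono hA₃i), hTA.trans (r.preimage_mono hA₃j), γ₂, hxT, ?_, ?_⟩
  · have e1 : res _ (hTA.trans (r.preimage_mono hA₃i)) (PbBasic.pull r L _ ei) =
        res _ hTA (PbBasic.pull r L _ (res L hA₃i ei)) := by
      rw [← PbBasic.res_pull r L hA₃i ei, res_res]
    have e2 : res _ (hTA.trans (r.preimage_mono hA₃j)) (PbBasic.pull r L _ ej) =
        res _ hTA (PbBasic.pull r L _ (res L hA₃j ej)) := by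
      rw [← PbBasic.res_pull r L hA₃j ej, res_res]
    rw [e1, e2]
    exact h1
  · have e1 : res L' (hTB.trans hB₃i) ei' = res L' hTB (res L' hB₃i ei') := (res_res _ _ _ _).symm
    have e2 : res L' (hTB.trans hB₃j) ej' = res L' hTB (res L' hB₃j ej') := (res_res _ _ _ _).symm
    rw [e1, e2]
    exact h2

include hP hP' hL hL' hr in
/-- `r^* O_P(n) ≅ O_{P'}(n)|_{W'}` as soon as the charts with matching fractional generators
cover `W'` -/
theorem nonempty_iso' (hcov : ∀ x : W', ∃ i : IdxG u n, w x ∈ i.B p' chart') :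
    Nonempty ((Scheme.Modules.pullback r).obj L ≅ L'.restrict w) := by
  classical
  choose e he_gen he_reads using fun i : IdxG u n =>
    exists_gen' hL i.U i.hU i.f i.x i.y i.hx i.hy i.hdeg i.basicOpen_f_le_x i.basicOpen_f_le_y
  choose e' he'_gen he'_reads using fun i : IdxG u n =>
    exists_gen' hL' i.U' i.hU' (i.ψ i.f) (i.ψ i.x) (i.ψ i.y) (Graded.map_mem i.ψ i.hx)
      (Graded.map_mem i.ψ i.hy) i.hdeg i.basicOpen_ψf_le_x i.basicOpen_ψf_le_y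
  let V : IdxG u n → W'.Opens := fun i => w ⁻¹ᵁ i.B p' chart'
  have hVA : ∀ i : IdxG u n, V i ≤ r ⁻¹ᵁ i.A p chart := fun i x hx =>
    r_mem p chart p' chart' w r hk hr i.toIdx x hx
  have hWB : ∀ i : IdxG u n, w ''ᵁ V i ≤ i.B p' chart' := by
    rintro i _ ⟨x, hx, rfl⟩
    exact hx
  have hcov' : iSup V = ⊤ := by
    rw [eq_top_iff]
    intro x _
    obtain ⟨i, hi⟩ := hcov x
    exact Opens.mem_iSup.mpr ⟨i, hi⟩
  let s : ∀ i : IdxG u n, Γ((Scheme.Modules.pullback r).obj L, V i) := fun i =>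
    res _ (hVA i) (PbBasic.pull r L _ (e i))
  have hs : ∀ i, IsGen _ (V i) (s i) := fun i =>
    (PbBasic.isGen_pull r (he_gen i)).mono (hVA i)
  let s' : ∀ i : IdxG u n, Γ(L'.restrict w, V i) := fun i => res L' (hWB i) (e' i)
  have hs' : ∀ i, IsGen _ (V i) (s' i) := fun i =>
    (InvRestrict.isGen_restrict_iff w _ _ _).mpr ((he'_gen i).mono (hWB i))
  obtain ⟨φ, -⟩ := CocycleLocal.exists_iso_of_local V hcov' s s' hs hs' (by
    intro i j x hxi hxj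
    obtain ⟨T, hTi, hTj, hTAi, hTAj, γ₂, hxT, h1, h2⟩ :=
      local_rel' hP hP' hL hL' w r hk hr i j (e i) (he_reads i) (e j)
        (he_reads j) (e' i) (he'_reads i) (e' j) (he'_reads j) x hxi hxj
    have hTVi : T ≤ V i := fun y hy => hTi ⟨y, hy, rfl⟩
    have hTVj : T ≤ V j := fun y hy => hTj ⟨y, hy, rfl⟩
    refine ⟨T, hTVi, hTVj, (w.appIso T).hom γ₂, hxT, ?_, ?_⟩
    · change res _ hTVi (res _ (hVA i) (PbBasic.pull r L _ (e i))) =
        (w.appIso T).hom γ₂ • res _ hTVj (res _ (hVA j) (PbBasic.pull r L _ (e j)))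
      rw [res_res, res_res]
      exact h1
    · rw [InvRestrict.smul_X_eq, InvRestrict.res_restrict, InvRestrict.res_restrict]
      change res L' _ (res L' (hWB i) (e' i)) = γ₂ • res L' _ (res L' (hWB j) (e' j))
      rw [res_res, res_res]
      exact h2)
  exact ⟨φ⟩

end main

end Groth.Agent.Lib.Helper3.RelTwistQG
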