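import Groth.Agent.Lib.Helper3.SymPowFwd
import Groth.Agent.Lib.Helper3.RelTwistQG
import Groth.Agent.Lib.Helper3.SymGenProj
import Groth.Agent.Lib.Helper3.InvCoh

/-!
# `r^* O_P(n) ≅ O_{P(L)}(n)|_{G}` for the morphism `r_{L,σ}` of a relatively ample invertible
module (EGA II 4.6.3, second half)
-/

set_option autoImplicit false
set_option linter.unusedSectionVars false
universe u
open CategoryTheory CategoryTheory.Limits AlgebraicGeometry TopologicalSpace Opposite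
open Scheme.Modules
open scoped HomogeneousIdeal

namespace Groth.Agent.Lib.Helper3.RelTwistAmp

open QCSec InvGen SymGen InvTensor InvRestrict InvAmple ProjQMap HomogeneousLocalization TensorDesc
  Groth.Agent.Lib.Helper3.RLPsiImmU Groth.Agent.Lib.Helper3.SymPow
  Groth.Agent.Lib.Helper3.SymPowAmple Groth.Agent.Lib.Helper3.SymPowFwd

section main
variable {Y X P PL : Scheme.{u}} {q : X ⟶ Y} {L : X.Modules}
  {𝒮 : RelProj.QCGrAlg Y} {𝒮L : RelProj.QCGrAlg X} {j : L ⟶ 𝒮L.toModule}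
  (u : RelProj.QGrHom q 𝒮 𝒮L)
  {p : P ⟶ Y} {chart : ∀ (U : Y.Opens) (hU : IsAffineOpen U),
    (((p ⁻¹ᵁ U : P.Opens) : Scheme.{u}) ≅ Proj (𝒮.deg U hU))}
  {pL : PL ⟶ X} {chartL : ∀ (U : X.Opens) (hU : IsAffineOpen U),
    (((pL ⁻¹ᵁ U : PL.Opens) : Scheme.{u}) ≅ Proj (𝒮L.deg U hU))}
  (r : ((RelProj.domQ u pL chartL : PL.Opens) : Scheme.{u}) ⟶ P)
  (hL : PicF.IsInvertible L) (hLq : Coh.IsQCoh L) (hj : RelProj.IsGrSymAlg L 𝒮L j)
  (hP : RelProj.IsRelProj 𝒮 p chart) (hPL : RelProj.IsRelProj 𝒮L pL chartL)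
  (hr : RelProj.IsProjQMapOn u p chart pL chartL (RelProj.domQ u pL chartL) r)

include hL hLq hj hP hPL hr in
/-- every point of `P(L)` lies in a chart with matching fractional generators of degree `n` -/
theorem exists_idxG (n : ℕ) (U : Y.Opens) (hU : IsAffineOpen U)
    (hc : IsCompact ((q ⁻¹ᵁ U : X.Opens) : Set X))
    (hA : CohB1.IsAmple (L.restrict (q ⁻¹ᵁ U).ι))
    (hu : Function.Bijective (u.app U).hom) (z : PL) (hz : pL z ∈ q ⁻¹ᵁ U) :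
    ∃ i : RelTwistQG.IdxG u (n : ℤ), z ∈ i.B pL chartL := by
  classical
  haveI : L.IsQuasicoherent := hLq
  haveI : (CohB1.tensorPow L n).IsQuasicoherent :=
    InvCoh.isQuasicoherent_of_isInvertible (isInvertible_tensorPow hL n)
  obtain ⟨m, σ, Ω, hΩa, hxΩ, hΩW, hΩ⟩ :=
    exists_sections_of_isAmple_restrict (q ⁻¹ᵁ U) hA (pL z) hz
  have hL' : PicF.IsInvertible (CohB1.tensorPow L (m + 1)) := isInvertible_tensorPow hL (m + 1)
  obtain ⟨s, hs_eq⟩ := hu.2 (jj 𝒮L.toQCAlg (kap 𝒮L.toQCAlg j (m + 1)) (q ⁻¹ᵁ U) σ)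
  have hs : s ∈ 𝒮.deg U hU (m + 1) :=
    mem_deg_of_forall_appLE u U hU hu.1 (m + 1) s (fun V hV hle => by
      have h1 : (u.appLE U V hle).hom s =
          jj 𝒮L.toQCAlg (kap 𝒮L.toQCAlg j (m + 1)) V (res _ hle σ) := by
        change rs 𝒮L.toQCAlg hle ((u.app U).hom s) = _
        rw [hs_eq, rs_jj]
      rw [h1]
      exact kap_mem_deg hL hj (m + 1) hV _)
  have hXT : XFU u U (m + 1) s = Ω := by
    apply le_antisymm
    · intro x' hx'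
      exact (hΩ x').mpr ((XFU_mem_iff_isGen u r hL hLq hj hP hPL hr U hU (Nat.succ_pos m) s hs σ
        hs_eq.symm x').mp hx')
    · intro x' hx'
      exact (XFU_mem_iff_isGen u r hL hLq hj hP hPL hr U hU (Nat.succ_pos m) s hs σ
        hs_eq.symm x').mpr ((hΩ x').mp hx')
  subst hXT
  have hΩ' : TwistV.IsSecLocus (CohB1.tensorPow L (m + 1)) (q ⁻¹ᵁ U) σ (XFU u U (m + 1) s) := hΩ
  have hqsW := RelAmpleLib.isQuasiSeparated_of_isAmple_restrict (q ⁻¹ᵁ U) hA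
  have hqs : ∀ U₁ U₂ : X.Opens, IsAffineOpen U₁ → IsAffineOpen U₂ → U₁ ≤ q ⁻¹ᵁ U →
      U₂ ≤ q ⁻¹ᵁ U → IsCompact ((U₁ ⊓ U₂ : X.Opens) : Set X) :=
    fun U₁ U₂ h₁ h₂ hle₁ hle₂ => hqsW U₁ U₂ hle₁ U₁.2 h₁.isCompact hle₂ U₂.2 h₂.isCompact
  have hus : (u.appLE U (XFU u U (m + 1) s) hΩW).hom s =
      jj 𝒮L.toQCAlg (kap 𝒮L.toQCAlg j (m + 1)) _ (res _ hΩW σ) := by
    change rs 𝒮L.toQCAlg hΩW ((u.app U).hom s) = _
    rw [hs_eq, rs_jj]
  -- the point in the chart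
  obtain ⟨y₀, hy₀⟩ := exists_emb_eq pL chartL (XFU u U (m + 1) s) hΩa z hxΩ
  have hsy₀ : (u.appLE U (XFU u U (m + 1) s) hΩW).hom s ∉ y₀.asHomogeneousIdeal :=
    notMem_XF u r hLq hj hPL hr U hU (Nat.succ_pos m) s hs hΩa y₀
  -- an element of degree one not vanishing at the point
  have hgenL : 𝒮L.IsGenDegOne := SymGenProj.isGenDegOne hj
  obtain ⟨ℓ, hℓ, hℓy⟩ : ∃ ℓ ∈ 𝒮L.deg (XFU u U (m + 1) s) hΩa 1,
      ℓ ∉ y₀.asHomogeneousIdeal := by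
    by_contra hcon
    simp only [not_exists, not_and, not_not] at hcon
    apply y₀.not_irrelevant_le
    intro t ht
    have h1 : Ideal.span (𝒮L.deg (XFU u U (m + 1) s) hΩa 1 :
        Set (𝒮L.presheaf.obj (op (XFU u U (m + 1) s)))) ≤ y₀.asHomogeneousIdeal.toIdeal :=
      Ideal.span_le.mpr fun f hf => hcon f hf
    exact h1 (GrTwistGen.irrelevant_le_span_one (hgenL _ hΩa) ht)
  -- its `n`-th power comes from a section of `L^{⊗ n}`
  obtain ⟨t, ht⟩ := exists_kap_eq hL hj n (XFU u U (m + 1) s) (ℓ ^ n) (fun V hV hVW => by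
    have h1 : 𝒮L.res hΩa hV hVW (ℓ ^ n) ∈ 𝒮L.deg V hV n := by
      rw [map_pow]
      have := SetLike.pow_mem_graded n (Graded.map_mem (𝒮L.res hΩa hV hVW) hℓ)
      rwa [smul_eq_mul, mul_one] at this
    exact h1)
  -- extension of `t ⊗ σ^k`
  obtain ⟨k₀, hk₀⟩ := TwistV.exists_tm_lpow_extension hL' (q ⁻¹ᵁ U) σ _ hΩ'
    (CohB1.tensorPow L n) hc hqs t
  obtain ⟨t', ht'⟩ := hk₀ k₀ le_rfl
  obtain ⟨x'', hx''⟩ := hu.2 (jj 𝒮L.toQCAlg
    (kapPair 𝒮L.toQCAlg (kap 𝒮L.toQCAlg (kap 𝒮L.toQCAlg j (m + 1)) k₀)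
      (kap 𝒮L.toQCAlg j n)).hom (q ⁻¹ᵁ U) t')
  have ha' : rs 𝒮L.toQCAlg hΩW (jj 𝒮L.toQCAlg
      (kapPair 𝒮L.toQCAlg (kap 𝒮L.toQCAlg (kap 𝒮L.toQCAlg j (m + 1)) k₀)
        (kap 𝒮L.toQCAlg j n)).hom (q ⁻¹ᵁ U) t') =
      ℓ ^ n * ((u.appLE U (XFU u U (m + 1) s) hΩW).hom s) ^ k₀ := by
    rw [rs_jj, ht']
    refine (Pairing.hom_tm _ _ _ _).trans ?_
    change jj 𝒮L.toQCAlg (kap 𝒮L.toQCAlg j n) _ t *
      jj 𝒮L.toQCAlg (kap 𝒮L.toQCAlg (kap 𝒮L.toQCAlg j (m + 1)) k₀) _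
        (lpow _ (res _ hΩW σ) k₀) = _
    rw [ht, kap_lpow, ← hus]
  have hψs : (u.appLE U (XFU u U (m + 1) s) hΩW).hom s ∈
      𝒮L.deg (XFU u U (m + 1) s) hΩa (m + 1) :=
    (u.gradedAt U hU _ hΩa hΩW).map_mem hs
  have hdeg : ℓ ^ n * ((u.appLE U (XFU u U (m + 1) s) hΩW).hom s) ^ k₀ ∈
      𝒮L.deg _ hΩa (k₀ * (m + 1) + n) := by
    have h1 := SetLike.mul_mem_graded (SetLike.pow_mem_graded n hℓ)
      (SetLike.pow_mem_graded k₀ hψs)
    have e1 : n • 1 + k₀ • (m + 1) = k₀ * (m + 1) + n := by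
      simp only [smul_eq_mul]
      ring
    rw [e1] at h1
    exact h1
  obtain ⟨x, hxdef⟩ : ∃ x : 𝒮.presheaf.obj (op U),
      x = ((DirectSum.decompose (𝒮.deg U hU) x'' (k₀ * (m + 1) + n) : _) :
        𝒮.presheaf.obj (op U)) := ⟨_, rfl⟩
  have hx : x ∈ 𝒮.deg U hU (k₀ * (m + 1) + n) := by
    rw [hxdef]
    exact SetLike.coe_mem _
  have hψx : (u.appLE U (XFU u U (m + 1) s) hΩW).hom x =
      ℓ ^ n * ((u.appLE U (XFU u U (m + 1) s) hΩW).hom s) ^ k₀ := by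
    have h1 := (u.gradedAt U hU _ hΩa hΩW).map_directSumDecompose (x := x'')
      (i := k₀ * (m + 1) + n)
    have h2 : (u.appLE U (XFU u U (m + 1) s) hΩW).hom
        ((DirectSum.decompose (𝒮.deg U hU) x'' (k₀ * (m + 1) + n) : _) :
          𝒮.presheaf.obj (op U)) =
        ((DirectSum.decompose (𝒮L.deg _ hΩa) ((u.appLE U (XFU u U (m + 1) s) hΩW).hom x'')
          (k₀ * (m + 1) + n) : _) : 𝒮L.presheaf.obj (op _)) := h1
    have h3 : (u.appLE U (XFU u U (m + 1) s) hΩW).hom x'' = rs 𝒮L.toQCAlg hΩW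
        (jj 𝒮L.toQCAlg (kapPair 𝒮L.toQCAlg (kap 𝒮L.toQCAlg (kap 𝒮L.toQCAlg j (m + 1)) k₀)
          (kap 𝒮L.toQCAlg j n)).hom (q ⁻¹ᵁ U) t') := by
      change rs 𝒮L.toQCAlg hΩW ((u.app U).hom x'') = _
      rw [hx'']
    rw [hxdef, h2, h3, ha', DirectSum.decompose_of_mem_same _ hdeg]
  have hy : s ^ k₀ ∈ 𝒮.deg U hU (k₀ * (m + 1)) := by
    have := SetLike.pow_mem_graded k₀ hs
    rwa [smul_eq_mul] at this
  -- the index
  refine ⟨⟨U, hU, XFU u U (m + 1) s, hΩa, hΩW, k₀ * (m + 1) + n, k₀ * (m + 1), m + 1,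
    Nat.succ_pos m, x, s ^ k₀, s, hx, hy, hs, by push_cast; ring⟩, ?_⟩
  refine ⟨y₀, ?_, hy₀⟩
  change (u.appLE U (XFU u U (m + 1) s) hΩW).hom (x * s ^ k₀ * s) ∉ y₀.asHomogeneousIdeal
  rw [map_mul, map_mul, map_pow, hψx]
  intro hmem
  have hprime := y₀.isPrime
  rcases hprime.mem_or_mem hmem with h1 | h1
  · rcases hprime.mem_or_mem h1 with h2 | h2
    · rcases hprime.mem_or_mem h2 with h3 | h3
      · exact hℓy (hprime.mem_of_pow_mem n h3)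
      · exact hsy₀ (hprime.mem_of_pow_mem k₀ h3)
    · exact hsy₀ (hprime.mem_of_pow_mem k₀ h2)
  · exact hsy₀ h1

include hL hLq hj hP hPL hr in
/-- EGA II 4.6.3: `r^* O_P(n) ≅ O_{P(L)}(n)|_{G(σ)}` for `L` relatively ample -/
theorem nonempty_iso_restrict [QuasiCompact q] (hamp : RelAmple.IsRelAmple q L)
    (hu : ∀ (U : Y.Opens), IsAffineOpen U → Function.Bijective (u.app U).hom) (n : ℕ)
    {On : P.Modules}
    {lamn : ∀ (U : Y.Opens) (hU : IsAffineOpen U),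
      On ⟶ (Scheme.Modules.pushforward (RelProj.emb p chart U hU)).obj
        (GrTwist.twist (𝒮.deg U hU) (n : ℤ))}
    (hOn : RelProj.IsRelTwist 𝒮 p chart (n : ℤ) On lamn)
    {OLn : PL.Modules}
    {lamLn : ∀ (U : X.Opens) (hU : IsAffineOpen U),
      OLn ⟶ (Scheme.Modules.pushforward (RelProj.emb pL chartL U hU)).obj
        (GrTwist.twist (𝒮L.deg U hU) (n : ℤ))}
    (hOLn : RelProj.IsRelTwist 𝒮L pL chartL (n : ℤ) OLn lamLn) :
    Nonempty ((Scheme.Modules.pullback r).obj On ≅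
      OLn.restrict (RelProj.domQ u pL chartL).ι) :=
  RelTwistQG.nonempty_iso' hP hPL hOn hOLn (RelProj.domQ u pL chartL).ι r
    (fun k => RelProj.range_awayEmb_subset_domQ u pL chartL k.U k.hU k.U' k.hU' k.hle k.hd k.f
      k.hf)
    (fun k => hr k.U k.hU k.U' k.hU' k.hle k.d k.hd k.f k.hf _)
    (fun x => by
      obtain ⟨U, hU, hxU⟩ := exists_affine_mem (q (pL ((RelProj.domQ u pL chartL).ι x)))
      exact exists_idxG u r hL hLq hj hP hPL hr n U hU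
        (QuasiCompact.isCompact_preimage (f := q) _ U.2 hU.isCompact) (hamp.2 ⟨U, hU⟩) (hu U hU)
        _ hxU)

end main

end Groth.Agent.Lib.Helper3.RelTwistAmp
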