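import Groth.Agent.Lib.Helper3.RelTwistZero
import Groth.Agent.Lib.Helper3.RelTwistTensor
import Groth.Agent.Lib.Helper3.RelTwistPeriod

/-!
# `O_X(n)|U ⊗ O_X(-n)|U ≅ O_U` on a quasi-compact open of a relative Proj, `n` divisible enough
-/

set_option autoImplicit false
set_option linter.unusedSectionVars false
universe u
open CategoryTheory CategoryTheory.Limits AlgebraicGeometry TopologicalSpace Opposite
open Scheme.Modules
open scoped HomogeneousIdeal

namespace Groth.Agent.Lib.Helper3.RelTwistInv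

open QCSec InvGen GrModQC RelTwistTensor RelTwistPeriod

variable {Y P : Scheme.{u}} {𝒮 : RelProj.QCGrAlg Y} {p : P ⟶ Y}
  {chart : ∀ (U : Y.Opens) (hU : IsAffineOpen U),
    ((p ⁻¹ᵁ U : P.Opens) : Scheme.{u}) ≅ Proj (𝒮.deg U hU)}
  (hP : RelProj.IsRelProj 𝒮 p chart) {n : ℤ} {L L' : P.Modules}
  {lam : ∀ (U : Y.Opens) (hU : IsAffineOpen U),
    L ⟶ (Scheme.Modules.pushforward (RelProj.emb p chart U hU)).obj
      (GrTwist.twist (𝒮.deg U hU) n)}
  {lam' : ∀ (U : Y.Opens) (hU : IsAffineOpen U),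
    L' ⟶ (Scheme.Modules.pushforward (RelProj.emb p chart U hU)).obj
      (GrTwist.twist (𝒮.deg U hU) (-n))}
  (hL : RelProj.IsRelTwist 𝒮 p chart n L lam) (hL' : RelProj.IsRelTwist 𝒮 p chart (-n) L' lam')

/-- the multiplication `O_P(n) ⊗ O_P(-n) ⟶ O_P` -/
noncomputable def mulHom : CohB1.tensorMod L L' ⟶ Coh.structureModule P :=
  (pairing hP hL hL'
    (RelTwistZero.isRelTwist_structureModule hP (n + -n) (add_neg_cancel n))).hom

include hP hL hL' in
/-- over a good open of degree dividing `n`, the multiplication maps a generator to a generator -/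
theorem exists_gen {V : P.Opens} {d : ℕ} (hV : Good p chart V d) (hdn : (d : ℤ) ∣ n) :
    ∃ a : Γ(CohB1.tensorMod L L', V), IsGen (CohB1.tensorMod L L') V a ∧
      IsGen (Coh.structureModule P) V ((mulHom hP hL hL').app V a) := by
  obtain ⟨U, hU, f, hf, hVU, hpre⟩ := hV
  obtain ⟨k, hk⟩ := hdn
  have hle : V ≤ (RelProj.emb p chart U hU).opensRange := by
    rw [ProjQMap.opensRange_emb]
    exact hVU
  have hmem : ∀ j : ℕ, f ^ j ∈ 𝒮.deg U hU (j * d) := fun j => by
    have := SetLike.pow_mem_graded j hf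
    rwa [smul_eq_mul] at this
  have hnot : ∀ (j : ℕ) (z : (RelProj.emb p chart U hU ⁻¹ᵁ V : (Proj (𝒮.deg U hU)).Opens)),
      f ^ j ∉ z.1.asHomogeneousIdeal := by
    intro j z hz
    have hz' : z.1 ∈ Proj.basicOpen (𝒮.deg U hU) f := by rw [← hpre]; exact z.2
    exact hz' (z.1.isPrime.mem_of_pow_mem j hz)
  have hdeg : ((k.toNat * d : ℕ) : ℤ) = (((-k).toNat * d : ℕ) : ℤ) + n := by
    push_cast
    rcases le_total 0 k with h | h
    · rw [Int.toNat_of_nonneg h, Int.toNat_eq_zero.mpr (by omega), hk]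
      simp [mul_comm]
    · rw [Int.toNat_eq_zero.mpr h, Int.toNat_of_nonneg (by omega), hk]
      ring
  have hdeg' : (((-k).toNat * d : ℕ) : ℤ) = ((k.toNat * d : ℕ) : ℤ) + -n := by omega
  let t := frac (RelProj.emb p chart U hU ⁻¹ᵁ V) ⟨f ^ k.toNat, hmem _⟩
    ⟨f ^ (-k).toNat, hmem _⟩ (hnot _) n hdeg
  let t' := frac (RelProj.emb p chart U hU ⁻¹ᵁ V) ⟨f ^ (-k).toNat, hmem _⟩
    ⟨f ^ k.toNat, hmem _⟩ (hnot _) (-n) hdeg'
  obtain ⟨e, he⟩ := (hL.bijective U hU V hVU).2 t
  obtain ⟨e', he'⟩ := (hL'.bijective U hU V hVU).2 t'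
  have hge : IsGen L V e := by
    apply GrTwistGen.isGen_of_pushforward (RelProj.emb p chart U hU) _ (lam U hU) V hle
      (fun W hW => hL.bijective U hU W (hW.trans hVU))
    rw [he]
    exact GrTwistGen.isGen_frac _ _ _ (hnot _) (hnot _) _ _
  have hge' : IsGen L' V e' := by
    apply GrTwistGen.isGen_of_pushforward (RelProj.emb p chart U hU) _ (lam' U hU) V hle
      (fun W hW => hL'.bijective U hU W (hW.trans hVU))
    rw [he']
    exact GrTwistGen.isGen_frac _ _ _ (hnot _) (hnot _) _ _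
  refine ⟨InvTensor.tm L L' V e e', InvTensor.isGen_tm hge hge', ?_⟩
  have h0 := RelTwistZero.isRelTwist_structureModule hP (n + -n) (add_neg_cancel n)
  unfold mulHom
  rw [TensorDesc.Pairing.hom_tm]
  apply GrTwistGen.isGen_of_pushforward (RelProj.emb p chart U hU) _
    (RelTwistZero.unitTo (RelProj.emb p chart U hU) (n + -n) (add_neg_cancel n)) V hle
    (fun W hW => h0.bijective U hU W (hW.trans hVU))
  have key : (show Γ(GrTwist.twist (𝒮.deg U hU) (n + -n), RelProj.emb p chart U hU ⁻¹ᵁ V) from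
      (RelTwistZero.unitTo (RelProj.emb p chart U hU) (n + -n) (add_neg_cancel n)).app V
        (pair hP hL hL' h0 V e e')) = tmul t t' := by
    rw [← he, ← he']
    exact pair_spec hP hL hL' h0 V e e' U hU
  have h3 : IsGen (GrTwist.twist (𝒮.deg U hU) (n + -n)) (RelProj.emb p chart U hU ⁻¹ᵁ V)
      (tmul t t') := isGen_tmul_frac _ _ _ _ _ (hnot _) (hnot _) (hnot _) (hnot _) _ _
  rw [← key] at h3
  exact h3

include hP hL hL' in
/-- the multiplication is an isomorphism over an open covered by good opens of degrees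
dividing `n` -/
theorem nonempty_iso_restrict (U : P.Opens)
    (hcov : ∀ x ∈ U, ∃ (V : P.Opens) (d : ℕ), x ∈ V ∧ (d : ℤ) ∣ n ∧ Good p chart V d) :
    Nonempty (CohB1.tensorMod (L.restrict U.ι) (L'.restrict U.ι) ≅
      Coh.structureModule (U : Scheme.{u})) := by
  let θ := mulHom hP hL hL'
  haveI : IsIso ((Scheme.Modules.restrictFunctor U.ι).map θ) := by
    apply PbTensor.isIso_of_isGen_cover
    intro x'
    obtain ⟨V, d, hxV, hdn, hgood⟩ := hcov (U.ι x') x'.2
    obtain ⟨a, ha, ha'⟩ := exists_gen hP hL hL' hgood hdn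
    refine ⟨U.ι ⁻¹ᵁ V, (show Γ((CohB1.tensorMod L L').restrict U.ι, U.ι ⁻¹ᵁ V) from
      res (CohB1.tensorMod L L') (U.ι.image_preimage_le V) a), hxV, ?_, ?_⟩
    · rw [InvRestrict.isGen_restrict_iff]
      exact ha.mono _
    · rw [InvRestrict.isGen_restrict_iff]
      change IsGen (Coh.structureModule P) _
        (θ.app (U.ι ''ᵁ (U.ι ⁻¹ᵁ V)) (res (CohB1.tensorMod L L') (U.ι.image_preimage_le V) a))
      rw [QCExact.app_res']
      exact ha'.mono _
  exact ⟨InvRestrict.restrictTensorIso U.ι L L' ≪≫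
    asIso ((Scheme.Modules.restrictFunctor U.ι).map θ) ≪≫ Scheme.Modules.restrictUnitIso U.ι⟩

end Groth.Agent.Lib.Helper3.RelTwistInv
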