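import Groth.Agent.Lib.Helper3.RelGlueHom
import Groth.Agent.Lib.Helper3.GrModQC
import Groth.Agent.Lib.Helper3.ProjQMapOn

/-!
# The map of relative twisting sheaves induced by a homomorphism of graded algebras
-/

set_option autoImplicit false
set_option linter.unusedSectionVars false
universe u
open CategoryTheory CategoryTheory.Limits AlgebraicGeometry TopologicalSpace Opposite
open Scheme.Modules
open scoped HomogeneousIdeal

namespace Groth.Agent.Lib.Helper3.RelTwistMap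

open QCSec InvGen GrModQC

section ring

variable {A B C D σ τ ρ π : Type u} [CommRing A] [CommRing B] [CommRing C] [CommRing D]
  [SetLike σ A] [AddSubgroupClass σ A] {𝒜 : ℕ → σ} [GradedRing 𝒜]
  [SetLike τ B] [AddSubgroupClass τ B] {ℬ : ℕ → τ} [GradedRing ℬ]
  [SetLike ρ C] [AddSubgroupClass ρ C] {𝒞 : ℕ → ρ} [GradedRing 𝒞]
  [SetLike π D] [AddSubgroupClass π D] {𝒟 : ℕ → π} [GradedRing 𝒟]

/-- the maps of localizations along the two paths of a commutative square of graded rings agree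
on the values of a section of `O(n)` -/
theorem locMap_locMap_val (ψ₁ : 𝒜 →+*ᵍ ℬ) (h₁ : ℬ₊ ≤ (𝒜₊).map ψ₁) (ψ₂ : ℬ →+*ᵍ 𝒟)
    (h₂ : 𝒟₊ ≤ (ℬ₊).map ψ₂) (ψ₃ : 𝒜 →+*ᵍ 𝒞) (h₃ : 𝒞₊ ≤ (𝒜₊).map ψ₃) (ψ₄ : 𝒞 →+*ᵍ 𝒟)
    (h₄ : 𝒟₊ ≤ (𝒞₊).map ψ₄) (hcomm : ∀ a, ψ₂ (ψ₁ a) = ψ₄ (ψ₃ a))
    (y : ProjectiveSpectrum 𝒟) {n : ℤ} {W : (Proj 𝒜).Opens} (t : Γ(GrTwist.twist 𝒜 n, W))
    (m1 : ProjectiveSpectrum.comap ψ₁ h₁ (ProjectiveSpectrum.comap ψ₂ h₂ y) ∈ W)
    (m2 : ProjectiveSpectrum.comap ψ₃ h₃ (ProjectiveSpectrum.comap ψ₄ h₄ y) ∈ W) :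
    GrTwist.locMap ψ₂ h₂ y (GrTwist.locMap ψ₁ h₁ _ (GrTwist.val t ⟨_, m1⟩)) =
      GrTwist.locMap ψ₄ h₄ y (GrTwist.locMap ψ₃ h₃ _ (GrTwist.val t ⟨_, m2⟩)) := by
  have hx : ProjectiveSpectrum.comap ψ₁ h₁ (ProjectiveSpectrum.comap ψ₂ h₂ y) =
      ProjectiveSpectrum.comap ψ₃ h₃ (ProjectiveSpectrum.comap ψ₄ h₄ y) := by
    apply ProjectiveSpectrum.ext
    apply HomogeneousIdeal.toIdeal_injective
    ext a
    change ψ₂ (ψ₁ a) ∈ y.asHomogeneousIdeal ↔ ψ₄ (ψ₃ a) ∈ y.asHomogeneousIdeal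
    rw [hcomm]
  obtain ⟨V, hxV, hVW, i, j, a, s, hs, -, hv⟩ := isLocFrac_val t ⟨_, m1⟩
  have hxV' : ProjectiveSpectrum.comap ψ₃ h₃ (ProjectiveSpectrum.comap ψ₄ h₄ y) ∈ V := hx ▸ hxV
  have e1 := hv ⟨_, hxV⟩
  have e2 := hv ⟨_, hxV'⟩
  change GrTwist.val t ⟨_, m1⟩ = _ at e1
  change GrTwist.val t ⟨_, m2⟩ = _ at e2
  rw [e1, e2, GrTwist.locMap_mk, GrTwist.locMap_mk, GrTwist.locMap_mk, GrTwist.locMap_mk]
  congr 1
  · exact hcomm _
  · exact Subtype.ext (hcomm _)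

end ring

section rel

variable {Y PA PB : Scheme.{u}} {𝒜 ℬ : RelProj.QCGrAlg Y} (φ : 𝒜.toQCAlg ⟶ ℬ.toQCAlg)
  (hφ : RelProj.IsGradedHom φ)
  (hirr : ∀ (U : Y.Opens) (hU : IsAffineOpen U),
    (ℬ.deg U hU)₊ ≤ ((𝒜.deg U hU)₊).map (RelProj.gradedHomAt φ hφ U hU))
  {pA : PA ⟶ Y} {pB : PB ⟶ Y}
  {chartA : ∀ (U : Y.Opens) (hU : IsAffineOpen U),
    ((pA ⁻¹ᵁ U : PA.Opens) : Scheme.{u}) ≅ Proj (𝒜.deg U hU)}
  {chartB : ∀ (U : Y.Opens) (hU : IsAffineOpen U),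
    ((pB ⁻¹ᵁ U : PB.Opens) : Scheme.{u}) ≅ Proj (ℬ.deg U hU)}
  (h : PB ⟶ PA) (hh : RelProj.IsRelProjMap φ hφ hirr chartA chartB h) (n : ℤ)

include hh in
theorem emb_comp_h (U : Y.Opens) (hU : IsAffineOpen U) :
    RelProj.emb pB chartB U hU ≫ h =
      Proj.map (RelProj.gradedHomAt φ hφ U hU) (hirr U hU) ≫ RelProj.emb pA chartA U hU := by
  unfold RelProj.emb
  rw [Category.assoc, hh U hU, Iso.inv_hom_id_assoc]

include hh in
theorem emb_comp_h_apply (U : Y.Opens) (hU : IsAffineOpen U) (y : Proj (ℬ.deg U hU)) :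
    h (RelProj.emb pB chartB U hU y) =
      RelProj.emb pA chartA U hU
        (ProjectiveSpectrum.comap (RelProj.gradedHomAt φ hφ U hU) (hirr U hU) y) := by
  have := congrArg (fun g : Proj (ℬ.deg U hU) ⟶ PA => g y) (emb_comp_h φ hφ hirr h hh U hU)
  exact this

/-- the chartwise comparison morphism -/
noncomputable def ν (U : Y.Opens) (hU : IsAffineOpen U) :
    (Scheme.Modules.pushforward (RelProj.emb pA chartA U hU)).obj
        (GrTwist.twist (𝒜.deg U hU) n) ⟶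
      (Scheme.Modules.pushforward h).obj
        ((Scheme.Modules.pushforward (RelProj.emb pB chartB U hU)).obj
          (GrTwist.twist (ℬ.deg U hU) n)) :=
  (Scheme.Modules.pushforward (RelProj.emb pA chartA U hU)).map
      (GrTwist.comap (RelProj.gradedHomAt φ hφ U hU) (hirr U hU) n) ≫
    (Scheme.Modules.pushforwardComp (Proj.map (RelProj.gradedHomAt φ hφ U hU) (hirr U hU))
      (RelProj.emb pA chartA U hU)).hom.app _ ≫
    (Scheme.Modules.pushforwardCongr (emb_comp_h φ hφ hirr h hh U hU).symm).hom.app _ ≫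
    (Scheme.Modules.pushforwardComp (RelProj.emb pB chartB U hU) h).inv.app _

theorem val_ν (U : Y.Opens) (hU : IsAffineOpen U) (V : PA.Opens)
    (t : Γ(GrTwist.twist (𝒜.deg U hU) n, RelProj.emb pA chartA U hU ⁻¹ᵁ V))
    (y : ProjectiveSpectrum (ℬ.deg U hU))
    (hy : (RelProj.emb pB chartB U hU).base y ∈ h ⁻¹ᵁ V)
    (hy' : (RelProj.emb pA chartA U hU).base
      (ProjectiveSpectrum.comap (RelProj.gradedHomAt φ hφ U hU) (hirr U hU) y) ∈ V) :
    GrTwist.val (V := RelProj.emb pB chartB U hU ⁻¹ᵁ (h ⁻¹ᵁ V))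
        ((ν (chartA := chartA) (chartB := chartB) φ hφ hirr h hh n U hU).app V t) ⟨y, hy⟩ =
      GrTwist.locMap (RelProj.gradedHomAt φ hφ U hU) (hirr U hU) y
        (GrTwist.val (V := RelProj.emb pA chartA U hU ⁻¹ᵁ V) t ⟨_, hy'⟩) := rfl

/-- the value of a section of a direct image of `O(n)` -/
theorem val_app_res {A σ : Type u} [CommRing A] [SetLike σ A] [AddSubgroupClass σ A]
    {𝒜 : ℕ → σ} [GradedRing 𝒜] {P : Scheme.{u}} (e : Proj 𝒜 ⟶ P) {n : ℤ} {F : P.Modules}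
    (ψ : F ⟶ (Scheme.Modules.pushforward e).obj (GrTwist.twist 𝒜 n)) {W V : P.Opens} (hVW : V ≤ W)
    (s : Γ(F, W)) (y : (e ⁻¹ᵁ W : (Proj 𝒜).Opens)) (hy : y.1 ∈ e ⁻¹ᵁ V) :
    GrTwist.val (V := e ⁻¹ᵁ W) (ψ.app W s) y =
      GrTwist.val (V := e ⁻¹ᵁ V) (ψ.app V (res F hVW s)) ⟨y.1, hy⟩ := by
  rw [QCExact.app_res']
  rfl

variable {LA : PA.Modules}
  {lamA : ∀ (U : Y.Opens) (hU : IsAffineOpen U),
    LA ⟶ (Scheme.Modules.pushforward (RelProj.emb pA chartA U hU)).obj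
      (GrTwist.twist (𝒜.deg U hU) n)}
  {LB : PB.Modules}
  {lamB : ∀ (U : Y.Opens) (hU : IsAffineOpen U),
    LB ⟶ (Scheme.Modules.pushforward (RelProj.emb pB chartB U hU)).obj
      (GrTwist.twist (ℬ.deg U hU) n)}
  (hA : RelProj.IsRelProj 𝒜 pA chartA) (hB : RelProj.IsRelProj ℬ pB chartB)
  (hLA : RelProj.IsRelTwist 𝒜 pA chartA n LA lamA)
  (hLB : RelProj.IsRelTwist ℬ pB chartB n LB lamB)

include hA hB hh in
theorem preimage_le (U : Y.Opens) {V : PA.Opens} (hV : V ≤ pA ⁻¹ᵁ U) : h ⁻¹ᵁ V ≤ pB ⁻¹ᵁ U := by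
  have hc := RelProjMap.comp_eq hA hB h hh
  intro x hx
  have h1 : pA (h x) ∈ U := hV hx
  have h2 : pA (h x) = pB x := congrArg (fun g : PB ⟶ Y => g x) hc
  change pB x ∈ U
  rw [← h2]
  exact h1

include hA hB hh hLA hLB in
/-- compatibility of the chartwise comparison morphisms along a basic open -/
theorem basic (U : Y.Opens) (hU : IsAffineOpen U) (r : Γ(Y, U)) (V : PA.Opens)
    (hV : V ≤ pA ⁻¹ᵁ Y.basicOpen r) (s : Γ(LA, V)) (t : Γ(LB, h ⁻¹ᵁ V))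
    (H : (lamB U hU).app (h ⁻¹ᵁ V) t =
      (ν (chartA := chartA) (chartB := chartB) φ hφ hirr h hh n U hU).app V
        ((lamA U hU).app V s)) :
    (lamB (Y.basicOpen r) (hU.basicOpen r)).app (h ⁻¹ᵁ V) t =
      (ν (chartA := chartA) (chartB := chartB) φ hφ hirr h hh n (Y.basicOpen r)
        (hU.basicOpen r)).app V ((lamA (Y.basicOpen r) (hU.basicOpen r)).app V s) := by
  refine val_ext (U := RelProj.emb pB chartB (Y.basicOpen r) (hU.basicOpen r) ⁻¹ᵁ (h ⁻¹ᵁ V))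
    (fun y => ?_)
  have hy : (RelProj.emb pB chartB (Y.basicOpen r) (hU.basicOpen r)).base y.1 ∈ h ⁻¹ᵁ V := y.2
  have hyB' := RelTildeMap.emb_comap_mem hB U hU r (h ⁻¹ᵁ V) y.1 hy
  have m1 : (RelProj.emb pA chartA U hU).base
      (ProjectiveSpectrum.comap (RelProj.gradedHomAt φ hφ U hU) (hirr U hU)
        (ProjectiveSpectrum.comap (ℬ.res hU (hU.basicOpen r) (Y.basicOpen_le r))
          (ℬ.irrelevant_le_map U hU r) y.1)) ∈ V := by
    have := emb_comp_h_apply φ hφ hirr h hh U hU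
      (ProjectiveSpectrum.comap (ℬ.res hU (hU.basicOpen r) (Y.basicOpen_le r))
          (ℬ.irrelevant_le_map U hU r) y.1)
    rw [← this]
    exact hyB'
  have m3 : (RelProj.emb pA chartA (Y.basicOpen r) (hU.basicOpen r)).base
      (ProjectiveSpectrum.comap (RelProj.gradedHomAt φ hφ (Y.basicOpen r) (hU.basicOpen r))
        (hirr _ (hU.basicOpen r)) y.1) ∈ V := by
    have := emb_comp_h_apply φ hφ hirr h hh (Y.basicOpen r) (hU.basicOpen r) y.1
    rw [← this]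
    exact hy
  have m2 := RelTildeMap.emb_comap_mem hA U hU r V _ m3
  have c1 := hLB.compat U hU r (h ⁻¹ᵁ V) t y.1 hy hyB'
  have c2 := hLA.compat U hU r V s _ m3 m2
  have e1 : GrTwist.val (V := RelProj.emb pB chartB U hU ⁻¹ᵁ (h ⁻¹ᵁ V))
      ((lamB U hU).app (h ⁻¹ᵁ V) t) ⟨_, hyB'⟩ =
      GrTwist.locMap (RelProj.gradedHomAt φ hφ U hU) (hirr U hU) _
        (GrTwist.val (V := RelProj.emb pA chartA U hU ⁻¹ᵁ V) ((lamA U hU).app V s) ⟨_, m1⟩) :=
    congrArg (fun q => GrTwist.val (V := RelProj.emb pB chartB U hU ⁻¹ᵁ (h ⁻¹ᵁ V)) q ⟨_, hyB'⟩) H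
  refine c1.trans ?_
  rw [e1]
  refine (locMap_locMap_val (RelProj.gradedHomAt φ hφ U hU) (hirr U hU)
    (ℬ.res hU (hU.basicOpen r) (Y.basicOpen_le r)) (ℬ.irrelevant_le_map U hU r)
    (𝒜.res hU (hU.basicOpen r) (Y.basicOpen_le r)) (𝒜.irrelevant_le_map U hU r)
    (RelProj.gradedHomAt φ hφ (Y.basicOpen r) (hU.basicOpen r)) (hirr _ (hU.basicOpen r))
    (fun a => (ProjQMapOn.naturality_apply φ (Y.basicOpen_le r) a).symm) y.1
    ((lamA U hU).app V s) m1 m2).trans ?_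
  exact congrArg (GrTwist.locMap (RelProj.gradedHomAt φ hφ (Y.basicOpen r) (hU.basicOpen r))
    (hirr _ (hU.basicOpen r)) y.1) c2.symm

/-- the valuewise characterization of the induced map of twisting sheaves -/
def IsMap (θ : LA ⟶ (Scheme.Modules.pushforward h).obj LB) : Prop :=
  ∀ (U : Y.Opens) (hU : IsAffineOpen U) (W : PA.Opens) (s : Γ(LA, W))
    (y : ProjectiveSpectrum (ℬ.deg U hU))
    (hy : (RelProj.emb pB chartB U hU).base y ∈ h ⁻¹ᵁ W)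
    (hy' : (RelProj.emb pA chartA U hU).base
      (ProjectiveSpectrum.comap (RelProj.gradedHomAt φ hφ U hU) (hirr U hU) y) ∈ W),
    GrTwist.val (V := RelProj.emb pB chartB U hU ⁻¹ᵁ (h ⁻¹ᵁ W))
        ((lamB U hU).app (h ⁻¹ᵁ W) (θ.app W s)) ⟨y, hy⟩ =
      GrTwist.locMap (RelProj.gradedHomAt φ hφ U hU) (hirr U hU) y
        (GrTwist.val (V := RelProj.emb pA chartA U hU ⁻¹ᵁ W) ((lamA U hU).app W s) ⟨_, hy'⟩)

include hA hB hh in
theorem isMap_iff (θ : LA ⟶ (Scheme.Modules.pushforward h).obj LB) :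
    IsMap (lamA := lamA) (lamB := lamB) φ hφ hirr h n θ ↔
      ∀ (U : Y.Opens) (hU : IsAffineOpen U) (V : PA.Opens), V ≤ pA ⁻¹ᵁ U → ∀ s : Γ(LA, V),
        ((Scheme.Modules.pushforward h).map (lamB U hU)).app V (θ.app V s) =
          (lamA U hU ≫ ν (chartA := chartA) (chartB := chartB) φ hφ hirr h hh n U hU).app V s := by
  constructor
  · intro H U hU V hV s
    refine val_ext (U := RelProj.emb pB chartB U hU ⁻¹ᵁ (h ⁻¹ᵁ V)) (fun y => ?_)
    have hy : (RelProj.emb pB chartB U hU).base y.1 ∈ h ⁻¹ᵁ V := y.2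
    have hy' : (RelProj.emb pA chartA U hU).base
        (ProjectiveSpectrum.comap (RelProj.gradedHomAt φ hφ U hU) (hirr U hU) y.1) ∈ V := by
      rw [← emb_comp_h_apply φ hφ hirr h hh U hU y.1]
      exact hy
    exact H U hU V s y.1 hy hy'
  · intro H U hU W s y hy hy'
    have hyU : pB ((RelProj.emb pB chartB U hU).base y) ∈ U := by
      have : RelProj.emb pB chartB U hU y ∈ (RelProj.emb pB chartB U hU).opensRange := ⟨y, rfl⟩
      rw [ProjQMap.opensRange_emb] at this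
      exact this
    have hc := RelProjMap.comp_eq hA hB h hh
    have hyU' : pA (h ((RelProj.emb pB chartB U hU).base y)) ∈ U := by
      have h2 : pA (h ((RelProj.emb pB chartB U hU).base y)) =
          pB ((RelProj.emb pB chartB U hU).base y) :=
        congrArg (fun g : PB ⟶ Y => g ((RelProj.emb pB chartB U hU).base y)) hc
      rw [h2]
      exact hyU
    have hVW : W ⊓ pA ⁻¹ᵁ U ≤ W := inf_le_left
    have hy1 : (RelProj.emb pB chartB U hU).base y ∈ h ⁻¹ᵁ (W ⊓ pA ⁻¹ᵁ U) := ⟨hy, hyU'⟩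
    have hy1' : (RelProj.emb pA chartA U hU).base
        (ProjectiveSpectrum.comap (RelProj.gradedHomAt φ hφ U hU) (hirr U hU) y) ∈
          W ⊓ pA ⁻¹ᵁ U := by
      rw [← emb_comp_h_apply φ hφ hirr h hh U hU y]
      exact hy1
    have e1 := val_app_res (RelProj.emb pB chartB U hU) (lamB U hU)
      (h.preimage_mono hVW) (θ.app W s) ⟨y, hy⟩ hy1
    have e2 : res LB (h.preimage_mono hVW) (θ.app W s) = θ.app _ (res LA hVW s) :=
      (QCExact.app_res' θ hVW s).symm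
    have e3 := val_app_res (RelProj.emb pA chartA U hU) (lamA U hU) hVW s ⟨_, hy'⟩ hy1'
    rw [e1, e2, e3]
    exact congrArg (fun q => GrTwist.val
      (V := RelProj.emb pB chartB U hU ⁻¹ᵁ (h ⁻¹ᵁ (W ⊓ pA ⁻¹ᵁ U))) q ⟨y, hy1⟩)
      (H U hU (W ⊓ pA ⁻¹ᵁ U) inf_le_right (res LA hVW s))

include hA hB hh hLA hLB in
/-- existence and uniqueness of the map of relative twisting sheaves induced by a homomorphism of
graded algebras -/
theorem existsUnique_map :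
    ∃! θ : LA ⟶ (Scheme.Modules.pushforward h).obj LB,
      IsMap (lamA := lamA) (lamB := lamB) φ hφ hirr h n θ := by
  have hbij : ∀ (U : Y.Opens) (hU : IsAffineOpen U) (V : PA.Opens), V ≤ pA ⁻¹ᵁ U →
      Function.Bijective (((Scheme.Modules.pushforward h).map (lamB U hU)).app V) :=
    fun U hU V hV => hLB.bijective U hU (h ⁻¹ᵁ V) (preimage_le φ hφ hirr h hh hA hB U hV)
  obtain ⟨θ, hθ⟩ := RelGlueHom.exists_hom_small pA
    (fun U hU => (Scheme.Modules.pushforward h).map (lamB U hU))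
    (fun U hU => lamA U hU ≫ ν (chartA := chartA) (chartB := chartB) φ hφ hirr h hh n U hU)
    hbij
    (fun U hU r V hV s t H => basic φ hφ hirr h hh n hA hB hLA hLB U hU r V hV s t H)
  refine ⟨θ, (isMap_iff φ hφ hirr h hh n hA hB θ).mpr hθ, fun θ' hθ' => ?_⟩
  exact RelGlueHom.hom_unique_small pA _ _ hbij θ' θ
    ((isMap_iff φ hφ hirr h hh n hA hB θ').mp hθ') hθ

end rel

end Groth.Agent.Lib.Helper3.RelTwistMap
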