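import Groth.Agent.Lib.Helper3.RelTwistGG
import Groth.Agent.Lib.Helper3.QCSubSec
import Groth.Agent.Lib.Helper3.PbEpi

/-!
# `F` is a quotient of `(p^* G)(-n)`, `G` quasi-coherent of finite type, on a relative Proj
-/

set_option autoImplicit false
set_option linter.unusedSectionVars false
universe u
open CategoryTheory CategoryTheory.Limits AlgebraicGeometry TopologicalSpace Opposite
open Scheme.Modules
open scoped HomogeneousIdeal

namespace Groth.Agent.Lib.Helper3.RelTwistQuot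

open QCSec InvGen GrModQC InvMonoidal InvRestrict GlobGen GlobGenFin RelTwistLocGen RelTwistGG
  CounitGG PbEpi

variable {Y P : Scheme.{u}} {𝒮 : RelProj.QCGrAlg Y} {p : P ⟶ Y}
  {chart : ∀ (U : Y.Opens) (hU : IsAffineOpen U),
    ((p ⁻¹ᵁ U : P.Opens) : Scheme.{u}) ≅ Proj (𝒮.deg U hU)}
  (hP : RelProj.IsRelProj 𝒮 p chart)

include hP in
theorem exists_quotient [CompactSpace Y] [QuasiSeparatedSpace Y] (hgen : 𝒮.IsGenDegOne)
    (hft : 𝒮.IsFTDeg 1) (F : P.Modules) [F.IsQuasicoherent] [F.IsFiniteType] :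
    ∃ n₀ : ℕ, ∀ k : ℕ, n₀ ≤ k → ∀ (L : P.Modules)
      (lam : ∀ (U : Y.Opens) (hU : IsAffineOpen U),
        L ⟶ (Scheme.Modules.pushforward (RelProj.emb p chart U hU)).obj
          (GrTwist.twist (𝒮.deg U hU) (-(k : ℤ)))),
      RelProj.IsRelTwist 𝒮 p chart (-(k : ℤ)) L lam →
        ∃ (G : Y.Modules) (π : CohB1.tensorMod ((Scheme.Modules.pullback p).obj G) L ⟶ F),
          G.IsQuasicoherent ∧ G.IsFiniteType ∧ Epi π := by
  classical
  have hcov : ∀ y : Y, ∃ V : Y.Opens, IsAffineOpen V ∧ y ∈ V :=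
    fun y => ProjQMap.exists_affine_mem y
  choose V hV hyV using hcov
  obtain ⟨t, ht⟩ := isCompact_univ.elim_finite_subcover (fun y : Y => ((V y : Y.Opens) : Set Y))
    (fun y => (V y).isOpen) (fun y _ => Set.mem_iUnion.mpr ⟨y, hyV y⟩)
  have hk := fun y : Y => exists_isFinSpanned_restrict hP hgen hft F (V y) (hV y)
  choose k₀ hk₀ using hk
  refine ⟨t.sup k₀, fun k hk L lam hL => ?_⟩
  obtain ⟨Lk, lamk, hLk⟩ := RelTwistExist.exists_isRelTwist hP (k : ℤ)
  have hLkinv : PicF.IsInvertible Lk :=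
    GrTwistGen.isInvertible_of_isRelTwist 𝒮 p chart hgen _ Lk lamk hLk.bijective
  have hLinv : PicF.IsInvertible L :=
    GrTwistGen.isInvertible_of_isRelTwist 𝒮 p chart hgen _ L lam hL.bijective
  haveI hMq : (CohB1.tensorMod F Lk).IsQuasicoherent := InvCoh.isQuasicoherent_tensorMod F Lk hLkinv
  haveI : IsProper p := ProjProper.isProper_of_isGenDegOne hP hgen hft
  haveI : ((pushforward p).obj (CohB1.tensorMod F Lk)).IsQuasicoherent :=
    QCSec.isQuasicoherent_pushforward p _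
  have hfs : ∀ i : {y // y ∈ t},
      IsFinSpanned ((CohB1.tensorMod F Lk).restrict (p ⁻¹ᵁ V i.1).ι) :=
    fun i => hk₀ i.1 k ((Finset.le_sup (f := k₀) i.2).trans hk) Lk lamk hLk
  choose I hI σ' hσ' using hfs
  haveI := hI
  let O : (Σ i : {y // y ∈ t}, I i) → Y.Opens := fun j => V j.1.1
  let τ : ∀ j : (Σ i : {y // y ∈ t}, I i),
      Γ((pushforward p).obj (CohB1.tensorMod F Lk), O j) := fun j =>
    (show Γ(CohB1.tensorMod F Lk, p ⁻¹ᵁ V j.1.1) from
      res (CohB1.tensorMod F Lk) (le_of_eq (p ⁻¹ᵁ V j.1.1).ι_image_top.symm)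
        (show Γ(CohB1.tensorMod F Lk, (p ⁻¹ᵁ V j.1.1).ι ''ᵁ ⊤) from σ' j.1 j.2))
  obtain ⟨G, m, hm, hGq, hGf, hmem⟩ := QCSubSec.exists_finiteType_sub_sections
    ((pushforward p).obj (CohB1.tensorMod F Lk)) O (fun j => (hV j.1.1).isCompact) τ
  haveI hπ₀ : Epi ((Scheme.Modules.pullback p).map m ≫
      (pullbackPushforwardAdjunction p).counit.app (CohB1.tensorMod F Lk)) := by
    apply epi_adjoint_of_isLocSpannedOn
    intro x
    obtain ⟨y, hy⟩ := Set.mem_iUnion.mp (ht (Set.mem_univ (p x)))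
    obtain ⟨hyt, hxy⟩ := Set.mem_iUnion.mp hy
    haveI : ((CohB1.tensorMod F Lk).restrict (p ⁻¹ᵁ V y).ι).IsQuasicoherent :=
      Scheme.Modules.isQuasicoherent_restrictFunctor (p ⁻¹ᵁ V y).ι _
    refine ⟨V y, hxy, I ⟨y, hyt⟩, _, isLocSpannedOn_of_restrict (CohB1.tensorMod F Lk)
      (p ⁻¹ᵁ V y) (σ' ⟨y, hyt⟩) (isLocSpannedBy_of_isSpannedBy _ (hσ' ⟨y, hyt⟩)), ?_⟩
    intro j
    obtain ⟨g, hg⟩ := hmem ⟨⟨y, hyt⟩, j⟩
    exact ⟨g, hg⟩
  have h0 := RelTwistZero.isRelTwist_structureModule hP ((k : ℤ) + -(k : ℤ)) (add_neg_cancel _)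
  obtain ⟨e0⟩ := RelTwistTensor.nonempty_iso hP hLk hL h0 hgen
  haveI := epi_tensorMap_of_epi ((Scheme.Modules.pullback p).map m ≫
      (pullbackPushforwardAdjunction p).counit.app (CohB1.tensorMod F Lk)) hLinv
  refine ⟨G, tensorMap ((Scheme.Modules.pullback p).map m ≫
      (pullbackPushforwardAdjunction p).counit.app (CohB1.tensorMod F Lk)) (𝟙 L) ≫
      (assoc F Lk L).hom ≫ (tensorMapIso (Iso.refl F) e0).hom ≫
      (braid F (Coh.structureModule P)).hom ≫ (unitorL F).hom, hGq, hGf, ?_⟩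
  exact epi_comp _ _

end Groth.Agent.Lib.Helper3.RelTwistQuot
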