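import Groth.Agent.Lib.Helper3.RelGlueSec
import Groth.Agent.Lib.Helper3.RelTwistMap
import Groth.Agent.Lib.Helper3.GrTwistGen
import Groth.Agent.Lib.Helper3.RelProjBasic

/-!
# Sections of the twisting sheaves of a relative Proj given chartwise
-/

set_option autoImplicit false
set_option linter.unusedSectionVars false
universe u
open CategoryTheory CategoryTheory.Limits AlgebraicGeometry TopologicalSpace Opposite
open Scheme.Modules
open scoped HomogeneousIdeal

namespace Groth.Agent.Lib.Helper3.RelTwistSec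

open QCSec InvGen GrModQC

variable {Y P : Scheme.{u}} {𝒮 : RelProj.QCGrAlg Y} {p : P ⟶ Y}
  {chart : ∀ (U : Y.Opens) (hU : IsAffineOpen U),
    ((p ⁻¹ᵁ U : P.Opens) : Scheme.{u}) ≅ Proj (𝒮.deg U hU)}
  (hP : RelProj.IsRelProj 𝒮 p chart) {n : ℤ} {L : P.Modules}
  {lam : ∀ (U : Y.Opens) (hU : IsAffineOpen U),
    L ⟶ (Scheme.Modules.pushforward (RelProj.emb p chart U hU)).obj
      (GrTwist.twist (𝒮.deg U hU) n)}
  (hL : RelProj.IsRelTwist 𝒮 p chart n L lam) (W : P.Opens)
  (t : ∀ (U : Y.Opens) (hU : IsAffineOpen U),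
    Γ(GrTwist.twist (𝒮.deg U hU) n, RelProj.emb p chart U hU ⁻¹ᵁ W))

include hP hL in
/-- a family of sections of the `O(n)` of the charts, compatible along basic opens, is a section
of `O_P(n)` -/
theorem exists_sec
    (ht : ∀ (U : Y.Opens) (hU : IsAffineOpen U) (r : Γ(Y, U))
      (y : ProjectiveSpectrum (𝒮.deg (Y.basicOpen r) (hU.basicOpen r)))
      (hy : (RelProj.emb p chart (Y.basicOpen r) (hU.basicOpen r)).base y ∈ W)
      (hy' : (RelProj.emb p chart U hU).base (ProjectiveSpectrum.comap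
        (𝒮.res hU (hU.basicOpen r) (Y.basicOpen_le r)) (𝒮.irrelevant_le_map U hU r) y) ∈ W),
      GrTwist.val (t (Y.basicOpen r) (hU.basicOpen r)) ⟨y, hy⟩ =
        GrTwist.locMap (𝒮.res hU (hU.basicOpen r) (Y.basicOpen_le r))
          (𝒮.irrelevant_le_map U hU r) y (GrTwist.val (t U hU) ⟨_, hy'⟩)) :
    ∃ e : Γ(L, W), ∀ (U : Y.Opens) (hU : IsAffineOpen U), (lam U hU).app W e = t U hU := by
  obtain ⟨e, he⟩ := RelGlueSec.exists_sec p lam hL.bijective W
    (T := fun U hU => (Scheme.Modules.pushforward (RelProj.emb p chart U hU)).obj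
      (GrTwist.twist (𝒮.deg U hU) n)) t
    (by
      intro U hU r V hVW hV e' H
      refine val_ext (U := RelProj.emb p chart (Y.basicOpen r) (hU.basicOpen r) ⁻¹ᵁ V)
        (fun y => ?_)
      have hy : (RelProj.emb p chart (Y.basicOpen r) (hU.basicOpen r)).base y.1 ∈ V := y.2
      have hy' := RelTildeMap.emb_comap_mem hP U hU r V y.1 hy
      have c := hL.compat U hU r V e' y.1 hy hy'
      refine c.trans ?_
      rw [H]
      exact (ht U hU r y.1 (hVW hy) (hVW hy')).symm)
  refine ⟨e, fun U hU => ?_⟩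
  refine val_ext (U := RelProj.emb p chart U hU ⁻¹ᵁ W) (fun y => ?_)
  have hyU : (RelProj.emb p chart U hU).base y.1 ∈ p ⁻¹ᵁ U := by
    have : RelProj.emb p chart U hU y.1 ∈ (RelProj.emb p chart U hU).opensRange := ⟨y.1, rfl⟩
    rw [ProjQMap.opensRange_emb] at this
    exact this
  have hy1 : y.1 ∈ RelProj.emb p chart U hU ⁻¹ᵁ (W ⊓ p ⁻¹ᵁ U) := ⟨y.2, hyU⟩
  refine (RelTwistMap.val_app_res (RelProj.emb p chart U hU) (lam U hU)
    (inf_le_left : W ⊓ p ⁻¹ᵁ U ≤ W) e y hy1).trans ?_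
  rw [he U hU _ inf_le_left inf_le_right]
  rfl

include hL in
/-- a section of `O_P(n)` is determined by its chartwise descriptions -/
theorem sec_ext (e e' : Γ(L, W))
    (h : ∀ (U : Y.Opens) (hU : IsAffineOpen U), (lam U hU).app W e = (lam U hU).app W e') :
    e = e' := by
  refine RelGlueSec.sec_unique p lam hL.bijective W e e' (fun U hU V hVW _ => ?_)
  rw [QCExact.app_res', QCExact.app_res', h U hU]

/-- a section of `O_P(n)` which chartwise generates `O(n)` is a generator -/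
theorem isGen_of_charts (e : Γ(L, W))
    (h : ∀ (U : Y.Opens) (hU : IsAffineOpen U),
      IsGen (GrTwist.twist (𝒮.deg U hU) n) (RelProj.emb p chart U hU ⁻¹ᵁ W)
        ((lam U hU).app W e))
    (hb : ∀ (U : Y.Opens) (hU : IsAffineOpen U) (V : P.Opens), V ≤ p ⁻¹ᵁ U →
      Function.Bijective ((lam U hU).app V)) : IsGen L W e := by
  apply isGen_of_local
  intro x hx
  obtain ⟨U, hU, hxU⟩ := ProjQMap.exists_affine_mem (p x)
  refine ⟨W ⊓ p ⁻¹ᵁ U, inf_le_left, ⟨hx, hxU⟩, ?_⟩
  have hle : W ⊓ p ⁻¹ᵁ U ≤ (RelProj.emb p chart U hU).opensRange := by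
    rw [ProjQMap.opensRange_emb]
    exact inf_le_right
  apply GrTwistGen.isGen_of_pushforward (RelProj.emb p chart U hU) _ (lam U hU) _ hle
    (fun V hV => hb U hU V (hV.trans inf_le_right))
  rw [QCExact.app_res']
  exact (h U hU).mono ((RelProj.emb p chart U hU).preimage_mono inf_le_left)

end Groth.Agent.Lib.Helper3.RelTwistSec
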