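import Groth.Agent.Lib.Helper3.RelTwistSec

/-!
# The twisting sheaves `O_P(nd)` over the open `X_f` of a relative Proj
-/

set_option autoImplicit false
set_option linter.unusedSectionVars false
universe u
open CategoryTheory CategoryTheory.Limits AlgebraicGeometry TopologicalSpace Opposite
open Scheme.Modules
open scoped HomogeneousIdeal

namespace Groth.Agent.Lib.Helper3.RelTwistXf

open QCSec InvGen GrModQC RelProjBasic

variable {Y P : Scheme.{u}} {𝒮 : RelProj.QCGrAlg Y} {p : P ⟶ Y}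
  {chart : ∀ (U : Y.Opens) (hU : IsAffineOpen U),
    ((p ⁻¹ᵁ U : P.Opens) : Scheme.{u}) ≅ Proj (𝒮.deg U hU)}
  (f : 𝒮.presheaf.obj (op ⊤)) (Xf : P.Opens)
  (hXf : ∀ (U : Y.Opens) (hU : IsAffineOpen U),
    Xf ⊓ p ⁻¹ᵁ U = (p ⁻¹ᵁ U).ι ''ᵁ ((chart U hU).hom ⁻¹ᵁ
      Proj.basicOpen (𝒮.deg U hU) (resTop 𝒮 f U)))

include hXf in
theorem emb_mem_Xf_iff (U : Y.Opens) (hU : IsAffineOpen U) (y : Proj (𝒮.deg U hU)) :
    RelProj.emb p chart U hU y ∈ Xf ↔ y ∈ Proj.basicOpen (𝒮.deg U hU) (resTop 𝒮 f U) := by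
  have hyU : RelProj.emb p chart U hU y ∈ p ⁻¹ᵁ U := by
    have : RelProj.emb p chart U hU y ∈ (RelProj.emb p chart U hU).opensRange := ⟨y, rfl⟩
    rw [ProjQMap.opensRange_emb] at this
    exact this
  have h1 : RelProj.emb p chart U hU y ∈ Xf ↔ RelProj.emb p chart U hU y ∈ Xf ⊓ p ⁻¹ᵁ U :=
    ⟨fun h => ⟨h, hyU⟩, fun h => h.1⟩
  have h2 : (⟨RelProj.emb p chart U hU y, hyU⟩ : (p ⁻¹ᵁ U : P.Opens)) = (chart U hU).inv y :=
    Subtype.ext rfl
  have h3 : (chart U hU).hom ((chart U hU).inv y) = y := by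
    rw [← Scheme.Hom.comp_apply, Iso.inv_hom_id]
    rfl
  rw [h1, hXf U hU, mem_piece_iff]
  constructor
  · rintro ⟨hx, h⟩
    have e : (⟨RelProj.emb p chart U hU y, hx⟩ : (p ⁻¹ᵁ U : P.Opens)) = (chart U hU).inv y := h2
    rw [e, h3] at h
    exact h
  · intro h
    refine ⟨hyU, ?_⟩
    rw [h2, h3]
    exact h

include hXf in
theorem emb_preimage_Xf (U : Y.Opens) (hU : IsAffineOpen U) :
    RelProj.emb p chart U hU ⁻¹ᵁ Xf = Proj.basicOpen (𝒮.deg U hU) (resTop 𝒮 f U) := by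
  ext y
  exact emb_mem_Xf_iff f Xf hXf U hU y

variable (hP : RelProj.IsRelProj 𝒮 p chart) {d : ℕ}
  (hf : ∀ (U : Y.Opens) (hU : IsAffineOpen U), resTop 𝒮 f U ∈ 𝒮.deg U hU d)

include hf in
theorem pow_resTop_mem (U : Y.Opens) (hU : IsAffineOpen U) (k : ℕ) :
    resTop 𝒮 f U ^ k ∈ 𝒮.deg U hU (k * d) := by
  have := SetLike.pow_mem_graded k (hf U hU)
  rwa [smul_eq_mul] at this

theorem pow_notMem (U : Y.Opens) (hU : IsAffineOpen U) (k : ℕ)
    (x : Proj.basicOpen (𝒮.deg U hU) (resTop 𝒮 f U)) :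
    resTop 𝒮 f U ^ k ∉ x.1.asHomogeneousIdeal := by
  intro hx
  exact x.2 (x.1.isPrime.mem_of_pow_mem k hx)

/-- the chartwise generator `f ^ a / f ^ b` of `O(m)`, `a d = b d + m`, over `D₊(f)` -/
noncomputable def gen (U : Y.Opens) (hU : IsAffineOpen U) (a b : ℕ) (m : ℤ)
    (hm : ((a * d : ℕ) : ℤ) = ((b * d : ℕ) : ℤ) + m) :
    Γ(GrTwist.twist (𝒮.deg U hU) m, Proj.basicOpen (𝒮.deg U hU) (resTop 𝒮 f U)) :=
  frac _ ⟨resTop 𝒮 f U ^ a, pow_resTop_mem f hf U hU a⟩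
    ⟨resTop 𝒮 f U ^ b, pow_resTop_mem f hf U hU b⟩ (pow_notMem f U hU b) m hm

theorem isGen_gen (U : Y.Opens) (hU : IsAffineOpen U) (a b : ℕ) (m : ℤ)
    (hm : ((a * d : ℕ) : ℤ) = ((b * d : ℕ) : ℤ) + m) :
    IsGen (GrTwist.twist (𝒮.deg U hU) m) _ (gen f hf U hU a b m hm) :=
  GrTwistGen.isGen_frac _ _ _ (pow_notMem f U hU a) (pow_notMem f U hU b) m hm

variable {m : ℤ} {L : P.Modules}
  {lam : ∀ (U : Y.Opens) (hU : IsAffineOpen U),
    L ⟶ (Scheme.Modules.pushforward (RelProj.emb p chart U hU)).obj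
      (GrTwist.twist (𝒮.deg U hU) m)}
  (hL : RelProj.IsRelTwist 𝒮 p chart m L lam)

include hXf hP hL hf in
/-- over `X_f`, `f` of degree `d`, the sheaf `O_P(m)`, `m = (a - b) d`, is generated by
`f ^ a / f ^ b` -/
theorem exists_isGen (a b : ℕ) (hm : ((a * d : ℕ) : ℤ) = ((b * d : ℕ) : ℤ) + m) :
    ∃ e : Γ(L, Xf), IsGen L Xf e := by
  obtain ⟨e, he⟩ := RelTwistSec.exists_sec hP hL Xf
    (fun U hU => res (GrTwist.twist (𝒮.deg U hU) m) (le_of_eq (emb_preimage_Xf f Xf hXf U hU))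
      (gen f hf U hU a b m hm))
    (by
      intro U hU r y hy hy'
      have e1 : GrTwist.val (res (GrTwist.twist (𝒮.deg U hU) m)
          (le_of_eq (emb_preimage_Xf f Xf hXf U hU)) (gen f hf U hU a b m hm)) ⟨_, hy'⟩ =
          Localization.mk (resTop 𝒮 f U ^ a) ⟨resTop 𝒮 f U ^ b,
            pow_notMem f U hU b ⟨_, (emb_mem_Xf_iff f Xf hXf U hU _).mp hy'⟩⟩ := rfl
      rw [e1, GrTwist.locMap_mk]
      change Localization.mk _ _ = _
      congr 1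
      · change _ = (𝒮.res hU (hU.basicOpen r) (Y.basicOpen_le r)) (resTop 𝒮 f U ^ a)
        rw [map_pow, RelProj.QCGrAlg.res_apply, res_resTop]
      · apply Subtype.ext
        change _ = (𝒮.res hU (hU.basicOpen r) (Y.basicOpen_le r)) (resTop 𝒮 f U ^ b)
        rw [map_pow, RelProj.QCGrAlg.res_apply, res_resTop])
  refine ⟨e, RelTwistSec.isGen_of_charts Xf e (fun U hU => ?_) hL.bijective⟩
  rw [he U hU]
  exact (isGen_gen f hf U hU a b m hm).mono _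

include hXf hP hL hf in
theorem nonempty_iso (a b : ℕ) (hm : ((a * d : ℕ) : ℤ) = ((b * d : ℕ) : ℤ) + m) :
    Nonempty (L.restrict Xf.ι ≅ Coh.structureModule (Xf : Scheme.{u})) := by
  obtain ⟨e, he⟩ := exists_isGen f Xf hXf hP hf hL a b hm
  haveI := isIso_homOfSec he
  exact ⟨(asIso (homOfSec L Xf e)).symm⟩

end Groth.Agent.Lib.Helper3.RelTwistXf
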