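import Groth.Agent.Lib.Helper3.GrComapCrit
import Groth.Agent.Lib.Helper3.FamilyBC

/-!
# Families of sections `m ↦ m_i / f^k` of `M(n)~` over `D_+(f)`, and base change of twisting sheaves
-/

set_option autoImplicit false
set_option linter.unusedSectionVars false
universe u
open CategoryTheory CategoryTheory.Limits AlgebraicGeometry TopologicalSpace Opposite
open Scheme.Modules HomogeneousLocalization
open scoped HomogeneousIdeal

namespace Groth.Agent.Lib.Helper3.SecFam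

open QCSec GrModSec GrModExact Groth.Agent.Lib.Helper17.UnitBC

section locmod
variable {A : Type u} [CommRing A] {M : Type u} [AddCommGroup M] [Module A M]

theorem mk_eq_of_smul_eq {S : Submonoid A} {m m' : M} {s s' : S}
    (h : (s' : A) • m = (s : A) • m') : LocalizedModule.mk m s = LocalizedModule.mk m' s' := by
  rw [LocalizedModule.mk_eq]
  refine ⟨1, ?_⟩
  rw [one_smul, one_smul]
  exact h

theorem mk_add_same {S : Submonoid A} (m m' : M) (s : S) :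
    LocalizedModule.mk (m + m') s = LocalizedModule.mk m s + LocalizedModule.mk m' s := by
  rw [LocalizedModule.mk_add_mk]
  apply mk_eq_of_smul_eq
  change ((s : A) * (s : A)) • (m + m') = (s : A) • ((s : A) • m + (s : A) • m')
  rw [mul_smul, smul_add]

end locmod

section dec
variable {A σ : Type u} [CommRing A] [SetLike σ A] [AddSubgroupClass σ A] {𝒜 : ℕ → σ} [GradedRing 𝒜]
  {M τ : Type u} [AddCommGroup M] [Module A M] [SetLike τ M] [AddSubgroupClass τ M] (ℳ : ℕ → τ)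
  [SetLike.GradedSMul 𝒜 ℳ] [DirectSum.Decomposition ℳ]

/-- homogeneous component -/
def dec (i : ℕ) (m : M) : M := ((DirectSum.decompose ℳ m i : ℳ i) : M)

theorem dec_mem (i : ℕ) (m : M) : dec ℳ i m ∈ ℳ i := SetLike.coe_mem _

theorem dec_zero (i : ℕ) : dec ℳ i 0 = 0 := by
  unfold dec
  rw [DirectSum.decompose_zero, DirectSum.zero_apply]
  rfl

theorem dec_add (i : ℕ) (m m' : M) : dec ℳ i (m + m') = dec ℳ i m + dec ℳ i m' := by
  unfold dec
  rw [DirectSum.decompose_add, DirectSum.add_apply]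
  rfl

theorem dec_of_mem {i : ℕ} {m : M} (hm : m ∈ ℳ i) : dec ℳ i m = m :=
  DirectSum.decompose_of_mem_same ℳ hm

theorem dec_of_mem_ne {i j : ℕ} {m : M} (hm : m ∈ ℳ i) (h : i ≠ j) : dec ℳ j m = 0 :=
  DirectSum.decompose_of_mem_ne ℳ hm h

theorem dec_cast {i i' : ℕ} (h : i = i') (m : M) : dec ℳ i m = dec ℳ i' m := by
  subst h
  rfl

theorem dec_dec (i : ℕ) (m : M) : dec ℳ i (dec ℳ i m) = dec ℳ i m :=
  dec_of_mem ℳ (dec_mem ℳ i m)

theorem dec_smul {c : ℕ} {a : A} (ha : a ∈ 𝒜 c) (i : ℕ) (m : M) :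
    dec ℳ (c + i) (a • m) = a • dec ℳ i m := by
  classical
  induction m using DirectSum.Decomposition.inductionOn ℳ with
  | zero => rw [smul_zero, dec_zero, dec_zero, smul_zero]
  | @homogeneous j m =>
    have hmem : a • (m : M) ∈ ℳ (c + j) := SetLike.GradedSMul.smul_mem ha m.2
    by_cases hji : j = i
    · subst hji
      rw [dec_of_mem ℳ hmem, dec_of_mem ℳ m.2]
    · rw [dec_of_mem_ne ℳ hmem (by omega : c + j ≠ c + i), dec_of_mem_ne ℳ m.2 hji, smul_zero]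
  | add m m' h h' => rw [smul_add, dec_add, dec_add, h, h', smul_add]

theorem dec_smul_zero {a : A} (ha : a ∈ 𝒜 0) (i : ℕ) (m : M) :
    dec ℳ i (a • m) = a • dec ℳ i m := by
  have := dec_smul ℳ ha i m
  rwa [zero_add] at this

end dec

section idx

/-- a shift making all indices non-negative -/
def k0 (n : ℤ) : ℕ := n.natAbs

theorem k0_spec (n : ℤ) : 0 ≤ (k0 n : ℤ) + n := by
  unfold k0
  omega

/-- the degree of the numerators of the `k`-th family -/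
def idx (n : ℤ) (d k : ℕ) : ℕ := ((((k + k0 n) * d : ℕ) : ℤ) + n).toNat

theorem idx_spec {d : ℕ} (hd : 0 < d) (n : ℤ) (k : ℕ) :
    ((idx n d k : ℕ) : ℤ) = (((k + k0 n) * d : ℕ) : ℤ) + n := by
  unfold idx
  have h1 : k + k0 n ≤ (k + k0 n) * d := Nat.le_mul_of_pos_right _ hd
  have h2 := k0_spec n
  have h3 : (0 : ℤ) ≤ (((k + k0 n) * d : ℕ) : ℤ) + n := by
    omega
  exact Int.toNat_of_nonneg h3

theorem idx_add {d : ℕ} (hd : 0 < d) (n : ℤ) (e k : ℕ) :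
    idx n d (e + k) = e * d + idx n d k := by
  have h1 := idx_spec hd n (e + k)
  have h2 := idx_spec hd n k
  have : ((idx n d (e + k) : ℕ) : ℤ) = ((e * d + idx n d k : ℕ) : ℤ) := by
    rw [h1, Nat.cast_add (e * d), h2]
    push_cast
    ring
  exact_mod_cast this

end idx

section secfam
variable {A σ : Type u} [CommRing A] [SetLike σ A] [AddSubgroupClass σ A] {𝒜 : ℕ → σ} [GradedRing 𝒜]
  {M τ : Type u} [AddCommGroup M] [Module A M] [SetLike τ M] [AddSubgroupClass τ M] (ℳ : ℕ → τ)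
  [SetLike.GradedSMul 𝒜 ℳ] [DirectSum.Decomposition ℳ]
  {d : ℕ} (hd : 0 < d) {f : A} (hf : f ∈ 𝒜 d) (n : ℤ)

theorem pow_mem' {d : ℕ} {f : A} (hf : f ∈ 𝒜 d) (k : ℕ) : f ^ k ∈ 𝒜 (k * d) := by
  have := SetLike.pow_mem_graded k hf
  rwa [smul_eq_mul] at this

theorem val_add' {n : ℤ} {U : (Proj 𝒜).Opens} (t t' : Γ(GrMod.tilde 𝒜 ℳ n, U)) (x : U) :
    GrMod.val (t + t') x = GrMod.val t x + GrMod.val t' x := rfl

/-- the `k`-th family of sections: `m ↦ m_i / f^(k + k₀)` -/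
noncomputable def secFam (k : ℕ) : M →+ Γ(GrMod.tilde 𝒜 ℳ n, Proj.basicOpen 𝒜 f) where
  toFun m := mfrac ℳ (Proj.basicOpen 𝒜 f) (⟨dec ℳ (idx n d k) m, dec_mem ℳ _ m⟩ : ℳ (idx n d k))
    (⟨f ^ (k + k0 n), pow_mem' hf (k + k0 n)⟩ : 𝒜 ((k + k0 n) * d))
    (fun x => pow_notMem (k + k0 n) x) n (idx_spec hd n k)
  map_zero' := by
    refine val_ext (fun x => ?_)
    rw [val_mfrac, GrModExact.val_zero]
    change LocalizedModule.mk (dec ℳ (idx n d k) 0) _ = 0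
    rw [dec_zero, LocalizedModule.zero_mk]
  map_add' m m' := by
    refine val_ext (fun x => ?_)
    rw [val_add', val_mfrac, val_mfrac, val_mfrac]
    change LocalizedModule.mk (dec ℳ (idx n d k) (m + m')) _ =
      LocalizedModule.mk (dec ℳ (idx n d k) m) _ + LocalizedModule.mk (dec ℳ (idx n d k) m') _
    rw [dec_add, mk_add_same]

theorem val_secFam (k : ℕ) (m : M) (x : Proj.basicOpen 𝒜 f) :
    GrMod.val (secFam ℳ hd hf n k m) x =
      LocalizedModule.mk (dec ℳ (idx n d k) m)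
        ⟨f ^ (k + k0 n), pow_notMem (k + k0 n) x⟩ := rfl

theorem secFam_smul_zero {a : A} (h0 : a ∈ 𝒜 (0 • d)) (k : ℕ) (m : M) :
    secFam ℳ hd hf n k (a • m) =
      (Proj.awayToSection 𝒜 f).hom (Away.mk 𝒜 hf 0 a h0) • secFam ℳ hd hf n k m := by
  have ha : a ∈ 𝒜 0 := by rwa [zero_smul] at h0
  refine val_ext (fun x => ?_)
  have hx0 : f ^ 0 ∉ x.1.asHomogeneousIdeal.toIdeal := pow_notMem 0 x
  have e1 : GrMod.val ((Proj.awayToSection 𝒜 f).hom (Away.mk 𝒜 hf 0 a h0) •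
        secFam ℳ hd hf n k m) x =
      GrModQC.fval ((Proj.awayToSection 𝒜 f).hom (Away.mk 𝒜 hf 0 a h0)) x •
        GrMod.val (secFam ℳ hd hf n k m) x :=
    GrModQC.mval_smul _ _ x
  rw [e1, GrModQC.fval_mk_away hf 0 a h0 x hx0, val_secFam, val_secFam,
    LocalizedModule.mk_smul_mk]
  apply mk_eq_of_smul_eq
  change (f ^ 0 * f ^ (k + k0 n)) • dec ℳ (idx n d k) (a • m) =
    f ^ (k + k0 n) • (a • dec ℳ (idx n d k) m)
  rw [dec_smul_zero ℳ ha, pow_zero, one_mul]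

theorem secFam_surj (s : Γ(GrMod.tilde 𝒜 ℳ n, Proj.basicOpen 𝒜 f)) :
    ∃ (k : ℕ) (m : M), secFam ℳ hd hf n k m = s := by
  obtain ⟨k, i, m, hi, hform⟩ := exists_val_eq (𝒜 := 𝒜) (ℳ := ℳ) n hd hf s
  have hidx : idx n d k = k0 n * d + i := by
    have h1 := idx_spec hd n k
    have : ((idx n d k : ℕ) : ℤ) = ((k0 n * d + i : ℕ) : ℤ) := by
      rw [h1]
      push_cast
      rw [hi]
      ring
    exact_mod_cast this
  have hmem : f ^ k0 n • m.1 ∈ ℳ (idx n d k) := by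
    rw [hidx]
    exact SetLike.GradedSMul.smul_mem (pow_mem' hf (k0 n)) m.2
  refine ⟨k, f ^ k0 n • m.1, ?_⟩
  refine val_ext (fun x => ?_)
  rw [val_secFam, hform x (pow_notMem k x), dec_of_mem ℳ hmem]
  apply mk_eq_of_smul_eq
  change f ^ k • (f ^ k0 n • m.1) = f ^ (k + k0 n) • m.1
  rw [← mul_smul, ← pow_add]

theorem secFam_pow_smul (e k : ℕ) (m : M) :
    secFam ℳ hd hf n (e + k) (f ^ e • m) = secFam ℳ hd hf n k m := by
  refine val_ext (fun x => ?_)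
  rw [val_secFam, val_secFam]
  have h1 : dec ℳ (idx n d (e + k)) (f ^ e • m) = f ^ e • dec ℳ (idx n d k) m := by
    rw [dec_cast ℳ (idx_add hd n e k)]
    exact dec_smul ℳ (pow_mem' hf e) (idx n d k) m
  rw [h1]
  apply mk_eq_of_smul_eq
  change f ^ (k + k0 n) • (f ^ e • dec ℳ (idx n d k) m) =
    f ^ (e + k + k0 n) • dec ℳ (idx n d k) m
  rw [← mul_smul, ← pow_add]
  congr 2
  omega

theorem secFam_dec (k : ℕ) (m : M) :
    secFam ℳ hd hf n k (dec ℳ (idx n d k) m) = secFam ℳ hd hf n k m := by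
  refine val_ext (fun x => ?_)
  rw [val_secFam, val_secFam, dec_dec]

theorem secFam_eq_zero (k : ℕ) (m : M) (h : secFam ℳ hd hf n k m = 0) :
    ∃ K : ℕ, f ^ K • dec ℳ (idx n d k) m = 0 := by
  have hfirr : f ∈ (HomogeneousIdeal.irrelevant 𝒜).toIdeal :=
    HomogeneousIdeal.mem_irrelevant_of_mem 𝒜 hd hf
  refine exists_pow_smul_eq_zero_of_locally_killed 𝒜 ℳ hfirr (dec_mem ℳ (idx n d k) m) ?_
  intro x hx
  have hxU : x ∈ Proj.basicOpen 𝒜 f := (ProjectiveSpectrum.mem_basicOpen 𝒜 f x).mpr hx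
  have e1 : GrMod.val (secFam ℳ hd hf n k m) ⟨x, hxU⟩ = 0 := by
    rw [h]
    rfl
  rw [val_secFam, ← LocalizedModule.zero_mk (⟨f ^ (k + k0 n),
      pow_notMem (k + k0 n) (⟨x, hxU⟩ : Proj.basicOpen 𝒜 f)⟩ :
        x.asHomogeneousIdeal.toIdeal.primeCompl), LocalizedModule.mk_eq] at e1
  obtain ⟨c, hc⟩ := e1
  refine ⟨(c : A) * f ^ (k + k0 n), fun hmem => ?_, ?_⟩
  · rcases x.isPrime.mem_or_mem hmem with h' | h'
    · exact c.2 h'
    · exact pow_notMem (k + k0 n) (⟨x, hxU⟩ : Proj.basicOpen 𝒜 f) h'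
  · have hc' : (c : A) • (f ^ (k + k0 n)) • dec ℳ (idx n d k) m =
        (c : A) • (f ^ (k + k0 n)) • (0 : M) := hc
    rw [mul_smul, hc', smul_zero, smul_zero]

end secfam

section comap
variable {A σ : Type u} [CommRing A] [SetLike σ A] [AddSubgroupClass σ A] {𝒜 : ℕ → σ} [GradedRing 𝒜]
  {B σ' : Type u} [CommRing B] [SetLike σ' B] [AddSubgroupClass σ' B] {ℬ : ℕ → σ'} [GradedRing ℬ]
  (ψ : 𝒜 →+*ᵍ ℬ) (hψ : ℬ₊ ≤ (𝒜₊).map ψ)
  {M τ : Type u} [AddCommGroup M] [Module A M] [SetLike τ M] [AddSubgroupClass τ M] (ℳ : ℕ → τ)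
  [SetLike.GradedSMul 𝒜 ℳ] [DirectSum.Decomposition ℳ]
  {N τ' : Type u} [AddCommGroup N] [Module B N] [SetLike τ' N] [AddSubgroupClass τ' N] (𝒩 : ℕ → τ')
  [SetLike.GradedSMul ℬ 𝒩] [DirectSum.Decomposition 𝒩]
  (v : M →ₛₗ[ψ.toRingHom] N) (hv : ∀ (i : ℕ) (m : M), m ∈ ℳ i → v m ∈ 𝒩 i)

include hv in
theorem v_dec (i : ℕ) (m : M) : v (dec ℳ i m) = dec 𝒩 i (v m) := by
  classical
  induction m using DirectSum.Decomposition.inductionOn ℳ with
  | zero => rw [dec_zero, map_zero, dec_zero]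
  | @homogeneous j m =>
    by_cases hji : j = i
    · subst hji
      rw [dec_of_mem ℳ m.2, dec_of_mem 𝒩 (hv _ _ m.2)]
    · rw [dec_of_mem_ne ℳ m.2 hji, map_zero, dec_of_mem_ne 𝒩 (hv _ _ m.2) hji]
  | add m m' h h' => rw [dec_add, map_add, h, h', map_add, dec_add]

theorem comap_secFam {d : ℕ} (hd : 0 < d) {f : A} (hf : f ∈ 𝒜 d) (n : ℤ) (k : ℕ) (m : M) :
    GrComapCrit.secMap ψ hψ ℳ 𝒩 v hv n f (secFam ℳ hd hf n k m) =
      secFam 𝒩 hd (ψ.map_mem hf) n k (v m) := by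
  refine val_ext (fun y => ?_)
  have e1 : GrMod.val (GrComapCrit.secMap ψ hψ ℳ 𝒩 v hv n f (secFam ℳ hd hf n k m)) y =
      GrMod.locModMap ψ hψ v y.1 (GrMod.val (secFam ℳ hd hf n k m)
        ⟨ProjectiveSpectrum.comap ψ hψ y.1, y.2⟩) := rfl
  rw [e1, val_secFam, GrMod.locModMap_mk, val_secFam]
  apply mk_eq_of_smul_eq
  change (ψ f) ^ (k + k0 n) • v (dec ℳ (idx n d k) m) =
    ψ (f ^ (k + k0 n)) • dec 𝒩 (idx n d k) (v m)
  rw [map_pow, v_dec ψ ℳ 𝒩 v hv]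

include hψ in
theorem appLE_awayToSection {d : ℕ} {f : A} (hf : f ∈ 𝒜 d) (z : Away 𝒜 f) :
    ((Proj.map ψ hψ).appLE (Proj.basicOpen 𝒜 f) (Proj.basicOpen ℬ (ψ f)) (by rfl)).hom
        ((Proj.awayToSection 𝒜 f).hom z) =
      (Proj.awayToSection ℬ (ψ f)).hom (Away.map ψ f z) := by
  have h1 := Proj.awayToSection_comp_appLE ψ hψ hf
  exact congrArg (fun F => F.hom z) h1

end comap

section ring
variable {A σ : Type u} [CommRing A] [SetLike σ A] [AddSubgroupClass σ A] {𝒜 : ℕ → σ} [GradedRing 𝒜]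
  {d : ℕ} {f : A} (hf : f ∈ 𝒜 d)

theorem awayMk_congr (k : ℕ) {a a' : A} (h : a = a') (ha : a ∈ 𝒜 (k • d)) (ha' : a' ∈ 𝒜 (k • d)) :
    Away.mk 𝒜 hf k a ha = Away.mk 𝒜 hf k a' ha' := by
  subst h
  rfl

theorem awayMk_zero (k : ℕ) (h0 : (0 : A) ∈ 𝒜 (k • d)) : Away.mk 𝒜 hf k 0 h0 = 0 := by
  apply HomogeneousLocalization.val_injective
  rw [Away.val_mk, HomogeneousLocalization.val_zero, Localization.mk_zero]

theorem awayMk_add (k : ℕ) {a a' : A} (ha : a ∈ 𝒜 (k • d)) (ha' : a' ∈ 𝒜 (k • d))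
    (hs : a + a' ∈ 𝒜 (k • d)) :
    Away.mk 𝒜 hf k (a + a') hs = Away.mk 𝒜 hf k a ha + Away.mk 𝒜 hf k a' ha' := by
  apply HomogeneousLocalization.val_injective
  rw [HomogeneousLocalization.val_add, Away.val_mk, Away.val_mk, Away.val_mk,
    Localization.add_mk_self]

theorem awayMk_zero_mul (k : ℕ) {a y : A} (h0 : a ∈ 𝒜 (0 • d)) (hy : y ∈ 𝒜 (k • d))
    (hay : a * y ∈ 𝒜 (k • d)) :
    Away.mk 𝒜 hf k (a * y) hay = Away.mk 𝒜 hf 0 a h0 * Away.mk 𝒜 hf k y hy := by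
  apply HomogeneousLocalization.val_injective
  rw [HomogeneousLocalization.val_mul, Away.val_mk, Away.val_mk, Away.val_mk,
    Localization.mk_mul]
  congr 1
  apply Subtype.ext
  change f ^ k = f ^ 0 * f ^ k
  rw [pow_zero, one_mul]

variable {R : Type u} [CommRing R] (b : R →+* A) (hb : ∀ r, b r ∈ 𝒜 0)

/-- a ring homomorphism into the degree zero part. -/
def zeroHom : R →+* 𝒜 0 where
  toFun r := ⟨b r, hb r⟩
  map_one' := Subtype.ext (map_one b)
  map_mul' x y := Subtype.ext (map_mul b x y)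
  map_zero' := Subtype.ext (map_zero b)
  map_add' x y := Subtype.ext (map_add b x y)

variable (f) in
/-- the structure map `R → Γ(D_+(f), O)` -/
noncomputable def ι : R →+* Γ(Proj 𝒜, Proj.basicOpen 𝒜 f) :=
  (Proj.awayToSection 𝒜 f).hom.comp
    ((HomogeneousLocalization.fromZeroRingHom 𝒜 (Submonoid.powers f)).comp (zeroHom b hb))

theorem ι_eq_mk (r : R) (h0 : b r ∈ 𝒜 (0 • d)) :
    ι f b hb r = (Proj.awayToSection 𝒜 f).hom (Away.mk 𝒜 hf 0 (b r) h0) := by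
  change (Proj.awayToSection 𝒜 f).hom
    (HomogeneousLocalization.fromZeroRingHom 𝒜 (Submonoid.powers f) (zeroHom b hb r)) = _
  congr 1
  apply HomogeneousLocalization.val_injective
  rw [Away.val_mk]
  change Localization.mk (b r) 1 = _
  congr 1
  exact Subtype.ext (pow_zero f).symm

end ring

section closure
variable {A σ : Type u} [CommRing A] [SetLike σ A] [AddSubgroupClass σ A] {𝒜 : ℕ → σ} [GradedRing 𝒜]
  {B σ' : Type u} [CommRing B] [SetLike σ' B] [AddSubgroupClass σ' B] {ℬ : ℕ → σ'} [GradedRing ℬ]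
  (ψ : 𝒜 →+*ᵍ ℬ) (hψ : ℬ₊ ≤ (𝒜₊).map ψ)
  {R : Type u} [CommRing R] (c : R →+* B) (hc : ∀ r, c r ∈ ℬ 0)
  {d : ℕ} (hd : 0 < d) {f : A} (hf : f ∈ 𝒜 d)

include hd hf in
/-- if `B` is generated by `ψ(A)` and `c(R)` then so are the sections over `D_+(ψ f)` -/
theorem mem_closure
    (hind : ∀ (P : B → Prop), P 0 → (∀ a, P (ψ a)) → (∀ r y, P y → P (c r * y)) →
      (∀ y y', P y → P y' → P (y + y')) → ∀ y, P y)
    (t' : Γ(Proj ℬ, Proj.basicOpen ℬ (ψ f))) :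
    t' ∈ Subsemiring.closure
      (Set.range ((Proj.map ψ hψ).appLE (Proj.basicOpen 𝒜 f) (Proj.basicOpen ℬ (ψ f))
          (by rfl)).hom ∪
        Set.range (ι (ψ f) c hc)) := by
  have hψf : ψ f ∈ ℬ d := ψ.map_mem hf
  obtain ⟨k, y, hy, rfl⟩ := GrModQC.exists_awayToSection hd hψf t'
  set S := Subsemiring.closure
      (Set.range ((Proj.map ψ hψ).appLE (Proj.basicOpen 𝒜 f) (Proj.basicOpen ℬ (ψ f))
          (by rfl)).hom ∪
        Set.range (ι (ψ f) c hc)) with hS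
  have key : ∀ y : B, (Proj.awayToSection ℬ (ψ f)).hom
      (Away.mk ℬ hψf k (dec ℬ (k • d) y) (dec_mem ℬ _ y)) ∈ S := by
    intro y
    refine hind (fun y => (Proj.awayToSection ℬ (ψ f)).hom
      (Away.mk ℬ hψf k (dec ℬ (k • d) y) (dec_mem ℬ _ y)) ∈ S) ?_ ?_ ?_ ?_ y
    · rw [awayMk_congr hψf k (dec_zero ℬ (k • d)) _ (zero_mem _), awayMk_zero, map_zero]
      exact zero_mem _
    · intro a
      have h1 : dec ℬ (k • d) (ψ a) = ψ (dec 𝒜 (k • d) a) :=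
        (v_dec ψ 𝒜 ℬ (GrComapCrit.ψlin ψ) (GrComapCrit.ψlin_mem ψ) (k • d) a).symm
      rw [awayMk_congr hψf k h1 _ (ψ.map_mem (dec_mem 𝒜 _ a)),
        ← Away.map_mk ψ f hf k (dec 𝒜 (k • d) a) (dec_mem 𝒜 _ a),
        ← appLE_awayToSection ψ hψ hf]
      exact Subsemiring.subset_closure (Or.inl ⟨_, rfl⟩)
    · intro r y hP
      have h0 : c r ∈ ℬ (0 • d) := by
        rw [zero_smul]
        exact hc r
      have h1 : dec ℬ (k • d) (c r * y) = c r * dec ℬ (k • d) y :=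
        dec_smul_zero ℬ (hc r) (k • d) y
      have hmem : c r * dec ℬ (k • d) y ∈ ℬ (k • d) := h1 ▸ dec_mem ℬ _ _
      rw [awayMk_congr hψf k h1 _ hmem, awayMk_zero_mul hψf k h0 (dec_mem ℬ _ y) hmem, map_mul,
        ← ι_eq_mk hψf c hc r h0]
      exact mul_mem (Subsemiring.subset_closure (Or.inr ⟨r, rfl⟩)) hP
    · intro y y' hP hP'
      have hmem : dec ℬ (k • d) y + dec ℬ (k • d) y' ∈ ℬ (k • d) :=
        add_mem (dec_mem ℬ _ y) (dec_mem ℬ _ y')
      rw [awayMk_congr hψf k (dec_add ℬ (k • d) y y') _ hmem,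
        awayMk_add hψf k (dec_mem ℬ _ y) (dec_mem ℬ _ y') hmem, map_add]
      exact add_mem hP hP'
  have := key y
  rwa [awayMk_congr hψf k (dec_of_mem ℬ hy) _ hy] at this

end closure

end Groth.Agent.Lib.Helper3.SecFam
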