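import Groth.Agent.Lib.Helper3.VALocal
import Groth.Agent.Lib.Helper3.GlobGen
import Groth.Agent.Lib.Helper3.FreeSec

/-!
# From projective-space very ampleness to projective-bundle very ampleness
-/

set_option autoImplicit false
set_option linter.unusedSectionVars false
universe u
open CategoryTheory CategoryTheory.Limits AlgebraicGeometry TopologicalSpace Opposite
open Scheme.Modules
open scoped HomogeneousIdeal

namespace Groth.Agent.Lib.Helper3.VABridge

open QCSec InvGen GrModQC RelChart SymGen PbBasic PullLemmas HomogeneousLocalization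
  ProjBundleUniq LinProj SecCoord ProjOfSec

variable {X S : Scheme.{u}}

/-- chart form of very ampleness implies very ampleness relative to a projective bundle -/
theorem isRelVeryAmple_of_isVA' (g : X ⟶ S) (N : X.Modules) (hN : PicF.IsInvertible N)
    (h : VAChart.IsVA' g N) : RelProj.IsRelVeryAmple g N := by
  classical
  obtain ⟨κ, hκ, t, K, hcov, hK⟩ := h
  haveI : N.IsQuasicoherent := InvCoh.isQuasicoherent_of_isInvertible hN
  haveI hEq : (QCExtend.freeMod S κ).IsQuasicoherent := QCExtend.isQuasicoherent_freeMod S κ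
  let σ : κ → Γ((pushforward g).obj N, ⊤) := fun k => (show Γ((pushforward g).obj N, ⊤) from t k)
  let ψ : QCExtend.freeMod S κ ⟶ (pushforward g).obj N := GlobGen.freeHom _ σ
  let s : (Scheme.Modules.pullback g).obj (QCExtend.freeMod S κ) ⟶ N :=
    ((pullbackPushforwardAdjunction g).homEquiv (QCExtend.freeMod S κ) N).symm ψ
  have hs : ∀ (U : S.Opens) (k : κ),
      s.app (g ⁻¹ᵁ U) (pull g (QCExtend.freeMod S κ) U (FreeSec.fs κ k U)) =
        res N le_top (t k) := by
    intro U k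
    have h1 := adjoint_pull g ψ U (FreeSec.fs κ k U)
    have h2 := GlobGen.freeHom_app_freeSection ((pushforward g).obj N) σ k U
    refine h1.trans ?_
    exact h2
  obtain ⟨𝒯, k, hk⟩ := SymGr.exists_isGrSymAlg (QCExtend.freeMod S κ)
  obtain ⟨Q, pQ, chartQ, hQ⟩ := RelProjExist.exists_isRelProj 𝒯
  obtain ⟨O1Q, lamQ, hO1Q⟩ := RelTwistExist.exists_isRelTwist hQ 1
  obtain ⟨φQ, hφQ0⟩ := CanonPhi.exists_phi hk.2 hQ hO1Q
  have hφQ : ∀ (U : S.Opens) (hU : IsAffineOpen U) (f : Γ(QCExtend.freeMod S κ, U)),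
      Reads lamQ U hU (pQ ⁻¹ᵁ U) (up pQ O1Q U (φQ.app U f)) (jj 𝒯.toQCAlg k U f) 1 :=
    fun U hU f => ProjBundleUP.reads_of_fr (d := 1) U hU _ (hk.2 U hU f) _ (hφQ0 U hU f)
  haveI : Epi s := by
    apply TwistHom.epi_of_isGen
    intro x
    obtain ⟨k₀, -, hx⟩ := hcov x
    have hle : locus N (t k₀) ≤ g ⁻¹ᵁ (⊤ : S.Opens) := fun _ _ => trivial
    refine ⟨locus N (t k₀), res _ hle (pull g _ ⊤ (FreeSec.fs κ k₀ ⊤)), hx, ?_⟩
    rw [QCExact.app_res', hs, res_res]
    exact isGen_locus N (t k₀)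
  obtain ⟨ς, hς, τQ, hτ0⟩ := ProjBundleUP.exists_hom (QCExtend.freeMod S κ) 𝒯 k hk pQ chartQ hQ
    O1Q lamQ hO1Q φQ hφQ g N hN s
  have hτc := compat_of_pull_local ς pQ g hς φQ τQ.hom _ hτ0
  have hcQ : ∀ (U : S.Opens), IsAffineOpen U → ∀ f : Γ(QCExtend.freeMod S κ, U),
      τQ.hom.app (g ⁻¹ᵁ U) (res _ (preimage_le ς pQ g hς U)
        (pull ς O1Q (pQ ⁻¹ᵁ U) (up pQ O1Q U (φQ.app U f)))) =
        s.app (g ⁻¹ᵁ U) (pull g _ U f) :=
    fun U _ f => pull_of_compat ς pQ g hς φQ τQ.hom _ hτc U f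
  haveI : IsImmersion ς := by
    haveI : MorphismProperty.RespectsRight @IsImmersion @IsOpenImmersion :=
      ⟨fun i hi f hf => by
        haveI := hi
        haveI := hf
        exact (inferInstance : IsImmersion (f ≫ i))⟩
    haveI : MorphismProperty.HasOfPostcompProperty @IsImmersion @IsOpenImmersion :=
      ⟨fun f g _ hfg => by
        haveI := hfg
        exact IsImmersion.of_comp f g⟩
    apply IsZariskiLocalAtTarget.of_forall_source_exists_preimage (P := @IsImmersion) ς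
    intro x
    obtain ⟨k₀, hk₀, hx⟩ := hcov x
    obtain ⟨U, hU, hxU⟩ := ProjQMap.exists_affine_mem (g x)
    haveI := hK k₀ hk₀
    -- the chart
    have hxV : x ∈ ς ⁻¹ᵁ AA k chartQ U hU (FreeSec.fs κ k₀ U) := by
      have hW₀ : g ⁻¹ᵁ U ⊓ locus N (t k₀) ≤ g ⁻¹ᵁ U := inf_le_left
      refine le_preimage_AA_of_isGenAt hk hQ hO1Q hφQ g s ς hς τQ hcQ U hU (FreeSec.fs κ k₀ U) _
        hW₀ (fun W' hW' => ?_) ⟨hxU, hx⟩
      rw [hs, res_res]
      exact isGenAt_of_le N (t k₀) (hW'.trans inf_le_right)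
    have hXV : ς ⁻¹ᵁ AA k chartQ U hU (FreeSec.fs κ k₀ U) ≤ g ⁻¹ᵁ U :=
      pre_le k chartQ g ς hς U hU (FreeSec.fs κ k₀ U)
    have hgenQ : ∀ (W' : X.Opens) (hW' : W' ≤ ς ⁻¹ᵁ AA k chartQ U hU (FreeSec.fs κ k₀ U)),
        IsGenAt N W' (res N le_top (t k₀)) := by
      intro W' hW'
      have := isGenAt_sigma hk hO1Q hφQ g s ς hς τQ hcQ U hU (FreeSec.fs κ k₀ U) W' hW'
      rwa [hs, res_res] at this
    have hWloc : ς ⁻¹ᵁ AA k chartQ U hU (FreeSec.fs κ k₀ U) ≤ locus N (t k₀) := by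
      apply le_genLocus
      intro W' hW'
      rw [InvAmple.sec_globalHom, res_res]
      exact hgenQ W' hW'
    refine ⟨AA k chartQ U hU (FreeSec.fs κ k₀ U), hxV, ?_⟩
    -- the projection to affine space
    let θ₀ : MvPolynomial κ (ULift.{u} ℤ) →+* Γ(Q, AA k chartQ U hU (FreeSec.fs κ k₀ U)) :=
      MvPolynomial.eval₂Hom
        ((Int.castRingHom _).comp (ULift.ringEquiv : ULift.{u} ℤ ≃+* ℤ).toRingHom)
        (fun k' => cc hk chartQ U hU (FreeSec.fs κ k₀ U) (FreeSec.fs κ k' U))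
    let π : ((AA k chartQ U hU (FreeSec.fs κ k₀ U) : Q.Opens) : Scheme.{u}) ⟶
        pullback (VAChart.affTo κ) (specULiftZIsTerminal.from S) :=
      pullback.lift (VAChart.toSpecOfHom _ θ₀) ((AA k chartQ U hU (FreeSec.fs κ k₀ U)).ι ≫ pQ)
        (specULiftZIsTerminal.hom_ext _ _)
    have hfac : ς.resLE (AA k chartQ U hU (FreeSec.fs κ k₀ U))
        (ς ⁻¹ᵁ AA k chartQ U hU (FreeSec.fs κ k₀ U)) le_rfl ≫ π =
        X.homOfLE hWloc ≫ VAChart.chart g N t k₀ := by
      apply pullback.hom_ext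
      · rw [Category.assoc, pullback.lift_fst, VAChart.resLE_toSpecOfHom, Category.assoc]
        unfold VAChart.chart
        rw [pullback.lift_fst, VAChart.homOfLE_toSpecOfHom]
        congr 1
        apply MvPolynomial.ringHom_ext
        · intro c
          exact congrArg (fun φ => φ c) (VAChart.ulift_int_hom_ext
            (((ς.appLE (AA k chartQ U hU (FreeSec.fs κ k₀ U)) _ le_rfl).hom.comp θ₀).comp
              MvPolynomial.C)
            (((rresHom X hWloc).comp (VAChart.chartHom N t k₀)).comp MvPolynomial.C))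
        · intro k'
          rw [RingHom.comp_apply, RingHom.comp_apply]
          have e1 : θ₀ (MvPolynomial.X k') =
              cc hk chartQ U hU (FreeSec.fs κ k₀ U) (FreeSec.fs κ k' U) :=
            MvPolynomial.eval₂Hom_X' _ _ _
          have e2 : VAChart.chartHom N t k₀ (MvPolynomial.X k') = ratio N (t k₀) (t k') := by
            unfold VAChart.chartHom
            rw [MvPolynomial.eval₂Hom_X']
          rw [e1, e2]
          have hrel := sigma_rel hk hO1Q hφQ g s ς hς τQ hcQ U hU (FreeSec.fs κ k₀ U)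
            (FreeSec.fs κ k' U) _ le_rfl
          rw [hs, hs, res_res, res_res] at hrel
          have hrat := ratio_smul_res N (t k₀) (t k') hWloc
          exact (hgenQ _ le_rfl).smul_inj (hrel.symm.trans hrat.symm)
      · rw [Category.assoc, pullback.lift_snd, Scheme.Hom.resLE_comp_ι_assoc, hς, Category.assoc]
        unfold VAChart.chart
        rw [pullback.lift_snd, Scheme.homOfLE_ι_assoc]
    haveI : IsImmersion (ς.resLE (AA k chartQ U hU (FreeSec.fs κ k₀ U))
        (ς ⁻¹ᵁ AA k chartQ U hU (FreeSec.fs κ k₀ U)) le_rfl ≫ π) := by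
      rw [hfac]
      infer_instance
    haveI : IsImmersion (ς.resLE (AA k chartQ U hU (FreeSec.fs κ k₀ U))
        (ς ⁻¹ᵁ AA k chartQ U hU (FreeSec.fs κ k₀ U)) le_rfl) := IsImmersion.of_comp _ π
    rw [← Scheme.Hom.resLE_comp_ι ς le_rfl]
    infer_instance
  exact ⟨_, hEq, 𝒯, k, hk, Q, pQ, chartQ, hQ, O1Q, lamQ, hO1Q, ς, inferInstance, hς, ⟨τQ.symm⟩⟩

/-- very ampleness relative to a projective space implies very ampleness relative to a projective
bundle -/
theorem isRelVeryAmple_of_isRelVeryAmplePn (g : X ⟶ S) (N : X.Modules)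
    (hN : PicF.IsInvertible N) (h : RelAmple.IsRelVeryAmplePn g N) :
    RelProj.IsRelVeryAmple g N :=
  isRelVeryAmple_of_isVA' g N hN (VAChart.isVA'_of_isRelVeryAmplePn g h)

end Groth.Agent.Lib.Helper3.VABridge
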