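import Groth.Agent.Lib.Helper3.VAFin
import Groth.Agent.Lib.Helper3.VABridge

/-!
# From projective-bundle very ampleness to projective-space very ampleness over an affine base
-/

set_option autoImplicit false
set_option linter.unusedSectionVars false
universe u
open CategoryTheory CategoryTheory.Limits AlgebraicGeometry TopologicalSpace Opposite
open Scheme.Modules
open scoped HomogeneousIdeal

namespace Groth.Agent.Lib.Helper3.VAFin2

open QCSec InvGen GrModQC RelChart SymGen PbBasic PullLemmas HomogeneousLocalization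
  ProjBundleUniq LinProj VALocal SecCoord ProjOfSec

section Data

variable {X Y : Scheme.{u}}

/-- the canonical sections and the induced quotient of the inverse image, for explicit very
ample data -/
theorem exists_data_of (g : X ⟶ Y) (L : X.Modules) {E : Y.Modules} [E.IsQuasicoherent]
    {𝒮 : RelProj.QCGrAlg Y} {j : E ⟶ 𝒮.toModule} (hj : RelProj.IsGrSymAlg E 𝒮 j)
    {P : Scheme.{u}} {p : P ⟶ Y}
    {chart : ∀ (U : Y.Opens) (hU : IsAffineOpen U),
      ((p ⁻¹ᵁ U : P.Opens) : Scheme.{u}) ≅ Proj (𝒮.deg U hU)}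
    (hP : RelProj.IsRelProj 𝒮 p chart) {O1 : P.Modules}
    {lam : ∀ (U : Y.Opens) (hU : IsAffineOpen U),
      O1 ⟶ (Scheme.Modules.pushforward (RelProj.emb p chart U hU)).obj
        (GrTwist.twist (𝒮.deg U hU) 1)}
    (hO1 : RelProj.IsRelTwist 𝒮 p chart 1 O1 lam)
    (i : X ⟶ P) (hip : i ≫ p = g) (eL : L ≅ (Scheme.Modules.pullback i).obj O1) :
    ∃ (φ : E ⟶ (pushforward p).obj O1)
      (_ : ∀ (U : Y.Opens) (hU : IsAffineOpen U) (e : Γ(E, U)),
        Reads lam U hU (p ⁻¹ᵁ U) (up p O1 U (φ.app U e)) (jj 𝒮.toQCAlg j U e) 1)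
      (τ : (Scheme.Modules.pullback i).obj O1 ≅ L)
      (s : (Scheme.Modules.pullback g).obj E ⟶ L),
      ∀ (U : Y.Opens), IsAffineOpen U → ∀ e : Γ(E, U),
        τ.hom.app (g ⁻¹ᵁ U) (res _ (preimage_le i p g hip U)
          (pull i O1 (p ⁻¹ᵁ U) (up p O1 U (φ.app U e)))) = s.app (g ⁻¹ᵁ U) (pull g E U e) := by
  obtain ⟨φ, hφ0⟩ := CanonPhi.exists_phi hj.2 hP hO1
  have hφ : ∀ (U : Y.Opens) (hU : IsAffineOpen U) (e : Γ(E, U)),
      Reads lam U hU (p ⁻¹ᵁ U) (up p O1 U (φ.app U e)) (jj 𝒮.toQCAlg j U e) 1 :=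
    fun U hU e => ProjBundleUP.reads_of_fr (d := 1) U hU _ (hj.2 U hU e) _ (hφ0 U hU e)
  let s : (Scheme.Modules.pullback g).obj E ⟶ L :=
    (pullbackCongr hip).inv.app E ≫ (pullbackComp i p).inv.app E ≫
      (Scheme.Modules.pullback i).map
        (((pullbackPushforwardAdjunction p).homEquiv E O1).symm φ) ≫ eL.symm.hom
  exact ⟨φ, hφ, eL.symm, s, fun U _ e => pull_of_compat i p g hip φ eL.symm.hom s rfl U e⟩

end Data

theorem presheaf_map_eq {X : Scheme.{u}} {A B C : X.Opens} (m₁ : op A ⟶ op C) (m₂ : op A ⟶ op B)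
    (m₃ : op B ⟶ op C) (z : Γ(X, A)) :
    (X.presheaf.map m₁).hom z = (X.presheaf.map m₃).hom ((X.presheaf.map m₂).hom z) := by
  have h : m₁ = m₂ ≫ m₃ := Subsingleton.elim _ _
  rw [h, Functor.map_comp]
  rfl

section Lin

variable {S Q : Scheme.{u}} {F : S.Modules} [F.IsQuasicoherent]
  {𝒯 : RelProj.QCGrAlg S} {k : F ⟶ 𝒯.toModule} (hk : RelProj.IsGrSymAlg F 𝒯 k) {pQ : Q ⟶ S}
  {chartQ : ∀ (U : S.Opens) (hU : IsAffineOpen U),
    ((pQ ⁻¹ᵁ U : Q.Opens) : Scheme.{u}) ≅ Proj (𝒯.deg U hU)}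
  {O1Q : Q.Modules}
  {lamQ : ∀ (U : S.Opens) (hU : IsAffineOpen U),
    O1Q ⟶ (Scheme.Modules.pushforward (RelProj.emb pQ chartQ U hU)).obj
      (GrTwist.twist (𝒯.deg U hU) 1)}
  (hO1Q : RelProj.IsRelTwist 𝒯 pQ chartQ 1 O1Q lamQ)
  {φQ : F ⟶ (pushforward pQ).obj O1Q}
  (hφQ : ∀ (U : S.Opens) (hU : IsAffineOpen U) (f : Γ(F, U)),
    Reads lamQ U hU (pQ ⁻¹ᵁ U) (up pQ O1Q U (φQ.app U f)) (jj 𝒯.toQCAlg k U f) 1)

include hk hO1Q hφQ in
theorem isGenAt_phi (U : S.Opens) (hU : IsAffineOpen U) (e : Γ(F, U)) :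
    IsGenAt O1Q (AA k chartQ U hU e)
      (res O1Q (AA_le k chartQ U hU e) (up pQ O1Q U (φQ.app U e))) := by
  have := isGen_phi hk hO1Q hφQ U hU e (AA k chartQ U hU e) le_rfl
  rwa [res_self] at this

include hk hO1Q hφQ in
theorem cc_add (U : S.Opens) (hU : IsAffineOpen U) (e f₁ f₂ : Γ(F, U)) :
    cc hk chartQ U hU e (f₁ + f₂) = cc hk chartQ U hU e f₁ + cc hk chartQ U hU e f₂ := by
  apply (isGenAt_phi hk hO1Q hφQ U hU e).smul_inj
  rw [add_smul, ← phi_rel hk hO1Q hφQ U hU e f₁, ← phi_rel hk hO1Q hφQ U hU e f₂,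
    ← phi_rel hk hO1Q hφQ U hU e (f₁ + f₂), QCExact.app_add]
  exact QCExact.res_add O1Q _ _ _

include hk hO1Q hφQ in
theorem cc_smul (U : S.Opens) (hU : IsAffineOpen U) (e f : Γ(F, U)) (b : Γ(S, U)) :
    cc hk chartQ U hU e (b • f) =
      (pQ.appLE U (AA k chartQ U hU e) (AA_le k chartQ U hU e)).hom b *
        cc hk chartQ U hU e f := by
  apply (isGenAt_phi hk hO1Q hφQ U hU e).smul_inj
  rw [mul_smul, ← phi_rel hk hO1Q hφQ U hU e f, ← phi_rel hk hO1Q hφQ U hU e (b • f),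
    Scheme.Modules.Hom.app_smul]
  exact res_smul O1Q (AA_le k chartQ U hU e) (pQ.app U b) (up pQ O1Q U (φQ.app U f))

include hk hO1Q hφQ in
theorem cc_zero (U : S.Opens) (hU : IsAffineOpen U) (e : Γ(F, U)) :
    cc hk chartQ U hU e 0 = 0 := by
  have h := cc_add hk hO1Q hφQ U hU e 0 0
  rw [add_zero] at h
  simpa using h

end Lin

section Affine

variable {S Q X : Scheme.{u}} {F : S.Modules} [F.IsQuasicoherent]
  {𝒯 : RelProj.QCGrAlg S} {k : F ⟶ 𝒯.toModule} (hk : RelProj.IsGrSymAlg F 𝒯 k) {pQ : Q ⟶ S}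
  {chartQ : ∀ (U : S.Opens) (hU : IsAffineOpen U),
    ((pQ ⁻¹ᵁ U : Q.Opens) : Scheme.{u}) ≅ Proj (𝒯.deg U hU)}
  (hQ : RelProj.IsRelProj 𝒯 pQ chartQ) {O1Q : Q.Modules}
  {lamQ : ∀ (U : S.Opens) (hU : IsAffineOpen U),
    O1Q ⟶ (Scheme.Modules.pushforward (RelProj.emb pQ chartQ U hU)).obj
      (GrTwist.twist (𝒯.deg U hU) 1)}
  (hO1Q : RelProj.IsRelTwist 𝒯 pQ chartQ 1 O1Q lamQ)
  {φQ : F ⟶ (pushforward pQ).obj O1Q}
  (hφQ : ∀ (U : S.Opens) (hU : IsAffineOpen U) (f : Γ(F, U)),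
    Reads lamQ U hU (pQ ⁻¹ᵁ U) (up pQ O1Q U (φQ.app U f)) (jj 𝒯.toQCAlg k U f) 1)
  (g : X ⟶ S) {N : X.Modules} (s : (Scheme.Modules.pullback g).obj F ⟶ N)
  (ς : X ⟶ Q) (hς : ς ≫ pQ = g) (τQ : (Scheme.Modules.pullback ς).obj O1Q ≅ N)
  (hcQ : ∀ (U : S.Opens), IsAffineOpen U → ∀ f : Γ(F, U),
    τQ.hom.app (g ⁻¹ᵁ U) (res _ (preimage_le ς pQ g hς U)
      (pull ς O1Q (pQ ⁻¹ᵁ U) (up pQ O1Q U (φQ.app U f)))) =
      s.app (g ⁻¹ᵁ U) (pull g F U f))

include hk hQ hO1Q hφQ hcQ in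
/-- over an affine base, an immersion into the projective bundle of a module of finite type
gives very ampleness data in chart form -/
theorem isVA'_of_immersion [IsAffine S] [F.IsFiniteType] [IsImmersion ς] :
    VAChart.IsVA' g N := by
  classical
  have htop : IsAffineOpen (⊤ : S.Opens) := isAffineOpen_top S
  haveI : Module.Finite Γ(S, ⊤) Γ(F, ⊤) := QCProps.finite_sections F htop
  obtain ⟨G, hG⟩ := (Module.Finite.fg_top : (⊤ : Submodule Γ(S, ⊤) Γ(F, ⊤)).FG)
  let κ := {x // x ∈ G}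
  let fgen : κ → Γ(F, ⊤) := Subtype.val
  have hle0 : (⊤ : X.Opens) ≤ g ⁻¹ᵁ ⊤ := fun _ _ => trivial
  obtain ⟨t, ht⟩ : ∃ t : κ → Γ(N, ⊤),
      ∀ k', t k' = res N hle0 (s.app (g ⁻¹ᵁ ⊤) (pull g F ⊤ (fgen k'))) := ⟨_, fun _ => rfl⟩
  have hs : ∀ k', s.app (g ⁻¹ᵁ ⊤) (pull g F ⊤ (fgen k')) = res N le_top (t k') := by
    intro k'
    rw [ht, res_res, res_self]
  have hspan : ∀ f : Γ(F, ⊤), f ∈ Submodule.span Γ(S, ⊤) (Set.range fgen) := by
    intro f
    have h0 : Set.range fgen = (G : Set Γ(F, ⊤)) := Subtype.range_val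
    rw [h0, hG]
    trivial
  -- the standard opens cover
  have hcov : ∀ x : X, ∃ k' : κ, x ∈ ς ⁻¹ᵁ AA k chartQ ⊤ htop (fgen k') := by
    intro x
    have hpx : pQ (ς x) ∈ (⊤ : S.Opens) := trivial
    obtain ⟨y, hy⟩ := ProjQMap.exists_emb_eq pQ chartQ ⊤ htop (ς x) hpx
    by_contra hcon
    push_neg at hcon
    have hall : ∀ k', jj 𝒯.toQCAlg k ⊤ (fgen k') ∈ y.asHomogeneousIdeal.toIdeal := by
      intro k'
      by_contra hk'
      exact hcon k' ⟨y, hk', hy⟩
    have hall' : ∀ f : Γ(F, ⊤), jj 𝒯.toQCAlg k ⊤ f ∈ y.asHomogeneousIdeal.toIdeal := by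
      intro f
      refine Submodule.span_induction
        (p := fun f _ => jj 𝒯.toQCAlg k ⊤ f ∈ y.asHomogeneousIdeal.toIdeal) ?_ ?_ ?_ ?_ (hspan f)
      · rintro _ ⟨k', rfl⟩
        exact hall k'
      · have h := jj_add 𝒯.toQCAlg k ⊤ (0 : Γ(F, ⊤)) 0
        rw [add_zero] at h
        have h0 : jj 𝒯.toQCAlg k ⊤ (0 : Γ(F, ⊤)) = 0 := by simpa using h
        rw [h0]
        exact Ideal.zero_mem _
      · intro a b _ _ ha hb
        rw [jj_add]
        exact Ideal.add_mem _ ha hb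
      · intro r a _ ha
        rw [jj_smul]
        exact Ideal.mul_mem_left _ _ ha
    obtain ⟨e, he⟩ := SymGenProj.exists_jj_notMem hk htop y
    exact he (hall' e)
  have hgenQ : ∀ k₀ (W' : X.Opens) (_ : W' ≤ ς ⁻¹ᵁ AA k chartQ ⊤ htop (fgen k₀)),
      IsGenAt N W' (res N le_top (t k₀)) := by
    intro k₀ W' hW'
    have := isGenAt_sigma hk hO1Q hφQ g s ς hς τQ hcQ ⊤ htop (fgen k₀) W' hW'
    rwa [hs, res_res] at this
  have hWloc : ∀ k₀, ς ⁻¹ᵁ AA k chartQ ⊤ htop (fgen k₀) ≤ locus N (t k₀) := by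
    intro k₀
    apply le_genLocus
    intro W' hW'
    rw [InvAmple.sec_globalHom, res_res]
    exact hgenQ k₀ W' hW'
  have hlocW : ∀ k₀, locus N (t k₀) ≤ ς ⁻¹ᵁ AA k chartQ ⊤ htop (fgen k₀) := by
    intro k₀
    have hW₀ : locus N (t k₀) ≤ g ⁻¹ᵁ ⊤ := fun _ _ => trivial
    refine le_preimage_AA_of_isGenAt hk hQ hO1Q hφQ g s ς hς τQ hcQ ⊤ htop (fgen k₀) _ hW₀
      (fun W' hW' => ?_)
    rw [hs, res_res]
    exact isGenAt_of_le N (t k₀) hW'
  refine ⟨κ, inferInstance, t, Set.univ, ?_, ?_⟩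
  · intro x
    obtain ⟨k', hk'⟩ := hcov x
    exact ⟨k', trivial, hWloc k' hk'⟩
  · rintro k₀ -
    let θ₀ : MvPolynomial κ (ULift.{u} ℤ) →+* Γ(Q, AA k chartQ ⊤ htop (fgen k₀)) :=
      MvPolynomial.eval₂Hom
        ((Int.castRingHom _).comp (ULift.ringEquiv : ULift.{u} ℤ ≃+* ℤ).toRingHom)
        (fun k' => cc hk chartQ ⊤ htop (fgen k₀) (fgen k'))
    have hθ₀ : ∀ k', θ₀ (MvPolynomial.X k') = cc hk chartQ ⊤ htop (fgen k₀) (fgen k') :=
      fun k' => MvPolynomial.eval₂Hom_X' _ _ _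
    let π : ((AA k chartQ ⊤ htop (fgen k₀) : Q.Opens) : Scheme.{u}) ⟶
        pullback (VAChart.affTo κ) (specULiftZIsTerminal.from S) :=
      pullback.lift (VAChart.toSpecOfHom _ θ₀) ((AA k chartQ ⊤ htop (fgen k₀)).ι ≫ pQ)
        (specULiftZIsTerminal.hom_ext _ _)
    have hπ1 : π ≫ pullback.fst _ _ = VAChart.toSpecOfHom _ θ₀ := pullback.lift_fst _ _ _
    have hπ2 : π ≫ pullback.snd _ _ = (AA k chartQ ⊤ htop (fgen k₀)).ι ≫ pQ :=
      pullback.lift_snd _ _ _
    have hfac : ς.resLE (AA k chartQ ⊤ htop (fgen k₀))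
        (ς ⁻¹ᵁ AA k chartQ ⊤ htop (fgen k₀)) le_rfl ≫ π =
        X.homOfLE (hWloc k₀) ≫ VAChart.chart g N t k₀ := by
      apply pullback.hom_ext
      · rw [Category.assoc, hπ1, VAChart.resLE_toSpecOfHom, Category.assoc]
        unfold VAChart.chart
        rw [pullback.lift_fst, VAChart.homOfLE_toSpecOfHom]
        congr 1
        apply MvPolynomial.ringHom_ext
        · intro c
          exact congrArg (fun φ => φ c) (VAChart.ulift_int_hom_ext
            (((ς.appLE (AA k chartQ ⊤ htop (fgen k₀)) _ le_rfl).hom.comp θ₀).comp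
              MvPolynomial.C)
            (((rresHom X (hWloc k₀)).comp (VAChart.chartHom N t k₀)).comp MvPolynomial.C))
        · intro k'
          rw [RingHom.comp_apply, RingHom.comp_apply]
          have e2 : VAChart.chartHom N t k₀ (MvPolynomial.X k') = ratio N (t k₀) (t k') := by
            unfold VAChart.chartHom
            rw [MvPolynomial.eval₂Hom_X']
          rw [hθ₀, e2]
          have hrel := sigma_rel hk hO1Q hφQ g s ς hς τQ hcQ ⊤ htop (fgen k₀)
            (fgen k') _ le_rfl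
          rw [hs k', hs k₀, res_res, res_res] at hrel
          have hrat := ratio_smul_res N (t k₀) (t k') (hWloc k₀)
          exact (hgenQ k₀ _ le_rfl).smul_inj (hrel.symm.trans hrat.symm)
      · rw [Category.assoc, hπ2, Scheme.Hom.resLE_comp_ι_assoc, hς, Category.assoc]
        unfold VAChart.chart
        rw [pullback.lift_snd, Scheme.homOfLE_ι_assoc]
    -- the chart of the bundle is a closed subscheme of affine space
    have hAaff : IsAffineOpen (AA k chartQ ⊤ htop (fgen k₀)) :=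
      isAffineOpen_AA hk ⊤ htop (fgen k₀)
    haveI : IsAffine (AA k chartQ ⊤ htop (fgen k₀)).toScheme := hAaff
    haveI : IsClosedImmersion π := by
      apply IsClosedImmersion.of_surjective_of_isAffine
      let R₀ : Subring Γ(Q, AA k chartQ ⊤ htop (fgen k₀)) :=
        (π.appTop.hom.range).comap (AA k chartQ ⊤ htop (fgen k₀)).topIso.inv.hom
      have hR₀ : R₀ = ⊤ := by
        rw [eq_top_iff, ← VAFin.closure_cc_eq_top hk (chart := chartQ) ⊤ htop (fgen k₀),
          Subring.closure_le]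
        rintro _ ⟨f, rfl⟩
        refine Submodule.span_induction
          (p := fun f _ => cc hk chartQ ⊤ htop (fgen k₀) f ∈ R₀) ?_ ?_ ?_ ?_ (hspan f)
        · rintro _ ⟨k', rfl⟩
          show (AA k chartQ ⊤ htop (fgen k₀)).topIso.inv.hom
            (cc hk chartQ ⊤ htop (fgen k₀) (fgen k')) ∈ π.appTop.hom.range
          refine ⟨(pullback.fst (VAChart.affTo κ) (specULiftZIsTerminal.from S)).appTop.hom
            ((Scheme.ΓSpecIso _).inv.hom (MvPolynomial.X k')), ?_⟩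
          have h1 : (π ≫ pullback.fst _ _).appTop = (VAChart.toSpecOfHom _ θ₀).appTop := by
            rw [hπ1]
          rw [Scheme.Hom.comp_appTop, VAChart.toSpecOfHom_appTop] at h1
          have h2 := congr($h1 ((Scheme.ΓSpecIso _).inv.hom (MvPolynomial.X k')))
          refine h2.trans ?_
          have h3 : (Scheme.ΓSpecIso (CommRingCat.of (MvPolynomial κ (ULift.{u} ℤ)))).hom.hom
              ((Scheme.ΓSpecIso (CommRingCat.of (MvPolynomial κ (ULift.{u} ℤ)))).inv.hom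
                (MvPolynomial.X k')) = MvPolynomial.X k' :=
            congrArg (fun m => m.hom (MvPolynomial.X k'))
              (Scheme.ΓSpecIso (CommRingCat.of (MvPolynomial κ (ULift.{u} ℤ)))).inv_hom_id
          exact congrArg (fun z => (AA k chartQ ⊤ htop (fgen k₀)).topIso.inv.hom z)
            ((congrArg θ₀ h3).trans (hθ₀ k'))
        · rw [cc_zero hk hO1Q hφQ]
          exact R₀.zero_mem
        · intro a b _ _ ha hb
          rw [cc_add hk hO1Q hφQ]
          exact R₀.add_mem ha hb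
        · intro b a _ ha
          rw [cc_smul hk hO1Q hφQ]
          refine R₀.mul_mem ?_ ha
          show (AA k chartQ ⊤ htop (fgen k₀)).topIso.inv.hom
            ((pQ.appLE ⊤ (AA k chartQ ⊤ htop (fgen k₀)) (AA_le k chartQ ⊤ htop (fgen k₀))).hom b) ∈
              π.appTop.hom.range
          refine ⟨(pullback.snd (VAChart.affTo κ) (specULiftZIsTerminal.from S)).appTop.hom b, ?_⟩
          have h1 : (π ≫ pullback.snd _ _).appTop =
              ((AA k chartQ ⊤ htop (fgen k₀)).ι ≫ pQ).appTop := by rw [hπ2]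
          rw [Scheme.Hom.comp_appTop, Scheme.Hom.comp_appTop] at h1
          have h2 := congr($h1 b)
          refine h2.trans ?_
          show (Q.presheaf.map _).hom ((pQ.app ⊤).hom b) =
            (Q.presheaf.map _).hom ((Q.presheaf.map _).hom ((pQ.app ⊤).hom b))
          exact presheaf_map_eq _ _ _ _
      intro w
      have hw : (AA k chartQ ⊤ htop (fgen k₀)).topIso.hom.hom w ∈ R₀ := by
        rw [hR₀]
        trivial
      obtain ⟨z, hz⟩ := hw
      refine ⟨z, hz.trans ?_⟩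
      exact congrArg (fun m => m.hom w) (AA k chartQ ⊤ htop (fgen k₀)).topIso.hom_inv_id
    have hchart : VAChart.chart g N t k₀ = X.homOfLE (hlocW k₀) ≫
        ς.resLE (AA k chartQ ⊤ htop (fgen k₀)) (ς ⁻¹ᵁ AA k chartQ ⊤ htop (fgen k₀)) le_rfl ≫ π := by
      rw [hfac, ← Category.assoc, Scheme.homOfLE_homOfLE]
      have : X.homOfLE ((hlocW k₀).trans (hWloc k₀)) = 𝟙 _ := Scheme.homOfLE_rfl _ _
      rw [this, Category.id_comp]
    rw [hchart]
    infer_instance

end Affine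

section Main

variable {X S : Scheme.{u}}

/-- **EGA II 4.4.7 (affine base)**: over an affine base, very ampleness relative to a projective
bundle, for a morphism of finite type, implies very ampleness relative to a projective space -/
theorem isRelVeryAmplePn_of_isRelVeryAmple_affine [IsAffine S] (f : X ⟶ S)
    [LocallyOfFiniteType f] [QuasiCompact f] (L : X.Modules) (hLinv : PicF.IsInvertible L)
    (hL : RelProj.IsRelVeryAmple f L) : RelAmple.IsRelVeryAmplePn f L := by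
  obtain ⟨F, 𝒯, k, Q, pQ, chartQ, O1Q, lamQ, ς, hFq, hFft, hk, hQ, hO1Q, hi, hς, ⟨eL⟩⟩ :=
    VAFin.exists_finiteType_immersion f L hLinv hL
  haveI := hFq
  haveI := hFft
  haveI := hi
  obtain ⟨φQ, hφQ, τQ, sQ, hcQ⟩ := exists_data_of f L hk hQ hO1Q ς hς eL
  exact VAChart.isRelVeryAmplePn_of_isVA' f
    (isVA'_of_immersion hk hQ hO1Q hφQ f sQ ς hς τQ hcQ)

end Main

end Groth.Agent.Lib.Helper3.VAFin2
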