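import Groth.Agent.Lib.Helper3.SegreVA
import Groth.Agent.Lib.Helper3.VAFin2

/-!
# The Segre morphism `P(E₁) ×_B P(E₂) → P(E₁ ⊗ E₂)` is an immersion
-/

set_option autoImplicit false
set_option linter.unusedSectionVars false
universe u
open CategoryTheory CategoryTheory.Limits AlgebraicGeometry TopologicalSpace Opposite
open Scheme.Modules
open scoped HomogeneousIdeal

namespace Groth.Agent.Lib.Helper3.Segre

open QCSec InvGen InvTensor InvMonoidal PbBasic PbTensor PullLemmas RelChart SymGen TwistHom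
  ProjBundleUniq LinProj GrModQC HomogeneousLocalization

section gen

variable {X : Scheme.{u}}

/-- if `a ⊗ b` generates `L ⊗ L'` then `b` generates `L'` -/
theorem isGen_of_isGen_tm_right {L L' : X.Modules} (hL : PicF.IsInvertible L)
    (hL' : PicF.IsInvertible L') {W : X.Opens} {a : Γ(L, W)} {b : Γ(L', W)}
    (h : IsGen (CohB1.tensorMod L L') W (tm L L' W a b)) : IsGen L' W b := by
  apply isGen_of_local
  intro x hx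
  obtain ⟨V₁, ℓ, -, hx₁, hV₁W, hg⟩ := exists_affine_isGen_le hL x W hx
  obtain ⟨V, ℓ', -, hxV, hVV₁, hg'⟩ := exists_affine_isGen_le hL' x V₁ hx₁
  have hVW : V ≤ W := hVV₁.trans hV₁W
  have hg₀ := hg.mono hVV₁
  obtain ⟨α, hα⟩ := hg₀.self.exists_coord (res L hVW a)
  obtain ⟨β, hβ⟩ := hg'.self.exists_coord (res L' hVW b)
  have h1 : res (CohB1.tensorMod L L') hVW (tm L L' W a b) =
      (α * β) • tm L L' V (res L hVV₁ ℓ) ℓ' := by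
    rw [tm_res, ← hα, ← hβ, tm_smul_left, tm_smul_right, mul_smul]
  have hgt := isGen_tm hg₀ hg'
  have hgab := (h.mono hVW).self
  rw [h1] at hgab
  obtain ⟨u, hu, hu'⟩ := hgt.self.exists_unit hgab
  have hαβ : α * β = u := hgt.self.smul_inj hu'
  have hβu : IsUnit β := isUnit_of_mul_isUnit_right (hαβ ▸ hu)
  refine ⟨V, hVW, hxV, ?_⟩
  rw [← hβ]
  exact hg'.smul_unit hβu

end gen

section two

variable {Y P Q X : Scheme.{u}} {E F : Y.Modules} [E.IsQuasicoherent] [F.IsQuasicoherent]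
  {𝒮 : RelProj.QCGrAlg Y} {j : E ⟶ 𝒮.toModule} (hj : RelProj.IsGrSymAlg E 𝒮 j) {p : P ⟶ Y}
  {chart : ∀ (U : Y.Opens) (hU : IsAffineOpen U),
    ((p ⁻¹ᵁ U : P.Opens) : Scheme.{u}) ≅ Proj (𝒮.deg U hU)}
  (hP : RelProj.IsRelProj 𝒮 p chart) {O1 : P.Modules}
  {lam : ∀ (U : Y.Opens) (hU : IsAffineOpen U),
    O1 ⟶ (Scheme.Modules.pushforward (RelProj.emb p chart U hU)).obj
      (GrTwist.twist (𝒮.deg U hU) 1)}
  (hO1 : RelProj.IsRelTwist 𝒮 p chart 1 O1 lam)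
  {φ : E ⟶ (pushforward p).obj O1}
  (hφ : ∀ (U : Y.Opens) (hU : IsAffineOpen U) (e : Γ(E, U)),
    Reads lam U hU (p ⁻¹ᵁ U) (up p O1 U (φ.app U e)) (jj 𝒮.toQCAlg j U e) 1)
  {𝒯 : RelProj.QCGrAlg Y} {k : F ⟶ 𝒯.toModule} (hk : RelProj.IsGrSymAlg F 𝒯 k) {q : Q ⟶ Y}
  {chartQ : ∀ (U : Y.Opens) (hU : IsAffineOpen U),
    ((q ⁻¹ᵁ U : Q.Opens) : Scheme.{u}) ≅ Proj (𝒯.deg U hU)}
  (hQ : RelProj.IsRelProj 𝒯 q chartQ) {O1Q : Q.Modules}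
  {lamQ : ∀ (U : Y.Opens) (hU : IsAffineOpen U),
    O1Q ⟶ (Scheme.Modules.pushforward (RelProj.emb q chartQ U hU)).obj
      (GrTwist.twist (𝒯.deg U hU) 1)}
  (hO1Q : RelProj.IsRelTwist 𝒯 q chartQ 1 O1Q lamQ)
  {φQ : F ⟶ (pushforward q).obj O1Q}
  (hφQ : ∀ (U : Y.Opens) (hU : IsAffineOpen U) (f : Γ(F, U)),
    Reads lamQ U hU (q ⁻¹ᵁ U) (up q O1Q U (φQ.app U f)) (jj 𝒯.toQCAlg k U f) 1)
  (g : X ⟶ Y) {L : X.Modules} (s : (Scheme.Modules.pullback g).obj E ⟶ L)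
  (r : X ⟶ P) (hr : r ≫ p = g) (τ : (Scheme.Modules.pullback r).obj O1 ≅ L)
  (hc : ∀ (U : Y.Opens), IsAffineOpen U → ∀ e : Γ(E, U),
    τ.hom.app (g ⁻¹ᵁ U) (res _ (preimage_le r p g hr U)
      (pull r O1 (p ⁻¹ᵁ U) (up p O1 U (φ.app U e)))) = s.app (g ⁻¹ᵁ U) (pull g E U e))
  {M : X.Modules} (t : (Scheme.Modules.pullback g).obj F ⟶ M)
  (ς : X ⟶ Q) (hς : ς ≫ q = g) (τQ : (Scheme.Modules.pullback ς).obj O1Q ≅ M)
  (hcQ : ∀ (U : Y.Opens), IsAffineOpen U → ∀ f : Γ(F, U),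
    τQ.hom.app (g ⁻¹ᵁ U) (res _ (preimage_le ς q g hς U)
      (pull ς O1Q (q ⁻¹ᵁ U) (up q O1Q U (φQ.app U f)))) = t.app (g ⁻¹ᵁ U) (pull g F U f))

include hj hP hO1 hφ hc hk hQ hO1Q hφQ hcQ in
/-- the linear projection from the standard open of `v e` in `Q` to `P`, through which the
restriction of `r` factors -/
theorem exists_linProj (U : Y.Opens) (hU : IsAffineOpen U) (e : Γ(E, U))
    (v : Γ(E, U) →+ Γ(F, U)) (hv : ∀ (a : Γ(Y, U)) (e₁ : Γ(E, U)), v (a • e₁) = a • v e₁)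
    (hle : ς ⁻¹ᵁ AA k chartQ U hU (v e) ≤ r ⁻¹ᵁ AA j chart U hU e)
    (hrel : ∀ (hXV : ς ⁻¹ᵁ AA k chartQ U hU (v e) ≤ g ⁻¹ᵁ U) (e₁ : Γ(E, U))
      (c : Γ(X, ς ⁻¹ᵁ AA k chartQ U hU (v e))),
      res L hXV (s.app (g ⁻¹ᵁ U) (pull g E U e₁)) =
        c • res L hXV (s.app (g ⁻¹ᵁ U) (pull g E U e)) →
      res M hXV (t.app (g ⁻¹ᵁ U) (pull g F U (v e₁))) =
        c • res M hXV (t.app (g ⁻¹ᵁ U) (pull g F U (v e)))) :
    ∃ π : ((AA k chartQ U hU (v e) : Q.Opens) : Scheme.{u}) ⟶ P,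
      π ≫ p = (AA k chartQ U hU (v e)).ι ≫ q ∧
      ς.resLE (AA k chartQ U hU (v e)) (ς ⁻¹ᵁ AA k chartQ U hU (v e)) le_rfl ≫ π =
        (ς ⁻¹ᵁ AA k chartQ U hU (v e)).ι ≫ r := by
  classical
  -- the graded ring map
  obtain ⟨Θ, ⟨hΘ1, hΘ2⟩, -⟩ := SymLocal.existsUnique_lift hj.1 ⟨U, hU⟩
    (T := 𝒯.presheaf.obj (op U)) (st 𝒯.toQCAlg U)
    (AddMonoidHom.mk' (fun e₁ : Γ(E, U) => jj 𝒯.toQCAlg k U (v e₁))
      (fun a b => by rw [map_add, jj_add]))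
    (fun a e₁ => by
      show (jj 𝒯.toQCAlg k U (v (a • e₁)) : 𝒯.presheaf.obj (op U)) = _
      rw [hv]
      exact jj_smul 𝒯.toQCAlg k U a (v e₁))
  have hΘjj : ∀ e₁ : Γ(E, U), Θ (jj 𝒮.toQCAlg j U e₁) = jj 𝒯.toQCAlg k U (v e₁) :=
    fun e₁ => hΘ2 e₁
  have hdeg : ∀ {n : ℕ} {x : 𝒮.presheaf.obj (op U)}, x ∈ 𝒮.deg U hU n →
      Θ x ∈ 𝒯.deg U hU n := by
    intro n x hx
    refine SymQHom.map_mem_of_closure (𝒮.deg U hU) (𝒯.deg U hU) Θ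
      (Set.range (st 𝒮.toQCAlg U) ∪ Set.range (jj 𝒮.toQCAlg j U))
      (G_eq_top 𝒮.toQCAlg j hj.1 hU) ?_ hx
    rintro y (⟨a, rfl⟩ | ⟨e₁, rfl⟩)
    · refine ⟨0, 𝒮.str_mem U hU a, ?_⟩
      rw [show Θ (st 𝒮.toQCAlg U a) = st 𝒯.toQCAlg U a from hΘ1 a]
      exact 𝒯.str_mem U hU a
    · refine ⟨1, hj.2 U hU e₁, ?_⟩
      rw [hΘjj]
      exact hk.2 U hU (v e₁)
  let ΘG : 𝒮.deg U hU →+*ᵍ 𝒯.deg U hU := { Θ with map_mem := fun hx => hdeg hx }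
  have hpow : Submonoid.powers (jj 𝒮.toQCAlg j U e) ≤
      (Submonoid.powers (jj 𝒯.toQCAlg k U (v e))).comap ΘG := by
    rintro _ ⟨n, rfl⟩
    refine ⟨n, ?_⟩
    change _ = Θ (jj 𝒮.toQCAlg j U e ^ n)
    rw [map_pow, hΘjj]
  let θ₀ : Away (𝒮.deg U hU) (jj 𝒮.toQCAlg j U e) →+*
      Away (𝒯.deg U hU) (jj 𝒯.toQCAlg k U (v e)) := HomogeneousLocalization.map ΘG hpow
  have hθ₀ : ∀ e₁ : Γ(E, U),
      θ₀ (Away.mk (𝒮.deg U hU) (jj_mem hj U hU e) 1 (jj 𝒮.toQCAlg j U e₁)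
        (AwayGen.mem_smul_one (jj_mem hj U hU e₁))) =
      Away.mk (𝒯.deg U hU) (jj_mem hk U hU (v e)) 1 (jj 𝒯.toQCAlg k U (v e₁))
        (AwayGen.mem_smul_one (jj_mem hk U hU (v e₁))) := by
    intro e₁
    apply HomogeneousLocalization.val_injective
    exact loc_mk_congr (hΘjj e₁)
      (show Θ (jj 𝒮.toQCAlg j U e ^ 1) = jj 𝒯.toQCAlg k U (v e) ^ 1 by rw [map_pow, hΘjj]) _ _
  -- the projection
  let cQ : Away (𝒯.deg U hU) (jj 𝒯.toQCAlg k U (v e)) →+* Γ(Q, AA k chartQ U hU (v e)) :=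
    (Proj.awayToSection (𝒯.deg U hU) (jj 𝒯.toQCAlg k U (v e)) ≫
      ((RelProj.emb q chartQ U hU).appIso
        (Proj.basicOpen (𝒯.deg U hU) (jj 𝒯.toQCAlg k U (v e)))).inv).hom
  let θ' : CommRingCat.of (Away (𝒮.deg U hU) (jj 𝒮.toQCAlg j U e)) ⟶
      Γ(((AA k chartQ U hU (v e) : Q.Opens) : Scheme.{u}), ⊤) :=
    CommRingCat.ofHom (((AA k chartQ U hU (v e)).topIso.inv.hom.comp cQ).comp θ₀)
  let π : ((AA k chartQ U hU (v e) : Q.Opens) : Scheme.{u}) ⟶ P :=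
    toProj (jj 𝒮.toQCAlg j U e) (hj.2 U hU e) one_pos θ' ≫ RelProj.emb p chart U hU
  have e₂ : (⊤ : ((AA k chartQ U hU (v e) : Q.Opens) : Scheme.{u}).Opens) ≤
      toProj (jj 𝒮.toQCAlg j U e) (hj.2 U hU e) one_pos θ' ⁻¹ᵁ
        Proj.basicOpen (𝒮.deg U hU) (jj 𝒮.toQCAlg j U e) := by
    rw [toProj_preimage]
  have hπtop : (⊤ : ((AA k chartQ U hU (v e) : Q.Opens) : Scheme.{u}).Opens) ≤
      π ⁻¹ᵁ AA j chart U hU e := by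
    intro z hz
    exact ⟨_, e₂ hz, (Scheme.Hom.comp_apply _ _ z).symm⟩
  have e₁' : Proj.basicOpen (𝒮.deg U hU) (jj 𝒮.toQCAlg j U e) ≤
      RelProj.emb p chart U hU ⁻¹ᵁ AA j chart U hU e :=
    (Scheme.Hom.preimage_image_eq _ _).ge
  have hπapp : ∀ z : Away (𝒮.deg U hU) (jj 𝒮.toQCAlg j U e),
      (π.appLE (AA j chart U hU e) ⊤ hπtop).hom (chartFun chart U hU (jj 𝒮.toQCAlg j U e) z) =
        θ'.hom z := by
    intro z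
    have h1 : π.appLE (AA j chart U hU e) ⊤ hπtop =
        (RelProj.emb p chart U hU).appLE (AA j chart U hU e) _ e₁' ≫
          (toProj (jj 𝒮.toQCAlg j U e) (hj.2 U hU e) one_pos θ').appLE _ ⊤ e₂ :=
      (Scheme.Hom.appLE_comp_appLE _ _ _ _ _ e₁' e₂).symm
    rw [h1]
    change ((toProj (jj 𝒮.toQCAlg j U e) (hj.2 U hU e) one_pos θ').appLE _ ⊤ e₂).hom
      ((RelProj.emb p chart U hU).appLE (AA j chart U hU e) _ e₁'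
        (chartFun chart U hU (jj 𝒮.toQCAlg j U e) z)) = _
    rw [chartFun_appLE]
    exact congr($(awayToSection_toProj_appLE (jj 𝒮.toQCAlg j U e) (hj.2 U hU e) one_pos θ' e₂) z)
  -- the factorisation
  have hXVU : ς ⁻¹ᵁ AA k chartQ U hU (v e) ≤ g ⁻¹ᵁ U := pre_le k chartQ g ς hς U hU (v e)
  have hkey : ∀ e₁ : Γ(E, U),
      (ς.appLE (AA k chartQ U hU (v e)) (ς ⁻¹ᵁ AA k chartQ U hU (v e)) le_rfl).hom
        (cc hk chartQ U hU (v e) (v e₁)) =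
      (r.appLE (AA j chart U hU e) (ς ⁻¹ᵁ AA k chartQ U hU (v e)) hle).hom
        (cc hj chart U hU e e₁) := by
    intro e₁
    have h1 := sigma_rel hk hO1Q hφQ g t ς hς τQ hcQ U hU (v e) (v e₁) _ le_rfl
    have h2 := sigma_rel hj hO1 hφ g s r hr τ hc U hU e e₁ _ hle
    have h3 := hrel hXVU e₁ _ h2
    have hg := isGenAt_sigma hk hO1Q hφQ g t ς hς τQ hcQ U hU (v e) _ le_rfl
    exact hg.smul_inj (h1.symm.trans h3)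
  have hfac : ς.resLE (AA k chartQ U hU (v e)) (ς ⁻¹ᵁ AA k chartQ U hU (v e)) le_rfl ≫ π =
      (ς ⁻¹ᵁ AA k chartQ U hU (v e)).ι ≫ r := by
    refine ToProj.hom_ext_of_appLE _ _ (κ := PUnit.{u + 1}) (fun _ => AA j chart U hU e)
      (fun _ => isAffineOpen_AA hj U hU e) (fun _ => ⊤) (fun y => ⟨PUnit.unit, trivial⟩)
      (fun _ => ?_) (fun _ => ?_) (fun _ => ?_)
    · intro y _
      exact hπtop (show (ς.resLE (AA k chartQ U hU (v e)) (ς ⁻¹ᵁ AA k chartQ U hU (v e)) le_rfl) y ∈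
        (⊤ : ((AA k chartQ U hU (v e) : Q.Opens) : Scheme.{u}).Opens) from trivial)
    · intro y _
      exact hle y.2
    · apply CommRingCat.hom_ext
      apply ringHom_ext_AA hj U hU e
      intro e₁
      rw [ToProj.comp_appLE_top _ π (AA j chart U hU e) hπtop,
        ToProj.ι_comp_appLE _ r (AA j chart U hU e) hle]
      change ((ς.resLE (AA k chartQ U hU (v e)) (ς ⁻¹ᵁ AA k chartQ U hU (v e)) le_rfl).app ⊤).hom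
        ((π.appLE (AA j chart U hU e) ⊤ hπtop).hom (chartFun chart U hU (jj 𝒮.toQCAlg j U e)
          (Away.mk (𝒮.deg U hU) (jj_mem hj U hU e) 1 (jj 𝒮.toQCAlg j U e₁)
            (AwayGen.mem_smul_one (jj_mem hj U hU e₁))))) =
        (ς ⁻¹ᵁ AA k chartQ U hU (v e)).topIso.inv.hom
          ((r.appLE (AA j chart U hU e) _ hle).hom (cc hj chart U hU e e₁))
      rw [hπapp, Scheme.Hom.resLE_app_top, ← hkey e₁]
      change (ς ⁻¹ᵁ AA k chartQ U hU (v e)).topIso.inv.hom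
        ((ς.appLE (AA k chartQ U hU (v e)) _ le_rfl).hom
          ((AA k chartQ U hU (v e)).topIso.hom.hom
            ((AA k chartQ U hU (v e)).topIso.inv.hom (cQ (θ₀ _))))) = _
      rw [hθ₀]
      have hid : (AA k chartQ U hU (v e)).topIso.hom.hom
          ((AA k chartQ U hU (v e)).topIso.inv.hom (cQ (Away.mk (𝒯.deg U hU) (jj_mem hk U hU (v e)) 1
            (jj 𝒯.toQCAlg k U (v e₁)) (AwayGen.mem_smul_one (jj_mem hk U hU (v e₁)))))) =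
          cQ (Away.mk (𝒯.deg U hU) (jj_mem hk U hU (v e)) 1
            (jj 𝒯.toQCAlg k U (v e₁)) (AwayGen.mem_smul_one (jj_mem hk U hU (v e₁)))) :=
        congr($((AA k chartQ U hU (v e)).topIso.inv_hom_id) _)
      rw [hid]
      rfl
  have hccP : cc hj chart U hU e e = 1 := by
    apply (VAFin2.isGenAt_phi hj hO1 hφ U hU e).smul_inj
    rw [one_smul, ← phi_rel hj hO1 hφ U hU e e]
  have hccQ : cc hk chartQ U hU (v e) (v e) = 1 := by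
    apply (VAFin2.isGenAt_phi hk hO1Q hφQ U hU (v e)).smul_inj
    rw [one_smul, ← phi_rel hk hO1Q hφQ U hU (v e) (v e)]
  have hover : π ≫ p = (AA k chartQ U hU (v e)).ι ≫ q := by
    have e1 : (⊤ : ((AA k chartQ U hU (v e) : Q.Opens) : Scheme.{u}).Opens) ≤ (π ≫ p) ⁻¹ᵁ U := by
      rw [Scheme.Hom.comp_preimage]
      exact hπtop.trans (π.preimage_mono (AA_le j chart U hU e))
    have e2 : (⊤ : ((AA k chartQ U hU (v e) : Q.Opens) : Scheme.{u}).Opens) ≤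
        ((AA k chartQ U hU (v e)).ι ≫ q) ⁻¹ᵁ U := by
      rw [Scheme.Hom.comp_preimage]
      intro y _
      exact AA_le k chartQ U hU (v e) y.2
    refine ToProj.hom_ext_of_appLE _ _ (κ := PUnit.{u + 1}) (fun _ => U) (fun _ => hU)
      (fun _ => ⊤) (fun y => ⟨PUnit.unit, trivial⟩) (fun _ => e1) (fun _ => e2) (fun _ => ?_)
    rw [← Scheme.Hom.appLE_comp_appLE π p U (AA j chart U hU e) ⊤ (AA_le j chart U hU e) hπtop,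
      ToProj.ι_comp_appLE (AA k chartQ U hU (v e)) q U (AA_le k chartQ U hU (v e)) e2]
    apply CommRingCat.hom_ext
    apply RingHom.ext
    intro a
    change (π.appLE (AA j chart U hU e) ⊤ hπtop).hom
        ((p.appLE U (AA j chart U hU e) (AA_le j chart U hU e)).hom a) =
      (AA k chartQ U hU (v e)).topIso.inv.hom
        ((q.appLE U (AA k chartQ U hU (v e)) (AA_le k chartQ U hU (v e))).hom a)
    have hpa : (p.appLE U (AA j chart U hU e) (AA_le j chart U hU e)).hom a =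
        cc hj chart U hU e (a • e) := by
      rw [VAFin2.cc_smul hj hO1 hφ U hU e e a, hccP, mul_one]
    have hqa : (q.appLE U (AA k chartQ U hU (v e)) (AA_le k chartQ U hU (v e))).hom a =
        cc hk chartQ U hU (v e) (v (a • e)) := by
      rw [hv, VAFin2.cc_smul hk hO1Q hφQ U hU (v e) (v e) a, hccQ, mul_one]
    rw [hpa, hqa]
    change (π.appLE (AA j chart U hU e) ⊤ hπtop).hom (chartFun chart U hU (jj 𝒮.toQCAlg j U e)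
        (Away.mk (𝒮.deg U hU) (jj_mem hj U hU e) 1 (jj 𝒮.toQCAlg j U (a • e))
          (AwayGen.mem_smul_one (jj_mem hj U hU (a • e))))) = _
    rw [hπapp]
    change (AA k chartQ U hU (v e)).topIso.inv.hom (cQ (θ₀ _)) = _
    rw [hθ₀]
    rfl
  exact ⟨π, hover, hfac⟩

end two

end Groth.Agent.Lib.Helper3.Segre

namespace Groth.Agent.Lib.Helper3.Segre

open QCSec InvGen InvTensor InvMonoidal PbBasic PbTensor PullLemmas RelChart SymGen TwistHom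
  ProjBundleUniq LinProj GrModQC HomogeneousLocalization

section sigma

variable {Y P X : Scheme.{u}} {E : Y.Modules} [E.IsQuasicoherent]
  {𝒮 : RelProj.QCGrAlg Y} {j : E ⟶ 𝒮.toModule} (hj : RelProj.IsGrSymAlg E 𝒮 j) {p : P ⟶ Y}
  {chart : ∀ (U : Y.Opens) (hU : IsAffineOpen U),
    ((p ⁻¹ᵁ U : P.Opens) : Scheme.{u}) ≅ Proj (𝒮.deg U hU)}
  {O1 : P.Modules}
  {lam : ∀ (U : Y.Opens) (hU : IsAffineOpen U),
    O1 ⟶ (Scheme.Modules.pushforward (RelProj.emb p chart U hU)).obj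
      (GrTwist.twist (𝒮.deg U hU) 1)}
  (hO1 : RelProj.IsRelTwist 𝒮 p chart 1 O1 lam)
  {φ : E ⟶ (pushforward p).obj O1}
  (hφ : ∀ (U : Y.Opens) (hU : IsAffineOpen U) (e : Γ(E, U)),
    Reads lam U hU (p ⁻¹ᵁ U) (up p O1 U (φ.app U e)) (jj 𝒮.toQCAlg j U e) 1)

include hj hO1 hφ in
/-- the canonical quotient `g^*E → r^*O(1)` attached to a morphism `r` into `P(E)` -/
theorem exists_sigma (g : X ⟶ Y) (r : X ⟶ P) (hr : r ≫ p = g) :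
    ∃ s : (Scheme.Modules.pullback g).obj E ⟶ (Scheme.Modules.pullback r).obj O1, Epi s ∧
      ∀ (U : Y.Opens), IsAffineOpen U → ∀ e : Γ(E, U),
        (Iso.refl ((Scheme.Modules.pullback r).obj O1)).hom.app (g ⁻¹ᵁ U)
          (res _ (preimage_le r p g hr U)
            (pull r O1 (p ⁻¹ᵁ U) (up p O1 U (φ.app U e)))) = s.app (g ⁻¹ᵁ U) (pull g E U e) := by
  classical
  let s : (Scheme.Modules.pullback g).obj E ⟶ (Scheme.Modules.pullback r).obj O1 :=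
    (pullbackCongr hr).inv.app E ≫ (pullbackComp r p).inv.app E ≫
      (Scheme.Modules.pullback r).map
        (((pullbackPushforwardAdjunction p).homEquiv E O1).symm φ) ≫
      (Iso.refl ((Scheme.Modules.pullback r).obj O1)).hom
  have hc : ∀ (U : Y.Opens), IsAffineOpen U → ∀ e : Γ(E, U),
      (Iso.refl ((Scheme.Modules.pullback r).obj O1)).hom.app (g ⁻¹ᵁ U)
        (res _ (preimage_le r p g hr U)
          (pull r O1 (p ⁻¹ᵁ U) (up p O1 U (φ.app U e)))) = s.app (g ⁻¹ᵁ U) (pull g E U e) :=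
    fun U _ e => pull_of_compat r p g hr φ (Iso.refl _).hom s rfl U e
  refine ⟨s, ?_, hc⟩
  apply epi_of_isGen
  intro x
  obtain ⟨U, hU, hxU⟩ := ProjQMap.exists_affine_mem (g x)
  have hpx : p (r x) ∈ U := by
    rw [← Scheme.Hom.comp_apply, hr]
    exact hxU
  obtain ⟨y, hy⟩ := ProjQMap.exists_emb_eq p chart U hU (r x) hpx
  obtain ⟨e, he⟩ := SymGenProj.exists_jj_notMem hj hU y
  have hx1 : x ∈ r ⁻¹ᵁ AA j chart U hU e := ⟨y, he, hy⟩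
  refine ⟨r ⁻¹ᵁ AA j chart U hU e, res _ (pre_le j chart g r hr U hU e) (pull g E U e), hx1, ?_⟩
  rw [QCExact.app_res']
  intro W hW
  rw [res_res]
  exact isGenAt_sigma hj hO1 hφ g s r hr (Iso.refl _) hc U hU e W hW

end sigma

section main

variable {B P₁ P₂ Q X : Scheme.{u}} {E₁ E₂ : B.Modules} [E₁.IsQuasicoherent]
  [E₂.IsQuasicoherent]
  {𝒮₁ : RelProj.QCGrAlg B} {j₁ : E₁ ⟶ 𝒮₁.toModule} (hj₁ : RelProj.IsGrSymAlg E₁ 𝒮₁ j₁)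
  {p₁ : P₁ ⟶ B}
  {chart₁ : ∀ (U : B.Opens) (hU : IsAffineOpen U),
    ((p₁ ⁻¹ᵁ U : P₁.Opens) : Scheme.{u}) ≅ Proj (𝒮₁.deg U hU)}
  (hP₁ : RelProj.IsRelProj 𝒮₁ p₁ chart₁) {O1₁ : P₁.Modules}
  {lam₁ : ∀ (U : B.Opens) (hU : IsAffineOpen U),
    O1₁ ⟶ (Scheme.Modules.pushforward (RelProj.emb p₁ chart₁ U hU)).obj
      (GrTwist.twist (𝒮₁.deg U hU) 1)}
  (hO1₁ : RelProj.IsRelTwist 𝒮₁ p₁ chart₁ 1 O1₁ lam₁)
  {𝒮₂ : RelProj.QCGrAlg B} {j₂ : E₂ ⟶ 𝒮₂.toModule} (hj₂ : RelProj.IsGrSymAlg E₂ 𝒮₂ j₂)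
  {p₂ : P₂ ⟶ B}
  {chart₂ : ∀ (U : B.Opens) (hU : IsAffineOpen U),
    ((p₂ ⁻¹ᵁ U : P₂.Opens) : Scheme.{u}) ≅ Proj (𝒮₂.deg U hU)}
  (hP₂ : RelProj.IsRelProj 𝒮₂ p₂ chart₂) {O1₂ : P₂.Modules}
  {lam₂ : ∀ (U : B.Opens) (hU : IsAffineOpen U),
    O1₂ ⟶ (Scheme.Modules.pushforward (RelProj.emb p₂ chart₂ U hU)).obj
      (GrTwist.twist (𝒮₂.deg U hU) 1)}
  (hO1₂ : RelProj.IsRelTwist 𝒮₂ p₂ chart₂ 1 O1₂ lam₂)
  {𝒯 : RelProj.QCGrAlg B} {k : CohB1.tensorMod E₁ E₂ ⟶ 𝒯.toModule}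
  (hk : RelProj.IsGrSymAlg (CohB1.tensorMod E₁ E₂) 𝒯 k) {q : Q ⟶ B}
  {chartQ : ∀ (U : B.Opens) (hU : IsAffineOpen U),
    ((q ⁻¹ᵁ U : Q.Opens) : Scheme.{u}) ≅ Proj (𝒯.deg U hU)}
  (hQ : RelProj.IsRelProj 𝒯 q chartQ) {O1Q : Q.Modules}
  {lamQ : ∀ (U : B.Opens) (hU : IsAffineOpen U),
    O1Q ⟶ (Scheme.Modules.pushforward (RelProj.emb q chartQ U hU)).obj
      (GrTwist.twist (𝒯.deg U hU) 1)}
  (hO1Q : RelProj.IsRelTwist 𝒯 q chartQ 1 O1Q lamQ)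

include hj₁ hP₁ hO1₁ hj₂ hP₂ hO1₂ hk hQ hO1Q in
/-- **Segre**: a pair of morphisms into `P(E₁)` and `P(E₂)` which jointly form an immersion
into the fibre product induces an immersion into `P(E₁ ⊗ E₂)`, and the fundamental sheaf pulls
back to the tensor product of the inverse images of the fundamental sheaves -/
theorem exists_segre (g : X ⟶ B) (r₁ : X ⟶ P₁) (r₂ : X ⟶ P₂) (hr₁ : r₁ ≫ p₁ = g)
    (hr₂ : r₂ ≫ p₂ = g) [IsImmersion (pullback.lift r₁ r₂ (hr₁.trans hr₂.symm))] :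
    ∃ ς : X ⟶ Q, IsImmersion ς ∧ ς ≫ q = g ∧
      Nonempty ((Scheme.Modules.pullback ς).obj O1Q ≅
        CohB1.tensorMod ((Scheme.Modules.pullback r₁).obj O1₁)
          ((Scheme.Modules.pullback r₂).obj O1₂)) := by
  classical
  haveI hF : (CohB1.tensorMod E₁ E₂).IsQuasicoherent :=
    Groth.Agent.Lib.Helper17.TensorSec.isQuasicoherent_tensorMod E₁ E₂
  have hO1i₁ : PicF.IsInvertible O1₁ :=
    GrTwistGen.isInvertible_of_isRelTwist 𝒮₁ p₁ chart₁ (SymGenProj.isGenDegOne hj₁) _ O1₁ lam₁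
      hO1₁.bijective
  have hO1i₂ : PicF.IsInvertible O1₂ :=
    GrTwistGen.isInvertible_of_isRelTwist 𝒮₂ p₂ chart₂ (SymGenProj.isGenDegOne hj₂) _ O1₂ lam₂
      hO1₂.bijective
  have hL₁ : PicF.IsInvertible ((Scheme.Modules.pullback r₁).obj O1₁) :=
    isInvertible_pullback r₁ hO1i₁
  have hL₂ : PicF.IsInvertible ((Scheme.Modules.pullback r₂).obj O1₂) :=
    isInvertible_pullback r₂ hO1i₂
  obtain ⟨φ₁, hφ₁0⟩ := CanonPhi.exists_phi hj₁.2 hP₁ hO1₁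
  have hφ₁ : ∀ (U : B.Opens) (hU : IsAffineOpen U) (e : Γ(E₁, U)),
      Reads lam₁ U hU (p₁ ⁻¹ᵁ U) (up p₁ O1₁ U (φ₁.app U e)) (jj 𝒮₁.toQCAlg j₁ U e) 1 :=
    fun U hU e => ProjBundleUP.reads_of_fr (d := 1) U hU _ (hj₁.2 U hU e) _ (hφ₁0 U hU e)
  obtain ⟨φ₂, hφ₂0⟩ := CanonPhi.exists_phi hj₂.2 hP₂ hO1₂
  have hφ₂ : ∀ (U : B.Opens) (hU : IsAffineOpen U) (e : Γ(E₂, U)),
      Reads lam₂ U hU (p₂ ⁻¹ᵁ U) (up p₂ O1₂ U (φ₂.app U e)) (jj 𝒮₂.toQCAlg j₂ U e) 1 :=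
    fun U hU e => ProjBundleUP.reads_of_fr (d := 1) U hU _ (hj₂.2 U hU e) _ (hφ₂0 U hU e)
  obtain ⟨φQ, hφQ0⟩ := CanonPhi.exists_phi hk.2 hQ hO1Q
  have hφQ : ∀ (U : B.Opens) (hU : IsAffineOpen U) (f : Γ(CohB1.tensorMod E₁ E₂, U)),
      Reads lamQ U hU (q ⁻¹ᵁ U) (up q O1Q U (φQ.app U f)) (jj 𝒯.toQCAlg k U f) 1 :=
    fun U hU f => ProjBundleUP.reads_of_fr (d := 1) U hU _ (hk.2 U hU f) _ (hφQ0 U hU f)
  obtain ⟨s₁, hs₁, hc₁⟩ := exists_sigma hj₁ hO1₁ hφ₁ g r₁ hr₁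
  obtain ⟨s₂, hs₂, hc₂⟩ := exists_sigma hj₂ hO1₂ hφ₂ g r₂ hr₂
  -- the quotient
  let t : (Scheme.Modules.pullback g).obj (CohB1.tensorMod E₁ E₂) ⟶
      CohB1.tensorMod ((Scheme.Modules.pullback r₁).obj O1₁)
        ((Scheme.Modules.pullback r₂).obj O1₂) :=
    delta g E₁ E₂ ≫ tensorMap s₁ s₂
  have ht : ∀ (U : B.Opens) (e : Γ(E₁, U)) (e' : Γ(E₂, U)),
      t.app (g ⁻¹ᵁ U) (pull g _ U (tm E₁ E₂ U e e')) =
        tm _ _ (g ⁻¹ᵁ U) (s₁.app (g ⁻¹ᵁ U) (pull g E₁ U e))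
          (s₂.app (g ⁻¹ᵁ U) (pull g E₂ U e')) := by
    intro U e e'
    change (tensorMap s₁ s₂).app _ ((delta g E₁ E₂).app _ _) = _
    rw [delta_pull_tm, tensorMap_tm]
  -- local generators
  have hloc : ∀ x : X, ∃ (U : B.Opens) (hU : IsAffineOpen U) (e₁ : Γ(E₁, U)) (e₂ : Γ(E₂, U)),
      x ∈ r₁ ⁻¹ᵁ AA j₁ chart₁ U hU e₁ ∧ x ∈ r₂ ⁻¹ᵁ AA j₂ chart₂ U hU e₂ := by
    intro x
    obtain ⟨U, hU, hxU⟩ := ProjQMap.exists_affine_mem (g x)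
    have hpx₁ : p₁ (r₁ x) ∈ U := by
      rw [← Scheme.Hom.comp_apply, hr₁]
      exact hxU
    have hpx₂ : p₂ (r₂ x) ∈ U := by
      rw [← Scheme.Hom.comp_apply, hr₂]
      exact hxU
    obtain ⟨y₁, hy₁⟩ := ProjQMap.exists_emb_eq p₁ chart₁ U hU (r₁ x) hpx₁
    obtain ⟨e₁, he₁⟩ := SymGenProj.exists_jj_notMem hj₁ hU y₁
    obtain ⟨y₂, hy₂⟩ := ProjQMap.exists_emb_eq p₂ chart₂ U hU (r₂ x) hpx₂
    obtain ⟨e₂, he₂⟩ := SymGenProj.exists_jj_notMem hj₂ hU y₂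
    exact ⟨U, hU, e₁, e₂, ⟨y₁, he₁, hy₁⟩, ⟨y₂, he₂, hy₂⟩⟩
  have hgenW : ∀ (U : B.Opens) (hU : IsAffineOpen U) (e₁ : Γ(E₁, U)) (e₂ : Γ(E₂, U))
      (hWU : r₁ ⁻¹ᵁ AA j₁ chart₁ U hU e₁ ⊓ r₂ ⁻¹ᵁ AA j₂ chart₂ U hU e₂ ≤ g ⁻¹ᵁ U),
      IsGen (CohB1.tensorMod ((Scheme.Modules.pullback r₁).obj O1₁)
        ((Scheme.Modules.pullback r₂).obj O1₂))
        (r₁ ⁻¹ᵁ AA j₁ chart₁ U hU e₁ ⊓ r₂ ⁻¹ᵁ AA j₂ chart₂ U hU e₂)
        (res _ hWU (t.app (g ⁻¹ᵁ U) (pull g _ U (tm E₁ E₂ U e₁ e₂)))) := by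
    intro U hU e₁ e₂ hWU
    rw [ht, tm_res]
    refine isGen_tm ?_ ?_
    · intro W' hW'
      rw [res_res]
      exact isGenAt_sigma hj₁ hO1₁ hφ₁ g s₁ r₁ hr₁ (Iso.refl _) hc₁ U hU e₁ W'
        (hW'.trans inf_le_left)
    · intro W' hW'
      rw [res_res]
      exact isGenAt_sigma hj₂ hO1₂ hφ₂ g s₂ r₂ hr₂ (Iso.refl _) hc₂ U hU e₂ W'
        (hW'.trans inf_le_right)
  have hWU' : ∀ (U : B.Opens) (hU : IsAffineOpen U) (e₁ : Γ(E₁, U)) (e₂ : Γ(E₂, U)),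
      r₁ ⁻¹ᵁ AA j₁ chart₁ U hU e₁ ⊓ r₂ ⁻¹ᵁ AA j₂ chart₂ U hU e₂ ≤ g ⁻¹ᵁ U :=
    fun U hU e₁ e₂ => inf_le_left.trans (pre_le j₁ chart₁ g r₁ hr₁ U hU e₁)
  haveI : Epi t := by
    apply epi_of_isGen
    intro x
    obtain ⟨U, hU, e₁, e₂, hx₁, hx₂⟩ := hloc x
    refine ⟨r₁ ⁻¹ᵁ AA j₁ chart₁ U hU e₁ ⊓ r₂ ⁻¹ᵁ AA j₂ chart₂ U hU e₂,
      res _ (hWU' U hU e₁ e₂) (pull g _ U (tm E₁ E₂ U e₁ e₂)), ⟨hx₁, hx₂⟩, ?_⟩
    rw [QCExact.app_res']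
    exact hgenW U hU e₁ e₂ (hWU' U hU e₁ e₂)
  obtain ⟨ς, hς, τQ, hτ0⟩ := ProjBundleUP.exists_hom (CohB1.tensorMod E₁ E₂) 𝒯 k hk q chartQ hQ
    O1Q lamQ hO1Q φQ hφQ g _ (isInvertible_tensorMod hL₁ hL₂) t
  have hτc := compat_of_pull_local ς q g hς φQ τQ.hom t hτ0
  have hcQ : ∀ (U : B.Opens), IsAffineOpen U → ∀ f : Γ(CohB1.tensorMod E₁ E₂, U),
      τQ.hom.app (g ⁻¹ᵁ U) (res _ (preimage_le ς q g hς U)
        (pull ς O1Q (q ⁻¹ᵁ U) (up q O1Q U (φQ.app U f)))) = t.app (g ⁻¹ᵁ U) (pull g _ U f) :=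
    fun U _ f => pull_of_compat ς q g hς φQ τQ.hom t hτc U f
  refine ⟨ς, ?_, hς, ⟨τQ⟩⟩
  haveI : MorphismProperty.RespectsRight @IsImmersion @IsOpenImmersion :=
    ⟨fun i hi f hf => by
      haveI := hi
      haveI := hf
      exact (inferInstance : IsImmersion (f ≫ i))⟩
  haveI : MorphismProperty.HasOfPostcompProperty @IsImmersion @IsOpenImmersion :=
    ⟨fun f g _ hfg => by
      haveI := hfg
      exact IsImmersion.of_comp f g⟩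
  apply IsZariskiLocalAtTarget.of_forall_source_exists_preimage (P := @IsImmersion) ς
  intro x
  obtain ⟨U, hU, e₁, e₂, hx₁, hx₂⟩ := hloc x
  have hxf : x ∈ ς ⁻¹ᵁ AA k chartQ U hU (tm E₁ E₂ U e₁ e₂) :=
    le_preimage_AA_of_isGenAt hk hQ hO1Q hφQ g t ς hς τQ hcQ U hU (tm E₁ E₂ U e₁ e₂) _
      (hWU' U hU e₁ e₂) (fun W' h => by
        have := hgenW U hU e₁ e₂ (hWU' U hU e₁ e₂) W' h
        rwa [res_res] at this) ⟨hx₁, hx₂⟩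
  have h1 : IsGen (CohB1.tensorMod ((Scheme.Modules.pullback r₁).obj O1₁)
      ((Scheme.Modules.pullback r₂).obj O1₂)) (ς ⁻¹ᵁ AA k chartQ U hU (tm E₁ E₂ U e₁ e₂))
      (res _ (pre_le k chartQ g ς hς U hU (tm E₁ E₂ U e₁ e₂))
        (t.app (g ⁻¹ᵁ U) (pull g _ U (tm E₁ E₂ U e₁ e₂)))) := by
    intro W'' hW''
    rw [res_res]
    exact isGenAt_sigma hk hO1Q hφQ g t ς hς τQ hcQ U hU (tm E₁ E₂ U e₁ e₂) W'' hW''
  rw [ht, tm_res] at h1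
  have hle₁ : ς ⁻¹ᵁ AA k chartQ U hU (tm E₁ E₂ U e₁ e₂) ≤ r₁ ⁻¹ᵁ AA j₁ chart₁ U hU e₁ :=
    le_preimage_AA_of_isGenAt hj₁ hP₁ hO1₁ hφ₁ g s₁ r₁ hr₁ (Iso.refl _) hc₁ U hU e₁ _
      (pre_le k chartQ g ς hς U hU (tm E₁ E₂ U e₁ e₂)) (fun W' h => by
        have h2 := SegreVA.isGen_of_isGen_tm hL₁ hL₂ h1 W' h
        rwa [res_res] at h2)
  have hle₂ : ς ⁻¹ᵁ AA k chartQ U hU (tm E₁ E₂ U e₁ e₂) ≤ r₂ ⁻¹ᵁ AA j₂ chart₂ U hU e₂ :=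
    le_preimage_AA_of_isGenAt hj₂ hP₂ hO1₂ hφ₂ g s₂ r₂ hr₂ (Iso.refl _) hc₂ U hU e₂ _
      (pre_le k chartQ g ς hς U hU (tm E₁ E₂ U e₁ e₂)) (fun W' h => by
        have h2 := isGen_of_isGen_tm_right hL₁ hL₂ h1 W' h
        rwa [res_res] at h2)
  obtain ⟨π₁, hπ₁o, hπ₁f⟩ : ∃ π : ((AA k chartQ U hU (tm E₁ E₂ U e₁ e₂) : Q.Opens) :
      Scheme.{u}) ⟶ P₁, π ≫ p₁ = (AA k chartQ U hU (tm E₁ E₂ U e₁ e₂)).ι ≫ q ∧
      ς.resLE (AA k chartQ U hU (tm E₁ E₂ U e₁ e₂))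
        (ς ⁻¹ᵁ AA k chartQ U hU (tm E₁ E₂ U e₁ e₂)) le_rfl ≫ π =
        (ς ⁻¹ᵁ AA k chartQ U hU (tm E₁ E₂ U e₁ e₂)).ι ≫ r₁ :=
    exists_linProj hj₁ hP₁ hO1₁ hφ₁ hk hQ hO1Q hφQ g s₁ r₁ hr₁ (Iso.refl _) hc₁ t ς hς τQ hcQ
      U hU e₁ (AddMonoidHom.mk' (fun a : Γ(E₁, U) => tm E₁ E₂ U a e₂)
        (fun a b => tm_add_left E₁ E₂ U a b e₂))
      (fun a x => tm_smul_left E₁ E₂ U a x e₂) hle₁ (by
        intro hXV e' c hrel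
        change res _ hXV (t.app (g ⁻¹ᵁ U) (pull g _ U (tm E₁ E₂ U e' e₂))) =
          c • res _ hXV (t.app (g ⁻¹ᵁ U) (pull g _ U (tm E₁ E₂ U e₁ e₂)))
        rw [ht, ht, tm_res, tm_res, hrel, tm_smul_left])
  obtain ⟨π₂, hπ₂o, hπ₂f⟩ : ∃ π : ((AA k chartQ U hU (tm E₁ E₂ U e₁ e₂) : Q.Opens) :
      Scheme.{u}) ⟶ P₂, π ≫ p₂ = (AA k chartQ U hU (tm E₁ E₂ U e₁ e₂)).ι ≫ q ∧
      ς.resLE (AA k chartQ U hU (tm E₁ E₂ U e₁ e₂))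
        (ς ⁻¹ᵁ AA k chartQ U hU (tm E₁ E₂ U e₁ e₂)) le_rfl ≫ π =
        (ς ⁻¹ᵁ AA k chartQ U hU (tm E₁ E₂ U e₁ e₂)).ι ≫ r₂ :=
    exists_linProj hj₂ hP₂ hO1₂ hφ₂ hk hQ hO1Q hφQ g s₂ r₂ hr₂ (Iso.refl _) hc₂ t ς hς τQ hcQ
      U hU e₂ (AddMonoidHom.mk' (fun b : Γ(E₂, U) => tm E₁ E₂ U e₁ b)
        (fun a b => tm_add_right E₁ E₂ U e₁ a b))
      (fun a x => tm_smul_right E₁ E₂ U a e₁ x) hle₂ (by
        intro hXV e' c hrel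
        change res _ hXV (t.app (g ⁻¹ᵁ U) (pull g _ U (tm E₁ E₂ U e₁ e'))) =
          c • res _ hXV (t.app (g ⁻¹ᵁ U) (pull g _ U (tm E₁ E₂ U e₁ e₂)))
        rw [ht, ht, tm_res, tm_res, hrel, tm_smul_right])
  refine ⟨AA k chartQ U hU (tm E₁ E₂ U e₁ e₂), hxf, ?_⟩
  have hPi : ς.resLE (AA k chartQ U hU (tm E₁ E₂ U e₁ e₂))
      (ς ⁻¹ᵁ AA k chartQ U hU (tm E₁ E₂ U e₁ e₂)) le_rfl ≫
        pullback.lift π₁ π₂ (hπ₁o.trans hπ₂o.symm) =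
      (ς ⁻¹ᵁ AA k chartQ U hU (tm E₁ E₂ U e₁ e₂)).ι ≫
        pullback.lift r₁ r₂ (hr₁.trans hr₂.symm) := by
    apply pullback.hom_ext
    · rw [Category.assoc, pullback.lift_fst, Category.assoc, pullback.lift_fst, hπ₁f]
    · rw [Category.assoc, pullback.lift_snd, Category.assoc, pullback.lift_snd, hπ₂f]
  haveI : IsImmersion (ς.resLE (AA k chartQ U hU (tm E₁ E₂ U e₁ e₂))
      (ς ⁻¹ᵁ AA k chartQ U hU (tm E₁ E₂ U e₁ e₂)) le_rfl ≫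
        pullback.lift π₁ π₂ (hπ₁o.trans hπ₂o.symm)) := by
    rw [hPi]
    infer_instance
  haveI : IsImmersion (ς.resLE (AA k chartQ U hU (tm E₁ E₂ U e₁ e₂))
      (ς ⁻¹ᵁ AA k chartQ U hU (tm E₁ E₂ U e₁ e₂)) le_rfl) :=
    IsImmersion.of_comp _ (pullback.lift π₁ π₂ (hπ₁o.trans hπ₂o.symm))
  rw [← Scheme.Hom.resLE_comp_ι ς le_rfl]
  infer_instance

end main

end Groth.Agent.Lib.Helper3.Segre
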