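import Groth.Agent.Lib.Helper3.LinProj
import Groth.Agent.Lib.Helper3.TwistIso
import Groth.Agent.Lib.Helper17.TensorSec

/-!
# Tensor products of relatively very ample modules (the Segre argument, through linear
projections)
-/

set_option autoImplicit false
set_option linter.unusedSectionVars false
universe u
open CategoryTheory CategoryTheory.Limits AlgebraicGeometry TopologicalSpace Opposite
open Scheme.Modules
open scoped HomogeneousIdeal

namespace Groth.Agent.Lib.Helper3.SegreVA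

open QCSec InvGen InvTensor InvMonoidal PbBasic PbTensor PullLemmas RelChart SymGen TwistHom
  ProjBundleUniq LinProj

section gen

variable {X : Scheme.{u}}

/-- if `a ⊗ b` generates `L ⊗ L'` then `a` generates `L` -/
theorem isGen_of_isGen_tm {L L' : X.Modules} (hL : PicF.IsInvertible L)
    (hL' : PicF.IsInvertible L') {W : X.Opens} {a : Γ(L, W)} {b : Γ(L', W)}
    (h : IsGen (CohB1.tensorMod L L') W (tm L L' W a b)) : IsGen L W a := by
  apply isGen_of_local
  intro x hx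
  obtain ⟨V₁, ℓ, -, hx₁, hV₁W, hg⟩ := exists_affine_isGen_le hL x W hx
  obtain ⟨V, ℓ', -, hxV, hVV₁, hg'⟩ := exists_affine_isGen_le hL' x V₁ hx₁
  have hVW : V ≤ W := hVV₁.trans hV₁W
  have hg₀ := hg.mono hVV₁
  obtain ⟨α, hα⟩ := hg₀.self.exists_coord (res L hVW a)
  obtain ⟨β, hβ⟩ := hg'.self.exists_coord (res L' hVW b)
  have h1 : res (CohB1.tensorMod L L') hVW (tm L L' W a b) =
      (α * β) • tm L L' V (res L hVV₁ ℓ) ℓ' := by
    rw [tm_res, ← hα, ← hβ, tm_smul_left, tm_smul_right, mul_smul]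
  have hgt := isGen_tm hg₀ hg'
  have hgab := (h.mono hVW).self
  rw [h1] at hgab
  obtain ⟨u, hu, hu'⟩ := hgt.self.exists_unit hgab
  have hαβ : α * β = u := hgt.self.smul_inj hu'
  have hαu : IsUnit α := isUnit_of_mul_isUnit_left (hαβ ▸ hu)
  refine ⟨V, hVW, hxV, ?_⟩
  rw [← hα]
  exact hg₀.smul_unit hαu

end gen

section main

variable {X Y : Scheme.{u}}

/-- a relatively very ample module is a quotient of the inverse image of a quasi-coherent
module -/
theorem exists_epi_of_isRelVeryAmple (g : X ⟶ Y) (L : X.Modules)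
    (hva : RelProj.IsRelVeryAmple g L) :
    ∃ (E : Y.Modules) (_ : E.IsQuasicoherent) (φ : (Scheme.Modules.pullback g).obj E ⟶ L),
      Epi φ := by
  classical
  obtain ⟨E, hE, 𝒮, j, hj, P, p, chart, hP, O1, lam, hO1, i, hi, hip, ⟨eL⟩⟩ := hva
  haveI : E.IsQuasicoherent := hE
  obtain ⟨φ, hφ0⟩ := CanonPhi.exists_phi hj.2 hP hO1
  have hφ : ∀ (U : Y.Opens) (hU : IsAffineOpen U) (e : Γ(E, U)),
      Reads lam U hU (p ⁻¹ᵁ U) (up p O1 U (φ.app U e)) (jj 𝒮.toQCAlg j U e) 1 :=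
    fun U hU e => ProjBundleUP.reads_of_fr (d := 1) U hU _ (hj.2 U hU e) _ (hφ0 U hU e)
  let s : (Scheme.Modules.pullback g).obj E ⟶ L :=
    (pullbackCongr hip).inv.app E ≫ (pullbackComp i p).inv.app E ≫
      (Scheme.Modules.pullback i).map
        (((pullbackPushforwardAdjunction p).homEquiv E O1).symm φ) ≫ eL.symm.hom
  have hc : ∀ (U : Y.Opens), IsAffineOpen U → ∀ e : Γ(E, U),
      eL.symm.hom.app (g ⁻¹ᵁ U) (res _ (preimage_le i p g hip U)
        (pull i O1 (p ⁻¹ᵁ U) (up p O1 U (φ.app U e)))) = s.app (g ⁻¹ᵁ U) (pull g E U e) :=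
    fun U _ e => pull_of_compat i p g hip φ eL.symm.hom s rfl U e
  refine ⟨E, hE, s, ?_⟩
  apply epi_of_isGen
  intro x
  obtain ⟨U, hU, hxU⟩ := ProjQMap.exists_affine_mem (g x)
  have hpx : p (i x) ∈ U := by
    rw [← Scheme.Hom.comp_apply, hip]
    exact hxU
  obtain ⟨y, hy⟩ := ProjQMap.exists_emb_eq p chart U hU (i x) hpx
  obtain ⟨e, he⟩ := SymGenProj.exists_jj_notMem hj hU y
  have hx1 : x ∈ i ⁻¹ᵁ AA j chart U hU e := ⟨y, he, hy⟩
  refine ⟨i ⁻¹ᵁ AA j chart U hU e, res _ (pre_le j chart g i hip U hU e) (pull g E U e), hx1, ?_⟩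
  rw [QCExact.app_res']
  intro W hW
  rw [res_res]
  exact isGenAt_sigma hj hO1 hφ g s i hip eL.symm hc U hU e W hW

/-- **Segre**: the tensor product of a relatively very ample module with an invertible quotient
of the inverse image of a quasi-coherent module is relatively very ample -/
theorem isRelVeryAmple_tensor_of_epi (g : X ⟶ Y) (L L' : X.Modules)
    (hL' : PicF.IsInvertible L') (hva : RelProj.IsRelVeryAmple g L) (E' : Y.Modules)
    [E'.IsQuasicoherent] (φ' : (Scheme.Modules.pullback g).obj E' ⟶ L') [Epi φ'] :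
    RelProj.IsRelVeryAmple g (CohB1.tensorMod L L') := by
  classical
  obtain ⟨E, hE, 𝒮, j, hj, P, p, chart, hP, O1, lam, hO1, i, hi, hip, ⟨eL⟩⟩ := hva
  haveI : E.IsQuasicoherent := hE
  haveI := hi
  have hO1i : PicF.IsInvertible O1 :=
    GrTwistGen.isInvertible_of_isRelTwist 𝒮 p chart (SymGenProj.isGenDegOne hj) _ O1 lam
      hO1.bijective
  have hL : PicF.IsInvertible L :=
    InvAmple.isInvertible_of_iso eL.symm (isInvertible_pullback i hO1i)
  obtain ⟨φ, hφ0⟩ := CanonPhi.exists_phi hj.2 hP hO1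
  have hφ : ∀ (U : Y.Opens) (hU : IsAffineOpen U) (e : Γ(E, U)),
      Reads lam U hU (p ⁻¹ᵁ U) (up p O1 U (φ.app U e)) (jj 𝒮.toQCAlg j U e) 1 :=
    fun U hU e => ProjBundleUP.reads_of_fr (d := 1) U hU _ (hj.2 U hU e) _ (hφ0 U hU e)
  let s : (Scheme.Modules.pullback g).obj E ⟶ L :=
    (pullbackCongr hip).inv.app E ≫ (pullbackComp i p).inv.app E ≫
      (Scheme.Modules.pullback i).map
        (((pullbackPushforwardAdjunction p).homEquiv E O1).symm φ) ≫ eL.symm.hom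
  have hc : ∀ (U : Y.Opens), IsAffineOpen U → ∀ e : Γ(E, U),
      eL.symm.hom.app (g ⁻¹ᵁ U) (res _ (preimage_le i p g hip U)
        (pull i O1 (p ⁻¹ᵁ U) (up p O1 U (φ.app U e)))) = s.app (g ⁻¹ᵁ U) (pull g E U e) :=
    fun U _ e => pull_of_compat i p g hip φ eL.symm.hom s rfl U e
  -- the bundle of `E ⊗ E'`
  haveI hF : (CohB1.tensorMod E E').IsQuasicoherent :=
    Groth.Agent.Lib.Helper17.TensorSec.isQuasicoherent_tensorMod E E'
  obtain ⟨𝒯, k, hk⟩ := SymGr.exists_isGrSymAlg (CohB1.tensorMod E E')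
  obtain ⟨Q, q, chartQ, hQ⟩ := RelProjExist.exists_isRelProj 𝒯
  obtain ⟨O1Q, lamQ, hO1Q⟩ := RelTwistExist.exists_isRelTwist hQ 1
  obtain ⟨φQ, hφQ0⟩ := CanonPhi.exists_phi hk.2 hQ hO1Q
  have hφQ : ∀ (U : Y.Opens) (hU : IsAffineOpen U) (f : Γ(CohB1.tensorMod E E', U)),
      Reads lamQ U hU (q ⁻¹ᵁ U) (up q O1Q U (φQ.app U f)) (jj 𝒯.toQCAlg k U f) 1 :=
    fun U hU f => ProjBundleUP.reads_of_fr (d := 1) U hU _ (hk.2 U hU f) _ (hφQ0 U hU f)
  -- the quotient
  let t : (Scheme.Modules.pullback g).obj (CohB1.tensorMod E E') ⟶ CohB1.tensorMod L L' :=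
    delta g E E' ≫ tensorMap s φ'
  have ht : ∀ (U : Y.Opens) (e : Γ(E, U)) (e' : Γ(E', U)),
      t.app (g ⁻¹ᵁ U) (pull g _ U (tm E E' U e e')) =
        tm L L' (g ⁻¹ᵁ U) (s.app (g ⁻¹ᵁ U) (pull g E U e))
          (φ'.app (g ⁻¹ᵁ U) (pull g E' U e')) := by
    intro U e e'
    change (tensorMap s φ').app _ ((delta g E E').app _ _) = _
    rw [delta_pull_tm, tensorMap_tm]
  -- local generators
  have hloc : ∀ x : X, ∃ (U : Y.Opens) (hU : IsAffineOpen U) (e : Γ(E, U)) (e' : Γ(E', U))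
      (W : X.Opens) (hWU : W ≤ g ⁻¹ᵁ U), x ∈ W ∧ W ≤ i ⁻¹ᵁ AA j chart U hU e ∧
      IsGen (CohB1.tensorMod L L') W
        (res _ hWU (t.app (g ⁻¹ᵁ U) (pull g _ U (tm E E' U e e')))) := by
    intro x
    obtain ⟨U, hU, hxU⟩ := ProjQMap.exists_affine_mem (g x)
    have hpx : p (i x) ∈ U := by
      rw [← Scheme.Hom.comp_apply, hip]
      exact hxU
    obtain ⟨y, hy⟩ := ProjQMap.exists_emb_eq p chart U hU (i x) hpx
    obtain ⟨e, he⟩ := SymGenProj.exists_jj_notMem hj hU y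
    have hx1 : x ∈ i ⁻¹ᵁ AA j chart U hU e := ⟨y, he, hy⟩
    obtain ⟨V', hV', hV'U, e', hxV', hge'⟩ :=
      ProjBundleUP.exists_gen_of_epi g E' hL' φ' x U hU hxU
    have hWU : i ⁻¹ᵁ AA j chart U hU e ⊓ V' ≤ g ⁻¹ᵁ U := inf_le_right.trans hV'U
    refine ⟨U, hU, e, e', i ⁻¹ᵁ AA j chart U hU e ⊓ V', hWU, ⟨hx1, hxV'⟩, inf_le_left, ?_⟩
    rw [ht, tm_res]
    refine isGen_tm ?_ ?_
    · intro W' hW'
      rw [res_res]
      exact isGenAt_sigma hj hO1 hφ g s i hip eL.symm hc U hU e W' (hW'.trans inf_le_left)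
    · have h2 := hge'.mono (inf_le_right : i ⁻¹ᵁ AA j chart U hU e ⊓ V' ≤ V')
      unfold Groth.Agent.Lib.Helper17.UnitBC.unitSec at h2
      rw [QCExact.app_res', res_res] at h2
      exact h2
  haveI : Epi t := by
    apply epi_of_isGen
    intro x
    obtain ⟨U, hU, e, e', W, hWU, hxW, -, hgen⟩ := hloc x
    refine ⟨W, res _ hWU (pull g _ U (tm E E' U e e')), hxW, ?_⟩
    rw [QCExact.app_res']
    exact hgen
  obtain ⟨ς, hς, τQ, hτ0⟩ := ProjBundleUP.exists_hom (CohB1.tensorMod E E') 𝒯 k hk q chartQ hQ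
    O1Q lamQ hO1Q φQ hφQ g (CohB1.tensorMod L L') (isInvertible_tensorMod hL hL') t
  have hτc := compat_of_pull_local ς q g hς φQ τQ.hom t hτ0
  have hcQ : ∀ (U : Y.Opens), IsAffineOpen U → ∀ f : Γ(CohB1.tensorMod E E', U),
      τQ.hom.app (g ⁻¹ᵁ U) (res _ (preimage_le ς q g hς U)
        (pull ς O1Q (q ⁻¹ᵁ U) (up q O1Q U (φQ.app U f)))) = t.app (g ⁻¹ᵁ U) (pull g _ U f) :=
    fun U _ f => pull_of_compat ς q g hς φQ τQ.hom t hτc U f
  haveI : IsImmersion ς := by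
    refine isImmersion_of_linProj hj hP hO1 hφ hk hQ hO1Q hφQ g s i hip eL.symm hc t ς hς τQ hcQ
      (fun x => ?_)
    obtain ⟨U, hU, e, e', W, hWU, hxW, hWA, hgen⟩ := hloc x
    refine ⟨U, hU, e, AddMonoidHom.mk' (fun e₁ : Γ(E, U) => tm E E' U e₁ e')
      (fun a b => tm_add_left E E' U a b e'), fun a e₁ => tm_smul_left E E' U a e₁ e', ?_, ?_, ?_⟩
    · refine le_preimage_AA_of_isGenAt hk hQ hO1Q hφQ g t ς hς τQ hcQ U hU (tm E E' U e e') W hWU
        (fun W' h => ?_) hxW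
      have := hgen W' h
      rwa [res_res] at this
    · refine le_preimage_AA_of_isGenAt hj hP hO1 hφ g s i hip eL.symm hc U hU e _
        (pre_le k chartQ g ς hς U hU (tm E E' U e e')) (fun W' h => ?_)
      have h1 : IsGen (CohB1.tensorMod L L') (ς ⁻¹ᵁ AA k chartQ U hU (tm E E' U e e'))
          (res _ (pre_le k chartQ g ς hς U hU (tm E E' U e e'))
            (t.app (g ⁻¹ᵁ U) (pull g _ U (tm E E' U e e')))) := by
        intro W'' hW''
        rw [res_res]
        exact isGenAt_sigma hk hO1Q hφQ g t ς hς τQ hcQ U hU (tm E E' U e e') W'' hW''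
      rw [ht, tm_res] at h1
      have h2 := isGen_of_isGen_tm hL hL' h1 W' h
      rwa [res_res] at h2
    · intro hXV e₁ c hrel
      change res _ hXV (t.app (g ⁻¹ᵁ U) (pull g _ U (tm E E' U e₁ e'))) =
        c • res _ hXV (t.app (g ⁻¹ᵁ U) (pull g _ U (tm E E' U e e')))
      rw [ht, ht, tm_res, tm_res, hrel, tm_smul_left]
  exact ⟨_, hF, 𝒯, k, hk, Q, q, chartQ, hQ, O1Q, lamQ, hO1Q, ς, inferInstance, hς, ⟨τQ.symm⟩⟩

/-- tensor products of relatively very ample modules -/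
theorem isRelVeryAmple_tensor (g : X ⟶ Y) (L L' : X.Modules) (hL' : PicF.IsInvertible L')
    (hva : RelProj.IsRelVeryAmple g L) (hva' : RelProj.IsRelVeryAmple g L') :
    RelProj.IsRelVeryAmple g (CohB1.tensorMod L L') := by
  obtain ⟨E', hE', φ', hφ'⟩ := exists_epi_of_isRelVeryAmple g L' hva'
  haveI := hE'
  haveI := hφ'
  exact isRelVeryAmple_tensor_of_epi g L L' hL' hva E' φ'

/-- tensor powers of relatively very ample modules -/
theorem isRelVeryAmple_tensorPow (g : X ⟶ Y) (L : X.Modules) (hL : PicF.IsInvertible L)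
    (hva : RelProj.IsRelVeryAmple g L) (n : ℕ) :
    RelProj.IsRelVeryAmple g (CohB1.tensorPow L (n + 1)) := by
  induction n with
  | zero => exact TwistIso.isRelVeryAmple_of_iso g (powOne L) hva
  | succ n ih => exact isRelVeryAmple_tensor g _ L hL ih hva

end main

end Groth.Agent.Lib.Helper3.SegreVA
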