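import Groth.Agent.Lib.Helper3.SubIdeal
import Groth.Agent.Lib.Helper3.QCLim

/-!
# Serre's criterion for affineness (EGA II 5.2.1)
-/

set_option autoImplicit false
universe u
open CategoryTheory CategoryTheory.Limits AlgebraicGeometry TopologicalSpace Opposite
open Scheme.Modules

namespace Groth.Agent.Lib.Helper3.SerreCrit

open QCSec InvGen InvTensor InvMonoidal InvCoh FreeSec PbBasic InvRestrict IdealMod CounitGG AmpleMisc
  GlobGen InvAmple QAffCrit IdealAmple QCExtend SubIdeal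

variable {X : Scheme.{u}}

/-- away from the support, every function lies in the ideal -/
theorem exists_val_eq_of_disjoint (I : X.IdealSheafData) {W : X.Opens}
    (hW : Disjoint (W : Set X) (I.support : Set X)) (g : Γ(X, W)) :
    ∃ t : Γ(ClSub.idealMod I, W), val I t = g := by
  apply exists_val_eq I
  have h1 : I.subschemeι ⁻¹ᵁ W = ⊥ := by
    ext z
    simp only [Opens.coe_bot, Set.mem_empty_iff_false, iff_false]
    intro hz
    exact Set.disjoint_left.mp hW hz (I.range_subschemeι ▸ Set.mem_range_self z)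
  haveI : Subsingleton Γ(I.subscheme, I.subschemeι ⁻¹ᵁ W) := by
    rw [h1]
    exact CommRingCat.subsingleton_of_isTerminal (I.subscheme.sheaf.isTerminalOfEmpty)
  exact Subsingleton.elim _ _

/-- for disjoint closed subschemes `Z` and `V(I)`, the restriction `I ⟶ ι_* O_Z` is an epimorphism -/
theorem epi_ideal_to_closed (I : X.IdealSheafData) {Z : Scheme.{u}} (ι : Z ⟶ X)
    [IsClosedImmersion ι] (hd : Disjoint (Set.range ι) (I.support : Set X)) :
    Epi (ClSub.idealModι I ≫ ClSub.unitToPush ι) := by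
  apply QCExact.epi_of_locally_surjective
  intro W s y hy
  by_cases hyZ : y ∈ Set.range ι
  · have hyI : y ∉ (I.support : Set X) := fun h => Set.disjoint_left.mp hd hyZ h
    let O : X.Opens := W ⊓ ⟨(I.support : Set X)ᶜ, I.support.isClosed.isOpen_compl⟩
    obtain ⟨_, ⟨W', hW', rfl⟩, hyW', hW'O⟩ :=
      X.isBasis_affineOpens.exists_subset_of_mem_open (show y ∈ (O : Set X) from ⟨hy, hyI⟩) O.isOpen
    have hW'W : W' ≤ W := fun z hz => (hW'O hz).1
    obtain ⟨g, hg⟩ := ι.app_surjective W' hW' (res _ hW'W s)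
    obtain ⟨t, ht⟩ := exists_val_eq_of_disjoint I (W := W')
      (Set.disjoint_left.mpr fun z hz => (hW'O hz).2) g
    refine ⟨W', hW'W, hyW', t, ?_⟩
    change (ClSub.unitToPush ι).app W' ((ClSub.idealModι I).app W' t) = _
    have : (ClSub.idealModι I).app W' t = ofFun W' (val I t) := rfl
    rw [this, ht, unitToPush_app]
    exact hg
  · let O : X.Opens := W ⊓ ⟨(Set.range ι)ᶜ, ι.isClosedEmbedding.isClosed_range.isOpen_compl⟩
    refine ⟨O, inf_le_left, ⟨hy, hyZ⟩, 0, ?_⟩
    have h1 : ι ⁻¹ᵁ O = ⊥ := by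
      ext z
      simp only [Opens.coe_bot, Set.mem_empty_iff_false, iff_false]
      intro hz
      exact hz.2 (Set.mem_range_self z)
    haveI : Subsingleton Γ(Z, ι ⁻¹ᵁ O) := by
      rw [h1]
      exact CommRingCat.subsingleton_of_isTerminal (Z.sheaf.isTerminalOfEmpty)
    exact Subsingleton.elim (α := Γ(Z, ι ⁻¹ᵁ O)) _ _

/-- if `ι^♯ f = 1` then `f` does not vanish on `Z` -/
theorem range_subset_basicOpen {Z : Scheme.{u}} (ι : Z ⟶ X) (f : Γ(X, ⊤))
    (hf : ι.app ⊤ f = 1) : Set.range ι ⊆ (X.basicOpen f : Set X) := by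
  rintro _ ⟨z, rfl⟩
  have h1 : ι ⁻¹ᵁ X.basicOpen f = ⊤ := by
    rw [Scheme.preimage_basicOpen, hf, Scheme.basicOpen_of_isUnit _ isUnit_one]
    rfl
  have : z ∈ ι ⁻¹ᵁ X.basicOpen f := by rw [h1]; trivial
  exact this

/-- **Serre's criterion**, abstract form -/
theorem isAffine_of_surjective_sections [CompactSpace X]
    (h1 : ∀ (I : X.IdealSheafData) (x : X), IsClosed ({x} : Set X) → x ∉ (I.support : Set X) →
      Function.Surjective ((ClSub.idealModι I ≫ ClSub.unitToPush (X.fromSpecResidueField x)).app ⊤))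
    (h2 : ∀ (n : ℕ) (f : Fin n → Γ(X, ⊤)), (∀ x : X, ∃ i, x ∈ X.basicOpen (f i)) →
      (1 : Γ(X, ⊤)) ∈ Ideal.span (Set.range f)) :
    IsAffine X := by
  classical
  let s : Set Γ(X, ⊤) := {f | IsAffineOpen (X.basicOpen f)}
  -- closed points
  have step1 : ∀ x : X, IsClosed ({x} : Set X) → ∃ f ∈ s, x ∈ X.basicOpen f := by
    intro x hx
    obtain ⟨U, hU, hxU⟩ := QCProps.exists_affine_nbhd x
    let Z : TopologicalSpace.Closeds X := ⟨(U : Set X)ᶜ, U.isOpen.isClosed_compl⟩
    let I := Scheme.IdealSheafData.vanishingIdeal Z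
    have hsupp : (I.support : Set X) = (U : Set X)ᶜ :=
      Scheme.IdealSheafData.coe_support_vanishingIdeal Z
    obtain ⟨t, ht⟩ := h1 I x hx (by rw [hsupp]; exact fun h => h hxU) (1 : Γ(Spec (X.residueField x), _))
    have ht' : (X.fromSpecResidueField x).app ⊤ (val I t) = 1 := ht
    refine ⟨val I t, ?_, ?_⟩
    · apply isAffineOpen_basicOpen_of_disjoint hU
      rw [← hsupp]
      exact disjoint_basicOpen_val I t
    · apply range_subset_basicOpen _ _ ht'
      rw [Scheme.range_fromSpecResidueField]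
      rfl
  -- all points
  have step2 : ∀ x : X, ∃ f ∈ s, x ∈ X.basicOpen f := by
    by_contra hcon
    push Not at hcon
    obtain ⟨x₀, hx₀⟩ := hcon
    let S : Set X := ⋂ f ∈ s, ((X.basicOpen f : Set X))ᶜ
    have hS : IsClosed S := isClosed_biInter fun f _ => (X.basicOpen f).isOpen.isClosed_compl
    have hne : S.Nonempty := ⟨x₀, Set.mem_iInter₂.mpr fun f hf => hx₀ f hf⟩
    obtain ⟨x, hxS, hxc⟩ := hS.exists_closed_singleton hne
    obtain ⟨f, hf, hxf⟩ := step1 x hxc
    exact (Set.mem_iInter₂.mp hxS f hf) hxf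
  choose f hfs hxf using step2
  obtain ⟨t, -, ht⟩ := isCompact_univ.elim_nhds_subcover (fun x => (X.basicOpen (f x) : Set X))
    (fun x _ => (X.basicOpen (f x)).2.mem_nhds (hxf x))
  let g : Fin t.card → Γ(X, ⊤) := fun i => f (t.equivFin.symm i).1
  have hcov : ∀ x : X, ∃ i, x ∈ X.basicOpen (g i) := by
    intro x
    obtain ⟨y, hy, hxy⟩ := Set.mem_iUnion₂.mp (ht (Set.mem_univ x))
    refine ⟨t.equivFin ⟨y, hy⟩, ?_⟩
    change x ∈ X.basicOpen (f (t.equivFin.symm (t.equivFin ⟨y, hy⟩)).1)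
    rw [Equiv.symm_apply_apply]
    exact hxy
  have h1s := h2 _ g hcov
  apply isAffine_of_isAffineOpen_basicOpen s _ (fun i hi => hi)
  rw [Ideal.eq_top_iff_one]
  refine Ideal.span_mono ?_ h1s
  rintro _ ⟨i, rfl⟩
  exact hfs _

end Groth.Agent.Lib.Helper3.SerreCrit
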