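import Mathlib.Topology.Spectral.Basic
import Mathlib.Topology.Order
import Mathlib.Topology.Compactness.Bases
import Mathlib.Topology.Separation.Basic
import Mathlib.Topology.Irreducible
import Mathlib.Topology.Sober

/-! Powers of the Sierpiński space are spectral. -/

set_option autoImplicit false
open Set Topology Filter TopologicalSpace

namespace Groth.Agent.Lib.Helper3.Sierpinski

variable {I : Type*}

lemma prop_specializes_iff {p q : Prop} : p ⤳ q ↔ (q → p) := by
  rw [specializes_iff_forall_open]
  constructor
  · intro h hq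
    have := h {True} isOpen_singleton_true (by simpa using hq)
    simpa using this
  · intro h s hs hqs
    by_cases hq : q
    · have hp := h hq
      have : p = q := propext ⟨fun _ => hq, fun _ => hp⟩
      rw [this]
      exact hqs
    · have hqF : q = False := eq_false hq
      rw [hqF] at hqs
      have : s ∈ 𝓝 False := hs.mem_nhds hqs
      rw [nhds_false] at this
      rw [Filter.mem_top.1 this]
      trivial

lemma pi_specializes_iff {u v : I → Prop} : v ⤳ u ↔ ∀ i, u i → v i := by
  rw [specializes_pi]
  exact forall_congr' fun i => prop_specializes_iff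

/-- The cylinder of all families that are true on a finite set of indices. -/
def cyl (s : Finset I) : Set (I → Prop) := {u | ∀ i ∈ s, u i}

lemma isOpen_coord (i : I) : IsOpen {u : I → Prop | u i} :=
  continuous_Prop.1 (continuous_apply i)

lemma isOpen_cyl (s : Finset I) : IsOpen (cyl s) := by
  have : cyl s = ⋂ i ∈ s, {u : I → Prop | u i} := by
    ext u
    simp [cyl]
  rw [this]
  exact isOpen_biInter_finset fun i _ => isOpen_coord i

lemma isCompact_cyl (s : Finset I) : IsCompact (cyl s) := by
  classical
  rw [isCompact_iff_finite_subcover]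
  intro ι U hUo hcov
  have hχ : (fun i => i ∈ s) ∈ cyl s := fun i hi => hi
  obtain ⟨α, hα⟩ := Set.mem_iUnion.1 (hcov hχ)
  refine ⟨{α}, fun v hv => ?_⟩
  simp only [Finset.mem_singleton, Set.iUnion_iUnion_eq_left]
  have : v ⤳ (fun i => i ∈ s) := pi_specializes_iff.2 fun i hi => hv i hi
  exact this.mem_open (hUo α) hα

lemma isTopologicalBasis_cyl :
    IsTopologicalBasis (Set.range (cyl : Finset I → Set (I → Prop))) := by
  classical
  refine isTopologicalBasis_of_isOpen_of_nhds ?_ ?_
  · rintro _ ⟨s, rfl⟩
    exact isOpen_cyl s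
  · intro a U haU hU
    obtain ⟨I₀, w, hw, hsub⟩ := isOpen_pi_iff.1 hU a haU
    refine ⟨cyl (I₀.filter fun i => a i), ⟨_, rfl⟩, fun i hi => (Finset.mem_filter.1 hi).2, ?_⟩
    intro v hv
    apply hsub
    intro i hi
    have hi' : i ∈ I₀ := Finset.mem_coe.1 hi
    by_cases hai : a i
    · have hvi : v i := hv i (Finset.mem_filter.2 ⟨hi', hai⟩)
      have : v i = a i := propext ⟨fun _ => hai, fun _ => hvi⟩
      rw [this]
      exact (hw i hi').2
    · have : w i ∈ 𝓝 (a i) := (hw i hi').1.mem_nhds (hw i hi').2
      rw [eq_false hai, nhds_false] at this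
      rw [Filter.mem_top.1 this]
      trivial

lemma cyl_inter [DecidableEq I] (s t : Finset I) : cyl s ∩ cyl t = cyl (s ∪ t) := by
  ext u
  simp [cyl, or_imp, forall_and]

instance spectralSpace_pi_prop (I : Type*) : SpectralSpace (I → Prop) := by
  classical
  have hB := isTopologicalBasis_cyl (I := I)
  have : T0Space (I → Prop) := ⟨fun u v h => funext fun i =>
    propext ⟨pi_specializes_iff.1 h.specializes' i, pi_specializes_iff.1 h.specializes i⟩⟩
  have : PrespectralSpace (I → Prop) := .of_isTopologicalBasis hB (by
    rintro _ ⟨s, rfl⟩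
    exact isCompact_cyl s)
  have : QuasiSeparatedSpace (I → Prop) :=
    QuasiSeparatedSpace.of_isTopologicalBasis (b := cyl) hB (fun s t => by
      rw [cyl_inter]
      exact isCompact_cyl _)
  have : QuasiSober (I → Prop) := by
    constructor
    intro T hTirr hTcl
    refine ⟨fun i => ∃ t ∈ T, t i, ?_⟩
    have hξT : (fun i => ∃ t ∈ T, t i) ∈ T := by
      by_contra hξ
      obtain ⟨_, ⟨s, rfl⟩, hξs, hsub⟩ :=
        hB.exists_subset_of_mem_open (show _ ∈ Tᶜ from hξ) hTcl.isOpen_compl
      have := (isIrreducible_iff_sInter.1 hTirr) (s.image fun i => {u : I → Prop | u i}) ?_ ?_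
      · obtain ⟨t, htT, ht⟩ := this
        refine hsub (a := t) (fun i hi => ?_) htT
        exact ht _ (Finset.mem_coe.2 (Finset.mem_image_of_mem _ hi))
      · intro U hU
        obtain ⟨i, -, rfl⟩ := Finset.mem_image.1 hU
        exact isOpen_coord i
      · intro U hU
        obtain ⟨i, hi, rfl⟩ := Finset.mem_image.1 hU
        obtain ⟨t, htT, hti⟩ := hξs i hi
        exact ⟨t, htT, hti⟩
    show closure {_} = T
    apply le_antisymm
    · exact hTcl.closure_subset_iff.2 (Set.singleton_subset_iff.2 hξT)
    · intro t htT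
      rw [← specializes_iff_mem_closure, pi_specializes_iff]
      exact fun i hti => ⟨t, htT, hti⟩
  exact ⟨⟩

end Groth.Agent.Lib.Helper3.Sierpinski
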