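import Mathlib
import Groth.Prelude.Def_RelProj4

/-! `Spec(g^*A) = Spec(A) ×_S S'` (copy of the proof of S12142 (helper6) as a library lemma). -/

set_option autoImplicit false
universe u
open CategoryTheory CategoryTheory.Limits AlgebraicGeometry TopologicalSpace Opposite
noncomputable section

namespace Groth.Agent.Lib.Helper3.SpecBCQ

theorem isPullback_of_isQBaseChange {S S' : Scheme.{u}} (g : S' ⟶ S)
    (A : RelSpec.QCAlg S) (B : RelSpec.QCAlg S') (u : RelSpec.QHom g A B) (hu : RelSpec.IsQBaseChange u)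
    (h : B.spec ⟶ A.spec) (hh : RelSpec.IsSpecQMap u h) :
    IsPullback h B.π A.π g := by
  classical
  -- an affine open cover of `S'` subordinate to the preimages of the affine opens of `S`
  let J := Σ U : S.affineOpens, {U' : S'.affineOpens // U'.1 ≤ g ⁻¹ᵁ U.1}
  have hcov : ∀ x : S', ∃ (j : J) (y : Spec Γ(S', j.2.1.1)), j.2.1.2.fromSpec y = x := by
    intro x
    obtain ⟨_, ⟨U, hU, rfl⟩, hxU, -⟩ :=
      (S.isBasis_affineOpens).exists_subset_of_mem_open (Set.mem_univ (g x)) isOpen_univ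
    obtain ⟨_, ⟨U', hU', rfl⟩, hxU', hle⟩ :=
      (S'.isBasis_affineOpens).exists_subset_of_mem_open
        (show x ∈ ((g ⁻¹ᵁ U : S'.Opens) : Set S') from hxU) (g ⁻¹ᵁ U).2
    have hx : x ∈ Set.range hU'.fromSpec := by
      rw [hU'.range_fromSpec]
      exact hxU'
    obtain ⟨y, hy⟩ := hx
    exact ⟨⟨⟨U, hU⟩, ⟨⟨U', hU'⟩, hle⟩⟩, y, hy⟩
  let 𝒱 : S'.OpenCover :=
    Scheme.Cover.mkOfCovers (P := @IsOpenImmersion) J (fun j => Spec Γ(S', j.2.1.1))
      (fun j => j.2.1.2.fromSpec) hcov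
  refine (Scheme.isPullback_of_openCover B.π h g A.π 𝒱 fun j => ?_).flip
  obtain ⟨⟨U, hU⟩, ⟨⟨U', hU'⟩, hle⟩⟩ := j
  change IsPullback (pullback.snd B.π hU'.fromSpec) (pullback.fst B.π hU'.fromSpec ≫ h)
    (hU'.fromSpec ≫ g) A.π
  -- the chart squares
  have P1 : IsPullback (Spec.map (B.str.app (op U'))) (B.ι U' hU') hU'.fromSpec B.π :=
    IsOpenImmersion.isPullback _ _ _ _ (B.ι_π U' hU')
      (by rw [hU'.opensRange_fromSpec]; exact B.π_preimage U' hU')
  have PA : IsPullback (Spec.map (A.str.app (op U))) (A.ι U hU) hU.fromSpec A.π :=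
    IsOpenImmersion.isPullback _ _ _ _ (A.ι_π U hU)
      (by rw [hU.opensRange_fromSpec]; exact A.π_preimage U hU)
  have Q : IsPullback (Spec.map (B.str.app (op U'))) (Spec.map (u.appLE U U' hle))
      (Spec.map (g.appLE U U' hle)) (Spec.map (A.str.app (op U))) :=
    isPullback_SpecMap_of_isPushout _ _ _ _ (hu U hU U' hU' hle)
  have P2 : IsPullback (Spec.map (B.str.app (op U'))) (B.ι U' hU' ≫ h) (hU'.fromSpec ≫ g) A.π := by
    have h3 := Q.paste_vert PA
    rw [← hh U hU U' hU' hle, IsAffineOpen.SpecMap_appLE_fromSpec g hU hU' hle] at h3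
    exact h3
  refine P2.of_iso P1.flip.isoPullback (Iso.refl _) (Iso.refl _) (Iso.refl _) ?_ ?_ ?_ ?_
  · rw [Iso.refl_hom, Category.comp_id, IsPullback.isoPullback_hom_snd]
  · rw [Iso.refl_hom, Category.comp_id, IsPullback.isoPullback_hom_fst_assoc]
  · rw [Iso.refl_hom, Iso.refl_hom, Category.comp_id, Category.id_comp]
  · rw [Iso.refl_hom, Iso.refl_hom, Category.comp_id, Category.id_comp]

end Groth.Agent.Lib.Helper3.SpecBCQ
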