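import Mathlib.Topology.Category.TopCat.Limits.Basic
import Mathlib.Topology.Category.TopCat.Limits.Cofiltered
import Mathlib.Topology.Category.TopCat.Limits.Konig
import Mathlib.CategoryTheory.Limits.ConcreteCategory.Basic
import Groth.Agent.Lib.Helper3.SpecTop

/-! Limits of spectral spaces along spectral maps. -/

set_option autoImplicit false
universe u
open CategoryTheory CategoryTheory.Limits Set Topology Filter

namespace Groth.Agent.Lib.Helper3.SpecLimit

open Groth.Agent.Lib.Helper3.ConsTop Groth.Agent.Lib.Helper3.SpecTop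

variable {J : Type u} [SmallCategory J] (F : J ⥤ TopCat.{u}) (c : Cone F)

lemma proj_compat {i j : J} (a : i ⟶ j) (x : c.pt) :
    F.map a (c.π.app i x) = c.π.app j x := by
  rw [← c.w a]; rfl

variable {F c}

lemma point_ext (hc : IsLimit c) {y z : c.pt} (h : ∀ j, c.π.app j y = c.π.app j z) : y = z :=
  Concrete.isLimit_ext F hc y z h

lemma exists_point (hc : IsLimit c) (x : ∀ j, F.obj j)
    (hx : ∀ {i j : J} (a : i ⟶ j), F.map a (x i) = x j) :
    ∃ y : c.pt, ∀ j, c.π.app j y = x j := by
  refine ⟨(hc.conePointUniqueUpToIso (TopCat.limitConeIsLimit.{u, u} F)).inv ⟨x, hx⟩,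
    fun j => ?_⟩
  have := IsLimit.conePointUniqueUpToIso_inv_comp hc (TopCat.limitConeIsLimit.{u, u} F) j
  exact ConcreteCategory.congr_hom this ⟨x, hx⟩

variable (F c)

/-- The limit of the constructible topologies on the point of a cone. -/
@[instance_reducible]
def limCons : TopologicalSpace c.pt :=
  ⨅ j, TopologicalSpace.induced (c.π.app j) (constructibleTopology (F.obj j))

variable {F c}

lemma limCons_le (hF : ∀ j, SpectralSpace (F.obj j)) (hc : IsLimit c) :
    limCons F c ≤ (inferInstance : TopologicalSpace c.pt) := by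
  show _ ≤ c.pt.str
  rw [TopCat.induced_of_isLimit c hc]
  exact iInf_mono fun j => induced_mono cons_le

lemma continuous_proj_limCons (j : J) :
    @Continuous c.pt (F.obj j) (limCons F c) (constructibleTopology (F.obj j)) (c.π.app j) :=
  continuous_iff_le_induced.2 (iInf_le _ j)

theorem compactSpace_limCons (hF : ∀ j, SpectralSpace (F.obj j))
    (hFm : ∀ {i j : J} (a : i ⟶ j), IsSpectralMap (F.map a : F.obj i → F.obj j))
    (hc : IsLimit c) : @CompactSpace c.pt (limCons F c) := by
  refine @CompactSpace.mk _ (limCons F c) ?_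
  rw [@isCompact_iff_ultrafilter_le_nhds c.pt (limCons F c)]
  intro 𝒰 _
  have hlim : ∀ j, ∃ xj : F.obj j, (↑(𝒰.map (c.π.app j)) : Filter (F.obj j)) ≤
      @nhds _ (constructibleTopology (F.obj j)) xj := by
    intro j
    obtain ⟨xj, -, hxj⟩ := @IsCompact.ultrafilter_le_nhds _ (constructibleTopology (F.obj j)) univ
      (@isCompact_univ _ (constructibleTopology _) compactSpace_cons) (𝒰.map (c.π.app j)) (by simp)
    exact ⟨xj, hxj⟩
  choose x hx using hlim
  have hcompat : ∀ {i j : J} (a : i ⟶ j), F.map a (x i) = x j := by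
    intro i j a
    have hT2 : @T2Space _ (constructibleTopology (F.obj j)) := t2_cons
    have h1 : (↑(𝒰.map (c.π.app j)) : Filter (F.obj j)) ≤
        @nhds _ (constructibleTopology (F.obj j)) (F.map a (x i)) := by
      have hcont := continuous_cons (hFm a)
      have ht := @Continuous.tendsto _ _ (constructibleTopology _) (constructibleTopology _) _
        hcont (x i)
      have h2 : Filter.map (F.map a) (↑(𝒰.map (c.π.app i)) : Filter (F.obj i)) ≤ _ :=
        (Filter.map_mono (hx i)).trans ht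
      have h3 : Filter.map (F.map a) (↑(𝒰.map (c.π.app i)) : Filter (F.obj i)) =
          ↑(𝒰.map (c.π.app j)) := by
        rw [Ultrafilter.coe_map, Ultrafilter.coe_map, Filter.map_map]
        congr 1
        funext y
        exact proj_compat F c a y
      rwa [h3] at h2
    exact @eq_of_nhds_neBot _ (constructibleTopology (F.obj j)) hT2 _ _
      (Filter.NeBot.mono (𝒰.map (c.π.app j)).neBot (le_inf h1 (hx j)))
  obtain ⟨y, hy⟩ := exists_point hc x hcompat
  refine ⟨y, mem_univ _, ?_⟩
  rw [limCons, nhds_iInf]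
  refine le_iInf fun j => ?_
  rw [@nhds_induced _ _ (constructibleTopology (F.obj j)), ← Filter.map_le_iff_le_comap, hy j]
  exact hx j

lemma isCompact_of_isClosed_limCons (hF : ∀ j, SpectralSpace (F.obj j))
    (hFm : ∀ {i j : J} (a : i ⟶ j), IsSpectralMap (F.map a : F.obj i → F.obj j))
    (hc : IsLimit c) {s : Set c.pt} (hs : IsClosed[limCons F c] s) : IsCompact s := by
  have h1 : @IsCompact c.pt (limCons F c) s :=
    @IsClosed.isCompact _ (limCons F c) s (compactSpace_limCons hF hFm hc) hs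
  have h2 := @IsCompact.image c.pt c.pt (limCons F c) _ s id h1
    (continuous_id_of_le (limCons_le hF hc))
  rwa [Set.image_id] at h2

lemma isClosed_limCons_preimage (j : J) {V : Set (F.obj j)}
    (hV : IsClosed[constructibleTopology (F.obj j)] V) :
    IsClosed[limCons F c] (c.π.app j ⁻¹' V) :=
  @IsClosed.preimage _ _ (limCons F c) (constructibleTopology _) _
    (continuous_proj_limCons j) _ hV

lemma isCompact_preimage (hF : ∀ j, SpectralSpace (F.obj j))
    (hFm : ∀ {i j : J} (a : i ⟶ j), IsSpectralMap (F.map a : F.obj i → F.obj j))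
    (hc : IsLimit c) (j : J) {V : Set (F.obj j)}
    (hV : IsClosed[constructibleTopology (F.obj j)] V) : IsCompact (c.π.app j ⁻¹' V) :=
  isCompact_of_isClosed_limCons hF hFm hc (isClosed_limCons_preimage j hV)

lemma isCompact_sections (hF : ∀ j, SpectralSpace (F.obj j))
    (hFm : ∀ {i j : J} (a : i ⟶ j), IsSpectralMap (F.map a : F.obj i → F.obj j))
    (hc : IsLimit c) (Z : ∀ j, Set (F.obj j))
    (hZ : ∀ j, IsClosed[constructibleTopology (F.obj j)] (Z j)) :
    IsCompact {x : c.pt | ∀ j, c.π.app j x ∈ Z j} := by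
  refine isCompact_of_isClosed_limCons hF hFm hc ?_
  have : {x : c.pt | ∀ j, c.π.app j x ∈ Z j} = ⋂ j, c.π.app j ⁻¹' Z j := by ext; simp
  rw [this]
  have h := fun j => isClosed_limCons_preimage (c := c) j (hZ j)
  let _ := limCons F c
  exact isClosed_iInter h


lemma preimage_proj {i j : J} (a : i ⟶ j) (V : Set (F.obj j)) :
    c.π.app i ⁻¹' (F.map a ⁻¹' V) = c.π.app j ⁻¹' V := by
  ext x
  simp only [Set.mem_preimage, proj_compat]

section Cofiltered

variable [IsCofiltered J]

lemma isTopologicalBasis_qc (hF : ∀ j, SpectralSpace (F.obj j))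
    (hFm : ∀ {i j : J} (a : i ⟶ j), IsSpectralMap (F.map a : F.obj i → F.obj j))
    (hc : IsLimit c) :
    TopologicalSpace.IsTopologicalBasis {U : Set c.pt | ∃ (j : J) (V : Set (F.obj j)),
      V ∈ {V : Set (F.obj j) | IsOpen V ∧ IsCompact V} ∧ U = c.π.app j ⁻¹' V} := by
  have := hF
  exact TopCat.isTopologicalBasis_cofiltered_limit F c hc (fun j => {V | IsOpen V ∧ IsCompact V})
    (fun j => PrespectralSpace.isTopologicalBasis) (fun i => ⟨isOpen_univ, isCompact_univ⟩)
    (fun i U1 U2 h1 h2 => ⟨h1.1.inter h2.1, h1.2.inter_of_isOpen h2.2 h1.1 h2.1⟩)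
    (fun i j f V hV => ⟨hV.1.preimage (hFm f).continuous,
      (hFm f).isCompact_preimage_of_isOpen hV.1 hV.2⟩)

/-- A cofiltered limit of spectral spaces along spectral maps is spectral, with spectral
projections. -/
theorem spectralSpace_limit (hF : ∀ j, SpectralSpace (F.obj j))
    (hFm : ∀ {i j : J} (a : i ⟶ j), IsSpectralMap (F.map a : F.obj i → F.obj j))
    (hc : IsLimit c) :
    SpectralSpace c.pt ∧ ∀ j, IsSpectralMap (c.π.app j : c.pt → F.obj j) := by
  have := hF
  have hB := isTopologicalBasis_qc hF hFm hc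
  have hBc : ∀ U ∈ {U : Set c.pt | ∃ (j : J) (V : Set (F.obj j)),
      V ∈ {V : Set (F.obj j) | IsOpen V ∧ IsCompact V} ∧ U = c.π.app j ⁻¹' V}, IsCompact U := by
    rintro _ ⟨j, V, ⟨hVo, hVc⟩, rfl⟩
    exact isCompact_preimage hF hFm hc j (isClosed_cons_of_isCompact_isOpen hVc hVo)
  have : T0Space c.pt :=
    ⟨fun x y hxy => point_ext hc fun j => (hxy.map (c.π.app j).hom.continuous).eq⟩
  have : CompactSpace c.pt := ⟨by
    simpa using isCompact_sections hF hFm hc (fun j => univ)
      (fun j => @isClosed_univ _ (constructibleTopology _))⟩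
  have : PrespectralSpace c.pt := .of_isTopologicalBasis hB hBc
  have : QuasiSeparatedSpace c.pt := by
    refine QuasiSeparatedSpace.of_isTopologicalBasis
      (b := fun s : Σ j, {V : Set (F.obj j) // IsOpen V ∧ IsCompact V} =>
        c.π.app s.1 ⁻¹' s.2.1) ?_ ?_
    · convert hB using 1
      ext U
      constructor
      · rintro ⟨⟨j, V, hV⟩, rfl⟩
        exact ⟨j, V, hV, rfl⟩
      · rintro ⟨j, V, hV, rfl⟩
        exact ⟨⟨j, V, hV⟩, rfl⟩
    · rintro ⟨i, V, hV⟩ ⟨j, W, hW⟩
      refine isCompact_of_isClosed_limCons hF hFm hc ?_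
      have h1 := isClosed_limCons_preimage (c := c) i
        (isClosed_cons_of_isCompact_isOpen hV.2 hV.1)
      have h2 := isClosed_limCons_preimage (c := c) j
        (isClosed_cons_of_isCompact_isOpen hW.2 hW.1)
      let _ := limCons F c
      exact h1.inter h2
  have : QuasiSober c.pt := by
    constructor
    intro T hTirr hTcl
    have hirr : ∀ j, IsIrreducible (closure (c.π.app j '' T)) := fun j =>
      (hTirr.image _ (c.π.app j).hom.continuous.continuousOn).closure
    choose ξ hξ using fun j => QuasiSober.sober (hirr j) isClosed_closure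
    have hcompat : ∀ {i j : J} (a : i ⟶ j), F.map a (ξ i) = ξ j := by
      intro i j a
      have h1 : IsGenericPoint (F.map a (ξ i))
          (closure (F.map a '' closure (c.π.app i '' T))) :=
        (hξ i).image (F.map a).hom.continuous
      rw [closure_image_closure (F.map a).hom.continuous, Set.image_image] at h1
      have h2 : (fun x => F.map a (c.π.app i x)) '' T = c.π.app j '' T :=
        Set.image_congr fun x _ => proj_compat F c a x
      rw [h2] at h1
      exact h1.eq (hξ j)
    obtain ⟨η, hη⟩ := exists_point hc ξ hcompat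
    refine ⟨η, ?_⟩
    have hηT : η ∈ T := by
      rw [← hTcl.closure_eq, hB.mem_closure_iff]
      rintro _ ⟨j, V, ⟨hVo, -⟩, rfl⟩ hηV
      have h1 : ξ j ∈ closure (c.π.app j '' T) := (hξ j).mem
      rw [Set.mem_preimage, hη j] at hηV
      obtain ⟨_, hyV, ⟨t, htT, rfl⟩⟩ := mem_closure_iff.1 h1 V hVo hηV
      exact ⟨t, hyV, htT⟩
    apply le_antisymm
    · exact hTcl.closure_subset_iff.2 (singleton_subset_iff.2 hηT)
    · intro t htT
      rw [hB.mem_closure_iff]
      rintro _ ⟨j, V, ⟨hVo, -⟩, rfl⟩ htV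
      refine ⟨η, ?_, rfl⟩
      have h1 : c.π.app j t ∈ closure {ξ j} := by
        rw [(hξ j).def]
        exact subset_closure ⟨t, htT, rfl⟩
      obtain ⟨_, hyV, rfl⟩ := mem_closure_iff.1 h1 V hVo htV
      rw [Set.mem_preimage, hη j]
      exact hyV
  exact ⟨⟨⟩, fun j => ⟨(c.π.app j).hom.continuous, fun V hVo hVc =>
    isCompact_preimage hF hFm hc j (isClosed_cons_of_isCompact_isOpen hVc hVo)⟩⟩

/-- Quasi-compact opens of the limit come from a finite stage. -/
theorem exists_qc_preimage (hF : ∀ j, SpectralSpace (F.obj j))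
    (hFm : ∀ {i j : J} (a : i ⟶ j), IsSpectralMap (F.map a : F.obj i → F.obj j))
    (hc : IsLimit c) (U : Set c.pt) (hUo : IsOpen U) (hUc : IsCompact U) :
    ∃ (i : J) (Ui : Set (F.obj i)), IsOpen Ui ∧ IsCompact Ui ∧ c.π.app i ⁻¹' Ui = U := by
  classical
  have := hF
  have hB := isTopologicalBasis_qc hF hFm hc
  set S := {s : Σ j, {V : Set (F.obj j) // IsOpen V ∧ IsCompact V} |
    c.π.app s.1 ⁻¹' s.2.1 ⊆ U} with hS
  obtain ⟨t, ht⟩ := hUc.elim_finite_subcover (fun s : S => c.π.app s.1.1 ⁻¹' s.1.2.1)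
    (fun s => s.1.2.2.1.preimage (c.π.app s.1.1).hom.continuous) (by
      intro x hx
      obtain ⟨B, ⟨j, V, hV, rfl⟩, hxB, hBU⟩ := hB.exists_subset_of_mem_open hx hUo
      exact Set.mem_iUnion.2 ⟨⟨⟨j, V, hV⟩, hBU⟩, hxB⟩)
  obtain ⟨i, hi⟩ := IsCofiltered.inf_objs_exists (t.image (fun s : S => s.1.1))
  have ha : ∀ s : S, s ∈ t → Nonempty (i ⟶ s.1.1) := fun s hs =>
    hi (Finset.mem_image_of_mem _ hs)
  refine ⟨i, ⋃ s : {s : S // s ∈ t}, F.map (ha s.1 s.2).some ⁻¹' s.1.1.2.1, ?_, ?_, ?_⟩
  · exact isOpen_iUnion fun s => s.1.1.2.2.1.preimage (F.map _).hom.continuous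
  · exact isCompact_iUnion fun s =>
      (hFm _).isCompact_preimage_of_isOpen s.1.1.2.2.1 s.1.1.2.2.2
  · rw [Set.preimage_iUnion]
    apply le_antisymm
    · refine Set.iUnion_subset fun s => ?_
      rw [preimage_proj]
      exact s.1.2
    · intro x hx
      obtain ⟨s, hst, hxs⟩ := Set.mem_iUnion₂.1 (ht hx)
      refine Set.mem_iUnion.2 ⟨⟨s, hst⟩, ?_⟩
      rw [preimage_proj]
      exact hxs

end Cofiltered


section Sub

variable (F) in
/-- The diagram of subsets `Z j ⊆ F.obj j`, each with the topology induced by the constructible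
topology. -/
def subCons (Z : ∀ j, Set (F.obj j))
    (hZm : ∀ {i j : J} (a : i ⟶ j), MapsTo (F.map a) (Z i) (Z j))
    (hFm : ∀ {i j : J} (a : i ⟶ j), IsSpectralMap (F.map a : F.obj i → F.obj j)) :
    J ⥤ TopCat.{u} where
  obj j := @TopCat.of (Z j)
    (TopologicalSpace.induced Subtype.val (constructibleTopology (F.obj j)))
  map {i j} a := @TopCat.ofHom (Z i) (Z j)
    (TopologicalSpace.induced Subtype.val (constructibleTopology (F.obj i)))
    (TopologicalSpace.induced Subtype.val (constructibleTopology (F.obj j)))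
    (@ContinuousMap.mk _ _
      (TopologicalSpace.induced Subtype.val (constructibleTopology (F.obj i)))
      (TopologicalSpace.induced Subtype.val (constructibleTopology (F.obj j)))
      ((hZm a).restrict _ _ _) (continuous_cons_restrict (hFm a) (hZm a)))
  map_id j := by
    refine ConcreteCategory.hom_ext _ _ fun z => Subtype.ext ?_
    show F.map (𝟙 j) z.1 = z.1
    rw [F.map_id]
    rfl
  map_comp a b := by
    refine ConcreteCategory.hom_ext _ _ fun z => Subtype.ext ?_
    show F.map (a ≫ b) z.1 = F.map b (F.map a z.1)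
    rw [F.map_comp]
    rfl

/-- A cofiltered system of nonempty constructibly closed subsets has a point in the limit. -/
theorem exists_section_mem [IsCofiltered J] (hF : ∀ j, SpectralSpace (F.obj j))
    (hFm : ∀ {i j : J} (a : i ⟶ j), IsSpectralMap (F.map a : F.obj i → F.obj j))
    (hc : IsLimit c) (Z : ∀ j, Set (F.obj j)) (hZne : ∀ j, (Z j).Nonempty)
    (hZ : ∀ j, IsClosed[constructibleTopology (F.obj j)] (Z j))
    (hZm : ∀ {i j : J} (a : i ⟶ j), MapsTo (F.map a) (Z i) (Z j)) :
    ∃ x : c.pt, ∀ j, c.π.app j x ∈ Z j := by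
  have := hF
  have : ∀ j, Nonempty ((subCons F Z hZm hFm).obj j) := fun j => (hZne j).to_subtype
  have : ∀ j, CompactSpace ((subCons F Z hZm hFm).obj j) :=
    fun j => compactSpace_cons_subtype (hZ j)
  have : ∀ j, T2Space ((subCons F Z hZm hFm).obj j) := fun j => t2_cons_subtype (Z j)
  obtain ⟨u⟩ := TopCat.nonempty_limitCone_of_compact_t2_cofiltered_system.{u, u}
    (subCons F Z hZm hFm)
  obtain ⟨y, hy⟩ := exists_point hc (fun j => (u.1 j).1)
    (fun {i j} a => congrArg Subtype.val (u.2 a))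
  exact ⟨y, fun j => by rw [hy j]; exact (u.1 j).2⟩

end Sub


section Descent

variable [IsCofiltered J]

/-- If `p_i⁻¹(E) ⊆ p_i⁻¹(F')` in the limit, with `E` constructibly closed and `F'` constructibly
open, then the inclusion holds at a finite stage. -/
theorem exists_hom_preimage_subset (hF : ∀ j, SpectralSpace (F.obj j))
    (hFm : ∀ {i j : J} (a : i ⟶ j), IsSpectralMap (F.map a : F.obj i → F.obj j))
    (hc : IsLimit c) (i : J) (E F' : Set (F.obj i))
    (hE : IsClosed[constructibleTopology (F.obj i)] E)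
    (hF' : IsOpen[constructibleTopology (F.obj i)] F')
    (h : c.π.app i ⁻¹' E ⊆ c.π.app i ⁻¹' F') :
    ∃ (j : J) (a : j ⟶ i), F.map a ⁻¹' E ⊆ F.map a ⁻¹' F' := by
  classical
  have := hF
  by_contra hcon
  have hZ₀ : IsClosed[constructibleTopology (F.obj i)] (E ∩ F'ᶜ) := by
    let _ := constructibleTopology (F.obj i)
    exact hE.inter hF'.isClosed_compl
  have hne₀ : ∀ (j : J) (a : j ⟶ i), ∃ y : F.obj j, F.map a y ∈ E ∩ F'ᶜ := by
    intro j a
    by_contra hh
    refine hcon ⟨j, a, fun y hyE => ?_⟩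
    by_contra hyF
    exact hh ⟨y, hyE, hyF⟩
  have hZcl : ∀ j, IsClosed[constructibleTopology (F.obj j)]
      (⋂ a : j ⟶ i, F.map a ⁻¹' (E ∩ F'ᶜ)) := by
    intro j
    have h : ∀ a : j ⟶ i, IsClosed[constructibleTopology (F.obj j)]
        (F.map a ⁻¹' (E ∩ F'ᶜ)) := fun a =>
      @IsClosed.preimage _ _ (constructibleTopology _) (constructibleTopology _) _
        (continuous_cons (hFm a)) _ hZ₀
    let _ := constructibleTopology (F.obj j)
    exact isClosed_iInter h
  have hZm : ∀ {k j : J} (b : k ⟶ j), MapsTo (F.map b)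
      (⋂ a : k ⟶ i, F.map a ⁻¹' (E ∩ F'ᶜ)) (⋂ a : j ⟶ i, F.map a ⁻¹' (E ∩ F'ᶜ)) := by
    intro k j b y hy
    refine Set.mem_iInter.2 fun a => ?_
    have := Set.mem_iInter.1 hy (b ≫ a)
    rw [Set.mem_preimage, F.map_comp] at this
    exact this
  have hZne : ∀ j, (⋂ a : j ⟶ i, F.map a ⁻¹' (E ∩ F'ᶜ)).Nonempty := by
    intro j
    have hfin : ∀ u : Finset (j ⟶ i), ∃ (k : J) (b : k ⟶ j) (a' : k ⟶ i),
        ∀ a ∈ u, b ≫ a = a' := by
      intro u
      induction u using Finset.induction_on with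
      | empty =>
        exact ⟨IsCofiltered.min j i, IsCofiltered.minToLeft j i, IsCofiltered.minToRight j i,
          by simp⟩
      | insert a₀ u _ ih =>
        obtain ⟨k, b, a', h⟩ := ih
        refine ⟨IsCofiltered.eq (b ≫ a₀) a', IsCofiltered.eqHom (b ≫ a₀) a' ≫ b,
          IsCofiltered.eqHom (b ≫ a₀) a' ≫ a', ?_⟩
        intro a ha
        rcases Finset.mem_insert.1 ha with rfl | ha
        · rw [Category.assoc, IsCofiltered.eq_condition]
        · rw [Category.assoc, h a ha]
    have := @IsCompact.inter_iInter_nonempty (F.obj j) (constructibleTopology (F.obj j)) univ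
      (j ⟶ i) (@isCompact_univ _ (constructibleTopology _) compactSpace_cons)
      (fun a => F.map a ⁻¹' (E ∩ F'ᶜ))
      (fun a => @IsClosed.preimage _ _ (constructibleTopology _) (constructibleTopology _) _
        (continuous_cons (hFm a)) _ hZ₀) (fun u => ?_)
    · simpa using this
    · obtain ⟨k, b, a', h⟩ := hfin u
      obtain ⟨y, hy⟩ := hne₀ k a'
      refine ⟨F.map b y, mem_univ _, Set.mem_iInter₂.2 fun a ha => ?_⟩
      show F.map a (F.map b y) ∈ E ∩ F'ᶜ
      have h2 : F.map a (F.map b y) = F.map a' y := by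
        rw [← h a ha, F.map_comp]
        rfl
      rw [h2]
      exact hy
  obtain ⟨x, hx⟩ := exists_section_mem hF hFm hc _ hZne hZcl hZm
  have hxi := Set.mem_iInter.1 (hx i) (𝟙 i)
  rw [Set.mem_preimage, F.map_id] at hxi
  exact hxi.2 (h hxi.1)

end Descent


lemma preimage_map_comp (F : J ⥤ TopCat.{u}) {i j k : J} (a : i ⟶ j) (b : j ⟶ k)
    (V : Set (F.obj k)) : F.map (a ≫ b) ⁻¹' V = F.map a ⁻¹' (F.map b ⁻¹' V) := by
  rw [F.map_comp]
  rfl

theorem exists_hom_preimage_eq [IsCofiltered J] (hF : ∀ j, SpectralSpace (F.obj j))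
    (hFm : ∀ {i j : J} (a : i ⟶ j), IsSpectralMap (F.map a : F.obj i → F.obj j))
    (hc : IsLimit c) (i : J) (E F' : Set (F.obj i))
    (hEo : IsOpen[constructibleTopology (F.obj i)] E)
    (hEc : IsClosed[constructibleTopology (F.obj i)] E)
    (hFo : IsOpen[constructibleTopology (F.obj i)] F')
    (hFc : IsClosed[constructibleTopology (F.obj i)] F')
    (h : c.π.app i ⁻¹' E = c.π.app i ⁻¹' F') :
    ∃ (j : J) (a : j ⟶ i), F.map a ⁻¹' E = F.map a ⁻¹' F' := by
  obtain ⟨j1, a1, h1⟩ := exists_hom_preimage_subset hF hFm hc i E F' hEc hFo h.le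
  obtain ⟨j2, a2, h2⟩ := exists_hom_preimage_subset hF hFm hc i F' E hFc hEo h.ge
  obtain ⟨k, g1, g2, hg⟩ := IsCofiltered.cospan a1 a2
  refine ⟨k, g1 ≫ a1, le_antisymm ?_ ?_⟩
  · rw [preimage_map_comp, preimage_map_comp]
    exact preimage_mono h1
  · rw [hg, preimage_map_comp, preimage_map_comp]
    exact preimage_mono h2

end Groth.Agent.Lib.Helper3.SpecLimit
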