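import Mathlib.LinearAlgebra.SymmetricAlgebra.Basic
import Mathlib.RingTheory.Localization.Away.Basic
import Mathlib.Algebra.Module.LocalizedModule.Basic
import Mathlib.RingTheory.Localization.Module

/-!
# Symmetric algebras: semilinear functoriality and localization
-/

set_option autoImplicit false
universe u

namespace Groth.Agent.Lib.Helper3.SymAlgLoc

variable {R R' R'' M M' M'' : Type u} [CommRing R] [CommRing R'] [CommRing R'']
  [AddCommGroup M] [Module R M] [AddCommGroup M'] [Module R' M'] [AddCommGroup M''] [Module R'' M'']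

/-- the symmetric algebra is functorial for semilinear maps -/
noncomputable def symMap (φ : R →+* R') (f : M →+ M')
    (hf : ∀ (r : R) (m : M), f (r • m) = φ r • f m) :
    SymmetricAlgebra R M →+* SymmetricAlgebra R' M' :=
  letI : Algebra R (SymmetricAlgebra R' M') :=
    ((algebraMap R' (SymmetricAlgebra R' M')).comp φ).toAlgebra
  (SymmetricAlgebra.lift (R := R) (M := M) (A := SymmetricAlgebra R' M')
    { toFun := fun m => SymmetricAlgebra.ι R' M' (f m)
      map_add' := fun a b => by rw [map_add, map_add]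
      map_smul' := fun r m => by
        rw [hf, map_smul, RingHom.id_apply, Algebra.smul_def, Algebra.smul_def]
        rfl }).toRingHom

theorem symMap_ι (φ : R →+* R') (f : M →+ M')
    (hf : ∀ (r : R) (m : M), f (r • m) = φ r • f m) (m : M) :
    symMap φ f hf (SymmetricAlgebra.ι R M m) = SymmetricAlgebra.ι R' M' (f m) := by
  letI : Algebra R (SymmetricAlgebra R' M') :=
    ((algebraMap R' (SymmetricAlgebra R' M')).comp φ).toAlgebra
  exact SymmetricAlgebra.lift_ι_apply _ m

theorem symMap_algebraMap (φ : R →+* R') (f : M →+ M')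
    (hf : ∀ (r : R) (m : M), f (r • m) = φ r • f m) (r : R) :
    symMap φ f hf (algebraMap R (SymmetricAlgebra R M) r) =
      algebraMap R' (SymmetricAlgebra R' M') (φ r) := by
  letI : Algebra R (SymmetricAlgebra R' M') :=
    ((algebraMap R' (SymmetricAlgebra R' M')).comp φ).toAlgebra
  exact AlgHom.commutes _ r

/-- ring homomorphisms out of a symmetric algebra are determined on scalars and on `M` -/
theorem ringHom_ext {T : Type u} [Semiring T] (g g' : SymmetricAlgebra R M →+* T)
    (h1 : ∀ r, g (algebraMap R _ r) = g' (algebraMap R _ r))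
    (h2 : ∀ m, g (SymmetricAlgebra.ι R M m) = g' (SymmetricAlgebra.ι R M m)) : g = g' := by
  refine RingHom.ext fun x => ?_
  induction x using SymmetricAlgebra.induction with
  | algebraMap r => exact h1 r
  | ι m => exact h2 m
  | mul a b ha hb => rw [map_mul, map_mul, ha, hb]
  | add a b ha hb => rw [map_add, map_add, ha, hb]

theorem symMap_id (f : M →+ M) (hf : ∀ (r : R) (m : M), f (r • m) = (RingHom.id R) r • f m)
    (hid : ∀ m, f m = m) : symMap (RingHom.id R) f hf = RingHom.id _ := by
  apply ringHom_ext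
  · intro r; rw [symMap_algebraMap]; rfl
  · intro m; rw [symMap_ι, hid]; rfl

theorem symMap_comp (φ : R →+* R') (f : M →+ M')
    (hf : ∀ (r : R) (m : M), f (r • m) = φ r • f m) (φ' : R' →+* R'') (f' : M' →+ M'')
    (hf' : ∀ (r : R') (m : M'), f' (r • m) = φ' r • f' m) (χ : R →+* R'') (h : M →+ M'')
    (hh : ∀ (r : R) (m : M), h (r • m) = χ r • h m) (hχ : ∀ r, χ r = φ' (φ r))
    (hh' : ∀ m, h m = f' (f m)) :
    symMap χ h hh = (symMap φ' f' hf').comp (symMap φ f hf) := by
  apply ringHom_ext
  · intro r
    rw [symMap_algebraMap, RingHom.comp_apply, symMap_algebraMap, symMap_algebraMap, hχ]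
  · intro m
    rw [symMap_ι, RingHom.comp_apply, symMap_ι, symMap_ι, hh']

section Loc

variable {R R' M M' : Type u} [CommRing R] [CommRing R'] [AddCommGroup M] [Module R M]
  [AddCommGroup M'] [Module R' M'] [Algebra R R'] [Module R M'] [IsScalarTower R R' M']

theorem hsemi (f : M →ₗ[R] M') (a : R) (m : M) :
    f.toAddMonoidHom (a • m) = algebraMap R R' a • f.toAddMonoidHom m := by
  change f (a • m) = algebraMap R R' a • f m
  rw [map_smul, algebraMap_smul]

/-- the map on symmetric algebras induced by a linear map over a ring extension -/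
noncomputable def locMap (f : M →ₗ[R] M') : SymmetricAlgebra R M →+* SymmetricAlgebra R' M' :=
  symMap (algebraMap R R') f.toAddMonoidHom (hsemi f)

theorem locMap_ι (f : M →ₗ[R] M') (m : M) :
    locMap f (SymmetricAlgebra.ι R M m) = SymmetricAlgebra.ι R' M' (f m) :=
  symMap_ι _ _ _ m

theorem locMap_algebraMap (f : M →ₗ[R] M') (a : R) :
    locMap f (algebraMap R _ a) = algebraMap R' (SymmetricAlgebra R' M') (algebraMap R R' a) :=
  symMap_algebraMap _ _ _ a

variable (r : R) [IsLocalization.Away r R'] (f : M →ₗ[R] M')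
  [IsLocalizedModule (Submonoid.powers r) f]

theorem locMap_surj (z : SymmetricAlgebra R' M') :
    ∃ (n : ℕ) (x : SymmetricAlgebra R M),
      z * locMap f (algebraMap R _ r) ^ n = locMap f x := by
  induction z using SymmetricAlgebra.induction with
  | algebraMap a' =>
    obtain ⟨n, a, ha⟩ := IsLocalization.Away.surj r a'
    refine ⟨n, algebraMap R _ a, ?_⟩
    rw [locMap_algebraMap, locMap_algebraMap, ← ha, map_mul, map_pow]
  | ι m' =>
    obtain ⟨⟨m, ⟨_, n, rfl⟩⟩, hm⟩ := IsLocalizedModule.surj (Submonoid.powers r) f m'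
    refine ⟨n, SymmetricAlgebra.ι R M m, ?_⟩
    rw [locMap_ι, locMap_algebraMap, ← hm]
    change _ = SymmetricAlgebra.ι R' M' (r ^ n • m')
    rw [← algebraMap_smul R' (r ^ n) m', map_smul, Algebra.smul_def, map_pow, map_pow, mul_comm]
  | mul a b ha hb =>
    obtain ⟨n1, x1, h1⟩ := ha
    obtain ⟨n2, x2, h2⟩ := hb
    refine ⟨n1 + n2, x1 * x2, ?_⟩
    rw [map_mul, ← h1, ← h2, pow_add]
    ring
  | add a b ha hb =>
    obtain ⟨n1, x1, h1⟩ := ha
    obtain ⟨n2, x2, h2⟩ := hb
    refine ⟨n1 + n2, x1 * algebraMap R _ r ^ n2 + x2 * algebraMap R _ r ^ n1, ?_⟩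
    rw [map_add, map_mul, map_mul, ← h1, ← h2, pow_add, map_pow, map_pow]
    ring

/-- the back map to the localization -/
theorem exists_backMap :
    ∃ τ : SymmetricAlgebra R' M' →+*
        Localization.Away (algebraMap R (SymmetricAlgebra R M) r),
      τ.comp (locMap f) = algebraMap (SymmetricAlgebra R M) _ := by
  set s := algebraMap R (SymmetricAlgebra R M) r with hs
  have hunit : IsUnit (algebraMap R (Localization.Away s) r) := by
    rw [IsScalarTower.algebraMap_apply R (SymmetricAlgebra R M) (Localization.Away s)]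
    exact IsLocalization.Away.algebraMap_isUnit s
  let ρ : R' →+* Localization.Away s :=
    IsLocalization.Away.lift r (g := algebraMap R (Localization.Away s)) hunit
  letI : Algebra R' (Localization.Away s) := ρ.toAlgebra
  haveI : IsScalarTower R R' (Localization.Away s) :=
    IsScalarTower.of_algebraMap_eq (fun a => (IsLocalization.Away.lift_eq r hunit a).symm)
  let g₀ : M →ₗ[R] Localization.Away s :=
    (IsScalarTower.toAlgHom R (SymmetricAlgebra R M) (Localization.Away s)).toLinearMap ∘ₗ
      SymmetricAlgebra.ι R M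
  have hu : ∀ x : Submonoid.powers r,
      IsUnit (algebraMap R (Module.End R (Localization.Away s)) x) := by
    rintro ⟨_, n, rfl⟩
    have : algebraMap R (Module.End R (Localization.Away s)) (r ^ n) =
        Algebra.lmul R (Localization.Away s) (algebraMap R _ (r ^ n)) :=
      (AlgHom.commutes _ _).symm
    rw [this]
    rw [map_pow]
    exact (hunit.pow n).map (Algebra.lmul R (Localization.Away s))
  let g₁ : M' →ₗ[R] Localization.Away s := IsLocalizedModule.lift (Submonoid.powers r) f g₀ hu
  let g₂ : M' →ₗ[R'] Localization.Away s :=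
    LinearMap.extendScalarsOfIsLocalization (Submonoid.powers r) R' g₁
  let τ : SymmetricAlgebra R' M' →ₐ[R'] Localization.Away s := SymmetricAlgebra.lift g₂
  refine ⟨τ.toRingHom, ringHom_ext _ _ ?_ ?_⟩
  · intro a
    change τ (locMap f (algebraMap R _ a)) = _
    rw [locMap_algebraMap, AlgHom.commutes]
    change ρ (algebraMap R R' a) = _
    rw [IsLocalization.Away.lift_eq]
    exact IsScalarTower.algebraMap_apply R (SymmetricAlgebra R M) (Localization.Away s) a
  · intro m
    change τ (locMap f (SymmetricAlgebra.ι R M m)) = _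
    rw [locMap_ι, SymmetricAlgebra.lift_ι_apply]
    change IsLocalizedModule.lift (Submonoid.powers r) f g₀ hu (f m) = _
    rw [IsLocalizedModule.lift_apply]
    rfl

theorem isLocalization_locMap :
    letI := (locMap (R' := R') f).toAlgebra
    IsLocalization.Away (algebraMap R (SymmetricAlgebra R M) r) (SymmetricAlgebra R' M') := by
  letI := (locMap (R' := R') f).toAlgebra
  refine (isLocalization_iff _ _).mpr ⟨?_, ?_, ?_⟩
  · rintro ⟨_, n, rfl⟩
    change IsUnit (locMap f (algebraMap R _ r ^ n))
    rw [map_pow, locMap_algebraMap]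
    exact (((IsLocalization.Away.algebraMap_isUnit r).map (algebraMap R' _))).pow n
  · intro z
    obtain ⟨n, x, h⟩ := locMap_surj (R' := R') r f z
    refine ⟨⟨x, ⟨algebraMap R _ r ^ n, n, rfl⟩⟩, ?_⟩
    change z * locMap f (algebraMap R _ r ^ n) = locMap f x
    rw [map_pow, h]
  · intro x y hxy
    obtain ⟨τ, hτ⟩ := exists_backMap (R' := R') r f
    have h2 : algebraMap (SymmetricAlgebra R M) (Localization.Away
        (algebraMap R (SymmetricAlgebra R M) r)) x = algebraMap _ _ y := by
      rw [← hτ]
      exact congrArg τ hxy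
    exact IsLocalization.exists_of_eq (M := Submonoid.powers (algebraMap R (SymmetricAlgebra R M) r)) h2

end Loc

section Elementwise

variable {R R' M M' : Type u} [CommRing R] [CommRing R'] [AddCommGroup M] [Module R M]
  [AddCommGroup M'] [Module R' M']

theorem symMap_id' (φ : R →+* R) (f : M →+ M) (hf : ∀ (r : R) (m : M), f (r • m) = φ r • f m)
    (hφ : ∀ r, φ r = r) (hid : ∀ m, f m = m) : symMap φ f hf = RingHom.id _ := by
  apply ringHom_ext
  · intro r; rw [symMap_algebraMap, hφ]; rfl
  · intro m; rw [symMap_ι, hid]; rfl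

/-- elementwise form of the localization theorem -/
theorem isLocalization_symMap (φ : R →+* R') (f : M →+ M')
    (hf : ∀ (r : R) (m : M), f (r • m) = φ r • f m) (r : R)
    (hR : letI := φ.toAlgebra; IsLocalization.Away r R')
    (hsurj : ∀ t : M', ∃ (n : ℕ) (s : M), f s = φ r ^ n • t)
    (hinj : ∀ s : M, f s = 0 → ∃ n : ℕ, r ^ n • s = 0) :
    letI := (symMap φ f hf).toAlgebra
    IsLocalization.Away (algebraMap R (SymmetricAlgebra R M) r) (SymmetricAlgebra R' M') := by
  letI : Algebra R R' := φ.toAlgebra
  haveI : IsLocalization.Away r R' := hR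
  letI : Module R M' := Module.compHom M' φ
  haveI : IsScalarTower R R' M' := IsScalarTower.of_algebraMap_smul (fun _ _ => rfl)
  let fl : M →ₗ[R] M' :=
    { toFun := f
      map_add' := map_add f
      map_smul' := fun a m => hf a m }
  have hunit : IsUnit (φ r) := IsLocalization.Away.algebraMap_isUnit r
  haveI : IsLocalizedModule (Submonoid.powers r) fl := by
    refine ⟨?_, ?_, ?_⟩
    · rintro ⟨_, n, rfl⟩
      obtain ⟨u, hu⟩ := hunit.pow n
      rw [Module.End.isUnit_iff]
      refine Function.bijective_iff_has_inverse.mpr ⟨fun m => (↑u⁻¹ : R') • m, ?_, ?_⟩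
      · intro m
        change (↑u⁻¹ : R') • (φ (r ^ n) • m) = m
        rw [map_pow, ← hu, smul_smul, Units.inv_mul, one_smul]
      · intro m
        change φ (r ^ n) • ((↑u⁻¹ : R') • m) = m
        rw [map_pow, ← hu, smul_smul, Units.mul_inv, one_smul]
    · intro t
      obtain ⟨n, s, hs⟩ := hsurj t
      refine ⟨⟨s, ⟨_, n, rfl⟩⟩, ?_⟩
      change φ (r ^ n) • t = f s
      rw [hs, map_pow]
    · intro x₁ x₂ h
      have h0 : f (x₁ - x₂) = 0 := by
        rw [map_sub]
        exact sub_eq_zero.mpr h
      obtain ⟨n, hn⟩ := hinj _ h0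
      refine ⟨⟨_, n, rfl⟩, ?_⟩
      change r ^ n • x₁ = r ^ n • x₂
      rw [smul_sub] at hn
      exact sub_eq_zero.mp hn
  exact isLocalization_locMap r fl

end Elementwise

end Groth.Agent.Lib.Helper3.SymAlgLoc
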