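import Groth.Agent.Lib.Helper3.SymBiprod
import Groth.Agent.Lib.Helper17.UnitBC2
import Groth.Prelude.Def_RelProj4

/-!
# The symmetric algebra commutes with base change

`Sym(g^*E)` with the canonical `g`-morphism `Sym(E) → Sym(g^*E)` is the inverse image algebra
`g^* Sym(E)` (pushout squares on affine pairs); hence `V(g^*E) = V(E) ×_S S'`.
-/

set_option autoImplicit false
set_option linter.unusedSectionVars false
universe u
open CategoryTheory CategoryTheory.Limits AlgebraicGeometry TopologicalSpace Opposite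
open Scheme.Modules

namespace Groth.Agent.Lib.Helper3.SymBC

open QCSec SymGen SymLocal SymBiprod Groth.Agent.Lib.Helper17.UnitBC Groth.Agent.Lib.Helper17

section alg

variable {R S : Type*} [CommRing R] [CommRing S] {φ : R →+* S} {M N : Type*} [AddCommGroup M]
  [Module R M] [AddCommGroup N] [Module S N] {β : M → N}

theorem exists_lift (h : IsBCHom φ β) {T : Type*} [AddCommGroup T] [Module S T] (f : M →+ T)
    (hf : ∀ (r : R) (m : M), f (r • m) = φ r • f m) :
    ∃ F : N →ₗ[S] T, ∀ m, F (β m) = f m := by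
  letI := φ.toAlgebra
  letI : Module R N := Module.compHom N φ
  haveI : IsScalarTower R S N := IsScalarTower.of_algebraMap_smul fun _ _ => rfl
  letI : Module R T := Module.compHom T φ
  haveI : IsScalarTower R S T := IsScalarTower.of_algebraMap_smul fun _ _ => rfl
  obtain ⟨lin, hlin, hbc⟩ := h
  let fl : M →ₗ[R] T :=
    { toFun := f
      map_add' := map_add f
      map_smul' := fun r m => hf r m }
  refine ⟨hbc.lift fl, fun m => ?_⟩
  rw [← hlin, hbc.lift_eq]
  rfl

theorem ext_of_agree (h : IsBCHom φ β) {T : Type*} [AddCommGroup T] (F G : N →+ T)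
    (hsm : ∀ (s : S) (n : N), F n = G n → F (s • n) = G (s • n))
    (hβ : ∀ m, F (β m) = G (β m)) : ∀ n, F n = G n := by
  letI := φ.toAlgebra
  letI : Module R N := Module.compHom N φ
  haveI : IsScalarTower R S N := IsScalarTower.of_algebraMap_smul fun _ _ => rfl
  obtain ⟨lin, hlin, hbc⟩ := h
  intro n
  refine hbc.inductionOn n (fun n => F n = G n) ?_ ?_ ?_ ?_
  · rw [map_zero, map_zero]
  · intro m
    rw [hlin]
    exact hβ m
  · intro s n hn
    exact hsm s n hn
  · intro a b ha hb
    rw [map_add, map_add, ha, hb]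

end alg

section main

variable {S S' : Scheme.{u}} (g : S' ⟶ S) {E : S.Modules} [E.IsQuasicoherent]
  {A : RelSpec.QCAlg S} {j : E ⟶ A.toModule} (hA : RelSpec.IsSymAlg E A j)
  {B : RelSpec.QCAlg S'} {j' : (Scheme.Modules.pullback g).obj E ⟶ B.toModule}
  (hB : RelSpec.IsSymAlg ((Scheme.Modules.pullback g).obj E) B j')
  (u : RelSpec.QHom g A B)
  (hu : ∀ (U : S.Opens) (x : Γ(E, U)),
      (u.app U).hom ((j.app U) x) =
        (j'.app (g ⁻¹ᵁ U)) (((Scheme.Modules.pullbackPushforwardAdjunction g).unit.app E).app U x))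

include hu in
theorem appLE_jj (U : S.Opens) (U' : S'.Opens) (hle : U' ≤ g ⁻¹ᵁ U) (x : Γ(E, U)) :
    (u.appLE U U' hle).hom (jj A j U x) = jj B j' U' (unitSec g E U U' hle x) := by
  rw [RelSpec.QHom.appLE_eq]
  change rs B hle ((u.app U).hom (j.app U x)) = _
  rw [hu]
  exact rs_jj B j' hle _

include hA hB hu in
theorem existsUnique_desc {U : S.Opens} (hU : IsAffineOpen U) {U' : S'.Opens}
    (hU' : IsAffineOpen U') (hle : U' ≤ g ⁻¹ᵁ U) {T : Type u} [CommRing T]
    (a : A.presheaf.obj (op U) →+* T) (b : Γ(S', U') →+* T)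
    (hab : ∀ r : Γ(S, U), a ((A.str.app (op U)).hom r) = b ((g.appLE U U' hle).hom r)) :
    ∃! t : B.presheaf.obj (op U') →+* T,
      (∀ r : Γ(S', U'), t ((B.str.app (op U')).hom r) = b r) ∧
      (∀ x : A.presheaf.obj (op U), t ((u.appLE U U' hle).hom x) = a x) := by
  haveI : ((Scheme.Modules.pullback g).obj E).IsQuasicoherent :=
    PbStalk.isQuasicoherent_pullback g E
  have hbc := isBCHom_unitSec g E hU hU' hle
  letI : Module Γ(S', U') T := Module.compHom T b
  obtain ⟨F, hF⟩ := exists_lift hbc (comp_jj j U a) (fun r m => by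
    rw [comp_jj_smul, hab]
    rfl)
  obtain ⟨t, ⟨ht1, ht2⟩, htuniq⟩ := existsUnique_lift hB ⟨U', hU'⟩ b F.toAddMonoidHom
    (fun r e => by
      change F (r • e) = b r * F e
      rw [F.map_smul]
      rfl)
  have key : ∀ t' : B.presheaf.obj (op U') →+* T,
      (∀ r : Γ(S', U'), t' ((B.str.app (op U')).hom r) = b r) →
      (∀ x : Γ(E, U), t' (jj B j' U' (unitSec g E U U' hle x)) = a (jj A j U x)) →
      ∀ x, t' ((u.appLE U U' hle).hom x) = a x := by
    intro t' h1 h2
    obtain ⟨g₀, -, huniq⟩ := existsUnique_lift hA ⟨U, hU⟩ (b.comp (g.appLE U U' hle).hom)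
      (comp_jj j U a) (fun r m => by
        rw [comp_jj_smul, hab]
        rfl)
    have e1 : t'.comp (u.appLE U U' hle).hom = g₀ := by
      apply huniq
      refine ⟨fun r => ?_, fun e => ?_⟩
      · change t' ((u.appLE U U' hle).hom ((A.str.app (op U)).hom r)) = _
        have h : (u.appLE U U' hle).hom ((A.str.app (op U)).hom r) =
            (B.str.app (op U')).hom ((g.appLE U U' hle).hom r) :=
          congr($(u.str_appLE U U' hle) r)
        rw [h, h1]
        rfl
      · change t' ((u.appLE U U' hle).hom (jj A j U e)) = _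
        rw [appLE_jj g u hu, h2]
        rfl
    have e2 : a = g₀ := by
      apply huniq
      exact ⟨fun r => hab r, fun e => rfl⟩
    intro x
    exact congr($(e1.trans e2.symm) x)
  refine ⟨t, ⟨ht1, key t ht1 (fun x => ?_)⟩, ?_⟩
  · change t (j'.app U' (unitSec g E U U' hle x)) = _
    rw [ht2]
    exact hF x
  · rintro t' ⟨h1, h2⟩
    apply htuniq
    refine ⟨h1, ?_⟩
    have hagree : ∀ n, (comp_jj j' U' t') n = F.toAddMonoidHom n := by
      apply ext_of_agree hbc
      · intro s n hn
        rw [comp_jj_smul, h1]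
        change _ = F (s • n)
        rw [F.map_smul]
        change _ = b s * F n
        congr 1
      · intro m
        rw [comp_jj_apply, ← appLE_jj g u hu, h2]
        exact (hF m).symm
    exact hagree

include hA hB hu in
/-- **`Sym` commutes with base change**: `Sym(g^*E)` is the inverse image algebra of `Sym(E)`. -/
theorem isQBaseChange : RelSpec.IsQBaseChange u := by
  intro U hU U' hU' hle
  have comm : g.appLE U U' hle ≫ B.str.app (op U') = A.str.app (op U) ≫ u.appLE U U' hle :=
    (u.str_appLE U U' hle).symm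
  have hex : ∀ s : PushoutCocone (g.appLE U U' hle) (A.str.app (op U)),
      ∃! t : B.presheaf.obj (op U') →+* s.pt,
        (∀ r : Γ(S', U'), t ((B.str.app (op U')).hom r) = s.inl.hom r) ∧
        (∀ x : A.presheaf.obj (op U), t ((u.appLE U U' hle).hom x) = s.inr.hom x) := by
    intro s
    refine existsUnique_desc g hA hB u hu hU hU' hle s.inr.hom s.inl.hom (fun r => ?_)
    exact (congr($(s.condition) r)).symm
  refine ⟨⟨comm⟩, ⟨PushoutCocone.IsColimit.mk comm
    (fun s => CommRingCat.ofHom (hex s).choose) ?_ ?_ ?_⟩⟩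
  · intro s
    ext r
    exact (hex s).choose_spec.1.1 r
  · intro s
    ext x
    exact (hex s).choose_spec.1.2 x
  · intro s m h1 h2
    have := (hex s).choose_spec.2 m.hom ⟨fun r => congr($h1 r), fun x => congr($h2 x)⟩
    ext x
    rw [this]
    rfl

end main

end Groth.Agent.Lib.Helper3.SymBC
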