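import Groth.Agent.Lib.Helper3.SymGen
import Groth.Agent.Lib.Helper3.QCProps

/-!
# The symmetric algebra of a quasi-coherent module of finite type is an algebra of finite type
-/

set_option autoImplicit false
set_option linter.unusedSectionVars false
universe u
open CategoryTheory CategoryTheory.Limits AlgebraicGeometry TopologicalSpace Opposite
open Scheme.Modules

namespace Groth.Agent.Lib.Helper3.SymGenFT

open QCSec SymGen

variable {S : Scheme.{u}} (A : RelSpec.QCAlg S) {E : S.Modules} (j : E ⟶ A.toModule)

theorem finiteType_str [E.IsQuasicoherent] [E.IsFiniteType] (hj : RelSpec.IsSymAlg E A j)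
    {U : S.Opens} (hU : IsAffineOpen U) : (A.str.app (op U)).hom.FiniteType := by
  classical
  haveI := QCProps.finite_sections E hU
  obtain ⟨T, hT⟩ := Module.Finite.fg_top (R := Γ(S, U)) (M := Γ(E, U))
  letI := (A.str.app (op U)).hom.toAlgebra
  change Algebra.FiniteType Γ(S, U) (A.presheaf.obj (op U))
  refine ⟨⟨T.image (jj A j U), ?_⟩⟩
  rw [eq_top_iff]
  intro x _
  have hx : x ∈ G A j U := by rw [G_eq_top A j hj hU]; trivial
  have hle : G A j U ≤ (Algebra.adjoin Γ(S, U)
      ((T.image (jj A j U) : Finset (A.presheaf.obj (op U))) :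
        Set (A.presheaf.obj (op U)))).toSubring := by
    apply Subring.closure_le.mpr
    rintro y (⟨r, rfl⟩ | ⟨e, rfl⟩)
    · exact Subalgebra.algebraMap_mem _ r
    · have he : e ∈ Submodule.span Γ(S, U) (T : Set Γ(E, U)) := hT ▸ Submodule.mem_top
      induction he using Submodule.span_induction with
      | mem e he =>
        exact Algebra.subset_adjoin (Finset.mem_coe.mpr (Finset.mem_image_of_mem _ he))
      | zero =>
        have : jj A j U 0 = 0 := map_zero _
        rw [this]
        exact zero_mem _
      | add a b _ _ ha hb =>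
        rw [jj_add]
        exact add_mem ha hb
      | smul r a _ ha =>
        rw [jj_smul]
        exact mul_mem (Subalgebra.algebraMap_mem _ r) ha
  exact hle hx

/-- the vector bundle `V(E)` of a quasi-coherent module of finite type is of finite type -/
theorem locallyOfFiniteType_π [E.IsQuasicoherent] [E.IsFiniteType]
    (hj : RelSpec.IsSymAlg E A j) : LocallyOfFiniteType A.π := by
  refine (IsZariskiLocalAtSource.iff_of_openCover (P := @LocallyOfFiniteType) (f := A.π)
    (show A.spec.OpenCover from A.glueData.cover)).mpr ?_
  intro U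
  change LocallyOfFiniteType (A.ι U.1 U.2 ≫ A.π)
  rw [A.ι_π]
  haveI : LocallyOfFiniteType (Spec.map (A.str.app (op U.1))) := by
    rw [HasRingHomProperty.Spec_iff (P := @LocallyOfFiniteType)]
    exact finiteType_str A j hj U.2
  infer_instance

end Groth.Agent.Lib.Helper3.SymGenFT
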