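import Groth.Agent.Lib.Helper3.SymGenProj
import Groth.Agent.Lib.Helper3.PbBasic

/-!
# Relatively very ample modules: the pulled-back sections of `O(1)` generate
-/

set_option autoImplicit false
set_option linter.unusedSectionVars false
universe u
open CategoryTheory CategoryTheory.Limits AlgebraicGeometry TopologicalSpace Opposite
open Scheme.Modules
open scoped HomogeneousIdeal

namespace Groth.Agent.Lib.Helper3.SymGenVA

open QCSec InvGen GrModQC RelProjBasic SymGen SymGenProj CounitGG RelTwistLocGen PbBasic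

variable {Y : Scheme.{u}} {E : Y.Modules} [E.IsQuasicoherent] {𝒮 : RelProj.QCGrAlg Y}
  {j : E ⟶ 𝒮.toModule} (hj : RelProj.IsGrSymAlg E 𝒮 j)
  {P : Scheme.{u}} {p : P ⟶ Y}
  {chart : ∀ (U : Y.Opens) (hU : IsAffineOpen U),
    ((p ⁻¹ᵁ U : P.Opens) : Scheme.{u}) ≅ Proj (𝒮.deg U hU)}
  {O1 : P.Modules}
  {lam : ∀ (U : Y.Opens) (hU : IsAffineOpen U),
    O1 ⟶ (Scheme.Modules.pushforward (RelProj.emb p chart U hU)).obj
      (GrTwist.twist (𝒮.deg U hU) ((1 : ℕ) : ℤ))}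
  (hO1 : RelProj.IsRelTwist 𝒮 p chart ((1 : ℕ) : ℤ) O1 lam)

include hj hO1 in
/-- for any morphism `i : X ⟶ P(E)` over `Y`, the counit `q^* q_* i^* O(1) ⟶ i^* O(1)` is an
epimorphism, `q = i ≫ p` -/
theorem epi_counit_pullback {X : Scheme.{u}} (i : X ⟶ P) :
    Epi ((pullbackPushforwardAdjunction (i ≫ p)).counit.app
      ((Scheme.Modules.pullback i).obj O1)) := by
  apply epi_counit_of_isLocSpannedOn
  intro x
  obtain ⟨V, hV, hxV⟩ := ProjQMap.exists_affine_mem ((i ≫ p) x)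
  have hsec := fun e : Γ(E, V) =>
    exists_sec hO1 V hV (jj 𝒮.toQCAlg j V e) (hj.2 V hV e)
  choose a ha using hsec
  refine ⟨V, hxV, Γ(E, V), fun e => (show Γ((Scheme.Modules.pullback i).obj O1, (i ≫ p) ⁻¹ᵁ V)
    from pull i O1 (p ⁻¹ᵁ V) (a e)), ?_⟩
  apply isLocSpannedOn_of_isGen_cover
  intro x' hx'
  obtain ⟨y, hy⟩ := ProjQMap.exists_emb_eq p chart V hV (i x') hx'
  obtain ⟨e, he⟩ := exists_jj_notMem hj hV y
  have hWe : RelProj.emb p chart V hV ''ᵁ Proj.basicOpen (𝒮.deg V hV) (jj 𝒮.toQCAlg j V e) ≤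
      p ⁻¹ᵁ V := by
    rw [← ProjQMap.opensRange_emb p chart V hV]
    exact (RelProj.emb p chart V hV).image_le_opensRange _
  have hg := isGen_res hO1 V hV _ (hj.2 V hV e) (a e) (ha e) _ le_rfl
  have hg2 := isGen_pull i hg
  rw [← res_pull i O1 hWe] at hg2
  exact ⟨e, i ⁻¹ᵁ (RelProj.emb p chart V hV ''ᵁ
    Proj.basicOpen (𝒮.deg V hV) (jj 𝒮.toQCAlg j V e)), i.preimage_mono hWe, ⟨y, he, hy⟩, hg2⟩

end Groth.Agent.Lib.Helper3.SymGenVA
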