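import Mathlib

/-!
# The grading of the symmetric algebra by symmetric powers
-/

set_option autoImplicit false
universe u

namespace Groth.Agent.Lib.Helper3.SymGrading

open scoped DirectSum

variable (R M : Type u) [CommRing R] [AddCommGroup M] [Module R M]

/-- the degree-`i` part of the symmetric algebra -/
abbrev piece (i : ℕ) : Submodule R (SymmetricAlgebra R M) :=
  LinearMap.range (SymmetricAlgebra.ι R M) ^ i

/-- `ι` into the graded structure -/
noncomputable def gι : M →ₗ[R] ⨁ i : ℕ, ↥(piece R M i) :=
  DirectSum.lof R ℕ (fun i => ↥(piece R M i)) 1 ∘ₗ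
    (SymmetricAlgebra.ι R M).codRestrict _ fun m => by
      simpa only [piece, pow_one] using LinearMap.mem_range_self _ m

theorem gι_apply (m : M) :
    gι R M m = DirectSum.of (fun i : ℕ => ↥(piece R M i)) 1
      ⟨SymmetricAlgebra.ι R M m, by
        simpa only [piece, pow_one] using LinearMap.mem_range_self _ m⟩ :=
  rfl

noncomputable instance gradedAlgebra : GradedAlgebra (piece R M) :=
  GradedAlgebra.ofAlgHom _ (SymmetricAlgebra.lift <| gι R M)
    (by
      apply SymmetricAlgebra.algHom_ext
      ext m
      change DirectSum.coeAlgHom (piece R M) (SymmetricAlgebra.lift (gι R M)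
        (SymmetricAlgebra.ι R M m)) = SymmetricAlgebra.ι R M m
      rw [SymmetricAlgebra.lift_ι_apply, gι_apply R M, DirectSum.coeAlgHom_of, Subtype.coe_mk])
    fun i x => by
    obtain ⟨x, hx⟩ := x
    dsimp only [Subtype.coe_mk, DirectSum.lof_eq_of]
    induction hx using Submodule.pow_induction_on_left' with
    | algebraMap r =>
      rw [AlgHom.commutes, DirectSum.algebraMap_apply]; rfl
    | add x y i hx hy ihx ihy =>
      rw [map_add, ihx, ihy, ← map_add]
      rfl
    | mem_mul m hm i x hx ih =>
      obtain ⟨_, rfl⟩ := hm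
      rw [map_mul, ih, SymmetricAlgebra.lift_ι_apply, gι_apply R M, DirectSum.of_mul_of]
      exact DirectSum.of_eq_of_gradedMonoid_eq (Sigma.subtype_ext (add_comm _ _) rfl)

end Groth.Agent.Lib.Helper3.SymGrading
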