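import Groth.Agent.Lib.Helper3.RLPsiImmU
import Groth.Agent.Lib.Helper3.TensorDesc
import Groth.Agent.Lib.Helper3.RelAmpleLib
import Groth.Agent.Lib.Helper3.AffExt

/-!
# The symmetric algebra of an invertible module and its tensor powers

For an invertible module `L` with symmetric algebra `A` (structure map `j : L ⟶ A`) we build the
multiplication maps `κ_n : L^{⊗ n} ⟶ A`, show they are injective, and that every section of `A`
which is locally homogeneous of degree `n` comes from a unique section of `L^{⊗ n}`.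
-/

set_option autoImplicit false
set_option linter.unusedSectionVars false
universe u
open CategoryTheory CategoryTheory.Limits AlgebraicGeometry TopologicalSpace Opposite
open Scheme.Modules
open scoped HomogeneousIdeal

namespace Groth.Agent.Lib.Helper3.SymPow

open QCSec InvGen HomMk SymGen InvTensor InvMonoidal TensorDesc

section kap

variable {X : Scheme.{u}} (A : RelSpec.QCAlg X) {L : X.Modules} (j : L ⟶ A.toModule)

/-- the structure map as a morphism of modules -/
noncomputable def kap0 : Coh.structureModule X ⟶ A.toModule :=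
  homMk (fun U a => (show Γ(A.toModule, U) from st A U (toFun U a)))
    (fun U a b => map_add (st A U) (toFun U a) (toFun U b))
    (fun U r a => map_mul (st A U) r (toFun U a))
    (fun {U V} h a => rs_st A h (toFun U a))

theorem kap0_app (U : X.Opens) (a : Γ(X, U)) :
    jj A (kap0 A) U (ofFun U a) = st A U a := rfl

/-- the pairing `(s, e) ↦ κ(s) · j(e)` -/
noncomputable def kapPair {M : X.Modules} (κ : M ⟶ A.toModule) : Pairing M L A.toModule where
  toFun U s e := (show Γ(A.toModule, U) from jj A κ U s * jj A j U e)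
  add_left U m m' n := by
    change jj A κ U (m + m') * jj A j U n = jj A κ U m * jj A j U n + jj A κ U m' * jj A j U n
    rw [jj_add, add_mul]
  add_right U m n n' := by
    change jj A κ U m * jj A j U (n + n') = jj A κ U m * jj A j U n + jj A κ U m * jj A j U n'
    rw [jj_add, mul_add]
  smul_left U a m n := by
    change jj A κ U (a • m) * jj A j U n = st A U a * (jj A κ U m * jj A j U n)
    rw [jj_smul, mul_assoc]
  smul_right U a m n := by
    change jj A κ U m * jj A j U (a • n) = st A U a * (jj A κ U m * jj A j U n)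
    rw [jj_smul, mul_left_comm]
  map_res {U V} h m n := by
    change rs A h (jj A κ U m * jj A j U n) = jj A κ V (res M h m) * jj A j V (res L h n)
    rw [map_mul, rs_jj, rs_jj]

/-- the multiplication maps `L^{⊗ n} ⟶ A` -/
noncomputable def kap : (n : ℕ) → (CohB1.tensorPow L n ⟶ A.toModule)
  | 0 => kap0 A
  | n + 1 => (kapPair A j (kap n)).hom

theorem kap_lpow {U : X.Opens} (e : Γ(L, U)) (n : ℕ) :
    jj A (kap A j n) U (lpow L e n) = (jj A j U e) ^ n := by
  induction n with
  | zero =>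
    change st A U (1 : Γ(X, U)) = _
    rw [map_one, pow_zero]
  | succ n ih =>
    change (kapPair A j (kap A j n)).hom.app U (tm _ _ U (lpow L e n) e) = _
    rw [Pairing.hom_tm]
    change jj A (kap A j n) U (lpow L e n) * jj A j U e = _
    rw [ih, pow_succ]

theorem kap_smul_lpow {U : X.Opens} (c : Γ(X, U)) (e : Γ(L, U)) (n : ℕ) :
    jj A (kap A j n) U (c • lpow L e n) = st A U c * (jj A j U e) ^ n := by
  rw [jj_smul, kap_lpow]

variable [L.IsQuasicoherent]

/-- coefficients with respect to powers of a generator are unique -/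
theorem coeff_inj (hj : RelSpec.IsSymAlg L A j) {V : X.Opens} (hV : IsAffineOpen V)
    {e : Γ(L, V)} (he : IsGenAt L V e) (n : ℕ) {b b' : Γ(X, V)}
    (h : st A V b * (jj A j V e) ^ n = st A V b' * (jj A j V e) ^ n) : b = b' := by
  obtain ⟨g, ⟨hg1, hg2⟩, -⟩ := SymLocal.existsUnique_lift hj ⟨V, hV⟩ (RingHom.id Γ(X, V))
    ((SymInvProj.coord he).toLinearMap.toAddMonoidHom) (fun a m => by
      change SymInvProj.coord he (a • m) = a * SymInvProj.coord he m
      rw [LinearEquiv.map_smul, smul_eq_mul])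
  have h1 := congrArg g h
  rw [map_mul, map_mul, map_pow] at h1
  have h2 : g (jj A j V e) = 1 := (hg2 e).trans (SymInvProj.coord_self he)
  have h3 : ∀ c, g (st A V c) = c := fun c => hg1 c
  rw [h2, one_pow, mul_one, mul_one, h3, h3] at h1
  exact h1

/-- `κ_n` is injective on sections over opens where `L` is trivial -/
theorem kap_injective (hj : RelSpec.IsSymAlg L A j) {V : X.Opens} {e : Γ(L, V)}
    (hg : IsGen L V e) (n : ℕ) {V' : X.Opens} (hle : V' ≤ V)
    (s s' : Γ(CohB1.tensorPow L n, V'))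
    (h : jj A (kap A j n) V' s = jj A (kap A j n) V' s') : s = s' := by
  have hgn : IsGen (CohB1.tensorPow L n) V' (lpow L (res L hle e) n) :=
    isGen_lpow (hg.mono hle) n
  obtain ⟨b, rfl⟩ := hgn.self.exists_coord s
  obtain ⟨b', rfl⟩ := hgn.self.exists_coord s'
  rw [kap_smul_lpow, kap_smul_lpow] at h
  congr 1
  refine fun_eq_of_locally_eq (fun W : {W : X.Opens // IsAffineOpen W ∧ W ≤ V'} => W.1) V'
    (fun W => W.2.2) ?_ b b' (fun W => ?_)
  · intro x hx
    obtain ⟨W, hW, hxW, hWV⟩ := AffExt.exists_affine_nbhd V' x hx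
    exact Opens.mem_iSup.mpr ⟨⟨W, hW, hWV⟩, hxW⟩
  · obtain ⟨W, hW, hWV⟩ := W
    have h1 := congrArg (rs A hWV) h
    rw [map_mul, map_mul, map_pow, rs_st, rs_st, rs_jj, res_res] at h1
    exact coeff_inj A j hj hW (hg W (hWV.trans hle)) n h1

end kap

section exist

variable {X : Scheme.{u}} {L : X.Modules} [L.IsQuasicoherent] {𝒮L : RelProj.QCGrAlg X}
  {j : L ⟶ 𝒮L.toModule}

/-- a section of `Sym L` which is locally homogeneous of degree `n` comes from `L^{⊗ n}` -/
theorem exists_kap_eq (hL : PicF.IsInvertible L) (hj : RelProj.IsGrSymAlg L 𝒮L j) (n : ℕ)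
    (W : X.Opens) (t : 𝒮L.presheaf.obj (op W))
    (ht : ∀ (V : X.Opens) (hV : IsAffineOpen V) (hVW : V ≤ W),
      rs 𝒮L.toQCAlg hVW t ∈ 𝒮L.deg V hV n) :
    ∃ s : Γ(CohB1.tensorPow L n, W), jj 𝒮L.toQCAlg (kap 𝒮L.toQCAlg j n) W s = t := by
  classical
  let I := {V : X.Opens // IsAffineOpen V ∧ V ≤ W ∧ ∃ e : Γ(L, V), IsGen L V e}
  have hcov : W ≤ ⨆ i : I, i.1 := by
    intro x hx
    obtain ⟨V, e, hV, hxV, hVW, hg⟩ := exists_affine_isGen_le hL x W hx
    exact Opens.mem_iSup.mpr ⟨⟨V, hV, hVW, e, hg⟩, hxV⟩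
  choose e he using fun i : I => i.2.2.2
  have hc : ∀ i : I, ∃ c : Γ(X, i.1), rs 𝒮L.toQCAlg i.2.2.1 t =
      st 𝒮L.toQCAlg i.1 c * (jj 𝒮L.toQCAlg j i.1 (e i)) ^ n :=
    fun i => RLPsiInv.exists_eq_mul_pow hj i.2.1 (he i).self (ht i.1 i.2.1 i.2.2.1)
  choose c hc using hc
  let σ : ∀ i : I, Γ(CohB1.tensorPow L n, i.1) := fun i => c i • lpow L (e i) n
  have hσ : ∀ i : I, jj 𝒮L.toQCAlg (kap 𝒮L.toQCAlg j n) i.1 (σ i) =
      rs 𝒮L.toQCAlg i.2.2.1 t := by
    intro i
    rw [hc i]
    exact kap_smul_lpow 𝒮L.toQCAlg j (c i) (e i) n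
  obtain ⟨s, hs⟩ := sec_glue (CohB1.tensorPow L n) (fun i : I => i.1) W (fun i => i.2.2.1)
    hcov σ (fun i k => by
      apply kap_injective 𝒮L.toQCAlg j hj.1 (he i) n inf_le_left
      rw [← rs_jj, ← rs_jj, hσ i, hσ k, rs_rs, rs_rs])
  refine ⟨s, ?_⟩
  refine sec_eq_of_locally_eq 𝒮L.toModule (fun i : I => i.1) W (fun i => i.2.2.1) hcov _ _
    (fun i => ?_)
  change rs 𝒮L.toQCAlg i.2.2.1 (jj _ (kap _ j n) W s) = rs 𝒮L.toQCAlg i.2.2.1 t
  rw [rs_jj, hs i, hσ i]

end exist

section gen

variable {X : Scheme.{u}} {L : X.Modules}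

/-- a multiple `c • e^{⊗ n}` of a power of a generator generates exactly over `D(c)` -/
theorem isGen_smul_lpow_of_le {V : X.Opens} {e : Γ(L, V)} (hg : IsGen L V e) (n : ℕ)
    (c : Γ(X, V)) {V' : X.Opens} (hle : V' ≤ V) (h : V' ≤ X.basicOpen c) :
    IsGen (CohB1.tensorPow L n) V' (res _ hle (c • lpow L e n)) := by
  rw [res_smul]
  exact ((isGen_lpow hg n).mono hle).smul_unit (TrivFin.isUnit_rres_of_le_basicOpen c hle h)

theorem le_basicOpen_of_isGen_smul_lpow {V : X.Opens} {e : Γ(L, V)} (hg : IsGen L V e) (n : ℕ)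
    (c : Γ(X, V)) {V' : X.Opens} (hle : V' ≤ V)
    (h : IsGenAt (CohB1.tensorPow L n) V' (res _ hle (c • lpow L e n))) :
    V' ≤ X.basicOpen c := by
  have h0 : IsGenAt (CohB1.tensorPow L n) V' (res _ hle (lpow L e n)) :=
    ((isGen_lpow hg n).mono hle).self
  obtain ⟨w, hw, hw'⟩ := h0.exists_unit h
  rw [res_smul] at hw'
  have h1 : rres X hle c = w := h0.smul_inj hw'
  have h2 : X.basicOpen (rres X hle c) = V' := by
    rw [h1]
    exact Scheme.basicOpen_of_isUnit X hw
  rw [← h2]
  exact (Scheme.basicOpen_res X c (homOfLE hle).op).le.trans inf_le_right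

end gen

end Groth.Agent.Lib.Helper3.SymPow
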