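import Groth.Agent.Lib.Helper3.SymPow
import Groth.Agent.Lib.Helper3.InvRestrict
import Groth.Agent.Lib.Helper3.InvAmple
import Groth.Agent.Lib.Helper3.GrModLoc
import Groth.Agent.Lib.Helper3.RelProjExist

/-!
# Ampleness from the morphism `r_{L,ψ}` (EGA II 4.6.3, 4.5.2: the converse directions)
-/

set_option autoImplicit false
set_option linter.unusedSectionVars false
universe u
open CategoryTheory CategoryTheory.Limits AlgebraicGeometry TopologicalSpace Opposite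
open Scheme.Modules
open scoped HomogeneousIdeal

namespace Groth.Agent.Lib.Helper3.SymPowAmple

open QCSec InvGen SymGen InvTensor InvRestrict InvAmple ProjQMap HomogeneousLocalization
  Groth.Agent.Lib.Helper3.RLPsiImmU Groth.Agent.Lib.Helper3.SymPow

section R

variable {X : Scheme.{u}} {L : X.Modules}

/-- ampleness of the restriction to a quasi-compact open from sections over that open -/
theorem isAmple_restrict_of_sections (hL : PicF.IsInvertible L) (W : X.Opens)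
    [CompactSpace (W : Scheme.{u})]
    (h : ∀ x ∈ W, ∃ (n : ℕ) (σ : Γ(CohB1.tensorPow L (n + 1), W)) (Ω : X.Opens),
      IsAffineOpen Ω ∧ x ∈ Ω ∧ Ω ≤ W ∧
      ∀ x' : X, x' ∈ Ω ↔ ∃ (V' : X.Opens) (hle : V' ≤ W), x' ∈ V' ∧
        IsGen (CohB1.tensorPow L (n + 1)) V' (res _ hle σ)) :
    CohB1.IsAmple (L.restrict W.ι) := by
  apply isAmple_of_secLocus (isInvertible_restrict W.ι hL)
  intro y
  obtain ⟨n, σ, Ω, hΩa, hxΩ, hΩW, hΩ⟩ := h (W.ι y) y.2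
  have hloc : CohB1.genLocus _ (homOfSec (CohB1.tensorPow L (n + 1)) W σ ≫
      (restrictPowIso W.ι L (n + 1)).inv) = W.ι ⁻¹ᵁ Ω := by
    rw [genLocus_comp_iso]
    apply le_antisymm
    · intro z hz
      obtain ⟨V', hzV', hg⟩ := (mem_genLocus_iff _ z).mp hz
      have hg' := (isGen_restrict_iff W.ι _ V' _).mp hg
      rw [sec_homOfSec] at hg'
      exact (hΩ (W.ι z)).mpr ⟨W.ι ''ᵁ V', W.ι_image_le V', ⟨z, hzV', rfl⟩, hg'⟩
    · intro z hz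
      obtain ⟨V', hle, hzV', hg⟩ := (hΩ (W.ι z)).mp hz
      apply (mem_genLocus_iff _ z).mpr
      refine ⟨W.ι ⁻¹ᵁ V', hzV', ?_⟩
      rw [isGen_restrict_iff, sec_homOfSec]
      have h1 := hg.mono (show W.ι ''ᵁ (W.ι ⁻¹ᵁ V') ≤ V' from (ι_image_preimage_of_le hle).le)
      rwa [res_res] at h1
  refine ⟨W.ι ⁻¹ᵁ Ω, ⟨n, _, hloc.symm⟩, hxΩ, ?_⟩
  rw [← W.ι.isAffineOpen_iff_of_isOpenImmersion, ι_image_preimage_of_le hΩW]
  exact hΩa

end R

section main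
variable {Y X P PL : Scheme.{u}} {q : X ⟶ Y} {L : X.Modules}
  {𝒮 : RelProj.QCGrAlg Y} {𝒮L : RelProj.QCGrAlg X} {j : L ⟶ 𝒮L.toModule}
  (u : RelProj.QGrHom q 𝒮 𝒮L)
  {p : P ⟶ Y} {chart : ∀ (U : Y.Opens) (hU : IsAffineOpen U),
    (((p ⁻¹ᵁ U : P.Opens) : Scheme.{u}) ≅ Proj (𝒮.deg U hU))}
  {pL : PL ⟶ X} {chartL : ∀ (U : X.Opens) (hU : IsAffineOpen U),
    (((pL ⁻¹ᵁ U : PL.Opens) : Scheme.{u}) ≅ Proj (𝒮L.deg U hU))}
  (r : ((RelProj.domQ u pL chartL : PL.Opens) : Scheme.{u}) ⟶ P)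
  (hL : PicF.IsInvertible L) (hLq : Coh.IsQCoh L) (hj : RelProj.IsGrSymAlg L 𝒮L j)
  (hP : RelProj.IsRelProj 𝒮 p chart) (hPL : RelProj.IsRelProj 𝒮L pL chartL)
  (hr : RelProj.IsProjQMapOn u p chart pL chartL (RelProj.domQ u pL chartL) r)

include hL hLq hj hP hPL hr in
/-- membership in `X_{u(s)}` in terms of a chart -/
theorem XFU_mem_iff (U : Y.Opens) (hU : IsAffineOpen U) {n : ℕ} (hn : 0 < n)
    (s : 𝒮.presheaf.obj (op U)) (hs : s ∈ 𝒮.deg U hU n)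
    (V : X.Opens) (hV : IsAffineOpen V) (hle : V ≤ q ⁻¹ᵁ U) (y : Proj (𝒮L.deg V hV)) :
    pL (RelProj.emb pL chartL V hV y) ∈ XFU u U n s ↔
      (u.appLE U V hle).hom s ∉ y.asHomogeneousIdeal := by
  haveI : L.IsQuasicoherent := hLq
  constructor
  · intro hx
    have hx' : RelProj.emb pL chartL V hV y ∈ pL ⁻¹ᵁ XFU u U n s := hx
    rw [← image_preimage_eq u r hL hLq hj hP hPL hr U hU hn s hs] at hx'
    obtain ⟨z, hz, hzx⟩ := hx'
    exact (RLPsi.r_mem_iff u r hr hPL z U hU V hV hle y hzx.symm hn s hs).mp hz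
  · intro hsy
    have hdom : RelProj.emb pL chartL V hV y ∈ RelProj.domQ u pL chartL :=
      RLPsi.mem_domQ_of_loc u _ U hU V hV hle ⟨y, rfl, n, hn, s, hs, hsy⟩
    have h1 := (RLPsi.r_mem_iff u r hr hPL ⟨_, hdom⟩ U hU V hV hle y rfl hn s hs).mpr hsy
    have h2 : RelProj.emb pL chartL V hV y ∈ (RelProj.domQ u pL chartL).ι ''ᵁ
        (r ⁻¹ᵁ ((RelProj.emb p chart U hU) ''ᵁ Proj.basicOpen (𝒮.deg U hU) s)) :=
      ⟨⟨_, hdom⟩, h1, rfl⟩
    rw [image_preimage_eq u r hL hLq hj hP hPL hr U hU hn s hs] at h2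
    exact h2

include hL hLq hj hP hPL hr in
/-- on an affine open where `L` is trivial, `X_{u(s)}` is a basic open -/
theorem XFU_inf_eq_basicOpen (U : Y.Opens) (hU : IsAffineOpen U) {n : ℕ} (hn : 0 < n)
    (s : 𝒮.presheaf.obj (op U)) (hs : s ∈ 𝒮.deg U hU n)
    (V : X.Opens) (hV : IsAffineOpen V) (hle : V ≤ q ⁻¹ᵁ U)
    {e : Γ(L, V)} (hg : IsGenAt L V e) (c : Γ(X, V))
    (hc : (u.appLE U V hle).hom s = st 𝒮L.toQCAlg V c * (jj 𝒮L.toQCAlg j V e) ^ n) :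
    XFU u U n s ⊓ V = X.basicOpen c := by
  haveI : L.IsQuasicoherent := hLq
  haveI := SymInvProj.isIso_p hL hj pL chartL hPL
  apply le_antisymm
  · rintro x ⟨hx1, hx2⟩
    obtain ⟨x', rfl⟩ := pL.surjective x
    obtain ⟨y, hy⟩ := exists_emb_eq pL chartL V hV x' hx2
    rw [← hy] at hx1 ⊢
    exact (RLPsiInv.notMem_iff hj hPL hV hg c hc y).mp
      ((XFU_mem_iff u r hL hLq hj hP hPL hr U hU hn s hs V hV hle y).mp hx1)
  · intro x hx
    obtain ⟨x', rfl⟩ := pL.surjective x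
    have hx2 : pL x' ∈ V := X.basicOpen_le c hx
    obtain ⟨y, hy⟩ := exists_emb_eq pL chartL V hV x' hx2
    refine ⟨?_, hx2⟩
    rw [← hy] at hx ⊢
    exact (XFU_mem_iff u r hL hLq hj hP hPL hr U hU hn s hs V hV hle y).mpr
      ((RLPsiInv.notMem_iff hj hPL hV hg c hc y).mpr hx)

include hL hLq hj hP hPL hr in
/-- `X_{u(s)}` is the locus where the corresponding section of `L^{⊗ n}` generates -/
theorem XFU_mem_iff_isGen (U : Y.Opens) (hU : IsAffineOpen U) {n : ℕ} (hn : 0 < n)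
    (s : 𝒮.presheaf.obj (op U)) (hs : s ∈ 𝒮.deg U hU n)
    (σ : Γ(CohB1.tensorPow L n, q ⁻¹ᵁ U))
    (hσ : jj 𝒮L.toQCAlg (kap 𝒮L.toQCAlg j n) (q ⁻¹ᵁ U) σ = (u.app U).hom s) (x : X) :
    x ∈ XFU u U n s ↔ ∃ (V' : X.Opens) (hle : V' ≤ q ⁻¹ᵁ U), x ∈ V' ∧
      IsGen (CohB1.tensorPow L n) V' (res _ hle σ) := by
  haveI : L.IsQuasicoherent := hLq
  have key : ∀ (V : X.Opens) (hV : IsAffineOpen V) (hle : V ≤ q ⁻¹ᵁ U) (e : Γ(L, V))
      (hg : IsGen L V e), ∃ c : Γ(X, V), c • lpow L e n = res _ hle σ ∧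
        XFU u U n s ⊓ V = X.basicOpen c := by
    intro V hV hle e hg
    obtain ⟨c, hc⟩ := (isGen_lpow hg n).self.exists_coord (res _ hle σ)
    refine ⟨c, hc, ?_⟩
    apply XFU_inf_eq_basicOpen u r hL hLq hj hP hPL hr U hU hn s hs V hV hle hg.self c
    have h1 : (u.appLE U V hle).hom s = rs 𝒮L.toQCAlg hle ((u.app U).hom s) := rfl
    rw [h1, ← hσ, rs_jj, ← hc, kap_smul_lpow]
  constructor
  · intro hx
    obtain ⟨V, e, hV, hxV, hle, hg⟩ := exists_affine_isGen_le hL x (q ⁻¹ᵁ U) (XFU_le u U n s hx)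
    obtain ⟨c, hc, hinf⟩ := key V hV hle e hg
    have hxc : x ∈ X.basicOpen c := by
      rw [← hinf]
      exact ⟨hx, hxV⟩
    refine ⟨X.basicOpen c, (X.basicOpen_le c).trans hle, hxc, ?_⟩
    have h2 := isGen_smul_lpow_of_le hg n c (X.basicOpen_le c) le_rfl
    rw [hc, res_res] at h2
    exact h2
  · rintro ⟨V', hle', hxV', hgen⟩
    obtain ⟨V, e, hV, hxV, hle, hg⟩ := exists_affine_isGen_le hL x V' hxV'
    obtain ⟨c, hc, hinf⟩ := key V hV (hle.trans hle') e hg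
    have h3 : IsGenAt (CohB1.tensorPow L n) V (res _ le_rfl (c • lpow L e n)) := by
      rw [hc, res_res]
      have h4 := hgen V hle
      rwa [res_res] at h4
    have h5 := le_basicOpen_of_isGen_smul_lpow hg n c le_rfl h3
    have h6 : x ∈ XFU u U n s ⊓ V := by
      rw [hinf]
      exact h5 hxV
    exact h6.1

include hL hLq hj hP hPL hr in
/-- restricting the section on the base restricts `X_{u(s)}` -/
theorem XFU_res (U : Y.Opens) (hU : IsAffineOpen U) {n : ℕ} (hn : 0 < n)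
    (s : 𝒮.presheaf.obj (op U)) (hs : s ∈ 𝒮.deg U hU n)
    (B : Y.Opens) (hB : IsAffineOpen B) (i : B ≤ U) :
    XFU u B n ((𝒮.presheaf.map (homOfLE i).op).hom s) = XFU u U n s ⊓ q ⁻¹ᵁ B := by
  haveI : L.IsQuasicoherent := hLq
  haveI := SymInvProj.isIso_p hL hj pL chartL hPL
  have hsB : (𝒮.presheaf.map (homOfLE i).op).hom s ∈ 𝒮.deg B hB n := 𝒮.map_mem hU hB i hs
  have key : ∀ x : X, x ∈ q ⁻¹ᵁ B →
      (x ∈ XFU u B n ((𝒮.presheaf.map (homOfLE i).op).hom s) ↔ x ∈ XFU u U n s) := by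
    intro x hxB
    obtain ⟨x', rfl⟩ := pL.surjective x
    obtain ⟨V, hV, hxV, hle⟩ := RLPsi.exists_affine_pair q (pL x') B hxB
    obtain ⟨y, hy⟩ := exists_emb_eq pL chartL V hV x' hxV
    rw [← hy, XFU_mem_iff u r hL hLq hj hP hPL hr B hB hn _ hsB V hV hle y,
      XFU_mem_iff u r hL hLq hj hP hPL hr U hU hn s hs V hV (hle.trans (q.preimage_mono i)) y,
      RLPsi.res_appLE u i hle s]
  apply le_antisymm
  · intro x hx
    have hxB := XFU_le u B n _ hx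
    exact ⟨(key x hxB).mp hx, hxB⟩
  · rintro x ⟨hx1, hx2⟩
    exact (key x hx2).mpr hx1

include hL hLq hj hP hPL hr in
/-- extending a section from a basic open of the base does not change `X_{u(s)}` -/
theorem XFU_extend {n : ℕ} (hn : 0 < n) (V₀ : Y.Opens) (hV₀ : IsAffineOpen V₀) (b : Γ(Y, V₀))
    (z : 𝒮.presheaf.obj (op (Y.basicOpen b))) (hz : z ∈ 𝒮.deg _ (hV₀.basicOpen b) n)
    (k : ℕ) (s₀ : 𝒮.presheaf.obj (op V₀)) (hs₀ : s₀ ∈ 𝒮.deg V₀ hV₀ n)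
    (h : z * (𝒮.res hV₀ (hV₀.basicOpen b) (Y.basicOpen_le b)) (st 𝒮.toQCAlg V₀ b) ^ k =
      (𝒮.res hV₀ (hV₀.basicOpen b) (Y.basicOpen_le b)) s₀) :
    XFU u V₀ n (st 𝒮.toQCAlg V₀ b * s₀) = XFU u (Y.basicOpen b) n z := by
  haveI : L.IsQuasicoherent := hLq
  haveI := SymInvProj.isIso_p hL hj pL chartL hPL
  have hB : IsAffineOpen (Y.basicOpen b) := hV₀.basicOpen b
  have iV : Y.basicOpen b ≤ V₀ := Y.basicOpen_le b
  have hs₁ : st 𝒮.toQCAlg V₀ b * s₀ ∈ 𝒮.deg V₀ hV₀ n := by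
    have h1 := SetLike.mul_mem_graded (𝒮.str_mem V₀ hV₀ b) hs₀
    rwa [zero_add] at h1
  obtain ⟨hunit, -, -⟩ := RelProjExist.loc_facts 𝒮 hV₀ hB b rfl
  have hunit' : IsUnit (rs 𝒮.toQCAlg iV (st 𝒮.toQCAlg V₀ b)) := hunit
  have h' : z * (rs 𝒮.toQCAlg iV (st 𝒮.toQCAlg V₀ b)) ^ k = rs 𝒮.toQCAlg iV s₀ := h
  have core : ∀ (V : X.Opens) (hV : IsAffineOpen V) (hle : V ≤ q ⁻¹ᵁ Y.basicOpen b)
      (y : Proj (𝒮L.deg V hV)),
      (u.appLE V₀ V (hle.trans (q.preimage_mono iV))).hom (st 𝒮.toQCAlg V₀ b * s₀) ∉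
        y.asHomogeneousIdeal ↔
      (u.appLE (Y.basicOpen b) V hle).hom z ∉ y.asHomogeneousIdeal := by
    intro V hV hle y
    have e0 : rs 𝒮.toQCAlg iV (st 𝒮.toQCAlg V₀ b * s₀) =
        (rs 𝒮.toQCAlg iV (st 𝒮.toQCAlg V₀ b)) ^ (k + 1) * z := by
      rw [map_mul, ← h', pow_succ]
      ring
    have e1 : (u.appLE V₀ V (hle.trans (q.preimage_mono iV))).hom (st 𝒮.toQCAlg V₀ b * s₀) =
        ((u.appLE (Y.basicOpen b) V hle).hom (rs 𝒮.toQCAlg iV (st 𝒮.toQCAlg V₀ b))) ^ (k + 1) *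
          (u.appLE (Y.basicOpen b) V hle).hom z := by
      rw [← RLPsi.res_appLE u iV hle, e0, map_mul, map_pow]
    have hunit'' : IsUnit ((u.appLE (Y.basicOpen b) V hle).hom
        (rs 𝒮.toQCAlg iV (st 𝒮.toQCAlg V₀ b))) := hunit'.map _
    rw [e1]
    constructor
    · intro h1 h2
      exact h1 (Ideal.mul_mem_left _ _ h2)
    · intro h1 h2
      have h2' : ((u.appLE (Y.basicOpen b) V hle).hom
          (rs 𝒮.toQCAlg iV (st 𝒮.toQCAlg V₀ b))) ^ (k + 1) *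
          (u.appLE (Y.basicOpen b) V hle).hom z ∈ y.asHomogeneousIdeal.toIdeal := h2
      rcases y.isPrime.mem_or_mem h2' with h3 | h3
      · exact y.isPrime.ne_top (Ideal.eq_top_of_isUnit_mem _ h3 (hunit''.pow (k + 1)))
      · exact h1 h3
  apply le_antisymm
  · intro x hx
    obtain ⟨x', rfl⟩ := pL.surjective x
    have hxV₀ := XFU_le u V₀ n _ hx
    obtain ⟨V, hV, hxV, hleV⟩ := RLPsi.exists_affine_pair q (pL x') V₀ hxV₀
    obtain ⟨y, hy⟩ := exists_emb_eq pL chartL V hV x' hxV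
    have hx1 := hx
    rw [← hy, XFU_mem_iff u r hL hLq hj hP hPL hr V₀ hV₀ hn _ hs₁ V hV hleV y] at hx1
    have hb : (u.appLE V₀ V hleV).hom (st 𝒮.toQCAlg V₀ b) ∉ y.asHomogeneousIdeal := by
      intro hmem
      apply hx1
      rw [map_mul]
      exact Ideal.mul_mem_right _ _ hmem
    have hstr : (u.appLE V₀ V hleV).hom (st 𝒮.toQCAlg V₀ b) =
        st 𝒮L.toQCAlg V ((q.appLE V₀ V hleV).hom b) :=
      congrArg (fun θ => θ.hom b) (u.str_appLE V₀ V hleV)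
    rw [hstr] at hb
    have hxb : pL (RelProj.emb pL chartL V hV y) ∈ X.basicOpen ((q.appLE V₀ V hleV).hom b) :=
      (RLPsiInv.mem_basicOpen_iff hPL V hV _ y).mpr hb
    have hxb' : pL (RelProj.emb pL chartL V hV y) ∈ V ⊓ q ⁻¹ᵁ (Y.basicOpen b) := by
      rw [← Scheme.basicOpen_appLE q V V₀ hleV b]
      exact hxb
    rw [hy] at hxb'
    have hxB : pL x' ∈ q ⁻¹ᵁ Y.basicOpen b := hxb'.2
    obtain ⟨V', hV', hxV', hleV'⟩ := RLPsi.exists_affine_pair q (pL x') (Y.basicOpen b) hxB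
    obtain ⟨y', hy'⟩ := exists_emb_eq pL chartL V' hV' x' hxV'
    rw [← hy', XFU_mem_iff u r hL hLq hj hP hPL hr V₀ hV₀ hn _ hs₁ V' hV'
      (hleV'.trans (q.preimage_mono iV)) y'] at hx
    rw [← hy', XFU_mem_iff u r hL hLq hj hP hPL hr (Y.basicOpen b) hB hn z hz V' hV' hleV' y']
    exact (core V' hV' hleV' y').mp hx
  · intro x hx
    obtain ⟨x', rfl⟩ := pL.surjective x
    have hxB := XFU_le u (Y.basicOpen b) n z hx
    obtain ⟨V', hV', hxV', hleV'⟩ := RLPsi.exists_affine_pair q (pL x') (Y.basicOpen b) hxB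
    obtain ⟨y', hy'⟩ := exists_emb_eq pL chartL V' hV' x' hxV'
    rw [← hy', XFU_mem_iff u r hL hLq hj hP hPL hr (Y.basicOpen b) hB hn z hz V' hV' hleV' y']
      at hx
    rw [← hy', XFU_mem_iff u r hL hLq hj hP hPL hr V₀ hV₀ hn _ hs₁ V' hV'
      (hleV'.trans (q.preimage_mono iV)) y']
    exact (core V' hV' hleV' y').mpr hx

include hL hLq hj hP hPL hr in
/-- an affine `X_{u(s)}`, `s` over some affine open of the base, gives the local datum of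
ampleness over any other affine open of the base -/
theorem exists_sections_of_XFU (V₀ : Y.Opens) (hV₀ : IsAffineOpen V₀) (x : X)
    (hx : x ∈ q ⁻¹ᵁ V₀) (U : Y.Opens) (hU : IsAffineOpen U) {n : ℕ} (hn : 0 < n)
    (s : 𝒮.presheaf.obj (op U)) (hs : s ∈ 𝒮.deg U hU n) (hxX : x ∈ XFU u U n s)
    (hXT : IsAffineOpen (XFU u U n s)) :
    ∃ (n' : ℕ) (σ : Γ(CohB1.tensorPow L (n' + 1), q ⁻¹ᵁ V₀)) (Ω : X.Opens),
      IsAffineOpen Ω ∧ x ∈ Ω ∧ Ω ≤ q ⁻¹ᵁ V₀ ∧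
      ∀ x' : X, x' ∈ Ω ↔ ∃ (V' : X.Opens) (hle : V' ≤ q ⁻¹ᵁ V₀), x' ∈ V' ∧
        IsGen (CohB1.tensorPow L (n' + 1)) V' (res _ hle σ) := by
  haveI : L.IsQuasicoherent := hLq
  obtain ⟨n', rfl⟩ : ∃ n', n = n' + 1 := ⟨n - 1, by omega⟩
  have hxU : q x ∈ U := XFU_le u U _ s hxX
  obtain ⟨b', b, hbb, hxb⟩ := exists_basicOpen_le_affine_inter hU hV₀ (q x) ⟨hxU, hx⟩
  have hB : IsAffineOpen (Y.basicOpen b) := hV₀.basicOpen b
  have iU : Y.basicOpen b ≤ U := by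
    rw [← hbb]
    exact Y.basicOpen_le b'
  have hz : (𝒮.presheaf.map (homOfLE iU).op).hom s ∈ 𝒮.deg _ hB (n' + 1) :=
    𝒮.map_mem hU hB iU hs
  obtain ⟨k, s₀, hs₀, hk⟩ := GrModLoc.exists_homogeneous_lift
    (𝒮.res hV₀ hB (Y.basicOpen_le b)) (st 𝒮.toQCAlg V₀ b)
    (RelProjExist.loc_facts 𝒮 hV₀ hB b rfl).2.1 (𝒮.str_mem V₀ hV₀ b) hz
  have e1 := XFU_res u r hL hLq hj hP hPL hr U hU hn s hs (Y.basicOpen b) hB iU
  have e2 := XFU_extend u r hL hLq hj hP hPL hr hn V₀ hV₀ b _ hz k s₀ hs₀ hk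
  have hs₁ : st 𝒮.toQCAlg V₀ b * s₀ ∈ 𝒮.deg V₀ hV₀ (n' + 1) := by
    have h1 := SetLike.mul_mem_graded (𝒮.str_mem V₀ hV₀ b) hs₀
    rwa [zero_add] at h1
  obtain ⟨σ, hσ⟩ := exists_kap_eq hL hj (n' + 1) (q ⁻¹ᵁ V₀)
    ((u.app V₀).hom (st 𝒮.toQCAlg V₀ b * s₀))
    (fun V hV hVW => u.map_mem V₀ hV₀ V hV hVW hs₁)
  refine ⟨n', σ, XFU u V₀ (n' + 1) (st 𝒮.toQCAlg V₀ b * s₀), ?_, ?_, XFU_le u _ _ _, fun x' =>
    XFU_mem_iff_isGen u r hL hLq hj hP hPL hr V₀ hV₀ hn _ hs₁ σ hσ x'⟩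
  · rw [e2, e1]
    have h3 : XFU u U (n' + 1) s ⊓ q ⁻¹ᵁ Y.basicOpen b =
        X.basicOpen ((q.appLE U (XFU u U (n' + 1) s) (XFU_le u U _ s)).hom b') := by
      rw [← hbb]
      exact (Scheme.basicOpen_appLE q _ U (XFU_le u U _ s) b').symm
    rw [h3]
    exact hXT.basicOpen _
  · rw [e2, e1]
    refine ⟨hxX, ?_⟩
    rw [← hbb]
    exact hxb

include hL hLq hj hP hPL hr in
/-- if the affine opens `X_{u(s)}` cover `X`, then `L` is relatively ample -/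
theorem isRelAmple_of_forall_XFU [QuasiCompact q]
    (H : ∀ x : X, ∃ (U : Y.Opens) (hU : IsAffineOpen U) (n : ℕ) (s : 𝒮.presheaf.obj (op U)),
      0 < n ∧ s ∈ 𝒮.deg U hU n ∧ x ∈ XFU u U n s ∧ IsAffineOpen (XFU u U n s)) :
    RelAmple.IsRelAmple q L := by
  refine ⟨inferInstance, fun V₀ => ?_⟩
  haveI := RelAmpleLib.compactSpace_preimage q V₀.1 V₀.2
  apply isAmple_restrict_of_sections hL (q ⁻¹ᵁ V₀.1)
  intro x hx
  obtain ⟨U, hU, n, s, hn, hs, hxX, hXT⟩ := H x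
  exact exists_sections_of_XFU u r hL hLq hj hP hPL hr V₀.1 V₀.2 x hx U hU hn s hs hxX hXT

include hL hLq hj hP hPL hr in
/-- EGA II 4.6.3 / 3.8.5: if `r_{L,ψ}` is an everywhere defined immersion, `L` is relatively
ample -/
theorem isRelAmple_of_isImmersion [QuasiCompact q] (hW : RelProj.domQ u pL chartL = ⊤)
    [IsImmersion r] : RelAmple.IsRelAmple q L := by
  refine isRelAmple_of_forall_XFU u r hL hLq hj hP hPL hr (fun x => ?_)
  obtain ⟨U, hU, n, s, hXT, hn, hs, hx, -⟩ :=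
    exists_local_data u r hL hLq hj hP hPL hr hW x
  exact ⟨U, hU, n, s, hn, hs, hx, hXT⟩

include hL hLq hj hP hPL hr in
/-- if `r_{L,ψ}` is everywhere defined and a topological embedding, the affine `X_{u(s)}`
cover `X` -/
theorem exists_XFU_of_isEmbedding (hW : RelProj.domQ u pL chartL = ⊤)
    (hemb : Topology.IsEmbedding r.base) (x : X) :
    ∃ (U : Y.Opens) (hU : IsAffineOpen U) (n : ℕ) (s : 𝒮.presheaf.obj (op U)),
      0 < n ∧ s ∈ 𝒮.deg U hU n ∧ x ∈ XFU u U n s ∧ IsAffineOpen (XFU u U n s) := by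
  haveI : L.IsQuasicoherent := hLq
  haveI := SymInvProj.isIso_p hL hj pL chartL hPL
  obtain ⟨x', rfl⟩ := pL.surjective x
  have hx' : x' ∈ RelProj.domQ u pL chartL := by
    rw [hW]
    trivial
  obtain ⟨U, hU, hyU⟩ := exists_affine_mem (p (r ⟨x', hx'⟩))
  have hqU : pL x' ∈ q ⁻¹ᵁ U := by
    rw [Scheme.Hom.mem_preimage]
    have h1 := RLPsi.p_r_apply u r hr hP hPL ⟨x', hx'⟩
    rw [h1] at hyU
    exact hyU
  obtain ⟨V, e, hV, hxV, hleV, hg⟩ := exists_affine_isGen_le hL (pL x') (q ⁻¹ᵁ U) hqU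
  obtain ⟨O, hO, hOeq⟩ := hemb.isInducing.isOpen_iff.mp
    ((RelProj.domQ u pL chartL).ι ⁻¹ᵁ (pL ⁻¹ᵁ V)).2
  have hOiff : ∀ z : ((RelProj.domQ u pL chartL : PL.Opens) : Scheme.{u}),
      r z ∈ O ↔ pL ((RelProj.domQ u pL chartL).ι z) ∈ V := fun z => Set.ext_iff.mp hOeq z
  obtain ⟨y₀, hy₀⟩ := exists_emb_eq p chart U hU (r ⟨x', hx'⟩) hyU
  have hy₀O : y₀ ∈ (RelProj.emb p chart U hU) ⁻¹ᵁ (⟨O, hO⟩ : P.Opens) := by
    show RelProj.emb p chart U hU y₀ ∈ O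
    rw [hy₀]
    exact (hOiff ⟨x', hx'⟩).mpr hxV
  obtain ⟨n, hn, s, hs, hys, hsO⟩ := RLPsi.exists_basicOpen_le _ y₀ hy₀O
  have hxX : pL x' ∈ XFU u U n s := by
    have hz : r ⟨x', hx'⟩ ∈ (RelProj.emb p chart U hU) ''ᵁ Proj.basicOpen (𝒮.deg U hU) s := by
      rw [← hy₀]
      exact ⟨y₀, hys, rfl⟩
    have h2 : x' ∈ (RelProj.domQ u pL chartL).ι ''ᵁ
        (r ⁻¹ᵁ ((RelProj.emb p chart U hU) ''ᵁ Proj.basicOpen (𝒮.deg U hU) s)) :=
      ⟨⟨x', hx'⟩, hz, rfl⟩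
    rw [image_preimage_eq u r hL hLq hj hP hPL hr U hU hn s hs] at h2
    exact h2
  have hXV : XFU u U n s ≤ V := by
    intro x₁ hx₁
    obtain ⟨x₁', rfl⟩ := pL.surjective x₁
    have h3 : x₁' ∈ pL ⁻¹ᵁ XFU u U n s := hx₁
    rw [← image_preimage_eq u r hL hLq hj hP hPL hr U hU hn s hs] at h3
    obtain ⟨z, hz, rfl⟩ := h3
    obtain ⟨y, hy, hyz⟩ := hz
    apply (hOiff z).mp
    have hyz' : RelProj.emb p chart U hU y = r z := hyz
    rw [← hyz']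
    exact hsO hy
  refine ⟨U, hU, n, s, hn, hs, hxX, ?_⟩
  have ha : (u.appLE U V hleV).hom s ∈ 𝒮L.deg V hV n :=
    (u.gradedAt U hU V hV hleV).map_mem hs
  obtain ⟨c, hc⟩ := RLPsiInv.exists_eq_mul_pow hj hV hg.self ha
  have h4 := XFU_inf_eq_basicOpen u r hL hLq hj hP hPL hr U hU hn s hs V hV hleV hg.self c hc
  rw [inf_eq_left.mpr hXV] at h4
  rw [h4]
  exact hV.basicOpen c

include hL hLq hj hP hPL hr in
/-- EGA II 4.6.3 / 4.5.2 (b') ⟹ ample -/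
theorem isRelAmple_of_isEmbedding [QuasiCompact q] (hW : RelProj.domQ u pL chartL = ⊤)
    (hemb : Topology.IsEmbedding r.base) : RelAmple.IsRelAmple q L :=
  isRelAmple_of_forall_XFU u r hL hLq hj hP hPL hr
    (exists_XFU_of_isEmbedding u r hL hLq hj hP hPL hr hW hemb)

end main

end Groth.Agent.Lib.Helper3.SymPowAmple
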