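import Groth.Agent.Lib.Helper3.InvTwist

/-!
# Twisting by powers of a section of an invertible module defined over an open subset
(variant of `InvTwist` for a section `σ ∈ Γ(L, V)` instead of a global one)
-/

set_option autoImplicit false
universe u
open CategoryTheory CategoryTheory.Limits AlgebraicGeometry TopologicalSpace Opposite
open Scheme.Modules TensorProduct

namespace Groth.Agent.Lib.Helper3.TwistV

open QCSec InvGen InvTensor InvTwist

variable {X : Scheme.{u}}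

/-- `Ω` is the open subset of `V` where the section `σ` of `L` over `V` generates `L` -/
def IsSecLocus (L : X.Modules) (V : X.Opens) (σ : Γ(L, V)) (Ω : X.Opens) : Prop :=
  ∀ x : X, x ∈ Ω ↔ ∃ (V' : X.Opens) (hle : V' ≤ V), x ∈ V' ∧ IsGen L V' (res L hle σ)

theorem IsSecLocus.le {L : X.Modules} {V : X.Opens} {σ : Γ(L, V)} {Ω : X.Opens}
    (h : IsSecLocus L V σ Ω) : Ω ≤ V := fun x hx => by
  obtain ⟨V', hle, hxV', -⟩ := (h x).mp hx
  exact hle hxV'

theorem IsSecLocus.inf_eq_basicOpen {L : X.Modules} {V : X.Opens} {σ : Γ(L, V)} {Ω : X.Opens}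
    (h : IsSecLocus L V σ Ω) {U : X.Opens} (hUV : U ≤ V) {e : Γ(L, U)} (hg : IsGen L U e)
    (f : Γ(X, U)) (hf : res L hUV σ = f • e) : Ω ⊓ U = X.basicOpen f := by
  apply le_antisymm
  · intro x hx
    obtain ⟨W, hle, hxW, hW⟩ := (h x).mp hx.1
    have hxU : x ∈ U := hx.2
    have hV1 : IsGenAt L (W ⊓ U) (res L ((inf_le_right : W ⊓ U ≤ U).trans hUV) σ) := by
      have := hW (W ⊓ U) inf_le_left
      rwa [res_res] at this
    have hV2 : IsGenAt L (W ⊓ U) (res L inf_le_right e) := hg (W ⊓ U) inf_le_right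
    obtain ⟨u, hu, hue⟩ := hV2.exists_unit hV1
    have h1 : res L ((inf_le_right : W ⊓ U ≤ U).trans hUV) σ =
        rres X (inf_le_right : W ⊓ U ≤ U) f • res L inf_le_right e := by
      rw [← res_res L (inf_le_right : W ⊓ U ≤ U) hUV σ, hf, res_smul]
    have h2 : u = rres X (inf_le_right : W ⊓ U ≤ U) f := hV2.smul_inj (hue.symm.trans h1)
    have h3 : X.basicOpen (rres X (inf_le_right : W ⊓ U ≤ U) f) = W ⊓ U :=
      X.basicOpen_of_isUnit (h2 ▸ hu)
    have h4 : X.basicOpen (rres X (inf_le_right : W ⊓ U ≤ U) f) = (W ⊓ U) ⊓ X.basicOpen f :=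
      Scheme.basicOpen_res X f (homOfLE (inf_le_right : W ⊓ U ≤ U)).op
    have h5 : W ⊓ U ≤ X.basicOpen f := by
      rw [← h3, h4]; exact inf_le_right
    exact h5 ⟨hxW, hxU⟩
  · apply le_inf _ (X.basicOpen_le f)
    intro x hx
    refine (h x).mpr ⟨X.basicOpen f, (X.basicOpen_le f).trans hUV, hx, ?_⟩
    have h1 : res L ((X.basicOpen_le f).trans hUV) σ =
        rres X (X.basicOpen_le f) f • res L (X.basicOpen_le f) e := by
      rw [← res_res L (X.basicOpen_le f) hUV σ, hf, res_smul]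
    rw [h1]
    exact (hg.mono (X.basicOpen_le f)).smul_unit
      (RingedSpace.isUnit_res_basicOpen X.toRingedSpace f)

/-- A section of a quasi-coherent module over a quasi-compact open `V` vanishing on `V_σ` is
killed by `σ^{⊗ n}` for all large `n`. -/
theorem exists_tm_lpow_eq_zero {L : X.Modules} (hL : PicF.IsInvertible L) (V : X.Opens)
    (σ : Γ(L, V)) (Ω : X.Opens) (hΩ : IsSecLocus L V σ Ω)
    (F : X.Modules) [F.IsQuasicoherent] (hV : IsCompact (V : Set X))
    (t : Γ(F, V)) (ht : res F hΩ.le t = 0) :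
    ∃ n₀ : ℕ, ∀ n, n₀ ≤ n → tm F (CohB1.tensorPow L n) V t (lpow L σ n) = 0 := by
  obtain ⟨ι, hι, U, e, hUa, hUV, hcov, hg⟩ := exists_finite_gen_cover hL V hV
  have := Fintype.ofFinite ι
  have hf : ∀ i, ∃ f : Γ(X, U i), res L (hUV i) σ = f • e i := fun i => by
    obtain ⟨f, hf⟩ := (hg i).self.exists_coord (res L (hUV i) σ)
    exact ⟨f, hf.symm⟩
  choose f hf using hf
  have hD : ∀ i, Ω ⊓ U i = X.basicOpen (f i) := fun i =>
    hΩ.inf_eq_basicOpen (hUV i) (hg i) (f i) (hf i)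
  have hDW : ∀ i, X.basicOpen (f i) ≤ Ω := fun i => by
    rw [← hD i]; exact inf_le_left
  have key : ∀ i, ∃ n : ℕ, (f i) ^ n • res F (hUV i) t = 0 := by
    intro i
    apply (isLocSec_of_isQuasicoherent F (hUa i) (f i) (X.basicOpen (f i)) rfl
      (X.basicOpen_le _)).inj
    rw [res_res]
    have : res F ((X.basicOpen_le (f i)).trans (hUV i)) t = res F (hDW i) (res F hΩ.le t) :=
      (res_res F _ _ t).symm
    rw [this, ht, res_zero]
  choose n hn using key
  refine ⟨Finset.univ.sup n, fun N hN => ?_⟩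
  apply sec_eq_of_locally_eq _ U V hUV hcov
  intro i
  have hle : n i ≤ N := (Finset.le_sup (Finset.mem_univ i)).trans hN
  rw [res_zero, tm_res, lpow_res, hf i, lpow_smul, tm_smul_right, ← tm_smul_left,
    ← Nat.sub_add_cancel hle, pow_add, mul_smul, hn i, smul_zero, tm_zero_left]

/-- A section of a quasi-coherent module over `V_σ`, `V` quasi-compact and quasi-separated,
extends to `V` after twisting by `σ^{⊗ n}` for all large `n`. -/
theorem exists_tm_lpow_extension {L : X.Modules} (hL : PicF.IsInvertible L) (V : X.Opens)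
    (σ : Γ(L, V)) (Ω : X.Opens) (hΩ : IsSecLocus L V σ Ω)
    (F : X.Modules) [F.IsQuasicoherent] (hV : IsCompact (V : Set X))
    (hqs : ∀ U U' : X.Opens, IsAffineOpen U → IsAffineOpen U' → U ≤ V → U' ≤ V →
      IsCompact ((U ⊓ U' : X.Opens) : Set X))
    (t : Γ(F, Ω)) :
    ∃ n₀ : ℕ, ∀ n, n₀ ≤ n → ∃ t' : Γ(CohB1.tensorMod F (CohB1.tensorPow L n), V),
      res _ hΩ.le t' = tm F (CohB1.tensorPow L n) Ω t (lpow L (res L hΩ.le σ) n) := by
  obtain ⟨ι, hι, U, e, hUa, hUV, hcov, hg⟩ := exists_finite_gen_cover hL V hV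
  have := Fintype.ofFinite ι
  have hf : ∀ i, ∃ f : Γ(X, U i), res L (hUV i) σ = f • e i := fun i => by
    obtain ⟨f, hf⟩ := (hg i).self.exists_coord (res L (hUV i) σ)
    exact ⟨f, hf.symm⟩
  choose f hf using hf
  have hD : ∀ i, Ω ⊓ U i = X.basicOpen (f i) := fun i =>
    hΩ.inf_eq_basicOpen (hUV i) (hg i) (f i) (hf i)
  have hDW : ∀ i, X.basicOpen (f i) ≤ Ω := fun i => by
    rw [← hD i]; exact inf_le_left
  have hDU : ∀ i, X.basicOpen (f i) ≤ U i := fun i => X.basicOpen_le _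
  -- step 1: local extensions
  have key1 : ∀ i, ∃ (n : ℕ) (t₀ : Γ(F, U i)),
      res F (hDU i) t₀ = (rres X (hDU i) (f i)) ^ n • res F (hDW i) t := fun i =>
    (isLocSec_of_isQuasicoherent F (hUa i) (f i) _ rfl (hDU i)).surj (res F (hDW i) t)
  choose n t₀ ht₀ using key1
  let N₁ := Finset.univ.sup n
  have hN₁ : ∀ i, n i ≤ N₁ := fun i => Finset.le_sup (Finset.mem_univ i)
  obtain ⟨t₁, ht₁d⟩ : ∃ t₁ : ∀ i, Γ(F, U i), ∀ i, t₁ i = (f i) ^ (N₁ - n i) • t₀ i :=
    ⟨_, fun _ => rfl⟩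
  have ht₁ : ∀ i, res F (hDU i) (t₁ i) = (rres X (hDU i) (f i)) ^ N₁ • res F (hDW i) t := by
    intro i
    rw [ht₁d i, res_pow_smul, ht₀ i, ← mul_smul, ← pow_add, Nat.sub_add_cancel (hN₁ i)]
  -- step 2: transition units
  have key2 : ∀ i j, ∃ u : Γ(X, U i ⊓ U j),
      res L (inf_le_right : U i ⊓ U j ≤ U j) (e j) =
        u • res L (inf_le_left : U i ⊓ U j ≤ U i) (e i) ∧
      rres X (inf_le_left : U i ⊓ U j ≤ U i) (f i) =
        u * rres X (inf_le_right : U i ⊓ U j ≤ U j) (f j) := by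
    intro i j
    have h1 : IsGenAt L (U i ⊓ U j) (res L inf_le_left (e i)) := hg i _ inf_le_left
    have h2 : IsGenAt L (U i ⊓ U j) (res L inf_le_right (e j)) := hg j _ inf_le_right
    obtain ⟨u, -, hu⟩ := h1.exists_unit h2
    refine ⟨u, hu, ?_⟩
    apply h1.smul_inj
    have e1 : res L ((inf_le_left : U i ⊓ U j ≤ U i).trans (hUV i)) σ =
        rres X (inf_le_left : U i ⊓ U j ≤ U i) (f i) •
        res L (inf_le_left : U i ⊓ U j ≤ U i) (e i) := by
      rw [← res_res L (inf_le_left : U i ⊓ U j ≤ U i) (hUV i) σ, hf i, res_smul]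
    have e2 : res L ((inf_le_left : U i ⊓ U j ≤ U i).trans (hUV i)) σ =
        rres X (inf_le_right : U i ⊓ U j ≤ U j) (f j) •
        res L (inf_le_right : U i ⊓ U j ≤ U j) (e j) := by
      have h3 : res L ((inf_le_left : U i ⊓ U j ≤ U i).trans (hUV i)) σ =
          res L (inf_le_right : U i ⊓ U j ≤ U j) (res L (hUV j) σ) := (res_res L _ _ σ).symm
      rw [h3, hf j, res_smul]
    rw [← e1, e2, hu, ← mul_smul, mul_comm]
  choose u hu hfu using key2
  -- step 3: the local extensions agree after multiplying by a power of `f i`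
  have key3 : ∀ i j, ∃ m : ℕ, (rres X (inf_le_left : U i ⊓ U j ≤ U i) (f i)) ^ m •
      (res F (inf_le_left : U i ⊓ U j ≤ U i) (t₁ i) -
        (u i j) ^ N₁ • res F (inf_le_right : U i ⊓ U j ≤ U j) (t₁ j)) = 0 := by
    intro i j
    set g := rres X (inf_le_left : U i ⊓ U j ≤ U i) (f i) with hgdef
    have hD' : X.basicOpen g = (U i ⊓ U j) ⊓ X.basicOpen (f i) :=
      Scheme.basicOpen_res X (f i) (homOfLE (inf_le_left : U i ⊓ U j ≤ U i)).op
    have hD'i : X.basicOpen g ≤ X.basicOpen (f i) := by rw [hD']; exact inf_le_right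
    have hD'ij : X.basicOpen g ≤ U i ⊓ U j := X.basicOpen_le g
    have hD'j : X.basicOpen g ≤ X.basicOpen (f j) := by
      rw [← hD j]
      refine le_inf ?_ (hD'ij.trans inf_le_right)
      exact hD'i.trans (hDW i)
    apply inj_of_isCompact F (hqs _ _ (hUa i) (hUa j) (hUV i) (hUV j)) g rfl hD'ij
    have ei : res F (hD'ij.trans inf_le_left) (t₁ i) =
        (rres X (hD'ij.trans inf_le_left) (f i)) ^ N₁ • res F (hD'i.trans (hDW i)) t := by
      have : res F (hD'ij.trans inf_le_left) (t₁ i) = res F hD'i (res F (hDU i) (t₁ i)) :=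
        (res_res F _ _ _).symm
      rw [this, ht₁ i, res_pow_smul, rres_rres, res_res]
    have ej : res F (hD'ij.trans inf_le_right) (t₁ j) =
        (rres X (hD'ij.trans inf_le_right) (f j)) ^ N₁ • res F (hD'i.trans (hDW i)) t := by
      have : res F (hD'ij.trans inf_le_right) (t₁ j) = res F hD'j (res F (hDU j) (t₁ j)) :=
        (res_res F _ _ _).symm
      rw [this, ht₁ j, res_pow_smul, rres_rres, res_res]
    have efu : rres X (hD'ij.trans inf_le_left) (f i) =
        rres X hD'ij (u i j) * rres X (hD'ij.trans inf_le_right) (f j) := by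
      have := congrArg (rres X hD'ij) (hfu i j)
      rwa [rres_rres, rres_mul, rres_rres] at this
    rw [res_sub, res_pow_smul, res_res, res_res, ei, ej, efu, ← mul_smul, ← mul_pow, sub_self]
  choose m hm using key3
  let M₀ := Finset.univ.sup (fun p : ι × ι => m p.1 p.2)
  have hM₀ : ∀ i j, m i j ≤ M₀ := fun i j =>
    Finset.le_sup (f := fun p : ι × ι => m p.1 p.2) (Finset.mem_univ (i, j))
  refine ⟨N₁ + M₀, fun N hN => ?_⟩
  obtain ⟨k, rfl⟩ : ∃ k, N = N₁ + k := ⟨N - N₁, by omega⟩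
  have hk0 : M₀ ≤ k := by omega
  obtain ⟨b, hbd⟩ : ∃ b : ∀ i, Γ(CohB1.tensorMod F (CohB1.tensorPow L (N₁ + k)), U i),
      ∀ i, b i = tm F (CohB1.tensorPow L (N₁ + k)) (U i) ((f i) ^ k • t₁ i)
        (lpow L (e i) (N₁ + k)) :=
    ⟨_, fun _ => rfl⟩
  have hcompat : ∀ i j, res _ (inf_le_left : U i ⊓ U j ≤ U i) (b i) =
      res _ (inf_le_right : U i ⊓ U j ≤ U j) (b j) := by
    intro i j
    rw [hbd i, hbd j, tm_res, tm_res, lpow_res, lpow_res, hu i j, lpow_smul, tm_smul_right,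
      ← tm_smul_left]
    congr 1
    rw [res_pow_smul, res_pow_smul, ← sub_eq_zero]
    have hk : m i j ≤ k := (hM₀ i j).trans hk0
    have e1 : (u i j) ^ (N₁ + k) • (rres X (inf_le_right : U i ⊓ U j ≤ U j) (f j)) ^ k •
        res F (inf_le_right : U i ⊓ U j ≤ U j) (t₁ j) =
        (rres X (inf_le_left : U i ⊓ U j ≤ U i) (f i)) ^ k •
          ((u i j) ^ N₁ • res F (inf_le_right : U i ⊓ U j ≤ U j) (t₁ j)) := by
      rw [← mul_smul, ← mul_smul]
      congr 1
      rw [pow_add, mul_assoc, ← mul_pow, ← hfu i j, mul_comm]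
    rw [e1, ← smul_sub, ← Nat.sub_add_cancel hk, pow_add, mul_smul, hm i j, smul_zero]
  obtain ⟨t', ht'⟩ := sec_glue _ U V hUV hcov b hcompat
  refine ⟨t', ?_⟩
  have hcovW : Ω ≤ ⨆ i, X.basicOpen (f i) := by
    intro x hx
    obtain ⟨i, hi⟩ := Opens.mem_iSup.mp (hcov (hΩ.le hx))
    have : x ∈ Ω ⊓ U i := ⟨hx, hi⟩
    rw [hD i] at this
    exact Opens.mem_iSup.mpr ⟨i, this⟩
  apply sec_eq_of_locally_eq _ (fun i => X.basicOpen (f i)) Ω hDW hcovW
  intro i
  have e1 : res _ (hDW i) (res _ hΩ.le t') = res _ (hDU i) (res _ (hUV i) t') := by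
    rw [res_res, res_res]
  have e2 : res L (hDW i) (res L hΩ.le σ) = rres X (hDU i) (f i) • res L (hDU i) (e i) := by
    have h3 : res L (hDW i) (res L hΩ.le σ) = res L (hDU i) (res L (hUV i) σ) := by
      rw [res_res, res_res]
    rw [h3, hf i, res_smul]
  rw [e1, ht' i, hbd i, tm_res, lpow_res, res_pow_smul, ht₁ i, ← mul_smul, ← pow_add,
    Nat.add_comm k N₁, tm_res, lpow_res, e2, lpow_smul, tm_smul_right,
    ← tm_smul_left]

end Groth.Agent.Lib.Helper3.TwistV
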