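import Groth.Agent.Lib.Helper3.SymPowAmple
import Groth.Agent.Lib.Helper3.TwistV
import Groth.Agent.Lib.Helper3.QCAlgGen
import Groth.Agent.Lib.Helper3.QCOpen

/-!
# The morphism `r_{L,σ}` for a relatively ample invertible module (EGA II 4.6.3, 4.5.2):
the direct implications
-/

set_option autoImplicit false
set_option linter.unusedSectionVars false
universe u
open CategoryTheory CategoryTheory.Limits AlgebraicGeometry TopologicalSpace Opposite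
open Scheme.Modules
open scoped HomogeneousIdeal

namespace Groth.Agent.Lib.Helper3.SymPowFwd

open QCSec InvGen SymGen InvTensor InvRestrict InvAmple ProjQMap HomogeneousLocalization TensorDesc
  Groth.Agent.Lib.Helper3.RLPsiImmU Groth.Agent.Lib.Helper3.SymPow
  Groth.Agent.Lib.Helper3.SymPowAmple

section alg

theorem mem_of_decompose_eq_zero {A : Type*} [CommRing A] (𝒜 : ℕ → AddSubgroup A) [GradedRing 𝒜]
    (x : A) (d : ℕ) (h : ∀ k, k ≠ d → (DirectSum.decompose 𝒜 x k : A) = 0) : x ∈ 𝒜 d := by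
  classical
  have h1 : x = (DirectSum.decompose 𝒜 x d : A) := by
    conv_lhs => rw [← DirectSum.sum_support_decompose 𝒜 x]
    rw [Finset.sum_eq_single d]
    · intro k _ hk
      exact h k hk
    · intro hd
      rw [DFinsupp.notMem_support_iff.mp hd]
      rfl
  rw [h1]
  exact SetLike.coe_mem _

end alg

section H
variable {X : Scheme.{u}} (𝒮L : RelProj.QCGrAlg X)

/-- homogeneity of a section over an affine open can be checked locally -/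
theorem mem_deg_of_locally {V : X.Opens} (hV : IsAffineOpen V) (x : 𝒮L.presheaf.obj (op V))
    (d : ℕ)
    (h : ∀ y ∈ V, ∃ (V₁ : X.Opens) (hV₁ : IsAffineOpen V₁) (hle : V₁ ≤ V), y ∈ V₁ ∧
      rs 𝒮L.toQCAlg hle x ∈ 𝒮L.deg V₁ hV₁ d) : x ∈ 𝒮L.deg V hV d := by
  classical
  apply mem_of_decompose_eq_zero (𝒮L.deg V hV) x d
  intro k hk
  choose V₁ hV₁ hle hy hmem using h
  refine sec_eq_of_locally_eq 𝒮L.toModule (fun y : {y : X // y ∈ V} => V₁ y.1 y.2) V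
    (fun y => hle y.1 y.2) ?_ _ _ (fun y => ?_)
  · intro y hy'
    exact Opens.mem_iSup.mpr ⟨⟨y, hy'⟩, hy y hy'⟩
  · change rs 𝒮L.toQCAlg (hle y.1 y.2) _ = rs 𝒮L.toQCAlg (hle y.1 y.2) 0
    rw [map_zero]
    have h1 := (𝒮L.res hV (hV₁ y.1 y.2) (hle y.1 y.2)).map_directSumDecompose (x := x) (i := k)
    have h2 : rs 𝒮L.toQCAlg (hle y.1 y.2)
        (DirectSum.decompose (𝒮L.deg V hV) x k : 𝒮L.presheaf.obj (op V)) =
        ((DirectSum.decompose (𝒮L.deg _ (hV₁ y.1 y.2)) (rs 𝒮L.toQCAlg (hle y.1 y.2) x) k : _) :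
          𝒮L.presheaf.obj (op _)) := h1
    rw [h2]
    exact DirectSum.decompose_of_mem_ne _ (hmem y.1 y.2) (Ne.symm hk)

variable {𝒮L} {L : X.Modules} [L.IsQuasicoherent] {j : L ⟶ 𝒮L.toModule}

/-- `κ_d` lands in degree `d` -/
theorem kap_mem_deg (hL : PicF.IsInvertible L) (hj : RelProj.IsGrSymAlg L 𝒮L j) (d : ℕ)
    {V : X.Opens} (hV : IsAffineOpen V) (τ : Γ(CohB1.tensorPow L d, V)) :
    jj 𝒮L.toQCAlg (kap 𝒮L.toQCAlg j d) V τ ∈ 𝒮L.deg V hV d := by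
  apply mem_deg_of_locally 𝒮L hV
  intro y hy
  obtain ⟨V₁, e, hV₁, hyV₁, hle, hg⟩ := exists_affine_isGen_le hL y V hy
  refine ⟨V₁, hV₁, hle, hyV₁, ?_⟩
  obtain ⟨c, hc⟩ := (isGen_lpow hg d).self.exists_coord (res _ hle τ)
  rw [rs_jj, ← hc, kap_smul_lpow]
  have h1 := SetLike.mul_mem_graded (𝒮L.str_mem V₁ hV₁ c)
    (SetLike.pow_mem_graded d (hj.2 V₁ hV₁ e))
  have e1 : 0 + d • 1 = d := by simp
  rw [e1] at h1
  exact h1

end H

section F1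
variable {X : Scheme.{u}} {L : X.Modules}

/-- the local datum of ampleness of `L|_W`, in terms of sections of `L^{⊗ n}` over `W` -/
theorem exists_sections_of_isAmple_restrict (W : X.Opens)
    (hA : CohB1.IsAmple (L.restrict W.ι)) (x : X) (hx : x ∈ W) :
    ∃ (n : ℕ) (σ : Γ(CohB1.tensorPow L (n + 1), W)) (Ω : X.Opens),
      IsAffineOpen Ω ∧ x ∈ Ω ∧ Ω ≤ W ∧
      ∀ x' : X, x' ∈ Ω ↔ ∃ (V' : X.Opens) (hle : V' ≤ W), x' ∈ V' ∧
        IsGen (CohB1.tensorPow L (n + 1)) V' (res _ hle σ) := by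
  obtain ⟨n, s', hxs, haff⟩ := hA.2.2 ⟨x, hx⟩
  obtain ⟨M, hM⟩ : ∃ M : X.Modules, M = CohB1.tensorPow L (n + 1) := ⟨_, rfl⟩
  obtain ⟨s'', hs''⟩ : ∃ s'' : Coh.structureModule (W : Scheme.{u}) ⟶
      (CohB1.tensorPow L (n + 1)).restrict W.ι, s'' = s' ≫ (restrictPowIso W.ι L (n + 1)).hom :=
    ⟨_, rfl⟩
  have hgl : CohB1.genLocus _ s'' = CohB1.genLocus _ s' := by
    rw [hs'']
    exact genLocus_comp_iso s' _
  have htop : W ≤ W.ι ''ᵁ ⊤ := by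
    rw [Scheme.Opens.ι_image_top]
  obtain ⟨σ, hσ⟩ : ∃ σ : Γ(CohB1.tensorPow L (n + 1), W),
      σ = res (CohB1.tensorPow L (n + 1)) htop
        (show Γ(CohB1.tensorPow L (n + 1), W.ι ''ᵁ ⊤) from sec s'' ⊤) := ⟨_, rfl⟩
  have hsec : ∀ V' : (W : Scheme.{u}).Opens,
      (show Γ(CohB1.tensorPow L (n + 1), W.ι ''ᵁ V') from sec s'' V') =
        res (CohB1.tensorPow L (n + 1)) (W.ι_image_le V') σ := by
    intro V'
    have h1 : sec s'' V' = res ((CohB1.tensorPow L (n + 1)).restrict W.ι) (le_top : V' ≤ ⊤)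
        (sec s'' ⊤) := (res_sec s'' le_top).symm
    rw [h1, res_restrict, hσ, res_res]
  refine ⟨n, σ, W.ι ''ᵁ CohB1.genLocus _ s', haff.image_of_isOpenImmersion W.ι,
    ⟨⟨x, hx⟩, hxs, rfl⟩, W.ι_image_le _, fun x' => ?_⟩
  constructor
  · rintro ⟨z, hz, rfl⟩
    have hz' : z ∈ CohB1.genLocus _ s'' := by
      rw [hgl]
      exact hz
    obtain ⟨V', hzV', hg⟩ := (mem_genLocus_iff _ z).mp hz'
    have hg' := (isGen_restrict_iff W.ι _ V' _).mp hg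
    rw [hsec] at hg'
    exact ⟨W.ι ''ᵁ V', W.ι_image_le V', ⟨z, hzV', rfl⟩, hg'⟩
  · rintro ⟨V'', hle, hx'V'', hg⟩
    refine ⟨⟨x', hle hx'V''⟩, ?_, rfl⟩
    show (⟨x', hle hx'V''⟩ : (W : Scheme.{u})) ∈ CohB1.genLocus _ s'
    rw [← hgl]
    apply (mem_genLocus_iff _ _).mpr
    refine ⟨W.ι ⁻¹ᵁ V'', hx'V'', ?_⟩
    rw [isGen_restrict_iff, hsec]
    have h1 := hg.mono (show W.ι ''ᵁ (W.ι ⁻¹ᵁ V'') ≤ V'' from (ι_image_preimage_of_le hle).le)
    rwa [res_res] at h1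

end F1

section F2
variable {Y X : Scheme.{u}} {q : X ⟶ Y} {𝒮 : RelProj.QCGrAlg Y} {𝒮L : RelProj.QCGrAlg X}
  (u : RelProj.QGrHom q 𝒮 𝒮L)

/-- if `u` is injective over `U`, homogeneity of `s ∈ 𝒮(U)` can be checked on `u(s)` -/
theorem mem_deg_of_forall_appLE (U : Y.Opens) (hU : IsAffineOpen U)
    (hinj : Function.Injective (u.app U).hom) (d : ℕ) (s : 𝒮.presheaf.obj (op U))
    (h : ∀ (V : X.Opens) (hV : IsAffineOpen V) (hle : V ≤ q ⁻¹ᵁ U),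
      (u.appLE U V hle).hom s ∈ 𝒮L.deg V hV d) :
    s ∈ 𝒮.deg U hU d := by
  classical
  apply mem_of_decompose_eq_zero (𝒮.deg U hU) s d
  intro k hk
  apply hinj
  rw [map_zero]
  refine sec_eq_of_locally_eq 𝒮L.toModule
    (fun V : {V : X.Opens // IsAffineOpen V ∧ V ≤ q ⁻¹ᵁ U} => V.1) (q ⁻¹ᵁ U) (fun V => V.2.2)
    ?_ _ _ (fun V => ?_)
  · intro x hx
    obtain ⟨V, hV, hxV, hVW⟩ := AffExt.exists_affine_nbhd (q ⁻¹ᵁ U) x hx
    exact Opens.mem_iSup.mpr ⟨⟨V, hV, hVW⟩, hxV⟩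
  · obtain ⟨V, hV, hle⟩ := V
    change rs 𝒮L.toQCAlg hle ((u.app U).hom _) = rs 𝒮L.toQCAlg hle 0
    rw [map_zero]
    have h1 := (u.gradedAt U hU V hV hle).map_directSumDecompose (x := s) (i := k)
    have h2 : rs 𝒮L.toQCAlg hle ((u.app U).hom
        (DirectSum.decompose (𝒮.deg U hU) s k : 𝒮.presheaf.obj (op U))) =
        ((DirectSum.decompose (𝒮L.deg V hV) ((u.appLE U V hle).hom s) k : _) :
          𝒮L.presheaf.obj (op V)) := h1
    rw [h2]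
    exact DirectSum.decompose_of_mem_ne _ (h V hV hle) (Ne.symm hk)

end F2

section main
variable {Y X P PL : Scheme.{u}} {q : X ⟶ Y} {L : X.Modules}
  {𝒮 : RelProj.QCGrAlg Y} {𝒮L : RelProj.QCGrAlg X} {j : L ⟶ 𝒮L.toModule}
  (u : RelProj.QGrHom q 𝒮 𝒮L)
  {p : P ⟶ Y} {chart : ∀ (U : Y.Opens) (hU : IsAffineOpen U),
    (((p ⁻¹ᵁ U : P.Opens) : Scheme.{u}) ≅ Proj (𝒮.deg U hU))}
  {pL : PL ⟶ X} {chartL : ∀ (U : X.Opens) (hU : IsAffineOpen U),
    (((pL ⁻¹ᵁ U : PL.Opens) : Scheme.{u}) ≅ Proj (𝒮L.deg U hU))}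
  (r : ((RelProj.domQ u pL chartL : PL.Opens) : Scheme.{u}) ⟶ P)
  (hL : PicF.IsInvertible L) (hLq : Coh.IsQCoh L) (hj : RelProj.IsGrSymAlg L 𝒮L j)
  (hP : RelProj.IsRelProj 𝒮 p chart) (hPL : RelProj.IsRelProj 𝒮L pL chartL)
  (hr : RelProj.IsProjQMapOn u p chart pL chartL (RelProj.domQ u pL chartL) r)

/-- the local data making `r` an open immersion near the chart of `s` -/
def LocalData (U : Y.Opens) (hU : IsAffineOpen U) (n : ℕ) (s : 𝒮.presheaf.obj (op U)) : Prop :=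
  0 < n ∧ s ∈ 𝒮.deg U hU n ∧ IsAffineOpen (XFU u U n s) ∧
  (∀ t : X.presheaf.obj (op (XFU u U n s)), ∃ (m : ℕ) (_ : 0 < m)
    (s' : 𝒮.presheaf.obj (op U)) (_ : s' ∈ 𝒮.deg U hU (m * n)),
    (𝒮L.str.app (op (XFU u U n s))).hom t *
      ((u.appLE U (XFU u U n s) (XFU_le u U n s)).hom s) ^ m =
      (u.appLE U (XFU u U n s) (XFU_le u U n s)).hom s') ∧
  (∀ m, 0 < m → ∀ s' ∈ 𝒮.deg U hU (m * n),
    (u.appLE U (XFU u U n s) (XFU_le u U n s)).hom s' = 0 → ∃ k, 0 < k ∧ s ^ k * s' = 0)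

include hL hLq hj hP hPL hr in
/-- EGA II 4.5.2 (a) ⟹ (b), locally over an affine open of the base -/
theorem local_forward (U : Y.Opens) (hU : IsAffineOpen U)
    (hc : IsCompact ((q ⁻¹ᵁ U : X.Opens) : Set X))
    (hA : CohB1.IsAmple (L.restrict (q ⁻¹ᵁ U).ι))
    (hu : Function.Bijective (u.app U).hom) (x : X) (hx : x ∈ q ⁻¹ᵁ U) :
    ∃ (n : ℕ) (s : 𝒮.presheaf.obj (op U)), x ∈ XFU u U n s ∧ LocalData u U hU n s := by
  haveI : L.IsQuasicoherent := hLq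
  obtain ⟨n, σ, Ω, hΩa, hxΩ, hΩW, hΩ⟩ := exists_sections_of_isAmple_restrict (q ⁻¹ᵁ U) hA x hx
  have hL' : PicF.IsInvertible (CohB1.tensorPow L (n + 1)) := isInvertible_tensorPow hL (n + 1)
  obtain ⟨s, hs_eq⟩ := hu.2 (jj 𝒮L.toQCAlg (kap 𝒮L.toQCAlg j (n + 1)) (q ⁻¹ᵁ U) σ)
  have hs : s ∈ 𝒮.deg U hU (n + 1) :=
    mem_deg_of_forall_appLE u U hU hu.1 (n + 1) s (fun V hV hle => by
      have h1 : (u.appLE U V hle).hom s =
          jj 𝒮L.toQCAlg (kap 𝒮L.toQCAlg j (n + 1)) V (res _ hle σ) := by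
        change rs 𝒮L.toQCAlg hle ((u.app U).hom s) = _
        rw [hs_eq, rs_jj]
      rw [h1]
      exact kap_mem_deg hL hj (n + 1) hV _)
  have hXT : XFU u U (n + 1) s = Ω := by
    apply le_antisymm
    · intro x' hx'
      exact (hΩ x').mpr ((XFU_mem_iff_isGen u r hL hLq hj hP hPL hr U hU (Nat.succ_pos n) s hs σ
        hs_eq.symm x').mp hx')
    · intro x' hx'
      exact (XFU_mem_iff_isGen u r hL hLq hj hP hPL hr U hU (Nat.succ_pos n) s hs σ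
        hs_eq.symm x').mpr ((hΩ x').mp hx')
  subst hXT
  have hΩ' : TwistV.IsSecLocus (CohB1.tensorPow L (n + 1)) (q ⁻¹ᵁ U) σ (XFU u U (n + 1) s) := hΩ
  have hqsW := RelAmpleLib.isQuasiSeparated_of_isAmple_restrict (q ⁻¹ᵁ U) hA
  have hqs : ∀ U₁ U₂ : X.Opens, IsAffineOpen U₁ → IsAffineOpen U₂ → U₁ ≤ q ⁻¹ᵁ U →
      U₂ ≤ q ⁻¹ᵁ U → IsCompact ((U₁ ⊓ U₂ : X.Opens) : Set X) :=
    fun U₁ U₂ h₁ h₂ hle₁ hle₂ => hqsW U₁ U₂ hle₁ U₁.2 h₁.isCompact hle₂ U₂.2 h₂.isCompact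
  have hus : (u.appLE U (XFU u U (n + 1) s) hΩW).hom s =
      jj 𝒮L.toQCAlg (kap 𝒮L.toQCAlg j (n + 1)) _ (res _ hΩW σ) := by
    change rs 𝒮L.toQCAlg hΩW ((u.app U).hom s) = _
    rw [hs_eq, rs_jj]
  refine ⟨n + 1, s, hxΩ, Nat.succ_pos n, hs, hΩa, ?_, ?_⟩
  · -- (iii)
    intro t
    obtain ⟨m₀, hm₀⟩ := TwistV.exists_tm_lpow_extension hL' (q ⁻¹ᵁ U) σ _ hΩ'
      (Coh.structureModule X) hc hqs (ofFun _ t)
    obtain ⟨t', ht'⟩ := hm₀ (m₀ + 1) (Nat.le_succ _)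
    obtain ⟨s'', hs''⟩ := hu.2 (jj 𝒮L.toQCAlg
      (kapPair 𝒮L.toQCAlg (kap 𝒮L.toQCAlg (kap 𝒮L.toQCAlg j (n + 1)) (m₀ + 1))
        (kap0 𝒮L.toQCAlg)).hom (q ⁻¹ᵁ U) t')
    refine ⟨m₀ + 1, Nat.succ_pos _,
      ((DirectSum.decompose (𝒮.deg U hU) s'' ((m₀ + 1) * (n + 1)) : _) : 𝒮.presheaf.obj (op U)),
      SetLike.coe_mem _, ?_⟩
    have ha' : rs 𝒮L.toQCAlg hΩW (jj 𝒮L.toQCAlg
        (kapPair 𝒮L.toQCAlg (kap 𝒮L.toQCAlg (kap 𝒮L.toQCAlg j (n + 1)) (m₀ + 1))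
          (kap0 𝒮L.toQCAlg)).hom (q ⁻¹ᵁ U) t') =
        st 𝒮L.toQCAlg _ t * (jj 𝒮L.toQCAlg (kap 𝒮L.toQCAlg j (n + 1)) _ (res _ hΩW σ)) ^
          (m₀ + 1) := by
      rw [rs_jj, ht']
      refine (Pairing.hom_tm _ _ _ _).trans ?_
      change jj 𝒮L.toQCAlg (kap0 𝒮L.toQCAlg) _ (ofFun _ t) *
        jj 𝒮L.toQCAlg (kap 𝒮L.toQCAlg (kap 𝒮L.toQCAlg j (n + 1)) (m₀ + 1)) _
          (lpow _ (res _ hΩW σ) (m₀ + 1)) = _
      rw [kap0_app, kap_lpow]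
    have hdeg : st 𝒮L.toQCAlg _ t * ((u.appLE U (XFU u U (n + 1) s) hΩW).hom s) ^ (m₀ + 1) ∈
        𝒮L.deg _ hΩa ((m₀ + 1) * (n + 1)) := by
      have h1 := SetLike.mul_mem_graded (𝒮L.str_mem _ hΩa t)
        (SetLike.pow_mem_graded (m₀ + 1) ((u.gradedAt U hU _ hΩa hΩW).map_mem hs))
      have e1 : 0 + (m₀ + 1) • (n + 1) = (m₀ + 1) * (n + 1) := by simp
      rw [e1] at h1
      exact h1
    have h1 := (u.gradedAt U hU _ hΩa hΩW).map_directSumDecompose (x := s'')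
      (i := (m₀ + 1) * (n + 1))
    have h2 : (u.appLE U (XFU u U (n + 1) s) hΩW).hom
        ((DirectSum.decompose (𝒮.deg U hU) s'' ((m₀ + 1) * (n + 1)) : _) :
          𝒮.presheaf.obj (op U)) =
        ((DirectSum.decompose (𝒮L.deg _ hΩa) ((u.appLE U (XFU u U (n + 1) s) hΩW).hom s'')
          ((m₀ + 1) * (n + 1)) : _) : 𝒮L.presheaf.obj (op _)) := h1
    have h3 : (u.appLE U (XFU u U (n + 1) s) hΩW).hom s'' = rs 𝒮L.toQCAlg hΩW
        (jj 𝒮L.toQCAlg (kapPair 𝒮L.toQCAlg (kap 𝒮L.toQCAlg (kap 𝒮L.toQCAlg j (n + 1)) (m₀ + 1))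
          (kap0 𝒮L.toQCAlg)).hom (q ⁻¹ᵁ U) t') := by
      change rs 𝒮L.toQCAlg hΩW ((u.app U).hom s'') = _
      rw [hs'']
    rw [h2, h3, ha', ← hus, DirectSum.decompose_of_mem_same _ hdeg]
  · -- (iv)
    intro m hm s' hs' h0
    haveI := QCAlgGen.isQuasicoherent_toModule 𝒮L.toQCAlg
    obtain ⟨a', ha'⟩ : ∃ a' : Γ(𝒮L.toModule, q ⁻¹ᵁ U), a' = (u.app U).hom s' := ⟨_, rfl⟩
    have h0' : res 𝒮L.toModule hΩ'.le a' = 0 := by
      rw [ha']
      exact h0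
    obtain ⟨k₀, hk₀⟩ := TwistV.exists_tm_lpow_eq_zero hL' (q ⁻¹ᵁ U) σ _ hΩ' 𝒮L.toModule hc
      a' h0'
    have hk := hk₀ (k₀ + 1) (Nat.le_succ _)
    have h2 : jj 𝒮L.toQCAlg (kapPair 𝒮L.toQCAlg
        (kap 𝒮L.toQCAlg (kap 𝒮L.toQCAlg j (n + 1)) (k₀ + 1)) (𝟙 𝒮L.toModule)).hom (q ⁻¹ᵁ U)
        (tm 𝒮L.toModule (CohB1.tensorPow (CohB1.tensorPow L (n + 1)) (k₀ + 1)) (q ⁻¹ᵁ U)
          a' (lpow (CohB1.tensorPow L (n + 1)) σ (k₀ + 1))) =
        (u.app U).hom s' * ((u.app U).hom s) ^ (k₀ + 1) := by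
      refine (Pairing.hom_tm _ _ _ _).trans ?_
      change jj 𝒮L.toQCAlg (𝟙 𝒮L.toModule) _ a' *
        jj 𝒮L.toQCAlg (kap 𝒮L.toQCAlg (kap 𝒮L.toQCAlg j (n + 1)) (k₀ + 1)) _
          (lpow _ σ (k₀ + 1)) = _
      rw [kap_lpow, hs_eq, ha']
      rfl
    rw [hk] at h2
    refine ⟨k₀ + 1, Nat.succ_pos _, hu.1 ?_⟩
    rw [map_zero, map_mul, map_pow, mul_comm, ← h2]
    exact QCExact.app_zero _ _

include hL hLq hj hP hPL hr in
/-- the open immersion criterion for a family of sections over affine opens of the base -/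
theorem isOpenImmersion_of_family {J : Type u} (UU : J → Y.Opens)
    (hUU : ∀ a, IsAffineOpen (UU a)) (nn : J → ℕ) (ss : ∀ a, 𝒮.presheaf.obj (op (UU a)))
    (h3 : (⨆ a, XFU u (UU a) (nn a) (ss a)) = ⊤)
    (hloc : ∀ a, LocalData u (UU a) (hUU a) (nn a) (ss a)) :
    RelProj.domQ u pL chartL = ⊤ ∧ IsOpenImmersion r := by
  have h1 : ∀ a, 0 < nn a ∧ ss a ∈ 𝒮.deg (UU a) (hUU a) (nn a) := fun a =>
    ⟨(hloc a).1, (hloc a).2.1⟩
  have h4 : ∀ a, IsAffineOpen (XFU u (UU a) (nn a) (ss a)) := fun a => (hloc a).2.2.1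
  refine ⟨domQ_eq_top_of_family u hLq hj UU hUU nn ss h1 h3, ?_⟩
  have hQ : ∀ a, MorphismProperty.isomorphisms Scheme.{u} (Spec.map (CommRingCat.ofHom
      (Away.map (u.gradedAt (UU a) (hUU a) (XFU u (UU a) (nn a) (ss a)) (h4 a)
        (XFU_le u _ _ _)) (ss a)))) := fun a =>
    (MorphismProperty.isomorphisms.iff _).mpr (isIso_SpecMap_iff.mpr
      ⟨RLPsiImm.injective_of_vi (u.gradedAt (UU a) (hUU a) _ (h4 a) (XFU_le u _ _ _)) (h1 a).2
        (hloc a).2.2.2.2,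
       RLPsiImm.awayMap_surjective_of (u.gradedAt (UU a) (hUU a) _ (h4 a) (XFU_le u _ _ _))
        (h1 a).2 (𝒮L.str.app (op _)).hom (𝒮L.str_mem _ (h4 a))
        (theta_bijective u r hL hLq hj hPL hr (UU a) (hUU a) (h1 a).1 (ss a) (h1 a).2 (h4 a)).2
        (hloc a).2.2.2.1⟩)
  obtain ⟨fO, hfO, hiso⟩ := exists_fO u r hL hLq hj hP hPL hr UU hUU nn ss h1 h3 h4
    (MorphismProperty.isomorphisms Scheme.{u}) hQ
  haveI : IsIso fO := (MorphismProperty.isomorphisms.iff _).mp hiso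
  rw [← hfO]
  infer_instance

include hLq hP hPL hr in
/-- `r` is dominant if `u` is injective on sections over enough affine opens of the base -/
theorem isDominant_of_injective [QuasiCompact q] (hW : RelProj.domQ u pL chartL = ⊤)
    (H : ∀ y₀ : Y, ∃ (U : Y.Opens) (_ : IsAffineOpen U), y₀ ∈ U ∧
      Function.Injective (u.app U).hom) :
    IsDominant r := by
  haveI : L.IsQuasicoherent := hLq
  refine RLPsi.isDominant_of_forall r hP (fun y₀ => ?_)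
  obtain ⟨U, hU, hyU, hinj⟩ := H y₀
  refine ⟨U, hU, hyU, ?_⟩
  intro n hn s hs hno
  have hloc : ∀ (V : X.Opens) (hV : IsAffineOpen V) (hle : V ≤ q ⁻¹ᵁ U),
      ∃ m : ℕ, ((u.appLE U V hle).hom s) ^ m = 0 := by
    intro V hV hle
    have hs' : (u.appLE U V hle).hom s ∈ 𝒮L.deg V hV n :=
      (u.gradedAt U hU V hV hle).map_mem hs
    apply RLPsi.isNilpotent_of_forall_mem hn hs'
    intro y
    by_contra hy
    have hz : RelProj.emb pL chartL V hV y ∈ RelProj.domQ u pL chartL := by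
      rw [hW]
      trivial
    exact hno ⟨_, hz⟩ ((RLPsi.r_mem_iff u r hr hPL ⟨_, hz⟩ U hU V hV hle y rfl hn s hs).mpr hy)
  have hc : IsCompact ((q ⁻¹ᵁ U : X.Opens) : Set X) :=
    QuasiCompact.isCompact_preimage (f := q) _ U.2 hU.isCompact
  obtain ⟨ι, hfin, W, hWa, hWle, hcov⟩ := QCSec.exists_finite_affine_cover (q ⁻¹ᵁ U) hc
  haveI := Fintype.ofFinite ι
  choose m hm using fun i => hloc (W i) (hWa i) (hWle i)
  refine ⟨∑ i, m i, ?_⟩
  apply hinj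
  rw [map_zero]
  refine sec_eq_of_locally_eq 𝒮L.toModule W (q ⁻¹ᵁ U) hWle hcov _ _ (fun i => ?_)
  change (𝒮L.presheaf.map (homOfLE (hWle i)).op).hom ((u.app U).hom (s ^ ∑ i, m i)) =
    (𝒮L.presheaf.map (homOfLE (hWle i)).op).hom 0
  rw [map_zero, map_pow, map_pow]
  exact pow_eq_zero_of_le
    (Finset.single_le_sum (fun _ _ => Nat.zero_le _) (Finset.mem_univ i)) (hm i)

include hL hLq hj hP hPL hr in
/-- EGA II 4.6.3: for `L` relatively ample and `u` bijective on affine opens, `r` is an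
everywhere defined dominant open immersion -/
theorem forward [QuasiCompact q] (hamp : RelAmple.IsRelAmple q L)
    (hu : ∀ (U : Y.Opens), IsAffineOpen U → Function.Bijective (u.app U).hom) :
    RelProj.domQ u pL chartL = ⊤ ∧ IsOpenImmersion r ∧ IsDominant r := by
  have key : ∀ x : X, ∃ (U : Y.Opens) (hU : IsAffineOpen U) (n : ℕ)
      (s : 𝒮.presheaf.obj (op U)), x ∈ XFU u U n s ∧ LocalData u U hU n s := by
    intro x
    obtain ⟨U, hU, hxU⟩ := exists_affine_mem (q x)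
    obtain ⟨n, s, h⟩ := local_forward u r hL hLq hj hP hPL hr U hU
      (QuasiCompact.isCompact_preimage (f := q) _ U.2 hU.isCompact) (hamp.2 ⟨U, hU⟩) (hu U hU)
      x hxU
    exact ⟨U, hU, n, s, h⟩
  choose UU hUU nn ss hx hloc using key
  have h3 : (⨆ x, XFU u (UU x) (nn x) (ss x)) = ⊤ :=
    eq_top_iff.mpr (fun x _ => Opens.mem_iSup.mpr ⟨x, hx x⟩)
  obtain ⟨hW, himm⟩ := isOpenImmersion_of_family u r hL hLq hj hP hPL hr UU hUU nn ss h3 hloc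
  refine ⟨hW, himm, isDominant_of_injective u r hLq hP hPL hr hW (fun y₀ => ?_)⟩
  obtain ⟨U, hU, hyU⟩ := exists_affine_mem y₀
  exact ⟨U, hU, hyU, (hu U hU).1⟩

include hL hLq hj hP hPL hr in
/-- `r` is quasi-compact when `q` is -/
theorem quasiCompact_r [QuasiCompact q] (hW : RelProj.domQ u pL chartL = ⊤) :
    QuasiCompact r := by
  haveI : L.IsQuasicoherent := hLq
  haveI : IsIso pL := SymInvProj.isIso_p hL hj pL chartL hPL
  haveI : IsIso (RelProj.domQ u pL chartL).ι := by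
    rw [hW]
    exact (inferInstance : IsIso (Scheme.topIso PL).hom)
  haveI : IsSeparated p := RelProjLoc.isSeparated hP
  have hcomp : r ≫ p = (RelProj.domQ u pL chartL).ι ≫ pL ≫ q := RLPsi.r_comp u r hr hP hPL
  haveI : QuasiCompact (r ≫ p) := by
    rw [hcomp]
    infer_instance
  exact QuasiCompact.of_comp r p

include hL hLq hj hP hPL hr in
/-- EGA II 4.6.? : if moreover `q` is universally closed, `r` is an isomorphism -/
theorem isIso_of_universallyClosed [UniversallyClosed q] (hW : RelProj.domQ u pL chartL = ⊤)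
    [IsOpenImmersion r] [IsDominant r] : IsIso r := by
  haveI : L.IsQuasicoherent := hLq
  haveI : IsIso pL := SymInvProj.isIso_p hL hj pL chartL hPL
  haveI : IsIso (RelProj.domQ u pL chartL).ι := by
    rw [hW]
    exact (inferInstance : IsIso (Scheme.topIso PL).hom)
  haveI : IsSeparated p := RelProjLoc.isSeparated hP
  have hcomp : r ≫ p = (RelProj.domQ u pL chartL).ι ≫ pL ≫ q := RLPsi.r_comp u r hr hP hPL
  haveI : UniversallyClosed (r ≫ p) := by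
    rw [hcomp]
    infer_instance
  haveI : UniversallyClosed r := UniversallyClosed.of_comp_of_isSeparated r p
  haveI : Surjective r :=
    surjective_of_isDominant_of_isClosed_range r (r.isClosedMap.isClosed_range)
  exact (isIso_iff_isOpenImmersion_and_surjective r).mpr ⟨inferInstance, inferInstance⟩

end main

end Groth.Agent.Lib.Helper3.SymPowFwd
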