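import Groth.Agent.Lib.Helper3.SymPowFwd

/-!
# Scheme-theoretic dominance of `r_{L,σ}` (EGA II 4.5.2 (b))
-/

set_option autoImplicit false
set_option linter.unusedSectionVars false
universe u
open CategoryTheory CategoryTheory.Limits AlgebraicGeometry TopologicalSpace Opposite
open Scheme.Modules
open scoped HomogeneousIdeal

namespace Groth.Agent.Lib.Helper3.SymPowSD

open QCSec InvGen SymGen InvTensor InvRestrict InvAmple ProjQMap HomogeneousLocalization TensorDesc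
  Groth.Agent.Lib.Helper3.RLPsiImmU Groth.Agent.Lib.Helper3.SymPow
  Groth.Agent.Lib.Helper3.SymPowAmple Groth.Agent.Lib.Helper3.SymPowFwd

theorem appLE_congr_hom {A B : Scheme.{u}} {f₁ f₂ : A ⟶ B} (h : f₁ = f₂) (D : B.Opens)
    (T : A.Opens) (e : T ≤ f₁ ⁻¹ᵁ D) : f₁.appLE D T e = f₂.appLE D T (h ▸ e) := by
  subst h
  rfl

section main
variable {Y X P PL : Scheme.{u}} {q : X ⟶ Y} {L : X.Modules}
  {𝒮 : RelProj.QCGrAlg Y} {𝒮L : RelProj.QCGrAlg X} {j : L ⟶ 𝒮L.toModule}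
  (u : RelProj.QGrHom q 𝒮 𝒮L)
  {p : P ⟶ Y} {chart : ∀ (U : Y.Opens) (hU : IsAffineOpen U),
    (((p ⁻¹ᵁ U : P.Opens) : Scheme.{u}) ≅ Proj (𝒮.deg U hU))}
  {pL : PL ⟶ X} {chartL : ∀ (U : X.Opens) (hU : IsAffineOpen U),
    (((pL ⁻¹ᵁ U : PL.Opens) : Scheme.{u}) ≅ Proj (𝒮L.deg U hU))}
  (r : ((RelProj.domQ u pL chartL : PL.Opens) : Scheme.{u}) ⟶ P)
  (hL : PicF.IsInvertible L) (hLq : Coh.IsQCoh L) (hj : RelProj.IsGrSymAlg L 𝒮L j)
  (hP : RelProj.IsRelProj 𝒮 p chart) (hPL : RelProj.IsRelProj 𝒮L pL chartL)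
  (hr : RelProj.IsProjQMapOn u p chart pL chartL (RelProj.domQ u pL chartL) r)

/-- an element of `𝒮(U)_(s)` killed by all the maps to `𝒮L(V)_(u s)` is zero, if `u` is
injective over `U` -/
theorem away_eq_zero_of_forall [QuasiCompact q] (U : Y.Opens) (hU : IsAffineOpen U)
    (hinj : Function.Injective (u.app U).hom) {n : ℕ} (s : 𝒮.presheaf.obj (op U))
    (hs : s ∈ 𝒮.deg U hU n) (a : Away (𝒮.deg U hU) s)
    (h : ∀ (V : X.Opens) (hV : IsAffineOpen V) (hle : V ≤ q ⁻¹ᵁ U),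
      Away.map (u.gradedAt U hU V hV hle) s a = 0) : a = 0 := by
  obtain ⟨m, s', hs', rfl⟩ := Away.mk_surjective (𝒮.deg U hU) hs a
  have hloc : ∀ (V : X.Opens) (hV : IsAffineOpen V) (hle : V ≤ q ⁻¹ᵁ U), ∃ N : ℕ,
      ((u.appLE U V hle).hom s) ^ N * (u.appLE U V hle).hom s' = 0 := by
    intro V hV hle
    have h1 := h V hV hle
    rw [Away.map_mk] at h1
    exact AwayBC.awayMk_eq_zero (𝒮L.deg V hV) _ m _ h1
  have hc : IsCompact ((q ⁻¹ᵁ U : X.Opens) : Set X) :=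
    QuasiCompact.isCompact_preimage (f := q) _ U.2 hU.isCompact
  obtain ⟨ι, hfin, W, hWa, hWle, hcov⟩ := QCSec.exists_finite_affine_cover (q ⁻¹ᵁ U) hc
  haveI := Fintype.ofFinite ι
  choose N hN using fun i => hloc (W i) (hWa i) (hWle i)
  have hz : s ^ (∑ i, N i) * s' = 0 := by
    apply hinj
    rw [map_zero]
    refine sec_eq_of_locally_eq 𝒮L.toModule W (q ⁻¹ᵁ U) hWle hcov _ _ (fun i => ?_)
    change (𝒮L.presheaf.map (homOfLE (hWle i)).op).hom ((u.app U).hom (s ^ (∑ i, N i) * s')) =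
      (𝒮L.presheaf.map (homOfLE (hWle i)).op).hom 0
    rw [map_zero, map_mul, map_mul, map_pow, map_pow]
    have e : ∑ i, N i = (∑ i, N i - N i) + N i :=
      (Nat.sub_add_cancel (Finset.single_le_sum (fun _ _ => Nat.zero_le _)
        (Finset.mem_univ i))).symm
    have h2 : ((𝒮L.presheaf.map (homOfLE (hWle i)).op).hom ((u.app U).hom s)) ^ (N i) *
        (𝒮L.presheaf.map (homOfLE (hWle i)).op).hom ((u.app U).hom s') = 0 := hN i
    rw [e, pow_add, mul_assoc, h2, mul_zero]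
  apply HomogeneousLocalization.val_injective
  rw [Away.val_mk, HomogeneousLocalization.val_zero, Localization.mk_eq_mk',
    IsLocalization.mk'_eq_zero_iff]
  exact ⟨⟨s ^ (∑ i, N i), _, rfl⟩, hz⟩

include hr in
theorem app_injective_chart_aux [QuasiCompact q] (U : Y.Opens) (hU : IsAffineOpen U)
    (hinj : Function.Injective (u.app U).hom) {n : ℕ} (hn : 0 < n)
    (s : 𝒮.presheaf.obj (op U)) (hs : s ∈ 𝒮.deg U hU n)
    (c : Spec (.of (Away (𝒮.deg U hU) s)) ⟶ P) [IsOpenImmersion c]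
    (hc : c = Proj.awayι (𝒮.deg U hU) s hs hn ≫ RelProj.emb p chart U hU) :
    Function.Injective (r.app (c ''ᵁ ⊤)).hom := by
  rw [injective_iff_map_eq_zero]
  intro ξ hξ
  have hiso : Function.Injective ((c.appIso ⊤).hom ≫ (Scheme.ΓSpecIso _).hom).hom :=
    (ConcreteCategory.bijective_of_isIso ((c.appIso ⊤).hom ≫ (Scheme.ΓSpecIso _).hom)).1
  apply hiso
  rw [map_zero]
  apply away_eq_zero_of_forall u U hU hinj s hs
  intro V hV hle
  have hlr : RLPsi.lft u pL chartL U hU V hV hle hn s hs ≫ r =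
      Spec.map (CommRingCat.ofHom (Away.map (u.gradedAt U hU V hV hle) s)) ≫ c := by
    rw [hc]
    exact hr U hU V hV hle n hn s hs
      (RelProj.range_awayEmb_subset_domQ u pL chartL U hU V hV hle hn s hs)
  obtain ⟨l, hl⟩ : ∃ l, l = RLPsi.lft u pL chartL U hU V hV hle hn s hs := ⟨_, rfl⟩
  obtain ⟨g, hg⟩ : ∃ g, g = Spec.map (CommRingCat.ofHom
    (Away.map (u.gradedAt U hU V hV hle) s)) := ⟨_, rfl⟩
  rw [← hl, ← hg] at hlr
  have e₂ : (⊤ : (Spec (.of (Away (𝒮L.deg V hV) (u.gradedAt U hU V hV hle s)))).Opens) ≤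
      (g ≫ c) ⁻¹ᵁ (c ''ᵁ ⊤) := by
    intro z _
    exact ⟨g z, trivial, rfl⟩
  have e₁ : (⊤ : (Spec (.of (Away (𝒮L.deg V hV) (u.gradedAt U hU V hV hle s)))).Opens) ≤
      (l ≫ r) ⁻¹ᵁ (c ''ᵁ ⊤) := hlr ▸ e₂
  have h1 : ((l ≫ r).appLE (c ''ᵁ ⊤) ⊤ e₁).hom ξ = 0 := by
    rw [Scheme.Hom.comp_appLE]
    change (l.appLE _ ⊤ _).hom ((r.app _).hom ξ) = 0
    rw [hξ, map_zero]
  have h2 : ((g ≫ c).appLE (c ''ᵁ ⊤) ⊤ e₂).hom ξ = 0 := by
    rw [← appLE_congr_hom hlr (c ''ᵁ ⊤) ⊤ e₁]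
    exact h1
  have h3 : (g ≫ c).appLE (c ''ᵁ ⊤) ⊤ e₂ = (c.appIso ⊤).hom ≫ g.appTop := by
    rw [Scheme.Hom.appIso_hom', ← Scheme.Hom.appLE_comp_appLE g c (c ''ᵁ ⊤) ⊤ ⊤
      (c.preimage_image_eq ⊤).ge le_top]
    congr 1
  have h4 := Scheme.ΓSpecIso_naturality (CommRingCat.ofHom
    (Away.map (u.gradedAt U hU V hV hle) s))
  rw [← hg] at h4
  have h5 : ((c.appIso ⊤).hom ≫ (Scheme.ΓSpecIso _).hom ≫
      CommRingCat.ofHom (Away.map (u.gradedAt U hU V hV hle) s)).hom ξ = 0 := by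
    rw [← h4, ← Category.assoc, ← h3]
    change (Scheme.ΓSpecIso _).hom.hom (((g ≫ c).appLE _ ⊤ e₂).hom ξ) = 0
    rw [h2, map_zero]
  exact h5

include hr in
/-- `r` is injective on functions over the standard charts of `P` -/
theorem app_injective_chart [QuasiCompact q] (U : Y.Opens) (hU : IsAffineOpen U)
    (hinj : Function.Injective (u.app U).hom) {n : ℕ} (hn : 0 < n)
    (s : 𝒮.presheaf.obj (op U)) (hs : s ∈ 𝒮.deg U hU n) :
    Function.Injective (r.app ((Proj.awayι (𝒮.deg U hU) s hs hn ≫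
      RelProj.emb p chart U hU) ''ᵁ ⊤)).hom :=
  app_injective_chart_aux u r hr U hU hinj hn s hs _ rfl

/-- index of the standard charts of `P` over the affine opens where `u` is injective -/
structure Chart (u : RelProj.QGrHom q 𝒮 𝒮L) where
  U : Y.Opens
  hU : IsAffineOpen U
  hinj : Function.Injective (u.app U).hom
  n : ℕ
  hn : 0 < n
  s : 𝒮.presheaf.obj (op U)
  hs : s ∈ 𝒮.deg U hU n

include hr in
/-- `r` is scheme-theoretically dominant if `u` is injective over enough affine opens -/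
theorem isSchemeTheoreticallyDominant_of_injective [QuasiCompact q] [QuasiCompact r]
    (H : ∀ y₀ : Y, ∃ (U : Y.Opens) (_ : IsAffineOpen U), y₀ ∈ U ∧
      Function.Injective (u.app U).hom) :
    IsSchemeTheoreticallyDominant r := by
  refine ⟨?_⟩
  refine Scheme.IdealSheafData.ext_of_iSup_eq_top
    (fun a : Chart u => (⟨(Proj.awayι (𝒮.deg a.U a.hU) a.s a.hs a.hn ≫
        RelProj.emb p chart a.U a.hU) ''ᵁ ⊤,
      (isAffineOpen_top _).image_of_isOpenImmersion _⟩ : P.affineOpens)) ?_ (fun a => ?_)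
  · rw [eq_top_iff]
    intro z _
    obtain ⟨U, hU, hzU, hinj⟩ := H (p z)
    obtain ⟨y₀, hy₀⟩ := exists_emb_eq p chart U hU z hzU
    obtain ⟨n, hn, s, hs, hys, -⟩ :=
      RLPsi.exists_basicOpen_le (⊤ : (Proj (𝒮.deg U hU)).Opens) y₀ trivial
    refine Opens.mem_iSup.mpr ⟨⟨U, hU, hinj, n, hn, s, hs⟩, ?_⟩
    show z ∈ (Proj.awayι (𝒮.deg U hU) s hs hn ≫ RelProj.emb p chart U hU) ''ᵁ ⊤
    rw [Scheme.Hom.image_top_eq_opensRange, Scheme.Hom.opensRange_comp, Proj.opensRange_awayι]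
    exact ⟨y₀, hys, hy₀⟩
  · rw [Scheme.Hom.ker_apply]
    simp only [Scheme.IdealSheafData.ideal_bot, Pi.bot_apply]
    exact (RingHom.injective_iff_ker_eq_bot _).mp
      (app_injective_chart u r hr a.U a.hU a.hinj a.hn a.s a.hs)

include hL hLq hj hP hPL hr in
/-- EGA II 4.5.2 (a) ⟹ (b): for `L` ample on the quasi-compact `X` and `u` bijective on global
sections over the affine base, `r` is an everywhere defined quasi-compact scheme-theoretically
dominant open immersion -/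
theorem forward_top [CompactSpace X] [QuasiCompact q] (hY : IsAffineOpen (⊤ : Y.Opens))
    (hA : CohB1.IsAmple L) (hu : Function.Bijective (u.app ⊤).hom) :
    RelProj.domQ u pL chartL = ⊤ ∧ IsOpenImmersion r ∧ QuasiCompact r ∧
      IsSchemeTheoreticallyDominant r := by
  haveI := RelAmpleLib.compactSpace_preimage q ⊤ hY
  have hA' : CohB1.IsAmple (L.restrict (q ⁻¹ᵁ (⊤ : Y.Opens)).ι) := isAmple_restrict _ hA
  have hc : IsCompact ((q ⁻¹ᵁ (⊤ : Y.Opens) : X.Opens) : Set X) :=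
    QuasiCompact.isCompact_preimage (f := q) _ (⊤ : Y.Opens).2 hY.isCompact
  have key : ∀ x : X, ∃ (n : ℕ) (s : 𝒮.presheaf.obj (op ⊤)),
      x ∈ XFU u ⊤ n s ∧ LocalData u ⊤ hY n s :=
    fun x => local_forward u r hL hLq hj hP hPL hr ⊤ hY hc hA' hu x trivial
  choose nn ss hx hloc using key
  have h3 : (⨆ x, XFU u ⊤ (nn x) (ss x)) = ⊤ :=
    eq_top_iff.mpr (fun x _ => Opens.mem_iSup.mpr ⟨x, hx x⟩)
  obtain ⟨hW, himm⟩ := isOpenImmersion_of_family u r hL hLq hj hP hPL hr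
    (fun _ : X => (⊤ : Y.Opens)) (fun _ => hY) nn ss h3 hloc
  haveI hqc := quasiCompact_r u r hL hLq hj hP hPL hr hW
  exact ⟨hW, himm, hqc, isSchemeTheoreticallyDominant_of_injective u r hr
    (fun y₀ => ⟨⊤, hY, trivial, hu.1⟩)⟩

end main

end Groth.Agent.Lib.Helper3.SymPowSD
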