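import Groth.Agent.Lib.Helper3.QCSec
import Groth.Agent.Lib.Helper3.PbTensor
import Groth.Agent.Lib.Helper3.HomMk
import Groth.Agent.Lib.Helper3.GrModLoc

/-!
# The comparison morphism `tilde N ⟶ (Spec φ)_* tilde N'` of a semilinear map, pointwise
-/

set_option autoImplicit false
set_option linter.unusedSectionVars false
universe u
open CategoryTheory CategoryTheory.Limits AlgebraicGeometry TopologicalSpace Opposite
open Scheme.Modules

namespace Groth.Agent.Lib.Helper3.TildeComap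

section TC1
open QCSec StructureSheaf

variable {R R' : CommRingCat.{u}}

/-- value of a section of `tilde N` at a point -/
def val {N : ModuleCat.{u} R} {W : (Spec R).Opens} (t : Γ(tilde N, W)) (x : W) :
    Localizations N x.1 := t.1 x

theorem val_ext {N : ModuleCat.{u} R} {W : (Spec R).Opens} {t t' : Γ(tilde N, W)}
    (h : ∀ x : W, val t x = val t' x) : t = t' :=
  Subtype.ext (funext h)

theorem val_res {N : ModuleCat.{u} R} {W W' : (Spec R).Opens} (h : W' ≤ W) (t : Γ(tilde N, W))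
    (x : W') : val (res (tilde N) h t) x = val t ⟨x.1, h x.2⟩ := rfl

theorem val_add {N : ModuleCat.{u} R} {W : (Spec R).Opens} (t t' : Γ(tilde N, W)) (x : W) :
    val (t + t') x = val t x + val t' x := rfl

theorem val_toOpen {N : ModuleCat.{u} R} (W : (Spec R).Opens) (n : N) (x : W) :
    val (show Γ(tilde N, W) from (tilde.toOpen N W).hom n) x =
      LocalizedModule.mk n 1 := rfl

theorem val_smul {N : ModuleCat.{u} R} {W : (Spec R).Opens} (c : Γ(Spec R, W)) (t : Γ(tilde N, W))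
    (x : W) : val (c • t) x = (c.1 x : Localizations R x.1) • val t x := rfl

end TC1

section TC2
open QCSec StructureSheaf

section alg

variable {A B : Type u} [CommRing A] [CommRing B] {M N : Type u} [AddCommGroup M] [Module A M]
  [AddCommGroup N] [Module B N] {σ : A →+* B} (f : M →ₛₗ[σ] N)

theorem comapFun_smul (y : PrimeSpectrum.Top B)
    (a : Localizations A (y.comap σ)) (m : Localizations M (y.comap σ)) :
    Localizations.comapFun f y (a • m) =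
      (Localizations.comapFun σ.toSemilinearMap y a : Localizations B y) •
        Localizations.comapFun f y m := by
  induction a using LocalizedModule.induction_on with | h a₀ s₀ =>
  induction m using LocalizedModule.induction_on with | h m₀ t₀ =>
  have h1 : (LocalizedModule.mk a₀ s₀ : Localizations A (y.comap σ)) •
      (LocalizedModule.mk m₀ t₀ : Localizations M (y.comap σ)) =
      LocalizedModule.mk (a₀ • m₀) (s₀ * t₀) := LocalizedModule.mk_smul_mk a₀ m₀ s₀ t₀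
  rw [h1, Localizations.comapFun_mk, Localizations.comapFun_mk, Localizations.comapFun_mk]
  have h2 : (LocalizedModule.mk (σ.toSemilinearMap a₀) ⟨σ s₀.1, s₀.2⟩ : Localizations B y) •
      (LocalizedModule.mk (f m₀) ⟨σ t₀.1, t₀.2⟩ : Localizations N y) =
      LocalizedModule.mk (σ.toSemilinearMap a₀ • f m₀) (⟨σ s₀.1, s₀.2⟩ * ⟨σ t₀.1, t₀.2⟩) :=
    LocalizedModule.mk_smul_mk _ _ _ _
  rw [h2]
  congr 1
  · exact f.map_smulₛₗ a₀ m₀
  · exact Subtype.ext (map_mul σ _ _)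

end alg

end TC2

section TC3
open QCSec StructureSheaf

variable {R R' : CommRingCat.{u}} {N : ModuleCat.{u} R} {N' : ModuleCat.{u} R'}
  (φ : R ⟶ R') (ρ : N →ₛₗ[φ.hom] N')

/-- the sectionwise map -/
noncomputable def tcFun (W : (Spec R).Opens) (t : Γ(tilde N, W)) :
    Γ((pushforward (Spec.map φ)).obj (tilde N'), W) :=
  (show Γ(tilde N', Spec.map φ ⁻¹ᵁ W) from
    comapₗ ρ W (Spec.map φ ⁻¹ᵁ W) (fun _ h => h) t)

theorem val_tcFun (W : (Spec R).Opens) (t : Γ(tilde N, W)) (y : (Spec.map φ ⁻¹ᵁ W : (Spec R').Opens)) :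
    val (show Γ(tilde N', Spec.map φ ⁻¹ᵁ W) from tcFun φ ρ W t) y =
      Localizations.comapFun ρ y.1 (val t ⟨PrimeSpectrum.comap φ.hom y.1, y.2⟩) := rfl

theorem app_val (W : (Spec R).Opens) (c : Γ(Spec R, W)) (y : (Spec.map φ ⁻¹ᵁ W : (Spec R').Opens)) :
    ((Spec.map φ).app W c).1 y =
      Localizations.comapFun φ.hom.toSemilinearMap y.1 (c.1 ⟨PrimeSpectrum.comap φ.hom y.1, y.2⟩) := rfl

/-- the comparison morphism -/
noncomputable def tc : tilde N ⟶ (pushforward (Spec.map φ)).obj (tilde N') :=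
  HomMk.homMk (fun W t => tcFun φ ρ W t)
    (fun W s s' => by
      unfold tcFun
      exact map_add _ _ _)
    (fun W c s => by
      rw [PbTensor.pushforward_smul]
      refine val_ext (N := N') (W := Spec.map φ ⁻¹ᵁ W) (fun y => ?_)
      rw [val_tcFun, val_smul, comapFun_smul]
      rfl)
    (fun {U V} h s => rfl)

theorem val_tc (W : (Spec R).Opens) (t : Γ(tilde N, W)) (y : (Spec.map φ ⁻¹ᵁ W : (Spec R').Opens)) :
    val (show Γ(tilde N', Spec.map φ ⁻¹ᵁ W) from (tc φ ρ).app W t) y =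
      Localizations.comapFun ρ y.1 (val t ⟨PrimeSpectrum.comap φ.hom y.1, y.2⟩) := rfl

end TC3

section TC4
open QCSec StructureSheaf InvGen

variable {R R' R'' : CommRingCat.{u}} {N : ModuleCat.{u} R} {N' : ModuleCat.{u} R'}
  {N'' : ModuleCat.{u} R''}

theorem exists_frac {W : (Spec R).Opens} (t : Γ(tilde N, W)) (x : W) :
    ∃ (V : (Spec R).Opens) (_ : x.1 ∈ V) (hVW : V ≤ W) (m : N) (s : R),
      ∀ y : V, ∃ hs : s ∉ y.1.asIdeal,
        val t ⟨y.1, hVW y.2⟩ = LocalizedModule.mk m ⟨s, hs⟩ := by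
  obtain ⟨V, hxV, i, m, s, h⟩ := t.2 x
  exact ⟨V, hxV, i.le, m, s, fun y => h y⟩

theorem comapFun_comapFun_val (φ₁ : R ⟶ R') (ρ₁ : N →ₛₗ[φ₁.hom] N') (φ₂ : R' ⟶ R'')
    (ρ₂ : N' →ₛₗ[φ₂.hom] N'') (φ₃ : R ⟶ R'') (ρ₃ : N →ₛₗ[φ₃.hom] N'')
    (hcomm : ∀ a, φ₂.hom (φ₁.hom a) = φ₃.hom a) (hcommM : ∀ m, ρ₂ (ρ₁ m) = ρ₃ m)
    (z : PrimeSpectrum R'') {W : (Spec R).Opens} (t : Γ(tilde N, W))
    (m1 : PrimeSpectrum.comap φ₁.hom (PrimeSpectrum.comap φ₂.hom z) ∈ W)
    (m2 : PrimeSpectrum.comap φ₃.hom z ∈ W) :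
    Localizations.comapFun ρ₂ z (Localizations.comapFun ρ₁ (PrimeSpectrum.comap φ₂.hom z)
        (val t ⟨_, m1⟩)) =
      Localizations.comapFun ρ₃ z (val t ⟨_, m2⟩) := by
  have hx : PrimeSpectrum.comap φ₁.hom (PrimeSpectrum.comap φ₂.hom z) =
      PrimeSpectrum.comap φ₃.hom z := by
    apply PrimeSpectrum.ext
    ext a
    change φ₂.hom (φ₁.hom a) ∈ z.asIdeal ↔ φ₃.hom a ∈ z.asIdeal
    rw [hcomm]
  obtain ⟨V, hxV, hVW, m, s, hv⟩ := exists_frac t ⟨_, m1⟩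
  have hxV' : PrimeSpectrum.comap φ₃.hom z ∈ V := hx ▸ hxV
  obtain ⟨hs1, e1⟩ := hv ⟨_, hxV⟩
  obtain ⟨hs2, e2⟩ := hv ⟨_, hxV'⟩
  change val t ⟨_, m1⟩ = _ at e1
  change val t ⟨_, m2⟩ = _ at e2
  rw [e1, e2, Localizations.comapFun_mk, Localizations.comapFun_mk, Localizations.comapFun_mk]
  congr 1
  · exact hcommM _
  · exact Subtype.ext (hcomm _)

section loc

variable (φ : R ⟶ R') (ρ : N →ₛₗ[φ.hom] N') (c : R) (hu : IsUnit (φ.hom c))
  (hsurj : ∀ b : R', ∃ (k : ℕ) (a : R), b * φ.hom c ^ k = φ.hom a)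
  (hsurjM : ∀ x : N', ∃ (k : ℕ) (m : N), φ.hom c ^ k • x = ρ m)
  (hkerM : ∀ m : N, ρ m = 0 → ∃ k : ℕ, c ^ k • m = 0)

include hu in
theorem pow_notMem (y : PrimeSpectrum R') (k : ℕ) : φ.hom c ^ k ∉ y.asIdeal := fun h =>
  y.isPrime.ne_top (Ideal.eq_top_of_isUnit_mem _ h (hu.pow k))

include hu in
theorem pow_notMem_comap (y : PrimeSpectrum R') (k : ℕ) :
    c ^ k ∉ (PrimeSpectrum.comap φ.hom y).asIdeal := fun h => by
  have h1 : φ.hom (c ^ k) ∈ y.asIdeal := h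
  rw [map_pow] at h1
  exact pow_notMem φ c hu y k h1

include hu hsurj hkerM in
theorem comapFun_eq_zero (y : PrimeSpectrum R')
    (q : Localizations N (PrimeSpectrum.comap φ.hom y))
    (hq : Localizations.comapFun ρ y q = 0) : q = 0 := by
  induction q using LocalizedModule.induction_on with
  | h m s =>
    rw [Localizations.comapFun_mk, GrModLoc.mk_eq_zero_iff'] at hq
    obtain ⟨t, ht⟩ := hq
    obtain ⟨k, t₀, hkt⟩ := hsurj t.1
    have ht₀ : t₀ ∉ (PrimeSpectrum.comap φ.hom y).asIdeal := by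
      intro hmem
      have h1 : φ.hom t₀ ∈ y.asIdeal := hmem
      rw [← hkt] at h1
      rcases y.isPrime.mem_or_mem h1 with h2 | h2
      · exact t.2 h2
      · exact pow_notMem φ c hu y k h2
    have h0 : ρ (t₀ • m) = 0 := by
      have ht' : t.1 • ρ m = 0 := ht
      rw [LinearMap.map_smulₛₗ]
      change φ.hom t₀ • ρ m = 0
      rw [← hkt, mul_comm, mul_smul, ht', smul_zero]
    obtain ⟨k', hk'⟩ := hkerM _ h0
    rw [GrModLoc.mk_eq_zero_iff']
    refine ⟨⟨c ^ k' * t₀, fun hmem => ?_⟩, ?_⟩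
    · rcases (PrimeSpectrum.comap φ.hom y).isPrime.mem_or_mem hmem with h2 | h2
      · exact pow_notMem_comap φ c hu y k' h2
      · exact ht₀ h2
    · change (c ^ k' * t₀) • m = 0
      rw [mul_smul, hk']

include hu hsurj hkerM in
theorem tc_app_injective (W : (Spec R).Opens)
    (hW : ∀ x ∈ W, ∃ y, PrimeSpectrum.comap φ.hom y = x) :
    Function.Injective ((tc φ ρ).app W) := by
  intro t t' htt
  apply val_ext
  rintro ⟨x, hx⟩
  obtain ⟨y, rfl⟩ := hW x hx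
  have h1 : Localizations.comapFun ρ y (val t ⟨_, hx⟩) =
      Localizations.comapFun ρ y (val t' ⟨_, hx⟩) := by
    have := congrArg (fun s => val (N := N') (W := Spec.map φ ⁻¹ᵁ W) s ⟨y, hx⟩) htt
    exact this
  have h2 := comapFun_eq_zero φ ρ c hu hsurj hkerM y (val t ⟨_, hx⟩ - val t' ⟨_, hx⟩)
    (by rw [map_sub, h1, sub_self])
  exact sub_eq_zero.mp h2

end loc

end TC4

section TC5
open QCSec StructureSheaf InvGen

variable {R R' : CommRingCat.{u}} {N : ModuleCat.{u} R} {N' : ModuleCat.{u} R'}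

section loc

variable (φ : R ⟶ R') (ρ : N →ₛₗ[φ.hom] N') (c : R) (hu : IsUnit (φ.hom c))
  (hsurj : ∀ b : R', ∃ (k : ℕ) (a : R), b * φ.hom c ^ k = φ.hom a)
  (hsurjM : ∀ x : N', ∃ (k : ℕ) (m : N), φ.hom c ^ k • x = ρ m)
  (hkerM : ∀ m : N, ρ m = 0 → ∃ k : ℕ, c ^ k • m = 0)

set_option maxHeartbeats 400000 in
include hu hsurj hsurjM hkerM in
theorem tc_app_surjective [IsOpenImmersion (Spec.map φ)] (W : (Spec R).Opens)
    (hW : ∀ x ∈ W, ∃ y, PrimeSpectrum.comap φ.hom y = x) :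
    Function.Surjective ((tc φ ρ).app W) := by
  classical
  intro t'
  have hloc : ∀ x : {x : Spec R // x ∈ W}, ∃ (O : (Spec R).Opens) (hO : O ≤ W)
      (τ : Γ(tilde N, O)), x.1 ∈ O ∧
      (tc φ ρ).app O τ = res ((pushforward (Spec.map φ)).obj (tilde N')) hO t' := by
    rintro ⟨x, hx⟩
    obtain ⟨y, rfl⟩ := hW x hx
    obtain ⟨V', hyV', hV'W, b, g, hvv⟩ :=
      exists_frac (N := N') (W := Spec.map φ ⁻¹ᵁ W) t' ⟨y, hx⟩
    have hNW : Spec.map φ ''ᵁ V' ≤ W := by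
      rintro _ ⟨z, hz, rfl⟩
      exact hV'W hz
    have hyN : PrimeSpectrum.comap φ.hom y ∈ Spec.map φ ''ᵁ V' := ⟨y, hyV', rfl⟩
    have hpre : ∀ z : Spec R', z ∈ Spec.map φ ⁻¹ᵁ (Spec.map φ ''ᵁ V') → z ∈ V' := by
      intro z hz
      rwa [(Spec.map φ).preimage_image_eq] at hz
    obtain ⟨k₁, b₀, hkb⟩ := hsurjM b
    obtain ⟨k₂, g₀, hkg⟩ := hsurj g
    have hψb : ρ (c ^ k₂ • b₀) = φ.hom c ^ k₂ • φ.hom c ^ k₁ • b := by
      rw [LinearMap.map_smulₛₗ, ← hkb, map_pow]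
    have hψg : φ.hom (g₀ * c ^ k₁) = g * φ.hom c ^ k₂ * φ.hom c ^ k₁ := by
      rw [map_mul, map_pow, ← hkg]
    have hgN : ∀ x ∈ (Spec.map φ ''ᵁ V' : (Spec R).Opens),
        g₀ * c ^ k₁ ∈ (x : PrimeSpectrum.Top R).asIdeal.primeCompl := by
      rintro _ ⟨z, hz, rfl⟩ hmem
      have h1 : φ.hom (g₀ * c ^ k₁) ∈ z.asIdeal := hmem
      rw [hψg] at h1
      rcases z.isPrime.mem_or_mem h1 with h2 | h2
      · rcases z.isPrime.mem_or_mem h2 with h3 | h3
        · exact (hvv ⟨z, hz⟩).1 h3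
        · exact pow_notMem φ c hu z k₂ h3
      · exact pow_notMem φ c hu z k₁ h2
    refine ⟨Spec.map φ ''ᵁ V', hNW,
      (show Γ(tilde N, Spec.map φ ''ᵁ V') from
        const (c ^ k₂ • b₀) (g₀ * c ^ k₁) (Spec.map φ ''ᵁ V') hgN), hyN, ?_⟩
    apply val_ext (N := N') (W := Spec.map φ ⁻¹ᵁ (Spec.map φ ''ᵁ V'))
    rintro ⟨z, hz⟩
    have hzV' : z ∈ V' := hpre z hz
    obtain ⟨hs, e1⟩ := hvv ⟨z, hzV'⟩
    change Localizations.comapFun ρ z (LocalizedModule.mk (c ^ k₂ • b₀) ⟨g₀ * c ^ k₁, _⟩) =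
      val (N := N') (W := Spec.map φ ⁻¹ᵁ W) t' ⟨z, _⟩
    rw [e1, Localizations.comapFun_mk, LocalizedModule.mk_eq]
    refine ⟨1, ?_⟩
    rw [one_smul, one_smul]
    change g • ρ (c ^ k₂ • b₀) = φ.hom (g₀ * c ^ k₁) • b
    rw [hψb, hψg, smul_smul, smul_smul, mul_assoc]
  choose O hO τ hxO hτ using hloc
  have hinj : ∀ (O' : (Spec R).Opens), O' ≤ W → Function.Injective ((tc φ ρ).app O') :=
    fun O' hO' => tc_app_injective φ ρ c hu hsurj hkerM O' (fun x hx => hW x (hO' hx))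
  obtain ⟨t, ht⟩ := sec_glue (tilde N) O W hO
    (fun x hx => Opens.mem_iSup.mpr ⟨⟨x, hx⟩, hxO ⟨x, hx⟩⟩) τ (by
      intro x x'
      apply hinj (O x ⊓ O x') (inf_le_left.trans (hO x))
      rw [QCExact.app_res', QCExact.app_res', hτ x, hτ x', res_res, res_res])
  refine ⟨t, ?_⟩
  refine sec_eq_of_locally_eq
    ((pushforward (Spec.map φ)).obj (tilde N')) O W hO
    (fun x hx => Opens.mem_iSup.mpr ⟨⟨x, hx⟩, hxO ⟨x, hx⟩⟩) _ _ (fun x => ?_)
  rw [← QCExact.app_res', ht x, hτ x]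

include hu hsurj hsurjM hkerM in
theorem tc_app_bijective [IsOpenImmersion (Spec.map φ)] (W : (Spec R).Opens)
    (hW : ∀ x ∈ W, ∃ y, PrimeSpectrum.comap φ.hom y = x) :
    Function.Bijective ((tc φ ρ).app W) :=
  ⟨tc_app_injective φ ρ c hu hsurj hkerM W hW,
    tc_app_surjective φ ρ c hu hsurj hsurjM hkerM W hW⟩

end loc

end TC5

end Groth.Agent.Lib.Helper3.TildeComap
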