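import Mathlib.Topology.Category.TopCommRingCat
import Mathlib.Topology.Category.TopCat.Limits.Basic
import Mathlib.Algebra.Category.Ring.Limits
import Mathlib.Algebra.Category.Ring.Colimits
import Mathlib.CategoryTheory.Limits.Preserves.Basic
import Mathlib.Topology.Algebra.Ring.Basic

/-! Limits and colimits in the category of topological commutative rings. -/

set_option autoImplicit false
set_option linter.unusedVariables false
universe u
open CategoryTheory CategoryTheory.Limits

namespace Groth.Agent.Lib.Helper3.TopCommRingLim

variable {J : Type u} [Category.{u} J] (F : J ⥤ TopCommRingCat.{u})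

/-- The subring of compatible families in the product. -/
def sections : Subring (∀ j, F.obj j) where
  carrier := {x | ∀ {i j : J} (f : i ⟶ j), (F.map f).1 (x i) = x j}
  mul_mem' := by
    intro a b ha hb i j f
    simp only [Pi.mul_apply, map_mul, ha f, hb f]
  one_mem' := by
    intro i j f
    simp only [Pi.one_apply, map_one]
  add_mem' := by
    intro a b ha hb i j f
    simp only [Pi.add_apply, map_add, ha f, hb f]
  zero_mem' := by
    intro i j f
    simp only [Pi.zero_apply, map_zero]
  neg_mem' := by
    intro a ha i j f
    simp only [Pi.neg_apply, map_neg, ha f]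

/-- The limit cone. -/
def limitCone : Cone F where
  pt := TopCommRingCat.of (sections F)
  π :=
    { app := fun j => ⟨(Pi.evalRingHom (fun j => F.obj j) j).comp (sections F).subtype,
        (continuous_apply j).comp continuous_subtype_val⟩
      naturality := fun i j f => Subtype.ext (RingHom.ext fun x => (x.2 f).symm) }

/-- The limit cone is a limit. -/
def limitConeIsLimit : IsLimit (limitCone F) where
  lift s := ⟨RingHom.codRestrict (RingHom.pi fun j => (s.π.app j).1) (sections F)
      (fun x {i j} f => congrArg (fun g : s.pt ⟶ F.obj j => g.1 x) (s.w f)),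
    Continuous.subtype_mk (continuous_pi fun j => (s.π.app j).2) _⟩
  fac s j := Subtype.ext (RingHom.ext fun x => rfl)
  uniq s m h := Subtype.ext (RingHom.ext fun x => Subtype.ext (funext fun j =>
    congrArg (fun g : s.pt ⟶ F.obj j => g.1 x) (h j)))


/-- The image in `TopCat` of the limit cone is a limit. -/
def isLimitMapTop : IsLimit ((forget₂ TopCommRingCat TopCat).mapCone (limitCone F)) where
  lift s := TopCat.ofHom ⟨fun x => ⟨fun j => s.π.app j x,
      fun {i j} f => ConcreteCategory.congr_hom (s.w f) x⟩,
    Continuous.subtype_mk (continuous_pi fun j => (s.π.app j).hom.2) _⟩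
  fac s j := by
    ext x
    rfl
  uniq s m h := by
    ext x
    exact Subtype.ext (funext fun j => ConcreteCategory.congr_hom (h j) x)

/-- The image in `CommRingCat` of the limit cone is a limit. -/
def isLimitMapRing : IsLimit ((forget₂ TopCommRingCat CommRingCat).mapCone (limitCone F)) where
  lift s := CommRingCat.ofHom (RingHom.codRestrict
    (RingHom.pi (fun j => ((s.π.app j).hom : s.pt →+* F.obj j)) : s.pt →+* ∀ j, F.obj j)
    (sections F) (fun x {i j} f => by
      have := ConcreteCategory.congr_hom (s.w f) x
      exact this))
  fac s j := by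
    ext x
    rfl
  uniq s m h := by
    ext x
    exact Subtype.ext (funext fun j => ConcreteCategory.congr_hom (h j) x)

theorem hasLimits_and_preserves :
    HasLimits TopCommRingCat.{u} ∧
    PreservesLimits (forget₂ TopCommRingCat.{u} TopCat.{u}) ∧
    PreservesLimits (forget₂ TopCommRingCat.{u} CommRingCat.{u}) :=
  ⟨⟨fun J _ => ⟨fun F => HasLimit.mk ⟨limitCone F, limitConeIsLimit F⟩⟩⟩,
    ⟨fun {J} _ => ⟨fun {F} =>
      preservesLimit_of_preserves_limit_cone (limitConeIsLimit F) (isLimitMapTop F)⟩⟩,
    ⟨fun {J} _ => ⟨fun {F} =>
      preservesLimit_of_preserves_limit_cone (limitConeIsLimit F) (isLimitMapRing F)⟩⟩⟩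


section Colimits

open Topology

/-- The infimum of a set of ring topologies, as a ring topology. -/
def ringTopInf {R : Type*} [Ring R] (S : Set (RingTopology R)) : RingTopology R :=
  let _ : TopologicalSpace R := sInf (RingTopology.toTopologicalSpace '' S)
  { toContinuousAdd := continuousAdd_sInf <| Set.forall_mem_image.2 fun t _ =>
      let _ := t.1; t.toContinuousAdd
    toContinuousMul := continuousMul_sInf <| Set.forall_mem_image.2 fun t _ =>
      let _ := t.1; t.toContinuousMul
    toContinuousNeg := continuousNeg_sInf <| Set.forall_mem_image.2 fun t _ =>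
      let _ := t.1; t.toContinuousNeg }

/-- The ring topology induced by a ring homomorphism to a topological ring. -/
def inducedRingTopology {C S : Type*} [Ring C] [Ring S] [TopologicalSpace S] [IsTopologicalRing S]
    (d : C →+* S) : RingTopology C :=
  let _ : TopologicalSpace C := TopologicalSpace.induced d ‹_›
  { toContinuousAdd := continuousAdd_induced d
    toContinuousMul := continuousMul_induced d
    toContinuousNeg := (topologicalAddGroup_induced d).toContinuousNeg }

/-- The underlying diagram of rings. -/
abbrev ringDiagram : J ⥤ CommRingCat.{u} := F ⋙ forget₂ TopCommRingCat CommRingCat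

/-- The structure maps of the colimit ring. -/
noncomputable def ιRing (j : J) : F.obj j →+* (colimit (ringDiagram F) : CommRingCat) :=
  (colimit.ι (ringDiagram F) j).hom

/-- The finest ring topology on the colimit ring making all structure maps continuous. -/
noncomputable def colimTopology : RingTopology (colimit (ringDiagram F) : CommRingCat) :=
  ringTopInf {τ | ∀ j, @Continuous _ _ (F.obj j).isTopologicalSpace τ.toTopologicalSpace
    (ιRing F j)}

lemma continuous_ιRing (j : J) : @Continuous _ _ (F.obj j).isTopologicalSpace
    (colimTopology F).toTopologicalSpace (ιRing F j) :=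
  continuous_sInf_rng.2 <| Set.forall_mem_image.2 fun _ hτ => hτ j

/-- The colimit cocone. -/
noncomputable def colimitCocone : Cocone F where
  pt := @TopCommRingCat.of (colimit (ringDiagram F) : CommRingCat) _
    (colimTopology F).toTopologicalSpace (colimTopology F).toIsTopologicalRing
  ι :=
    { app := fun j => ⟨ιRing F j, continuous_ιRing F j⟩
      naturality := fun i j f => Subtype.ext (RingHom.ext fun x => by
        have := ConcreteCategory.congr_hom (colimit.w (ringDiagram F) f) x
        exact this) }

/-- The ring homomorphism out of the colimit ring induced by a cocone. -/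
noncomputable def descRing (s : Cocone F) :
    (colimit (ringDiagram F) : CommRingCat) →+* s.pt :=
  (colimit.desc (ringDiagram F) ((forget₂ TopCommRingCat CommRingCat).mapCocone s)).hom

lemma descRing_ι (s : Cocone F) (j : J) (x : F.obj j) :
    descRing F s (ιRing F j x) = (s.ι.app j).1 x :=
  ConcreteCategory.congr_hom
    (colimit.ι_desc ((forget₂ TopCommRingCat CommRingCat).mapCocone s) j) x

lemma ringHom_ext {R : Type u} [CommRing R]
    (g₁ g₂ : (colimit (ringDiagram F) : CommRingCat) →+* R)
    (h : ∀ j x, g₁ (ιRing F j x) = g₂ (ιRing F j x)) : g₁ = g₂ := by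
  have : (CommRingCat.ofHom g₁ : colimit (ringDiagram F) ⟶ CommRingCat.of R) =
      CommRingCat.ofHom g₂ := colimit.hom_ext fun j => by
    ext x
    exact h j x
  exact congrArg CommRingCat.Hom.hom this

/-- The colimit cocone is a colimit. -/
noncomputable def colimitCoconeIsColimit : IsColimit (colimitCocone F) where
  desc s := ⟨descRing F s, by
    have hmem : inducedRingTopology (descRing F s) ∈
        {τ : RingTopology (colimit (ringDiagram F) : CommRingCat) |
          ∀ j, @Continuous _ _ (F.obj j).isTopologicalSpace τ.toTopologicalSpace (ιRing F j)} := by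
      intro j
      refine continuous_induced_rng.2 ?_
      have : ⇑(descRing F s) ∘ ⇑(ιRing F j) = ⇑(s.ι.app j).1 := by
        funext x
        exact descRing_ι F s j x
      rw [this]
      exact (s.ι.app j).2
    have hle : (colimTopology F).toTopologicalSpace ≤
        (inducedRingTopology (descRing F s)).toTopologicalSpace :=
      sInf_le ⟨_, hmem, rfl⟩
    exact continuous_iff_le_induced.2 hle⟩
  fac s j := Subtype.ext (RingHom.ext fun x => descRing_ι F s j x)
  uniq s m h := Subtype.ext (ringHom_ext F
    (m.1 : (colimit (ringDiagram F) : CommRingCat) →+* s.pt) (descRing F s) fun j x => by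
      rw [descRing_ι]
      exact congrArg (fun g : F.obj j ⟶ s.pt => g.1 x) (h j))

/-- The image in `CommRingCat` of the colimit cocone is a colimit. -/
noncomputable def isColimitMapRing :
    IsColimit ((forget₂ TopCommRingCat CommRingCat).mapCocone (colimitCocone F)) where
  desc s := colimit.desc (ringDiagram F) s
  fac s j := colimit.ι_desc s j
  uniq s m h := colimit.hom_ext fun j => by
    rw [colimit.ι_desc]
    exact h j

theorem hasColimits_and_preserves :
    HasColimits TopCommRingCat.{u} ∧
    PreservesColimits (forget₂ TopCommRingCat.{u} CommRingCat.{u}) :=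
  ⟨⟨fun J _ => ⟨fun F => HasColimit.mk ⟨colimitCocone F, colimitCoconeIsColimit F⟩⟩⟩,
    ⟨fun {J} _ => ⟨fun {F} =>
      preservesColimit_of_preserves_colimit_cocone (colimitCoconeIsColimit F)
        (isColimitMapRing F)⟩⟩⟩

end Colimits

end Groth.Agent.Lib.Helper3.TopCommRingLim
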