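import Groth.Agent.Lib.Helper9.TopDim

/-!
# A closed subspace containing no irreducible component has smaller dimension
-/

set_option autoImplicit false

open TopologicalSpace Order Topology

namespace Groth.Agent.Lib.Helper3

open Groth.Agent.Lib.Helper9

/-- If `f : Z → X` is a closed embedding whose range contains no irreducible component of the nonempty
finite-dimensional space `X`, then `dim Z < dim X`. -/
theorem topologicalKrullDim_lt_of_isClosedEmbedding {Z X : Type*} [TopologicalSpace Z]
    [TopologicalSpace X] [Nonempty X] (f : Z → X) (hf : IsClosedEmbedding f)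
    (hfin : topologicalKrullDim X ≠ ⊤)
    (h : ∀ C ∈ irreducibleComponents X, ¬ C ⊆ Set.range f) :
    topologicalKrullDim Z < topologicalKrullDim X := by
  have hXnn : (0 : WithBot ℕ∞) ≤ topologicalKrullDim X := topologicalKrullDim_nonneg_of_nonempty
  have key : ∀ p : LTSeries (IrreducibleCloseds Z),
      ((p.length : ℕ∞) : WithBot ℕ∞) + 1 ≤ topologicalKrullDim X := by
    intro p
    let p' : LTSeries (IrreducibleCloseds X) :=
      p.map (IrreducibleCloseds.map f hf.continuous)
        (IrreducibleCloseds.map_strictMono_of_isInducing hf.isInducing)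
    have h1 : (p'.last : Set X) ⊆ Set.range f := by
      rw [LTSeries.last_map]
      exact closure_minimal (by rintro _ ⟨y, -, rfl⟩; exact ⟨y, rfl⟩) hf.isClosed_range
    obtain ⟨C, hC, hlC, hmax⟩ := exists_preirreducible (p'.last : Set X)
      p'.last.isIrreducible.isPreirreducible
    have hCne : C.Nonempty := p'.last.isIrreducible.nonempty.mono hlC
    have hCirr : C ∈ irreducibleComponents X :=
      ⟨⟨hCne, hC⟩, fun u hu hCu => (hmax u hu.2 hCu).le⟩
    let T : IrreducibleCloseds X := ⟨C, hCirr.1, isClosed_of_mem_irreducibleComponents C hCirr⟩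
    have hlast : p'.last < T := by
      refine lt_of_le_of_ne (SetLike.le_def.mpr fun x hx => hlC hx) ?_
      intro heq
      apply h C hCirr
      have : (p'.last : Set X) = C := congrArg (fun Z : IrreducibleCloseds X => (Z : Set X)) heq
      rw [← this]
      exact h1
    have h2 := Order.LTSeries.length_le_krullDim (p'.snoc T hlast)
    have h3 : (p'.snoc T hlast).length = p.length + 1 := rfl
    rw [h3] at h2
    exact_mod_cast h2
  rcases isEmpty_or_nonempty (LTSeries (IrreducibleCloseds Z)) with hE | hN
  · have h4 : topologicalKrullDim Z = ⊥ := by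
      unfold topologicalKrullDim
      rw [Order.krullDim]
      exact iSup_of_empty _
    rw [h4]
    exact lt_of_lt_of_le (WithBot.bot_lt_coe 0) hXnn
  · have h1 := topdim_iSup_add_one_le
      (fun p : LTSeries (IrreducibleCloseds Z) => (p.length : ℕ∞)) _ key
    have h2 : topologicalKrullDim Z =
        ((⨆ p : LTSeries (IrreducibleCloseds Z), (p.length : ℕ∞) : ℕ∞) : WithBot ℕ∞) := by
      unfold topologicalKrullDim
      have : Nonempty (IrreducibleCloseds Z) := ⟨hN.some.head⟩
      exact Order.krullDim_eq_iSup_length
    rw [h2]
    exact topdim_lt_of_add_one_le h1 hfin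

/-- The generic point of an irreducible component is a maximal point. -/
theorem maximal_of_isGenericPoint_of_mem_irreducibleComponents {X : Type*} [TopologicalSpace X]
    [T0Space X] {C : Set X} (hC : C ∈ irreducibleComponents X) {c : X} (hc : IsGenericPoint c C) :
    ∀ y : X, y ⤳ c → y = c := by
  intro y hy
  have h1 : C ⊆ closure {y} := by
    rw [← hc.def]
    exact closure_minimal (Set.singleton_subset_iff.mpr hy.mem_closure) isClosed_closure
  have h2 : closure {y} ⊆ C := hC.2 isIrreducible_singleton.closure h1
  have h3 : IsGenericPoint y C := subset_antisymm h2 h1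
  exact h3.eq hc

end Groth.Agent.Lib.Helper3
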