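import Groth.Agent.Lib.Helper3.RelNorm

/-!
# Trivialising an invertible module near a finite fibre
-/

set_option autoImplicit false
universe u
open CategoryTheory CategoryTheory.Limits AlgebraicGeometry TopologicalSpace Opposite
open Scheme.Modules TensorProduct

namespace Groth.Agent.Lib.H3.TrivFibre

open Groth.Agent.Lib.Helper3
open QCSec InvGen InvTensor InvTwist InvMonoidal InvCoh InvAmple InvSum

variable {X : Scheme.{u}}

/-- on a quasi-affine scheme, an invertible module has a global section generating at a given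
point and whose locus is inside a given neighbourhood -/
theorem exists_globalHom_nbhd [X.IsQuasiAffine] {L : X.Modules} (hL : PicF.IsInvertible L) (x : X)
    (W₀ : X.Opens) (hx : x ∈ W₀) :
    ∃ s : Coh.structureModule X ⟶ L, x ∈ CohB1.genLocus L s ∧ CohB1.genLocus L s ≤ W₀ := by
  obtain ⟨U, e, hU, hxU, hUW, hg⟩ := exists_affine_isGen_le hL x W₀ hx
  obtain ⟨_, ⟨r, hr, rfl⟩, hxr, hrU⟩ := Opens.isBasis_iff_nbhd.mp
    (Scheme.IsQuasiAffine.isBasis_basicOpen X) hxU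
  haveI := isQuasicoherent_of_isInvertible hL
  obtain ⟨n, σ, hσ⟩ := surj_of_isCompact L (V := ⊤) (by simpa using isCompact_univ)
    (fun U U' hU hU' _ _ => QuasiSeparatedSpace.inter_isCompact U.1 U'.1 U.2 hU.isCompact U'.2
      hU'.isCompact) r (W := X.basicOpen r) rfl le_top (res L hrU e)
  let s := globalHom L (r • σ)
  have hs : sec s (X.basicOpen r) =
      (rres X (le_top : X.basicOpen r ≤ ⊤) r) ^ (n + 1) • res L hrU e := by
    rw [sec_globalHom, res_smul, hσ, ← mul_smul, ← pow_succ']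
  have hunit : IsUnit (rres X (le_top : X.basicOpen r ≤ ⊤) r) :=
    RingedSpace.isUnit_res_basicOpen X.toRingedSpace r
  have hle : X.basicOpen r ≤ CohB1.genLocus L s := by
    apply le_genLocus
    rw [hs]
    exact (hg.mono hrU).smul_unit (hunit.pow _)
  exact ⟨s, hle hxr, (genLocus_globalHom_smul_le hL r σ).trans (hrU.trans hUW)⟩

/-- on a quasi-affine scheme, an invertible module has a global section generating at all
points of a given finite set -/
theorem exists_globalHom_finite [X.IsQuasiAffine] {L : X.Modules} (hL : PicF.IsInvertible L)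
    (Z : Set X) (hZ : Z.Finite) :
    ∃ s : Coh.structureModule X ⟶ L, Z ⊆ CohB1.genLocus L s := by
  classical
  obtain ⟨Z', hZ'Z, hspec, hcl⟩ := Groth.Agent.S2324.exists_closed_points_of_finite Z hZ
  have hZ'fin : Z'.Finite := hZ.subset hZ'Z
  haveI : Fintype Z' := hZ'fin.fintype
  have hnb : ∀ z : Z', ∃ s : Coh.structureModule X ⟶ L, (z : X) ∈ CohB1.genLocus L s ∧
      CohB1.genLocus L s ≤ ⟨(closure (Z' \ {(z : X)}))ᶜ, isClosed_closure.isOpen_compl⟩ := by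
    intro z
    exact exists_globalHom_nbhd hL z _ (hcl z z.2)
  choose t htz htle using hnb
  refine ⟨∑ z ∈ (Finset.univ : Finset Z'), t z, ?_⟩
  intro z hz
  obtain ⟨w, hw, hzw⟩ := hspec z hz
  have hw' : w ∈ CohB1.genLocus _ (∑ z ∈ (Finset.univ : Finset Z'), t z) := by
    apply mem_genLocus_sum_of_unique hL Finset.univ t w ⟨w, hw⟩ (Finset.mem_univ _)
    · exact htz ⟨w, hw⟩
    · intro i _ hi hwi
      have h1 := htle i hwi
      apply h1
      apply subset_closure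
      refine ⟨hw, ?_⟩
      intro h2
      apply hi
      exact Subtype.ext h2.symm
  exact hzw.mem_open (CohB1.genLocus _ _).2 hw'

/-- **an invertible module is trivial near a finite fibre**: for `g : X' ⟶ X` finite and `L'`
invertible on `X'`, every point of `X` has arbitrarily small open neighbourhoods `U` such that
`L'` has a generator over `g⁻¹ U`. -/
theorem exists_isGen_preimage {X' : Scheme.{u}} (g : X' ⟶ X) [IsFinite g] {L' : X'.Modules}
    (hL' : PicF.IsInvertible L') (x : X) (U₀ : X.Opens) (hx : x ∈ U₀) :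
    ∃ (U : X.Opens) (lam : Γ(L', g ⁻¹ᵁ U)), x ∈ U ∧ U ≤ U₀ ∧ IsGen L' (g ⁻¹ᵁ U) lam := by
  obtain ⟨V, hV, hxV⟩ := QCProps.exists_affine_nbhd x
  have hW : IsAffineOpen (g ⁻¹ᵁ V) := hV.preimage g
  haveI : IsAffine ((g ⁻¹ᵁ V : X'.Opens) : Scheme.{u}) := hW
  have hfin : (g ⁻¹' {x}).Finite := g.finite_preimage_singleton x
  have hZfin : ((g ⁻¹ᵁ V).ι ⁻¹' (g ⁻¹' {x})).Finite :=
    hfin.preimage ((g ⁻¹ᵁ V).ι.injective.injOn)
  obtain ⟨s, hs⟩ := exists_globalHom_finite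
    (InvRestrict.isInvertible_restrict (g ⁻¹ᵁ V).ι hL') _ hZfin
  obtain ⟨G, hG⟩ : ∃ G : ((g ⁻¹ᵁ V : X'.Opens) : Scheme.{u}).Opens,
      G = CohB1.genLocus _ s := ⟨_, rfl⟩
  have hgen : IsGen L' ((g ⁻¹ᵁ V).ι ''ᵁ G) (show Γ(L', (g ⁻¹ᵁ V).ι ''ᵁ G) from sec s G) :=
    (InvRestrict.isGen_restrict_iff (g ⁻¹ᵁ V).ι L' G (sec s G)).mp
      (hG ▸ isGen_genLocus s)
  have hclosed : IsClosed (g '' (((g ⁻¹ᵁ V).ι ''ᵁ G : X'.Opens) : Set X')ᶜ) :=
    g.isClosedMap _ ((g ⁻¹ᵁ V).ι ''ᵁ G).2.isClosed_compl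
  have hxC : x ∉ g '' (((g ⁻¹ᵁ V).ι ''ᵁ G : X'.Opens) : Set X')ᶜ := by
    rintro ⟨z, hz, hzx⟩
    apply hz
    have hzV : z ∈ g ⁻¹ᵁ V := by
      change g z ∈ V
      rw [hzx]
      exact hxV
    refine ⟨⟨z, hzV⟩, ?_, rfl⟩
    rw [hG]
    exact hs (show (g ⁻¹ᵁ V).ι ⟨z, hzV⟩ ∈ g ⁻¹' {x} from hzx)
  let U : X.Opens := U₀ ⊓ ⟨(g '' (((g ⁻¹ᵁ V).ι ''ᵁ G : X'.Opens) : Set X')ᶜ)ᶜ,
    hclosed.isOpen_compl⟩
  have hle : g ⁻¹ᵁ U ≤ (g ⁻¹ᵁ V).ι ''ᵁ G := by
    intro z hz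
    by_contra hzs
    exact hz.2 ⟨z, hzs, rfl⟩
  exact ⟨U, res L' hle _, ⟨hx, hxC⟩, inf_le_left, hgen.mono hle⟩

end Groth.Agent.Lib.H3.TrivFibre
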