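import Groth.Agent.Lib.Helper3.TwistHom
import Groth.Agent.Lib.Helper3.AvoidPoints

/-!
# The composite of two twist morphisms between projective bundles is the identity
-/

set_option autoImplicit false
set_option linter.unusedSectionVars false
universe u
open CategoryTheory CategoryTheory.Limits AlgebraicGeometry TopologicalSpace Opposite
open Scheme.Modules
open scoped HomogeneousIdeal

namespace Groth.Agent.Lib.Helper3.TwistComp

open QCSec InvGen InvTensor InvMonoidal PbBasic PbTensor PullLemmas RelChart SymGen TwistHom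

section kappa

variable {Y P : Scheme.{u}} (p : P ⟶ Y) {L L' : Y.Modules} (hL : PicF.IsInvertible L)
  (hL' : PicF.IsInvertible L') (ε : CohB1.tensorMod L L' ≅ Coh.structureModule Y)

/-- `p^*L ⊗ p^*L' ≅ O_P` from `L ⊗ L' ≅ O_Y` -/
noncomputable def kappa : CohB1.tensorMod ((Scheme.Modules.pullback p).obj L)
    ((Scheme.Modules.pullback p).obj L') ≅ Coh.structureModule P :=
  (pbTensorIso p L L' hL hL').symm ≪≫ (Scheme.Modules.pullback p).mapIso ε ≪≫ pbUnit p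

theorem kappa_hom_tm (U : Y.Opens) (ℓ : Γ(L, U)) (ℓ' : Γ(L', U))
    (h : ε.hom.app U (tm L L' U ℓ ℓ') = ofFun U 1) :
    (kappa p hL hL' ε).hom.app (p ⁻¹ᵁ U) (tm _ _ (p ⁻¹ᵁ U) (pull p L U ℓ) (pull p L' U ℓ')) =
      ofFun (p ⁻¹ᵁ U) 1 := by
  have h1 : tm _ _ (p ⁻¹ᵁ U) (pull p L U ℓ) (pull p L' U ℓ') =
      (pbTensorIso p L L' hL hL').hom.app (p ⁻¹ᵁ U) (pull p _ U (tm L L' U ℓ ℓ')) :=
    (delta_pull_tm p L L' U ℓ ℓ').symm
  rw [h1]
  change (pbUnitHom p).app _ (((Scheme.Modules.pullback p).map ε.hom).app _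
    ((pbTensorIso p L L' hL hL').inv.app _ ((pbTensorIso p L L' hL hL').hom.app _ _))) = _
  rw [iso_inv_hom_app, pull_app, h, pbUnitHom_pull, map_one]

include hL hL' in
/-- small opens: affine, with generators `ℓ`, `ℓ'` such that `ε(ℓ ⊗ ℓ') = 1` -/
theorem small_cover (W : Y.Opens) (y : Y) (hy : y ∈ W) :
    ∃ V : Y.Opens, (IsAffineOpen V ∧ ∃ (ℓ : Γ(L, V)) (ℓ' : Γ(L', V)), IsGen L V ℓ ∧
      IsGen L' V ℓ' ∧ ε.hom.app V (tm L L' V ℓ ℓ') = ofFun V 1) ∧ y ∈ V ∧ V ≤ W := by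
  obtain ⟨U₁, ℓ₁, -, hy₁, hU₁W, hg₁⟩ := exists_affine_isGen_le hL y W hy
  obtain ⟨V, m', hV, hyV, hVU₁, hg'⟩ := exists_affine_isGen_le hL' y U₁ hy₁
  have hg := hg₁.mono hVU₁
  have hgt := AvoidPoints.isGen_iso ε (isGen_tm hg hg')
  obtain ⟨c, hcu, hc⟩ := (isGenAt_one V).exists_unit hgt.self
  obtain ⟨v, hv⟩ := hcu.exists_left_inv
  have hvu : IsUnit v := IsUnit.of_mul_eq_one c hv
  refine ⟨V, ⟨hV, res L hVU₁ ℓ₁, v • m', hg, hg'.smul_unit hvu, ?_⟩, hyV, hVU₁.trans hU₁W⟩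
  rw [tm_smul_right, Scheme.Modules.Hom.app_smul, hc, ← mul_smul, hv, one_smul]

end kappa

section main

variable {Y P Q : Scheme.{u}} {E F : Y.Modules} [E.IsQuasicoherent]
  {𝒮 : RelProj.QCGrAlg Y} {j : E ⟶ 𝒮.toModule} (hj : RelProj.IsGrSymAlg E 𝒮 j) {p : P ⟶ Y}
  {chart : ∀ (U : Y.Opens) (hU : IsAffineOpen U),
    ((p ⁻¹ᵁ U : P.Opens) : Scheme.{u}) ≅ Proj (𝒮.deg U hU)}
  (hP : RelProj.IsRelProj 𝒮 p chart) {O1P : P.Modules}
  {lamP : ∀ (U : Y.Opens) (hU : IsAffineOpen U),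
    O1P ⟶ (Scheme.Modules.pushforward (RelProj.emb p chart U hU)).obj
      (GrTwist.twist (𝒮.deg U hU) 1)}
  (hO1P : RelProj.IsRelTwist 𝒮 p chart 1 O1P lamP)
  {φP : E ⟶ (pushforward p).obj O1P}
  (hφP : ∀ (U : Y.Opens) (hU : IsAffineOpen U) (e : Γ(E, U)),
    Reads lamP U hU (p ⁻¹ᵁ U) (up p O1P U (φP.app U e)) (jj 𝒮.toQCAlg j U e) 1)
  {q : Q ⟶ Y} {O1Q : Q.Modules} (hO1Q : PicF.IsInvertible O1Q)
  {φQ : F ⟶ (pushforward q).obj O1Q}
  {L L' : Y.Modules} (hL : PicF.IsInvertible L) (hL' : PicF.IsInvertible L')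
  (ε : CohB1.tensorMod L L' ≅ Coh.structureModule Y)
  (ν : F ⟶ CohB1.tensorMod E L) (ν' : E ⟶ CohB1.tensorMod F L')
  (i : P ⟶ Q) (hi : i ≫ q = p)
  (τ : (Scheme.Modules.pullback i).obj O1Q ≅
    CohB1.tensorMod O1P ((Scheme.Modules.pullback p).obj L))
  (i' : Q ⟶ P) (hi' : i' ≫ p = q)
  (τ' : (Scheme.Modules.pullback i').obj O1P ≅
    CohB1.tensorMod O1Q ((Scheme.Modules.pullback q).obj L'))

/-- the identification `(i ≫ i')^* O_P(1) ≅ O_P(1)` -/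
noncomputable def tau1 : (Scheme.Modules.pullback (i ≫ i')).obj O1P ≅ O1P :=
  (pullbackComp i i').symm.app O1P ≪≫ (Scheme.Modules.pullback i).mapIso τ' ≪≫
    pbTensorIso i O1Q ((Scheme.Modules.pullback q).obj L') hO1Q (isInvertible_pullback q hL') ≪≫
    tensorMapIso τ (compIso i q p hi L') ≪≫
    assoc O1P ((Scheme.Modules.pullback p).obj L) ((Scheme.Modules.pullback p).obj L') ≪≫
    tensorMapIso (Iso.refl O1P) (kappa p hL hL' ε) ≪≫
    SecTwist.unitorR O1P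

variable
  (hτ : ∀ (U : Y.Opens), IsAffineOpen U → ∀ f : Γ(F, U),
    τ.hom.app (p ⁻¹ᵁ U) (pullY i q p hi O1Q U (up q O1Q U (φQ.app U f))) =
      (sNu p φP ν).app (p ⁻¹ᵁ U) (pull p F U f))
  (hτ' : ∀ (U : Y.Opens), IsAffineOpen U → ∀ e : Γ(E, U),
    τ'.hom.app (q ⁻¹ᵁ U) (pullY i' p q hi' O1P U (up p O1P U (φP.app U e))) =
      (sNu q φQ ν').app (q ⁻¹ᵁ U) (pull q E U e))
  (hrel : ∀ (U : Y.Opens), IsAffineOpen U → ∀ (ℓ : Γ(L, U)) (ℓ' : Γ(L', U)),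
    IsGen L U ℓ → IsGen L' U ℓ' → ε.hom.app U (tm L L' U ℓ ℓ') = ofFun U 1 →
    ∀ (e : Γ(E, U)) (f : Γ(F, U)), ν'.app U e = tm F L' U f ℓ' → ν.app U f = tm E L U e ℓ)

include hτ hτ' hrel in
theorem tau1_hom_pullY (hrr : (i ≫ i') ≫ p = p) (U : Y.Opens) (hU : IsAffineOpen U)
    (ℓ : Γ(L, U)) (ℓ' : Γ(L', U)) (hg : IsGen L U ℓ) (hg' : IsGen L' U ℓ')
    (hε : ε.hom.app U (tm L L' U ℓ ℓ') = ofFun U 1) (e : Γ(E, U)) :
    (tau1 hO1Q hL hL' ε i hi τ i' τ').hom.app (p ⁻¹ᵁ U)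
      (pullY (i ≫ i') p p hrr O1P U (up p O1P U (φP.app U e))) =
      (((pullbackPushforwardAdjunction p).homEquiv E O1P).symm φP).app (p ⁻¹ᵁ U)
        (pull p E U e) := by
  obtain ⟨f, hf⟩ := (tm_gen_bijective F L' hg' U le_rfl).2 (ν'.app U e)
  dsimp only at hf
  rw [res_self] at hf
  have hνf : ν.app U f = tm E L U e ℓ := hrel U hU ℓ ℓ' hg hg' hε e f hf.symm
  have h1 := pullbackComp_inv_pullY i q p hi i' p hi' hrr O1P U (up p O1P U (φP.app U e))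
  change (SecTwist.unitorR O1P).hom.app _ ((tensorMapIso (Iso.refl O1P) (kappa p hL hL' ε)).hom.app _
    ((assoc O1P ((Scheme.Modules.pullback p).obj L) ((Scheme.Modules.pullback p).obj L')).hom.app _
      ((tensorMapIso τ (compIso i q p hi L')).hom.app _
        ((delta i O1Q ((Scheme.Modules.pullback q).obj L')).app _
          (((Scheme.Modules.pullback i).map τ'.hom).app _
            (((pullbackComp i i').inv.app O1P).app _
              (pullY (i ≫ i') p p hrr O1P U (up p O1P U (φP.app U e))))))))) = _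
  rw [h1, pullY_app, hτ' U hU e, sNu_pull q φQ ν' U e f ℓ' hf.symm, delta_pullY_tm,
    tensorMapIso_hom_tm, hτ U hU f, sNu_pull p φP ν U f e ℓ hνf, compIso_hom_pullY,
    assoc_hom_tm, tensorMapIso_hom_tm, kappa_hom_tm p hL hL' ε U ℓ ℓ' hε, adjoint_pull]
  exact (unitorR_hom_tm O1P _ _ 1).trans (one_smul _ _)

include hj hP hO1P hφP hO1Q hL hL' hτ hτ' hrel in
/-- the composite of the two twist morphisms is the identity -/
theorem comp_eq_id : i ≫ i' = 𝟙 P := by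
  have hrr : (i ≫ i') ≫ p = p := by rw [Category.assoc, hi', hi]
  have hid : 𝟙 P ≫ p = p := Category.id_comp p
  have hcat := compat_of_pull_small (i ≫ i') p p hrr φP
    (tau1 hO1Q hL hL' ε i hi τ i' τ').hom
    (((pullbackPushforwardAdjunction p).homEquiv E O1P).symm φP)
    (fun V => IsAffineOpen V ∧ ∃ (ℓ : Γ(L, V)) (ℓ' : Γ(L', V)), IsGen L V ℓ ∧
      IsGen L' V ℓ' ∧ ε.hom.app V (tm L L' V ℓ ℓ') = ofFun V 1)
    (small_cover hL hL' ε)
    (fun U hU e => by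
      obtain ⟨hUa, ℓ, ℓ', hg, hg', hε⟩ := hU
      exact tau1_hom_pullY hO1Q hL hL' ε ν ν' i hi τ i' hi' τ' hτ hτ' hrel hrr U hUa ℓ ℓ' hg hg'
        hε e)
  exact ProjBundleUniq.hom_unique hj hP hO1P hφP p
    (((pullbackPushforwardAdjunction p).homEquiv E O1P).symm φP) (i ≫ i') hrr
    (tau1 hO1Q hL hL' ε i hi τ i' τ')
    (fun U _ e => pull_of_compat (i ≫ i') p p hrr φP _ _ hcat U e)
    (𝟙 P) hid ((pullbackId P).app O1P)
    (fun U _ e => (pullbackId_hom_pullY p hid O1P U _).trans (adjoint_pull p φP U e).symm)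

end main

end Groth.Agent.Lib.Helper3.TwistComp
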