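import Groth.Agent.Lib.Helper3.SecFam

/-!
# Base change of the twisting sheaves `O(n)` on `Proj`
-/

set_option autoImplicit false
set_option linter.unusedSectionVars false
universe u
open CategoryTheory CategoryTheory.Limits AlgebraicGeometry TopologicalSpace Opposite
open Scheme.Modules HomogeneousLocalization
open scoped HomogeneousIdeal

namespace Groth.Agent.Lib.Helper3.TwistFamBC

open QCSec GrModSec GrModExact Groth.Agent.Lib.Helper17.UnitBC SecFam

variable {R R' A B : Type u} [CommRing R'] [CommRing R] [Algebra R' R]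
    [CommRing B] [Algebra R' B] (ℬ : ℕ → Submodule R' B) [GradedAlgebra ℬ]
    [CommRing A] [Algebra R A] [Algebra R' A] [IsScalarTower R' R A] (𝒜 : ℕ → Submodule R A)
    [GradedAlgebra 𝒜]
    [Algebra B A] [IsScalarTower R' B A] [Algebra.IsPushout R' R B A]
    (φ : ℬ →+*ᵍ 𝒜) (hφA : ∀ b : B, φ b = algebraMap B A b)
    (hφ : HomogeneousIdeal.irrelevant 𝒜 ≤ (HomogeneousIdeal.irrelevant ℬ).map φ) (n : ℤ)

include hφA in
theorem isBCHom_secMap_of_isPushout {d : ℕ} (hd : 0 < d) {g : B} (hg : g ∈ ℬ d) :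
    IsBCHom ((Proj.map φ hφ).appLE (Proj.basicOpen ℬ g) (Proj.basicOpen 𝒜 (φ g)) (by rfl)).hom
      (fun m => GrComapCrit.secMap φ hφ ℬ 𝒜 (GrComapCrit.ψlin φ) (GrComapCrit.ψlin_mem φ)
        n g m) := by
  have hb0 : ∀ r : R', algebraMap R' B r ∈ ℬ 0 := fun r => SetLike.algebraMap_mem_graded ℬ r
  have hc0 : ∀ r : R, algebraMap R A r ∈ 𝒜 0 := fun r => SetLike.algebraMap_mem_graded 𝒜 r
  have hφg : φ g ∈ 𝒜 d := φ.map_mem hg
  have hb0' : ∀ r : R', algebraMap R' B r ∈ ℬ (0 • d) := fun r => by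
    rw [zero_smul]
    exact hb0 r
  have hc0' : ∀ r : R, algebraMap R A r ∈ 𝒜 (0 • d) := fun r => by
    rw [zero_smul]
    exact hc0 r
  refine FamilyBC.isBCHom_of_family (R' := R') (R := R) (B := B) (A := A)
    (ι g (algebraMap R' B) hb0) (ι (φ g) (algebraMap R A) hc0) _ ?_ ?_
    (IsScalarTower.toAlgHom R' B A).toLinearMap Algebra.IsPushout.out
    (GrComapCrit.secMap φ hφ ℬ 𝒜 (GrComapCrit.ψlin φ) (GrComapCrit.ψlin_mem φ) n g)
    (GrComapCrit.secMap_smul φ hφ ℬ 𝒜 _ _ n g)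
    (fun k => secFam ℬ hd hg n k) ?_
    (fun k => secFam 𝒜 hd hφg n k) ?_
    ?_ (secFam_surj ℬ hd hg n) (secFam_surj 𝒜 hd hφg n)
    (fun e => LinearMap.mulLeft R' (g ^ e)) ?_
    (fun e k => (LinearMap.mulLeft R' (g ^ e)).comp (GradedAlgebra.proj ℬ (idx n d k)))
    (fun e k => (LinearMap.mulLeft R ((φ g) ^ e)).comp (GradedAlgebra.proj 𝒜 (idx n d k)))
    ?_ ?_ ?_
  · -- hsq
    intro r
    rw [ι_eq_mk hg _ hb0 r (hb0' r), appLE_awayToSection φ hφ hg, Away.map_mk,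
      ι_eq_mk hφg _ hc0 (algebraMap R' R r) (hc0' _)]
    congr 1
    apply awayMk_congr
    rw [hφA, ← IsScalarTower.algebraMap_apply R' B A, IsScalarTower.algebraMap_apply R' R A]
  · -- hT
    intro t'
    refine mem_closure φ hφ (algebraMap R A) hc0 hd hg ?_ t'
    intro P h0 hφP hsmul hadd y
    refine (Algebra.IsPushout.out (R := R') (S := R) (R' := B) (S' := A)).inductionOn y P h0
      (fun b => ?_) (fun r y hy => ?_) hadd
    · change P (algebraMap B A b)
      rw [← hφA]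
      exact hφP b
    · rw [Algebra.smul_def]
      exact hsmul r y hy
  · -- hψlin
    intro k r b
    rw [Algebra.smul_def, ι_eq_mk hg _ hb0 r (hb0' r)]
    exact secFam_smul_zero ℬ hd hg n (hb0' r) k b
  · -- hχlin
    intro k r a
    rw [Algebra.smul_def, ι_eq_mk hφg _ hc0 r (hc0' r)]
    exact secFam_smul_zero 𝒜 hd hφg n (hc0' r) k a
  · -- hμψ
    intro k b
    refine (comap_secFam φ hφ ℬ 𝒜 (GrComapCrit.ψlin φ) (GrComapCrit.ψlin_mem φ) hd hg n k b).trans
      ?_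
    change secFam 𝒜 hd hφg n k (φ b) = secFam 𝒜 hd hφg n k (algebraMap B A b)
    exact congrArg (secFam 𝒜 hd hφg n k) (hφA b)
  · -- hν
    intro e k b
    exact secFam_pow_smul ℬ hd hg n e k b
  · -- hστ
    intro e k b
    change algebraMap B A (g ^ e * dec ℬ (idx n d k) b) =
      φ g ^ e * dec 𝒜 (idx n d k) (algebraMap B A b)
    rw [← hφA, ← hφA, map_mul, map_pow]
    congr 1
    exact v_dec φ ℬ 𝒜 (GrComapCrit.ψlin φ) (GrComapCrit.ψlin_mem φ) (idx n d k) b
  · -- hσ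
    intro e k b
    exact (secFam_pow_smul ℬ hd hg n e k _).trans (secFam_dec ℬ hd hg n k b)
  · -- hker
    intro k a h
    exact secFam_eq_zero 𝒜 hd hφg n k a h

include hφA in
/-- base change of the twisting sheaves -/
theorem isIso_adjunct_comap_of_isPushout :
    IsIso (((pullbackPushforwardAdjunction (Proj.map φ hφ)).homEquiv _ _).symm
      (GrMod.comap φ hφ (GrComapCrit.ψlin φ) (GrComapCrit.ψlin_mem φ) n)) := by
  apply GrComapCrit.isIso_adjunct_comap φ hφ ℬ 𝒜 (GrComapCrit.ψlin φ) (GrComapCrit.ψlin_mem φ) n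
  intro y
  obtain ⟨d, hd, g, hg, hy⟩ := GrComapCrit.exists_mem_basicOpen_map φ hφ y
  exact ⟨d, hd, g, hg, hy, isBCHom_secMap_of_isPushout ℬ 𝒜 φ hφA hφ n hd hg⟩

end Groth.Agent.Lib.Helper3.TwistFamBC
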