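import Groth.Agent.Lib.Helper3.PushGr
import Groth.Agent.Lib.Helper3.SymPowFwd
import Groth.Agent.Lib.Helper3.AmpleMisc
import Groth.Agent.Lib.Helper3.InvCoh
import Groth.Agent.Lib.Helper3.SymGr
import Groth.Agent.Lib.Helper3.RelProjExist
import Groth.Agent.Lib.Helper3.ProjQGlue
import Groth.Agent.Lib.Helper3.InvMonoidal

/-!
# `X_s` is affine over the base for a universally closed morphism and a relatively ample module
-/

set_option autoImplicit false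
set_option linter.unusedSectionVars false
universe u
open CategoryTheory CategoryTheory.Limits AlgebraicGeometry TopologicalSpace Opposite
open Scheme.Modules
open scoped HomogeneousIdeal

namespace Groth.Agent.Lib.Helper3.UCAffine

open QCSec InvGen SymGen InvTensor InvMonoidal Groth.Agent.Lib.Helper3.RLPsiImm
  Groth.Agent.Lib.Helper3.RLPsiImmU Groth.Agent.Lib.Helper3.SymPow

theorem isAffineHom_genLocus {X S : Scheme.{u}} (f : X ⟶ S) [UniversallyClosed f]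
    (L : X.Modules) (hL : RelAmple.IsRelAmple f L) (s : Coh.structureModule X ⟶ L) :
    IsAffineHom ((CohB1.genLocus L s).ι ≫ f) := by
  haveI : QuasiCompact f := hL.1
  haveI : QuasiSeparated f := AmpleMisc.quasiSeparated_of_isRelAmple f hL
  have hLi : PicF.IsInvertible L := AmpleMisc.isInvertible_of_isRelAmple f hL
  have hLq : Coh.IsQCoh L := InvCoh.isQuasicoherent_of_isInvertible hLi
  haveI : L.IsQuasicoherent := hLq
  obtain ⟨𝒮L, jL, hjL⟩ := SymGr.exists_isGrSymAlg L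
  obtain ⟨PL, pL, chartL, hPL⟩ := RelProjExist.exists_isRelProj 𝒮L
  obtain ⟨P, p, chart, hP⟩ := RelProjExist.exists_isRelProj (PushGr.pushGr 𝒮L f)
  obtain ⟨r, hr⟩ := ProjQGlue.exists_isProjQMapOn (u := PushGr.pushU 𝒮L f) p chart pL chartL hP hPL
  obtain ⟨hW, himm, hdom⟩ := SymPowFwd.forward (PushGr.pushU 𝒮L f) r hLi hLq hjL hP hPL hr hL
    (fun U _ => PushGr.pushU_bijective 𝒮L f U)
  haveI := himm
  haveI := hdom
  haveI : IsIso r :=
    SymPowFwd.isIso_of_universallyClosed (PushGr.pushU 𝒮L f) r hLi hLq hjL hP hPL hr hW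
  refine ⟨fun U hU => ?_⟩
  rw [← (CohB1.genLocus L s).ι.isAffineOpen_iff_of_isOpenImmersion]
  have himg : (CohB1.genLocus L s).ι ''ᵁ (((CohB1.genLocus L s).ι ≫ f) ⁻¹ᵁ U) =
      CohB1.genLocus L s ⊓ f ⁻¹ᵁ U := by
    rw [Scheme.Hom.comp_preimage, Scheme.Hom.image_preimage_eq_opensRange_inf,
      Scheme.Opens.opensRange_ι]
  rw [himg]
  have hσ : jj 𝒮L.toQCAlg jL (f ⁻¹ᵁ U) (sec s (f ⁻¹ᵁ U)) ∈ (PushGr.pushGr 𝒮L f).deg U hU 1 := by
    intro V hV hVW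
    show rs 𝒮L.toQCAlg hVW (jj 𝒮L.toQCAlg jL (f ⁻¹ᵁ U) (sec s (f ⁻¹ᵁ U))) ∈ _
    rw [rs_jj]
    exact hjL.2 V hV _
  have hkap : jj 𝒮L.toQCAlg (kap 𝒮L.toQCAlg jL 1) (f ⁻¹ᵁ U) (lpow L (sec s (f ⁻¹ᵁ U)) 1) =
      ((PushGr.pushU 𝒮L f).app U).hom (jj 𝒮L.toQCAlg jL (f ⁻¹ᵁ U) (sec s (f ⁻¹ᵁ U))) := by
    rw [kap_lpow, pow_one]
    rfl
  have hXeq : XFU (PushGr.pushU 𝒮L f) U 1 (jj 𝒮L.toQCAlg jL (f ⁻¹ᵁ U) (sec s (f ⁻¹ᵁ U))) =
      CohB1.genLocus L s ⊓ f ⁻¹ᵁ U := by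
    apply le_antisymm
    · intro x hx
      obtain ⟨V', hle, hxV', hg⟩ := (SymPowAmple.XFU_mem_iff_isGen (PushGr.pushU 𝒮L f) r hLi hLq
        hjL hP hPL hr U hU one_pos _ hσ (lpow L (sec s (f ⁻¹ᵁ U)) 1) hkap x).mp hx
      refine ⟨?_, hle hxV'⟩
      show x ∈ CohB1.genLocus L s
      rw [← genLocus_powHom hLi s 0]
      refine (mem_genLocus_iff _ x).mpr ⟨V', hxV', ?_⟩
      rw [sec_powHom, ← res_sec s hle, ← lpow_res]
      exact hg
    · rintro x ⟨hxG, hxU⟩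
      have hxG' : x ∈ CohB1.genLocus L s := hxG
      rw [← genLocus_powHom hLi s 0] at hxG'
      obtain ⟨W, hxW, hg⟩ := (mem_genLocus_iff _ x).mp hxG'
      refine (SymPowAmple.XFU_mem_iff_isGen (PushGr.pushU 𝒮L f) r hLi hLq
        hjL hP hPL hr U hU one_pos _ hσ (lpow L (sec s (f ⁻¹ᵁ U)) 1) hkap x).mpr
        ⟨W ⊓ f ⁻¹ᵁ U, inf_le_right, ⟨hxW, hxU⟩, ?_⟩
      have h1 := hg.mono (inf_le_left : W ⊓ f ⁻¹ᵁ U ≤ W)
      rw [res_sec, sec_powHom] at h1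
      rw [lpow_res, res_sec]
      exact h1
  rw [← hXeq]
  haveI : IsIso (⊤ : P.Opens).ι := isIso_ι_of_eq_top _ rfl
  exact isAffineOpen_XF_of_le (PushGr.pushU 𝒮L f) r hLi hLq hjL hP hPL hr U hU one_pos _ hσ ⊤
    (r ≫ inv (⊤ : P.Opens).ι) (by rw [Category.assoc, IsIso.inv_hom_id, Category.comp_id]) le_top

end Groth.Agent.Lib.Helper3.UCAffine
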