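import Mathlib.CategoryTheory.EffectiveEpi.Comp
import Mathlib.CategoryTheory.MorphismProperty.Limits
import Mathlib.CategoryTheory.Limits.Shapes.Pullback.HasPullback
import Mathlib.CategoryTheory.Comma.Over.Pullback
import Mathlib.CategoryTheory.EquivalenceRelation

/-! Universal effective epimorphisms: composition, cancellation, descent of mono / iso. -/

set_option autoImplicit false
set_option linter.unusedSimpArgs false
universe w v₁ u₁
open CategoryTheory CategoryTheory.Limits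

namespace Groth.Agent.Lib.Helper3.UnivEffEpi

variable {C : Type u₁} [Category.{v₁} C]

/-- universal effective epimorphisms -/
abbrev UEE : MorphismProperty C :=
  MorphismProperty.universally (fun (A B : C) (p : A ⟶ B) => EffectiveEpi p)

/-- universal epimorphisms -/
abbrev UE : MorphismProperty C :=
  MorphismProperty.universally (MorphismProperty.epimorphisms C)

lemma uee_le_ue : (UEE : MorphismProperty C) ≤ UE :=
  MorphismProperty.universally_mono (fun _ _ f (_ : EffectiveEpi f) =>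
    (MorphismProperty.epimorphisms.iff f).2 inferInstance)

lemma UE.epi {X Y : C} {f : X ⟶ Y} (h : UE f) : Epi f :=
  (MorphismProperty.epimorphisms.iff f).1 (MorphismProperty.universally_le _ _ h)

lemma UEE.effectiveEpi {X Y : C} {f : X ⟶ Y} (h : UEE f) : EffectiveEpi f :=
  MorphismProperty.universally_le _ _ h

lemma UE.epi_fst [HasPullbacks C] {X Y Z : C} {f : X ⟶ Y} (h : UE f) (g : Z ⟶ Y) :
    Epi (pullback.fst g f) :=
  (MorphismProperty.epimorphisms.iff _).1 (h _ _ _ (IsPullback.of_hasPullback g f))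

lemma UE.epi_snd [HasPullbacks C] {X Y Z : C} {f : X ⟶ Y} (h : UE f) (g : Z ⟶ Y) :
    Epi (pullback.snd f g) :=
  (MorphismProperty.epimorphisms.iff _).1 (h _ _ _ (IsPullback.of_hasPullback f g).flip)

lemma UEE.effectiveEpi_fst [HasPullbacks C] {X Y Z : C} {f : X ⟶ Y} (h : UEE f) (g : Z ⟶ Y) :
    EffectiveEpi (pullback.fst g f) :=
  h _ _ _ (IsPullback.of_hasPullback g f)

lemma UEE.effectiveEpi_snd [HasPullbacks C] {X Y Z : C} {f : X ⟶ Y} (h : UEE f) (g : Z ⟶ Y) :
    EffectiveEpi (pullback.snd f g) :=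
  h _ _ _ (IsPullback.of_hasPullback f g).flip

/-- key step: if `v` is a universal epi, `e' : T ⟶ W` and `v ≫ e'` coequalizes all pairs coequalized
by `v ≫ u`, then `e'` coequalizes all pairs coequalized by `u`. -/
lemma coeq_of_ue [HasPullbacks C] {U T S W : C} (v : U ⟶ T) (u : T ⟶ S) (hv : UE v) (e' : T ⟶ W)
    (h : ∀ {Z : C} (g₁ g₂ : Z ⟶ U), g₁ ≫ v ≫ u = g₂ ≫ v ≫ u → g₁ ≫ v ≫ e' = g₂ ≫ v ≫ e')
    {Z : C} (h₁ h₂ : Z ⟶ T) (hh : h₁ ≫ u = h₂ ≫ u) : h₁ ≫ e' = h₂ ≫ e' := by
  have hp₁ : Epi (pullback.fst h₁ v) := hv.epi_fst h₁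
  have hp₂ : Epi (pullback.fst (pullback.fst h₁ v ≫ h₂) v) := hv.epi_fst _
  have c₁ : pullback.fst h₁ v ≫ h₁ = pullback.snd h₁ v ≫ v := pullback.condition
  have c₂ : pullback.fst (pullback.fst h₁ v ≫ h₂) v ≫ pullback.fst h₁ v ≫ h₂ =
      pullback.snd (pullback.fst h₁ v ≫ h₂) v ≫ v := pullback.condition
  have key := h (pullback.fst (pullback.fst h₁ v ≫ h₂) v ≫ pullback.snd h₁ v)
    (pullback.snd (pullback.fst h₁ v ≫ h₂) v) (by
      rw [Category.assoc, ← reassoc_of% c₁, hh, reassoc_of% c₂])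
  rw [Category.assoc, ← reassoc_of% c₁, ← reassoc_of% c₂] at key
  rw [← cancel_epi (pullback.fst h₁ v), ← cancel_epi (pullback.fst (pullback.fst h₁ v ≫ h₂) v)]
  exact key

/-- S5204 -/
theorem effectiveEpi_comp_of_ue [HasPullbacks C] {U T S : C} (v : U ⟶ T) (u : T ⟶ S)
    [EffectiveEpi u] [EffectiveEpi v] (hv : UE v) : EffectiveEpi (v ≫ u) := by
  have hv1 : ∀ {W : C} (e : U ⟶ W),
      (∀ {Z : C} (g₁ g₂ : Z ⟶ U), g₁ ≫ v ≫ u = g₂ ≫ v ≫ u → g₁ ≫ e = g₂ ≫ e) →
      ∀ {Z : C} (g₁ g₂ : Z ⟶ U), g₁ ≫ v = g₂ ≫ v → g₁ ≫ e = g₂ ≫ e := by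
    intro W e h Z g₁ g₂ hg
    exact h g₁ g₂ (by rw [reassoc_of% hg])
  have hv2 : ∀ {W : C} (e : U ⟶ W)
      (h : ∀ {Z : C} (g₁ g₂ : Z ⟶ U), g₁ ≫ v ≫ u = g₂ ≫ v ≫ u → g₁ ≫ e = g₂ ≫ e),
      ∀ {Z : C} (h₁ h₂ : Z ⟶ T), h₁ ≫ u = h₂ ≫ u →
        h₁ ≫ EffectiveEpi.desc v e (hv1 e h) = h₂ ≫ EffectiveEpi.desc v e (hv1 e h) := by
    intro W e h Z h₁ h₂ hh
    refine coeq_of_ue v u hv _ ?_ h₁ h₂ hh
    intro Z g₁ g₂ hg
    simpa using h g₁ g₂ hg
  refine ⟨⟨{ desc := fun {W} e h => EffectiveEpi.desc u (EffectiveEpi.desc v e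
                (hv1 e (by simpa using @h))) (hv2 e (by simpa using @h))
             fac := ?_
             uniq := ?_ }⟩⟩
  · intro W e h
    simp
  · intro W e h m hm
    apply EffectiveEpi.uniq
    apply EffectiveEpi.uniq
    simpa using hm


/-- S5205 -/
theorem uee_comp [HasPullbacks C] {U T S : C} (v : U ⟶ T) (u : T ⟶ S) (hu : UEE u) (hv : UEE v) :
    UEE (v ≫ u) := by
  intro X' Z' i₁ i₂ f' H
  have hw : f' ≫ i₂ = (i₁ ≫ v) ≫ u := H.w.trans (Category.assoc _ _ _).symm
  obtain ⟨l, hl⟩ : ∃ l, l = pullback.lift f' (i₁ ≫ v) hw := ⟨_, rfl⟩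
  have hl1 : l ≫ pullback.fst i₂ u = f' := by rw [hl]; exact pullback.lift_fst _ _ _
  have hl2 : l ≫ pullback.snd i₂ u = i₁ ≫ v := by rw [hl]; exact pullback.lift_snd _ _ _
  have h1 : UEE (pullback.fst i₂ u) :=
    MorphismProperty.of_isPullback (P := UEE) (IsPullback.of_hasPullback i₂ u).flip hu
  have H' : IsPullback (l ≫ pullback.fst i₂ u) i₁ i₂ (v ≫ u) := by rw [hl1]; exact H
  have h2 : UEE l :=
    MorphismProperty.of_isPullback (P := UEE)
      (H'.of_right hl2 (IsPullback.of_hasPullback i₂ u)).flip hv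
  have := h1.effectiveEpi
  have := h2.effectiveEpi
  rw [← hl1]
  exact effectiveEpi_comp_of_ue _ _ (uee_le_ue _ h2)

/-- if `v ≫ u` is a universal effective epi then `u` is an effective epi -/
theorem effectiveEpi_of_uee_comp [HasPullbacks C] {U T S : C} (v : U ⟶ T) (u : T ⟶ S)
    (h : UEE (v ≫ u)) : EffectiveEpi u := by
  have hvu := h.effectiveEpi
  have hq : EffectiveEpi (pullback.fst u (v ≫ u)) := h.effectiveEpi_fst u
  have hcond : pullback.fst u (v ≫ u) ≫ u = pullback.snd u (v ≫ u) ≫ v ≫ u := pullback.condition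
  have h1 : ∀ {W : C} (e : T ⟶ W),
      (∀ {Z : C} (g₁ g₂ : Z ⟶ T), g₁ ≫ u = g₂ ≫ u → g₁ ≫ e = g₂ ≫ e) →
      ∀ {Z : C} (g₁ g₂ : Z ⟶ U), g₁ ≫ v ≫ u = g₂ ≫ v ≫ u → g₁ ≫ v ≫ e = g₂ ≫ v ≫ e := by
    intro W e he Z g₁ g₂ hg
    have := he (g₁ ≫ v) (g₂ ≫ v) (by simpa using hg)
    simpa using this
  refine ⟨⟨{ desc := fun {W} e he => EffectiveEpi.desc (v ≫ u) (v ≫ e) (h1 e he)
             fac := ?_
             uniq := ?_ }⟩⟩
  · intro W e he
    rw [← cancel_epi (pullback.fst u (v ≫ u))]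
    have h2 := he (pullback.fst u (v ≫ u)) (pullback.snd u (v ≫ u) ≫ v) (by simpa using hcond)
    rw [reassoc_of% hcond, ← Category.assoc v u, EffectiveEpi.fac, h2, Category.assoc]
  · intro W e he m hm
    apply EffectiveEpi.uniq
    rw [Category.assoc, hm]

/-- S5206 -/
theorem uee_of_comp [HasPullbacks C] {U T S : C} (v : U ⟶ T) (u : T ⟶ S) (h : UEE (v ≫ u)) :
    UEE u := by
  intro X' Z' i₁ i₂ f' H
  -- base change of `v` along `i₁`
  have hP : IsPullback (pullback.fst i₁ v ≫ f') (pullback.snd i₁ v) i₂ (v ≫ u) :=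
    (IsPullback.of_hasPullback i₁ v).paste_horiz H
  exact effectiveEpi_of_uee_comp (pullback.fst i₁ v) f'
    (MorphismProperty.of_isPullback (P := UEE) hP.flip h)

/-- S5207 -/
theorem uee_iff_baseChange [HasPullbacks C] {S' S T : C} (g : S' ⟶ S) (hg : UEE g) (u : T ⟶ S) :
    UEE u ↔ UEE (pullback.snd u g) := by
  constructor
  · intro hu
    exact MorphismProperty.of_isPullback (P := UEE) (IsPullback.of_hasPullback u g) hu
  · intro h
    have h1 : UEE (pullback.snd u g ≫ g) := uee_comp _ _ hg h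
    rw [← pullback.condition] at h1
    exact uee_of_comp _ _ h1


/-- monos descend along universal epis -/
theorem mono_of_isPullback_ue [HasPullbacks C] {X' Y' X Y : C} {g' : X' ⟶ Y'} {pX : X' ⟶ X}
    {pY : Y' ⟶ Y} {g : X ⟶ Y} (H : IsPullback g' pX pY g) (hpY : UE pY) [Mono g'] : Mono g := by
  constructor
  intro Z a b hab
  have hZ : Epi (pullback.fst (a ≫ g) pY) := hpY.epi_fst _
  have c : pullback.fst (a ≫ g) pY ≫ a ≫ g = pullback.snd (a ≫ g) pY ≫ pY := pullback.condition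
  have ha : (pullback.snd (a ≫ g) pY) ≫ pY = (pullback.fst (a ≫ g) pY ≫ a) ≫ g := by
    rw [Category.assoc, c]
  have hb : (pullback.snd (a ≫ g) pY) ≫ pY = (pullback.fst (a ≫ g) pY ≫ b) ≫ g := by
    rw [Category.assoc, ← hab, c]
  have h1 : H.lift _ _ ha = H.lift _ _ hb := by
    rw [← cancel_mono g']
    simp
  have h2 := congrArg (· ≫ pX) h1
  simp only [IsPullback.lift_snd] at h2
  exact (cancel_epi _).1 h2

lemma uee_of_isIso {X Y : C} (f : X ⟶ Y) [IsIso f] : UEE f := by
  intro X' Y' i₁ i₂ f' H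
  have : IsIso f' := H.isIso_fst_of_isIso
  infer_instance

/-- isos descend along universal effective epis -/
theorem isIso_of_isPullback_uee [HasPullbacks C] {X' Y' X Y : C} {g' : X' ⟶ Y'} {pX : X' ⟶ X}
    {pY : Y' ⟶ Y} {g : X ⟶ Y} (H : IsPullback g' pX pY g) (hpY : UEE pY) [IsIso g'] : IsIso g := by
  have hm : Mono g := mono_of_isPullback_ue H (uee_le_ue _ hpY)
  have h1 : UEE (g' ≫ pY) := uee_comp _ _ hpY (uee_of_isIso g')
  rw [H.w] at h1
  have h2 : UEE g := uee_of_comp _ _ h1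
  have := h2.effectiveEpi
  exact isIso_of_mono_of_strongEpi g

theorem isPullback_overPullback_map [HasPullbacks C] {S' S : C} (f : S' ⟶ S) {X Y : Over S}
    (g : X ⟶ Y) :
    IsPullback ((Over.pullback f).map g).left (pullback.fst X.hom f) (pullback.fst Y.hom f) g.left := by
  have hbig : IsPullback (((Over.pullback f).map g).left ≫ pullback.snd Y.hom f)
      (pullback.fst X.hom f) f (g.left ≫ Y.hom) := by
    have h1 : ((Over.pullback f).map g).left ≫ pullback.snd Y.hom f = pullback.snd X.hom f :=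
      pullback.lift_snd _ _ _
    rw [h1, Over.w g]
    exact (IsPullback.of_hasPullback X.hom f).flip
  refine hbig.of_right ?_ (IsPullback.of_hasPullback Y.hom f).flip
  exact pullback.lift_fst _ _ _

/-- S5209 -/
theorem isIso_mono_iff_overPullback [HasPullbacks C] {S' S : C} (f : S' ⟶ S) (hf : UEE f)
    {X Y : Over S} (g : X ⟶ Y) :
    (IsIso g ↔ IsIso ((Over.pullback f).map g)) ∧ (Mono g ↔ Mono ((Over.pullback f).map g)) := by
  have H := isPullback_overPullback_map f g
  have hpY : UEE (pullback.fst Y.hom f) :=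
    MorphismProperty.of_isPullback (P := UEE) (IsPullback.of_hasPullback Y.hom f).flip hf
  constructor
  · constructor
    · intro h; infer_instance
    · intro h
      have : IsIso ((Over.pullback f).map g).left :=
        inferInstanceAs (IsIso ((Over.forget S').map ((Over.pullback f).map g)))
      have : IsIso g.left := isIso_of_isPullback_uee H hpY
      have : IsIso ((Over.forget S).map g) := this
      exact isIso_of_reflects_iso g (Over.forget S)
  · constructor
    · intro h; infer_instance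
    · intro h
      have : Mono ((Over.pullback f).map g).left := inferInstance
      have : Mono g.left := mono_of_isPullback_ue H (uee_le_ue _ hpY)
      exact Over.mono_of_mono_left g


/-- S5210 -/
theorem nonempty_hom_iff_overPullback [HasPullbacks C] {S' S : C} (f : S' ⟶ S) (hf : UEE f)
    (X Y : Over S) [Mono Y.hom] :
    Nonempty (X ⟶ Y) ↔ Nonempty ((Over.pullback f).obj X ⟶ (Over.pullback f).obj Y) := by
  constructor
  · rintro ⟨h⟩
    exact ⟨(Over.pullback f).map h⟩
  · rintro ⟨h'⟩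
    have hpX : EffectiveEpi (pullback.fst X.hom f) := hf.effectiveEpi_fst X.hom
    have hw : h'.left ≫ pullback.snd Y.hom f = pullback.snd X.hom f := Over.w h'
    have he : (h'.left ≫ pullback.fst Y.hom f) ≫ Y.hom = pullback.fst X.hom f ≫ X.hom := by
      rw [Category.assoc, pullback.condition, reassoc_of% hw, pullback.condition]
    have hco : ∀ {Z : C} (g₁ g₂ : Z ⟶ pullback X.hom f),
        g₁ ≫ pullback.fst X.hom f = g₂ ≫ pullback.fst X.hom f →
        g₁ ≫ h'.left ≫ pullback.fst Y.hom f = g₂ ≫ h'.left ≫ pullback.fst Y.hom f := by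
      intro Z g₁ g₂ hg
      rw [← cancel_mono Y.hom]
      simp only [Category.assoc] at he ⊢
      rw [he, reassoc_of% hg]
    refine ⟨Over.homMk (EffectiveEpi.desc (pullback.fst X.hom f)
      (h'.left ≫ pullback.fst Y.hom f) hco) ?_⟩
    rw [← cancel_epi (pullback.fst X.hom f)]
    rw [EffectiveEpi.fac_assoc]
    simpa using he


/-- S5211 -/
theorem mono_of_isIso_mapDesc [HasPullbacks C] {S' S T : C} (f : S' ⟶ S) (hf : UEE f) (g : S ⟶ T)
    [IsIso (pullback.mapDesc f f g)] : Mono g := by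
  have hue : UE f := uee_le_ue _ hf
  constructor
  intro Z a b hab
  have hp₁ : Epi (pullback.fst a f) := hue.epi_fst a
  have hp₂ : Epi (pullback.fst (pullback.fst a f ≫ b) f) := hue.epi_fst _
  have c₁ : pullback.fst a f ≫ a = pullback.snd a f ≫ f := pullback.condition
  have c₂ : pullback.fst (pullback.fst a f ≫ b) f ≫ pullback.fst a f ≫ b =
      pullback.snd (pullback.fst a f ≫ b) f ≫ f := pullback.condition
  have hl : (pullback.fst (pullback.fst a f ≫ b) f ≫ pullback.snd a f) ≫ f ≫ g =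
      pullback.snd (pullback.fst a f ≫ b) f ≫ f ≫ g := by
    rw [Category.assoc, ← reassoc_of% c₁, hab, reassoc_of% c₂]
  have e1 : pullback.mapDesc f f g ≫ pullback.fst (f ≫ g) (f ≫ g) = pullback.fst f f :=
    (pullback.lift_fst _ _ _).trans (Category.comp_id _)
  have e2 : pullback.mapDesc f f g ≫ pullback.snd (f ≫ g) (f ≫ g) = pullback.snd f f :=
    (pullback.lift_snd _ _ _).trans (Category.comp_id _)
  obtain ⟨m, hm⟩ : ∃ m, m = pullback.lift _ _ hl ≫ inv (pullback.mapDesc f f g) := ⟨_, rfl⟩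
  have h1 : m ≫ pullback.fst f f =
      pullback.fst (pullback.fst a f ≫ b) f ≫ pullback.snd a f := by
    rw [hm, ← e1, Category.assoc, IsIso.inv_hom_id_assoc, pullback.lift_fst]
  have h2 : m ≫ pullback.snd f f = pullback.snd (pullback.fst a f ≫ b) f := by
    rw [hm, ← e2, Category.assoc, IsIso.inv_hom_id_assoc, pullback.lift_snd]
  have h3 : (pullback.fst (pullback.fst a f ≫ b) f ≫ pullback.snd a f) ≫ f =
      pullback.snd (pullback.fst a f ≫ b) f ≫ f := by
    rw [← h1, ← h2, Category.assoc, Category.assoc, pullback.condition]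
  rw [Category.assoc, ← c₁, ← c₂] at h3
  exact (cancel_epi _).1 ((cancel_epi _).1 h3)


/-- S5214 -/
theorem uee_prodMap [HasPullbacks C] [HasBinaryProducts C] {X Y X' Y' : C} (u : X ⟶ Y)
    (u' : X' ⟶ Y') (hu : UEE u) (hu' : UEE u') : UEE (prod.map u u') := by
  have h1 : UEE (prod.map u (𝟙 X')) :=
    MorphismProperty.of_isPullback (P := UEE) (IsPullback.of_prod_fst_with_id u X') hu
  have h2 : UEE (prod.map u' (𝟙 Y)) :=
    MorphismProperty.of_isPullback (P := UEE) (IsPullback.of_prod_fst_with_id u' Y) hu'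
  have e : prod.map (𝟙 Y) u' =
      (prod.braiding Y X').hom ≫ prod.map u' (𝟙 Y) ≫ (prod.braiding Y' Y).hom := by
    ext
    · simp only [prod.braiding_hom, prod.map_fst, Category.comp_id, Category.assoc, prod.lift_fst,
        prod.map_snd, prod.lift_snd, prod.lift_fst_assoc, prod.lift_snd_assoc]
    · simp only [prod.braiding_hom, prod.map_fst, Category.comp_id, Category.assoc, prod.lift_fst,
        prod.map_snd, prod.lift_snd, prod.lift_fst_assoc, prod.lift_snd_assoc]
  have h3 : UEE (prod.map (𝟙 Y) u') := by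
    rw [e]
    exact (MorphismProperty.cancel_left_of_respectsIso UEE _ _).2
      ((MorphismProperty.cancel_right_of_respectsIso UEE _ _).2 h2)
  have e2 : prod.map u u' = prod.map u (𝟙 X') ≫ prod.map (𝟙 Y) u' := by simp
  rw [e2]
  exact uee_comp _ _ h3 h1


/-- general criterion: if `π` is a universal epi and every pair coequalized by `π ≫ g` is already
coequalized by `π`, then `g` is mono. -/
theorem mono_of_ue_of_coeq [HasPullbacks C] {X B Z : C} (π : X ⟶ B) (hπ : UE π) (g : B ⟶ Z)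
    (H : ∀ {W : C} (x y : W ⟶ X), x ≫ π ≫ g = y ≫ π ≫ g → x ≫ π = y ≫ π) : Mono g := by
  constructor
  intro W a b hab
  have hp₁ : Epi (pullback.fst a π) := hπ.epi_fst a
  have hp₂ : Epi (pullback.fst (pullback.fst a π ≫ b) π) := hπ.epi_fst _
  have c₁ : pullback.fst a π ≫ a = pullback.snd a π ≫ π := pullback.condition
  have c₂ : pullback.fst (pullback.fst a π ≫ b) π ≫ pullback.fst a π ≫ b =
      pullback.snd (pullback.fst a π ≫ b) π ≫ π := pullback.condition
  have hl : (pullback.fst (pullback.fst a π ≫ b) π ≫ pullback.snd a π) ≫ π ≫ g =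
      pullback.snd (pullback.fst a π ≫ b) π ≫ π ≫ g := by
    rw [Category.assoc, ← reassoc_of% c₁, hab, reassoc_of% c₂]
  have h3 := H _ _ hl
  rw [Category.assoc, ← c₁, ← c₂] at h3
  exact (cancel_epi _).1 ((cancel_epi _).1 h3)

/-- S5215 -/
theorem mono_iff_isKernelPair [HasPullbacks C] {R X Z : C} {p₁ p₂ : R ⟶ X}
    (e : UniversallyEffectiveEquivalenceRelation p₁ p₂) (f : X ⟶ Z) (g : e.B ⟶ Z)
    (hg : e.π ≫ g = f) : Mono g ↔ IsKernelPair f p₁ p₂ := by
  subst hg
  constructor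
  · intro h
    exact e.isKernelPair.comp_of_mono
  · intro h
    refine mono_of_ue_of_coeq e.π (uee_le_ue _ e.universally_effectiveEpi_π) g ?_
    intro W x y hxy
    have hxy' : x ≫ (e.π ≫ g) = y ≫ (e.π ≫ g) := hxy
    obtain ⟨l, hl⟩ : ∃ l, l = h.lift x y hxy' := ⟨_, rfl⟩
    have h1 : l ≫ p₁ = x := by rw [hl]; exact h.lift_fst _ _ _
    have h2 : l ≫ p₂ = y := by rw [hl]; exact h.lift_snd _ _ _
    rw [← h1, ← h2, Category.assoc, Category.assoc, e.isKernelPair.w]

end Groth.Agent.Lib.Helper3.UnivEffEpi
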