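import Mathlib.LinearAlgebra.TensorProduct.Vanishing
import Mathlib.Algebra.Colimit.TensorProduct
import Mathlib.RingTheory.TensorProduct.Finite
import Mathlib.Algebra.Module.FinitePresentation
import Mathlib.RingTheory.Flat.Basic

/-!
# Universally injective maps: reduction to finitely presented test modules and the
equational criterion
-/

namespace Groth.Agent.Lib.Helper3

open TensorProduct

universe u

variable {R : Type u} [CommRing R] {M N : Type u} [AddCommGroup M] [Module R M]
  [AddCommGroup N] [Module R N]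

/-- If `q` spans the module `Q`, every element of `Q ⊗ M` is `∑ q i ⊗ m i`. -/
theorem exists_sum_tmul_of_span {Q : Type*} [AddCommGroup Q] [Module R Q] {r : ℕ} (q : Fin r → Q)
    (hq : Submodule.span R (Set.range q) = ⊤) (x : Q ⊗[R] M) :
    ∃ m : Fin r → M, x = ∑ i, q i ⊗ₜ[R] m i := by
  induction x with
  | zero => exact ⟨0, by simp⟩
  | tmul a b =>
    have ha : a ∈ Submodule.span R (Set.range q) := by rw [hq]; trivial
    obtain ⟨c, rfl⟩ := (Submodule.mem_span_range_iff_exists_fun R).mp ha
    refine ⟨fun i => c i • b, ?_⟩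
    rw [TensorProduct.sum_tmul]
    refine Finset.sum_congr rfl fun i _ => ?_
    rw [TensorProduct.smul_tmul]
  | add x y hx hy =>
    obtain ⟨m, rfl⟩ := hx
    obtain ⟨m', rfl⟩ := hy
    refine ⟨m + m', ?_⟩
    simp [TensorProduct.tmul_add, Finset.sum_add_distrib]

/-- Core reduction: a tensor killed by `Q ⊗ f` is witnessed on a finitely generated submodule by
an explicit trivial vanishing. -/
theorem ui_core (f : M →ₗ[R] N) (Q : Type u) [AddCommGroup Q] [Module R Q] (x : Q ⊗[R] M)
    (hx : f.lTensor Q x = 0) :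
    ∃ (Q₁ : Submodule R Q) (r k : ℕ) (q : Fin r → Q₁) (m : Fin r → M) (a : Fin r → Fin k → R)
      (y : Fin k → N), x = Q₁.subtype.rTensor M (∑ i, q i ⊗ₜ[R] m i) ∧
        (∀ i, f (m i) = ∑ j, a i j • y j) ∧ (∀ j, ∑ i, a i j • q i = 0) := by
  obtain ⟨Q₀, hQ₀fg, x₀, rfl⟩ := Submodule.exists_fg_le_eq_rTensor_subtype x
  have h1 : Q₀.subtype.rTensor N (f.lTensor Q₀ x₀) = Q₀.subtype.rTensor N 0 := by
    rw [map_zero, ← hx, ← LinearMap.comp_apply, ← LinearMap.comp_apply,
      LinearMap.rTensor_comp_lTensor, LinearMap.lTensor_comp_rTensor]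
  obtain ⟨Q₁, hQ₁fg, hle, h2⟩ := hQ₀fg.exists_rTensor_fg_inclusion_eq h1
  rw [map_zero] at h2
  set x₁ := (Submodule.inclusion hle).rTensor M x₀ with hx₁def
  have hx₁ : f.lTensor Q₁ x₁ = 0 := by
    rw [← h2, hx₁def, ← LinearMap.comp_apply, ← LinearMap.comp_apply,
      LinearMap.rTensor_comp_lTensor, LinearMap.lTensor_comp_rTensor]
  have hxx : Q₀.subtype.rTensor M x₀ = Q₁.subtype.rTensor M x₁ := by
    rw [hx₁def, ← LinearMap.rTensor_comp_apply]
    rfl
  have : Module.Finite R Q₁ := Module.Finite.iff_fg.mpr hQ₁fg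
  obtain ⟨r, q, hq⟩ := Module.Finite.exists_fin (R := R) (M := Q₁)
  obtain ⟨m, hm⟩ := exists_sum_tmul_of_span (M := M) q hq x₁
  have hvan : ∑ i, q i ⊗ₜ[R] (f (m i)) = 0 := by
    rw [← hx₁, hm, map_sum]
    simp
  obtain ⟨k, a, y, h3, h4⟩ := TensorProduct.vanishesTrivially_of_sum_tmul_eq_zero R hq hvan
  exact ⟨Q₁, r, k, q, m, a, y, by rw [hxx, hm], h3, h4⟩

/-- The equational condition for universal injectivity. -/
def Equational (f : M →ₗ[R] N) : Prop :=
  ∀ (n m : ℕ) (x : Fin n → M) (y : Fin m → N) (a : Fin n → Fin m → R),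
    (∀ i, f (x i) = ∑ j, a i j • y j) → ∃ z : Fin m → M, ∀ i, x i = ∑ j, a i j • z j

/-- The equational condition implies injectivity after tensoring with any module. -/
theorem lTensor_injective_of_equational (f : M →ₗ[R] N) (hE : Equational f)
    (Q : Type u) [AddCommGroup Q] [Module R Q] : Function.Injective (f.lTensor Q) := by
  rw [injective_iff_map_eq_zero]
  intro x hx
  obtain ⟨Q₁, r, k, q, m, a, y, rfl, h1, h2⟩ := ui_core f Q x hx
  obtain ⟨z, hz⟩ := hE r k m y a h1
  have : ∑ i, q i ⊗ₜ[R] m i = 0 :=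
    TensorProduct.sum_tmul_eq_zero_of_vanishesTrivially R ⟨k, a, z, hz, h2⟩
  rw [this, map_zero]

/-- Injectivity after tensoring with finitely presented modules gives the equational condition. -/
theorem equational_of_fp (f : M →ₗ[R] N)
    (hfp : ∀ (Q : Type u) [AddCommGroup Q] [Module R Q], Module.FinitePresentation R Q →
      Function.Injective (f.lTensor Q)) : Equational f := by
  intro n m x y a hxy
  classical
  let cols : Fin m → (Fin n → R) := fun j i => a i j
  let K : Submodule R (Fin n → R) := Submodule.span R (Set.range cols)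
  let e : Fin n → ((Fin n → R) ⧸ K) := fun i => K.mkQ (Pi.single i 1)
  have hQfp : Module.FinitePresentation R ((Fin n → R) ⧸ K) := by
    apply Module.finitePresentation_of_free_of_surjective K.mkQ (Submodule.mkQ_surjective K)
    rw [Submodule.ker_mkQ]
    exact Submodule.fg_span (Set.finite_range cols)
  have hsum : ∀ c : Fin n → R, ∑ i, c i • e i = K.mkQ c := by
    intro c
    simp only [e, ← map_smul, ← map_sum]
    congr 1
    ext i
    simp [Finset.sum_apply, Pi.single_apply]
  have hcol : ∀ j, ∑ i, a i j • e i = 0 := by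
    intro j
    rw [hsum (fun i => a i j)]
    exact (Submodule.Quotient.mk_eq_zero K).mpr (Submodule.subset_span ⟨j, rfl⟩)
  have hvan : ∑ i, e i ⊗ₜ[R] f (x i) = 0 :=
    TensorProduct.sum_tmul_eq_zero_of_vanishesTrivially R ⟨m, a, y, hxy, hcol⟩
  have hvan' : ∑ i, e i ⊗ₜ[R] x i = 0 := by
    apply hfp _ hQfp
    rw [map_zero, map_sum]
    simpa using hvan
  have hespan : Submodule.span R (Set.range e) = ⊤ := by
    rw [eq_top_iff]
    rintro z -
    obtain ⟨c, rfl⟩ := Submodule.mkQ_surjective K z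
    rw [← hsum c]
    exact Submodule.sum_mem _ fun i _ => Submodule.smul_mem _ _ (Submodule.subset_span ⟨i, rfl⟩)
  obtain ⟨k, b, w, hb1, hb2⟩ := TensorProduct.vanishesTrivially_of_sum_tmul_eq_zero R hespan hvan'
  have hbK : ∀ l, (fun i => b i l) ∈ K := by
    intro l
    have := hb2 l
    rw [hsum (fun i => b i l)] at this
    exact (Submodule.Quotient.mk_eq_zero K).mp this
  have hd : ∀ l, ∃ d : Fin m → R, ∑ j, d j • cols j = fun i => b i l := fun l =>
    (Submodule.mem_span_range_iff_exists_fun R).mp (hbK l)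
  choose d hd using hd
  have hb : ∀ i l, b i l = ∑ j, d l j * a i j := by
    intro i l
    have := congrFun (hd l) i
    simp only [Finset.sum_apply, Pi.smul_apply, smul_eq_mul, cols] at this
    exact this.symm
  refine ⟨fun j => ∑ l, d l j • w l, fun i => ?_⟩
  rw [hb1 i]
  simp_rw [hb, Finset.sum_smul, Finset.smul_sum, smul_smul]
  rw [Finset.sum_comm]
  refine Finset.sum_congr rfl fun j _ => Finset.sum_congr rfl fun l _ => ?_
  rw [mul_comm]

end Groth.Agent.Lib.Helper3
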