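import Groth.Agent.Lib.Helper3.VAChart
import Groth.Agent.Lib.Helper3.QProj

/-!
# Composition of chart immersions (Segre-type arguments)
-/

set_option autoImplicit false
set_option linter.unusedSectionVars false
universe u
open CategoryTheory CategoryTheory.Limits AlgebraicGeometry TopologicalSpace Opposite
open Scheme.Modules

namespace Groth.Agent.Lib.Helper3.VAComp

open QCSec InvGen InvTensor InvTwist InvMonoidal InvCoh InvAmple SecCoord ProjOfSec ProjUniq VACore
  VASegre GlobGen VAMain VAConv ProjFrac ToProj TwistProj ProjPullGen VAChart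

section Cat

/-- cancellation: `Φ : Z ⟶ B` is an immersion as soon as `(Φ, v) : Z ⟶ B ×_S Y` is one, `v`
factors through an open `Y'` of `Y` admitting an immersion `e` into `C` over `S`, and `e ∘ a`
factors through `Φ` -/
theorem isImmersion_of_graph {Z B Y S C Y' : Scheme.{u}} (b : B ⟶ S) (g : Y ⟶ S) (rC : C ⟶ S)
    (Φ : Z ⟶ B) (v : Z ⟶ Y) (hv : Φ ≫ b = v ≫ g) (hc : IsImmersion (pullback.lift Φ v hv))
    (j' : Y' ⟶ Y) (a : Z ⟶ Y') (ha : a ≫ j' = v)
    (e : Y' ⟶ C) [IsImmersion e] (he : j' ≫ g = e ≫ rC)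
    (π : B ⟶ C) (hπ : π ≫ rC = b) (hΦ : Φ ≫ π = a ≫ e) : IsImmersion Φ := by
  let Γ : B ⟶ pullback b rC := pullback.lift (𝟙 B) π (by rw [Category.id_comp, hπ])
  have hva : Φ ≫ b = a ≫ j' ≫ g := by rw [hv, ← ha, Category.assoc]
  let s1 : Z ⟶ pullback b (j' ≫ g) := pullback.lift Φ a hva
  let o : pullback b (j' ≫ g) ⟶ pullback b g :=
    pullback.map b (j' ≫ g) b g (𝟙 B) j' (𝟙 S) (by simp) (by simp)
  have h1 : s1 ≫ o = pullback.lift Φ v hv := by
    apply pullback.hom_ext
    · rw [Category.assoc, pullback.lift_fst, pullback.lift_fst_assoc, pullback.lift_fst,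
        Category.comp_id]
    · rw [Category.assoc, pullback.lift_snd, pullback.lift_snd_assoc, pullback.lift_snd, ha]
  haveI : IsImmersion (s1 ≫ o) := by rw [h1]; exact hc
  haveI : IsImmersion s1 := IsImmersion.of_comp s1 o
  let E : pullback b (j' ≫ g) ⟶ pullback b rC :=
    pullback.map b (j' ≫ g) b rC (𝟙 B) e (𝟙 S)
      ((Category.comp_id _).trans (Category.id_comp b).symm) ((Category.comp_id _).trans he)
  haveI : IsImmersion E :=
    MorphismProperty.pullbackMap (P := @IsImmersion) (f := b) (g := j' ≫ g) (f' := b) (g' := rC)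
      (i₁ := 𝟙 B) (i₂ := e) inferInstance inferInstance (Category.id_comp b).symm he
  have h2 : s1 ≫ E = Φ ≫ Γ := by
    apply pullback.hom_ext
    · rw [Category.assoc, pullback.lift_fst, pullback.lift_fst_assoc, Category.assoc,
        pullback.lift_fst, Category.comp_id]
    · rw [Category.assoc, pullback.lift_snd, pullback.lift_snd_assoc, Category.assoc,
        pullback.lift_snd, hΦ]
  haveI : IsImmersion (Φ ≫ Γ) := by rw [← h2]; infer_instance
  exact IsImmersion.of_comp Φ Γ

/-- `(W ×_ℤ S) ×_S Y ≅ W ×_ℤ Y` -/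
theorem isIso_pbLift {W T S Y : Scheme.{u}} (w : W ⟶ T) (s : S ⟶ T) (y : Y ⟶ T) (g : Y ⟶ S)
    (hg : g ≫ s = y) :
    IsIso (pullback.lift (pullback.fst (pullback.snd w s) g ≫ pullback.fst w s)
      (pullback.snd (pullback.snd w s) g)
      (by rw [Category.assoc, pullback.condition, ← Category.assoc, pullback.condition,
        Category.assoc, hg]) :
      pullback (pullback.snd w s) g ⟶ pullback w y) := by
  refine ⟨⟨pullback.lift (pullback.lift (pullback.fst w y) (pullback.snd w y ≫ g)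
    (by rw [Category.assoc, hg, pullback.condition])) (pullback.snd w y)
    (by rw [pullback.lift_snd]), ?_, ?_⟩⟩
  · apply pullback.hom_ext
    · apply pullback.hom_ext
      · simp only [Category.assoc, pullback.lift_fst, pullback.lift_snd, pullback.lift_fst_assoc,
          pullback.lift_snd_assoc, Category.id_comp]
      · simp only [Category.assoc, pullback.lift_fst, pullback.lift_snd, pullback.lift_fst_assoc,
          pullback.lift_snd_assoc, Category.id_comp, pullback.condition]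
    · simp only [Category.assoc, pullback.lift_fst, pullback.lift_snd, pullback.lift_fst_assoc,
        pullback.lift_snd_assoc, Category.id_comp]
  · apply pullback.hom_ext
    · simp only [Category.assoc, pullback.lift_fst, pullback.lift_snd, pullback.lift_fst_assoc,
        pullback.lift_snd_assoc, Category.id_comp]
    · simp only [Category.assoc, pullback.lift_fst, pullback.lift_snd, pullback.lift_fst_assoc,
        pullback.lift_snd_assoc, Category.id_comp]

end Cat

section Coord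

variable {X S : Scheme.{u}} (n : ℕ)

theorem hXv (j : Fin (n + 1)) : (MvPolynomial.X j : MvPolynomial (Fin (n + 1)) (ULift.{u} ℤ)) ∈
    CohB1.polyGrading n (ULift.{u} ℤ) 1 := MvPolynomial.isHomogeneous_X _ j

/-- the coordinate sections of the pullback of `O(1)` along a morphism to projective space -/
noncomputable def coordSec (r : X ⟶ CohB1.ProjSpace n (ULift.{u} ℤ)) {N : X.Modules}
    (τ : (Scheme.Modules.pullback r).obj
      (Twist.twist (CohB1.polyGrading n (ULift.{u} ℤ)) ((1 : ℕ) : ℤ)) ≅ N)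
    (k : ULift.{u} (Fin (n + 1))) : Γ(N, ⊤) :=
  τ.hom.app ⊤ (gpull r (Twist.twist (CohB1.polyGrading n (ULift.{u} ℤ)) ((1 : ℕ) : ℤ))
    (gsec (⟨MvPolynomial.X k.down, hXv n _⟩ : CohB1.polyGrading n (ULift.{u} ℤ) 1)))

theorem locus_coordSec (r : X ⟶ CohB1.ProjSpace n (ULift.{u} ℤ)) {N : X.Modules}
    (τ : (Scheme.Modules.pullback r).obj
      (Twist.twist (CohB1.polyGrading n (ULift.{u} ℤ)) ((1 : ℕ) : ℤ)) ≅ N)
    (k : ULift.{u} (Fin (n + 1))) :
    r ⁻¹ᵁ Dk n (ULift.down : ULift.{u} (Fin (n + 1)) → Fin (n + 1)) k =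
      locus N (coordSec n r τ k) :=
  preimage_basicOpen_eq_locus r (hasUnitFrac_projSpace _ n) τ (hXv n _) rfl

theorem ratio_coordSec (r : X ⟶ CohB1.ProjSpace n (ULift.{u} ℤ)) {N : X.Modules}
    (τ : (Scheme.Modules.pullback r).obj
      (Twist.twist (CohB1.polyGrading n (ULift.{u} ℤ)) ((1 : ℕ) : ℤ)) ≅ N)
    (k k' : ULift.{u} (Fin (n + 1)))
    (e : locus N (coordSec n r τ k) ≤
      r ⁻¹ᵁ Dk n (ULift.down : ULift.{u} (Fin (n + 1)) → Fin (n + 1)) k) :
    r.appLE (Dk n (ULift.down : ULift.{u} (Fin (n + 1)) → Fin (n + 1)) k)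
        (locus N (coordSec n r τ k)) e
      (fn (Dk n (ULift.down : ULift.{u} (Fin (n + 1)) → Fin (n + 1)) k)
        (MvPolynomial.X k'.down : MvPolynomial (Fin (n + 1)) (ULift.{u} ℤ))
        (MvPolynomial.X k.down)) =
      ratio N (coordSec n r τ k) (coordSec n r τ k') :=
  appLE_fn_eq_ratio r τ (hXv n _) (hXv n _) rfl rfl e

theorem exists_mem_locus_coordSec (r : X ⟶ CohB1.ProjSpace n (ULift.{u} ℤ)) {N : X.Modules}
    (τ : (Scheme.Modules.pullback r).obj
      (Twist.twist (CohB1.polyGrading n (ULift.{u} ℤ)) ((1 : ℕ) : ℤ)) ≅ N) (x : X) :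
    ∃ k, x ∈ locus N (coordSec n r τ k) := by
  obtain ⟨j, hj⟩ := exists_mem_basicOpen_X (ULift.{u} ℤ) n (r x)
  exact ⟨⟨j⟩, by rw [← locus_coordSec]; exact hj⟩

/-- the charts of an immersion into projective space over `S` are immersions -/
theorem isImmersion_chart_coordSec (f : X ⟶ S)
    (i : X ⟶ pullback (CohB1.ProjSpace.toSpec n (ULift.{u} ℤ)) (specULiftZIsTerminal.from S))
    [IsImmersion i] (hf : i ≫ pullback.snd _ _ = f)
    (r : X ⟶ CohB1.ProjSpace n (ULift.{u} ℤ)) (hr : i ≫ pullback.fst _ _ = r) {N : X.Modules}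
    (τ : (Scheme.Modules.pullback r).obj
      (Twist.twist (CohB1.polyGrading n (ULift.{u} ℤ)) ((1 : ℕ) : ℤ)) ≅ N)
    (k : ULift.{u} (Fin (n + 1))) : IsImmersion (chart f N (coordSec n r τ) k) := by
  subst hr
  let idx : ULift.{u} (Fin (n + 1)) → Fin (n + 1) := ULift.down
  let r := i ≫ pullback.fst (CohB1.ProjSpace.toSpec n (ULift.{u} ℤ)) (specULiftZIsTerminal.from S)
  have hD : ∀ k, r ⁻¹ᵁ Dk n idx k = locus N (coordSec n r τ k) := fun k =>
    locus_coordSec n r τ k
  have hUW : locus N (coordSec n r τ k) ≤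
      i ⁻¹ᵁ ((pullback.fst (CohB1.ProjSpace.toSpec n (ULift.{u} ℤ))
      (specULiftZIsTerminal.from S)) ⁻¹ᵁ Dk n idx k) := (hD k).ge
  have e' : locus N (coordSec n r τ k) ≤
      (i ≫ pullback.fst (CohB1.ProjSpace.toSpec n (ULift.{u} ℤ))
      (specULiftZIsTerminal.from S)) ⁻¹ᵁ Dk n idx k := (hD k).ge
  have key : i.resLE _ _ hUW ≫ rho n idx k S = chart f N (coordSec n r τ) k := by
    rw [resLE_rho n idx k i _ hUW e']
    refine eq_chart f N (coordSec n r τ) k _ _ (pullback.lift_fst _ _ _) ?_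
      ((pullback.lift_snd _ _ _).trans (congrArg (fun g => (locus N (coordSec n r τ k)).ι ≫ g) hf))
    intro k'
    rw [RingHom.comp_apply, psiD_X]
    exact ratio_coordSec n r τ k k' e'
  rw [← key]
  haveI := isClosedImmersion_rho n idx (fun j => ⟨⟨j⟩, rfl⟩) k S
  infer_instance

end Coord

section Tensor

variable {X S : Scheme.{u}}

/-- the core of the Segre argument: charts of `N ⊗ P` refine those of `N` -/
theorem isImmersion_chart_tensor (f : X ⟶ S) {N P : X.Modules} (hN : PicF.IsInvertible N)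
    (hP : PicF.IsInvertible P) {κ J : Type u} (t : κ → Γ(N, ⊤)) (u : J → Γ(P, ⊤)) (k : κ) (j : J)
    [IsImmersion (chart f N t k)] :
    IsImmersion (chart f (CohB1.tensorMod N P)
      (fun p : κ × J => tm N P ⊤ (t p.1) (u p.2)) (k, j)) := by
  have hloc := locus_tm hN hP (t k) (u j)
  have hDa : locus (CohB1.tensorMod N P) (tm N P ⊤ (t k) (u j)) ≤ locus N (t k) :=
    hloc.le.trans inf_le_left
  have hDb : locus (CohB1.tensorMod N P) (tm N P ⊤ (t k) (u j)) ≤ locus P (u j) :=
    hloc.le.trans inf_le_right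
  let θ : MvPolynomial κ (ULift.{u} ℤ) →+* MvPolynomial (κ × J) (ULift.{u} ℤ) :=
    (MvPolynomial.rename (fun k' : κ => (k', j))).toRingHom
  let pr : pullback (affTo (κ × J)) (specULiftZIsTerminal.from S) ⟶
      pullback (affTo κ) (specULiftZIsTerminal.from S) :=
    pullback.lift (pullback.fst _ _ ≫ Spec.map (CommRingCat.ofHom θ)) (pullback.snd _ _)
      (specULiftZIsTerminal.hom_ext _ _)
  have key : chart f (CohB1.tensorMod N P) (fun p : κ × J => tm N P ⊤ (t p.1) (u p.2)) (k, j) ≫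
      pr = X.homOfLE hDa ≫ chart f N t k := by
    apply pullback.hom_ext
    · simp only [Category.assoc]
      rw [pullback.lift_fst]
      unfold chart
      rw [pullback.lift_fst, pullback.lift_fst_assoc, toSpecOfHom_specMap, homOfLE_toSpecOfHom]
      congr 1
      apply MvPolynomial.ringHom_ext
      · intro c
        exact congrArg (fun φ => φ c) (ulift_int_hom_ext
          (((chartHom (CohB1.tensorMod N P) (fun p : κ × J => tm N P ⊤ (t p.1) (u p.2))
            (k, j)).comp θ).comp MvPolynomial.C)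
          (((rresHom X hDa).comp (chartHom N t k)).comp MvPolynomial.C))
      · intro k'
        rw [RingHom.comp_apply, RingHom.comp_apply]
        change chartHom (CohB1.tensorMod N P) (fun p : κ × J => tm N P ⊤ (t p.1) (u p.2)) (k, j)
          (MvPolynomial.rename (fun k' : κ => (k', j)) (MvPolynomial.X k')) = _
        rw [MvPolynomial.rename_X]
        unfold chartHom
        rw [MvPolynomial.eval₂Hom_X', MvPolynomial.eval₂Hom_X', ratio_tm _ _ _ _ hDa hDb,
          ratio_self, rres_one, mul_one]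
        rfl
    · simp only [Category.assoc]
      rw [pullback.lift_snd]
      unfold chart
      rw [pullback.lift_snd, pullback.lift_snd, Scheme.homOfLE_ι_assoc]
  haveI : IsImmersion (chart f (CohB1.tensorMod N P)
      (fun p : κ × J => tm N P ⊤ (t p.1) (u p.2)) (k, j) ≫ pr) := by
    rw [key]
    infer_instance
  exact IsImmersion.of_comp _ pr

end Tensor

section Comp

variable {X Y S : Scheme.{u}}

/-- composition lemma: if the chart of `X` over `Y` at `t ℓ` is an immersion, the locus of `t ℓ`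
lies over the locus of `y j`, the chart of `Y` over `S` at `y j` is an immersion and its coordinates
are among those of `X`, then the chart of `X` over `S` is an immersion -/
theorem isImmersion_chart_comp (q : X ⟶ Y) (g : Y ⟶ S) {L : X.Modules} {M : Y.Modules}
    {Λ J : Type u} (t : Λ → Γ(L, ⊤)) (y : J → Γ(M, ⊤)) (ℓ : Λ) (j : J) (σ : J → Λ)
    (hle : locus L (t ℓ) ≤ q ⁻¹ᵁ locus M (y j))
    (hratio : ∀ j', ratio L (t ℓ) (t (σ j')) = (q.appLE _ _ hle).hom (ratio M (y j) (y j')))
    [IsImmersion (chart q L t ℓ)] [IsImmersion (chart g M y j)] :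
    IsImmersion (chart (q ≫ g) L t ℓ) := by
  let b : pullback (affTo Λ) (specULiftZIsTerminal.from S) ⟶ S := pullback.snd _ _
  let rC : pullback (affTo J) (specULiftZIsTerminal.from S) ⟶ S := pullback.snd _ _
  let Φ := chart (q ≫ g) L t ℓ
  let v : (locus L (t ℓ)).toScheme ⟶ Y := (locus L (t ℓ)).ι ≫ q
  have hv : Φ ≫ b = v ≫ g := by
    change chart (q ≫ g) L t ℓ ≫ pullback.snd _ _ = ((locus L (t ℓ)).ι ≫ q) ≫ g
    unfold chart
    rw [pullback.lift_snd, Category.assoc]
  have hgS : g ≫ specULiftZIsTerminal.from S = specULiftZIsTerminal.from Y :=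
    specULiftZIsTerminal.hom_ext _ _
  let ζ : pullback b g ⟶ pullback (affTo Λ) (specULiftZIsTerminal.from Y) :=
    pullback.lift (pullback.fst b g ≫ pullback.fst (affTo Λ) (specULiftZIsTerminal.from S))
      (pullback.snd b g) (specULiftZIsTerminal.hom_ext _ _)
  haveI : IsIso ζ := isIso_pbLift (affTo Λ) (specULiftZIsTerminal.from S)
    (specULiftZIsTerminal.from Y) g hgS
  have hc : IsImmersion (pullback.lift Φ v hv) := by
    have h1 : pullback.lift Φ v hv ≫ ζ = chart q L t ℓ := by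
      apply pullback.hom_ext
      · rw [Category.assoc, pullback.lift_fst, pullback.lift_fst_assoc]
        change chart (q ≫ g) L t ℓ ≫ pullback.fst _ _ = chart q L t ℓ ≫ pullback.fst _ _
        unfold chart
        rw [pullback.lift_fst, pullback.lift_fst]
      · rw [Category.assoc, pullback.lift_snd, pullback.lift_snd]
        unfold chart
        rw [pullback.lift_snd]
    haveI : IsImmersion (pullback.lift Φ v hv ≫ ζ) := by rw [h1]; infer_instance
    exact IsImmersion.of_comp _ ζ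
  let θ : MvPolynomial J (ULift.{u} ℤ) →+* MvPolynomial Λ (ULift.{u} ℤ) :=
    (MvPolynomial.rename σ).toRingHom
  let π : pullback (affTo Λ) (specULiftZIsTerminal.from S) ⟶
      pullback (affTo J) (specULiftZIsTerminal.from S) :=
    pullback.lift (pullback.fst _ _ ≫ Spec.map (CommRingCat.ofHom θ)) (pullback.snd _ _)
      (specULiftZIsTerminal.hom_ext _ _)
  have hπ : π ≫ rC = b := pullback.lift_snd _ _ _
  have he : (locus M (y j)).ι ≫ g = chart g M y j ≫ rC := by
    change _ = chart g M y j ≫ pullback.snd _ _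
    unfold chart
    rw [pullback.lift_snd]
  have ha : q.resLE _ _ hle ≫ (locus M (y j)).ι = v := Scheme.Hom.resLE_comp_ι _ _
  have hΦ : Φ ≫ π = q.resLE _ _ hle ≫ chart g M y j := by
    apply pullback.hom_ext
    · rw [Category.assoc, pullback.lift_fst, Category.assoc]
      change chart (q ≫ g) L t ℓ ≫ pullback.fst _ _ ≫ _ = _
      unfold chart
      rw [pullback.lift_fst_assoc, pullback.lift_fst, toSpecOfHom_specMap, resLE_toSpecOfHom]
      congr 1
      apply MvPolynomial.ringHom_ext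
      · intro c
        exact congrArg (fun φ => φ c) (ulift_int_hom_ext
          (((chartHom L t ℓ).comp θ).comp MvPolynomial.C)
          (((q.appLE _ _ hle).hom.comp (chartHom M y j)).comp MvPolynomial.C))
      · intro j'
        rw [RingHom.comp_apply, RingHom.comp_apply]
        change chartHom L t ℓ (MvPolynomial.rename σ (MvPolynomial.X j')) = _
        rw [MvPolynomial.rename_X]
        unfold chartHom
        rw [MvPolynomial.eval₂Hom_X', MvPolynomial.eval₂Hom_X']
        exact hratio j'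
    · rw [Category.assoc, pullback.lift_snd, Category.assoc]
      change chart (q ≫ g) L t ℓ ≫ pullback.snd _ _ = _
      unfold chart
      rw [pullback.lift_snd, pullback.lift_snd, Scheme.Hom.resLE_comp_ι_assoc]
  exact isImmersion_of_graph b g rC Φ v hv hc (locus M (y j)).ι (q.resLE _ _ hle) ha
    (chart g M y j) he π hπ hΦ

end Comp

section ToPn

variable {X S : Scheme.{u}}

/-- sections indexed by `κ ≃ Fin (c + 1)` whose loci cover and whose charts are immersions define
an immersion into `P^c_S` -/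
theorem exists_immersion_of_charts (f : X ⟶ S) {N : X.Modules} {κ : Type u}
    (t : κ → Γ(N, ⊤)) (c : ℕ) (e : κ ≃ Fin (c + 1))
    (hcov : ∀ x : X, ∃ k, x ∈ locus N (t k)) (hK : ∀ k, IsImmersion (chart f N t k)) :
    ∃ i : X ⟶ pullback (CohB1.ProjSpace.toSpec c (ULift.{u} ℤ)) (specULiftZIsTerminal.from S),
      IsImmersion i ∧ i ≫ pullback.snd _ _ = f ∧
      Nonempty (N ≅ (Scheme.Modules.pullback i).obj (Twist.twistOver c S 1)) := by
  classical
  let s : Fin (c + 1) → Γ(N, ⊤) := fun j => t (e.symm j)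
  have hs : ∀ k, s (e k) = t k := fun k => by
    simp only [s, Equiv.symm_apply_apply]
  have hcov' : ∀ x : X, ∃ i, x ∈ locus N (s i) := fun x => by
    obtain ⟨k, hk⟩ := hcov x
    exact ⟨e k, by rw [hs]; exact hk⟩
  obtain ⟨r, hr, τ, hτ⟩ := exists_hom_projSpace (R := ULift.{u} ℤ) c
    (specULiftZIsTerminal.from X) N s hcov'
  let i : X ⟶ pullback (CohB1.ProjSpace.toSpec c (ULift.{u} ℤ)) (specULiftZIsTerminal.from S) :=
    pullback.lift r f (specULiftZIsTerminal.hom_ext _ _)
  have hi1 : i ≫ pullback.fst (CohB1.ProjSpace.toSpec c (ULift.{u} ℤ))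
      (specULiftZIsTerminal.from S) = r := pullback.lift_fst _ _ _
  have hi2 : i ≫ pullback.snd (CohB1.ProjSpace.toSpec c (ULift.{u} ℤ))
      (specULiftZIsTerminal.from S) = f := pullback.lift_snd _ _ _
  refine ⟨i, ?_, hi2, ⟨?_⟩⟩
  · let idx : κ → Fin (c + 1) := fun k => e k
    have hXv : ∀ j : Fin (c + 1), (MvPolynomial.X j : MvPolynomial (Fin (c + 1)) (ULift.{u} ℤ)) ∈
        CohB1.polyGrading c (ULift.{u} ℤ) 1 := fun j => MvPolynomial.isHomogeneous_X _ j
    have hD : ∀ k : κ, r ⁻¹ᵁ Dk c idx k = locus N (t k) := fun k =>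
      preimage_basicOpen_eq_locus r (hasUnitFrac_projSpace _ c) τ (hXv _)
        ((hτ _).trans (hs k))
    have hUW : ∀ k : κ, locus N (t k) =
        i ⁻¹ᵁ ((pullback.fst (CohB1.ProjSpace.toSpec c (ULift.{u} ℤ))
          (specULiftZIsTerminal.from S)) ⁻¹ᵁ Dk c idx k) := by
      intro k
      rw [← Scheme.Hom.comp_preimage, hi1, hD]
    refine isImmersion_of_cover' i
      (fun k : κ => (pullback.fst (CohB1.ProjSpace.toSpec c (ULift.{u} ℤ))
        (specULiftZIsTerminal.from S)) ⁻¹ᵁ Dk c idx k)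
      (fun k => locus N (t k)) hUW (fun k => ?_) hcov
    haveI : IsImmersion (chart f N t k) := hK k
    have e' : locus N (t k) ≤ (i ≫ pullback.fst (CohB1.ProjSpace.toSpec c (ULift.{u} ℤ))
        (specULiftZIsTerminal.from S)) ⁻¹ᵁ Dk c idx k := (hUW k).le
    have key : i.resLE _ _ (hUW k).le ≫ rho c idx k S = chart f N t k := by
      rw [resLE_rho c idx k i _ _ e']
      refine eq_chart f N t k _ _ (pullback.lift_fst _ _ _) ?_
        ((pullback.lift_snd _ _ _).trans (by rw [hi2]))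
      intro k'
      rw [RingHom.comp_apply, psiD_X]
      have h3 := appLE_congr_hom hi1 (Dk c idx k) (locus N (t k)) e' (hD k).ge
      refine (congrArg (fun φ => φ.hom (fn (Dk c idx k) (MvPolynomial.X (idx k'))
        (MvPolynomial.X (idx k)))) h3).trans ?_
      exact appLE_fn_eq_ratio r τ (hXv _) (hXv _) ((hτ _).trans (hs k))
        ((hτ _).trans (hs k')) _
    haveI : IsImmersion (i.resLE _ _ (hUW k).le ≫ rho c idx k S) := by
      rw [key]
      infer_instance
    exact IsImmersion.of_comp _ (rho c idx k S)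
  · exact τ.symm ≪≫ ((pullbackCongr hi1).app _).symm ≪≫
      ((pullbackComp i (pullback.fst (CohB1.ProjSpace.toSpec c (ULift.{u} ℤ))
        (specULiftZIsTerminal.from S))).app _).symm

end ToPn

section Segre

variable {X Y S : Scheme.{u}}

/-- the index equivalence of the Segre embedding -/
def segreEquiv (n m : ℕ) :
    ULift.{u} (Fin (n + 1)) × ULift.{u} (Fin (m + 1)) ≃ Fin (n * m + n + m + 1) :=
  (Equiv.prodCongr Equiv.ulift Equiv.ulift).trans
    (finProdFinEquiv.trans (finCongr (by ring)))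

/-- Segre: an immersion of `X` into `P^n_Y` and an immersion of `Y` into `P^m_S` give an
immersion of `X` into `P^{nm+n+m}_S` over `S` -/
theorem exists_immersion_comp (q : X ⟶ Y) (g : Y ⟶ S) (n m : ℕ)
    (i₁ : X ⟶ pullback (CohB1.ProjSpace.toSpec n (ULift.{u} ℤ)) (specULiftZIsTerminal.from Y))
    [IsImmersion i₁] (h₁ : i₁ ≫ pullback.snd _ _ = q)
    (i₂ : Y ⟶ pullback (CohB1.ProjSpace.toSpec m (ULift.{u} ℤ)) (specULiftZIsTerminal.from S))
    [IsImmersion i₂] (h₂ : i₂ ≫ pullback.snd _ _ = g) :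
    ∃ φ : X ⟶ pullback (CohB1.ProjSpace.toSpec (n * m + n + m) (ULift.{u} ℤ))
        (specULiftZIsTerminal.from S),
      IsImmersion φ ∧ φ ≫ pullback.snd _ _ = q ≫ g := by
  let r₁ : X ⟶ CohB1.ProjSpace n (ULift.{u} ℤ) := i₁ ≫ pullback.fst _ _
  let rY : Y ⟶ CohB1.ProjSpace m (ULift.{u} ℤ) := i₂ ≫ pullback.fst _ _
  let r₂ : X ⟶ CohB1.ProjSpace m (ULift.{u} ℤ) := q ≫ rY
  let N₁ : X.Modules := (Scheme.Modules.pullback r₁).obj
    (Twist.twist (CohB1.polyGrading n (ULift.{u} ℤ)) ((1 : ℕ) : ℤ))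
  let N₂ : X.Modules := (Scheme.Modules.pullback r₂).obj
    (Twist.twist (CohB1.polyGrading m (ULift.{u} ℤ)) ((1 : ℕ) : ℤ))
  let M : Y.Modules := (Scheme.Modules.pullback rY).obj
    (Twist.twist (CohB1.polyGrading m (ULift.{u} ℤ)) ((1 : ℕ) : ℤ))
  have hN₁ : PicF.IsInvertible N₁ :=
    PbBasic.isInvertible_pullback r₁ (isAmple_twist_projSpace (ULift.{u} ℤ) n).1
  have hN₂ : PicF.IsInvertible N₂ :=
    PbBasic.isInvertible_pullback r₂ (isAmple_twist_projSpace (ULift.{u} ℤ) m).1
  let t₁ : ULift.{u} (Fin (n + 1)) → Γ(N₁, ⊤) := coordSec n r₁ (Iso.refl N₁)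
  let u : ULift.{u} (Fin (m + 1)) → Γ(N₂, ⊤) := coordSec m r₂ (Iso.refl N₂)
  let y : ULift.{u} (Fin (m + 1)) → Γ(M, ⊤) := coordSec m rY (Iso.refl M)
  let tt : ULift.{u} (Fin (n + 1)) × ULift.{u} (Fin (m + 1)) → Γ(CohB1.tensorMod N₁ N₂, ⊤) :=
    fun p => tm N₁ N₂ ⊤ (t₁ p.1) (u p.2)
  have ha : ∀ k, IsImmersion (chart q N₁ t₁ k) := fun k =>
    isImmersion_chart_coordSec n q i₁ h₁ r₁ rfl (Iso.refl N₁) k
  have hb : ∀ j, IsImmersion (chart g M y j) := fun j =>
    isImmersion_chart_coordSec m g i₂ h₂ rY rfl (Iso.refl M) j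
  have hc : ∀ k j, IsImmersion (chart q (CohB1.tensorMod N₁ N₂) tt (k, j)) := fun k j => by
    haveI := ha k
    exact isImmersion_chart_tensor q hN₁ hN₂ t₁ u k j
  have hd : ∀ p, IsImmersion (chart (q ≫ g) (CohB1.tensorMod N₁ N₂) tt p) := by
    rintro ⟨k, j⟩
    haveI := hc k j
    haveI := hb j
    have hloc := locus_tm hN₁ hN₂ (t₁ k) (u j)
    have hDa : locus (CohB1.tensorMod N₁ N₂) (tt (k, j)) ≤ locus N₁ (t₁ k) :=
      hloc.le.trans inf_le_left
    have hDb : locus (CohB1.tensorMod N₁ N₂) (tt (k, j)) ≤ locus N₂ (u j) :=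
      hloc.le.trans inf_le_right
    have hq : q ⁻¹ᵁ locus M (y j) = locus N₂ (u j) := by
      rw [← locus_coordSec m rY (Iso.refl M) j, ← Scheme.Hom.comp_preimage]
      exact locus_coordSec m r₂ (Iso.refl N₂) j
    have hle : locus (CohB1.tensorMod N₁ N₂) (tt (k, j)) ≤ q ⁻¹ᵁ locus M (y j) := by
      rw [hq]; exact hDb
    refine isImmersion_chart_comp q g tt y (k, j) j (fun j' => (k, j')) hle (fun j' => ?_)
    have e1 : ratio (CohB1.tensorMod N₁ N₂) (tt (k, j)) (tt (k, j')) =
        rres X hDb (ratio N₂ (u j) (u j')) := by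
      change ratio (CohB1.tensorMod N₁ N₂) (tm N₁ N₂ ⊤ (t₁ k) (u j)) (tm N₁ N₂ ⊤ (t₁ k) (u j')) = _
      rw [ratio_tm _ _ _ _ hDa hDb, ratio_self, rres_one, one_mul]
    have eY : locus M (y j) ≤ rY ⁻¹ᵁ Dk m (ULift.down : ULift.{u} (Fin (m + 1)) → Fin (m + 1)) j :=
      (locus_coordSec m rY (Iso.refl M) j).ge
    have e₂ : locus N₂ (u j) ≤ r₂ ⁻¹ᵁ Dk m (ULift.down : ULift.{u} (Fin (m + 1)) → Fin (m + 1)) j :=
      (locus_coordSec m r₂ (Iso.refl N₂) j).ge
    rw [e1, ← ratio_coordSec m rY (Iso.refl M) j j' eY, ← ratio_coordSec m r₂ (Iso.refl N₂) j j' e₂]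
    have h3 := Scheme.Hom.appLE_map r₂ e₂ (homOfLE hDb).op
    have h4 := Scheme.Hom.appLE_comp_appLE q rY _ _ _ eY hle
    refine (congrArg (fun φ => φ.hom (fn (Dk m (ULift.down : ULift.{u} (Fin (m + 1)) → Fin (m + 1)) j)
      (MvPolynomial.X j'.down : MvPolynomial (Fin (m + 1)) (ULift.{u} ℤ))
      (MvPolynomial.X j.down))) h3).trans ?_
    exact (congrArg (fun φ => φ.hom (fn (Dk m (ULift.down : ULift.{u} (Fin (m + 1)) → Fin (m + 1)) j)
      (MvPolynomial.X j'.down : MvPolynomial (Fin (m + 1)) (ULift.{u} ℤ))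
      (MvPolynomial.X j.down))) h4).symm
  have hcov : ∀ x : X, ∃ p, x ∈ locus (CohB1.tensorMod N₁ N₂) (tt p) := fun x => by
    obtain ⟨k, hk⟩ := exists_mem_locus_coordSec n r₁ (Iso.refl N₁) x
    obtain ⟨j, hj⟩ := exists_mem_locus_coordSec m r₂ (Iso.refl N₂) x
    exact ⟨(k, j), by rw [locus_tm hN₁ hN₂]; exact ⟨hk, hj⟩⟩
  obtain ⟨φ, hφ, hφ2, -⟩ := exists_immersion_of_charts (q ≫ g) tt (n * m + n + m)
    (segreEquiv n m) hcov hd
  exact ⟨φ, hφ, hφ2⟩

end Segre

end Groth.Agent.Lib.Helper3.VAComp
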