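import Groth.Agent.Lib.Helper3.RLSubAlg
import Groth.Agent.Lib.Helper3.RLSub2
import Groth.Agent.Lib.Helper3.PushGr
import Groth.Agent.Lib.Helper3.SymPowFwd
import Groth.Agent.Lib.Helper3.ProjBundleUP2
import Groth.Agent.Lib.Helper3.DegOneBundle

/-!
# A relatively very ample module gives an open dense immersion into a relative Proj
(EGA II 4.4.7)
-/

set_option autoImplicit false
set_option linter.unusedSectionVars false
universe u
open CategoryTheory CategoryTheory.Limits AlgebraicGeometry TopologicalSpace Opposite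
open Scheme.Modules
open scoped HomogeneousIdeal

namespace Groth.Agent.Lib.Helper3.VAOpen

section vi

open QCSec InvGen SymGen InvTensor InvRestrict InvAmple ProjQMap HomogeneousLocalization TensorDesc
  Groth.Agent.Lib.Helper3.RLPsiImmU Groth.Agent.Lib.Helper3.SymPow
  Groth.Agent.Lib.Helper3.SymPowAmple

variable {Y X P PL : Scheme.{u}} {q : X ⟶ Y} {L : X.Modules}
  {𝒮 : RelProj.QCGrAlg Y} {𝒮L : RelProj.QCGrAlg X} {j : L ⟶ 𝒮L.toModule}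
  (u : RelProj.QGrHom q 𝒮 𝒮L)
  {p : P ⟶ Y} {chart : ∀ (U : Y.Opens) (hU : IsAffineOpen U),
    (((p ⁻¹ᵁ U : P.Opens) : Scheme.{u}) ≅ Proj (𝒮.deg U hU))}
  {pL : PL ⟶ X} {chartL : ∀ (U : X.Opens) (hU : IsAffineOpen U),
    (((pL ⁻¹ᵁ U : PL.Opens) : Scheme.{u}) ≅ Proj (𝒮L.deg U hU))}
  (r : ((RelProj.domQ u pL chartL : PL.Opens) : Scheme.{u}) ⟶ P)
  (hL : PicF.IsInvertible L) (hLq : Coh.IsQCoh L) (hj : RelProj.IsGrSymAlg L 𝒮L j)
  (hP : RelProj.IsRelProj 𝒮 p chart) (hPL : RelProj.IsRelProj 𝒮L pL chartL)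
  (hr : RelProj.IsProjQMapOn u p chart pL chartL (RelProj.domQ u pL chartL) r)

include hL hLq hj hP hPL hr in
/-- condition (vi) for an injective `u` over a quasi-compact preimage -/
theorem vi_of_injective_app (U : Y.Opens) (hU : IsAffineOpen U)
    (hc : IsCompact ((q ⁻¹ᵁ U : X.Opens) : Set X))
    (hinj : Function.Injective (u.app U).hom) {n : ℕ} (hn : 0 < n)
    (s : 𝒮.presheaf.obj (op U)) (hs : s ∈ 𝒮.deg U hU n) :
    ∀ m, 0 < m → ∀ s' ∈ 𝒮.deg U hU (m * n),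
      (u.appLE U (XFU u U n s) (XFU_le u U n s)).hom s' = 0 → ∃ k, 0 < k ∧ s ^ k * s' = 0 := by
  intro m hm s' hs' h0
  haveI : L.IsQuasicoherent := hLq
  have hL' : PicF.IsInvertible (CohB1.tensorPow L n) := isInvertible_tensorPow hL n
  obtain ⟨σ, hσ⟩ := exists_kap_eq hL hj n (q ⁻¹ᵁ U) ((u.app U).hom s)
    (fun V hV hVW => (u.gradedAt U hU V hV hVW).map_mem hs)
  have hΩ' : TwistV.IsSecLocus (CohB1.tensorPow L n) (q ⁻¹ᵁ U) σ (XFU u U n s) := fun x' =>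
    XFU_mem_iff_isGen u r hL hLq hj hP hPL hr U hU hn s hs σ hσ x'
  haveI := QCAlgGen.isQuasicoherent_toModule 𝒮L.toQCAlg
  obtain ⟨a', ha'⟩ : ∃ a' : Γ(𝒮L.toModule, q ⁻¹ᵁ U), a' = (u.app U).hom s' := ⟨_, rfl⟩
  have h0' : res 𝒮L.toModule hΩ'.le a' = 0 := by
    rw [ha']
    exact h0
  obtain ⟨k₀, hk₀⟩ := TwistV.exists_tm_lpow_eq_zero hL' (q ⁻¹ᵁ U) σ _ hΩ' 𝒮L.toModule hc
    a' h0'
  have hk := hk₀ (k₀ + 1) (Nat.le_succ _)
  have h2 : jj 𝒮L.toQCAlg (kapPair 𝒮L.toQCAlg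
      (kap 𝒮L.toQCAlg (kap 𝒮L.toQCAlg j n) (k₀ + 1)) (𝟙 𝒮L.toModule)).hom (q ⁻¹ᵁ U)
      (tm 𝒮L.toModule (CohB1.tensorPow (CohB1.tensorPow L n) (k₀ + 1)) (q ⁻¹ᵁ U)
        a' (lpow (CohB1.tensorPow L n) σ (k₀ + 1))) =
      (u.app U).hom s' * ((u.app U).hom s) ^ (k₀ + 1) := by
    refine (Pairing.hom_tm _ _ _ _).trans ?_
    change jj 𝒮L.toQCAlg (𝟙 𝒮L.toModule) _ a' *
      jj 𝒮L.toQCAlg (kap 𝒮L.toQCAlg (kap 𝒮L.toQCAlg j n) (k₀ + 1)) _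
        (lpow _ σ (k₀ + 1)) = _
    rw [kap_lpow, hσ, ha']
    rfl
  rw [hk] at h2
  refine ⟨k₀ + 1, Nat.succ_pos _, hinj ?_⟩
  rw [map_zero, map_mul, map_pow, mul_comm, ← h2]
  exact QCExact.app_zero _ _

end vi

section iso

open QCSec InvGen GrModQC RelChart SymGen PbBasic PullLemmas ProjBundleUP
  Groth.Agent.Lib.Helper17.UnitBC Groth.Agent.Lib.Helper17

/-- for `𝒮` generated in degree one and an everywhere defined `r_{L,u}`, the pullback of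
`O_P(1)` is `L` -/
theorem exists_iso_of_genDegOne {Y P X : Scheme.{u}} {𝒮 : RelProj.QCGrAlg Y} {p : P ⟶ Y}
    {chart : ∀ (U : Y.Opens) (hU : IsAffineOpen U),
      ((p ⁻¹ᵁ U : P.Opens) : Scheme.{u}) ≅ Proj (𝒮.deg U hU)}
    (hP : RelProj.IsRelProj 𝒮 p chart) {O1 : P.Modules}
    {lam : ∀ (U : Y.Opens) (hU : IsAffineOpen U),
      O1 ⟶ (Scheme.Modules.pushforward (RelProj.emb p chart U hU)).obj
        (GrTwist.twist (𝒮.deg U hU) 1)}
    (hO1 : RelProj.IsRelTwist 𝒮 p chart 1 O1 lam) (hgen : 𝒮.IsGenDegOne)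
    (g : X ⟶ Y) (L : X.Modules) (hL : PicF.IsInvertible L)
    {𝒮L : RelProj.QCGrAlg X} {jL : L ⟶ 𝒮L.toModule} (hjL : RelProj.IsGrSymAlg L 𝒮L jL)
    {PL : Scheme.{u}} {pL : PL ⟶ X}
    {chartL : ∀ (U : X.Opens) (hU : IsAffineOpen U),
      ((pL ⁻¹ᵁ U : PL.Opens) : Scheme.{u}) ≅ Proj (𝒮L.deg U hU)}
    (hPL : RelProj.IsRelProj 𝒮L pL chartL) (u : RelProj.QGrHom g 𝒮 𝒮L)
    (hdom : RelProj.domQ u pL chartL = ⊤)
    (r₀ : ((RelProj.domQ u pL chartL : PL.Opens) : Scheme.{u}) ⟶ P)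
    (hr₀ : RelProj.IsProjQMapOn u p chart pL chartL (RelProj.domQ u pL chartL) r₀) :
    ∃ (r : X ⟶ P) (_ : r ≫ p = g) (_ : (Scheme.Modules.pullback r).obj O1 ≅ L),
      (RelProj.domQ u pL chartL).ι ≫ pL ≫ r = r₀ := by
  classical
  haveI : L.IsQuasicoherent := InvCoh.isQuasicoherent_of_isInvertible hL
  obtain ⟨L1, lamL, hL1⟩ := RelTwistExist.exists_isRelTwist hPL 1
  haveI : IsIso pL := SymInvProj.isIso_p hL hjL pL chartL hPL
  obtain ⟨φL, hφL⟩ := CanonPhi.exists_phi hjL.2 hPL hL1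
  haveI haL := SymInvTwist.isIso_adjoint hL hjL hL1 φL hφL
  haveI hD : IsIso (RelProj.domQ u pL chartL).ι := RelTwistQ2.isIso_ι_of_eq_top _ hdom
  have hh := RelTwistQ2.isProjQMap_of_on u hdom r₀ hr₀
  obtain ⟨τP, -⟩ := RelTwistQ3.exists_iso_of_isProjQMap (by norm_num) hP hPL hO1 hL1
    (inv (RelProj.domQ u pL chartL).ι ≫ r₀) hh hgen
  have hcomp := ProjQGlue.comp_eq_of_isProjQMapOn p chart pL chartL hP hPL r₀ hr₀
  have hhp : (inv (RelProj.domQ u pL chartL).ι ≫ r₀) ≫ p = pL ≫ g := by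
    rw [Category.assoc, hcomp, IsIso.inv_hom_id_assoc]
  have hrp : (inv pL ≫ inv (RelProj.domQ u pL chartL).ι ≫ r₀) ≫ p = g := by
    rw [Category.assoc, hhp, IsIso.inv_hom_id_assoc]
  let aL : (Scheme.Modules.pullback pL).obj L ≅ L1 :=
    asIso ((Scheme.Modules.pullback pL).map φL ≫
      (pullbackPushforwardAdjunction pL).counit.app L1)
  refine ⟨inv pL ≫ inv (RelProj.domQ u pL chartL).ι ≫ r₀, hrp,
    isoX pL (inv (RelProj.domQ u pL chartL).ι ≫ r₀) (τP ≪≫ aL.symm), ?_⟩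
  rw [IsIso.hom_inv_id_assoc, IsIso.hom_inv_id_assoc]

end iso

section comp

open QCSec SymGen QCAlgGen QCAlgSub

/-- a relation between graded morphisms checked over affine opens holds over all opens -/
theorem app_eq_of_affine {Y X : Scheme.{u}} {q : X ⟶ Y} {𝒮 𝒯 : RelProj.QCGrAlg Y}
    {𝒮L : RelProj.QCGrAlg X} (u : RelProj.QGrHom q 𝒮 𝒮L) (u₂ : RelProj.QGrHom q 𝒯 𝒮L)
    (v : 𝒯.toQCAlg ⟶ 𝒮.toQCAlg)
    (h : ∀ (U : Y.Opens), IsAffineOpen U → ∀ τ : 𝒯.presheaf.obj (op U),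
      (u₂.app U).hom τ = (u.app U).hom ((v.hom.app (op U)).hom τ)) :
    ∀ U : Y.Opens, u₂.app U = v.hom.app (op U) ≫ u.app U := by
  intro U
  refine CommRingCat.hom_ext (RingHom.ext fun τ => ?_)
  refine PushGr.ext_cover 𝒮L (W := q ⁻¹ᵁ U)
    (fun V : {V : Y.Opens // IsAffineOpen V ∧ V ≤ U} => q ⁻¹ᵁ V.1)
    (fun V => q.preimage_mono V.2.2) ?_ _ _ (fun V => ?_)
  · intro x hx
    obtain ⟨V, hV, hxV, hVU⟩ := AffExt.exists_affine_nbhd U (q x) hx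
    exact Opens.mem_iSup.mpr ⟨⟨V, hV, hVU⟩, hxV⟩
  · have n2 := congr($(u₂.naturality V.2.2) τ)
    have n1 := congr($(u.naturality V.2.2) ((v.hom.app (op U)).hom τ))
    have nv := congr($(v.hom.naturality (homOfLE V.2.2).op) τ)
    exact n2.trans ((h V.1 V.2.1 _).trans ((congrArg (u.app V.1).hom nv).trans n1.symm))

end comp

section main

open QCSec SymGen QCAlgGen QCAlgSub GrSubAlg Groth.Agent.Lib.Helper3.RLPsiImmU

variable {X Y PL : Scheme.{u}} (q : X ⟶ Y) [QuasiCompact q] [QuasiSeparated q] {L : X.Modules}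
  (𝒮L : RelProj.QCGrAlg X) (jL : L ⟶ 𝒮L.toModule) {E : Y.Modules} [E.IsQuasicoherent]
  (ι : E ⟶ (Scheme.Modules.pushforward q).obj L)

/-- the map `E → q_*L → q_*Sym(L)` -/
noncomputable def jPush : E ⟶ (PushGr.pushGr 𝒮L q).toQCAlg.toModule :=
  HomMk.homMk
    (fun U e => toS (PushGr.pushGr 𝒮L q).toQCAlg U
      (jj 𝒮L.toQCAlg jL (q ⁻¹ᵁ U) (ι.app U e)))
    (fun U e e' => by
      have h1 : ι.app U (e + e') = ι.app U e + ι.app U e' := map_add _ _ _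
      have h2 : jj 𝒮L.toQCAlg jL (q ⁻¹ᵁ U) (ι.app U (e + e')) =
          jj 𝒮L.toQCAlg jL (q ⁻¹ᵁ U) (ι.app U e) + jj 𝒮L.toQCAlg jL (q ⁻¹ᵁ U) (ι.app U e') := by
        rw [h1]
        exact jj_add 𝒮L.toQCAlg jL (q ⁻¹ᵁ U) _ _
      exact h2)
    (fun U a e => by
      have h1 : ι.app U (a • e) = a • ι.app U e := Scheme.Modules.Hom.app_smul ι a e
      have h2 : jj 𝒮L.toQCAlg jL (q ⁻¹ᵁ U) (ι.app U (a • e)) =
          st 𝒮L.toQCAlg (q ⁻¹ᵁ U) (q.app U a) *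
            jj 𝒮L.toQCAlg jL (q ⁻¹ᵁ U) (ι.app U e) := by
        rw [h1]
        exact jj_smul 𝒮L.toQCAlg jL (q ⁻¹ᵁ U) (q.app U a) (ι.app U e)
      exact h2)
    (fun {U V} h e => by
      have h1 : ι.app V (res E h e) = res ((Scheme.Modules.pushforward q).obj L) h (ι.app U e) :=
        QCExact.app_res' ι h e
      have h2 : rs 𝒮L.toQCAlg (q.preimage_mono h) (jj 𝒮L.toQCAlg jL (q ⁻¹ᵁ U) (ι.app U e)) =
          jj 𝒮L.toQCAlg jL (q ⁻¹ᵁ V) (ι.app V (res E h e)) := by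
        rw [h1, rs_jj]
        rfl
      exact h2)

theorem jPush_mem (hjL1 : ∀ (V : X.Opens) (hV : IsAffineOpen V) (x : Γ(L, V)),
      jL.app V x ∈ 𝒮L.deg V hV 1)
    (U : Y.Opens) (hU : IsAffineOpen U) (e : Γ(E, U)) :
    jmap (PushGr.pushGr 𝒮L q).toQCAlg (jPush q 𝒮L jL ι) U e ∈
      (PushGr.pushGr 𝒮L q).deg U hU 1 := by
  intro V hV hVW
  show rs 𝒮L.toQCAlg hVW (jj 𝒮L.toQCAlg jL (q ⁻¹ᵁ U) (ι.app U e)) ∈ _
  rw [rs_jj]
  exact hjL1 V hV _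

end main

section sub

open QCSec SymGen QCAlgGen QCAlgSub GrSubAlg

variable {Y : Scheme.{u}} (𝒮 : RelProj.QCGrAlg Y) {E : Y.Modules} [E.IsQuasicoherent]
  (j : E ⟶ 𝒮.toQCAlg.toModule) {n : ℕ}
  (hjn : ∀ (U : Y.Opens) (hU : IsAffineOpen U) (e : Γ(E, U)),
    jmap 𝒮.toQCAlg j U e ∈ 𝒮.deg U hU n)

/-- the generating module maps to the graded subalgebra it generates -/
noncomputable def jSub : E ⟶ (grSub 𝒮 j hjn).toQCAlg.toModule :=
  HomMk.homMk (fun U e => toS (grSub 𝒮 j hjn).toQCAlg U (el 𝒮 j hjn U e))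
    (fun U e e' => grIncl_injective 𝒮 j hjn U (by
      show jmap 𝒮.toQCAlg j U (e + e') =
        ((grIncl 𝒮 j hjn).hom.app (op U)).hom (el 𝒮 j hjn U e + el 𝒮 j hjn U e')
      rw [map_add]
      exact QCAlgSub.jmap_add 𝒮.toQCAlg j U e e'))
    (fun U a e => grIncl_injective 𝒮 j hjn U (by
      show jmap 𝒮.toQCAlg j U (a • e) =
        ((grIncl 𝒮 j hjn).hom.app (op U)).hom
          (((grSub 𝒮 j hjn).str.app (op U)).hom a * el 𝒮 j hjn U e)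
      rw [map_mul, grIncl_str]
      exact jmap_smul 𝒮.toQCAlg j U a e))
    (fun {U V} h e => grIncl_injective 𝒮 j hjn V (by
      show ((grIncl 𝒮 j hjn).hom.app (op V)).hom
          (((grSub 𝒮 j hjn).presheaf.map (homOfLE h).op).hom (el 𝒮 j hjn U e)) =
        jmap 𝒮.toQCAlg j V (res E h e)
      rw [jmap_res]
      exact congr($((grIncl 𝒮 j hjn).hom.naturality (homOfLE h).op) (el 𝒮 j hjn U e))))

theorem jSub_app (U : Y.Opens) (e : Γ(E, U)) :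
    jmap (grSub 𝒮 j hjn).toQCAlg (jSub 𝒮 j hjn) U e = el 𝒮 j hjn U e := rfl

end sub

section thm

open QCSec SymGen QCAlgGen QCAlgSub GrSubAlg Groth.Agent.Lib.Helper3.RLPsiImmU

/-- **EGA II 4.4.7**, from the data of a finite type submodule `E ⊆ q_*L` whose `r_{L,E}` is an
everywhere defined immersion -/
theorem exists_open_dense_immersion {X Y PL : Scheme.{u}}
    (q : X ⟶ Y) [QuasiCompact q] [QuasiSeparated q]
    (L : X.Modules) (hL : PicF.IsInvertible L) (hLq : Coh.IsQCoh L)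
    (𝒮L : RelProj.QCGrAlg X) (jL : L ⟶ 𝒮L.toModule) (hjL : RelProj.IsGrSymAlg L 𝒮L jL)
    (pL : PL ⟶ X) (chartL : ∀ (U : X.Opens) (hU : IsAffineOpen U),
      (((pL ⁻¹ᵁ U : PL.Opens) : Scheme.{u}) ≅ Proj (𝒮L.deg U hU)))
    (hPL : RelProj.IsRelProj 𝒮L pL chartL)
    (E : Y.Modules) (hEq : Coh.IsQCoh E) (hEft : CohB1.IsFT E)
    (ι : E ⟶ (Scheme.Modules.pushforward q).obj L)
    (𝒯 : RelProj.QCGrAlg Y) (jE : E ⟶ 𝒯.toModule) (hjE : RelProj.IsGrSymAlg E 𝒯 jE)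
    (uE : RelProj.QGrHom q 𝒯 𝒮L)
    (huE : ∀ (U : Y.Opens) (x : Γ(E, U)),
      (uE.app U).hom ((jE.app U) x) = (jL.app (q ⁻¹ᵁ U)) ((ι.app U) x))
    (hmainE : ∀ (P : Scheme.{u}) (p : P ⟶ Y)
      (chart : ∀ (U : Y.Opens) (hU : IsAffineOpen U),
        (((p ⁻¹ᵁ U : P.Opens) : Scheme.{u}) ≅ Proj (𝒯.deg U hU)))
      (_ : RelProj.IsRelProj 𝒯 p chart)
      (r : ((RelProj.domQ uE pL chartL : PL.Opens) : Scheme.{u}) ⟶ P)
      (_ : RelProj.IsProjQMapOn uE p chart pL chartL (RelProj.domQ uE pL chartL) r),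
      RelProj.domQ uE pL chartL = ⊤ ∧ IsImmersion r) :
    ∃ (𝒮 : RelProj.QCGrAlg Y) (P : Scheme.{u}) (p : P ⟶ Y)
      (chart : ∀ (U : Y.Opens) (hU : IsAffineOpen U),
        ((p ⁻¹ᵁ U : P.Opens) : Scheme.{u}) ≅ Proj (𝒮.deg U hU))
      (O1 : P.Modules)
      (lam : ∀ (U : Y.Opens) (hU : IsAffineOpen U),
        O1 ⟶ (Scheme.Modules.pushforward (RelProj.emb p chart U hU)).obj
          (GrTwist.twist (𝒮.deg U hU) 1))
      (i : X ⟶ P),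
      𝒮.IsGenDegOne ∧ 𝒮.IsFTDeg 1 ∧ RelProj.IsRelProj 𝒮 p chart ∧
        RelProj.IsRelTwist 𝒮 p chart 1 O1 lam ∧
        IsOpenImmersion i ∧ Dense (Set.range i.base) ∧ i ≫ p = q ∧
        Nonempty (L ≅ (Scheme.Modules.pullback i).obj O1) := by
  classical
  haveI : L.IsQuasicoherent := hLq
  haveI : E.IsQuasicoherent := hEq
  haveI : E.IsFiniteType := hEft
  have hjn := jPush_mem q 𝒮L jL ι hjL.2
  -- the graded subalgebra of `q_* Sym L` generated by `E`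
  obtain ⟨𝒮, h𝒮⟩ : ∃ 𝒮 : RelProj.QCGrAlg Y,
      𝒮 = grSub (PushGr.pushGr 𝒮L q) (jPush q 𝒮L jL ι) hjn := ⟨_, rfl⟩
  obtain ⟨u', hu'def⟩ : ∃ u' : RelProj.QGrHom q
      (grSub (PushGr.pushGr 𝒮L q) (jPush q 𝒮L jL ι) hjn) 𝒮L,
      u' = RLSub.precomp (PushGr.pushU 𝒮L q) (grIncl (PushGr.pushGr 𝒮L q) (jPush q 𝒮L jL ι) hjn)
        (grIncl_graded (PushGr.pushGr 𝒮L q) (jPush q 𝒮L jL ι) hjn) := ⟨_, rfl⟩
  have hu'app : ∀ (U : Y.Opens)
      (x : (grSub (PushGr.pushGr 𝒮L q) (jPush q 𝒮L jL ι) hjn).presheaf.obj (op U)),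
      (u'.app U).hom x =
        ((grIncl (PushGr.pushGr 𝒮L q) (jPush q 𝒮L jL ι) hjn).hom.app (op U)).hom x := by
    intro U x
    rw [hu'def]
    rfl
  have hinj' : ∀ U : Y.Opens, Function.Injective (u'.app U).hom := by
    intro U a b hab
    rw [hu'app, hu'app] at hab
    exact grIncl_injective (PushGr.pushGr 𝒮L q) (jPush q 𝒮L jL ι) hjn U hab
  -- the map from `Sym E`
  obtain ⟨φ, hφ, -⟩ := hjE.1 (grSub (PushGr.pushGr 𝒮L q) (jPush q 𝒮L jL ι) hjn).toQCAlg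
    (jSub (PushGr.pushGr 𝒮L q) (jPush q 𝒮L jL ι) hjn)
  have hφj : ∀ (U : Y.Opens) (x : Γ(E, U)),
      (φ.hom.app (op U)).hom (jj 𝒯.toQCAlg jE U x) =
        el (PushGr.pushGr 𝒮L q) (jPush q 𝒮L jL ι) hjn U x := by
    intro U x
    have := congr($(hφ).app U x)
    exact this
  have hgr : RelProj.IsGradedHom φ := by
    intro U hU d x hx
    refine DegOneBundle.map_mem_of_generators (𝒯.deg U hU)
      ((grSub (PushGr.pushGr 𝒮L q) (jPush q 𝒮L jL ι) hjn).deg U hU) (φ.hom.app (op U)).hom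
      (Set.range (st 𝒯.toQCAlg U)) (Set.range (jj 𝒯.toQCAlg jE U)) ?_ ?_
      (G_eq_top 𝒯.toQCAlg jE hjE.1 hU) ?_ ?_ hx
    · rintro _ ⟨r, rfl⟩
      exact 𝒯.str_mem U hU r
    · rintro _ ⟨m, rfl⟩
      exact hjE.2 U hU m
    · rintro _ ⟨r, rfl⟩
      rw [SymBiprod.ψ_str]
      exact (grSub (PushGr.pushGr 𝒮L q) (jPush q 𝒮L jL ι) hjn).str_mem U hU r
    · rintro _ ⟨m, rfl⟩
      rw [hφj]
      exact el_mem (PushGr.pushGr 𝒮L q) (jPush q 𝒮L jL ι) hjn hU m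
  have hcomp : ∀ (U₀ : Y.Opens), IsAffineOpen U₀ → ∀ τ : 𝒯.presheaf.obj (op U₀),
      (uE.app U₀).hom τ = (u'.app U₀).hom ((φ.hom.app (op U₀)).hom τ) := by
    intro U₀ hU₀ τ
    have hfg : (uE.app U₀).hom = ((u'.app U₀).hom).comp (φ.hom.app (op U₀)).hom := by
      refine RingHom.eq_of_eqOn_set_dense
        (s := Set.range (st 𝒯.toQCAlg U₀) ∪ Set.range (jj 𝒯.toQCAlg jE U₀))
        (G_eq_top 𝒯.toQCAlg jE hjE.1 hU₀) ?_
      rintro _ (⟨a, rfl⟩ | ⟨e, rfl⟩)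
      · change (uE.app U₀).hom ((𝒯.str.app (op U₀)).hom a) =
          (u'.app U₀).hom ((φ.hom.app (op U₀)).hom ((𝒯.str.app (op U₀)).hom a))
        rw [SymBiprod.ψ_str φ U₀ a]
        have h1 := congr($(uE.str_app U₀) a)
        have h2 := congr($(u'.str_app U₀) a)
        exact h1.trans h2.symm
      · change (uE.app U₀).hom (jE.app U₀ e) =
          (u'.app U₀).hom ((φ.hom.app (op U₀)).hom (jj 𝒯.toQCAlg jE U₀ e))
        rw [hφj U₀ e, huE U₀ e, hu'app]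
        rfl
    exact congr($hfg τ)
  have huall := app_eq_of_affine u' uE φ hcomp
  -- the relative Proj and the morphism
  obtain ⟨P', p', chart', hP'⟩ := RelProjExist.exists_isRelProj
    (grSub (PushGr.pushGr 𝒮L q) (jPush q 𝒮L jL ι) hjn)
  obtain ⟨r', hr'⟩ := ProjQGlue.exists_isProjQMapOn (u := u') p' chart' pL chartL hP' hPL
  obtain ⟨hdom', hri'⟩ := RLSubAlg.isImmersion_of_sub hL hLq hjL hPL u' hP' r' hr' φ hgr uE huall
    hmainE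
  haveI := hri'
  choose U hU n s hXT hn hs hx hsj using
    fun x : X => exists_local_data u' r' hL hLq hjL hP' hPL hr' hdom' x
  have hloc : ∀ x, SymPowFwd.LocalData u' (U x) (hU x) (n x) (s x) := fun x =>
    ⟨hn x, hs x, hXT x,
      fun t => RLPsiImm.iii_of_surjective
        (u'.gradedAt (U x) (hU x) _ (hXT x) (XFU_le u' _ _ _)) (hs x)
        (𝒮L.str.app (op _)).hom (𝒮L.str_mem _ (hXT x)) (hsj x) t,
      vi_of_injective_app u' r' hL hLq hjL hP' hPL hr' (U x) (hU x)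
        (q.isCompact_preimage (hU x).isCompact) (hinj' (U x)) (hn x) (s x) (hs x)⟩
  have h3 : (⨆ x, XFU u' (U x) (n x) (s x)) = ⊤ := by
    rw [eq_top_iff]
    intro x _
    exact Opens.mem_iSup.mpr ⟨x, hx x⟩
  obtain ⟨-, hopen⟩ := SymPowFwd.isOpenImmersion_of_family u' r' hL hLq hjL hP' hPL hr' U hU n s
    h3 hloc
  haveI := hopen
  haveI hdomi : IsDominant r' := SymPowFwd.isDominant_of_injective u' r' hLq hP' hPL hr' hdom'
    (fun y₀ => by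
      obtain ⟨U₀, hU₀, hy⟩ := ProjQMap.exists_affine_mem y₀
      exact ⟨U₀, hU₀, hy, hinj' U₀⟩)
  -- the twisting sheaf
  obtain ⟨O1, lam, hO1⟩ := RelTwistExist.exists_isRelTwist hP' 1
  have hgen : (grSub (PushGr.pushGr 𝒮L q) (jPush q 𝒮L jL ι) hjn).IsGenDegOne :=
    fun U₀ hU₀ => closure_eq_top (PushGr.pushGr 𝒮L q) (jPush q 𝒮L jL ι) hjn hU₀
  obtain ⟨i, hip, τ, hi⟩ := exists_iso_of_genDegOne hP' hO1 hgen q L hL hjL hPL u' hdom' r' hr'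
  haveI : IsIso pL := SymInvProj.isIso_p hL hjL pL chartL hPL
  haveI hD : IsIso (RelProj.domQ u' pL chartL).ι := RelTwistQ2.isIso_ι_of_eq_top _ hdom'
  have hi' : i = inv pL ≫ inv (RelProj.domQ u' pL chartL).ι ≫ r' := by
    rw [← hi, IsIso.inv_hom_id_assoc, IsIso.inv_hom_id_assoc]
  haveI : IsOpenImmersion i := by
    rw [hi']
    infer_instance
  haveI : IsDominant i := by
    rw [hi']
    infer_instance
  exact ⟨grSub (PushGr.pushGr 𝒮L q) (jPush q 𝒮L jL ι) hjn, P', p', chart', O1, lam, i, hgen,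
    isFTDeg (PushGr.pushGr 𝒮L q) (jPush q 𝒮L jL ι) hjn one_pos, hP', hO1, inferInstance,
    i.denseRange, hip, ⟨τ.symm⟩⟩

end thm

end Groth.Agent.Lib.Helper3.VAOpen
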