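import Groth.Agent.Lib.Helper3.SymGenVA
import Groth.Agent.Lib.Helper3.AvoidPoints

/-!
# Very ample modules over an infinite field: a section generating at finitely many points
-/

set_option autoImplicit false
set_option linter.unusedSectionVars false
universe u
open CategoryTheory CategoryTheory.Limits AlgebraicGeometry TopologicalSpace Opposite
open Scheme.Modules
open scoped HomogeneousIdeal

namespace Groth.Agent.Lib.Helper3.VAPoints

open QCSec InvGen GrModQC RelProjBasic SymGen SymGenProj CounitGG RelTwistLocGen PbBasic InvAmple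
  AvoidPoints

variable {Y : Scheme.{u}} {E : Y.Modules} [E.IsQuasicoherent] {𝒮 : RelProj.QCGrAlg Y}
  {j : E ⟶ 𝒮.toModule} (hj : RelProj.IsGrSymAlg E 𝒮 j)
  {P : Scheme.{u}} {p : P ⟶ Y}
  {chart : ∀ (U : Y.Opens) (hU : IsAffineOpen U),
    ((p ⁻¹ᵁ U : P.Opens) : Scheme.{u}) ≅ Proj (𝒮.deg U hU)}
  {O1 : P.Modules}
  {lam : ∀ (U : Y.Opens) (hU : IsAffineOpen U),
    O1 ⟶ (Scheme.Modules.pushforward (RelProj.emb p chart U hU)).obj
      (GrTwist.twist (𝒮.deg U hU) ((1 : ℕ) : ℤ))}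
  (hO1 : RelProj.IsRelTwist 𝒮 p chart ((1 : ℕ) : ℤ) O1 lam)

include hj hO1 in
/-- around every point over an affine open `V` of the base, the pullback of some section of `O(1)`
over `p⁻¹V` generates `i^* O(1)` -/
theorem exists_isGen_pull_sec {X : Scheme.{u}} (i : X ⟶ P) (V : Y.Opens) (hV : IsAffineOpen V)
    (x : X) (hx : x ∈ i ⁻¹ᵁ (p ⁻¹ᵁ V)) :
    ∃ (a : Γ(O1, p ⁻¹ᵁ V)) (W₁ : X.Opens) (hW₁ : W₁ ≤ i ⁻¹ᵁ (p ⁻¹ᵁ V)), x ∈ W₁ ∧
      IsGen ((Scheme.Modules.pullback i).obj O1) W₁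
        (res _ hW₁ (pull i O1 (p ⁻¹ᵁ V) a)) := by
  obtain ⟨y, hy⟩ := ProjQMap.exists_emb_eq p chart V hV (i x) hx
  obtain ⟨e, he⟩ := exists_jj_notMem hj hV y
  obtain ⟨a, ha⟩ := exists_sec hO1 V hV (jj 𝒮.toQCAlg j V e) (hj.2 V hV e)
  have hWe : RelProj.emb p chart V hV ''ᵁ Proj.basicOpen (𝒮.deg V hV) (jj 𝒮.toQCAlg j V e) ≤
      p ⁻¹ᵁ V := by
    rw [← ProjQMap.opensRange_emb p chart V hV]
    exact (RelProj.emb p chart V hV).image_le_opensRange _
  have hg := isGen_res hO1 V hV _ (hj.2 V hV e) a ha _ le_rfl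
  have hg2 := isGen_pull i hg
  rw [← res_pull i O1 hWe] at hg2
  exact ⟨a, i ⁻¹ᵁ (RelProj.emb p chart V hV ''ᵁ
    Proj.basicOpen (𝒮.deg V hV) (jj 𝒮.toQCAlg j V e)), i.preimage_mono hWe, ⟨y, he, hy⟩, hg2⟩


/-- a relatively very ample module over an infinite field has a global section generating it at
finitely many given points -/
theorem exists_section_genLocus (k : Type u) [Field k] [Infinite k] {Z : Scheme.{u}}
    (f : Z ⟶ Spec (CommRingCat.of k)) (A : Z.Modules) (hA : RelProj.IsRelVeryAmple f A)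
    {ι : Type} [Finite ι] (y : ι → Z) :
    ∃ s : Coh.structureModule Z ⟶ A, ∀ i : ι, y i ∈ CohB1.genLocus A s := by
  obtain ⟨E, hE, 𝒮, j, hj, P, p, chart, hP, O1, lam, hO1, i, himm, hi, ⟨iso⟩⟩ := hA
  haveI : E.IsQuasicoherent := hE
  subst hi
  have hinvO1 : PicF.IsInvertible O1 :=
    GrTwistGen.isInvertible_of_isRelTwist 𝒮 p chart (isGenDegOne hj) _ O1 lam hO1.bijective
  have hinvA : PicF.IsInvertible A :=
    isInvertible_of_iso iso.symm (isInvertible_pullback i hinvO1)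
  obtain ⟨s, hs⟩ := exists_globalHom_genLocus hinvA k
    ((Scheme.ΓSpecIso (CommRingCat.of k)).inv ≫ (i ≫ p).appTop).hom y (fun idx => by
      obtain ⟨a, W₁, hW₁, hxW₁, hgen⟩ := exists_isGen_pull_sec hj hO1 i ⊤
        (isAffineOpen_top (Spec (CommRingCat.of k))) (y idx) trivial
      refine ⟨iso.inv.app ⊤ (show Γ((Scheme.Modules.pullback i).obj O1, ⊤) from
        pull i O1 (p ⁻¹ᵁ ⊤) a), ?_⟩
      refine (mem_genLocus_iff _ _).mpr ⟨W₁, hxW₁, ?_⟩
      rw [sec_globalHom, ← QCExact.app_res']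
      exact isGen_iso iso.symm hgen)
  exact ⟨globalHom A s, hs⟩

end Groth.Agent.Lib.Helper3.VAPoints
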