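import Groth.Agent.Lib.Helper3.VACore
import Groth.Agent.Lib.Helper3.GlobGen
import Groth.Agent.Lib.Helper3.SecLoc

/-!
# Very ampleness data is stable under tensoring with a module generated by finitely many
global sections
-/

set_option autoImplicit false
set_option linter.unusedSectionVars false
universe u
open CategoryTheory CategoryTheory.Limits AlgebraicGeometry TopologicalSpace Opposite
open Scheme.Modules

namespace Groth.Agent.Lib.Helper3.VASegre

open QCSec InvGen InvTensor InvTwist InvMonoidal InvCoh InvAmple SecCoord ProjOfSec ProjUniq VACore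

variable {X : Scheme.{u}}

theorem closure_eq_top_of_surjective {A B : Type*} [Ring A] [Ring B] (φ : A →+* B)
    (hφ : Function.Surjective φ) {S : Set A} (hS : Subring.closure S = ⊤) {T : Set B}
    (h : ∀ a ∈ S, φ a ∈ Subring.closure T) : Subring.closure T = ⊤ := by
  rw [eq_top_iff]
  intro b _
  obtain ⟨a, rfl⟩ := hφ b
  have ha : a ∈ Subring.closure S := hS ▸ Subring.mem_top a
  exact (Subring.closure_le.mpr h : Subring.closure S ≤ (Subring.closure T).comap φ) ha

theorem globalHom_tm {N P : X.Modules} (a : Γ(N, ⊤)) (b : Γ(P, ⊤)) :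
    globalHom (CohB1.tensorMod N P) (tm N P ⊤ a b) =
      SecTwist.tmulHom (globalHom N a) (globalHom P b) := by
  apply unit_hom_ext
  rw [sec_globalHom, res_self, sec_tmulHom, sec_globalHom, sec_globalHom, res_self, res_self]

theorem locus_tm {N P : X.Modules} (hN : PicF.IsInvertible N) (hP : PicF.IsInvertible P)
    (a : Γ(N, ⊤)) (b : Γ(P, ⊤)) :
    locus (CohB1.tensorMod N P) (tm N P ⊤ a b) = locus N a ⊓ locus P b := by
  unfold locus
  rw [globalHom_tm, genLocus_tmulHom hN hP]

theorem ratio_tm {N P : X.Modules} (a a' : Γ(N, ⊤)) (b b' : Γ(P, ⊤))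
    (hDa : locus (CohB1.tensorMod N P) (tm N P ⊤ a b) ≤ locus N a)
    (hDb : locus (CohB1.tensorMod N P) (tm N P ⊤ a b) ≤ locus P b) :
    ratio (CohB1.tensorMod N P) (tm N P ⊤ a b) (tm N P ⊤ a' b') =
      rres X hDa (ratio N a a') * rres X hDb (ratio P b b') := by
  symm
  apply eq_ratio
  rw [tm_res, tm_res, mul_smul, ← tm_smul_right, ← tm_smul_left, ratio_smul_res,
    ratio_smul_res]

/-- sections of a quasi-coherent module over an affine open are spanned by sections which
generate locally -/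
theorem span_eq_top_of_isGen (Q : X.Modules) [Q.IsQuasicoherent] {W : X.Opens}
    (hW : IsAffineOpen W) {J : Type*} (v : J → Γ(Q, W))
    (h : ∀ x ∈ W, ∃ (j : J) (B : X.Opens) (hB : B ≤ W), x ∈ B ∧ IsGen Q B (res Q hB (v j))) :
    Submodule.span Γ(X, W) (Set.range v) = ⊤ := by
  rw [eq_top_iff]
  rintro m -
  let T : Set Γ(X, W) := {g | ∃ j, IsGenAt Q (X.basicOpen g) (res Q (X.basicOpen_le g) (v j))}
  have hT : Ideal.span T = ⊤ := by
    rw [← hW.self_le_iSup_basicOpen_iff]
    intro x hx
    obtain ⟨j, B, hB, hxB, hg⟩ := h x hx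
    obtain ⟨g, hgle, hxg⟩ := hW.exists_basicOpen_le (V := B) ⟨x, hxB⟩ hx
    have hgen := hg (X.basicOpen g) hgle
    rw [res_res] at hgen
    exact Opens.mem_iSup.mpr ⟨⟨g, j, hgen⟩, hxg⟩
  apply Submodule.mem_of_span_eq_top_of_smul_pow_mem _ T hT m
  rintro ⟨g, j, hgen⟩
  obtain ⟨a, ha⟩ := hgen.2 (res Q (X.basicOpen_le g) m)
  haveI : (Coh.structureModule X).IsQuasicoherent :=
    isQuasicoherent_of_isInvertible (isInvertible_structureModule X)
  obtain ⟨n, a', ha'⟩ := (isLocSec_of_isQuasicoherent (Coh.structureModule X) hW g _ rfl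
    (X.basicOpen_le g)).surj (ofFun _ a)
  have ha'' : rres X (X.basicOpen_le g) (toFun W a') = (rres X (X.basicOpen_le g) g) ^ n * a :=
    ha'
  have hz : res Q (X.basicOpen_le g) (g ^ n • m - toFun W a' • v j) = 0 := by
    rw [res_sub, res_pow_smul, res_smul, ha'', ← ha, mul_smul, sub_self]
  obtain ⟨n', hn'⟩ := (isLocSec_of_isQuasicoherent Q hW g _ rfl (X.basicOpen_le g)).inj _ hz
  refine ⟨n' + n, ?_⟩
  rw [smul_sub, sub_eq_zero] at hn'
  change (g ^ (n' + n)) • m ∈ _
  rw [pow_add, mul_smul, hn', ← mul_smul]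
  exact Submodule.smul_mem _ _ (Submodule.subset_span ⟨j, rfl⟩)

/-- on the non-vanishing locus (inside an affine open `W`) of one of finitely many generating
sections of an invertible module, every function is a polynomial in the ratios with coefficients
from `W` -/
theorem closure_ratio_eq_top {P : X.Modules} (hP : PicF.IsInvertible P) {J : Type u} [Finite J]
    (u : J → Γ(P, ⊤)) {W : X.Opens} (hW : IsAffineOpen W)
    (hcov : ∀ x ∈ W, ∃ j, x ∈ locus P (u j)) (j₀ : J) (D : X.Opens) (hDW : D ≤ W)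
    (hDu : D ≤ locus P (u j₀)) (hD : W ⊓ locus P (u j₀) ≤ D) :
    Subring.closure (Set.range (rresHom X hDW) ∪
      Set.range (fun j => rres X hDu (ratio P (u j₀) (u j)))) = ⊤ := by
  classical
  haveI := Fintype.ofFinite J
  haveI hqP := isQuasicoherent_of_isInvertible hP
  haveI : (Coh.structureModule X).IsQuasicoherent :=
    isQuasicoherent_of_isInvertible (isInvertible_structureModule X)
  rw [eq_top_iff]
  intro c _
  have hqs : ∀ U U' : X.Opens, IsAffineOpen U → IsAffineOpen U' → U ≤ W → U' ≤ W →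
      IsCompact ((U ⊓ U' : X.Opens) : Set X) := by
    intro U U' hU hU' hUW hU'W
    exact hW.isQuasiSeparated U U' hUW U.2 hU.isCompact hU'W U'.2 hU'.isCompact
  obtain ⟨n, hn⟩ := exists_tm_lpow_extension hP (globalHom P (u j₀)) (Coh.structureModule X) W
    hW.isCompact hqs D hDW hDu hD (ofFun D c)
  obtain ⟨t', ht'⟩ := hn n le_rfl
  let τ' : Γ(CohB1.tensorPow P n, W) := (unitorL (CohB1.tensorPow P n)).hom.app W t'
  have hτ' : res _ hDW τ' = c • lpow P (res P (le_top : D ≤ ⊤) (u j₀)) n := by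
    rw [← QCExact.app_res', ht', unitorL_hom_tm, sec_globalHom]
  haveI := isQuasicoherent_of_isInvertible (isInvertible_tensorPow hP n)
  have hspan := span_eq_top_of_isGen (CohB1.tensorPow P n) hW
    (fun j => lpow P (res P (le_top : W ≤ ⊤) (u j)) n) (fun x hx => by
      obtain ⟨j, hj⟩ := hcov x hx
      refine ⟨j, W ⊓ locus P (u j), inf_le_left, ⟨hx, hj⟩, ?_⟩
      rw [lpow_res, res_res]
      have h1 := (isGen_locus P (u j)).mono (inf_le_right : W ⊓ locus P (u j) ≤ locus P (u j))
      rw [res_res] at h1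
      exact isGen_lpow h1 n)
  have hmem : τ' ∈ Submodule.span Γ(X, W)
      (Set.range (fun j => lpow P (res P (le_top : W ≤ ⊤) (u j)) n)) := hspan ▸ Submodule.mem_top
  obtain ⟨a, ha⟩ := (Submodule.mem_span_range_iff_exists_fun _).mp hmem
  have hg₀ : IsGen P D (res P (le_top : D ≤ ⊤) (u j₀)) := by
    have h1 := (isGen_locus P (u j₀)).mono hDu
    rwa [res_res] at h1
  have hg : IsGenAt (CohB1.tensorPow P n) D (lpow P (res P (le_top : D ≤ ⊤) (u j₀)) n) :=
    (isGen_lpow hg₀ n).self
  have key : c • lpow P (res P (le_top : D ≤ ⊤) (u j₀)) n =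
      (∑ j, rres X hDW (a j) * (rres X hDu (ratio P (u j₀) (u j))) ^ n) •
        lpow P (res P (le_top : D ≤ ⊤) (u j₀)) n := by
    rw [← hτ', ← ha, SecLoc.res_sum, Finset.sum_smul]
    refine Finset.sum_congr rfl (fun j _ => ?_)
    rw [res_smul, lpow_res, res_res, ← ratio_smul_res P (u j₀) (u j) hDu, lpow_smul, mul_smul]
  rw [hg.smul_inj key]
  refine sum_mem (fun j _ => ?_)
  have h1 : rres X hDW (a j) ∈ Subring.closure (Set.range (rresHom X hDW) ∪
      Set.range (fun j => rres X hDu (ratio P (u j₀) (u j)))) :=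
    Subring.subset_closure (Or.inl ⟨a j, rfl⟩)
  have h2 : rres X hDu (ratio P (u j₀) (u j)) ∈ Subring.closure (Set.range (rresHom X hDW) ∪
      Set.range (fun j => rres X hDu (ratio P (u j₀) (u j)))) :=
    Subring.subset_closure (Or.inr ⟨j, rfl⟩)
  exact mul_mem h1 (pow_mem h2 n)

/-- `P` is generated by finitely many global sections -/
def IsFGG (P : X.Modules) : Prop :=
  ∃ (J : Type u) (_ : Finite J) (u : J → Γ(P, ⊤)), ∀ x : X, ∃ j, x ∈ locus P (u j)

/-- very ample tensor globally generated is very ample -/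
theorem IsVA.tensor {S : Scheme.{u}} (f : X ⟶ S) {N P : X.Modules} (hN : PicF.IsInvertible N)
    (hP : PicF.IsInvertible P) (h : IsVA f N) (hG : IsFGG P) :
    IsVA f (CohB1.tensorMod N P) := by
  obtain ⟨κ, _, t, K, V, hcov, hK⟩ := h
  obtain ⟨J, _, u, hu⟩ := hG
  refine ⟨κ × J, inferInstance, fun p => tm N P ⊤ (t p.1) (u p.2), {p | p.1 ∈ K},
    fun p => V p.1, ?_, ?_⟩
  · intro x
    obtain ⟨k, hk, hx⟩ := hcov x
    obtain ⟨j, hj⟩ := hu x
    exact ⟨(k, j), hk, by rw [locus_tm hN hP]; exact ⟨hx, hj⟩⟩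
  · rintro ⟨k, j⟩ hk
    obtain ⟨hV, hA, hle, hgen⟩ := hK k hk
    have hloc := locus_tm hN hP (t k) (u j)
    have hDa : locus (CohB1.tensorMod N P) (tm N P ⊤ (t k) (u j)) ≤ locus N (t k) :=
      hloc.le.trans inf_le_left
    have hDb : locus (CohB1.tensorMod N P) (tm N P ⊤ (t k) (u j)) ≤ locus P (u j) :=
      hloc.le.trans inf_le_right
    refine ⟨hV, ?_, hDa.trans hle, ?_⟩
    · change IsAffineOpen (locus (CohB1.tensorMod N P) (tm N P ⊤ (t k) (u j)))
      rw [hloc, inf_comm]
      exact isAffineOpen_genLocus_inf hP (globalHom P (u j)) hA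
    · have hAF := closure_ratio_eq_top hP u hA (fun x _ => hu x) j
        (locus (CohB1.tensorMod N P) (tm N P ⊤ (t k) (u j))) hDa hDb hloc.ge
      refine closure_eq_top_of_surjective (RingHom.id _) Function.surjective_id hAF ?_
      rintro z (⟨w, rfl⟩ | ⟨j', rfl⟩)
      · have hw : w ∈ Subring.closure (Set.range (f.appLE (V k) (locus N (t k)) hle).hom ∪
            Set.range (fun k' => ratio N (t k) (t k'))) := hgen ▸ Subring.mem_top w
        refine (Subring.closure_le.mpr ?_ : Subring.closure _ ≤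
          (Subring.closure _).comap (rresHom X hDa)) hw
        rintro y (⟨b, rfl⟩ | ⟨k', rfl⟩)
        · apply Subring.subset_closure
          left
          refine ⟨b, ?_⟩
          exact congrArg (fun φ => φ.hom b)
            (Scheme.Hom.appLE_map f hle (homOfLE hDa).op).symm
        · apply Subring.subset_closure
          right
          refine ⟨(k', j), ?_⟩
          change ratio (CohB1.tensorMod N P) (tm N P ⊤ (t k) (u j)) (tm N P ⊤ (t k') (u j)) = _
          rw [ratio_tm _ _ _ _ hDa hDb, ratio_self, rres_one, mul_one]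
          rfl
      · apply Subring.subset_closure
        right
        refine ⟨(k, j'), ?_⟩
        change ratio (CohB1.tensorMod N P) (tm N P ⊤ (t k) (u j)) (tm N P ⊤ (t k) (u j')) = _
        rw [ratio_tm _ _ _ _ hDa hDb, ratio_self, rres_one, one_mul]
        rfl

end Groth.Agent.Lib.Helper3.VASegre
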