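import Groth.Agent.Lib.Helper3.Veronese
import Groth.Agent.Lib.Helper3.GrTwistGen
import Groth.Agent.Lib.Helper3.SymPowAmple
import Groth.Agent.Lib.Helper3.RelAmpleLib
import Groth.Agent.Lib.Helper3.RelProjLoc
import Groth.Agent.Lib.Helper3.InvMonoidal

/-!
# Relative ampleness of `O(d)` on a relative `Proj` of a graded algebra of finite type
(EGA II 4.6.18)
-/

set_option autoImplicit false
universe u
open CategoryTheory CategoryTheory.Limits AlgebraicGeometry TopologicalSpace Opposite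
open Scheme.Modules
open scoped HomogeneousIdeal

namespace Groth.Agent.Lib.Helper3.VerAmple

open QCSec InvGen GrModQC InvTensor GrTwistGen

section ring

variable {A : Type u} [CommRing A] {𝒜 : ℕ → AddSubgroup A} [GradedRing 𝒜]

theorem one_notMem (x : ProjectiveSpectrum 𝒜) : (1 : A) ∉ x.asHomogeneousIdeal :=
  fun h => x.isPrime.ne_top ((Ideal.eq_top_iff_one _).mpr h)

/-- the section `g / 1` of `O(d)` over an open -/
noncomputable def fr {d : ℕ} (g : 𝒜 d) (V : (Proj 𝒜).Opens) :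
    Γ(GrTwist.twist 𝒜 (d : ℤ), V) :=
  frac V g (⟨1, SetLike.GradedOne.one_mem⟩ : 𝒜 0) (fun x => one_notMem x.1) (d : ℤ) (by simp)

theorem res_fr {d : ℕ} (g : 𝒜 d) {V V' : (Proj 𝒜).Opens} (h : V' ≤ V) :
    res (GrTwist.twist 𝒜 (d : ℤ)) h (fr g V) = fr g V' :=
  res_frac h _ _ _ _ _

theorem val_fr {d : ℕ} (g : 𝒜 d) (V : (Proj 𝒜).Opens) (x : V) :
    val (fr g V) x = Localization.mk g.1 ⟨1, one_notMem x.1⟩ := rfl

theorem isGen_fr {d : ℕ} (g : 𝒜 d) {V : (Proj 𝒜).Opens}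
    (hV : V ≤ Proj.basicOpen 𝒜 (g : A)) :
    IsGen (GrTwist.twist 𝒜 (d : ℤ)) V (fr g V) :=
  isGen_frac V g _ (fun x => hV x.2) _ _ _

theorem notMem_of_smul_fr {d : ℕ} (g g' : 𝒜 d) {V : (Proj 𝒜).Opens} (c : Γ(Proj 𝒜, V))
    (h : c • fr g V = fr g' V) (x : V) (hx : (g' : A) ∉ x.1.asHomogeneousIdeal) :
    (g : A) ∉ x.1.asHomogeneousIdeal := by
  have h1 : val (c • fr g V) x = val (fr g' V) x := congrArg (fun t => val t x) h
  rw [val_smul, val_fr, val_fr] at h1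
  have hu : IsUnit (Localization.mk g'.1 ⟨1, one_notMem x.1⟩ : GrTwist.Loc 𝒜 x.1) :=
    IsUnit.of_mul_eq_one _ (mk_mul_mk_swap g'.1 1 hx (one_notMem x.1))
  rw [← h1] at hu
  have hu2 := isUnit_of_mul_isUnit_right hu
  have e1 : (Localization.mk g.1 ⟨1, one_notMem x.1⟩ : GrTwist.Loc 𝒜 x.1) =
      algebraMap A (GrTwist.Loc 𝒜 x.1) g.1 := Localization.mk_one_eq_algebraMap g.1
  rw [e1] at hu2
  have : x.1.asHomogeneousIdeal.toIdeal.IsPrime := x.1.isPrime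
  exact (IsLocalization.AtPrime.isUnit_to_map_iff (GrTwist.Loc 𝒜 x.1)
    x.1.asHomogeneousIdeal.toIdeal g.1).mp hu2

/-- if `𝒜_{nd} = (𝒜_d)^n` for all `n > 0`, the `D₊(g)`, `g` of degree `d`, cover `Proj` -/
theorem exists_notMem_of_veronese {d : ℕ}
    (hV : ∀ n : ℕ, 0 < n → Veronese.tI (𝒜 (n * d)) = Veronese.tI (𝒜 d) ^ n)
    (y : Proj 𝒜) : ∃ g ∈ 𝒜 d, g ∉ y.asHomogeneousIdeal := by
  by_contra hcon
  push_neg at hcon
  obtain ⟨e, he, f, hf, hfy⟩ := ProjQMap.exists_pos_notMem y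
  apply hfy
  have h1 : f ^ d ∈ 𝒜 (e * d) := by
    have := SetLike.pow_mem_graded d hf
    rwa [smul_eq_mul, mul_comm] at this
  have h2 : f ^ d ∈ Veronese.tI (𝒜 d) ^ e := by
    rw [← hV e he]
    exact h1
  obtain ⟨e', rfl⟩ : ∃ e', e = e' + 1 := ⟨e - 1, by omega⟩
  rw [pow_succ] at h2
  have h3 : Veronese.tI (𝒜 d) ^ e' * Veronese.tI (𝒜 d) ≤
      (y.asHomogeneousIdeal.toIdeal).restrictScalars ℤ :=
    Submodule.mul_le.mpr (fun m _ m' hm' =>
      (Submodule.restrictScalars_mem ℤ _ _).mpr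
        (Ideal.mul_mem_left _ m (hcon m' hm')))
  exact y.isPrime.mem_of_pow_mem d ((Submodule.restrictScalars_mem ℤ _ _).mp (h3 h2))

end ring

section rel

variable {Y P : Scheme.{u}} {𝒮 : RelProj.QCGrAlg Y} {p : P ⟶ Y}
  {chart : ∀ (U : Y.Opens) (hU : IsAffineOpen U),
    ((p ⁻¹ᵁ U : P.Opens) : Scheme.{u}) ≅ Proj (𝒮.deg U hU)}
  {d : ℕ} {L : P.Modules}
  (lam : ∀ (U : Y.Opens) (hU : IsAffineOpen U),
      L ⟶ (Scheme.Modules.pushforward (RelProj.emb p chart U hU)).obj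
        (GrTwist.twist (𝒮.deg U hU) (d : ℤ)))
  (hb : ∀ (U : Y.Opens) (hU : IsAffineOpen U) (W : P.Opens), W ≤ p ⁻¹ᵁ U →
      Function.Bijective ((lam U hU).app W))

include hb in
/-- `O(d)` is invertible as soon as the `D₊(g)`, `g` of degree `d`, cover the charts of an
affine open cover of the base -/
theorem isInvertible_of_cover {ι : Type*} (U : ι → Y.Opens) (hU : ∀ i, IsAffineOpen (U i))
    (hcov : ∀ y : Y, ∃ i, y ∈ U i)
    (hpt : ∀ i (y : Proj (𝒮.deg (U i) (hU i))),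
      ∃ g ∈ 𝒮.deg (U i) (hU i) d, g ∉ y.asHomogeneousIdeal) :
    PicF.IsInvertible L := by
  apply isInvertible_of_isGen
  intro x
  obtain ⟨i, hxU⟩ := hcov (p x)
  obtain ⟨y, rfl⟩ := ProjQMap.exists_emb_eq p chart (U i) (hU i) x hxU
  obtain ⟨g, hg, hgy⟩ := hpt i y
  obtain ⟨t, ht⟩ := exists_isGen_basicOpen hg 1 (d : ℤ) (by simp)
  have hpre : RelProj.emb p chart (U i) (hU i) ⁻¹ᵁ
      (RelProj.emb p chart (U i) (hU i) ''ᵁ Proj.basicOpen (𝒮.deg (U i) (hU i)) g) =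
        Proj.basicOpen (𝒮.deg (U i) (hU i)) g :=
    (RelProj.emb p chart (U i) (hU i)).preimage_image_eq _
  have hle : RelProj.emb p chart (U i) (hU i) ''ᵁ Proj.basicOpen (𝒮.deg (U i) (hU i)) g ≤
      (RelProj.emb p chart (U i) (hU i)).opensRange :=
    (RelProj.emb p chart (U i) (hU i)).image_le_opensRange _
  have hle' : RelProj.emb p chart (U i) (hU i) ''ᵁ Proj.basicOpen (𝒮.deg (U i) (hU i)) g ≤
      p ⁻¹ᵁ (U i) := by
    rwa [ProjQMap.opensRange_emb] at hle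
  obtain ⟨s, hs⟩ := (hb (U i) (hU i) _ hle').2
    (res (GrTwist.twist (𝒮.deg (U i) (hU i)) (d : ℤ)) (le_of_eq hpre) t)
  refine ⟨RelProj.emb p chart (U i) (hU i) ''ᵁ Proj.basicOpen (𝒮.deg (U i) (hU i)) g, s,
    ⟨y, hgy, rfl⟩, ?_⟩
  apply isGen_of_pushforward (RelProj.emb p chart (U i) (hU i)) _ (lam (U i) (hU i)) _ hle
    (fun W hW => hb (U i) (hU i) W (hW.trans hle'))
  rw [hs]
  exact ht.mono _

include hb in
/-- a section of `L` corresponding to `g / 1` generates `L` over the image of `D₊(g)` -/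
theorem isGen_res_of_app_eq (U : Y.Opens) (hU : IsAffineOpen U) (g : 𝒮.deg U hU d)
    (s : Γ(L, p ⁻¹ᵁ U))
    (hs : (lam U hU).app (p ⁻¹ᵁ U) s = fr g (RelProj.emb p chart U hU ⁻¹ᵁ (p ⁻¹ᵁ U)))
    (Ω : P.Opens)
    (hΩ : Ω ≤ RelProj.emb p chart U hU ''ᵁ
      Proj.basicOpen (𝒮.deg U hU) (g : 𝒮.presheaf.obj (op U)))
    (hΩW : Ω ≤ p ⁻¹ᵁ U) :
    IsGen L Ω (res L hΩW s) := by
  have hle : Ω ≤ (RelProj.emb p chart U hU).opensRange := by
    rw [ProjQMap.opensRange_emb]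
    exact hΩW
  apply isGen_of_pushforward (RelProj.emb p chart U hU) _ (lam U hU) Ω hle
    (fun W' hW' => hb U hU W' (hW'.trans hΩW))
  rw [QCExact.app_res', hs]
  change IsGen _ _ (res (GrTwist.twist (𝒮.deg U hU) (d : ℤ))
    ((RelProj.emb p chart U hU).preimage_mono hΩW) (fr g _))
  rw [res_fr]
  exact isGen_fr g (((RelProj.emb p chart U hU).preimage_mono hΩ).trans
    (le_of_eq ((RelProj.emb p chart U hU).preimage_image_eq _)))

/-- if the section corresponding to `g / 1` generates `L^{⊗ 1}` over `V`, then `g` vanishes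
nowhere on `V` -/
theorem notMem_of_isGen (U : Y.Opens) (hU : IsAffineOpen U) (g g' : 𝒮.deg U hU d)
    (s s' : Γ(L, p ⁻¹ᵁ U))
    (hs : (lam U hU).app (p ⁻¹ᵁ U) s = fr g (RelProj.emb p chart U hU ⁻¹ᵁ (p ⁻¹ᵁ U)))
    (hs' : (lam U hU).app (p ⁻¹ᵁ U) s' = fr g' (RelProj.emb p chart U hU ⁻¹ᵁ (p ⁻¹ᵁ U)))
    (V : P.Opens) (hVW : V ≤ p ⁻¹ᵁ U)
    (hgen : IsGenAt (CohB1.tensorPow L (0 + 1)) V (res _ hVW (lpow L s (0 + 1))))
    (y : Proj (𝒮.deg U hU)) (hy : RelProj.emb p chart U hU y ∈ V)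
    (hg' : (g' : 𝒮.presheaf.obj (op U)) ∉ y.asHomogeneousIdeal) :
    (g : 𝒮.presheaf.obj (op U)) ∉ y.asHomogeneousIdeal := by
  obtain ⟨c, hc⟩ := hgen.2 (res _ hVW (lpow L s' (0 + 1)))
  dsimp only at hc
  rw [lpow_res, lpow_res, lpow_succ, lpow_succ, lpow_zero, lpow_zero] at hc
  have hc' : tm (Coh.structureModule P) L V (ofFun V 1) (c • res L hVW s) =
      tm (Coh.structureModule P) L V (ofFun V 1) (res L hVW s') := by
    rw [tm_smul_right]
    exact hc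
  have h1 : (InvMonoidal.unitorL L).hom.app V
        (tm (Coh.structureModule P) L V (ofFun V 1) (c • res L hVW s)) =
      (InvMonoidal.unitorL L).hom.app V
        (tm (Coh.structureModule P) L V (ofFun V 1) (res L hVW s')) :=
    congrArg ((InvMonoidal.unitorL L).hom.app V) hc'
  rw [InvMonoidal.unitorL_hom_tm, InvMonoidal.unitorL_hom_tm, one_smul, one_smul] at h1
  have h2 := congrArg ((lam U hU).app V) h1
  rw [Scheme.Modules.Hom.app_smul, QCExact.app_res', QCExact.app_res', hs, hs'] at h2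
  have h3 : ((RelProj.emb p chart U hU).app V c) • fr g (RelProj.emb p chart U hU ⁻¹ᵁ V) =
      fr g' (RelProj.emb p chart U hU ⁻¹ᵁ V) := by
    rw [← res_fr g ((RelProj.emb p chart U hU).preimage_mono hVW),
      ← res_fr g' ((RelProj.emb p chart U hU).preimage_mono hVW)]
    exact h2
  exact notMem_of_smul_fr g g' _ h3 ⟨y, hy⟩ hg'

include hb in
/-- over an affine open `U` of the base over which the `D₊(g)`, `g` of degree `d > 0`, cover
`Proj 𝒮(U)`, the restriction of `O(d)` to the inverse image of `U` is ample -/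
theorem isAmple_restrict (hL : PicF.IsInvertible L) [QuasiCompact p] (hd : 0 < d)
    (U : Y.Opens) (hU : IsAffineOpen U)
    (hpt : ∀ y : Proj (𝒮.deg U hU), ∃ g ∈ 𝒮.deg U hU d, g ∉ y.asHomogeneousIdeal) :
    CohB1.IsAmple (L.restrict (p ⁻¹ᵁ U).ι) := by
  haveI : CompactSpace ↑(p ⁻¹ᵁ U : P.Opens) := RelAmpleLib.compactSpace_preimage p U hU
  have hsec : ∀ g : 𝒮.deg U hU d, ∃ s : Γ(L, p ⁻¹ᵁ U),
      (lam U hU).app (p ⁻¹ᵁ U) s = fr g (RelProj.emb p chart U hU ⁻¹ᵁ (p ⁻¹ᵁ U)) :=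
    fun g => (hb U hU _ le_rfl).2 _
  choose sg hsg using hsec
  apply SymPowAmple.isAmple_restrict_of_sections hL (p ⁻¹ᵁ U)
  intro x hx
  obtain ⟨y, rfl⟩ := ProjQMap.exists_emb_eq p chart U hU x hx
  obtain ⟨g, hg, hgy⟩ := hpt y
  have hΩW : RelProj.emb p chart U hU ''ᵁ Proj.basicOpen (𝒮.deg U hU) g ≤ p ⁻¹ᵁ U := by
    have := (RelProj.emb p chart U hU).image_le_opensRange (Proj.basicOpen (𝒮.deg U hU) g)
    rwa [ProjQMap.opensRange_emb] at this
  refine ⟨0, lpow L (sg ⟨g, hg⟩) (0 + 1),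
    RelProj.emb p chart U hU ''ᵁ Proj.basicOpen (𝒮.deg U hU) g, ?_, ⟨y, hgy, rfl⟩, hΩW, ?_⟩
  · exact (Proj.isAffineOpen_basicOpen (𝒮.deg U hU) g hg hd).image_of_isOpenImmersion _
  · intro x'
    constructor
    · intro hx'
      refine ⟨_, hΩW, hx', ?_⟩
      rw [lpow_res]
      exact isGen_lpow (isGen_res_of_app_eq lam hb U hU ⟨g, hg⟩ _ (hsg _) _ le_rfl hΩW) _
    · rintro ⟨V', hle, hx'V', hgen⟩
      obtain ⟨y', rfl⟩ := ProjQMap.exists_emb_eq p chart U hU x' (hle hx'V')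
      obtain ⟨g', hg', hgy'⟩ := hpt y'
      refine ⟨y', ?_, rfl⟩
      exact notMem_of_isGen lam U hU ⟨g, hg⟩ ⟨g', hg'⟩ _ _ (hsg _) (hsg _) V' hle hgen.self
        y' hx'V' hgy'

end rel

end Groth.Agent.Lib.Helper3.VerAmple
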