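import Groth.Agent.Lib.Helper3.GrSubAlg

/-!
# Veronese subrings of a graded ring of finite type (EGA II 2.1.6)
-/

set_option autoImplicit false
universe u v
open CategoryTheory AlgebraicGeometry

namespace Groth.Agent.Lib.Helper3.Veronese

open DirectSum

variable {A : Type u} [CommRing A] (𝒜 : ℕ → AddSubgroup A) [GradedRing 𝒜]

/-- the ℤ-submodule attached to an additive subgroup -/
abbrev tI (S : AddSubgroup A) : Submodule ℤ A := AddSubgroup.toIntSubmodule S

theorem mem_tI {S : AddSubgroup A} {a : A} : a ∈ tI S ↔ a ∈ S := Iff.rfl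

theorem mul_le (a b : ℕ) : tI (𝒜 a) * tI (𝒜 b) ≤ tI (𝒜 (a + b)) :=
  Submodule.mul_le.mpr (fun x hx y hy =>
    (show x * y ∈ 𝒜 (a + b) from SetLike.mul_mem_graded (A := 𝒜) (mem_tI.mp hx) (mem_tI.mp hy)))

theorem pow_le (a t : ℕ) : tI (𝒜 a) ^ t ≤ tI (𝒜 (t * a)) := by
  induction t with
  | zero =>
    rw [pow_zero, Nat.zero_mul, Submodule.one_le]
    exact (SetLike.GradedOne.one_mem : (1 : A) ∈ 𝒜 0)
  | succ t ih =>
    rw [pow_succ]
    refine le_trans (mul_le_mul' ih le_rfl) ?_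
    have h := mul_le 𝒜 (t * a) a
    have e : t * a + a = (t + 1) * a := by ring
    rwa [e] at h

section gens

variable {κ : Type v} [Fintype κ] [DecidableEq κ] (x : κ → A) (dx : κ → ℕ)

/-- monomials in the generators -/
def mon (α : κ → ℕ) : A := ∏ s, x s ^ α s

/-- the weight of a multi-index -/
def wt (α : κ → ℕ) : ℕ := ∑ s, α s * dx s

theorem mon_add (α β : κ → ℕ) : mon x (α + β) = mon x α * mon x β := by
  simp only [mon, Pi.add_apply, pow_add, Finset.prod_mul_distrib]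

theorem wt_add (α β : κ → ℕ) : wt dx (α + β) = wt dx α + wt dx β := by
  simp only [wt, Pi.add_apply, add_mul, Finset.sum_add_distrib]

theorem mon_zero : mon x (0 : κ → ℕ) = 1 := by
  simp [mon]

theorem wt_zero : wt dx (0 : κ → ℕ) = 0 := by
  simp [wt]

theorem mon_single (s : κ) (e : ℕ) : mon x (Pi.single s e) = x s ^ e := by
  unfold mon
  rw [Finset.prod_eq_single s]
  · rw [Pi.single_eq_same]
  · intro t _ hts
    rw [Pi.single_eq_of_ne hts, pow_zero]
  · intro h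
    exact absurd (Finset.mem_univ s) h

theorem wt_single (s : κ) (e : ℕ) : wt dx (Pi.single s e) = e * dx s := by
  unfold wt
  rw [Finset.sum_eq_single s]
  · rw [Pi.single_eq_same]
  · intro t _ hts
    rw [Pi.single_eq_of_ne hts, zero_mul]
  · intro h
    exact absurd (Finset.mem_univ s) h

theorem mon_mem (hx : ∀ s, x s ∈ 𝒜 (dx s)) (α : κ → ℕ) : mon x α ∈ 𝒜 (wt dx α) := by
  have h := SetLike.prod_pow_mem_graded 𝒜 dx x α (F := Finset.univ) (fun k _ => hx k)
  simp only [smul_eq_mul] at h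
  exact h

/-- the span of the products `c * x^α` with `c` of degree `0` and `α` of weight `N` -/
def Msp (N : ℕ) : Submodule ℤ A :=
  Submodule.span ℤ {a | ∃ c ∈ 𝒜 0, ∃ α : κ → ℕ, wt dx α = N ∧ a = c * mon x α}

theorem Msp_mul (i j : ℕ) : Msp 𝒜 x dx i * Msp 𝒜 x dx j ≤ Msp 𝒜 x dx (i + j) := by
  unfold Msp
  rw [Submodule.span_mul_span]
  apply Submodule.span_mono
  rintro _ ⟨a, ⟨c, hc, α, hα, rfl⟩, b, ⟨c', hc', β, hβ, rfl⟩, rfl⟩
  refine ⟨c * c', ?_, α + β, ?_, ?_⟩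
  · have := SetLike.mul_mem_graded hc hc'
    rwa [add_zero] at this
  · rw [wt_add, hα, hβ]
  · rw [mon_add]
    ring

variable (hdx : ∀ s, 0 < dx s) (hx : ∀ s, x s ∈ 𝒜 (dx s))
  (hgen : Subring.closure ((𝒜 0 : Set A) ∪ Set.range x) = ⊤)

include hx hgen in
theorem le_Msp (N : ℕ) {a : A} (ha : a ∈ 𝒜 N) : a ∈ Msp 𝒜 x dx N := by
  have hone : (1 : A) ∈ (Msp 𝒜 x dx 0).toAddSubgroup :=
    Submodule.subset_span ⟨1, SetLike.GradedOne.one_mem, 0, wt_zero dx, by
      rw [mon_zero, mul_one]⟩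
  have hmul : ∀ (i j : ℕ) (a b : A), a ∈ (Msp 𝒜 x dx i).toAddSubgroup →
      b ∈ (Msp 𝒜 x dx j).toAddSubgroup → a * b ∈ (Msp 𝒜 x dx (i + j)).toAddSubgroup :=
    fun i j a b ha hb => Msp_mul 𝒜 x dx i j (Submodule.mul_mem_mul ha hb)
  have hs : ∀ y ∈ ((𝒜 0 : Set A) ∪ Set.range x),
      ∃ d, y ∈ 𝒜 d ∧ y ∈ (Msp 𝒜 x dx d).toAddSubgroup := by
    rintro y (hy | ⟨s, rfl⟩)
    · exact ⟨0, hy, Submodule.subset_span ⟨y, hy, 0, wt_zero dx, by rw [mon_zero, mul_one]⟩⟩
    · exact ⟨dx s, hx s, Submodule.subset_span ⟨1, SetLike.GradedOne.one_mem, Pi.single s 1,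
        by rw [wt_single, one_mul], by rw [mon_single, pow_one, one_mul]⟩⟩
  have h := GrSubAlg.proj_mem_of_closure 𝒜 (fun n => (Msp 𝒜 x dx n).toAddSubgroup) hone hmul
    ((𝒜 0 : Set A) ∪ Set.range x) hs (x := a) (by rw [hgen]; trivial) N
  rw [GradedRing.proj_apply, DirectSum.decompose_of_mem_same 𝒜 ha] at h
  exact h

include hdx hx hgen in
theorem key (N : ℕ) (hN : (Fintype.card κ + 1) * (∏ s, dx s) ≤ N) :
    tI (𝒜 N) ≤ tI (𝒜 (∏ s, dx s)) * tI (𝒜 (N - ∏ s, dx s)) := by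
  intro a ha
  have ha' := le_Msp 𝒜 x dx hx hgen N ha
  refine Submodule.span_le.mpr ?_ ha'
  rintro _ ⟨c, hc, α, hα, rfl⟩
  obtain ⟨q, hqdef⟩ : ∃ q : ℕ, q = ∏ s, dx s := ⟨_, rfl⟩
  rw [← hqdef] at hN ⊢
  have hq : 0 < q := by
    rw [hqdef]
    exact Finset.prod_pos (fun s _ => hdx s)
  obtain ⟨s, hs⟩ : ∃ s, q ≤ α s * dx s := by
    by_contra hcon
    push Not at hcon
    have h1 : wt dx α ≤ Fintype.card κ * q := by
      unfold wt
      calc ∑ s, α s * dx s ≤ ∑ _s : κ, q := Finset.sum_le_sum (fun s _ => (hcon s).le)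
        _ = Fintype.card κ * q := by
          rw [Finset.sum_const, Finset.card_univ, smul_eq_mul]
    rw [hα] at h1
    nlinarith
  obtain ⟨e, he⟩ : dx s ∣ q := by
    rw [hqdef]
    exact Finset.dvd_prod_of_mem dx (Finset.mem_univ s)
  have hes : e ≤ α s := by
    rw [he, mul_comm] at hs
    exact Nat.le_of_mul_le_mul_right hs (hdx s)
  have hα' : α = (α - Pi.single s e) + Pi.single s e := by
    funext t
    by_cases hts : t = s
    · rw [hts]
      show α s = α s - (Pi.single s e : κ → ℕ) s + (Pi.single s e : κ → ℕ) s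
      rw [Pi.single_eq_same, Nat.sub_add_cancel hes]
    · show α t = α t - (Pi.single s e : κ → ℕ) t + (Pi.single s e : κ → ℕ) t
      rw [Pi.single_eq_of_ne hts, Nat.sub_zero, Nat.add_zero]
  have hmon : mon x α = x s ^ e * mon x (α - Pi.single s e) := by
    conv_lhs => rw [hα']
    rw [mon_add, mon_single, mul_comm]
  have hwt : wt dx α = wt dx (α - Pi.single s e) + q := by
    conv_lhs => rw [hα']
    rw [wt_add, wt_single, he, mul_comm e]
  have h1 : x s ^ e ∈ 𝒜 q := by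
    have := SetLike.pow_mem_graded e (hx s)
    rwa [smul_eq_mul, mul_comm, ← he] at this
  have h2 : c * mon x (α - Pi.single s e) ∈ 𝒜 (N - q) := by
    have := SetLike.mul_mem_graded hc (mon_mem 𝒜 x dx hx (α - Pi.single s e))
    have e2 : 0 + wt dx (α - Pi.single s e) = N - q := by omega
    rwa [e2] at this
  have e3 : c * mon x α = x s ^ e * (c * mon x (α - Pi.single s e)) := by
    rw [hmon]
    ring
  rw [e3]
  exact Submodule.mul_mem_mul h1 h2

include hdx hx hgen in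
theorem iter (t N : ℕ) (hN : (Fintype.card κ + 1) * (∏ s, dx s) ≤ N) :
    tI (𝒜 (N + t * ∏ s, dx s)) ≤ tI (𝒜 (∏ s, dx s)) ^ t * tI (𝒜 N) := by
  induction t with
  | zero => rw [Nat.zero_mul, Nat.add_zero, pow_zero, one_mul]
  | succ t ih =>
    have h1 := key 𝒜 x dx hdx hx hgen (N + (t + 1) * ∏ s, dx s)
      (le_trans hN (Nat.le_add_right _ _))
    have e : N + (t + 1) * (∏ s, dx s) - ∏ s, dx s = N + t * ∏ s, dx s := by
      rw [add_mul, one_mul, ← add_assoc, Nat.add_sub_cancel]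
    rw [e] at h1
    calc tI (𝒜 (N + (t + 1) * ∏ s, dx s))
        ≤ tI (𝒜 (∏ s, dx s)) * tI (𝒜 (N + t * ∏ s, dx s)) := h1
      _ ≤ tI (𝒜 (∏ s, dx s)) * (tI (𝒜 (∏ s, dx s)) ^ t * tI (𝒜 N)) :=
        mul_le_mul' le_rfl ih
      _ = tI (𝒜 (∏ s, dx s)) ^ (t + 1) * tI (𝒜 N) := by rw [pow_succ', mul_assoc]

include hdx hx hgen in
theorem veronese_core (k : ℕ) (hk : 0 < k) :
    (∀ n, 0 < n → tI (𝒜 (n * (k * ((Fintype.card κ + 1) * ∏ s, dx s)))) =
        tI (𝒜 (k * ((Fintype.card κ + 1) * ∏ s, dx s))) ^ n) ∧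
      ∃ T : Finset A, (↑T : Set A) ⊆ (𝒜 (k * ((Fintype.card κ + 1) * ∏ s, dx s)) : Set A) ∧
        tI (𝒜 (k * ((Fintype.card κ + 1) * ∏ s, dx s))) =
          tI (𝒜 0) * Submodule.span ℤ (↑T : Set A) := by
  classical
  obtain ⟨q, hqdef⟩ : ∃ q : ℕ, q = ∏ s, dx s := ⟨_, rfl⟩
  obtain ⟨D, hDdef⟩ : ∃ D : ℕ, D = k * ((Fintype.card κ + 1) * ∏ s, dx s) := ⟨_, rfl⟩
  rw [← hDdef]
  have hDq : D = (k * (Fintype.card κ + 1)) * ∏ s, dx s := by rw [hDdef, mul_assoc]
  have hD1 : (Fintype.card κ + 1) * (∏ s, dx s) ≤ D := by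
    rw [hDdef]
    exact Nat.le_mul_of_pos_left _ hk
  constructor
  · have hle : ∀ n, 0 < n → tI (𝒜 (n * D)) ≤ tI (𝒜 D) ^ n := by
      intro n hn
      induction n, hn using Nat.le_induction with
      | base =>
        show tI (𝒜 (1 * D)) ≤ tI (𝒜 D) ^ 1
        rw [one_mul, pow_one]
      | succ n hn ih =>
        have h1 := iter 𝒜 x dx hdx hx hgen (k * (Fintype.card κ + 1)) (n * D)
          (le_trans hD1 (Nat.le_mul_of_pos_left _ hn))
        have e : (n + 1) * D = n * D + (k * (Fintype.card κ + 1)) * ∏ s, dx s := by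
          rw [add_mul, one_mul, ← hDq]
        rw [e]
        calc tI (𝒜 (n * D + (k * (Fintype.card κ + 1)) * ∏ s, dx s))
            ≤ tI (𝒜 (∏ s, dx s)) ^ (k * (Fintype.card κ + 1)) * tI (𝒜 (n * D)) := h1
          _ ≤ tI (𝒜 D) * tI (𝒜 D) ^ n := by
            refine mul_le_mul' ?_ ih
            rw [hDq]
            exact pow_le 𝒜 _ _
          _ = tI (𝒜 D) ^ (n + 1) := (pow_succ' _ _).symm
    exact fun n hn => le_antisymm (hle n hn) (pow_le 𝒜 D n)
  · let T : Finset A := ((Finset.univ : Finset (κ → Fin (D + 1))).filter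
      (fun β => wt dx (fun s => (β s : ℕ)) = D)).image (fun β => mon x (fun s => (β s : ℕ)))
    have hT : (↑T : Set A) ⊆ (𝒜 D : Set A) := by
      intro a ha
      obtain ⟨β, hβ, rfl⟩ := Finset.mem_image.mp (Finset.mem_coe.mp ha)
      have hβ' := (Finset.mem_filter.mp hβ).2
      have := mon_mem 𝒜 x dx hx (fun s => (β s : ℕ))
      rw [hβ'] at this
      exact this
    refine ⟨T, hT, le_antisymm ?_ ?_⟩
    · intro a ha
      have ha' := le_Msp 𝒜 x dx hx hgen D ha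
      refine Submodule.span_le.mpr ?_ ha'
      rintro _ ⟨c, hc, α, hα, rfl⟩
      have hαle : ∀ s, α s < D + 1 := by
        intro s
        have h1 : α s * dx s ≤ wt dx α :=
          Finset.single_le_sum (f := fun s => α s * dx s) (fun _ _ => Nat.zero_le _)
            (Finset.mem_univ s)
        have h2 : α s ≤ α s * dx s := Nat.le_mul_of_pos_right _ (hdx s)
        omega
      refine Submodule.mul_mem_mul hc (Submodule.subset_span ?_)
      refine Finset.mem_coe.mpr (Finset.mem_image.mpr ⟨fun s => ⟨α s, hαle s⟩, ?_, rfl⟩)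
      exact Finset.mem_filter.mpr ⟨Finset.mem_univ _, hα⟩
    · refine le_trans (mul_le_mul' le_rfl (Submodule.span_le.mpr
        (show (↑T : Set A) ⊆ ((tI (𝒜 D) : Submodule ℤ A) : Set A) from hT))) ?_
      have := mul_le 𝒜 0 D
      rwa [zero_add] at this

end gens

/-- homogeneous generators of positive degree of a graded algebra of finite type -/
theorem exists_gens {R : Type u} [CommRing R] (str : R →+* A) (h0 : ∀ r, str r ∈ 𝒜 0)
    (hft : str.FiniteType) :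
    ∃ (κ : Type u) (_ : Fintype κ) (_ : DecidableEq κ) (x : κ → A) (dx : κ → ℕ),
      (∀ s, 0 < dx s) ∧ (∀ s, x s ∈ 𝒜 (dx s)) ∧
      Subring.closure ((𝒜 0 : Set A) ∪ Set.range x) = ⊤ := by
  classical
  letI := str.toAlgebra
  obtain ⟨F, hF⟩ := (show Algebra.FiniteType R A from hft).out
  let G : Finset A := F.biUnion (fun f =>
    ((DirectSum.decompose 𝒜 f).support.filter (fun n => n ≠ 0)).image
      (fun n => (DirectSum.decompose 𝒜 f n : A)))
  have hG : ∀ g ∈ G, ∃ n, 0 < n ∧ g ∈ 𝒜 n := by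
    intro g hg
    obtain ⟨f, -, hg⟩ := Finset.mem_biUnion.mp hg
    obtain ⟨n, hn, rfl⟩ := Finset.mem_image.mp hg
    exact ⟨n, Nat.pos_of_ne_zero (Finset.mem_filter.mp hn).2, SetLike.coe_mem _⟩
  choose! dx hdx using hG
  refine ⟨{g // g ∈ G}, inferInstance, inferInstance, Subtype.val, fun g => dx g.1,
    fun g => (hdx g.1 g.2).1, fun g => (hdx g.1 g.2).2, ?_⟩
  rw [eq_top_iff]
  have h1 : Subring.closure (Set.range (algebraMap R A) ∪ (↑F : Set A)) = ⊤ := by
    rw [← Algebra.adjoin_eq_ring_closure, hF, Algebra.top_toSubring]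
  rw [← h1]
  apply Subring.closure_le.mpr
  rintro y (⟨r, rfl⟩ | hy)
  · exact Subring.subset_closure (Or.inl (h0 r))
  · rw [← DirectSum.sum_support_decompose 𝒜 y]
    refine Subring.sum_mem _ (fun n hn => ?_)
    by_cases h : n = 0
    · subst h
      exact Subring.subset_closure (Or.inl (SetLike.coe_mem _))
    · refine Subring.subset_closure (Or.inr ⟨⟨_, ?_⟩, rfl⟩)
      exact Finset.mem_biUnion.mpr ⟨y, Finset.mem_coe.mp hy,
        Finset.mem_image.mpr ⟨n, Finset.mem_filter.mpr ⟨hn, h⟩, rfl⟩⟩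

/-- **EGA II 2.1.6**: for a graded ring of finite type there is `d₀ > 0` such that for every
multiple `d` of `d₀` the Veronese subring `A^{(d)}` is generated by `A_d`, and `A_d` is finitely
generated over `A_0` -/
theorem veronese {R : Type u} [CommRing R] (str : R →+* A) (h0 : ∀ r, str r ∈ 𝒜 0)
    (hft : str.FiniteType) :
    ∃ d₀ : ℕ, 0 < d₀ ∧ ∀ k : ℕ, 0 < k →
      (∀ n, 0 < n → tI (𝒜 (n * (k * d₀))) = tI (𝒜 (k * d₀)) ^ n) ∧
      ∃ T : Finset A, (↑T : Set A) ⊆ (𝒜 (k * d₀) : Set A) ∧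
        tI (𝒜 (k * d₀)) = tI (𝒜 0) * Submodule.span ℤ (↑T : Set A) := by
  obtain ⟨κ, _, _, x, dx, hdx, hx, hgen⟩ := exists_gens 𝒜 str h0 hft
  exact ⟨(Fintype.card κ + 1) * ∏ s, dx s,
    Nat.mul_pos (Nat.succ_pos _) (Finset.prod_pos fun s _ => hdx s),
    fun k hk => veronese_core 𝒜 x dx hdx hx hgen k hk⟩

end Groth.Agent.Lib.Helper3.Veronese
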